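import Cfsg.Statements.S2998
import Cfsg.Agent.Lib.Local
import Cfsg.Agent.Lib.Fusion.Group
import Cfsg.Agent.Lib.SylowExtra
import Cfsg.Agent.Lib.Products

set_option autoImplicit false
set_option linter.unusedVariables false
open Cfsg
open scoped commutatorElement

namespace Cfsg.Agent.S2998

/-- Let G be a finite group, p a prime, P a Sylow p-subgroup of G and x ∈ P an element such that N_G(R) ≤ C_G(x) for every nontrivial subgroup R of P. Then P ≤ C_G(x); every G-conjugate of x lying in P equals x (so g ∈ C_G(x) whenever g x g⁻¹ ∈ P); and for every normal subgroup N of G, the image of x in G ⧸ N has the same property with respect to the image of P: the normalizer of every nontrivial subgroup of the image of P centralizes the image of x. -/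
theorem result {G : Type*} [Group G] [Finite G] {p : ℕ} [Fact p.Prime] (P : Sylow p G) (x : G) (hxP : x ∈ (P : Subgroup G)) (hlc : ∀ R : Subgroup G, R ≤ (P : Subgroup G) → R ≠ ⊥ → Subgroup.normalizer (R : Set G) ≤ Subgroup.centralizer ({x} : Set G)) : (P : Subgroup G) ≤ Subgroup.centralizer ({x} : Set G) ∧ (∀ g : G, g * x * g⁻¹ ∈ (P : Subgroup G) → g * x * g⁻¹ = x) ∧ ∀ (N : Subgroup G) [N.Normal], ∀ R : Subgroup (G ⧸ N), R ≤ (P : Subgroup G).map (QuotientGroup.mk' N) → R ≠ ⊥ → Subgroup.normalizer (R : Set (G ⧸ N)) ≤ Subgroup.centralizer ({(QuotientGroup.mk x : G ⧸ N)} : Set (G ⧸ N)) := by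
  rcases eq_or_ne x 1 with hx1 | hx1
  · subst hx1
    refine ⟨fun y _ r hr => by rw [Set.mem_singleton_iff.mp hr]; simp, fun g _ => by simp, fun N _ R _ _ y _ r hr => ?_⟩
    rw [Set.mem_singleton_iff.mp hr, QuotientGroup.mk_one, one_mul, mul_one]
  have hPC : (P : Subgroup G) ≤ Subgroup.centralizer ({x} : Set G) :=
    Subgroup.le_normalizer.trans (hlc P le_rfl fun h => hx1 (Subgroup.mem_bot.mp (h ▸ hxP)))
  refine ⟨hPC, fun g hg => ?_, fun N hNn R hR hR1 => ?_⟩
  · set y := g * x * g⁻¹ with hy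
    have hy1 : y ≠ 1 := fun h => hx1 (by rwa [hy, mul_inv_eq_one, mul_eq_left] at h)
    have hyC : Subgroup.centralizer ({y} : Set G) ≤ Subgroup.centralizer ({x} : Set G) := by
      refine le_trans ?_ (hlc (Subgroup.zpowers y) (Subgroup.zpowers_le.mpr hg) fun h => hy1 (Subgroup.zpowers_eq_bot.mp h))
      rw [← Subgroup.centralizer_closure, ← Subgroup.zpowers_eq_closure]
      exact Subgroup.centralizer_le_normalizer _
    have hmap : (Subgroup.centralizer ({x} : Set G)).map (MulAut.conj g).toMonoidHom = Subgroup.centralizer ({y} : Set G) := by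
      ext z
      rw [Subgroup.mem_map_equiv, Subgroup.mem_centralizer_singleton_iff, Subgroup.mem_centralizer_singleton_iff,
        MulAut.conj_symm_apply, hy]
      constructor
      · intro h
        calc z * (g * x * g⁻¹) = g * ((g⁻¹ * z * g) * x) * g⁻¹ := by group
          _ = g * x * g⁻¹ * z := by rw [h]; group
      · intro h
        calc g⁻¹ * z * g * x = g⁻¹ * (z * (g * x * g⁻¹)) * g := by group
          _ = x * (g⁻¹ * z * g) := by rw [h]; group
    have heq : Subgroup.centralizer ({y} : Set G) = Subgroup.centralizer ({x} : Set G) := by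
      refine Subgroup.eq_of_le_of_card_ge hyC ?_
      rw [← hmap, Subgroup.card_map_of_injective (MulEquiv.injective (MulAut.conj g))]
    have h1 : x ∈ Subgroup.centralizer ((P : Subgroup G) : Set G) := fun u hu =>
      Subgroup.mem_centralizer_singleton_iff.mp (hPC hu)
    have h2 : g⁻¹⁻¹ * x * g⁻¹ ∈ Subgroup.centralizer ((P : Subgroup G) : Set G) := by
      rw [inv_inv, ← hy]
      exact fun u hu => Subgroup.mem_centralizer_singleton_iff.mp (show u ∈ Subgroup.centralizer ({y} : Set G) from heq ▸ hPC hu)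
    obtain ⟨n, hn, e⟩ := P.conj_eq_normalizer_conj_of_mem_centralizer x g⁻¹ h1 h2
    rw [inv_inv] at e
    rw [hy, e, mul_assoc, ← Subgroup.mem_centralizer_singleton_iff.mp (hlc P le_rfl (fun h => hx1 (Subgroup.mem_bot.mp (h ▸ hxP))) hn), inv_mul_cancel_left]
  set f := QuotientGroup.mk' N with hf
  set K := R.comap f with hK
  set R₀ := (P : Subgroup G) ⊓ K with hR₀
  have hNK : N ≤ K := fun m hm => by
    show f m ∈ R
    rw [show f m = 1 from (QuotientGroup.eq_one_iff m).mpr hm]; exact R.one_mem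
  have hKeq : R₀ ⊔ N = K := by
    refine le_antisymm (sup_le inf_le_right hNK) fun k hk => ?_
    obtain ⟨u, hu, e⟩ := hR (show f k ∈ R from hk)
    have hun : u⁻¹ * k ∈ N := QuotientGroup.eq.mp e
    have huK : u ∈ K := by show f u ∈ R; rw [e]; exact hk
    rw [show k = u * (u⁻¹ * k) by group]
    exact Subgroup.mul_mem _ (Subgroup.mem_sup_left (Subgroup.mem_inf.mpr ⟨hu, huK⟩)) (Subgroup.mem_sup_right hun)
  have hR₀1 : R₀ ≠ ⊥ := by
    intro h
    rw [h, bot_sup_eq] at hKeq
    refine hR1 ((Subgroup.eq_bot_iff_forall _).mpr fun z hz => ?_)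
    obtain ⟨k, rfl⟩ := QuotientGroup.mk'_surjective N z
    exact (QuotientGroup.eq_one_iff k).mpr (hKeq ▸ (hz : k ∈ K))
  have hSyl : Cfsg.FusionSystem.IsSylowIn p R₀ K := by
    refine ⟨inf_le_right, P.2.to_le inf_le_left, ?_⟩
    have h1 := Subgroup.relIndex_mul_relIndex (R₀ ⊓ N) R₀ K inf_le_left inf_le_right
    have h2 := Subgroup.relIndex_mul_relIndex (R₀ ⊓ N) N K inf_le_right hNK
    rw [Subgroup.inf_relIndex_left] at h1
    rw [Subgroup.inf_relIndex_right] at h2
    have h3 : N.relIndex K = N.relIndex R₀ := by rw [← hKeq, Subgroup.relIndex_sup_right]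
    rw [h3, ← h1, mul_comm (R₀.relIndex N)] at h2
    rw [← Nat.eq_of_mul_eq_mul_left (Nat.pos_of_ne_zero Subgroup.index_ne_zero_of_finite) h2, hR₀,
      ← Subgroup.inf_relIndex_right, inf_assoc, inf_eq_right.mpr hNK, Subgroup.inf_relIndex_right]
    exact CfsgLib.not_dvd_relIndex_of_sylow P N
  intro z hz
  obtain ⟨m, rfl⟩ := QuotientGroup.mk'_surjective N z
  obtain ⟨b, hb, hbR⟩ := hSyl.exists_conj_le (X := R₀.map (MulAut.conj m).toMonoidHom) (hSyl.2.1.map _) (by
    rintro _ ⟨w, hw, rfl⟩
    show f (m * w * m⁻¹) ∈ R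
    rw [map_mul, map_mul, map_inv]
    exact (Subgroup.mem_normalizer_iff.mp hz _).mp (Subgroup.mem_inf.mp hw).2)
  have hbm : b * m ∈ Subgroup.normalizer (R₀ : Set G) := CfsgLib.Local.mem_normalizer_of_map_conj_eq (Subgroup.eq_of_le_of_card_ge (by
    rintro _ ⟨w, hw, rfl⟩
    have := hbR _ ⟨w, hw, rfl⟩
    simpa [mul_assoc] using this) (Subgroup.card_map_of_injective (MulEquiv.injective (MulAut.conj (b * m)))).ge)
  have hc := hlc R₀ inf_le_left hR₀1 hbm
  obtain ⟨u, hu, n, hn, e⟩ := Subgroup.mem_sup_of_normal_right.mp (hKeq.symm ▸ hb : b ∈ R₀ ⊔ N)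
  have hfm : f m = (f u)⁻¹ * f (b * m) := by
    rw [← e, map_mul, map_mul, show f n = 1 from (QuotientGroup.eq_one_iff n).mpr hn]; group
  rw [Subgroup.mem_centralizer_singleton_iff]
  show f m * f x = f x * f m
  rw [hfm]
  have c1 : Commute (f u) (f x) := by
    have := congrArg f (Subgroup.mem_centralizer_singleton_iff.mp (hPC (Subgroup.mem_inf.mp hu).1))
    rwa [map_mul, map_mul] at this
  have c2 : Commute (f (b * m)) (f x) := by
    have := congrArg f (Subgroup.mem_centralizer_singleton_iff.mp hc)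
    rwa [map_mul, map_mul] at this
  exact (c1.inv_left.mul_left c2)

end Cfsg.Agent.S2998
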