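import Cfsg.Statements.S3003
import Mathlib
import Cfsg.Agent.Lib.Large
import Cfsg.Agent.Lib.CoprimeGen

set_option autoImplicit false
set_option linter.unusedVariables false
open Cfsg
open scoped commutatorElement

namespace Cfsg.Agent.S3003

open CfsgLib in
theorem part1 {G : Type*} [Group G] [Finite G] {p : ℕ} [Fact p.Prime] {Q G₁ R U : Subgroup G} (hQp : IsPGroup p ↥Q)
    (hlarge : Cfsg.IsLarge Q) (hQG : Q ≤ G₁) (hR : (Nat.card ↥R).Coprime p) (hGR : G₁ ≤ Subgroup.normalizer (R : Set G))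
    {x : G} (hx : x ∈ U) (hx1 : x ≠ 1) {g : G} (hg : g ∈ G₁)
    (hz : g * x * g⁻¹ ∈ Q ⊓ Subgroup.centralizer (Q : Set G)) : R ⊓ Subgroup.centralizer (U : Set G) = ⊥ := by
  set z := g * x * g⁻¹
  have hz1 : z ≠ 1 := fun h => hx1 (by simpa [z] using h)
  have hCN : Subgroup.centralizer (Subgroup.zpowers z : Set G) ≤ Subgroup.normalizer (Q : Set G) :=
    (Large.centralizer_le_normalizer _).trans (hlarge.2 _ (Subgroup.zpowers_le.mpr hz.2) (Subgroup.zpowers_ne_bot.mpr hz1))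
  obtain ⟨n, hn⟩ := IsPGroup.iff_card.mp hQp
  have hdis : ∀ a ∈ Q, a ∈ R → a = 1 := fun a haQ haR => Subgroup.disjoint_def.mp
    (Subgroup.disjoint_of_coprime_natCard (K := Q) (hn ▸ hR.pow_right n)) haR haQ
  rw [eq_bot_iff]
  intro r hr
  have hr' : g * r * g⁻¹ ∈ R := Large.conj_mem hGR hg hr.1
  have hcN : g * r * g⁻¹ ∈ Subgroup.normalizer (Q : Set G) := hCN (Subgroup.mem_centralizer_iff.mpr fun w hw => by
    obtain ⟨i, rfl⟩ := Subgroup.mem_zpowers_iff.mp hw
    have hc : Commute z (g * r * g⁻¹) := by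
      show z * (g * r * g⁻¹) = g * r * g⁻¹ * z
      have h := congrArg (fun t => g * t * g⁻¹) (Subgroup.mem_centralizer_iff.mp hr.2 x hx)
      simpa [z, mul_assoc] using h
    exact (hc.zpow_left i).eq)
  have hc1 : g * r * g⁻¹ ∈ Q := by
    refine hlarge.1 (Subgroup.mem_centralizer_iff.mpr fun q hq => ?_)
    have h1 : g * r * g⁻¹ * q * (g * r * g⁻¹)⁻¹ * q⁻¹ = 1 := by
      refine hdis _ (Q.mul_mem ((Subgroup.mem_normalizer_iff.mp hcN q).mp hq) (Q.inv_mem hq)) ?_
      rw [show g * r * g⁻¹ * q * (g * r * g⁻¹)⁻¹ * q⁻¹ = g * r * g⁻¹ * (q * (g * r * g⁻¹)⁻¹ * q⁻¹) by group]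
      exact R.mul_mem hr' (Large.conj_mem hGR (hQG hq) (R.inv_mem hr'))
    rw [mul_inv_eq_one, mul_inv_eq_iff_eq_mul] at h1
    exact h1.symm
  refine Subgroup.mem_bot.mpr ?_
  simpa using hdis _ hc1 hr'

/-- Let G be a finite group, p a prime and Q a large p-subgroup of G: C_G(Q) ≤ Q and N_G(U) ≤ N_G(Q) for every nontrivial subgroup U of C_G(Q). Let Q ≤ G₁ ≤ G, let R be a subgroup of order prime to p normalized by G₁, and let U ≤ G₁ be a p-subgroup. If U contains a nontrivial element which is G₁-conjugate to an element of Z(Q), then C_R(U) = 1. In particular, if U is elementary abelian of order at least p² and every maximal subgroup of U contains a nontrivial element G₁-conjugate into Z(Q), then R = 1. -/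
theorem result {G : Type*} [Group G] [Finite G] {p : ℕ} [Fact p.Prime] (Q : Subgroup G) (hQp : IsPGroup p ↥Q) (hlarge : Cfsg.IsLarge Q) (G₁ : Subgroup G) (hQG : Q ≤ G₁) (R : Subgroup G) (hR : (Nat.card ↥R).Coprime p) (hGR : G₁ ≤ Subgroup.normalizer (R : Set G)) (U : Subgroup G) (hUG : U ≤ G₁) (hUp : IsPGroup p ↥U) : ((∃ x ∈ U, x ≠ 1 ∧ ∃ g ∈ G₁, g * x * g⁻¹ ∈ Q ⊓ Subgroup.centralizer (Q : Set G)) → R ⊓ Subgroup.centralizer (U : Set G) = ⊥) ∧ (Cfsg.IsElementaryAbelian p U → p ^ 2 ≤ Nat.card ↥U → (∀ U₀ : Subgroup G, U₀ ≤ U → IsCoatom (U₀.subgroupOf U) → ∃ x ∈ U₀, x ≠ 1 ∧ ∃ g ∈ G₁, g * x * g⁻¹ ∈ Q ⊓ Subgroup.centralizer (Q : Set G)) → R = ⊥) := by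
  open CfsgLib in
    refine ⟨fun ⟨x, hx, hx1, g, hg, hz⟩ => part1 hQp hlarge hQG hR hGR hx hx1 hg hz, fun hel hcard hall => ?_⟩
    classical
    by_contra hR1
    set s : Set (Subgroup G) := {U₀ | U₀ ≤ U ∧ R ⊓ Subgroup.centralizer (U₀ : Set G) ≠ ⊥}
    obtain ⟨U₀, ⟨hU₀, hne⟩, hmax⟩ := Set.exists_max_image s (fun K => Nat.card ↥K) s.toFinite ⟨⊥, bot_le, by
      intro h
      refine hR1 (le_bot_iff.mp (h ▸ le_inf le_rfl ?_))
      intro r _
      refine Subgroup.mem_centralizer_iff.mpr fun w hw => ?_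
      rw [Subgroup.mem_bot.mp hw, one_mul, mul_one]⟩
    have hbig : ∀ a ∈ U, a ∉ U₀ → R ⊓ Subgroup.centralizer ((U₀ ⊔ Subgroup.zpowers a : Subgroup G) : Set G) = ⊥ := by
      intro a ha han
      by_contra h
      have h2 := Subgroup.eq_of_le_of_card_ge (le_sup_left : U₀ ≤ U₀ ⊔ Subgroup.zpowers a)
        (hmax _ ⟨sup_le hU₀ (Subgroup.zpowers_le.mpr ha), h⟩)
      exact han (h2 ▸ Subgroup.mem_sup_right (Subgroup.mem_zpowers a))
    have hU1 : U ≠ ⊥ := fun h => by
      rw [h, Subgroup.card_bot] at hcard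
      exact absurd hcard (Nat.not_le.mpr (Nat.one_lt_pow two_ne_zero (Fact.out : p.Prime).one_lt))
    have hx : ∀ V : Subgroup G, V ≤ U → IsCoatom (V.subgroupOf U) → R ⊓ Subgroup.centralizer (V : Set G) = ⊥ := by
      intro V hV hco
      obtain ⟨x, hx, hx1, g, hg, hz⟩ := hall V hV hco
      exact part1 hQp hlarge hQG hR hGR hx hx1 hg hz
    by_cases hall2 : ∀ a ∈ U, a ∉ U₀ → U₀ ⊔ Subgroup.zpowers a = U
    · by_cases heq : U₀ = U
      · obtain ⟨Mx, hMx⟩ : ∃ Mx : Subgroup ↥U, IsCoatom Mx := by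
          haveI : Nontrivial ↥U := (Subgroup.nontrivial_iff_ne_bot U).mpr hU1
          rcases eq_top_or_exists_le_coatom (⊥ : Subgroup ↥U) with h | ⟨Mx, hMx, -⟩
          · exact absurd h bot_ne_top
          · exact ⟨Mx, hMx⟩
        have h := hx (Mx.map U.subtype) (Subgroup.map_subtype_le _) (by rwa [Subgroup.subgroupOf, Subgroup.comap_map_eq_self_of_injective U.subtype_injective])
        refine hne (le_bot_iff.mp (h ▸ inf_le_inf_left R (Subgroup.centralizer_le (SetLike.coe_subset_coe.mpr ?_))))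
        exact (Subgroup.map_subtype_le _).trans heq.ge
      · refine hne (hx U₀ hU₀ ⟨fun h => heq (le_antisymm hU₀ (Subgroup.subgroupOf_eq_top.mp h)), fun V hV => ?_⟩)
        obtain ⟨-, a, ha, han⟩ := SetLike.lt_iff_le_and_exists.mp hV
        refine eq_top_iff.mpr fun u _ => ?_
        have hu : (u : G) ∈ U₀ ⊔ Subgroup.zpowers (a : G) := (hall2 _ a.2 han).symm ▸ u.2
        have hle : U₀ ⊔ Subgroup.zpowers (a : G) ≤ V.map U.subtype := sup_le
          (fun w hw => ⟨⟨w, hU₀ hw⟩, hV.le hw, rfl⟩) (Subgroup.zpowers_le.mpr ⟨a, ha, rfl⟩)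
        obtain ⟨v, hv, e⟩ := hle hu
        rwa [← Subtype.ext (e : (v : G) = u)]
    · push Not at hall2
      obtain ⟨a, ha, han, hne2⟩ := hall2
      obtain ⟨b, hb, hbn⟩ := SetLike.exists_of_lt (lt_of_le_of_ne (sup_le hU₀ (Subgroup.zpowers_le.mpr ha)) hne2)
      have hp := (Fact.out : p.Prime)
      have key : ∀ (H : Subgroup G) (x : G) (i : ℤ), x ^ p = 1 → x ^ i ∈ H → x ∉ H → x ^ i = 1 := by
        intro H x i hxp hxi hxH
        by_cases hdvd : (p : ℤ) ∣ i
        · obtain ⟨k, rfl⟩ := hdvd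
          rw [zpow_mul, zpow_natCast, hxp, one_zpow]
        · refine absurd ?_ hxH
          obtain ⟨u, v, huv⟩ := (Nat.prime_iff_prime_int.mp hp).coprime_iff_not_dvd.mpr hdvd
          have e : x = x ^ (u * (p : ℤ) + v * i) := by rw [huv, zpow_one]
          rw [e, zpow_add, mul_comm u, zpow_mul, zpow_natCast, hxp, one_zpow, one_mul, mul_comm v, zpow_mul]
          exact H.zpow_mem hxi v
      set A := Subgroup.zpowers a ⊔ Subgroup.zpowers b with hA
      have hAU : A ≤ U := sup_le (Subgroup.zpowers_le.mpr ha) (Subgroup.zpowers_le.mpr hb)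
      have hcomm : ∀ u ∈ U, ∀ v ∈ U, u * v = v * u := fun u hu v hv =>
        congrArg Subtype.val (hel.1.is_comm.comm (⟨u, hu⟩ : ↥U) ⟨v, hv⟩)
      haveI : IsMulCommutative ↥A := ⟨⟨fun u v => Subtype.ext (hcomm _ (hAU u.2) _ (hAU v.2))⟩⟩
      have hza : ∀ w ∈ A, w ≠ 1 → w ∉ U₀ := by
        intro w hw hw1 hwU
        rw [hA, ← SetLike.mem_coe, Subgroup.coe_mul_of_left_le_normalizer_right _ _ (Large.le_normalizer_of fun x hx y hy => by
          rw [hcomm x (hAU (Subgroup.mem_sup_left hx)) y (hAU (Subgroup.mem_sup_right hy)), mul_inv_cancel_right]; exact hy)] at hw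
        obtain ⟨u, hu, v, hv, rfl⟩ := hw
        obtain ⟨i, rfl⟩ := Subgroup.mem_zpowers_iff.mp hu
        obtain ⟨j, rfl⟩ := Subgroup.mem_zpowers_iff.mp hv
        dsimp only at hw1 hwU
        have hbj : b ^ j = 1 := key _ b j (hel.2 b hb) (by
          have h := (U₀ ⊔ Subgroup.zpowers a).mul_mem ((U₀ ⊔ Subgroup.zpowers a).inv_mem
            (Subgroup.mem_sup_right (Subgroup.zpow_mem_zpowers a i))) (Subgroup.mem_sup_left hwU)
          rwa [inv_mul_cancel_left] at h) hbn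
        rw [hbj, mul_one] at hwU hw1
        exact hw1 (key _ a i (hel.2 a ha) hwU han)
      have hnc : ¬ IsCyclic ↥A := by
        intro hcyc
        obtain ⟨c, hc⟩ := IsCyclic.exists_generator (α := ↥A)
        have hle : Nat.card ↥A ≤ Nat.card ↥(Subgroup.zpowers a) := by
          have h1 : orderOf a = p := orderOf_eq_prime (hel.2 a ha) fun h => han (h ▸ U₀.one_mem)
          rw [← orderOf_eq_card_of_forall_mem_zpowers hc, Nat.card_zpowers, h1]
          exact Nat.le_of_dvd hp.pos (orderOf_dvd_of_pow_eq_one (Subtype.ext (hel.2 _ (hAU c.2))))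
        have h2 := Subgroup.eq_of_le_of_card_ge le_sup_left hle
        exact hbn (Subgroup.mem_sup_right (h2 ▸ Subgroup.mem_sup_right (Subgroup.mem_zpowers b)))
      have hAK : A ≤ Subgroup.normalizer ((R ⊓ Subgroup.centralizer (U₀ : Set G) : Subgroup G) : Set G) :=
        Large.le_normalizer_of fun w hw r hr => ⟨Large.conj_mem hGR (hUG (hAU hw)) hr.1,
          Subgroup.mem_centralizer_iff.mpr fun u hu => by
            have h1 := Subgroup.mem_centralizer_iff.mp hr.2 u hu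
            have h2 : Commute u w := hcomm u (hU₀ hu) w (hAU hw)
            exact ((h2.mul_right h1).mul_right h2.inv_right).eq⟩
      obtain ⟨n, hn⟩ := IsPGroup.iff_card.mp (hUp.to_le hAU)
      have hgen := coprime_generated_by_centralizers (K := R ⊓ Subgroup.centralizer (U₀ : Set G)) hnc hAK
        (hn ▸ ((Nat.Coprime.coprime_dvd_left (Subgroup.card_dvd_of_le inf_le_left) hR).symm.pow_left n))
      refine hne (le_bot_iff.mp (hgen.ge.trans (iSup₂_le fun w hw => ?_)))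
      refine le_trans ?_ (hbig w (hAU hw.1) (hza w hw.1 hw.2)).le
      rintro r ⟨⟨hr1, hr2⟩, hr3⟩
      refine ⟨hr1, Subgroup.mem_centralizer_iff.mpr fun u hu => ?_⟩
      have hle : U₀ ⊔ Subgroup.zpowers w ≤ Subgroup.centralizer ({r} : Set G) := sup_le
        (fun v hv => Subgroup.mem_centralizer_singleton_iff.mpr (Subgroup.mem_centralizer_iff.mp hr2 v hv))
        (Subgroup.zpowers_le.mpr (Subgroup.mem_centralizer_singleton_iff.mpr (Subgroup.mem_centralizer_singleton_iff.mp hr3).symm))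
      exact Subgroup.mem_centralizer_singleton_iff.mp (hle hu)

end Cfsg.Agent.S3003
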