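import Cfsg.Statements.S3004
import Cfsg.Agent.Lib.CentrallyLarge

set_option autoImplicit false
set_option linter.unusedVariables false
open scoped Pointwise
open Cfsg
open scoped commutatorElement

namespace Cfsg.Agent.S3004

open CfsgLib.CentrallyLarge in
theorem coe_sup {P : Type*} [Group P] [Finite P] {Q R : Subgroup P} (hQ : Large Q) (hR : Large R) :
    ∀ g : P, g ∈ Q ⊔ R ↔ ∃ q ∈ Q, ∃ r ∈ R, q * r = g := by
  intro g
  constructor
  · intro hg
    obtain ⟨k, hk, h, hh, e⟩ := hR.exists_mul hQ (sup_comm Q R ▸ hg)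
    exact ⟨k, hk, h, hh, e.symm⟩
  · rintro ⟨q, hq, r, hr, rfl⟩
    exact Subgroup.mul_mem _ (Subgroup.mem_sup_left hq) (Subgroup.mem_sup_right hr)

/-- Let P be a finite p-group and call a subgroup R of P measure-largest if |R|·|C_P(R)| is as large as possible among subgroups of P. If Q and R are measure-largest then QR = RQ is a subgroup, QR and Q ∩ R are measure-largest, C_P(Q) is measure-largest, Q = C_P(C_P(Q)), and C_P(Q ∩ R) = C_P(Q)·C_P(R). -/
theorem result {p : ℕ} [Fact p.Prime] (P : Type*) [Group P] [Finite P] (hP : IsPGroup p P) (Q R : Subgroup P) (hQ : Cfsg.IsCentralizerLarge Q) (hR : Cfsg.IsCentralizerLarge R) : ((Q ⊔ R : Subgroup P) : Set P) = (Q : Set P) * (R : Set P) ∧ Cfsg.IsCentralizerLarge (Q ⊔ R) ∧ Cfsg.IsCentralizerLarge (Q ⊓ R) ∧ Cfsg.IsCentralizerLarge (Subgroup.centralizer (Q : Set P)) ∧ Q = Subgroup.centralizer ((Subgroup.centralizer (Q : Set P) : Subgroup P) : Set P) ∧ ((Subgroup.centralizer (Q : Set P) ⊔ Subgroup.centralizer (R : Set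 P) : Subgroup P) : Set P) = (Subgroup.centralizer (Q : Set P) : Set P) * (Subgroup.centralizer (R : Set P) : Set P) ∧ Subgroup.centralizer ((Q ⊓ R : Subgroup P) : Set P) = Subgroup.centralizer (Q : Set P) ⊔ Subgroup.centralizer (R : Set P) := by
  have hQ' := CfsgLib.CentrallyLarge.isCentralizerLarge_iff.1 hQ
  have hR' := CfsgLib.CentrallyLarge.isCentralizerLarge_iff.1 hR
  refine ⟨?_, CfsgLib.CentrallyLarge.isCentralizerLarge_iff.2 (hQ'.sup hR'),
    CfsgLib.CentrallyLarge.isCentralizerLarge_iff.2 (hQ'.inf hR'),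
    CfsgLib.CentrallyLarge.isCentralizerLarge_iff.2 hQ'.centralizer,
    hQ'.centralizer_centralizer.symm, ?_, hQ'.centralizer_inf hR'⟩
  · ext g; rw [Set.mem_mul]; exact S3004.coe_sup hQ' hR' g
  · ext g; rw [Set.mem_mul]; exact S3004.coe_sup hQ'.centralizer hR'.centralizer g

end Cfsg.Agent.S3004
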