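import Cfsg.Statements.S3005
import Cfsg.Agent.S3004

set_option autoImplicit false
set_option linter.unusedVariables false
open scoped Pointwise
open Cfsg
open scoped commutatorElement

namespace Cfsg.Agent.S3005

/-- Let P be a finite p-group; call R ≤ P centrally large if |R|·|Z(R)| is as large as possible among subgroups of P, and measure-largest if |R|·|C_P(R)| is as large as possible. Then: a centrally large Q is measure-largest with C_P(Q) = Z(Q); a measure-largest Q is centrally large if and only if C_P(Q) ≤ Q; if Q and R are centrally large then QR = RQ is a centrally large subgroup; and the subgroups generated by all centrally large subgroups, respectively by all minimal centrally large subgroups, are themselves centrally large. -/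
theorem result {p : ℕ} [Fact p.Prime] (P : Type*) [Group P] [Finite P] (hP : IsPGroup p P) : (∀ Q : Subgroup P, Cfsg.IsCentrallyLarge Q → Cfsg.IsCentralizerLarge Q ∧ Subgroup.centralizer (Q : Set P) = Q ⊓ Subgroup.centralizer (Q : Set P)) ∧ (∀ Q : Subgroup P, Cfsg.IsCentralizerLarge Q → (Cfsg.IsCentrallyLarge Q ↔ Subgroup.centralizer (Q : Set P) ≤ Q)) ∧ (∀ Q R : Subgroup P, Cfsg.IsCentrallyLarge Q → Cfsg.IsCentrallyLarge R → ((Q ⊔ R : Subgroup P) : Set P) = (Q : Set P) * (R : Set P) ∧ Cfsg.IsCentrallyLarge (Q ⊔ R)) ∧ Cfsg.IsCentrallyLarge (Cfsg.centrallyLargeJoin P) ∧ Cfsg.IsCentrallyLarge (Cfsg.minimalCentrallyLargeJoin P) := by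
  have iffQ : ∀ Q : Subgroup P, Cfsg.IsCentrallyLarge Q ↔
      CfsgLib.CentrallyLarge.Large Q ∧ Subgroup.centralizer (Q : Set P) ≤ Q := fun Q =>
    CfsgLib.CentrallyLarge.isCentrallyLarge_iff
  have join : ∀ Q R : Subgroup P, Cfsg.IsCentrallyLarge Q → Cfsg.IsCentrallyLarge R →
      Cfsg.IsCentrallyLarge (Q ⊔ R) := fun Q R hQ hR => (iffQ _).2
    ⟨((iffQ _).1 hQ).1.sup ((iffQ _).1 hR).1,
      ((CfsgLib.CentrallyLarge.centralizer_le' le_sup_left).trans ((iffQ _).1 hQ).2).trans le_sup_left⟩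
  have sjoin : ∀ S : Set (Subgroup P), S.Nonempty → (∀ Q ∈ S, Cfsg.IsCentrallyLarge Q) →
      Cfsg.IsCentrallyLarge (sSup S) := by
    rintro S ⟨Q, hQ⟩ h
    exact (iffQ _).2 ⟨CfsgLib.CentrallyLarge.sSup_large ⟨Q, hQ⟩ fun R hR => ((iffQ _).1 (h R hR)).1,
      ((CfsgLib.CentrallyLarge.centralizer_le' (le_sSup hQ)).trans ((iffQ _).1 (h Q hQ)).2).trans (le_sSup hQ)⟩
  refine ⟨fun Q hQ => ⟨CfsgLib.CentrallyLarge.isCentralizerLarge_iff.2 ((iffQ _).1 hQ).1,
    (inf_eq_right.2 ((iffQ _).1 hQ).2).symm⟩, fun Q hQ => ⟨fun h => ((iffQ _).1 h).2,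
    fun h => (iffQ _).2 ⟨CfsgLib.CentrallyLarge.isCentralizerLarge_iff.1 hQ, h⟩⟩,
    fun Q R hQ hR => ⟨?_, join Q R hQ hR⟩, ?_, ?_⟩
  · ext g; rw [Set.mem_mul]
    exact S3004.coe_sup ((iffQ _).1 hQ).1 ((iffQ _).1 hR).1 g
  · obtain ⟨R, hR, hle⟩ := CfsgLib.CentrallyLarge.exists_large_centralizer_le (G := P)
    exact sjoin _ ⟨R, (iffQ _).2 ⟨hR, hle⟩⟩ fun Q hQ => hQ
  · obtain ⟨T, hT⟩ := CfsgLib.CentrallyLarge.exists_large (G := P)
    obtain ⟨R, hR, hle⟩ := CfsgLib.CentrallyLarge.exists_large_centralizer_le (G := P)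
    obtain ⟨Z, hZ, -⟩ := CfsgLib.CentrallyLarge.exists_maxLarge hR.centralizer (by rwa [hR.centralizer_centralizer])
    exact sjoin _ ⟨_, hZ.isMinimal⟩ fun Q hQ => hQ.1

end Cfsg.Agent.S3005
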