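import Cfsg.Statements.S3006
import Cfsg.Agent.Lib.CentrallyLarge

set_option autoImplicit false
set_option linter.unusedVariables false
open scoped Pointwise
open Cfsg
open scoped commutatorElement

namespace Cfsg.Agent.S3006

open CfsgLib.CentrallyLarge

/-- Let P be a finite p-group, Q a centrally large subgroup of P (|Q|·|Z(Q)| maximal among subgroups of P) and A an abelian subgroup of P of largest order. Then QA = AQ is a centrally large subgroup of P, C_{QA}(Q ∩ A) = Z(Q)·A, and the subgroup generated by all centrally large subgroups of P contains C_P(Z(J(P))), where J(P) is generated by the abelian subgroups of largest order. -/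
theorem result {p : ℕ} [Fact p.Prime] (P : Type*) [Group P] [Finite P] (hP : IsPGroup p P) (Q A : Subgroup P) (hQ : Cfsg.IsCentrallyLarge Q) (hA : A ∈ Cfsg.maxAbelianSubgroups P) : ((Q ⊔ A : Subgroup P) : Set P) = (Q : Set P) * (A : Set P) ∧ Cfsg.IsCentrallyLarge (Q ⊔ A) ∧ (Q ⊔ A) ⊓ Subgroup.centralizer ((Q ⊓ A : Subgroup P) : Set P) = (Q ⊓ Subgroup.centralizer (Q : Set P)) ⊔ A ∧ (((Q ⊓ Subgroup.centralizer (Q : Set P)) ⊔ A : Subgroup P) : Set P) = ((Q ⊓ Subgroup.centralizer (Q : Set P)) : Set P) * (A : Set P) ∧ Subgroup.centralizer ((Cfsg.thompsonSubgroupA P ⊓ Subgroup.centralizer (Cfsg.thompsonSubgroupA P : Set P) : Subgroup P) : Set P) ≤ Cfsg.centrallyLargeJoin P := by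
  obtain ⟨hQL, hQc⟩ := isCentrallyLarge_iff.1 hQ
  have hA' := maxAb_iff.1 hA
  obtain ⟨hL, hC, hcard, hB⟩ := cl_sup_maxAb hQL hQc hA'
  have hRc : Subgroup.centralizer ((Q ⊔ A : Subgroup P) : Set P) ≤ Q ⊔ A :=
    ((centralizer_le' le_sup_left).trans hQc).trans le_sup_left
  have hQA : ∀ g : P, g ∈ Q ⊔ A ↔ ∃ q ∈ Q, ∃ a ∈ A, q * a = g := by
    intro g
    constructor
    · intro hg
      obtain ⟨k, hk, h, hh, e⟩ := CfsgLib.Products.exists_mul_of_card_eq (H := A) (K := Q)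
        (by rw [sup_comm, inf_comm, mul_comm (Nat.card A)]; exact hcard) (sup_comm Q A ▸ hg)
      exact ⟨k, hk, h, hh, e.symm⟩
    · rintro ⟨q, hq, r, hr, rfl⟩
      exact Subgroup.mul_mem _ (Subgroup.mem_sup_left hq) (Subgroup.mem_sup_right hr)
  have hZ : Q ⊓ Subgroup.centralizer (Q : Set P) = Subgroup.centralizer (Q : Set P) := inf_eq_right.2 hQc
  have hsub : (Q ⊔ A) ⊓ Subgroup.centralizer ((Q ⊓ A : Subgroup P) : Set P) ≥
      Subgroup.centralizer (Q : Set P) ⊔ A := sup_le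
    (le_inf (hQc.trans le_sup_left) (centralizer_le' inf_le_left))
    (le_inf le_sup_right (le_centralizer_comm.1 (inf_le_right.trans hA'.1)))
  have key : ∀ g ∈ (Q ⊔ A) ⊓ Subgroup.centralizer ((Q ⊓ A : Subgroup P) : Set P),
      ∃ z ∈ Subgroup.centralizer (Q : Set P), ∃ a ∈ A, z * a = g := by
    rintro g ⟨hg, hgc⟩
    obtain ⟨q, hq, a, ha, rfl⟩ := (hQA g).1 hg
    have haQA : a ∈ Subgroup.centralizer ((Q ⊓ A : Subgroup P) : Set P) :=
      centralizer_le' inf_le_right (hA'.1 ha)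
    have hqB : q ∈ Subgroup.centralizer (Q : Set P) ⊔ (Q ⊓ A) := by
      rw [← hB.centralizer_eq, CfsgLib.Products.centralizer_sup, hQL.centralizer_centralizer]
      exact ⟨hq, by simpa using Subgroup.mul_mem _ hgc (Subgroup.inv_mem _ haQA)⟩
    obtain ⟨z, hz, b, hb, rfl⟩ := mem_sup_of_centralizes (centralizer_le' inf_le_left) hqB
    exact ⟨z, hz, b * a, A.mul_mem hb.2 ha, by group⟩
  refine ⟨?_, isCentrallyLarge_iff.2 ⟨hL, hRc⟩, ?_, ?_, ?_⟩
  · ext g; rw [Set.mem_mul]; exact hQA g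
  · rw [hZ]
    refine le_antisymm (fun g hg => ?_) hsub
    obtain ⟨z, hz, a, ha, rfl⟩ := key g hg
    exact Subgroup.mul_mem _ (Subgroup.mem_sup_left hz) (Subgroup.mem_sup_right ha)
  · rw [hZ]
    have e : (Q : Set P) ∩ (Subgroup.centralizer (Q : Set P) : Set P) = (Subgroup.centralizer (Q : Set P) : Set P) :=
      Set.inter_eq_right.2 hQc
    ext g
    constructor
    · intro hg
      obtain ⟨z, hz, a, ha, rfl⟩ := key g (hsub hg)
      exact ⟨z, ⟨hQc hz, hz⟩, a, ha, rfl⟩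
    · rintro ⟨z, hz, a, ha, rfl⟩
      exact Subgroup.mul_mem _ (Subgroup.mem_sup_left hz.2) (Subgroup.mem_sup_right ha)
  · obtain ⟨hTL, hTc⟩ : Large (Cfsg.centrallyLargeJoin P) ∧
        Subgroup.centralizer (Cfsg.centrallyLargeJoin P : Set P) ≤ Cfsg.centrallyLargeJoin P :=
      ⟨sSup_large ⟨Q, hQ⟩ fun R hR => (isCentrallyLarge_iff.1 hR).1,
        ((centralizer_le' (le_sSup (show Q ∈ {R | Cfsg.IsCentrallyLarge R} from hQ))).trans hQc).trans
          (le_sSup (show Q ∈ {R | Cfsg.IsCentrallyLarge R} from hQ))⟩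
    refine thompson_le_large hTL hTc (sSup_le fun B hB => ?_)
    obtain ⟨h1, -⟩ := cl_sup_maxAb hTL hTc (maxAb_iff.1 hB)
    refine le_sup_right.trans (le_sSup (show _ ∈ {R | Cfsg.IsCentrallyLarge R} from isCentrallyLarge_iff.2 ⟨h1, ?_⟩))
    exact ((centralizer_le' le_sup_left).trans hTc).trans le_sup_left

end Cfsg.Agent.S3006
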