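import Cfsg.Statements.S3008
import Cfsg.Agent.Lib.CentrallyLargeNormal
import Cfsg.Agent.S3007

set_option autoImplicit false
set_option linter.unusedVariables false
open Cfsg
open scoped commutatorElement

namespace Cfsg.Agent.S3008

open CfsgLib.CentrallyLarge

/-- Let P be a finite p-group, with J(P) generated by its abelian subgroups of largest order and J̃(P) = C_P(Z(J(P))); call R ≤ P centrally large if |R|·|Z(R)| is as large as possible, and let P_MCL be generated by the minimal centrally large subgroups. Then: for every centrally large Q, Q·J(P) ⊇ J̃(P); some minimal centrally large subgroup of P is normalized by both J(P) and P_MCL; if P = J(P) and d(P)² = |P|·|Z(P)|, where d(P) is the largest order of an abelian subgroup, then every minimal centrally large subgroup of P is abelian; and if every minimal centrally large subgroup is abelian then J̃(P) = J(P). -/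
theorem result {p : ℕ} [Fact p.Prime] (P : Type*) [Group P] [Finite P] (hP : IsPGroup p P) : (∀ Q : Subgroup P, Cfsg.IsCentrallyLarge Q → Subgroup.centralizer ((Cfsg.thompsonSubgroupA P ⊓ Subgroup.centralizer (Cfsg.thompsonSubgroupA P : Set P) : Subgroup P) : Set P) ≤ Q ⊔ Cfsg.thompsonSubgroupA P) ∧ (∃ Q : Subgroup P, Cfsg.IsMinimalCentrallyLarge Q ∧ Cfsg.thompsonSubgroupA P ≤ Subgroup.normalizer (Q : Set P) ∧ Cfsg.minimalCentrallyLargeJoin P ≤ Subgroup.normalizer (Q : Set P)) ∧ (Cfsg.thompsonSubgroupA P = ⊤ → (∀ A ∈ Cfsg.maxAbelianSubgroups P, Nat.card ↥A ^ 2 = Nat.card P * Nat.card ↥(Subgroup.center P)) → ∀ Q : Subgroup P, Cfsg.IsMinimalCentrallyLarge Q → IsMulCommutative ↥Q) ∧ ((∀ Q : Subgroup P, Cfsg.IsMinimalCentrallyLarge Q → IsMulCommutative ↥Q) → Subgroup.centralizer ((Cfsg.thompsonSubgroupA P ⊓ Subgroup.centralizer (Cfsg.thompsonSubgroupA P : Set P) : Subgroup P) : Set P) = Cfsg.thompsonSubgroupA P) := by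
  obtain ⟨R₀, hR₀, hR₀c⟩ := exists_large_centralizer_le (G := P)
  obtain ⟨Z₀, hZ₀, -⟩ := exists_maxLarge hR₀.centralizer (by rwa [hR₀.centralizer_centralizer])
  obtain ⟨A₀, hA₀⟩ := exists_maxAb (G := P)
  have hsup : ∀ Q : Subgroup P, Cfsg.IsCentrallyLarge Q → Large (Q ⊔ Cfsg.thompsonSubgroupA P) ∧
      Subgroup.centralizer ((Q ⊔ Cfsg.thompsonSubgroupA P : Subgroup P) : Set P) ≤
        Q ⊔ Cfsg.thompsonSubgroupA P := fun Q hQ =>
    cl_sup_sSup (isCentrallyLarge_iff.1 hQ).1 (isCentrallyLarge_iff.1 hQ).2 fun A hA => maxAb_iff.1 hA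
  refine ⟨fun Q hQ => thompson_le_large (hsup Q hQ).1 (hsup Q hQ).2 le_sup_right, ?_, ?_, ?_⟩
  · haveI := hP.isNilpotent
    obtain ⟨Z, hZ, hA, hQ⟩ := exists_normalized_maxLarge (G := P)
    refine ⟨_, hZ.isMinimal, ?_, ?_⟩
    · exact sSup_le fun A hA' => (hA A (Or.inr (maxAb_iff.1 hA'))).trans (normalizer_le_normalizer_centralizer Z)
    · refine sSup_le fun Q hQ' => ?_
      obtain ⟨hZ', hcc⟩ := isMinimalCentrallyLarge_iff.1 hQ'
      have := (hQ _ hZ').trans (normalizer_le_normalizer_centralizer Z)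
      rwa [hcc] at this
  · intro hJ hcard Q hQ
    obtain ⟨h1, -⟩ := hsup Q hQ.1
    rw [hJ, sup_top_eq] at h1
    have hA₀L : Large A₀ := by
      refine large_of_ge h1 (le_of_eq ?_)
      rw [CfsgLib.Products.cdMeasure, CfsgLib.Products.cdMeasure, hA₀.centralizer_eq, Subgroup.card_top,
        Subgroup.coe_top, Subgroup.centralizer_univ, ← pow_two, hcard A₀ (maxAb_iff.2 hA₀)]
    have hmin : Cfsg.IsMinimalCentrallyLarge A₀ := by
      refine isMinimalCentrallyLarge_iff.2 ⟨⟨hA₀L.centralizer, ?_, fun D _ hD hle => ?_⟩, hA₀L.centralizer_centralizer⟩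
      · rw [hA₀.centralizer_eq, hA₀.centralizer_eq]
      · rw [hA₀.centralizer_eq] at hle ⊢
        exact (Subgroup.eq_of_le_of_card_ge hle (hA₀.2 D hD)).symm
    exact ((S3007.abelian_iff hmin (le_centralizer_iff_isMulCommutative.2 hA₀.1) Q).1 hQ).1
  · intro hab
    have hiff := S3007.abelian_iff hZ₀.isMinimal (hab _ hZ₀.isMinimal)
    have hJ : Cfsg.thompsonSubgroupA P = sSup {X | Cfsg.IsMinimalCentrallyLarge X} := by
      rw [Cfsg.thompsonSubgroupA]
      congr 1
      ext X
      exact (hiff X).symm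
    have hJL : Large (Cfsg.thompsonSubgroupA P) := by
      rw [hJ]
      exact sSup_large ⟨_, hZ₀.isMinimal⟩ fun X hX => (isCentrallyLarge_iff.1 hX.1).1
    have hA₀J : A₀ ≤ Cfsg.thompsonSubgroupA P := le_sSup (maxAb_iff.2 hA₀)
    rw [inf_eq_right.2 ((centralizer_le' hA₀J).trans (hA₀.centralizer_eq.le.trans hA₀J)),
      hJL.centralizer_centralizer]

end Cfsg.Agent.S3008
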