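import Cfsg.Statements.S3009
import Cfsg.Agent.Lib.SL2Sylow
import Cfsg.Agent.Lib.AmalgamV

set_option autoImplicit false
set_option linter.unusedVariables false
open Cfsg
open scoped commutatorElement

namespace Cfsg.Agent.S3009

open CfsgLib CfsgLib.SL2Sylow
open scoped Classical commutatorElement

section

variable {F : Type} [Field F]

local notation "SL2" => Matrix.SpecialLinearGroup (Fin 2) F

/-- `u(a)`. -/
def uu (a : F) : SL2 := us (Multiplicative.ofAdd a)

/-- The Weyl element. -/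
def ww : SL2 := ⟨!![0, -1; 1, 0], by simp [Matrix.det_fin_two_of]⟩

/-- The torus. -/
noncomputable def hh (a : F) : SL2 :=
  if h : a = 0 then 1 else ⟨!![a, 0; 0, a⁻¹], by simp [Matrix.det_fin_two_of, h]⟩

theorem uu_val (a : F) : (uu a).1 = !![1, a; 0, 1] := rfl

theorem hh_val {a : F} (h : a ≠ 0) : (hh a).1 = !![a, 0; 0, a⁻¹] := by
  unfold hh; simp [h]

theorem hh_mul {a b : F} (ha : a ≠ 0) (hb : b ≠ 0) : hh a * hh b = hh (a * b) := by
  apply Subtype.ext
  show (hh a).1 * (hh b).1 = _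
  rw [hh_val ha, hh_val hb, hh_val (mul_ne_zero ha hb)]
  simp [Matrix.mul_fin_two, mul_comm]

theorem ww_hh {a : F} (ha : a ≠ 0) : ww * hh a = hh a⁻¹ * ww := by
  apply Subtype.ext
  show (ww : SL2).1 * (hh a).1 = (hh a⁻¹).1 * (ww : SL2).1
  rw [hh_val ha, hh_val (inv_ne_zero ha)]
  simp [ww, Matrix.mul_fin_two]

theorem uu_hh {a c : F} (ha : a ≠ 0) : uu c * hh a = hh a * uu (c * a⁻¹ * a⁻¹) := by
  apply Subtype.ext
  show (uu c).1 * (hh a).1 = (hh a).1 * (uu (c * a⁻¹ * a⁻¹)).1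
  rw [hh_val ha, uu_val, uu_val]
  simp [Matrix.mul_fin_two]
  field_simp

theorem ww_sq : (ww : SL2) * ww = hh (-1 : F) := by
  apply Subtype.ext
  show (ww : SL2).1 * (ww : SL2).1 = (hh (-1 : F)).1
  rw [hh_val (neg_ne_zero.mpr one_ne_zero)]
  simp [ww, Matrix.mul_fin_two]

theorem bruhat {a : F} (ha : a ≠ 0) :
    uu a * ww = ww * uu (-a⁻¹) * ww * hh (-a) * uu (-a⁻¹) := by
  apply Subtype.ext
  show (uu a).1 * (ww : SL2).1 = (ww : SL2).1 * (uu (-a⁻¹)).1 * (ww : SL2).1 * (hh (-a)).1 * (uu (-a⁻¹)).1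
  rw [hh_val (neg_ne_zero.mpr ha), uu_val, uu_val]
  simp [ww, Matrix.mul_fin_two]
  field_simp
  simp

theorem uu_add (a b : F) : uu (a + b) = uu a * uu b := by
  rw [uu, uu, uu, ← map_mul, ofAdd_add]

theorem uu_zero : uu (0 : F) = 1 := by rw [uu, ofAdd_zero, map_one]

theorem charP_of_card [Fintype F] {p n : ℕ} [Fact p.Prime] (hF : Fintype.card F = p ^ n) : CharP F p := by
  have hp := (Fact.out : p.Prime)
  haveI : Fact (ringChar F).Prime := ⟨CharP.char_is_prime F (ringChar F)⟩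
  obtain ⟨m, hm, he⟩ := FiniteField.card F (ringChar F)
  have hd : ringChar F ∣ p ^ n := by rw [← hF, he]; exact dvd_pow_self _ m.ne_zero
  have := (Nat.prime_dvd_prime_iff_eq hm hp).mp (hm.dvd_of_dvd_pow hd)
  exact this ▸ ringChar.charP F

theorem generated : Subgroup.closure ({ww} ∪ Set.range (uu : F → SL2)) = ⊤ := by
  rw [eq_top_iff, ← sup_US (F := F) (g := ww) (by simp [ww])]
  refine sup_le ?_ ?_
  · rintro _ ⟨t, rfl⟩
    exact Subgroup.subset_closure (Or.inr ⟨t.toAdd, rfl⟩)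
  · rintro _ ⟨_, ⟨t, rfl⟩, rfl⟩
    exact mul_mem (mul_mem (Subgroup.subset_closure (Or.inl rfl))
      (Subgroup.subset_closure (Or.inr ⟨t.toAdd, rfl⟩))) (inv_mem (Subgroup.subset_closure (Or.inl rfl)))

end

/-- Let p be a prime and let G and V be subgroups of a finite group with V elementary abelian and normalized by G, and G isomorphic to SL₂(F) for a finite field F with pⁿ elements. Suppose G acts irreducibly and nontrivially on V by conjugation (no G-invariant subgroups of V other than 1 and V, and [V, G] ≠ 1), and let S be a Sylow p-subgroup of G and V₀ = C_V(S). If [V, S, S] = 1 or |V| ≤ |V₀|², then G acts on V as SL₂(F) on its natural two-dimensional module; in particular |V| = |F|². -/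
theorem result {X : Type*} [Group X] [Finite X] {p : ℕ} [Fact p.Prime] (G V : Subgroup X) (hV : Cfsg.IsElementaryAbelian p V) (hGV : G ≤ Subgroup.normalizer (V : Set X)) (F : Type) [Field F] [Fintype F] (n : ℕ) (hF : Fintype.card F = p ^ n) (hG : Nonempty (↥G ≃* Matrix.SpecialLinearGroup (Fin 2) F)) (hirr : ∀ U : Subgroup X, U ≤ V → G ≤ Subgroup.normalizer (U : Set X) → U = ⊥ ∨ U = V) (hnt : ⁅V, G⁆ ≠ ⊥) (S : Sylow p ↥G) (hyp : ⁅⁅V, (S : Subgroup ↥G).map G.subtype⁆, (S : Subgroup ↥G).map G.subtype⁆ = ⊥ ∨ Nat.card ↥V ≤ Nat.card ↥(V ⊓ Subgroup.centralizer (((S : Subgroup ↥G).map G.subtype : Subgroup X) : Set X)) ^ 2) : Cfsg.ActsAsSL2OnSection F ⊤ G V ⊥ := by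
  obtain ⟨e⟩ := hG
  haveI : CharP F p := charP_of_card hF
  obtain ⟨g₀, hg₀⟩ := sylow_SL p (S.mapSurjective (f := e.toMonoidHom) (fun b => e.surjective b))
  let σ : Matrix.SpecialLinearGroup (Fin 2) F ≃* ↥G := (MulAut.conj g₀).trans e.symm
  set S₀ : Subgroup X := (S : Subgroup ↥G).map G.subtype with hS₀
  have hσU : ∀ x : ↥G, x ∈ (S : Subgroup ↥G) ↔ ∃ a, σ (uu a) = x := by
    intro x
    have h1 : x ∈ (S : Subgroup ↥G) ↔ e x ∈ (S : Subgroup ↥G).map e.toMonoidHom :=
      ⟨fun h => ⟨x, h, rfl⟩, fun ⟨y, hy, h⟩ => e.injective h ▸ hy⟩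
    rw [h1, show (S : Subgroup ↥G).map e.toMonoidHom = _ from hg₀]
    constructor
    · rintro ⟨_, ⟨t, rfl⟩, ht⟩
      refine ⟨t.toAdd, e.injective ?_⟩
      show e (e.symm (MulAut.conj g₀ (us t))) = e x
      rw [e.apply_symm_apply]
      exact ht
    · rintro ⟨a, rfl⟩
      exact ⟨uu a, ⟨_, rfl⟩, (e.apply_symm_apply _).symm⟩
  set A : Matrix.SpecialLinearGroup (Fin 2) F → X → X := fun m v => (σ m : X) * v * (σ m : X)⁻¹ with hA
  have Amul : ∀ m v v', A m (v * v') = A m v * A m v' := fun m v v' => by simp only [hA]; group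
  have Acomp : ∀ m m' v, A (m * m') v = A m (A m' v) := fun m m' v => by
    simp only [hA, map_mul, Subgroup.coe_mul]; group
  have Aone : ∀ v, A 1 v = v := fun v => by simp [hA]
  have Ainv : ∀ m v, A m v⁻¹ = (A m v)⁻¹ := fun m v => by simp only [hA]; group
  have A1 : ∀ m, A m 1 = 1 := fun m => by simp [hA]
  have AV : ∀ m, ∀ v ∈ V, A m v ∈ V := fun m v hv =>
    (Subgroup.mem_normalizer_iff.mp (hGV (σ m).2) v).mp hv
  clear_value A
  have Aeq : ∀ m v, A m v = v → (σ m : X) * v = v * σ m := fun m v h => by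
    calc (σ m : X) * v = A m v * σ m := by subst hA; group
      _ = v * σ m := by rw [h]
  have hcomm : ∀ a ∈ V, ∀ b ∈ V, a * b = b * a := fun a ha b hb => by
    haveI := hV.1
    exact congrArg Subtype.val (IsMulCommutative.is_comm.comm (⟨a, ha⟩ : ↥V) ⟨b, hb⟩)
  set V₀ : Subgroup X := V ⊓ Subgroup.centralizer (S₀ : Set X) with hV₀
  have hfix : ∀ v ∈ V, (v ∈ V₀ ↔ ∀ a, A (uu a) v = v) := by
    intro v hv
    constructor
    · intro h a
      have := Subgroup.mem_centralizer_iff.mp h.2 _ ⟨σ (uu a), (hσU _).mpr ⟨a, rfl⟩, rfl⟩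
      simp only [Subgroup.subtype_apply] at this
      simp only [hA]
      rw [this, mul_inv_cancel_right]
    · intro h
      refine ⟨hv, Subgroup.mem_centralizer_iff.mpr ?_⟩
      rintro _ ⟨x, hx, rfl⟩
      obtain ⟨a, rfl⟩ := (hσU x).mp hx
      exact Aeq _ v (h a)
  have hstab : ∀ v, ∀ (W : Set X), (∀ m ∈ ({ww} ∪ Set.range (uu : F → _) : Set _), A m v = v) →
      ∀ m, A m v = v := by
    intro v _ hgen m
    let H : Subgroup (Matrix.SpecialLinearGroup (Fin 2) F) :=
      { carrier := {m | A m v = v}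
        one_mem' := Aone v
        mul_mem' := fun {a b} ha hb => by
          show A (a * b) v = v
          rw [Acomp, hb]; exact ha
        inv_mem' := fun {a} ha => by
          show A a⁻¹ v = v
          conv_lhs => rw [← (ha : A a v = v), ← Acomp, inv_mul_cancel, Aone] }
    have : Subgroup.closure ({ww} ∪ Set.range (uu : F → _)) ≤ H := (Subgroup.closure_le _).mpr hgen
    rw [generated] at this
    exact this (Subgroup.mem_top m)
  have hinv : ∀ U : Subgroup X, U ≤ V → (∀ m, ∀ v ∈ U, A m v ∈ U) → U = ⊥ ∨ U = V := by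
    intro U hU h
    refine hirr U hU fun g hg => Subgroup.mem_normalizer_iff.mpr fun v => ⟨fun hv => ?_, fun hv => ?_⟩
    · have := h (σ.symm ⟨g, hg⟩) v hv
      simpa [hA] using this
    · have := h (σ.symm ⟨g, hg⟩⁻¹) _ hv
      simpa [hA, mul_assoc] using this
  have hinter : ∀ a ∈ V₀, ∀ b ∈ V₀, a = A ww b → a = 1 := by
    intro a ha b hb hab
    let U : Subgroup X :=
      { carrier := {v | v ∈ V ∧ ∀ m, A m v = v}
        one_mem' := ⟨one_mem _, A1⟩
        mul_mem' := fun {x y} hx hy => ⟨mul_mem hx.1 hy.1, fun m => by rw [Amul, hx.2, hy.2]⟩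
        inv_mem' := fun {x} hx => ⟨inv_mem hx.1, fun m => by rw [Ainv, hx.2]⟩ }
    have hbot : U = ⊥ := by
      rcases hinv U (fun v hv => hv.1) (fun m v hv => by rw [hv.2 m]; exact hv) with h | h
      · exact h
      · exfalso
        refine hnt (Subgroup.commutator_eq_bot_iff_le_centralizer.mpr fun v hv => ?_)
        refine Subgroup.mem_centralizer_iff.mpr fun g hg => ?_
        have hvU : v ∈ U := by rw [h]; exact hv
        have := Aeq _ v (hvU.2 (σ.symm ⟨g, hg⟩))
        rwa [σ.apply_symm_apply] at this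
    have hall : ∀ m, A m a = a := by
      let H : Subgroup (Matrix.SpecialLinearGroup (Fin 2) F) :=
        { carrier := {m | A m a = a}
          one_mem' := Aone a
          mul_mem' := fun {x y} hx hy => by
            show A (x * y) a = a
            rw [Acomp, hy]; exact hx
          inv_mem' := fun {x} hx => by
            show A x⁻¹ a = a
            conv_lhs => rw [← (hx : A x a = a), ← Acomp, inv_mul_cancel, Aone] }
      have hle : (⊤ : Subgroup (Matrix.SpecialLinearGroup (Fin 2) F)) ≤ H := by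
        rw [← sup_US (F := F) (g := ww) (by simp [ww])]
        refine sup_le ?_ ?_
        · rintro _ ⟨t, rfl⟩
          exact (hfix a ha.1).mp ha t.toAdd
        · rintro _ ⟨_, ⟨t, rfl⟩, rfl⟩
          show A (ww * us t * ww⁻¹) a = a
          have hb' : A (us t) b = b := (hfix b hb.1).mp hb t.toAdd
          rw [hab, ← Acomp, inv_mul_cancel_right, Acomp, hb']
      exact fun m => hle (Subgroup.mem_top m)
    exact Subgroup.mem_bot.mp (hbot ▸ (⟨ha.1, hall⟩ : a ∈ U))
  -- the decomposition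
  have hspan : ∀ v ∈ V, ∃ a ∈ V₀, ∃ b ∈ V₀, v = a * A ww b := by
    let D : Subgroup X :=
      { carrier := {v | ∃ a ∈ V₀, ∃ b ∈ V₀, v = a * A ww b}
        one_mem' := ⟨1, one_mem _, 1, one_mem _, by rw [A1, mul_one]⟩
        mul_mem' := by
          rintro x y ⟨a, ha, b, hb, rfl⟩ ⟨a', ha', b', hb', rfl⟩
          refine ⟨a * a', mul_mem ha ha', b * b', mul_mem hb hb', ?_⟩
          rw [Amul]
          calc a * A ww b * (a' * A ww b') = a * (A ww b * a') * A ww b' := by group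
            _ = a * (a' * A ww b) * A ww b' := by rw [hcomm _ (AV _ _ hb.1) _ ha'.1]
            _ = _ := by group
        inv_mem' := by
          rintro x ⟨a, ha, b, hb, rfl⟩
          refine ⟨a⁻¹, inv_mem ha, b⁻¹, inv_mem hb, ?_⟩
          rw [Ainv, mul_inv_rev, hcomm _ (inv_mem (AV _ _ hb.1)) _ (inv_mem ha.1)] }
    rcases hyp with hquad | hsize
    · have hU : ∀ c, ∀ v ∈ V, A (uu c) v * v⁻¹ ∈ V₀ := by
        intro c v hv
        have hcm : ⁅v, (σ (uu c) : X)⁆ ∈ ⁅V, S₀⁆ :=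
          Subgroup.commutator_mem_commutator hv ⟨σ (uu c), (hσU _).mpr ⟨c, rfl⟩, rfl⟩
        have h1 : ⁅V, S₀⁆ ≤ Subgroup.centralizer (S₀ : Set X) :=
          Subgroup.commutator_eq_bot_iff_le_centralizer.mp hquad
        have heq : A (uu c) v * v⁻¹ = ⁅v, (σ (uu c) : X)⁆⁻¹ := by
          rw [commutatorElement_def]; simp only [hA]; group
        refine Subgroup.mem_inf.mpr ⟨mul_mem (AV _ _ hv) (inv_mem hv), ?_⟩
        rw [heq]
        exact Subgroup.inv_mem _ (h1 hcm)
      let H : Subgroup (Matrix.SpecialLinearGroup (Fin 2) F) :=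
        { carrier := {m | ∀ v ∈ V, A m v * v⁻¹ ∈ D}
          one_mem' := fun v _ => by rw [Aone, mul_inv_cancel]; exact one_mem _
          mul_mem' := fun {x y} hx hy v hv => by
            have := mul_mem (hx _ (AV y v hv)) (hy v hv)
            rw [show A x (A y v) * (A y v)⁻¹ * (A y v * v⁻¹) = A (x * y) v * v⁻¹ by rw [Acomp]; group] at this
            exact this
          inv_mem' := fun {x} hx v hv => by
            have := inv_mem (hx _ (AV x⁻¹ v hv))
            rw [← Acomp, mul_inv_cancel, Aone, mul_inv_rev, inv_inv] at this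
            exact this }
      have hle : (⊤ : Subgroup (Matrix.SpecialLinearGroup (Fin 2) F)) ≤ H := by
        rw [← sup_US (F := F) (g := ww) (by simp [ww])]
        refine sup_le ?_ ?_
        · rintro _ ⟨t, rfl⟩ v hv
          exact ⟨_, hU t.toAdd v hv, 1, one_mem _, by rw [A1, mul_one]; rfl⟩
        · rintro _ ⟨_, ⟨t, rfl⟩, rfl⟩ v hv
          refine ⟨1, one_mem _, _, hU t.toAdd _ (AV ww⁻¹ v hv), ?_⟩
          show A (ww * us t * ww⁻¹) v * v⁻¹ = 1 * A ww (A (us t) (A ww⁻¹ v) * (A ww⁻¹ v)⁻¹)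
          rw [one_mul, Amul, Ainv, ← Acomp ww ww⁻¹, mul_inv_cancel, Aone, ← Acomp, ← Acomp, mul_assoc]
      have hcom : ⁅V, G⁆ ≤ D := Subgroup.commutator_le.mpr fun v hv g hg => by
        have := inv_mem (hle (Subgroup.mem_top (σ.symm ⟨g, hg⟩)) v hv)
        simp only [hA, σ.apply_symm_apply] at this
        rw [show ⁅v, g⁆ = (g * v * g⁻¹ * v⁻¹)⁻¹ by rw [commutatorElement_def]; group]
        exact this
      have hVG : ⁅V, G⁆ ≤ V := Subgroup.le_normalizer_iff_commutator_le_left.mp hGV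
      have hVeq : ⁅V, G⁆ = V := by
        refine (hirr _ hVG ?_).resolve_left hnt
        exact Subgroup.normalizer_commutator_ge_right V G
      exact fun v hv => hcom (hVeq.symm ▸ hv)
    · intro v hv
      let f : ↥V₀ × ↥V₀ → ↥V := fun q => ⟨q.1.1 * A ww q.2.1, mul_mem q.1.2.1 (AV _ _ q.2.2.1)⟩
      have hf : Function.Injective f := by
        rintro ⟨⟨a, ha⟩, ⟨b, hb⟩⟩ ⟨⟨a', ha'⟩, ⟨b', hb'⟩⟩ h
        have h' : a * A ww b = a' * A ww b' := congrArg Subtype.val h
        have h1 : a'⁻¹ * a = A ww (b' * b⁻¹) := by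
          rw [Amul, Ainv]
          calc a'⁻¹ * a = a'⁻¹ * (a * A ww b) * (A ww b)⁻¹ := by group
            _ = A ww b' * (A ww b)⁻¹ := by rw [h']; group
        have h2 := hinter _ (mul_mem (inv_mem ha') ha) _ (mul_mem hb' (inv_mem hb)) h1
        obtain rfl := inv_mul_eq_one.mp h2
        have h3 := mul_left_cancel h'
        simp only [hA, mul_left_inj, mul_right_inj] at h3
        subst h3
        rfl
      have hb : Function.Bijective f := (Nat.bijective_iff_injective_and_card f).mpr ⟨hf, le_antisymm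
        (Nat.card_le_card_of_injective f hf) (by rw [Nat.card_prod, ← pow_two]; exact hsize)⟩
      obtain ⟨q, hq⟩ := hb.2 ⟨v, hv⟩
      exact ⟨q.1.1, q.1.2, q.2.1, q.2.2, (congrArg Subtype.val hq).symm⟩
  have huniq : ∀ a ∈ V₀, ∀ b ∈ V₀, ∀ a' ∈ V₀, ∀ b' ∈ V₀, a * A ww b = a' * A ww b' → a = a' ∧ b = b' := by
    intro a ha b hb a' ha' b' hb' h'
    have h1 : a'⁻¹ * a = A ww (b' * b⁻¹) := by
      rw [Amul, Ainv]
      calc a'⁻¹ * a = a'⁻¹ * (a * A ww b) * (A ww b)⁻¹ := by group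
        _ = A ww b' * (A ww b)⁻¹ := by rw [h']; group
    obtain rfl := inv_mul_eq_one.mp (hinter _ (mul_mem (inv_mem ha') ha) _ (mul_mem hb' (inv_mem hb)) h1)
    have h3 := mul_left_cancel h'
    simp only [hA, mul_left_inj, mul_right_inj] at h3
    exact ⟨rfl, h3⟩
  -- a good vector
  have hV₀h : ∀ x, x ≠ 0 → ∀ v ∈ V₀, A (hh x) v ∈ V₀ := by
    intro x hx v hv
    rw [hfix _ (AV _ _ hv.1)]
    intro a
    rw [← Acomp, uu_hh hx, Acomp, (hfix v hv.1).mp hv]
  obtain ⟨v₀, hv₀, hv₀1, hgood⟩ : ∃ v ∈ V₀, v ≠ 1 ∧ ∀ c, A (uu c) (A ww v) * (A ww v)⁻¹ ∈ V₀ := by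
    set Q : Subgroup X := V ⊔ S₀ with hQ
    have hS₀V : S₀ ≤ Subgroup.normalizer (V : Set X) := (Subgroup.map_subtype_le _).trans hGV
    have hVp : IsPGroup p ↥V := fun x => ⟨1, Subtype.ext (by
      rw [pow_one, Subgroup.coe_pow]; exact hV.2 x x.2)⟩
    have hQp : IsPGroup p ↥Q := IsPGroup.to_sup_of_normal_left' hVp (S.2.map G.subtype) hS₀V
    have hQnV : Q ≤ Subgroup.normalizer (V : Set X) := sup_le Subgroup.le_normalizer hS₀V
    let Ws : Set (Subgroup X) := {W | W ≤ V ∧ Q ≤ Subgroup.normalizer (W : Set X) ∧ ¬ W ≤ V₀}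
    have hVne : ¬ V ≤ V₀ := by
      intro hle
      have h1 : ∀ v ∈ V, v = 1 := by
        intro v hv
        have hw : A ww⁻¹ v ∈ V₀ := hle (AV _ _ hv)
        exact hinter v (hle hv) _ hw (by rw [← Acomp, mul_inv_cancel, Aone])
      refine hnt ((Subgroup.commutator_eq_bot_iff_le_centralizer).mpr fun v hv => ?_)
      rw [h1 v hv]; exact one_mem _
    obtain ⟨W, hW⟩ := (Set.toFinite Ws).exists_minimal ⟨V, le_rfl, hQnV, hVne⟩
    obtain ⟨⟨hWV, hWn, hWne⟩, hWmin⟩ := hW
    have hcW : ⁅W, Q⁆ ≤ W := Subgroup.le_normalizer_iff_commutator_le_left.mp hWn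
    have hWc : ⁅W, Q⁆ ≤ V₀ := by
      by_contra hne
      have hle := hWmin (show ⁅W, Q⁆ ∈ Ws from ⟨hcW.trans hWV,
        Subgroup.normalizer_commutator_ge_right W Q, hne⟩) hcW
      have hb := CfsgLib.AmalgamV.eq_of_le_sup_commutator hQp (hWV.trans le_sup_left) bot_le
        (fun g _ => Subgroup.mem_normalizer_iff.mpr fun x => by simp) (hle.trans le_sup_right)
      exact hWne (hb.trans bot_le)
    obtain ⟨x, hx, hxV⟩ := SetLike.not_le_iff_exists.mp hWne
    obtain ⟨a, ha, b, hb, rfl⟩ := hspan x (hWV hx)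
    refine ⟨b, hb, fun h => hxV (by rw [h, A1, mul_one]; exact ha), fun c => ?_⟩
    have hcm : ⁅a * A ww b, (σ (uu c) : X)⁆ ∈ V₀ := hWc (Subgroup.commutator_mem_commutator hx
      (Subgroup.mem_sup_right ⟨σ (uu c), (hσU _).mpr ⟨c, rfl⟩, rfl⟩))
    have e1 : A (uu c) (a * A ww b) * (a * A ww b)⁻¹ = ⁅a * A ww b, (σ (uu c) : X)⁆⁻¹ := by
      rw [commutatorElement_def]; simp only [hA]; group
    have e2 : A (uu c) (A ww b) * (A ww b)⁻¹ = a⁻¹ * (A (uu c) (a * A ww b) * (a * A ww b)⁻¹) * a := by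
      rw [Amul, (hfix a ha.1).mp ha]; group
    rw [e2, e1]
    exact mul_mem (mul_mem (inv_mem ha) (inv_mem hcm)) ha
  set s : F → X := fun a => A (uu a) (A ww v₀) * (A ww v₀)⁻¹ with hs
  have sV : ∀ a, s a ∈ V₀ := hgood
  have sdef : ∀ a, A (uu a) (A ww v₀) = s a * A ww v₀ := fun a => by simp only [hs]; group
  clear_value s
  have sadd : ∀ a b, s (a + b) = s a * s b := by
    intro a b
    have : A (uu (a + b)) (A ww v₀) = s b * s a * A ww v₀ := by
      rw [uu_add, Acomp, sdef, Amul, sdef, (hfix _ (sV b).1).mp (sV b), mul_assoc]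
    have h2 := sdef (a + b)
    rw [this] at h2
    rw [← mul_right_cancel h2, hcomm _ (sV b).1 _ (sV a).1]
  have s0 : s 0 = 1 := by subst hs; beta_reduce; rw [uu_zero, Aone, mul_inv_cancel]
  have sh : ∀ a, a ≠ 0 → s a = A (hh a) v₀ := by
    intro a ha
    have hna := neg_ne_zero.mpr ha
    set v' := A (hh (-a)) v₀ with hv'
    have hv'V : v' ∈ V₀ := hV₀h _ hna v₀ hv₀
    have hv'g : A (uu (-a⁻¹)) (A ww v') = A (hh (-a)⁻¹) (s (-a⁻¹ * (-a) * (-a))) * A ww v' := by
      rw [hv', ← Acomp ww, ww_hh hna, Acomp, ← Acomp (uu _), uu_hh (inv_ne_zero hna), Acomp, inv_inv,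
        sdef, Amul]
    set q := A (hh (-a)⁻¹) (s (-a⁻¹ * (-a) * (-a))) with hq
    have hqV : q ∈ V₀ := hV₀h _ (inv_ne_zero hna) _ (sV _)
    have key : A (uu a) (A ww v₀) = A (hh a) v₀ * A ww q := by
      rw [← Acomp, bruhat ha, Acomp, (hfix v₀ hv₀.1).mp hv₀, Acomp, ← hv', Acomp, Acomp, hv'g, Amul,
        ← Acomp ww ww, ww_sq, hv', ← Acomp (hh (-1 : F)),
        hh_mul (neg_ne_zero.mpr one_ne_zero) hna, neg_one_mul, neg_neg]
      exact hcomm _ (AV _ _ hqV.1) _ (AV _ _ hv₀.1)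
    rw [sdef] at key
    exact (huniq _ (sV a) _ hv₀ _ (hV₀h _ ha _ hv₀) _ hqV key).1
  have sneg : ∀ y, A (hh (-1 : F)) (s y) = s (-y) := by
    intro y
    by_cases hy : y = 0
    · rw [hy, neg_zero, s0, A1]
    · rw [sh y hy, sh (-y) (neg_ne_zero.mpr hy), ← Acomp, hh_mul (neg_ne_zero.mpr one_ne_zero) hy,
        neg_one_mul]
  have hus : ∀ a y, A (uu a) (A ww (s y)) = s (a * y) * A ww (s y) := by
    intro a y
    by_cases hy : y = 0
    · rw [hy, mul_zero, s0, A1, A1, one_mul]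
    by_cases ha : a = 0
    · rw [ha, zero_mul, s0, uu_zero, Aone, one_mul]
    rw [sh y hy, ← Acomp ww, ww_hh hy, Acomp, ← Acomp, uu_hh (inv_ne_zero hy), Acomp, inv_inv,
      sdef, Amul, sh _ (mul_ne_zero (mul_ne_zero ha hy) hy), ← Acomp,
      hh_mul (inv_ne_zero hy) (mul_ne_zero (mul_ne_zero ha hy) hy),
      show y⁻¹ * (a * y * y) = a * y by field_simp, sh _ (mul_ne_zero ha hy)]
  set φ : (Fin 2 → F) → X := fun z => s (z 0) * A ww (s (z 1)) with hφ
  have φadd : ∀ z z', φ (z + z') = φ z * φ z' := by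
    intro z z'
    simp only [hφ, Pi.add_apply, sadd, Amul]
    calc s (z 0) * s (z' 0) * (A ww (s (z 1)) * A ww (s (z' 1)))
        = s (z 0) * (s (z' 0) * A ww (s (z 1))) * A ww (s (z' 1)) := by group
      _ = s (z 0) * (A ww (s (z 1)) * s (z' 0)) * A ww (s (z' 1)) := by
          rw [hcomm _ (sV _).1 _ (AV _ _ (sV _).1)]
      _ = _ := by group
  have φV : ∀ z, φ z ∈ V := fun z => mul_mem (sV _).1 (AV _ _ (sV _).1)
  have φinj : Function.Injective φ := by
    intro z z' h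
    obtain ⟨h0, h1⟩ := huniq _ (sV _) _ (sV _) _ (sV _) _ (sV _) h
    have sinj : ∀ x y, s x = s y → x = y := by
      intro x y hxy
      by_contra hne
      have h2 : s (x - y) = 1 := by
        have h3 := sadd (x - y) y
        rw [sub_add_cancel, hxy] at h3
        exact mul_eq_right.mp h3.symm
      rw [sh _ (sub_ne_zero.mpr hne)] at h2
      simp only [hA] at h2
      exact hv₀1 (conj_eq_one_iff.mp h2)
    funext i
    fin_cases i
    exacts [sinj _ _ h0, sinj _ _ h1]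
  have φeq : ∀ m z, φ (m.1.mulVec z) = A m (φ z) := by
    intro m
    let H : Subgroup (Matrix.SpecialLinearGroup (Fin 2) F) :=
      { carrier := {m | ∀ z, φ (m.1.mulVec z) = A m (φ z)}
        one_mem' := fun z => by simp [Aone]
        mul_mem' := fun {x y} hx hy z => by
          show φ ((x.1 * y.1).mulVec z) = _
          rw [← Matrix.mulVec_mulVec, hx, hy, Acomp]
        inv_mem' := fun {x} hx z => by
          have h := hx ((x⁻¹).1.mulVec z)
          rw [Matrix.mulVec_mulVec, show x.1 * (x⁻¹).1 = (x * x⁻¹).1 from rfl, mul_inv_cancel,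
            Matrix.SpecialLinearGroup.coe_one, Matrix.one_mulVec] at h
          show φ ((x⁻¹).1.mulVec z) = _
          rw [h, ← Acomp, inv_mul_cancel, Aone] }
    have hle : Subgroup.closure ({ww} ∪ Set.range (uu : F → _)) ≤ H := (Subgroup.closure_le _).mpr (by
      rintro _ (rfl | ⟨a, rfl⟩) z
      · show φ ((ww : Matrix.SpecialLinearGroup (Fin 2) F).1.mulVec z) = _
        simp only [hφ]
        rw [Amul, ← Acomp, ww_sq, sneg, hcomm _ (AV _ _ (sV _).1) _ (sV _).1]
        simp [ww, Matrix.mulVec, dotProduct, Fin.sum_univ_two]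
      · show φ ((uu a).1.mulVec z) = _
        simp only [hφ]
        rw [Amul, hus, (hfix _ (sV _).1).mp (sV _), ← mul_assoc, ← sadd]
        simp [uu_val, Matrix.mulVec, dotProduct, Fin.sum_univ_two])
    rw [generated] at hle
    exact hle (Subgroup.mem_top m)
  have φ0 : φ 0 = 1 := by simp only [hφ, Pi.zero_apply, s0, A1, mul_one]
  let Φ : Multiplicative (Fin 2 → F) →* ↥V :=
    { toFun := fun z => ⟨φ (Multiplicative.toAdd z), φV _⟩
      map_one' := Subtype.ext φ0
      map_mul' := fun z z' => Subtype.ext (φadd _ _) }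
  have hsurj : Function.Surjective Φ := by
    have hr : Φ.range.map V.subtype = V := by
      refine (hinv _ (Subgroup.map_subtype_le _) ?_).resolve_left ?_
      · rintro m _ ⟨_, ⟨z, rfl⟩, rfl⟩
        exact ⟨_, ⟨Multiplicative.ofAdd (m.1.mulVec (Multiplicative.toAdd z)), rfl⟩, φeq m _⟩
      · intro h
        have hm : φ ![1, 0] ∈ Φ.range.map V.subtype := ⟨_, ⟨Multiplicative.ofAdd ![1, 0], rfl⟩, rfl⟩
        rw [h, Subgroup.mem_bot, ← φ0] at hm
        simpa using congrFun (φinj hm) 0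
    intro v
    obtain ⟨_, ⟨z, rfl⟩, hz⟩ := hr.ge v.2
    exact ⟨z, Subtype.ext hz⟩
  let Ψ : Multiplicative (Fin 2 → F) ≃* ↥V := MulEquiv.ofBijective Φ
    ⟨fun z z' h => Multiplicative.toAdd.injective (φinj (congrArg Subtype.val h)), hsurj⟩
  refine ⟨hGV, bot_le, σ.symm.toMonoidHom, Ψ.symm.toMonoidHom, ?_, Ψ.symm.surjective, fun v => ?_, fun g v => ?_⟩
  · exact MonoidHom.range_eq_top.mpr σ.symm.surjective
  · rw [Subgroup.mem_bot]
    exact (MulEquiv.map_eq_one_iff Ψ.symm).trans ⟨fun h => congrArg Subtype.val h, fun h => Subtype.ext h⟩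
  · refine ⟨⟨_, (Subgroup.mem_normalizer_iff.mp (hGV g.2) v).mp v.2⟩, rfl, ?_⟩
    obtain ⟨z, rfl⟩ := Ψ.surjective v
    have key : (⟨_, (Subgroup.mem_normalizer_iff.mp (hGV g.2) (Ψ z)).mp (Ψ z).2⟩ : ↥V) =
        Ψ (Multiplicative.ofAdd ((σ.symm g).1.mulVec (Multiplicative.toAdd z))) := by
      refine Subtype.ext ?_
      show (g : X) * φ (Multiplicative.toAdd z) * (g : X)⁻¹ = φ _
      rw [toAdd_ofAdd]
      refine Eq.trans ?_ (φeq (σ.symm g) (Multiplicative.toAdd z)).symm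
      simp only [hA, σ.apply_symm_apply]
    rw [key]
    show Multiplicative.toAdd (Ψ.symm (Ψ _)) = (σ.symm g).1.mulVec (Multiplicative.toAdd (Ψ.symm (Ψ z)))
    rw [Ψ.symm_apply_apply, Ψ.symm_apply_apply]
    rfl

end Cfsg.Agent.S3009
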