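import Cfsg.Statements.S3011
import Cfsg.Agent.S0199

set_option autoImplicit false
open Cfsg

namespace Cfsg.Agent.S3011


variable {G : Type*} [Group G] [Finite G]

omit [Finite G] in
theorem commute_of_pow_two {x y : G} (hx : Odd (orderOf x)) (h : Commute (x ^ 2) y) : Commute x y := by
  obtain ⟨k, hk⟩ := hx
  have : x = (x ^ 2) ^ (k + 1) := by
    rw [← pow_mul, show 2 * (k + 1) = orderOf x + 1 by omega, pow_succ, pow_orderOf_eq_one, one_mul]
  rw [this]
  exact h.pow_left _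

omit [Finite G] in
theorem eq_one_of_inv {x : G} (hx : Odd (orderOf x)) (h : x = x⁻¹) : x = 1 := by
  have h2 : x ^ 2 = 1 := by rw [pow_two]; nth_rw 2 [h]; exact mul_inv_cancel x
  have := commute_of_pow_two hx (y := x) (by rw [h2]; exact Commute.one_left x)
  rw [← orderOf_eq_one_iff]
  rcases (Nat.dvd_prime Nat.prime_two).1 (orderOf_dvd_of_pow_eq_one h2) with h | h
  · exact h
  · rw [h] at hx; exact absurd hx (by decide)

omit [Finite G] in
theorem no_two (V : Subgroup G) (hS : Cfsg.IsSidkiPair V) {a b : G} (ha : a ∈ V) (hb : b ∈ V)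
    (hab : a * b = b * a) (ha2 : a * a = 1) (hb2 : b * b = 1)
    (hel : ∀ w ∈ V, w ≠ 1 → w = a ∨ w = b ∨ w = a * b) {h x : G}
    (hh : Odd (orderOf h)) (hh1 : h ≠ 1) (hx : Odd (orderOf x)) (hx1 : x ≠ 1)
    (hbh : b * h = h * b) (hah : a * h * a⁻¹ = h⁻¹) (hax : a * x = x * a)
    (hbx : b * x * b⁻¹ = x⁻¹) : False := by
  have ai : a⁻¹ = a := inv_eq_of_mul_eq_one_right ha2
  have bi : b⁻¹ = b := inv_eq_of_mul_eq_one_right hb2
  have cbh : b * h * b⁻¹ = h := by rw [hbh, mul_inv_cancel_right]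
  have cax : a * x * a⁻¹ = x := by rw [hax, mul_inv_cancel_right]
  -- the two elements commute
  have hxh : Commute x h := by
    set h' := x⁻¹ * h * x with hh'
    have hord : Odd (orderOf h') := by
      have : orderOf h' = orderOf h := by
        rw [hh']; simpa using orderOf_injective (MulAut.conj x⁻¹).toMonoidHom (MulAut.conj x⁻¹).injective h
      rwa [this]
    have hinv : a * h' * a⁻¹ = h'⁻¹ := by
      calc a * h' * a⁻¹ = (a * x * a⁻¹)⁻¹ * (a * h * a⁻¹) * (a * x * a⁻¹) := by rw [hh']; group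
        _ = h'⁻¹ := by rw [cax, hah, hh']; group
    have hne : h' ≠ 1 := fun e => hh1 (by
      have : h = x * h' * x⁻¹ := by rw [hh']; group
      rw [this, e]; group)
    obtain ⟨w, hw, hw1, hwc⟩ := hS h' a ha hord hinv
    have hwc' : w * h' * w⁻¹ = h' := by rw [hwc, mul_inv_cancel_right]
    have eb : b * h' * b⁻¹ = x * h * x⁻¹ := by
      calc b * h' * b⁻¹ = (b * x * b⁻¹)⁻¹ * (b * h * b⁻¹) * (b * x * b⁻¹) := by rw [hh']; group
        _ = _ := by rw [hbx, cbh]; group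
    rcases hel w hw hw1 with rfl | rfl | rfl
    · exact absurd (eq_one_of_inv hord (hwc'.symm.trans hinv)) hne
    · rw [eb, hh'] at hwc'
      refine commute_of_pow_two hx ?_
      calc x ^ 2 * h = x * (x * h * x⁻¹) * x := by rw [pow_two]; group
        _ = x * (x⁻¹ * h * x) * x := by rw [hwc']
        _ = h * x ^ 2 := by rw [pow_two]; group
    · have e2 : a * b * h' * (a * b)⁻¹ = x * h⁻¹ * x⁻¹ := by
        calc a * b * h' * (a * b)⁻¹ = a * (b * h' * b⁻¹) * a⁻¹ := by group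
          _ = (a * x * a⁻¹) * (a * h * a⁻¹) * (a * x * a⁻¹)⁻¹ := by rw [eb]; group
          _ = _ := by rw [cax, hah]
      rw [e2, hh'] at hwc'
      exfalso
      have h2 : x ^ 2 * h⁻¹ = h * x ^ 2 := by
        calc x ^ 2 * h⁻¹ = x * (x * h⁻¹ * x⁻¹) * x := by rw [pow_two]; group
          _ = x * (x⁻¹ * h * x) * x := by rw [hwc']
          _ = h * x ^ 2 := by rw [pow_two]; group
      have h3 : x ^ 2 * h = h⁻¹ * x ^ 2 := by
        calc x ^ 2 * h = (x ^ 2 * h⁻¹ * (x ^ 2)⁻¹)⁻¹ * x ^ 2 := by group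
          _ = h⁻¹ * x ^ 2 := by rw [h2]; group
      have h4 : Commute ((x ^ 2) ^ 2) h := by
        show (x ^ 2) ^ 2 * h = h * (x ^ 2) ^ 2
        calc (x ^ 2) ^ 2 * h = x ^ 2 * (x ^ 2 * h) := by group
          _ = x ^ 2 * h⁻¹ * x ^ 2 := by rw [h3]; group
          _ = h * (x ^ 2) ^ 2 := by rw [h2]; group
      have hx2 : Odd (orderOf (x ^ 2)) := by
        have h2' : Nat.Coprime (orderOf x) 2 := Nat.coprime_two_right.2 hx
        rw [h2'.orderOf_pow]; exact hx
      have h5 : Commute (x ^ 2) h := commute_of_pow_two hx2 h4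
      exact hh1 (eq_one_of_inv hh (mul_left_cancel (h5.eq.trans h2.symm |>.trans rfl)))
  -- the product is inverted by `a * b` and fixed by nothing
  have hord : Odd (orderOf (h * x)) :=
    (hh.mul hx).of_dvd_nat hxh.symm.orderOf_mul_dvd_mul_orderOf
  have hinv : a * b * (h * x) * (a * b)⁻¹ = (h * x)⁻¹ := by
    calc a * b * (h * x) * (a * b)⁻¹
        = (a * (b * h * b⁻¹) * a⁻¹) * (a * (b * x * b⁻¹) * a⁻¹) := by group
      _ = h⁻¹ * (a * x * a⁻¹)⁻¹ := by rw [cbh, hbx, hah]; group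
      _ = (h * x)⁻¹ := by rw [cax, ← mul_inv_rev, hxh.eq]
  obtain ⟨w, hw, hw1, hwc⟩ := hS (h * x) (a * b) (mul_mem ha hb) hord hinv
  have hwc' : w * (h * x) * w⁻¹ = h * x := by rw [hwc, mul_inv_cancel_right]
  rcases hel w hw hw1 with rfl | rfl | rfl
  · refine hh1 (eq_one_of_inv hh ?_)
    have : h⁻¹ * x = h * x := by
      calc h⁻¹ * x = (w * h * w⁻¹) * (w * x * w⁻¹) := by rw [hah, cax]
        _ = h * x := by rw [← hwc']; group
    exact (mul_right_cancel this).symm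
  · refine hx1 (eq_one_of_inv hx ?_)
    have : h * x⁻¹ = h * x := by
      calc h * x⁻¹ = (w * h * w⁻¹) * (w * x * w⁻¹) := by rw [hbx, cbh]
        _ = h * x := by rw [← hwc']; group
    exact (mul_left_cancel this).symm
  · have e := eq_one_of_inv hord (hwc'.symm.trans hinv)
    have hhx : h = x⁻¹ := eq_inv_of_mul_eq_one_left e
    refine hx1 (eq_one_of_inv hx ?_)
    have : b * x⁻¹ * b⁻¹ = x⁻¹ := hhx ▸ cbh
    rw [← conj_inv, hbx, inv_inv] at this
    exact this

theorem exists_inverted {v : G} (hv : v * v = 1) (hvO : v ∉ Cfsg.pCore 2 G) :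
    ∃ h : G, h ≠ 1 ∧ Odd (orderOf h) ∧ v * h * v⁻¹ = h⁻¹ := by
  by_contra hno
  have hp : IsPGroup 2 (Subgroup.zpowers v) :=
    IsPGroup.of_card_dvd_pow (by rw [Nat.card_zpowers]; exact (orderOf_dvd_of_pow_eq_one (show v ^ 2 ^ 1 = 1 by rw [pow_one, pow_two, hv]) : orderOf v ∣ 2 ^ 1))
  apply hvO
  obtain ⟨N, hN, hN2, hle⟩ := Cfsg.Agent.S0199.result (p := 2) (Subgroup.zpowers v) hp fun g => by
    rw [MonoidHom.map_zpowers]
    set t := (MulAut.conj g).toMonoidHom v with ht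
    have ht2 : t * t = 1 := by rw [ht, ← map_mul, hv, map_one]
    set d := v * t with hd
    have hdi : v * d * v⁻¹ = d⁻¹ := by
      rw [hd, mul_inv_rev, inv_eq_of_mul_eq_one_right ht2, ← mul_assoc, hv, one_mul]
    obtain ⟨i, m, hm, hdm⟩ := Nat.exists_eq_pow_mul_and_not_dvd (orderOf_pos d).ne' 2 (by norm_num)
    have hm1 : m = 1 := by
      by_contra hm1
      refine hno ⟨d ^ 2 ^ i, ?_, ?_, ?_⟩
      · intro h1
        have hdvd := orderOf_dvd_of_pow_eq_one h1
        rw [hdm] at hdvd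
        exact hm1 (Nat.eq_one_of_dvd_one (Nat.dvd_of_mul_dvd_mul_left (Nat.two_pow_pos i) (by rw [mul_one]; exact hdvd)))
      · rw [orderOf_pow_of_dvd (by positivity) ⟨m, hdm⟩, hdm, Nat.mul_div_cancel_left _ (by positivity),
          Nat.odd_iff]
        omega
      · rw [← conj_pow, hdi, inv_pow]
    have hd2 : IsPGroup 2 (Subgroup.zpowers d) :=
      IsPGroup.of_card_dvd_pow (n := i) (by rw [Nat.card_zpowers, hdm, hm1, mul_one])
    have hnorm : Subgroup.zpowers v ≤ Subgroup.normalizer ((Subgroup.zpowers d : Subgroup G) : Set G) := by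
      rw [Subgroup.zpowers_le, Subgroup.mem_normalizer_iff]
      intro y
      have key : ∀ z ∈ Subgroup.zpowers d, v * z * v⁻¹ ∈ Subgroup.zpowers d := by
        rintro z ⟨k, rfl⟩
        show v * d ^ k * v⁻¹ ∈ _
        rw [← conj_zpow, hdi]
        exact zpow_mem (inv_mem (Subgroup.mem_zpowers d)) k
      refine ⟨key y, fun hy => ?_⟩
      have := key _ hy
      rwa [inv_eq_of_mul_eq_one_right hv, show v * (v * y * v) * v = (v * v) * y * (v * v) by group, hv,
        one_mul, mul_one] at this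
    refine (IsPGroup.to_sup_of_normal_right' hp hd2 hnorm).to_le (sup_le le_sup_left ?_)
    rw [Subgroup.zpowers_le, show t = v⁻¹ * d by rw [hd]; group]
    exact mul_mem (inv_mem (Subgroup.mem_sup_left (Subgroup.mem_zpowers v)))
      (Subgroup.mem_sup_right (Subgroup.mem_zpowers d))
  exact le_sSup (show N ∈ {K : Subgroup G | K.Normal ∧ IsPGroup 2 K} from ⟨hN, hN2⟩)
    (hle (Subgroup.mem_zpowers v))

theorem main (V : Subgroup G) (hV : Cfsg.IsElementaryAbelian 2 V) (hV1 : V ≠ ⊥)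
    (hS : Cfsg.IsSidkiPair V) (h4 : Nat.card V ≤ 4) : V ⊓ Cfsg.pCore 2 G ≠ ⊥ := by
  intro hO
  obtain ⟨hc, he⟩ := hV
  have hcomm : ∀ x ∈ V, ∀ y ∈ V, x * y = y * x := fun x hx y hy =>
    Subgroup.mul_comm_of_mem_isMulCommutative V hx hy
  have hsq : ∀ x ∈ V, x * x = 1 := fun x hx => by rw [← pow_two]; exact he x hx
  have hex : ∀ v ∈ V, v ≠ 1 → ∃ h w : G, h ≠ 1 ∧ Odd (orderOf h) ∧ v * h * v⁻¹ = h⁻¹ ∧
      w ∈ V ∧ w ≠ 1 ∧ w ≠ v ∧ w * h = h * w := by
    intro v hv hv1
    obtain ⟨h, hh1, hhodd, hinv⟩ := exists_inverted (hsq v hv)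
      (fun hm => hv1 ((Subgroup.mem_bot).1 (hO ▸ Subgroup.mem_inf.2 ⟨hv, hm⟩)))
    obtain ⟨w, hw, hw1, hwc⟩ := hS h v hv hhodd hinv
    refine ⟨h, w, hh1, hhodd, hinv, hw, hw1, fun e => hh1 (eq_one_of_inv hhodd ?_), hwc⟩
    subst e
    rw [← hinv, hwc, mul_inv_cancel_right]
  obtain ⟨⟨a, ha⟩, ha'⟩ := Subgroup.ne_bot_iff_exists_ne_one.1 hV1
  have ha1 : a ≠ 1 := fun e => ha' (Subtype.ext e)
  obtain ⟨h, b, hh1, hhodd, hhi, hb, hb1, hba, hbh⟩ := hex a ha ha1
  have hab1 : a * b ≠ 1 := fun e => hba (by rw [← one_mul b, ← hsq a ha, mul_assoc, e, mul_one])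
  have hel : ∀ w ∈ V, w ≠ 1 → w = a ∨ w = b ∨ w = a * b := by
    intro w hw hw1
    by_contra hne
    push Not at hne
    obtain ⟨n1, n2, n3⟩ := hne
    let f : Fin 5 → V := ![1, ⟨a, ha⟩, ⟨b, hb⟩, ⟨a * b, mul_mem ha hb⟩, ⟨w, hw⟩]
    have hinj : Function.Injective f := by
      intro i j hij
      have := congrArg Subtype.val hij
      fin_cases i <;> fin_cases j <;>
        simp [f, ha1, ha1.symm, hb1, hb1.symm, hba, hba.symm, hab1, hab1.symm, hw1, hw1.symm, n1,
          n1.symm, n2, n2.symm, n3, n3.symm] at this ⊢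
    have := Nat.card_le_card_of_injective f hinj
    simp only [Nat.card_eq_fintype_card, Fintype.card_fin] at this
    omega
  have hab := hcomm a ha b hb
  have hel' : ∀ {x y : G}, (x = a ∧ y = a * b) ∨ (x = a * b ∧ y = b) →
      ∀ w ∈ V, w ≠ 1 → w = x ∨ w = y ∨ w = x * y := by
    intro x y hxy w hw hw1
    have h1 : a * (a * b) = b := by rw [← mul_assoc, hsq a ha, one_mul]
    have h2 : a * b * b = a := by rw [mul_assoc, hsq b hb, mul_one]
    rcases hxy with ⟨rfl, rfl⟩ | ⟨rfl, rfl⟩ <;> rcases hel w hw hw1 with rfl | rfl | rfl <;> simp [h1, h2]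
  obtain ⟨k, w, hk1, hkodd, hki, hw, hw1, hwb, hwk⟩ := hex b hb hb1
  rcases hel w hw hw1 with rfl | rfl | rfl
  · exact no_two V hS ha hb hab (hsq _ ha) (hsq b hb) hel hhodd hh1 hkodd hk1 hbh hhi hwk hki
  · exact hwb rfl
  · obtain ⟨l, u, hl1, hlodd, hli, hu, hu1, hune, hul⟩ := hex (a * b) (mul_mem ha hb) hab1
    rcases hel u hu hu1 with rfl | rfl | rfl
    · -- `l` is fixed by `a`, inverted by `b`
      have hbl : b * l * b⁻¹ = l⁻¹ := by
        calc b * l * b⁻¹ = b * (u * l * u⁻¹) * b⁻¹ := by rw [hul, mul_inv_cancel_right]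
          _ = (u * b) * l * (u * b)⁻¹ := by rw [hab]; group
          _ = l⁻¹ := hli
      exact no_two V hS ha hb hab (hsq _ ha) (hsq b hb) hel hhodd hh1 hlodd hl1 hbh hhi hul hbl
    · -- `l` is fixed by `b`; `k` by `a * b`
      have hc2 : a * u * u = u * (a * u) := hcomm _ (mul_mem ha hb) _ hb
      exact no_two V hS (mul_mem ha hb) hb hc2 (hsq _ (mul_mem ha hb)) (hsq _ hb)
        (hel' (Or.inr ⟨rfl, rfl⟩)) hlodd hl1 hkodd hk1 hul hli hwk hki
    · exact hune rfl

/-- Let G be a finite group and V a nontrivial elementary abelian 2-subgroup of G of order at most 4 such that, whenever an element of V inverts an element h of G of odd order, some nontrivial element of V commutes with h. Then V meets O₂(G) nontrivially. (The case of order at most 4 has a short argument from the Baer–Suzuki theorem.) -/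
theorem result {G : Type*} [Group G] [Finite G] (V : Subgroup G) (hV : Cfsg.IsElementaryAbelian 2 V) (hV1 : V ≠ ⊥) (hS : Cfsg.IsSidkiPair V) (h4 : Nat.card V ≤ 4) : V ⊓ Cfsg.pCore 2 G ≠ ⊥ := by
  exact main V hV hV1 hS h4

end Cfsg.Agent.S3011
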