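import Cfsg.Statements.S3012
import Mathlib

set_option autoImplicit false
set_option linter.unusedVariables false
open Cfsg
open scoped commutatorElement

namespace Cfsg.Agent.S3012

/-- Let G be a finite group, V a nontrivial elementary abelian 2-subgroup of G satisfying the Sidki pair condition (every odd-order element inverted by an element of V commutes with a nontrivial element of V), and K a normal subgroup of G with V ∩ K = 1. Then the image of V in G/K satisfies the Sidki pair condition in G/K. -/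
theorem result {G : Type*} [Group G] [Finite G] (V K : Subgroup G) [K.Normal] (hV : Cfsg.IsElementaryAbelian 2 V) (hV1 : V ≠ ⊥) (hS : Cfsg.IsSidkiPair V) (hVK : V ⊓ K = ⊥) : Cfsg.IsSidkiPair (V.map (QuotientGroup.mk' K)) := by
  rintro hq vq ⟨v, hv, rfl⟩ hodd hinv
  obtain ⟨m, hm⟩ := hodd
  obtain ⟨x, hx⟩ := QuotientGroup.mk'_surjective K (hq ^ (m + 1))
  set π := QuotientGroup.mk' K
  have hpow : hq ^ (2 * m + 1) = 1 := hm ▸ pow_orderOf_eq_one hq
  have hsq : π x * π x = hq := by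
    rw [hx, ← pow_add, show m + 1 + (m + 1) = 2 * m + 1 + 1 by ring, pow_succ, hpow, one_mul]
  have hvv : v * v = 1 := by
    rw [← pow_two]; exact hV.2 v hv
  have hvinv : v⁻¹ = v := inv_eq_of_mul_eq_one_right hvv
  have hvx : π v * π x * (π v)⁻¹ = (π x)⁻¹ := by
    rw [hx, ← conj_pow, hinv, inv_pow]
  set a := x * (v * x⁻¹ * v⁻¹) with ha
  have hπa : π a = hq := by
    rw [ha, map_mul, map_mul, map_mul, map_inv, map_inv]
    rw [show π v * (π x)⁻¹ * (π v)⁻¹ = (π v * π x * (π v)⁻¹)⁻¹ by group, hvx, inv_inv, hsq]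
  have hva : v * a * v⁻¹ = a⁻¹ := by
    calc v * a * v⁻¹ = v * x * (v * x⁻¹ * (v⁻¹ * v⁻¹)) := by rw [ha]; group
      _ = v * x * (v * x⁻¹) := by rw [hvinv, hvv, mul_one]
      _ = v * x * v⁻¹ * x⁻¹ := by rw [hvinv]; group
      _ = a⁻¹ := by rw [ha]; group
  obtain ⟨e, r, hr, hn⟩ := Nat.exists_eq_two_pow_mul_odd (orderOf_pos a).ne'
  have hdvd : orderOf hq ∣ r := by
    have h1 : orderOf hq ∣ 2 ^ e * r := hn ▸ hπa ▸ orderOf_map_dvd π a
    exact ((Nat.coprime_two_right.mpr (hm ▸ odd_two_mul_add_one m)).pow_right e).dvd_of_dvd_mul_left h1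
  obtain ⟨t, ht⟩ : ∃ t, 2 ^ e * t ≡ 1 [MOD r] := by
    obtain ⟨j, hj⟩ := hr
    refine ⟨(j + 1) ^ e, ?_⟩
    rw [← mul_pow]
    have h1 : 2 * (j + 1) ≡ 1 [MOD r] := by
      show 2 * (j + 1) % r = 1 % r
      rw [show 2 * (j + 1) = r + 1 by omega, Nat.add_mod_left]
    simpa using h1.pow e
  set b := a ^ (2 ^ e * t)
  have hb : Odd (orderOf b) := by
    refine hr.of_dvd_nat (orderOf_dvd_of_pow_eq_one ?_)
    rw [← pow_mul, show 2 ^ e * t * r = orderOf a * t by rw [hn]; ring, pow_mul, pow_orderOf_eq_one, one_pow]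
  have hπb : π b = hq := by
    rw [map_pow, hπa]
    conv_rhs => rw [← pow_one hq]
    exact pow_eq_pow_iff_modEq.mpr (ht.of_dvd hdvd)
  obtain ⟨w, hw, hw1, hwb⟩ := hS b v hv hb (by rw [← conj_pow, hva, inv_pow])
  refine ⟨π w, ⟨w, hw, rfl⟩, fun h => hw1 ?_, by rw [← hπb, ← map_mul, ← map_mul, hwb]⟩
  exact Subgroup.mem_bot.mp (hVK ▸ Subgroup.mem_inf.mpr ⟨hw, (QuotientGroup.eq_one_iff w).mp h⟩)

end Cfsg.Agent.S3012
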