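import Cfsg.Statements.S3013
import Mathlib

set_option autoImplicit false
set_option linter.unusedVariables false
open Cfsg
open scoped commutatorElement

namespace Cfsg.Agent.S3013

/-- Let G be a finite group and V a nontrivial elementary abelian 2-subgroup of G satisfying the Sidki pair condition. Let v ∈ V and let x be an element of odd order inverted by v, and put C = C_G(v) ∩ C_G(x), the centralizer of the dihedral subgroup generated by v and x. Then C ∩ V is nontrivial and satisfies the Sidki pair condition inside C: every odd-order element of C inverted by an element of C ∩ V commutes with a nontrivial element of C ∩ V. -/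
theorem result {G : Type*} [Group G] [Finite G] (V : Subgroup G) (hV : Cfsg.IsElementaryAbelian 2 V) (hV1 : V ≠ ⊥) (hS : Cfsg.IsSidkiPair V) (v x : G) (hv : v ∈ V) (hx : Odd (orderOf x)) (hinv : v * x * v⁻¹ = x⁻¹) (C : Subgroup G) (hC : C = Subgroup.centralizer ({v} : Set G) ⊓ Subgroup.centralizer ({x} : Set G)) : C ⊓ V ≠ ⊥ ∧ Cfsg.IsSidkiPair ((C ⊓ V).subgroupOf C) := by
  subst hC
  have hVc : ∀ a ∈ V, ∀ b ∈ V, a * b = b * a := fun a ha b hb => congrArg Subtype.val (hV.1.is_comm.comm (⟨a, ha⟩ : ↥V) ⟨b, hb⟩)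
  constructor
  · obtain ⟨w, hw, hw1, hwx⟩ := hS x v hv hx hinv
    exact fun h => hw1 (Subgroup.mem_bot.mp (h ▸ Subgroup.mem_inf.mpr ⟨Subgroup.mem_inf.mpr
      ⟨Subgroup.mem_centralizer_singleton_iff.mpr (hVc w hw v hv), Subgroup.mem_centralizer_singleton_iff.mpr hwx⟩, hw⟩))
  rintro ⟨h, hh⟩ ⟨u, hu⟩ huV hodd hinv'
  replace huV : u ∈ V := huV.2
  rw [Subgroup.orderOf_mk] at hodd
  replace hinv' : u * h * u⁻¹ = h⁻¹ := congrArg Subtype.val hinv'
  have hhv : h * v = v * h := Subgroup.mem_centralizer_singleton_iff.mp hh.1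
  have hhx : Commute h x := Subgroup.mem_centralizer_singleton_iff.mp hh.2
  have hux : u * x = x * u := Subgroup.mem_centralizer_singleton_iff.mp hu.2
  have hord : Odd (orderOf (h * x)) :=
    (hodd.mul hx).of_dvd_nat ((hhx.orderOf_mul_dvd_lcm).trans (Nat.lcm_dvd_mul _ _))
  have hvh : v * h * v⁻¹ = h := by rw [← hhv, mul_inv_cancel_right]
  have hux' : u * x * u⁻¹ = x := by rw [hux, mul_inv_cancel_right]
  obtain ⟨w, hw, hw1, hwc⟩ := hS (h * x) (u * v) (V.mul_mem huV hv) hord (by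
    calc u * v * (h * x) * (u * v)⁻¹ = u * ((v * h * v⁻¹) * (v * x * v⁻¹)) * u⁻¹ := by group
      _ = (u * h * u⁻¹) * (u * x * u⁻¹)⁻¹ := by rw [hvh, hinv]; group
      _ = h⁻¹ * x⁻¹ := by rw [hinv', hux']
      _ = (h * x)⁻¹ := by rw [hhx.eq, mul_inv_rev])
  have hwv : Commute w v := hVc w hw v hv
  have hc2 : Commute w (h * x⁻¹) := by
    have h1 : v * (h * x) * v⁻¹ = h * x⁻¹ := by
      rw [show v * (h * x) * v⁻¹ = (v * h * v⁻¹) * (v * x * v⁻¹) by group, hvh, hinv]
    rw [← h1]
    exact (hwv.mul_right hwc).mul_right hwv.inv_right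
  have hcxx : Commute w (x * x) := by
    have h2 : x * x = (h * x⁻¹)⁻¹ * (h * x) := by group
    rw [h2]
    exact hc2.inv_right.mul_right hwc
  have hcx : Commute w x := by
    obtain ⟨m, hm⟩ := hx
    have h3 : x = (x * x) ^ (m + 1) := by
      have h4 : x ^ (2 * m + 1) = 1 := hm ▸ pow_orderOf_eq_one x
      rw [← pow_two, ← pow_mul, show 2 * (m + 1) = 2 * m + 1 + 1 by ring, pow_succ, h4, one_mul]
    rw [h3]; exact hcxx.pow_right _
  have hch : Commute w h := by
    have h5 : h = h * x * x⁻¹ := by rw [mul_inv_cancel_right]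
    rw [h5]; exact (show Commute w (h * x) from hwc).mul_right hcx.inv_right
  exact ⟨⟨w, Subgroup.mem_inf.mpr ⟨Subgroup.mem_centralizer_singleton_iff.mpr hwv.eq, Subgroup.mem_centralizer_singleton_iff.mpr hcx.eq⟩⟩,
    ⟨⟨Subgroup.mem_centralizer_singleton_iff.mpr hwv.eq, Subgroup.mem_centralizer_singleton_iff.mpr hcx.eq⟩, hw⟩,
    fun e => hw1 (congrArg Subtype.val e), Subtype.ext hch.eq⟩

end Cfsg.Agent.S3013
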