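import Cfsg.Statements.S3014
import Cfsg.Agent.Lib.PairGeneration

set_option autoImplicit false
set_option linter.unusedVariables false
open Cfsg
open scoped commutatorElement

namespace Cfsg.Agent.S3014

/-- Let G be a finite group and H ≤ M ≤ G subgroups such that for every g ∈ G the subgroup generated by H and g H g⁻¹ meets M exactly in H. If H is a maximal subgroup of M and M is a maximal subgroup of G, then the normal closure of H in G meets M exactly in H. -/
theorem result {G : Type*} [Group G] [Finite G] (H M : Subgroup G) (hHM : H ≤ M) (hcl : ∀ g : G, (H ⊔ H.map (MulAut.conj g).toMonoidHom) ⊓ M = H) (hmaxH : IsCoatom (H.subgroupOf M)) (hmaxM : IsCoatom M) : Subgroup.normalClosure (H : Set G) ⊓ M = H := by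
    haveI : (H.subgroupOf M).Normal := by
      refine ⟨fun x hx m => ?_⟩
      have h1 : H.map (MulAut.conj (m : G)).toMonoidHom ≤ M := by
        rintro _ ⟨y, hy, rfl⟩
        exact M.mul_mem (M.mul_mem m.2 (hHM hy)) (M.inv_mem m.2)
      have h2 := hcl (m : G)
      rw [inf_eq_left.2 (sup_le hHM h1)] at h2
      exact h2.le (Subgroup.mem_sup_right ⟨(x : G), hx, rfl⟩)
    exact CfsgLib.PairGen.normalClosure_inf_eq hHM hcl hmaxH hmaxM

end Cfsg.Agent.S3014
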