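import Cfsg.Statements.S3019
-- import your own Cfsg.Agent.* helpers here
import Cfsg.Agent.Lib.PairsSylow.Main

set_option autoImplicit false
open Cfsg

namespace Cfsg.Agent.S3019

/-- Let G be a finite group, p a prime and P a Sylow p-subgroup of G. Then G is p-solvable if and only if, for every g ∈ G, the subgroup generated by P and g P g⁻¹ is p-solvable. -/
theorem result {G : Type*} [Group G] [Finite G] {p : ℕ} [Fact p.Prime] (P : Sylow p G) : Cfsg.IsPSolvable p G ↔ ∀ g : G, Cfsg.IsPSolvable p ↥((P : Subgroup G) ⊔ (P : Subgroup G).map (MulAut.conj g).toMonoidHom) := by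
  constructor
  · intro h g
    letI : Fintype G := Fintype.ofFinite G
    exact CfsgLib.Blocks.isPSolvable_subgroup Fact.out h _
  · intro h
    refine CfsgLib.PairsSylow.isPSolvable_of_pairs _ G rfl fun R S => ?_
    obtain ⟨a, ha⟩ := MulAction.exists_smul_eq G P R
    obtain ⟨b, hb⟩ := MulAction.exists_smul_eq G P S
    have e : ((P : Subgroup G) ⊔ (P : Subgroup G).map (MulAut.conj (a⁻¹ * b)).toMonoidHom).map
        (MulAut.conj a).toMonoidHom = (R : Subgroup G) ⊔ (S : Subgroup G) := by
      rw [← ha, ← hb, Subgroup.map_sup, Subgroup.map_map]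
      congr 1
      show _ = (P : Subgroup G).map (MulAut.conj b).toMonoidHom
      congr 1
      ext y
      simp [mul_assoc]
    rw [← e]
    exact CfsgLib.PSolvableClosure.of_surjective ((MulAut.conj a).toMonoidHom.subgroupMap _)
      ((MulAut.conj a).toMonoidHom.subgroupMap_surjective _) (h (a⁻¹ * b))

end Cfsg.Agent.S3019
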