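import Cfsg.Statements.S3020
import Mathlib
import Cfsg.Agent.Lib.Local
import Cfsg.Agent.Lib.PComplement
import Cfsg.Agent.Lib.StrongFusion.Chain

set_option autoImplicit false
set_option linter.unusedVariables false
open Cfsg
open scoped commutatorElement

namespace Cfsg.Agent.S3020

open CfsgLib

/-- Let G be a finite group, p a prime and H an abelian p-subgroup of G that is extremely closed (for every g, the subgroup generated by H and g H g⁻¹ meets N_G(H) exactly in H). Then for every g ∈ G, the subgroup T generated by H and g H g⁻¹ is the product of H with O_{p'}(T), and H meets O_{p'}(T) trivially; that is, O_{p'}(T) is a normal p-complement of H in T. -/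
theorem result {G : Type*} [Group G] [Finite G] {p : ℕ} [Fact p.Prime] (H : Subgroup G) (hHp : IsPGroup p H) (hHab : IsMulCommutative H) (hcl : Cfsg.IsExtremelyClosed H) (g : G) (T : Subgroup G) (hT : T = H ⊔ H.map (MulAut.conj g).toMonoidHom) : H ⊔ (Cfsg.pPrimeCore p ↥T).map T.subtype = T ∧ H ⊓ (Cfsg.pPrimeCore p ↥T).map T.subtype = ⊥ := by
  subst hT
  set T := H ⊔ H.map (MulAut.conj g).toMonoidHom
  have hHT : H ≤ T := le_sup_left
  have hN : Subgroup.normalizer ((H.subgroupOf T : Subgroup ↥T) : Set ↥T) ≤ H.subgroupOf T := by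
    intro x hx
    refine Subgroup.mem_subgroupOf.mpr ((hcl g).le (Subgroup.mem_inf.mpr ⟨x.2, ?_⟩))
    refine Local.mem_normalizer_of_map_conj_eq (Subgroup.eq_of_le_of_card_ge (Local.map_conj_le fun n hn => ?_)
      (Subgroup.card_map_of_injective (MulEquiv.injective (MulAut.conj (x : G)))).ge)
    exact (Subgroup.mem_normalizer_iff.mp hx ⟨n, hHT hn⟩).mp hn
  have hp : IsPGroup p ↥(H.subgroupOf T) := hHp.of_equiv (Subgroup.subgroupOfEquivOfLe hHT).symm
  obtain ⟨P, hP⟩ := hp.exists_le_sylow
  have e : (P : Subgroup ↥T) = H.subgroupOf T := by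
    by_contra hne
    exact (CfsgLib.StrongFusion.lt_inf_normalizer P hP (Ne.symm hne)).not_ge (inf_le_right.trans hN)
  have hnpc : Cfsg.HasNormalPComplement p ↥T := by
    refine CfsgLib.hasNormalPComplement_of_normalizer_le_centralizer P ?_
    rw [e]
    refine hN.trans fun x hx => Subgroup.mem_centralizer_iff.mpr fun y hy => Subtype.ext ?_
    exact congrArg (fun z : ↥H => (z : G)) (hHab.is_comm.comm (⟨(y : G), hy⟩ : ↥H) ⟨(x : G), hx⟩)
  have hc := CfsgLib.pPrimeCore_isComplement'_sylow (CfsgLib.isPGroup_quotient_of_hasNormalPComplement hnpc) P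
  constructor
  · have h := hc.sup_eq_top
    rw [e] at h
    conv_rhs => rw [← Subgroup.range_subtype T, MonoidHom.range_eq_map, ← h, Subgroup.map_sup, Subgroup.map_subgroupOf_eq_of_le hHT, sup_comm]
  · refine eq_bot_iff.mpr ?_
    rintro x ⟨hxH, y, hy, rfl⟩
    have h2 : y = 1 := Subgroup.disjoint_def.mp hc.disjoint hy (e.ge hxH)
    rw [h2, map_one]; exact one_mem _

end Cfsg.Agent.S3020
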