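import Cfsg.Statements.S3021
import Mathlib
import Cfsg.Agent.Lib.Local
import Cfsg.Agent.Lib.StrongFusion.Chain

set_option autoImplicit false
set_option linter.unusedVariables false
open Cfsg
open scoped commutatorElement

namespace Cfsg.Agent.S3021

open CfsgLib

theorem le_normalizer_of {G : Type*} [Group G] [Finite G] {p : ℕ} [Fact p.Prime] {H Q : Subgroup G} (hcl : Cfsg.IsExtremelyClosed H)
    (hQ : IsPGroup p ↥Q) (hHQ : H ≤ Q) : Q ≤ Subgroup.normalizer (H : Set G) := by
  intro q hq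
  by_contra hn
  set R := H ⊔ H.map (MulAut.conj q).toMonoidHom with hR
  have hRQ : R ≤ Q := sup_le hHQ (Local.map_conj_le fun x hx => Q.mul_mem (Q.mul_mem hq (hHQ hx)) (Q.inv_mem hq))
  have hne : H.subgroupOf R ≠ ⊤ := fun e => hn (Local.mem_normalizer_of_map_conj_eq (Subgroup.eq_of_le_of_card_ge
    (le_sup_right.trans (Subgroup.subgroupOf_eq_top.mp e)) (Subgroup.card_map_of_injective (MulEquiv.injective (MulAut.conj q))).ge))
  haveI : Group.IsNilpotent ↥R := (hQ.to_le hRQ).isNilpotent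
  obtain ⟨⟨x, hxR⟩, hx1, hx2⟩ := SetLike.exists_of_lt (Group.normalizerCondition_of_isNilpotent (H.subgroupOf R) (lt_top_iff_ne_top.mpr hne))
  refine hx2 (Subgroup.mem_subgroupOf.mpr ((hcl q).le (Subgroup.mem_inf.mpr ⟨hxR, ?_⟩)))
  refine Local.mem_normalizer_of_map_conj_eq (Subgroup.eq_of_le_of_card_ge (Local.map_conj_le fun n hn' => ?_)
    (Subgroup.card_map_of_injective (MulEquiv.injective (MulAut.conj x))).ge)
  exact (Subgroup.mem_normalizer_iff.mp hx1 ⟨n, (le_sup_left : H ≤ R) hn'⟩).mp hn'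

/-- Let G be a finite group, p a prime and H a p-subgroup of G that is extremely closed (for every g, the subgroup generated by H and g H g⁻¹ meets N_G(H) exactly in H). Then every p-subgroup Q of G containing H has N_G(Q) ≤ N_G(H); in particular every Sylow p-subgroup P of G containing H normalizes H, and H is strongly closed in P with respect to G. -/
theorem result {G : Type*} [Group G] [Finite G] {p : ℕ} [Fact p.Prime] (H : Subgroup G) (hHp : IsPGroup p H) (hcl : Cfsg.IsExtremelyClosed H) : (∀ Q : Subgroup G, IsPGroup p Q → H ≤ Q → Subgroup.normalizer (Q : Set G) ≤ Subgroup.normalizer (H : Set G)) ∧ ∀ P : Sylow p G, H ≤ (P : Subgroup G) → (P : Subgroup G) ≤ Subgroup.normalizer (H : Set G) ∧ Cfsg.IsStronglyClosed H (P : Subgroup G) := by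
  have key : ∀ (Q : Subgroup G) (g : G), IsPGroup p Q → H ≤ Q → ∀ x ∈ H, g * x * g⁻¹ ∈ Q → g * x * g⁻¹ ∈ H := by
    intro Q g hQ hHQ x hx hxQ
    exact (hcl g).le (Subgroup.mem_inf.mpr ⟨Subgroup.mem_sup_right ⟨x, hx, rfl⟩, le_normalizer_of hcl hQ hHQ hxQ⟩)
  refine ⟨fun Q hQ hHQ g hg => ?_, fun P hP => ⟨le_normalizer_of hcl P.2 hP, hP, fun x hx g hgx => key _ g P.2 hP x hx hgx⟩⟩
  exact CfsgLib.Local.mem_normalizer_of_map_conj_eq (Subgroup.eq_of_le_of_card_ge (CfsgLib.Local.map_conj_le fun x hx =>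
    key Q g hQ hHQ x hx ((Subgroup.mem_normalizer_iff.mp hg x).mp (hHQ hx)))
    (Subgroup.card_map_of_injective (MulEquiv.injective (MulAut.conj g))).ge)

end Cfsg.Agent.S3021
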