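import Cfsg.Statements.S3022
import Cfsg.Agent.Lib.QTPush.AutomPair

set_option autoImplicit false
open Cfsg

namespace Cfsg.Agent.S3022

/-- Let G be a finite group all of whose non-abelian simple sections are known simple groups, such that a Sylow 2-subgroup of G lies in exactly one maximal subgroup of G and C_G(O₂(G)) ≤ O₂(G). Let S be a Sylow 2-subgroup of G and A a group of automorphisms of S of odd order. Then some nontrivial A-invariant subgroup of S is normal in G. -/
theorem result {G : Type*} [Group G] [Finite G] (hK : Cfsg.IsKGroup G) (hirr : ∀ S : Sylow 2 G, ∃! M : Subgroup G, IsCoatom M ∧ (S : Subgroup G) ≤ M) (hchar : Subgroup.centralizer (Cfsg.pCore 2 G : Set G) ≤ Cfsg.pCore 2 G) (S : Sylow 2 G) (A : Subgroup (MulAut ↥(S : Subgroup G))) (hA : Odd (Nat.card A)) : ∃ U : Subgroup G, U ≠ ⊥ ∧ U.Normal ∧ U ≤ (S : Subgroup G) ∧ ∀ a ∈ A, ∀ x : ↥(S : Subgroup G), (x : G) ∈ U → ((a x : ↥(S : Subgroup G)) : G) ∈ U := by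
  classical
  haveI : Fact (Nat.Prime 2) := ⟨Nat.prime_two⟩
  -- the Sylow subgroup is not trivial
  have hSne : (S : Subgroup G) ≠ ⊥ := by
    intro e
    have hO : Cfsg.pCore 2 G = ⊥ := le_bot_iff.1 (e ▸ CfsgLib.pCore_le_sylow S)
    rw [hO] at hchar
    have htop : ∀ g : G, g = 1 := fun g => Subgroup.mem_bot.1 (hchar (Subgroup.mem_centralizer_iff.2 (by simp)))
    obtain ⟨M, ⟨hM, -⟩, -⟩ := hirr S
    exact hM.1 (eq_top_iff.2 fun g _ => by rw [htop g]; exact one_mem M)
  -- a characteristic subgroup of `S` normal in `G` is invariant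
  have hchar' : ∀ C : Subgroup ↥(S : Subgroup G), C.Characteristic → C ≠ ⊥ →
      (C.map (S : Subgroup G).subtype).Normal →
      ∃ U : Subgroup G, U ≠ ⊥ ∧ U.Normal ∧ U ≤ (S : Subgroup G) ∧ ∀ a ∈ A, ∀ x : ↥(S : Subgroup G),
        (x : G) ∈ U → ((a x : ↥(S : Subgroup G)) : G) ∈ U := by
    intro C hC hne hn
    refine ⟨C.map (S : Subgroup G).subtype,
      fun e => hne ((Subgroup.map_eq_bot_iff_of_injective _ (S : Subgroup G).subtype_injective).1 e), hn,
      Subgroup.map_subtype_le C, fun a _ x hx => ?_⟩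
    have hxC : x ∈ C := (Subgroup.mem_map_iff_mem (S : Subgroup G).subtype_injective).1 hx
    exact ⟨a x, (Subgroup.characteristic_iff_comap_eq.1 hC a).ge hxC, rfl⟩
  by_cases hn : (S : Subgroup G).Normal
  · exact ⟨S, hSne, hn, le_rfl, fun a _ x _ => (a x).2⟩
  have hmin : Cfsg.IsPMinimal 2 G := fun P => ⟨fun hP => hn (by
    haveI := Sylow.unique_of_normal P hP
    rw [Subsingleton.elim S P]
    exact hP), hirr P⟩
  have hbaum : ∀ C : Subgroup G, C ≤ Cfsg.baumannSubgroupOf 2 (S : Subgroup G) →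
      (C.subgroupOf (Cfsg.baumannSubgroupOf 2 (S : Subgroup G))).Characteristic →
      (C.subgroupOf (S : Subgroup G)).Characteristic := CfsgLib.QTPush.char_of_char_baumann (S : Subgroup G)
  have hle : Cfsg.baumannSubgroupOf 2 (S : Subgroup G) ≤ (S : Subgroup G) := inf_le_left
  by_cases hz : (Cfsg.omegaOneCenter 2 (S : Subgroup G)).Normal
  · have hzS : Cfsg.omegaOneCenter 2 (S : Subgroup G) ≤ (S : Subgroup G) := CfsgLib.BBlock.omegaOneCenter_le 2 _
    refine hchar' _ (CfsgLib.QTPush.char_omegaOneCenter (S : Subgroup G)) ?_ ?_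
    · intro e
      refine CfsgLib.QTPush.omegaOneCenter_ne_bot S.2 hSne ?_
      rw [← Subgroup.map_subgroupOf_eq_of_le hzS, e, Subgroup.map_bot]
    · rwa [Subgroup.map_subgroupOf_eq_of_le hzS]
  by_cases hc : ∀ C : Subgroup G, C ≤ Cfsg.baumannSubgroupOf 2 (S : Subgroup G) → C ≠ ⊥ →
      (C.subgroupOf (Cfsg.baumannSubgroupOf 2 (S : Subgroup G))).Characteristic → ¬ C.Normal
  · obtain ⟨M, c⟩ := CfsgLib.BlockPush.exists_ctx hmin hchar S hc hz
    exact CfsgLib.QTPush.exists_invariant c A hA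
  · push Not at hc
    obtain ⟨C, hCB, hCne, hCch, hCn⟩ := hc
    refine hchar' _ (hbaum C hCB hCch) (fun e => hCne ?_) ?_
    · rw [← Subgroup.map_subgroupOf_eq_of_le (hCB.trans hle), e, Subgroup.map_bot]
    · rwa [Subgroup.map_subgroupOf_eq_of_le (hCB.trans hle)]

end Cfsg.Agent.S3022
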