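import Cfsg.Statements.S3025
import Cfsg.Agent.Lib.UniqueSubgroup
import Cfsg.Agent.Lib.Solvable.MinimalNormal
-- import your own Cfsg.Agent.* helpers here

set_option autoImplicit false
open Cfsg

namespace Cfsg.Agent.S3025

/-- Let F be a finite group and H a nontrivial subgroup of F that is contained in every nontrivial subgroup of F which H normalizes. Then F has a nontrivial normal subgroup N contained in every nontrivial normal subgroup of F (a unique minimal normal subgroup), N is simple, and one of the following holds: C_F(N) = 1; or H = N has prime order p, C_F(N) is cyclic of order a power of p, and F/C_F(N) is cyclic of order dividing p − 1; or H = N has order 2, N is central in F, and F is a generalized quaternion group. -/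
theorem result {F : Type*} [Group F] [Finite F] (H : Subgroup F) (hH : H ≠ ⊥)
    (hmin : ∀ R : Subgroup F, R ≠ ⊥ → H ≤ Subgroup.normalizer (R : Set F) → H ≤ R) :
    ∃ N : Subgroup F, N.Normal ∧ N ≠ ⊥ ∧ (∀ M : Subgroup F, M.Normal → M ≠ ⊥ → N ≤ M) ∧ IsSimpleGroup ↥N ∧
      (Subgroup.centralizer (N : Set F) = ⊥ ∨
       (H = N ∧ (Nat.card N).Prime ∧ IsCyclic ↥(Subgroup.centralizer (N : Set F)) ∧
          (∃ k : ℕ, 1 ≤ k ∧ Nat.card ↥(Subgroup.centralizer (N : Set F)) = Nat.card N ^ k) ∧
          (∃ g : F, Subgroup.centralizer (N : Set F) ⊔ Subgroup.zpowers g = ⊤) ∧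
          (Subgroup.centralizer (N : Set F)).index ∣ Nat.card N - 1) ∨
       (H = N ∧ Nat.card N = 2 ∧ Subgroup.centralizer (N : Set F) = ⊤ ∧
          ∃ k : ℕ, 1 ≤ k ∧ Nonempty (F ≃* QuaternionGroup (2 ^ k)))) := by
  classical
  -- the unique minimal normal subgroup
  have hnle : ∀ M : Subgroup F, M.Normal → M ≠ ⊥ → H ≤ M := fun M hM hM1 =>
    hmin M hM1 (by rw [Subgroup.normalizer_eq_top_iff.mpr hM]; exact le_top)
  set N := Subgroup.normalClosure (H : Set F) with hNdef
  haveI hNn : N.Normal := Subgroup.normalClosure_normal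
  have hHN : H ≤ N := fun h hh => Subgroup.subset_normalClosure hh
  have hN1 : N ≠ ⊥ := fun e => hH (eq_bot_iff.mpr (e ▸ hHN))
  have hNmin : ∀ M : Subgroup F, M.Normal → M ≠ ⊥ → N ≤ M := fun M hM hM1 =>
    Subgroup.normalClosure_le_normal (hnle M hM hM1)
  obtain ⟨T₀, s, hsimple, ⟨T, hT⟩, -, hconj, hsup, hnorm, hdis, -⟩ := CfsgLib.MinimalNormal.exists_factors N hN1
    (fun M hM hMN => (em (M = ⊥)).imp_right fun hM1 => le_antisymm hMN (hNmin M hM hM1))
  haveI := hsimple
  have hne : ∀ T ∈ s, T ≠ ⊥ := by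
    intro T hT e
    obtain ⟨g, hg⟩ := hconj T hT
    rw [e] at hg
    exact (Subgroup.nontrivial_iff_ne_bot T₀).mp hsimple.toNontrivial
      ((Subgroup.map_eq_bot_iff_of_injective _ (MulAut.conj g).injective).mp hg.symm)
  have hHT : ∀ T ∈ s, H ≤ T := fun T hT => hmin T (hne T hT) (hHN.trans (hnorm T hT).2)
  have hone : ∀ T' ∈ s, T' = T := by
    intro T' hT'
    by_contra hne'
    refine hH (eq_bot_iff.mpr fun x hx => ?_)
    exact (Subgroup.disjoint_def.mp (hdis T hT)) (hHT T hT hx)
      (Finset.le_sup (f := id) (Finset.mem_erase.mpr ⟨hne', hT'⟩) (hHT T' hT' hx))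
  have hNT : N = T := le_antisymm (hsup ▸ Finset.sup_le fun T' h' => (hone T' h').le) (hnorm T hT).1
  obtain ⟨g, hg⟩ := hconj T hT
  have hNsimple : IsSimpleGroup N := ((MulEquiv.subgroupCongr (hNT.trans hg)).trans
    (T₀.equivMapOfInjective _ (MulAut.conj g).injective).symm).isSimpleGroup
  refine ⟨N, hNn, hN1, hNmin, hNsimple, ?_⟩
  set C := Subgroup.centralizer (N : Set F) with hC
  by_cases hC1 : C = ⊥
  · exact Or.inl hC1
  refine Or.inr ?_
  -- every nontrivial subgroup of the centraliser contains `H`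
  have hRC : ∀ R : Subgroup F, R ≤ C → R ≠ ⊥ → H ≤ R := fun R hR hR1 => hmin R hR1 fun h hh => by
    rw [Subgroup.mem_normalizer_iff]
    intro y
    have hc : ∀ c ∈ C, h * c = c * h := fun c hc => Subgroup.mem_centralizer_iff.mp hc h (hHN hh)
    constructor
    · intro hy
      rw [hc y (hR hy), mul_inv_cancel_right]
      exact hy
    · intro hy
      have h1 : h * (h * y * h⁻¹) = h * y * h⁻¹ * h := hc _ (hR hy)
      have h2 : y = h * y * h⁻¹ := by
        have h3 := mul_left_cancel (h1.trans (show h * y * h⁻¹ * h = h * y by group))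
        exact h3.symm
      rwa [h2]
  obtain ⟨c, hcC, hc1⟩ : ∃ c ∈ C, c ≠ 1 := by
    by_contra hn; push Not at hn
    exact hC1 ((Subgroup.eq_bot_iff_forall _).mpr hn)
  obtain ⟨p, hp, hpc⟩ := Nat.exists_prime_and_dvd (show orderOf c ≠ 1 by rwa [ne_eq, orderOf_eq_one_iff])
  haveI : Fact p.Prime := ⟨hp⟩
  have hzord : orderOf (c ^ (orderOf c / p)) = p := orderOf_pow_orderOf_div (orderOf_pos c).ne' hpc
  set z := c ^ (orderOf c / p) with hz
  have hzC : z ∈ C := pow_mem hcC _
  have hprimeH : ∀ w ∈ C, (orderOf w).Prime → H = Subgroup.zpowers w := by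
    intro w hw hwp
    have hle := hRC (Subgroup.zpowers w) (Subgroup.zpowers_le.mpr hw)
      (fun e => hwp.ne_one (orderOf_eq_one_iff.mpr (Subgroup.zpowers_eq_bot.mp e)))
    refine Subgroup.eq_of_le_of_card_ge hle ?_
    have hd := Subgroup.card_dvd_of_le hle
    rw [Nat.card_zpowers] at hd ⊢
    rcases hwp.eq_one_or_self_of_dvd _ hd with h1 | h1
    · exact absurd (Subgroup.card_eq_one.mp h1) hH
    · exact h1.ge
  have hHz : H = Subgroup.zpowers z := hprimeH z hzC (by rw [hzord]; exact hp)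
  have hNC : N ≤ C := hNmin C inferInstance hC1
  have hNab : ∀ a ∈ N, ∀ b ∈ N, a * b = b * a := fun a ha b hb => Subgroup.mem_centralizer_iff.mp (hNC hb) a ha
  haveI hNc : IsMulCommutative N := ⟨⟨fun a b => Subtype.ext (hNab a a.2 b b.2)⟩⟩
  have hHeq : H = N := by
    let _i : CommGroup N := { (inferInstance : Group N) with mul_comm := fun a b => Subtype.ext (hNab a a.2 b b.2) }
    haveI := hNsimple
    have hprime : (Nat.card N).Prime := IsSimpleGroup.prime_card (α := N)
    refine Subgroup.eq_of_le_of_card_ge hHN ?_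
    rcases hprime.eq_one_or_self_of_dvd _ (Subgroup.card_dvd_of_le hHN) with h1 | h1
    · exact absurd (Subgroup.card_eq_one.mp h1) hH
    · exact h1.ge
  have hcardN : Nat.card N = p := by rw [← hHeq, hHz, Nat.card_zpowers, hzord]
  have hpg : IsPGroup p C := by
    refine IsPGroup.iff_orderOf.mpr fun w => ?_
    refine ⟨_, Nat.eq_prime_pow_of_unique_prime_dvd (orderOf_pos w).ne' fun {q} hq hqw => ?_⟩
    have h1 : orderOf (((w ^ (orderOf w / q) : C)) : F) = q := by
      rw [Subgroup.orderOf_coe]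
      exact orderOf_pow_orderOf_div (orderOf_pos w).ne' hqw
    have h2 := hprimeH _ (w ^ (orderOf w / q)).2 (by rw [h1]; exact hq)
    rw [hHz] at h2
    have h3 := congrArg (fun K : Subgroup F => Nat.card K) h2
    simp only [Nat.card_zpowers, hzord, h1] at h3
    exact h3.symm
  have huniq : ∀ w : C, w ^ p = 1 → w ∈ Subgroup.zpowers (⟨z, hzC⟩ : C) := by
    intro w hw
    by_cases hw1 : w = 1
    · rw [hw1]; exact one_mem _
    have h2 := hprimeH w w.2 (by
      rw [Subgroup.orderOf_coe, orderOf_eq_prime hw hw1]; exact hp)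
    have h3 : (w : F) ∈ Subgroup.zpowers z := by rw [← hHz, h2]; exact Subgroup.mem_zpowers _
    obtain ⟨i, hi⟩ := h3
    exact ⟨i, Subtype.ext (by simpa using hi)⟩
  obtain ⟨k, hk⟩ := hpg.exists_card_eq
  have hk1 : 1 ≤ k := by
    by_contra hk0
    push Not at hk0
    interval_cases k
    exact hC1 (Subgroup.card_eq_one.mp (hk.trans (pow_zero p)))
  -- the quotient
  let φ : F →* MulAut N := MulAut.conjNormal
  have hker : φ.ker = C := by
    ext x
    rw [MonoidHom.mem_ker, hC, Subgroup.mem_centralizer_iff]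
    constructor
    · intro h n hn
      have := congrArg (fun ψ : MulAut N => ((ψ ⟨n, hn⟩ : N) : F)) h
      simp only [φ, MulAut.conjNormal_apply, MulAut.one_apply] at this
      rw [← mul_inv_eq_iff_eq_mul.mp this]
    · intro h
      refine MulEquiv.ext fun n => Subtype.ext ?_
      rw [MulAut.one_apply, MulAut.conjNormal_apply, ← h n n.2, mul_inv_cancel_right]
  haveI hcycN : IsCyclic N := isCyclic_of_prime_card hcardN
  let e := IsCyclic.mulAutMulEquiv N
  haveI : IsCyclic (ZMod (Nat.card N))ˣ := by rw [hcardN]; infer_instance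
  haveI : IsCyclic (MulAut N) := e.isCyclic.mpr inferInstance
  have hindex : C.index ∣ Nat.card N - 1 := by
    rw [← hker, Subgroup.index_ker]
    refine (Subgroup.card_subgroup_dvd_card φ.range).trans (dvd_of_eq ?_)
    rw [Nat.card_congr e.toEquiv, hcardN, Nat.card_eq_fintype_card, ZMod.card_units]
  rcases CfsgLib.UniqueSubgroup.cyclic_or_quaternion hpg (z := (⟨z, hzC⟩ : C))
      (by rw [← Subgroup.orderOf_coe]; exact hzord) huniq with hcyc | ⟨hp2, n, hn, ⟨q⟩⟩
  · refine Or.inl ⟨hHeq, hcardN ▸ hp, hcyc, ⟨k, hk1, by rw [hk, hcardN]⟩, ?_, hindex⟩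
    obtain ⟨y, hy⟩ := IsCyclic.exists_generator (α := φ.range)
    obtain ⟨g, hg'⟩ := y.2
    refine ⟨g, top_le_iff.mp fun x _ => ?_⟩
    obtain ⟨i, hi⟩ := hy ⟨φ x, ⟨x, rfl⟩⟩
    have h1 : x * (g ^ i)⁻¹ ∈ C := by
      rw [← hker, MonoidHom.mem_ker, map_mul, map_inv, map_zpow, hg', ← Subgroup.coe_zpow, mul_inv_eq_one]
      exact (congrArg Subtype.val hi).symm
    rw [show x = x * (g ^ i)⁻¹ * g ^ i by group]
    exact Subgroup.mul_mem_sup h1 (Subgroup.zpow_mem _ (Subgroup.mem_zpowers g) i)
  · subst hp2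
    have hCtop : C = ⊤ := by
      rw [hcardN] at hindex
      exact Subgroup.index_eq_one.mp (Nat.dvd_one.mp (by simpa using hindex))
    exact Or.inr ⟨hHeq, hcardN, hCtop, n, hn,
      ⟨(Subgroup.topEquiv.symm.trans (MulEquiv.subgroupCongr hCtop.symm)).trans q⟩⟩

end Cfsg.Agent.S3025
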