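import Cfsg.Statements.S3027
import Mathlib.GroupTheory.IsSubnormal
import Mathlib.GroupTheory.QuotientGroup.Basic

set_option autoImplicit false
set_option linter.unusedVariables false
open Cfsg
open scoped commutatorElement

namespace Cfsg.Agent.S3027

theorem aux (n : ℕ) : ∀ {X : Type*} [Group X] [Finite X] (D : Subgroup X) [D.Normal], Nat.card X ≤ n →
    ⁅(⊤ : Subgroup X), ⊤⁆ ⊔ D = ⊤ →
    ∃ B : Subgroup X, B.Normal ∧ B ⊔ D = ⊤ ∧ ∀ B' : Subgroup X, B'.IsSubnormal → B' ⊔ D = ⊤ → B ≤ B' := by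
  induction n with
  | zero => intro X _ _ D _ hX; exact absurd hX (Nat.not_le.2 Nat.card_pos)
  | succ n ih =>
    intro X _ _ D hD hX hperf
    have hclosed : ∀ A B : Subgroup X, A.Normal → B.Normal → A ⊔ D = ⊤ → B ⊔ D = ⊤ → (A ⊓ B) ⊔ D = ⊤ := by
      intro A B hA hB hAD hBD
      refine top_le_iff.1 (hperf.ge.trans (sup_le (Subgroup.commutator_le.2 fun x _ y _ => ?_) le_sup_right))
      obtain ⟨a, ha, d, hd, rfl⟩ := Subgroup.mem_sup_of_normal_right.1 (hAD.ge (Subgroup.mem_top x))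
      obtain ⟨b, hb, e, he, rfl⟩ := Subgroup.mem_sup_of_normal_right.1 (hBD.ge (Subgroup.mem_top y))
      have h1 : ⁅a, b⁆ ∈ A ⊓ B := (Subgroup.commutator_le_inf A B) (Subgroup.commutator_mem_commutator ha hb)
      have h2 : QuotientGroup.mk' D ⁅a * d, b * e⁆ = QuotientGroup.mk' D ⁅a, b⁆ := by
        rw [map_commutatorElement, map_commutatorElement, map_mul, map_mul,
          show QuotientGroup.mk' D d = 1 from (QuotientGroup.eq_one_iff d).2 hd,
          show QuotientGroup.mk' D e = 1 from (QuotientGroup.eq_one_iff e).2 he, mul_one, mul_one]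
      obtain ⟨z, hz, e'⟩ := (QuotientGroup.mk'_eq_mk' D).1 h2.symm
      rw [← e']
      exact (Subgroup.mem_sup_of_normal_right).2 ⟨_, h1, z, hz, rfl⟩
    obtain ⟨B, ⟨hBn, hBD⟩, hBmin⟩ := (Set.toFinite {B : Subgroup X | B.Normal ∧ B ⊔ D = ⊤}).exists_minimal
      ⟨⊤, inferInstance, top_sup_eq D⟩
    have hleast : ∀ N : Subgroup X, N.Normal → N ⊔ D = ⊤ → B ≤ N := fun N hN hND =>
      (hBmin ⟨Subgroup.normal_inf_normal B N, hclosed B N hBn hN hBD hND⟩ inf_le_left).trans inf_le_right
    refine ⟨B, hBn, hBD, fun B' hB' hB'D => ?_⟩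
    rcases hB'.lt_normal with h | ⟨N, hN, hB'N, hNtop⟩
    · exact h ▸ le_top
    have hND : N ⊔ D = ⊤ := top_le_iff.1 (hB'D.ge.trans (sup_le_sup_right hB'N D))
    have hBN := hleast N hN hND
    have hperfN : ⁅(⊤ : Subgroup N), ⊤⁆ ⊔ D.subgroupOf N = ⊤ := by
      refine top_le_iff.1 fun y _ => ?_
      have h1 : (y : X) ∈ ⁅N, N⁆ ⊔ D := by
        refine (top_le_iff.1 (hperf.ge.trans (sup_le (Subgroup.commutator_le.2 fun a _ b _ => ?_) le_sup_right))).ge
          (Subgroup.mem_top _)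
        obtain ⟨a', ha, d, hd, rfl⟩ := Subgroup.mem_sup_of_normal_right.1 (hND.ge (Subgroup.mem_top a))
        obtain ⟨b', hb, e, he, rfl⟩ := Subgroup.mem_sup_of_normal_right.1 (hND.ge (Subgroup.mem_top b))
        have h2 : QuotientGroup.mk' D ⁅a' * d, b' * e⁆ = QuotientGroup.mk' D ⁅a', b'⁆ := by
          rw [map_commutatorElement, map_commutatorElement, map_mul, map_mul,
            show QuotientGroup.mk' D d = 1 from (QuotientGroup.eq_one_iff d).2 hd,
            show QuotientGroup.mk' D e = 1 from (QuotientGroup.eq_one_iff e).2 he, mul_one, mul_one]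
        obtain ⟨z, hz, e'⟩ := (QuotientGroup.mk'_eq_mk' D).1 h2.symm
        rw [← e']
        exact (Subgroup.mem_sup_of_normal_right).2 ⟨_, Subgroup.commutator_mem_commutator ha hb, z, hz, rfl⟩
      obtain ⟨c, hc, d, hd, e⟩ := Subgroup.mem_sup_of_normal_right.1 h1
      have hcN : c ∈ N := Subgroup.commutator_le_right _ N hc
      have hdN : d ∈ N := by
        have : d = c⁻¹ * y := by rw [← e, inv_mul_cancel_left]
        exact this ▸ N.mul_mem (N.inv_mem hcN) y.2
      refine (Subgroup.mem_sup_of_normal_right).2 ⟨⟨c, hcN⟩, ?_, ⟨d, hdN⟩, hd, Subtype.ext e⟩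
      rw [← Subgroup.map_subtype_commutator] at hc
      obtain ⟨c', hc', ec⟩ := hc
      have : c' = ⟨c, hcN⟩ := Subtype.ext ec
      exact this ▸ hc'
    have hcard : Nat.card N ≤ n := by
      have : Nat.card N < Nat.card (⊤ : Subgroup X) := lt_of_le_of_ne (Subgroup.card_le_of_le le_top) fun e =>
        hNtop.ne (Subgroup.eq_of_le_of_card_ge le_top e.ge)
      rw [Subgroup.card_top] at this
      omega
    obtain ⟨C, hCn, hCD, hCmin⟩ := ih (D.subgroupOf N) hcard hperfN
    have supp : ∀ S : Subgroup X, S ≤ N → S ⊔ D = ⊤ → S.subgroupOf N ⊔ D.subgroupOf N = ⊤ := by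
      intro S hSN hSD
      refine top_le_iff.1 fun y _ => ?_
      obtain ⟨s, hs, d, hd, e⟩ := Subgroup.mem_sup_of_normal_right.1 (hSD.ge (Subgroup.mem_top (y : X)))
      have hdN : d ∈ N := by
        have : d = s⁻¹ * y := by rw [← e, inv_mul_cancel_left]
        exact this ▸ N.mul_mem (N.inv_mem (hSN hs)) y.2
      exact (Subgroup.mem_sup_of_normal_right).2 ⟨⟨s, hSN hs⟩, hs, ⟨d, hdN⟩, hd, Subtype.ext e⟩
    -- the minimal supplement in `N` is normal in `X`
    have hCX : (C.map N.subtype).Normal := by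
      refine ⟨fun c hc g => ?_⟩
      obtain ⟨c, hc, rfl⟩ := hc
      let φ : N →* N := (MulAut.conjNormal g⁻¹ : MulAut N).toMonoidHom
      have hnorm : (C.comap φ).Normal := hCn.comap φ
      have hsup : C.comap φ ⊔ D.subgroupOf N = ⊤ := by
        refine top_le_iff.1 fun y _ => ?_
        obtain ⟨s, hs, d, hd, e⟩ := Subgroup.mem_sup_of_normal_right.1 (hCD.ge (Subgroup.mem_top (φ y)))
        refine (Subgroup.mem_sup_of_normal_right).2 ⟨MulAut.conjNormal g s, ?_, MulAut.conjNormal g d, ?_, ?_⟩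
        · show (MulAut.conjNormal g⁻¹) ((MulAut.conjNormal g) s) ∈ C
          rwa [← MulAut.mul_apply, ← map_mul, inv_mul_cancel, map_one, MulAut.one_apply]
        · rw [Subgroup.mem_subgroupOf, MulAut.conjNormal_apply]
          exact hD.conj_mem _ hd g
        · rw [← map_mul, e]
          show (MulAut.conjNormal g) ((MulAut.conjNormal g⁻¹) y) = y
          rw [← MulAut.mul_apply, ← map_mul, mul_inv_cancel, map_one, MulAut.one_apply]
      have hmap : C.map φ ≤ C := by
        refine Subgroup.map_le_iff_le_comap.2 ?_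
        exact hCmin _ hnorm.isSubnormal hsup
      have heq : C.map φ = C := Subgroup.eq_of_le_of_card_ge hmap
        (Subgroup.card_map_of_injective (MulEquiv.injective _)).ge
      obtain ⟨c', hc', ec⟩ := heq.ge hc
      refine ⟨c', hc', ?_⟩
      show (c' : X) = g * (c : X) * g⁻¹
      rw [← ec]
      show (c' : X) = g * ((MulAut.conjNormal g⁻¹ c' : N) : X) * g⁻¹
      rw [MulAut.conjNormal_apply]
      group
    have hCD' : C.map N.subtype ⊔ D = ⊤ := by
      refine top_le_iff.1 (hND.ge.trans (sup_le (fun y hy => ?_) le_sup_right))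
      obtain ⟨s, hs, d, hd, e⟩ := Subgroup.mem_sup_of_normal_right.1 (hCD.ge (Subgroup.mem_top (⟨y, hy⟩ : N)))
      exact (Subgroup.mem_sup_of_normal_right).2 ⟨_, ⟨s, hs, rfl⟩, d, hd, congrArg Subtype.val e⟩
    refine (hleast _ hCX hCD').trans ?_
    rintro _ ⟨c, hc, rfl⟩
    exact hCmin _ hB'.subgroupOf (supp B' hB'N hB'D) hc

/-- Let G be a finite group and D a normal subgroup of G such that G/D is perfect (that is, G = G′D). Then among the subnormal subgroups B of G with BD = G there is a least one, and it is normal in G. -/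
theorem result {G : Type*} [Group G] [Finite G] (D : Subgroup G) [D.Normal] (hperf : ⁅(⊤ : Subgroup G), (⊤ : Subgroup G)⁆ ⊔ D = ⊤) :
    ∃ B : Subgroup G, B.Normal ∧ B ⊔ D = ⊤ ∧ ∀ B' : Subgroup G, B'.IsSubnormal → B' ⊔ D = ⊤ → B ≤ B' := by
    exact aux (Nat.card G) D le_rfl hperf

end Cfsg.Agent.S3027
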