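import Cfsg.Statements.S3033
import Cfsg.Agent.Lib.Solvable.PairScalar
import Cfsg.Agent.Lib.Solvable.Huppert
import Cfsg.Agent.Lib.PComplement
import Cfsg.Agent.Lib.Elementary

set_option autoImplicit false
set_option linter.unusedVariables false
open Cfsg
open scoped commutatorElement

namespace Cfsg.Agent.S3033

universe u

/-- The hypothesis on two-generated subgroups. -/
def Hyp (G : Type u) [Group G] : Prop :=
  ∀ (p q : ℕ), p.Prime → q.Prime → p ≠ q → ∀ (x g : G), (∃ a : ℕ, orderOf x = p ^ a) → (∃ b : ℕ, orderOf g = q ^ b) →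
    ¬ q ^ 2 ∣ Nat.card ↥(Subgroup.zpowers x ⊔ Subgroup.zpowers (g * x * g⁻¹))

theorem hyp_subgroup {G : Type u} [Group G] (h : Hyp G) (H : Subgroup G) : Hyp H := by
  intro p q hp hq hne x g hx hg
  have := h p q hp hq hne x g (by simpa [Subgroup.orderOf_coe] using hx) (by simpa [Subgroup.orderOf_coe] using hg)
  have e : (Subgroup.zpowers x ⊔ Subgroup.zpowers (g * x * g⁻¹)).map H.subtype =
      Subgroup.zpowers (x : G) ⊔ Subgroup.zpowers ((g : G) * x * (g : G)⁻¹) := by
    rw [Subgroup.map_sup, MonoidHom.map_zpowers, MonoidHom.map_zpowers]; rfl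
  rwa [← e, Subgroup.card_map_of_injective H.subtype_injective] at this

theorem exists_lift {G H : Type*} [Group G] [Finite G] [Group H] (f : G →* H) (hf : Function.Surjective f) {p a : ℕ}
    [hp : Fact p.Prime] {y : H} (hy : orderOf y = p ^ a) : ∃ x : G, f x = y ∧ ∃ e, orderOf x = p ^ e := by
  obtain ⟨x0, rfl⟩ := hf y
  obtain ⟨e, m, hm, hxm⟩ := Nat.exists_eq_pow_mul_and_not_dvd (orderOf_pos x0).ne' p hp.out.ne_one
  obtain ⟨u, hu⟩ : ∃ u : ℕ, m * u ≡ 1 [MOD p ^ a] := by
    rcases Nat.eq_zero_or_pos a with rfl | ha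
    · exact ⟨0, by simp [Nat.modEq_one]⟩
    · obtain ⟨u, hu⟩ := Nat.exists_mul_mod_eq_one_of_coprime
        ((hp.out.coprime_iff_not_dvd.mpr hm).symm.pow_right a) (Nat.one_lt_pow ha.ne' hp.out.one_lt)
      exact ⟨u, by rw [Nat.ModEq, hu.2, Nat.mod_eq_of_lt (Nat.one_lt_pow ha.ne' hp.out.one_lt)]⟩
  refine ⟨x0 ^ (m * u), ?_, ?_⟩
  · rw [map_pow]
    conv_rhs => rw [← pow_one (f x0)]
    rw [pow_eq_pow_iff_modEq, hy]
    exact hu
  · have h1 : (x0 ^ (m * u)) ^ p ^ e = 1 := by
      rw [← pow_mul, show m * u * p ^ e = p ^ e * m * u by ring, pow_mul, ← hxm, pow_orderOf_eq_one, one_pow]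
    obtain ⟨j, -, hj⟩ := (Nat.dvd_prime_pow hp.out).mp (orderOf_dvd_of_pow_eq_one h1)
    exact ⟨j, hj⟩

theorem hyp_quotient {G : Type u} [Group G] [Finite G] (h : Hyp G) (N : Subgroup G) [N.Normal] : Hyp (G ⧸ N) := by
  intro p q hp hq hne x g ⟨a, hx⟩ ⟨b, hg⟩ hdvd
  have := Fact.mk hp
  have := Fact.mk hq
  obtain ⟨x', hx', hxo⟩ := exists_lift (QuotientGroup.mk' N) (QuotientGroup.mk'_surjective N) hx
  obtain ⟨g', hg', hgo⟩ := exists_lift (QuotientGroup.mk' N) (QuotientGroup.mk'_surjective N) hg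
  refine h p q hp hq hne x' g' hxo hgo (hdvd.trans ?_)
  have e : (Subgroup.zpowers x' ⊔ Subgroup.zpowers (g' * x' * g'⁻¹)).map (QuotientGroup.mk' N) =
      Subgroup.zpowers x ⊔ Subgroup.zpowers (g * x * g⁻¹) := by
    rw [Subgroup.map_sup, MonoidHom.map_zpowers, MonoidHom.map_zpowers, map_mul, map_mul, map_inv, hx', hg']
  rw [← e]
  exact Subgroup.card_map_dvd _ _

/-- The commutator of `u` and `x` spans a line fixed by `x`. -/
theorem commutator_line {G : Type u} [Group G] [Finite G] (h : Hyp G) {r q : ℕ} (hr : r.Prime) [hq : Fact q.Prime]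
    (hne : r ≠ q) {x : G} {e : ℕ} (hx : x ^ r ^ e = 1) {U : Subgroup G} (hU : IsPGroup q U)
    (hxU : x ∈ Subgroup.normalizer (U : Set G)) {u : G} (hu : u ∈ U) :
    x * (u * x * u⁻¹ * x⁻¹) * x⁻¹ ∈ Subgroup.zpowers (u * x * u⁻¹ * x⁻¹) := by
  set c := u * x * u⁻¹ * x⁻¹ with hc
  set K := Subgroup.zpowers x ⊔ Subgroup.zpowers (u * x * u⁻¹) with hK
  have hxo : ∃ a, orderOf x = r ^ a := by
    obtain ⟨j, -, hj⟩ := (Nat.dvd_prime_pow hr).mp (orderOf_dvd_of_pow_eq_one hx); exact ⟨j, hj⟩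
  have huo : ∃ b, orderOf u = q ^ b := by
    obtain ⟨n, hn⟩ := hU ⟨u, hu⟩
    obtain ⟨j, -, hj⟩ := (Nat.dvd_prime_pow hq.out).mp (orderOf_dvd_of_pow_eq_one (congrArg Subtype.val hn : u ^ q ^ n = 1))
    exact ⟨j, hj⟩
  have hnd := h r q hr hq.out hne x u hxo huo
  have hxK : x ∈ K := Subgroup.mem_sup_left (Subgroup.mem_zpowers x)
  have hcK : c ∈ K := mul_mem (Subgroup.mem_sup_right (Subgroup.mem_zpowers _)) (inv_mem hxK)
  have hcU : c ∈ U := by
    rw [hc, mul_assoc u, mul_assoc u]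
    exact mul_mem hu ((Subgroup.mem_normalizer_iff.mp hxU _).mp (inv_mem hu))
  have hc' : x * c * x⁻¹ ∈ K ⊓ U :=
    ⟨show _ ∈ K from mul_mem (mul_mem hxK hcK) (inv_mem hxK), (Subgroup.mem_normalizer_iff.mp hxU c).mp hcU⟩
  rcases eq_or_ne c 1 with h1 | h1
  · rw [h1, mul_one, mul_inv_cancel]; exact one_mem _
  obtain ⟨n, hn⟩ := (hU.to_le (inf_le_right : K ⊓ U ≤ U)).exists_card_eq
  have hle : Nat.card ↥(K ⊓ U) ≤ q := by
    rcases le_or_gt n 1 with hn1 | hn1
    · rw [hn]; calc q ^ n ≤ q ^ 1 := Nat.pow_le_pow_right hq.out.pos hn1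
        _ = q := pow_one q
    · exact absurd ((pow_dvd_pow q (by omega : 2 ≤ n)).trans (hn ▸ Subgroup.card_dvd_of_le inf_le_left)) hnd
  have heq : Subgroup.zpowers c = K ⊓ U := by
    refine Subgroup.eq_of_le_of_card_ge (Subgroup.zpowers_le.mpr ⟨hcK, hcU⟩) (hle.trans ?_)
    obtain ⟨i, hi⟩ := hU.to_le (Subgroup.zpowers_le.mpr hcU) |>.exists_card_eq
    rcases Nat.eq_zero_or_pos i with rfl | hi0
    · exact absurd (orderOf_eq_one_iff.mp (by rw [← Nat.card_zpowers, hi, pow_zero])) h1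
    · rw [hi]; exact Nat.le_self_pow hi0.ne' q
  rw [heq]; exact hc'

/-- An element all of whose prime-power parts lie in `H` lies in `H`. -/
theorem mem_of_parts {G : Type u} [Group G] [Finite G] (H : Subgroup G) :
    ∀ n, ∀ g : G, orderOf g = n → (∀ y ∈ Subgroup.zpowers g, ∀ r e : ℕ, r.Prime → orderOf y = r ^ e → y ∈ H) → g ∈ H := by
  intro n
  induction n using Nat.strong_induction_on with
  | _ n ih =>
    intro g hg hy
    rcases eq_or_ne n 1 with rfl | h1
    · rw [orderOf_eq_one_iff.mp hg]; exact one_mem _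
    have hn0 : n ≠ 0 := hg ▸ (orderOf_pos g).ne'
    obtain ⟨k, m, hm, hnm⟩ := Nat.exists_eq_pow_mul_and_not_dvd hn0 n.minFac (Nat.minFac_prime h1).ne_one
    set r := n.minFac with hr
    have hrp : r.Prime := Nat.minFac_prime h1
    have hk : k ≠ 0 := by
      rintro rfl
      rw [pow_zero, one_mul] at hnm
      exact hm (hnm ▸ Nat.minFac_dvd n)
    rcases eq_or_ne m 1 with rfl | hm1
    · exact hy g (Subgroup.mem_zpowers g) r k hrp (by rw [hg, hnm, mul_one])
    have hm0 : 0 < m := Nat.pos_of_ne_zero (fun e => hn0 (by rw [hnm, e, mul_zero]))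
    have ho1 : orderOf (g ^ r ^ k) = m := by
      rw [orderOf_pow' g (pow_pos hrp.pos k).ne', hg, hnm, Nat.gcd_eq_right (dvd_mul_right _ _),
        Nat.mul_div_cancel_left _ (pow_pos hrp.pos k)]
    have ho2 : orderOf (g ^ m) = r ^ k := by
      rw [orderOf_pow' g hm0.ne', hg, hnm, Nat.gcd_eq_right (dvd_mul_left _ _), Nat.mul_div_cancel _ hm0]
    have hlt1 : m < n := by
      rw [hnm]; exact lt_mul_left hm0 (Nat.one_lt_pow hk hrp.one_lt)
    have h2 : g ^ r ^ k ∈ H := ih m hlt1 _ ho1 fun y hyz => hy y (Subgroup.zpowers_le.mpr (Subgroup.npow_mem_zpowers g _) hyz)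
    have h3 : g ^ m ∈ H := hy _ (Subgroup.npow_mem_zpowers g m) r k hrp ho2
    have hcop : IsCoprime ((r ^ k : ℕ) : ℤ) (m : ℤ) :=
      Nat.isCoprime_iff_coprime.mpr ((hrp.coprime_iff_not_dvd.mpr hm).pow_left k)
    obtain ⟨A, B, hAB⟩ := hcop
    have : g = (g ^ r ^ k) ^ A * (g ^ m) ^ B := by
      rw [← zpow_natCast, ← zpow_natCast, ← zpow_mul, ← zpow_mul, ← zpow_add, mul_comm, mul_comm (m : ℤ), hAB, zpow_one]
    rw [this]
    exact mul_mem (Subgroup.zpow_mem _ h2 A) (Subgroup.zpow_mem _ h3 B)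

/-- For the smallest prime divisor there is a normal complement. -/
theorem frobeniusCond_min {G : Type u} [Group G] [Finite G] (h : Hyp G) {q : ℕ} [hq : Fact q.Prime]
    (hmin : ∀ r : ℕ, r.Prime → r ∣ Nat.card G → q ≤ r) : CfsgLib.FrobeniusCond q G := by
  intro Q hQ g hgN hgc
  refine mem_of_parts _ _ g rfl fun x hx r e hr hxo => ?_
  rcases Nat.eq_zero_or_pos e with rfl | he
  · rw [pow_zero, orderOf_eq_one_iff] at hxo; rw [hxo]; exact one_mem _
  have hxN : x ∈ Subgroup.normalizer (Q : Set G) := Subgroup.zpowers_le.mpr hgN hx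
  have hrdvd : r ∣ orderOf g := (dvd_pow_self r he.ne').trans (hxo ▸ orderOf_dvd_of_mem_zpowers hx)
  have hrq : r ≠ q := fun e' => hq.out.one_lt.ne' (Nat.eq_one_of_dvd_coprimes hgc (e' ▸ hrdvd) dvd_rfl)
  have hlt : q < r := lt_of_le_of_ne (hmin r hr (hrdvd.trans (orderOf_dvd_natCard g))) (Ne.symm hrq)
  refine Subgroup.mem_centralizer_iff.mpr fun u hu => ?_
  have hxe : x ^ r ^ e = 1 := by rw [← hxo, pow_orderOf_eq_one]
  have hline := commutator_line h hr hrq hxe hQ hxN hu
  set c := u * x * u⁻¹ * x⁻¹ with hc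
  suffices hc1 : c = 1 by
    calc u * x = c * x * u := by rw [hc]; group
      _ = x * u := by rw [hc1, one_mul]
  by_contra hc1
  have hcQ : c ∈ Q := by
    rw [hc, mul_assoc u, mul_assoc u]
    exact mul_mem hu ((Subgroup.mem_normalizer_iff.mp hxN _).mp (inv_mem hu))
  obtain ⟨i, hi : c ^ i = x * c * x⁻¹⟩ := hline
  -- order of `c`
  have hcomm : x * c * x⁻¹ = c := by
    have hpow : ∀ n : ℕ, x ^ n * c * (x ^ n)⁻¹ = c ^ (i ^ n) := by
      intro n
      induction n with
      | zero => simp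
      | succ n ih =>
        calc x ^ (n + 1) * c * (x ^ (n + 1))⁻¹ = x * (x ^ n * c * (x ^ n)⁻¹) * x⁻¹ := by rw [pow_succ']; group
          _ = (x * c * x⁻¹) ^ (i ^ n) := by rw [ih, conj_zpow]
          _ = _ := by rw [← hi, ← zpow_mul, pow_succ']
    have hoc : orderOf c = q := by
      have hd : Nat.card (Subgroup.zpowers c) ∣ q := by
        have := h r q hr hq.out hrq x u ⟨e, hxo⟩ (by
          obtain ⟨n, hn⟩ := hQ ⟨u, hu⟩
          obtain ⟨j, -, hj⟩ := (Nat.dvd_prime_pow hq.out).mp (orderOf_dvd_of_pow_eq_one (congrArg Subtype.val hn : u ^ q ^ n = 1))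
          exact ⟨j, hj⟩)
        obtain ⟨n, hn⟩ := (hQ.to_le (Subgroup.zpowers_le.mpr hcQ)).exists_card_eq
        rcases le_or_gt n 1 with hn1 | hn1
        · rw [hn]; exact (pow_dvd_pow q hn1).trans (pow_one q).dvd
        · refine absurd ((pow_dvd_pow q (by omega : 2 ≤ n)).trans (hn ▸ Subgroup.card_dvd_of_le ?_)) this
          exact Subgroup.zpowers_le.mpr (mul_mem (Subgroup.mem_sup_right (Subgroup.mem_zpowers _))
            (inv_mem (Subgroup.mem_sup_left (Subgroup.mem_zpowers x))))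
      rw [Nat.card_zpowers] at hd
      exact ((Nat.dvd_prime hq.out).mp hd).resolve_left fun e => hc1 (orderOf_eq_one_iff.mp e)
    have h1 := hpow (r ^ e)
    rw [hxe, one_mul, inv_one, mul_one] at h1
    have h2 : ((i ^ r ^ e : ℤ) : ZMod q) = ((1 : ℤ) : ZMod q) := by
      rw [ZMod.intCast_eq_intCast_iff_dvd_sub, ← hoc, orderOf_dvd_iff_zpow_eq_one, zpow_sub, ← h1, zpow_one,
        mul_inv_cancel]
    push_cast at h2
    have h3 : (i : ZMod q) ≠ 0 := fun h0 => by
      rw [h0, zero_pow (pow_pos hr.pos e).ne'] at h2; exact zero_ne_one h2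
    have h4 : (i : ZMod q) ^ (q - 1) = 1 := ZMod.pow_card_sub_one_eq_one h3
    have hcop : (r ^ e).Coprime (q - 1) := by
      refine (hr.coprime_iff_not_dvd.mpr fun hd => ?_).pow_left e
      have := Nat.le_of_dvd (by have := hq.out.two_le; omega) hd
      omega
    have h5 : (i : ZMod q) = 1 := orderOf_eq_one_iff.mp (Nat.eq_one_of_dvd_coprimes hcop
      (orderOf_dvd_of_pow_eq_one h2) (orderOf_dvd_of_pow_eq_one h4))
    have h6 : ((i : ℤ) : ZMod q) = ((1 : ℤ) : ZMod q) := by push_cast; exact h5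
    rw [ZMod.intCast_eq_intCast_iff_dvd_sub, ← hoc, orderOf_dvd_iff_zpow_eq_one, zpow_sub, zpow_one, mul_inv_eq_one] at h6
    rw [← hi]; exact h6.symm
  have hc2 : Commute c x := by
    show c * x = x * c
    calc c * x = x * c * x⁻¹ * x := by rw [hcomm]
      _ = x * c := by group
  have h7 : (u * x * u⁻¹) ^ r ^ e = 1 := by rw [conj_pow, hxe, mul_one, mul_inv_cancel]
  rw [show u * x * u⁻¹ = c * x by rw [hc]; group, hc2.mul_pow, hxe, mul_one] at h7
  obtain ⟨n, hn⟩ := hQ ⟨c, hcQ⟩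
  exact hc1 (orderOf_eq_one_iff.mp (Nat.eq_one_of_dvd_coprimes
    (((Nat.coprime_primes hr hq.out).mpr hrq).pow e n)
    (orderOf_dvd_of_pow_eq_one h7) (orderOf_dvd_of_pow_eq_one (congrArg Subtype.val hn : c ^ q ^ n = 1))))

theorem main {G : Type u} [Group G] [Finite G] (h : Hyp G) : Cfsg.IsSupersolvable G := by
  induction hn : Nat.card G using Nat.strong_induction_on generalizing G with
  | h n ih =>
    subst hn
    refine CfsgLib.Supersolvable.of_index_prime fun M hM => ?_
    haveI : Nontrivial G := by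
      rcases subsingleton_or_nontrivial G with hs | hs
      · exact absurd (Subsingleton.elim _ _) hM.1
      · exact hs
    haveI hsolv : Group.IsSolvable G := by
      have hq := Nat.minFac_prime (Finite.one_lt_card (α := G)).ne'
      haveI := Fact.mk hq
      have hc := CfsgLib.hasNormalPComplement_of_frobeniusCond (frobeniusCond_min h fun r hr hd =>
        Nat.minFac_le_of_dvd hr.two_le hd)
      have hqg := CfsgLib.isPGroup_quotient_of_hasNormalPComplement hc
      set N := Cfsg.pPrimeCore (Nat.card G).minFac G with hN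
      have hlt : Nat.card N < Nat.card G := by
        refine lt_of_le_of_ne (Nat.le_of_dvd Nat.card_pos N.card_subgroup_dvd_card) fun e => ?_
        have h1 := CfsgLib.card_pPrimeCore_coprime (G := G) (Nat.card G).minFac
        rw [← hN, e] at h1
        exact hq.one_lt.ne' (Nat.eq_one_of_dvd_coprimes h1 (Nat.minFac_dvd _) dvd_rfl)
      haveI := CfsgLib.Supersolvable.isSolvable (ih _ hlt (hyp_subgroup h N) rfl)
      haveI := hqg.isNilpotent
      exact solvable_of_ker_le_range N.subtype (QuotientGroup.mk' N) (by simp)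
    obtain ⟨N, hNn, -, hN0, hmin⟩ := CfsgLib.Supersolvable.exists_minimal_normal_le (N := (⊤ : Subgroup G)) top_ne_bot
    have hquot : Cfsg.IsSupersolvable (G ⧸ N) :=
      ih _ (CfsgLib.Supersolvable.card_quotient_lt N hN0) (hyp_quotient h N) rfl
    by_cases hNM : N ≤ M
    · rw [← CfsgLib.Supersolvable.index_map_eq_of_le hNM]
      exact CfsgLib.Supersolvable.index_prime hquot (CfsgLib.Supersolvable.isCoatom_map_of_le hNM hM)
    obtain ⟨hNc, p, hp, hexp⟩ := CfsgLib.minimal_normal_elementary hN0 inferInstance hmin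
    haveI := Fact.mk hp
    have hNp : IsPGroup p N := fun x => ⟨1, Subtype.ext (by simpa using hexp x x.2)⟩
    have htop : N ⊔ M = ⊤ := hM.2 _ (lt_of_le_of_ne le_sup_right fun e => hNM (e ▸ le_sup_left))
    have hcomm : ∀ a ∈ N, ∀ b ∈ N, a * b = b * a := fun a ha b hb => setLike_mul_comm ha hb
    have hdec : ∀ g : G, ∃ n ∈ N, ∃ m ∈ M, n * m = g := fun g =>
      Subgroup.mem_sup_of_normal_left.mp (htop ▸ Subgroup.mem_top g)
    have hMU : ∀ U : Subgroup G, U ≤ N → (∀ m ∈ M, ∀ u ∈ U, m * u * m⁻¹ ∈ U) → U = ⊥ ∨ U = N := by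
      intro U hUN hU
      refine hmin U ⟨fun u hu g => ?_⟩ hUN
      obtain ⟨n, hn, m, hm, rfl⟩ := hdec g
      have h2 := hU m hm u hu
      have e : n * m * u * (n * m)⁻¹ = n * (m * u * m⁻¹) * n⁻¹ := by group
      rw [e, hcomm n hn _ (hUN h2), mul_inv_cancel_right]; exact h2
    have hd : M ⊓ N = ⊥ := by
      rcases hMU (M ⊓ N) inf_le_right (fun m hm u hu =>
        ⟨show _ ∈ M from mul_mem (mul_mem hm hu.1) (inv_mem hm), hNn.conj_mem u hu.2 m⟩) with e | e
      · exact e
      · exact absurd (e ▸ inf_le_left) hNM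
    have hidx : M.index = Nat.card N := by
      have hc : Subgroup.IsComplement' N M := by
        refine Subgroup.isComplement'_of_disjoint_and_mul_eq_univ (disjoint_iff.mpr (by rw [inf_comm]; exact hd)) ?_
        rw [← Subgroup.normal_mul, htop, Subgroup.coe_top]
      exact hc.index_eq_card
    letI : CommGroup ↥N := { (inferInstance : Group ↥N) with mul_comm := fun a b => Subtype.ext (hcomm a a.2 b b.2) }
    haveI : Nontrivial N := (Subgroup.nontrivial_iff_ne_bot N).mpr hN0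
    let φ : M →* MulAut N := (MulAut.conjNormal (H := N)).comp M.subtype
    have hφ : ∀ (m : M) (v : N), ((φ m v : N) : G) = m * v * (m : G)⁻¹ := fun m v => MulAut.conjNormal_apply _ _
    have hMlt : Nat.card M < Nat.card G := by
      rw [← M.card_mul_index, hidx]
      exact lt_mul_of_one_lt_right Nat.card_pos Finite.one_lt_card
    have hMss := ih _ hMlt (hyp_subgroup h M) rfl
    have hirr : ∀ U : Subgroup N, (∀ g ∈ φ.range, ∀ u ∈ U, g u ∈ U) → U = ⊥ ∨ U = ⊤ := by
      intro U hU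
      rcases hMU (U.map N.subtype) (Subgroup.map_subtype_le U) (by
        rintro m hm _ ⟨u, hu, rfl⟩
        exact ⟨φ ⟨m, hm⟩ u, hU _ ⟨_, rfl⟩ u hu, hφ ⟨m, hm⟩ u⟩) with e | e
      · exact Or.inl ((Subgroup.map_eq_bot_iff_of_injective _ N.subtype_injective).mp e)
      · refine Or.inr (Subgroup.map_injective N.subtype_injective ?_)
        rw [e, ← MonoidHom.range_eq_map, Subgroup.range_subtype]
    have hall := CfsgLib.PairScalar.isPow_of_irreducible (p := p) (V := ↥N)
      (fun v => Subtype.ext (by simpa using hexp v v.2)) φ.range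
      (CfsgLib.Supersolvable.of_surjective φ.rangeRestrict_surjective hMss) hirr (by
        rintro _ ⟨m, rfl⟩ r e hr hrp hord v
        haveI := Fact.mk hr
        obtain ⟨j, -, hj⟩ := (Nat.dvd_prime_pow hr).mp (orderOf_dvd_of_pow_eq_one (x := φ.rangeRestrict m) (n := r ^ e)
          (Subtype.ext (by simpa using hord)))
        obtain ⟨x, hx, a, hxa⟩ := exists_lift φ.rangeRestrict φ.rangeRestrict_surjective hj
        have hφx : φ x = φ m := congrArg Subtype.val hx
        rw [← hφx]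
        have hxe : (x : G) ^ r ^ a = 1 := by
          rw [← SubmonoidClass.coe_pow, ← hxa, pow_orderOf_eq_one]; rfl
        have hline := commutator_line h hr hrp hxe hNp (by rw [Subgroup.normalizer_eq_top]; trivial) v.2
        set c := (v : G) * x * (v : G)⁻¹ * (x : G)⁻¹ with hc
        have hd' : ((CfsgLib.PairScalar.dd (φ x) v : N) : G) = c⁻¹ := by
          rw [CfsgLib.PairScalar.dd_apply, Subgroup.coe_mul, Subgroup.coe_inv, hφ, hc]; group
        obtain ⟨i, hi : c ^ i = (x : G) * c * (x : G)⁻¹⟩ := hline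
        refine ⟨i, Subtype.ext ?_⟩
        show ((CfsgLib.PairScalar.dd (φ x) v ^ i : N) : G) = _
        rw [Subgroup.coe_zpow, hφ, hd', inv_zpow, hi]; group)
    -- all subgroups of `N` are normal
    obtain ⟨z, hz⟩ := exists_prime_orderOf_dvd_card' (G := N) p (by
      obtain ⟨k, hk, hc⟩ := hNp.nontrivial_iff_card.mp inferInstance
      rw [hc]; exact dvd_pow_self p hk.ne')
    rcases hirr (Subgroup.zpowers z) (fun g hg u hu => by
        exact Subgroup.zpowers_le.mpr hu (hall g hg u)) with e | e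
    · rw [Subgroup.zpowers_eq_bot] at e; rw [e, orderOf_one] at hz; exact absurd hz.symm hp.ne_one
    · rw [hidx, ← Subgroup.card_top (G := ↥N), ← e, Nat.card_zpowers, hz]; exact hp

/-- Let G be a finite group such that for every pair of distinct primes p and q, every p-element x and every q-element g of G, the order of the subgroup generated by x and g x g⁻¹ is not divisible by q². Then G is supersolvable. -/
theorem result {G : Type*} [Group G] [Finite G]
    (h : ∀ (p q : ℕ), p.Prime → q.Prime → p ≠ q → ∀ (x g : G), (∃ a : ℕ, orderOf x = p ^ a) → (∃ b : ℕ, orderOf g = q ^ b) →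
      ¬ q ^ 2 ∣ Nat.card ↥(Subgroup.zpowers x ⊔ Subgroup.zpowers (g * x * g⁻¹))) :
    Cfsg.IsSupersolvable G := by
  exact main h

end Cfsg.Agent.S3033
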