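import Cfsg.Statements.S3036
import Cfsg.Agent.Lib.Products
import Cfsg.Agent.Lib.Local

set_option autoImplicit false
open Cfsg

namespace Cfsg.Agent.S3036

open CfsgLib.Products CfsgLib.Local

/-- Let G be a finite non-abelian simple group and A a proper nontrivial subgroup of G. Then |G| > |A| · |C_G(A)|. In particular |G| > |A|² for every nontrivial abelian subgroup A of G. -/
theorem result {G : Type*} [Group G] [Finite G] [IsSimpleGroup G] (hG : ¬ IsMulCommutative G) (A : Subgroup G) (hA1 : A ≠ ⊥) (hA2 : A ≠ ⊤) : Nat.card A * Nat.card ↥(Subgroup.centralizer (A : Set G)) < Nat.card G := by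
  classical
  by_contra hlt
  push Not at hlt
  obtain ⟨M, -, hM'⟩ := (Set.finite_univ (α := Subgroup G)).exists_maximalFor cdMeasure Set.univ
    Set.univ_nonempty
  have hM : ∀ L : Subgroup G, cdMeasure L ≤ cdMeasure M := fun L =>
    (le_total (cdMeasure M) (cdMeasure L)).elim (hM' (Set.mem_univ L)) id
  have hconj : ∀ (H : Subgroup G) (g : G),
      cdMeasure (H.map (MulAut.conj g).toMonoidHom) = cdMeasure H := by
    intro H g
    have e : ∀ K : Subgroup G, Nat.card ↥(K.map (MulAut.conj g).toMonoidHom) = Nat.card K := fun K =>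
      (Nat.card_congr (K.equivMapOfInjective (MulAut.conj g).toMonoidHom
        (MulAut.conj g).injective).toEquiv).symm
    have hc : Subgroup.centralizer ((H.map (MulAut.conj g).toMonoidHom : Subgroup G) : Set G) =
        (Subgroup.centralizer (H : Set G)).map (MulAut.conj g).toMonoidHom := by
      ext x
      simp only [mem_map_conj, Subgroup.mem_centralizer_iff, SetLike.mem_coe]
      constructor
      · intro h y hy
        have := congrArg (fun z => g⁻¹ * z * g) (h (g * y * g⁻¹) (by simpa [mul_assoc] using hy))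
        simpa [mul_assoc] using this
      · intro h y hy
        have := congrArg (fun z => g * z * g⁻¹) (h _ hy)
        simpa [mul_assoc] using this
    rw [cdMeasure, cdMeasure, hc, e, e]
  have hcenter : Subgroup.center G = ⊥ :=
    (Subgroup.Normal.eq_bot_or_eq_top (inferInstance : (Subgroup.center G).Normal)).resolve_right
      fun h => hG ⟨⟨fun a b => (Subgroup.mem_center_iff.1 (h ▸ Subgroup.mem_top b) a)⟩⟩
  have htop : cdMeasure (⊤ : Subgroup G) = Nat.card G := by
    rw [cdMeasure, Subgroup.card_top, Subgroup.coe_top, Subgroup.centralizer_univ, hcenter,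
      Subgroup.card_bot, mul_one]
  have hbot : cdMeasure (⊥ : Subgroup G) = Nat.card G := by
    rw [cdMeasure, Subgroup.card_bot, one_mul]
    have : Subgroup.centralizer ((⊥ : Subgroup G) : Set G) = ⊤ := top_le_iff.1 fun x _ y hy => by
      rw [Subgroup.coe_bot, Set.mem_singleton_iff] at hy; simp [hy]
    rw [this, Subgroup.card_top]
  -- a largest member of the lattice other than `⊤`, closed under conjugation
  have key : ∀ H : Subgroup G, (∀ L : Subgroup G, cdMeasure L ≤ cdMeasure H) → H ≠ ⊤ → H = ⊥ := by
    intro H hH hne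
    obtain ⟨K, hHK, hK⟩ := Finite.exists_le_maximal (p := fun K : Subgroup G =>
      cdMeasure K = cdMeasure H ∧ K ≠ ⊤) ⟨rfl, hne⟩
    have hKmax : ∀ L : Subgroup G, cdMeasure L ≤ cdMeasure K := fun L => hK.1.1 ▸ hH L
    have hnorm : K.Normal := by
      refine Subgroup.normalizer_eq_top_iff.1 (top_le_iff.1 fun g _ => mem_normalizer_of_map_conj_eq ?_)
      set K' := K.map (MulAut.conj g).toMonoidHom with hK'
      obtain ⟨h1, -, h3, -⟩ := cd_closed hKmax (K := K') (fun L => by rw [hconj]; exact hKmax L)
      by_cases ht : K ⊔ K' = ⊤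
      · obtain ⟨y, hy, a, ha, hga⟩ := exists_mul_of_card_eq h3.ge (show g ∈ K ⊔ K' by simp [ht])
        rw [mem_map_conj] at hy
        have hgK : g ∈ K := by
          have h4 := K.mul_mem (K.inv_mem ha) hy
          have h5 : g⁻¹ * y = a⁻¹ := by rw [hga]; group
          have h6 : g⁻¹ * y * g = a⁻¹ * g := by rw [h5]
          rw [h6] at hy
          simpa [mul_assoc] using K.mul_mem ha hy
        exact map_conj_eq_of_mem_normalizer (Subgroup.le_normalizer hgK)
      · have := hK.eq_of_ge (y := K ⊔ K') ⟨h1.trans hK.1.1, ht⟩ le_sup_left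
        refine Subgroup.eq_of_le_of_card_ge (le_sup_right.trans this.le) ?_
        exact (Nat.card_congr (K.equivMapOfInjective (MulAut.conj g).toMonoidHom
          (MulAut.conj g).injective).toEquiv).le
    exact le_bot_iff.1 (hHK.trans
      ((Subgroup.Normal.eq_bot_or_eq_top hnorm).resolve_right hK.1.2).le)
  by_cases hMtop : M = ⊤
  · refine hA1 (key A (fun L => (hM L).trans ?_) hA2)
    rw [hMtop, htop]; exact hlt
  · refine hA1 (key A (fun L => (hM L).trans ?_) hA2)
    rw [key M hM hMtop, hbot]; exact hlt

end Cfsg.Agent.S3036
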