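import Cfsg.Statements.S3037
import Mathlib
import Cfsg.Agent.Lib.Products
import Cfsg.Agent.Lib.Local

set_option autoImplicit false
set_option linter.unusedVariables false
open Cfsg
open scoped commutatorElement

namespace Cfsg.Agent.S3037

/-- Let V and G be subgroups of a finite group with V an elementary abelian p-group (p prime) on which G acts faithfully and irreducibly by conjugation: G normalizes V, G ∩ C(V) = 1, and the only subgroups of V normalized by G are 1 and V. If for some nontrivial subgroup A of G and some real α > 0 one has |V| ≤ |A|^α · |C_V(A)|, then |V| ≤ |G|^α. -/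
theorem result {X : Type*} [Group X] [Finite X] {p : ℕ} [Fact p.Prime] (V G : Subgroup X) (hV : Cfsg.IsElementaryAbelian p V)
    (hGV : G ≤ Subgroup.normalizer (V : Set X)) (hfaith : G ⊓ Subgroup.centralizer (V : Set X) = ⊥)
    (hirr : ∀ W : Subgroup X, W ≤ V → G ≤ Subgroup.normalizer (W : Set X) → W = ⊥ ∨ W = V)
    (A : Subgroup X) (hA : A ≤ G) (hA1 : A ≠ ⊥) (α : ℝ) (hα : 0 < α)
    (hbig : (Nat.card V : ℝ) ≤ (Nat.card A : ℝ) ^ α * (Nat.card ↥(V ⊓ Subgroup.centralizer (A : Set X)) : ℝ)) :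
    (Nat.card V : ℝ) ≤ (Nat.card G : ℝ) ^ α := by
  set CV : Subgroup X → Subgroup X := fun B => V ⊓ Subgroup.centralizer (B : Set X) with hCV
  set f : Subgroup X → ℝ := fun B => (Nat.card B : ℝ) ^ α * (Nat.card (CV B) : ℝ) with hf
  have hpos : ∀ B, 0 < f B := fun B => mul_pos (Real.rpow_pos_of_pos (by exact_mod_cast Nat.card_pos) α) (by exact_mod_cast Nat.card_pos)
  have hmod : ∀ H B : Subgroup X, f H * f B ≤ f (H ⊔ B) * f (H ⊓ B) := by
    intro H B
    have h1 : (Nat.card H : ℝ) * Nat.card B ≤ Nat.card ↥(H ⊔ B) * Nat.card ↥(H ⊓ B) := by exact_mod_cast CfsgLib.Products.card_mul_card_le H B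
    have h2 : (Nat.card (CV H) : ℝ) * Nat.card (CV B) ≤ Nat.card (CV (H ⊔ B)) * Nat.card (CV (H ⊓ B)) := by
      have h3 := CfsgLib.Products.card_mul_card_le (CV H) (CV B)
      have e : CV H ⊓ CV B = CV (H ⊔ B) := by
        rw [hCV]; dsimp only
        rw [CfsgLib.Products.centralizer_sup]
        ext z; simp only [Subgroup.mem_inf]; tauto
      have hle : CV H ⊔ CV B ≤ CV (H ⊓ B) := sup_le
        (inf_le_inf_left _ (Subgroup.centralizer_le (show ((H ⊓ B : Subgroup X) : Set X) ⊆ H from inf_le_left)))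
        (inf_le_inf_left _ (Subgroup.centralizer_le (show ((H ⊓ B : Subgroup X) : Set X) ⊆ B from inf_le_right)))
      rw [e, mul_comm (Nat.card ↥(CV H ⊔ CV B))] at h3
      exact_mod_cast h3.trans (Nat.mul_le_mul_left _ (Subgroup.card_le_of_le hle))
    calc f H * f B = ((Nat.card H : ℝ) * Nat.card B) ^ α * ((Nat.card (CV H) : ℝ) * Nat.card (CV B)) := by
          rw [Real.mul_rpow (Nat.cast_nonneg _) (Nat.cast_nonneg _), hf]; ring
      _ ≤ ((Nat.card ↥(H ⊔ B) : ℝ) * Nat.card ↥(H ⊓ B)) ^ α * ((Nat.card (CV (H ⊔ B)) : ℝ) * Nat.card (CV (H ⊓ B))) :=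
          mul_le_mul (Real.rpow_le_rpow (by positivity) h1 hα.le) h2 (by positivity) (by positivity)
      _ = f (H ⊔ B) * f (H ⊓ B) := by
          rw [Real.mul_rpow (Nat.cast_nonneg _) (Nat.cast_nonneg _), hf]; ring
  haveI : Nonempty {B : Subgroup X // B ≤ G} := ⟨⟨⊥, bot_le⟩⟩
  obtain ⟨⟨B₀, hB₀⟩, hmax⟩ := Finite.exists_max (fun B : {B : Subgroup X // B ≤ G} => f B.1)
  set S := {B : Subgroup X | B ≤ G ∧ f B = f B₀} with hS
  have hsup : ∀ H ∈ S, ∀ B ∈ S, H ⊔ B ∈ S := by
    rintro H ⟨hHG, hH⟩ B ⟨hBG, hB⟩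
    refine ⟨sup_le hHG hBG, le_antisymm (hmax ⟨_, sup_le hHG hBG⟩) ?_⟩
    have h1 := hmod H B
    have h2 : f (H ⊓ B) ≤ f B₀ := hmax ⟨_, inf_le_left.trans hHG⟩
    rw [hH, hB] at h1
    exact le_of_mul_le_mul_right (h1.trans (mul_le_mul_of_nonneg_left h2 (hpos _).le)) (hpos _)
  obtain ⟨K, hK, hKmax⟩ := (Set.toFinite S).exists_maximal ⟨B₀, hB₀, rfl⟩
  have hKall : ∀ B ∈ S, B ≤ K := fun B hB => le_sup_right.trans (hKmax (hsup K hK B hB) le_sup_left)
  have hKn : ∀ g ∈ G, K.map (MulAut.conj g).toMonoidHom = K := by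
    intro g hg
    refine Subgroup.eq_of_le_of_card_ge (hKall _ ⟨?_, ?_⟩) (Subgroup.card_map_of_injective (MulEquiv.injective (MulAut.conj g))).ge
    · exact CfsgLib.Local.map_conj_le fun k hk => G.mul_mem (G.mul_mem hg (hK.1 hk)) (G.inv_mem hg)
    · rw [← hK.2, hf]
      dsimp only
      have hV' := CfsgLib.Local.map_conj_eq_of_mem_normalizer (hGV hg)
      have e : (CV K).map (MulAut.conj g).toMonoidHom = CV (K.map (MulAut.conj g).toMonoidHom) := by
        rw [hCV]; dsimp only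
        rw [Subgroup.map_inf _ _ _ (MulEquiv.injective (MulAut.conj g)), hV']
        congr 1
        ext z
        rw [CfsgLib.Local.mem_map_conj]
        constructor
        · rintro h _ ⟨k, hk, rfl⟩
          show g * k * g⁻¹ * z = z * (g * k * g⁻¹)
          calc g * k * g⁻¹ * z = g * (k * (g⁻¹ * z * g)) * g⁻¹ := by group
            _ = z * (g * k * g⁻¹) := by rw [h k hk]; group
        · intro h k hk
          have h1 : g * k * g⁻¹ * z = z * (g * k * g⁻¹) := h _ ⟨k, hk, rfl⟩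
          calc k * (g⁻¹ * z * g) = g⁻¹ * (g * k * g⁻¹ * z) * g := by group
            _ = g⁻¹ * z * g * k := by rw [h1]; group
      rw [Subgroup.card_map_of_injective (MulEquiv.injective (MulAut.conj g)), ← e,
        Subgroup.card_map_of_injective (MulEquiv.injective (MulAut.conj g))]
  have hbot : f ⊥ = (Nat.card V : ℝ) := by
    rw [hf]; dsimp only
    rw [hCV]; dsimp only
    rw [Subgroup.card_bot, Nat.cast_one, Real.one_rpow, one_mul]
    congr 2
    exact congrArg (fun H : Subgroup X => ↥H) (inf_eq_left.mpr fun v _ => by intro w hw; rw [Subgroup.mem_bot.mp hw]; simp)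
  have hVle : (Nat.card V : ℝ) ≤ f B₀ := hbot ▸ hmax ⟨⊥, bot_le⟩
  have hK1 : K ≠ ⊥ := by
    intro h
    refine hA1 (le_bot_iff.mp (h ▸ hKall A ⟨hA, le_antisymm (hmax ⟨A, hA⟩) ?_⟩))
    rw [← hK.2, h, hbot]
    exact hbig
  rcases hirr (CV K) inf_le_left (fun g hg => CfsgLib.Local.mem_normalizer_of_map_conj_eq (by
      refine Subgroup.eq_of_le_of_card_ge (CfsgLib.Local.map_conj_le fun v hv => ?_) (Subgroup.card_map_of_injective (MulEquiv.injective (MulAut.conj g))).ge
      refine Subgroup.mem_inf.mpr ⟨(Subgroup.mem_normalizer_iff.mp (hGV hg) v).mp (Subgroup.mem_inf.mp hv).1, fun k hk => ?_⟩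
      rw [SetLike.mem_coe, ← hKn g hg, CfsgLib.Local.mem_map_conj] at hk
      have h1 := (Subgroup.mem_inf.mp hv).2 _ hk
      calc k * (g * v * g⁻¹) = g * ((g⁻¹ * k * g) * v) * g⁻¹ := by group
        _ = g * v * g⁻¹ * k := by rw [h1]; group)) with h | h
  · have h2 : f K = (Nat.card K : ℝ) ^ α := by rw [hf]; dsimp only; rw [h, Subgroup.card_bot, Nat.cast_one, mul_one]
    exact (hVle.trans (hK.2.symm.trans h2).le).trans (Real.rpow_le_rpow (Nat.cast_nonneg _) (by exact_mod_cast Subgroup.card_le_of_le hK.1) hα.le)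
  · refine absurd (eq_bot_iff.mpr fun k hk => ?_) hK1
    rw [← hfaith]
    refine Subgroup.mem_inf.mpr ⟨hK.1 hk, fun v hv => ?_⟩
    rw [SetLike.mem_coe, ← h] at hv
    exact ((Subgroup.mem_inf.mp hv).2 k hk).symm

end Cfsg.Agent.S3037
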