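import Cfsg.Statements.S3049
import Cfsg.Agent.Lib.Components
import Cfsg.Agent.Lib.Isolated
import Cfsg.Agent.Lib.Elementary
import Cfsg.Agent.Lib.Fusion.Hyperfocal
import Cfsg.Agent.Lib.Fusion.ConstrainedGroups
import Cfsg.Agent.Lib.Signalizer.OmegaInvariant
import Cfsg.Agent.Lib.Comp.PComp

set_option autoImplicit false
set_option linter.unusedVariables false
open Cfsg
open scoped commutatorElement

namespace Cfsg.Agent.S3049

universe u

variable {G : Type u} [Group G] [Finite G] {p : ℕ} [Fact p.Prime]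

/-- If all elements of order `p` of a Sylow subgroup lie in `⟨x⟩⟨z⟩` with `x` isolated and `z` central, then there is
a normal `p`-complement. -/
theorem complement_of_span (hp : p ≠ 2) (P : Sylow p G) {x z : G} (hx : x ∈ (P : Subgroup G))
    (hxp : x ^ p = 1) (hiso : IsIsolated x) (hz : z ∈ Subgroup.center G)
    (hzP : z ∈ (P : Subgroup G))
    (hspan : ∀ y ∈ (P : Subgroup G), y ^ p = 1 → ∃ i j : ℤ, y = x ^ i * z ^ j) :
    HasNormalPComplement p G := by
  refine Cfsg.FusionSystem.hasNormalPComplement_of_centralizes P fun Q hQ g hg hgp => ?_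
  have hY : (Nat.card (Subgroup.zpowers g)).Coprime p := by rwa [Nat.card_zpowers]
  refine (CfsgLib.Signalizer.centralizes_of_fixed_omega (A := ⊥) hp IsPGroup.of_bot hY bot_le
    (P.2.to_le hQ) bot_le (Subgroup.zpowers_le.mpr hg) ?_) (Subgroup.mem_zpowers g)
  intro r hr _ hrp
  obtain ⟨i, j, rfl⟩ := hspan r (hQ hr) hrp
  have hzc : ∀ w, w * z ^ j = z ^ j * w := fun w => Subgroup.mem_center_iff.mp (zpow_mem hz j) w
  have hgx : Commute g (x ^ i) := by
    by_cases hi : (p : ℤ) ∣ i
    · obtain ⟨k, rfl⟩ := hi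
      rw [zpow_mul, zpow_natCast, hxp, one_zpow]
      exact Commute.one_right g
    obtain ⟨a, b, hab⟩ := ((Nat.prime_iff_prime_int.mp (Fact.out : p.Prime)).coprime_iff_not_dvd.mpr hi).symm
    have h1 : g * (x ^ i * z ^ j) * g⁻¹ ∈ (P : Subgroup G) :=
      hQ ((Subgroup.mem_normalizer_iff.mp hg _).mp hr)
    rw [show g * (x ^ i * z ^ j) * g⁻¹ = (g * x * g⁻¹) ^ i * z ^ j by
      rw [conj_zpow, ← mul_assoc, mul_assoc _ (z ^ j), ← hzc g⁻¹, ← mul_assoc]] at h1
    have h2 : (g * x * g⁻¹) ^ i ∈ (P : Subgroup G) := by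
      simpa using mul_mem h1 (inv_mem (zpow_mem hzP j))
    have h3 : g * x * g⁻¹ ∈ (P : Subgroup G) := by
      have hp1 : (g * x * g⁻¹) ^ p = 1 := by rw [conj_pow, hxp, mul_one, mul_inv_cancel]
      have e : g * x * g⁻¹ = ((g * x * g⁻¹) ^ i) ^ a := by
        rw [← zpow_mul, show i * a = 1 - (p : ℤ) * b by linarith, zpow_sub, zpow_one, zpow_mul,
          zpow_natCast, hp1, one_zpow, inv_one, mul_one]
      rw [e]; exact zpow_mem h2 a
    exact Commute.zpow_right (mul_inv_eq_iff_eq_mul.mp
      (CfsgLib.Local.isolated_unique P.2 hx hiso h3)) i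
  intro y hy
  obtain ⟨k, rfl⟩ := hy
  exact ((hgx.mul_right (hzc g)).zpow_left k).eq

/-- In rank at most two, three commuting elements of order `p` are dependent. -/
theorem span_of_rank (hrank : PRankLE p 2 G) {a b c : G} (ha : a ≠ 1) (hap : a ^ p = 1)
    (hbp : b ^ p = 1) (hcp : c ^ p = 1) (hb : b ∉ Subgroup.zpowers a)
    (hab : Commute a b) (hac : Commute a c) (hbc : Commute b c) :
    ∃ i j : ℤ, c = a ^ i * b ^ j := by
  set E := Subgroup.closure ({a, b} : Set G) with hE
  set F := Subgroup.closure ({a, b, c} : Set G) with hF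
  have hmc : IsMulCommutative F := Subgroup.isMulCommutative_closure (by
    rintro u (rfl | rfl | rfl) v (rfl | rfl | rfl) <;>
      first | rfl | exact hab.eq | exact hab.symm.eq | exact hac.eq | exact hac.symm.eq | exact hbc.eq | exact hbc.symm.eq)
  have hexp : ∀ u ∈ F, u ^ p = 1 := by
    intro u hu
    induction hu using Subgroup.closure_induction with
    | mem w hw => rcases hw with rfl | rfl | rfl <;> assumption
    | one => exact one_pow p
    | mul v w hv hw hv' hw' =>
      have hvw : Commute v w := congrArg Subtype.val (hmc.is_comm.comm (⟨v, hv⟩ : F) ⟨w, hw⟩)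
      rw [hvw.mul_pow, hv', hw', one_mul]
    | inv v _ hv => rw [inv_pow, hv, inv_one]
  have hEF : E ≤ F := Subgroup.closure_mono (by intro u; simp; tauto)
  have hFc : Nat.card F ≤ p ^ 2 := hrank F hmc hexp
  have hEp : IsPGroup p E := fun u => ⟨1, Subtype.ext (by simpa using hexp u (hEF u.2))⟩
  obtain ⟨k, hk⟩ := IsPGroup.iff_card.mp hEp
  have hoa : orderOf a = p := orderOf_eq_prime hap ha
  have hlt : Subgroup.zpowers a < E := by
    refine lt_of_le_of_ne (Subgroup.zpowers_le.mpr (Subgroup.subset_closure (by simp))) fun h => hb ?_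
    rw [h]; exact Subgroup.subset_closure (by simp)
  have hk2 : 2 ≤ k := by
    have h1 : p < Nat.card E := by
      rw [← hoa, ← Nat.card_zpowers]
      rcases lt_or_eq_of_le (Subgroup.card_le_of_le hlt.le) with h | h
      · exact h
      · exact absurd (Subgroup.eq_of_le_of_card_ge hlt.le h.ge) hlt.ne
    rw [hk] at h1
    by_contra hcon
    have h2 : p ^ k ≤ p ^ 1 := Nat.pow_le_pow_right (Fact.out : p.Prime).pos (by omega)
    rw [pow_one] at h2
    omega
  have hEeq : E = F := Subgroup.eq_of_le_of_card_ge hEF (hFc.trans (hk ▸ Nat.pow_le_pow_right (Fact.out : p.Prime).pos hk2))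
  have hc : c ∈ E := hEeq ▸ Subgroup.subset_closure (by simp)
  suffices hgen : ∀ e ∈ E, ∃ i j : ℤ, a ^ i * b ^ j = e by
    obtain ⟨i, j, h⟩ := hgen c hc
    exact ⟨i, j, h.symm⟩
  intro e he
  induction he using Subgroup.closure_induction with
  | mem w hw =>
      rcases hw with rfl | rfl
      · exact ⟨1, 0, by simp⟩
      · exact ⟨0, 1, by simp⟩
  | one => exact ⟨0, 0, by simp⟩
  | mul v w _ _ hv hw =>
      obtain ⟨i, j, rfl⟩ := hv
      obtain ⟨k, l, rfl⟩ := hw
      refine ⟨i + k, j + l, ?_⟩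
      have h := ((hab.zpow_zpow k j).symm).eq
      rw [zpow_add, zpow_add]
      simp only [mul_assoc]
      rw [← mul_assoc (b ^ j), h, mul_assoc]
  | inv v _ hv =>
      obtain ⟨i, j, rfl⟩ := hv
      refine ⟨-i, -j, ?_⟩
      rw [mul_inv_rev, zpow_neg, zpow_neg]
      exact ((hab.zpow_zpow i j).inv_inv).eq

/-- Elements of order `p` in a nontrivial-meeting subgroup. -/
theorem exists_ord {H : Subgroup G} (hH : IsPGroup p H) (hne : H ≠ ⊥) : ∃ a ∈ H, a ≠ 1 ∧ a ^ p = 1 := by
  obtain ⟨k, hk⟩ := IsPGroup.iff_card.mp hH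
  have hk0 : k ≠ 0 := by
    rintro rfl
    exact hne (Subgroup.eq_bot_of_card_eq H (by simpa using hk))
  obtain ⟨a, ha⟩ := exists_prime_orderOf_dvd_card' (G := H) p (hk ▸ dvd_pow_self p hk0)
  refine ⟨a, a.2, fun h => ?_, by rw [← ha, ← Subgroup.orderOf_coe, pow_orderOf_eq_one]⟩
  rw [orderOf_eq_one_iff.mpr (show a = 1 from Subtype.ext h)] at ha
  exact (Fact.out : p.Prime).ne_one ha.symm

theorem pCore_eq_bot (hp : p ≠ 2) (hcore : pPrimeCore p G = ⊥) (hrank : PRankLE p 2 G) (P : Sylow p G)
    {x : G} (hx : x ∈ (P : Subgroup G)) (hxp : x ^ p = 1) (hiso : IsIsolated x)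
    (hnc : x ∉ Subgroup.center G) : pCore p G = ⊥ := by
  by_contra hne
  have hRP : pCore p G ≤ (P : Subgroup G) := CfsgLib.pCore_le_sylow P
  have hxc := CfsgLib.Local.isolated_central P.2 hx hiso
  have hxR : x ∉ pCore p G := fun h => hnc (Subgroup.mem_center_iff.mpr fun g =>
    mul_inv_eq_iff_eq_mul.mp (CfsgLib.Local.isolated_unique P.2 hx hiso
      (hRP ((inferInstance : (pCore p G).Normal).conj_mem x h g))))
  haveI := P.2.isNilpotent
  haveI : ((pCore p G).subgroupOf (P : Subgroup G)).Normal := Subgroup.normal_subgroupOf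
  have hne' : (pCore p G).subgroupOf (P : Subgroup G) ⊓ Subgroup.center (P : Subgroup G) ≠ ⊥ :=
    CfsgLib.inf_center_ne_bot_of_nilpotent (fun h => hne (by
      rwa [Subgroup.subgroupOf_eq_bot, disjoint_iff, inf_eq_left.mpr hRP] at h))
  obtain ⟨z0, hz0, hz1, hzp⟩ := exists_ord (P.2.to_subgroup _) hne'
  obtain ⟨z, hzP, rfl⟩ : ∃ z, ∃ hz : z ∈ (P : Subgroup G), z0 = ⟨z, hz⟩ := ⟨z0, z0.2, rfl⟩
  have hzR : z ∈ pCore p G := Subgroup.mem_subgroupOf.mp hz0.1
  have hzc : ∀ y ∈ (P : Subgroup G), Commute y z := fun y hy =>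
    congrArg Subtype.val (Subgroup.mem_center_iff.mp hz0.2 ⟨y, hy⟩)
  have hz1' : z ≠ 1 := fun h => hz1 (Subtype.ext h)
  have hzp' : z ^ p = 1 := congrArg Subtype.val hzp
  have hxz : x ∉ Subgroup.zpowers z := fun h => hxR (Subgroup.zpowers_le.mpr hzR h)
  have hspan : ∀ y ∈ (P : Subgroup G), y ^ p = 1 → ∃ i j : ℤ, y = x ^ i * z ^ j := by
    intro y hy hyp
    obtain ⟨i, j, h⟩ := span_of_rank hrank hz1' hzp' hxp hyp hxz (hzc x hx).symm (hzc y hy).symm (hxc y hy).symm
    exact ⟨j, i, h.trans ((hzc x hx).symm.zpow_zpow i j).eq⟩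
  set C := Subgroup.centralizer (Subgroup.zpowers z : Set G) with hCdef
  haveI hZn : (Subgroup.zpowers z).Normal := by
    refine ⟨fun w hw g => ?_⟩
    obtain ⟨k, rfl⟩ := hw
    have hm : g * z ^ k * g⁻¹ ∈ pCore p G :=
      (inferInstance : (pCore p G).Normal).conj_mem _ (zpow_mem hzR k) g
    obtain ⟨i, j, h⟩ := hspan _ (hRP hm) (by
      rw [conj_pow, ← zpow_natCast, zpow_comm, zpow_natCast, hzp', one_zpow, mul_one, mul_inv_cancel])
    show g * z ^ k * g⁻¹ ∈ Subgroup.zpowers z
    have hxi : x ^ i ∈ pCore p G := by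
      rw [← mul_inv_cancel_right (x ^ i) (z ^ j), ← h]
      exact mul_mem hm (inv_mem (zpow_mem hzR j))
    have hxi1 : x ^ i = 1 := by
      by_contra hne1
      apply hxR
      have hzm : Subgroup.zpowers (x ^ i) = Subgroup.zpowers x := by
        refine Subgroup.eq_of_le_of_card_ge (Subgroup.zpowers_le.mpr ⟨i, rfl⟩) ?_
        rw [Nat.card_zpowers, Nat.card_zpowers, orderOf_eq_prime hxp (fun h => hne1 (by rw [h, one_zpow])),
          orderOf_eq_prime (by rw [← zpow_natCast, zpow_comm, zpow_natCast, hxp, one_zpow]) hne1]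
      exact Subgroup.zpowers_le.mpr hxi (hzm ▸ Subgroup.mem_zpowers x)
    rw [h, hxi1, one_mul]
    exact ⟨j, rfl⟩
  haveI hCn : C.Normal := Subgroup.normal_centralizer
  have hPC : (P : Subgroup G) ≤ C := fun y hy w hw => by
    obtain ⟨k, rfl⟩ := hw
    exact ((hzc y hy).zpow_right k).symm.eq
  have hzC : (⟨z, hPC hzP⟩ : C) ∈ Subgroup.center C := Subgroup.mem_center_iff.mpr fun w =>
    Subtype.ext (w.2 z (Subgroup.mem_zpowers z)).symm
  have hisoC : IsIsolated (⟨x, hPC hx⟩ : C) := fun g hg =>
    Subtype.ext (hiso g (congrArg Subtype.val hg))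
  have hCC : HasNormalPComplement p C := complement_of_span hp (P.subtype hPC)
    (x := ⟨x, hPC hx⟩) (z := ⟨z, hPC hzP⟩) hx (Subtype.ext hxp) hisoC hzC hzP (fun y hy hyp => by
      obtain ⟨i, j, h⟩ := hspan (y : G) hy (congrArg Subtype.val hyp)
      exact ⟨i, j, Subtype.ext (by simpa using h)⟩)
  obtain ⟨Q, N, hN, hNQ⟩ := hCC
  have hNco : (Nat.card N).Coprime p := by
    refine (Nat.Coprime.symm ((Fact.out : p.Prime).coprime_iff_not_dvd.mpr ?_))
    rw [← hNQ.index_eq_card]
    exact Q.not_dvd_index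
  have hNbot : N = ⊥ := by
    have h1 : N ≤ pPrimeCore p C := CfsgLib.le_pPrimeCore hNco
    have h2 : (pPrimeCore p C).map C.subtype ≤ pPrimeCore p G := CfsgLib.map_pPrimeCore_le p C
    rw [hcore, le_bot_iff, Subgroup.map_eq_bot_iff_of_injective _ C.subtype_injective] at h2
    exact le_bot_iff.mp (h2 ▸ h1)
  have hCp : IsPGroup p C := by
    obtain ⟨k, hk⟩ := IsPGroup.iff_card.mp Q.2
    refine IsPGroup.of_card (n := k) ?_
    rw [← hNQ.card_mul, hNbot, Subgroup.card_bot, one_mul, hk]
  exact hxR (CfsgLib.le_pCore hCp (hPC hx))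

theorem isolated_left {x a b : G} {L K : Subgroup G} {i j : ℤ} (hx : x = a ^ i * b ^ j) (ha : a ∈ K) (hb : b ∈ L)
    (hiso : IsIsolated x) (hKL : ∀ u ∈ K, ∀ v ∈ L, Commute u v) :
    IsIsolated (⟨a ^ i, zpow_mem ha i⟩ : K) := by
  intro g hg
  have h1 : Commute (a ^ i) ((g : G) * a ^ i * (g : G)⁻¹) := congrArg Subtype.val hg
  have hga : (g : G) * a ^ i * (g : G)⁻¹ ∈ K := mul_mem (mul_mem g.2 (zpow_mem ha i)) (inv_mem g.2)
  have hgb : Commute (g : G) (b ^ j) := hKL _ g.2 _ (zpow_mem hb j)
  have e : (g : G) * x * (g : G)⁻¹ = ((g : G) * a ^ i * (g : G)⁻¹) * b ^ j := by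
    rw [hx, mul_assoc, mul_assoc, mul_assoc, mul_assoc, hgb.inv_left.eq]
  have h2 := hiso g (by
    rw [e, hx]
    exact Commute.mul_left (h1.mul_right (hKL _ (zpow_mem ha i) _ (zpow_mem hb j)))
      ((hKL _ hga _ (zpow_mem hb j)).symm.mul_right (Commute.refl _)))
  rw [e, hx, mul_left_inj] at h2
  exact Subtype.ext h2

/-- Let G be a finite group and p an odd prime with O_{p'}(G) = 1. Suppose that G has p-rank at most 2 (no elementary abelian subgroup of order p³) and that some element x of order p is isolated in G (no G-conjugate of x other than x commutes with x) and not central. Then the generalized Fitting subgroup F*(G) is a non-abelian simple group. Since O_{p'}(G) = 1, such an x is not central modulo O_{p'}(G): the hypotheses describe a counterexample to the Z*_p statement in p-rank at most 2. -/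
theorem result {G : Type*} [Group G] [Finite G] {p : ℕ} [Fact p.Prime] (hp : p ≠ 2) (hcore : Cfsg.pPrimeCore p G = ⊥)
    (hrank : Cfsg.PRankLE p 2 G) (x : G) (hx : orderOf x = p) (hiso : Cfsg.IsIsolated x) (hnc : x ∉ Subgroup.center G) :
    IsSimpleGroup ↥(Cfsg.generalizedFittingSubgroup G) ∧ ¬ IsMulCommutative ↥(Cfsg.generalizedFittingSubgroup G) := by
    classical
    have hxp : x ^ p = 1 := hx ▸ pow_orderOf_eq_one x
    have hx1 : x ≠ 1 := fun h => (Fact.out : p.Prime).ne_one (by rw [← hx, h, orderOf_one])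
    obtain ⟨P, hP⟩ := (IsPGroup.of_card (p := p) (n := 1)
      (by rw [Nat.card_zpowers, hx, pow_one]) : IsPGroup p (Subgroup.zpowers x)).exists_le_sylow
    have hxP : x ∈ (P : Subgroup G) := hP (Subgroup.mem_zpowers x)
    have hxc := CfsgLib.Local.isolated_central P.2 hxP hiso
    have hR := pCore_eq_bot hp hcore hrank P hxP hxp hiso hnc
    have hF : fittingSubgroup G = ⊥ := by
      rw [CfsgLib.fittingSubgroup_eq_iSup_pCore, iSup_eq_bot]
      intro q
      by_cases hq : (q : ℕ) = p
      · rw [hq]; exact hR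
      · haveI := Fact.mk q.2
        refine le_bot_iff.mp (hcore ▸ CfsgLib.le_pPrimeCore ?_)
        obtain ⟨k, hk⟩ := IsPGroup.iff_card.mp (CfsgLib.isPGroup_pCore (G := G) (q : ℕ))
        rw [hk]
        exact Nat.Coprime.pow_left k ((Nat.coprime_primes q.2 Fact.out).mpr hq)
    have hFs : generalizedFittingSubgroup G = layer G := by
      show layer G ⊔ fittingSubgroup G = layer G
      rw [hF, sup_bot_eq]
    have hsimple : ∀ K : Subgroup G, IsComponent K → IsSimpleGroup K := by
      intro K hK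
      have hZ : Subgroup.center K = ⊥ := by
        haveI : Group.IsNilpotent (Subgroup.center K) := by
          letI : CommGroup (Subgroup.center K) := { (inferInstance : Group (Subgroup.center K)) with
            mul_comm := fun u v => Subtype.ext ((Subgroup.mem_center_iff.mp v.2) u.1) }
          exact inferInstance
        have h1 : (Subgroup.center K).map K.subtype ≤ fittingSubgroup G :=
          CfsgLib.isSubnormal_nilpotent_le_fitting
            ((Subgroup.Normal.isSubnormal inferInstance : (Subgroup.center K).IsSubnormal).trans' hK.1)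
            (Group.nilpotent_of_mulEquiv (Subgroup.equivMapOfInjective _ _ K.subtype_injective))
        rwa [hF, le_bot_iff, Subgroup.map_eq_bot_iff_of_injective _ K.subtype_injective] at h1
      haveI := hK.2.2
      haveI : Nontrivial K := CfsgLib.isQuasisimple_nontrivial hK.2
      exact ((QuotientGroup.quotientMulEquivOfEq hZ).trans QuotientGroup.quotientBot).symm.isSimpleGroup
    have hdvd : ∀ K : Subgroup G, IsComponent K → K ⊓ (P : Subgroup G) ≠ ⊥ := by
      intro K hK hbot
      obtain ⟨-, -, hidx⟩ := Cfsg.FusionSystem.isSylowIn_inf_of_isSubnormal P hK.1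
      rw [inf_comm, hbot, Subgroup.relIndex_bot_left] at hidx
      exact CfsgLib.isComponent_ne_bot hK (le_bot_iff.mp (hcore ▸ CfsgLib.Comp.subnormal_coprime_le hK.1
        ((Fact.out : p.Prime).coprime_iff_not_dvd.mpr hidx).symm))
    have huniq : ∀ K L : Subgroup G, IsComponent K → IsComponent L → K = L := by
      intro K L hK hL
      by_contra hne
      have hKL0 := (CfsgLib.components_eq_or_commute hK hL).resolve_left hne
      have hKL : ∀ u ∈ K, ∀ v ∈ L, Commute u v := fun u hu v hv => by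
        rw [← commutatorElement_eq_one_iff_commute, ← Subgroup.mem_bot, ← hKL0]
        exact Subgroup.commutator_mem_commutator hu hv
      have hdisj : ∀ u, u ∈ K → u ∈ L → u = 1 := by
        intro u hu hu'
        have h0 : (⟨u, hu⟩ : K) ∈ Subgroup.center K :=
          Subgroup.mem_center_iff.mpr fun w => Subtype.ext (hKL _ w.2 u hu').eq
        have h1 : Subgroup.center K = ⊥ := by
          haveI := hsimple K hK
          rcases (inferInstance : (Subgroup.center K).Normal).eq_bot_or_eq_top with h | h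
          · exact h
          · exfalso
            refine CfsgLib.isQuasisimple_not_isSolvable hK.2 (Group.isSolvable_of_comm fun a b => ?_)
            exact (Subgroup.mem_center_iff.mp (h ▸ Subgroup.mem_top a) b).symm
        rw [h1, Subgroup.mem_bot] at h0
        exact congrArg Subtype.val h0
      obtain ⟨a, ha, ha1, hap⟩ := exists_ord (P.2.to_le inf_le_right) (hdvd K hK)
      obtain ⟨b, hb, hb1, hbp⟩ := exists_ord (P.2.to_le inf_le_right) (hdvd L hL)
      have hba : b ∉ Subgroup.zpowers a := fun h => hb1 (hdisj b (Subgroup.zpowers_le.mpr ha.1 h) hb.1)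
      obtain ⟨i, j, hxe⟩ := span_of_rank hrank ha1 hap hbp hxp hba (hKL _ ha.1 _ hb.1)
        (hxc a ha.2) (hxc b hb.2)
      -- one of the two exponents is not divisible by `p`
      have main : ∀ (K L : Subgroup G) (a b : G) (i j : ℤ), IsComponent K → a ∈ K ⊓ (P : Subgroup G) →
          b ∈ L ⊓ (P : Subgroup G) → b ≠ 1 → a ^ p = 1 → b ^ p = 1 → (∀ u ∈ K, ∀ v ∈ L, Commute u v) →
          (∀ u, u ∈ K → u ∈ L → u = 1) → x = a ^ i * b ^ j → a ^ i = 1 := by
        intro K L a b i j hK ha hb hb1 hap hbp hKL hdisj hxe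
        by_contra hai
        have hisoK := isolated_left hxe ha.1 hb.1 hiso hKL
        haveI := hsimple K hK
        obtain ⟨hle, hpg, hidx⟩ := Cfsg.FusionSystem.isSylowIn_inf_of_isSubnormal P hK.1
        set Q0 := ((P : Subgroup G) ⊓ K).subgroupOf K with hQ0
        have hQ0p : IsPGroup p Q0 := hpg.of_equiv (Subgroup.subgroupOfEquivOfLe hle).symm
        have haiP : a ^ i ∈ (P : Subgroup G) ⊓ K := ⟨Subgroup.zpow_mem _ ha.2 i, Subgroup.zpow_mem _ ha.1 i⟩
        have haip : (a ^ i) ^ p = 1 := by rw [← zpow_natCast, zpow_comm, zpow_natCast, hap, one_zpow]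
        have hbai : (b : G) ∉ Subgroup.zpowers (a ^ i) := fun h =>
          hb1 (hdisj b (Subgroup.zpowers_le.mpr haiP.2 h) hb.1)
        have hc := complement_of_span hp (hQ0p.toSylow hidx) (G := K) (x := ⟨a ^ i, Subgroup.zpow_mem _ ha.1 i⟩) (z := 1)
          haiP (Subtype.ext haip) hisoK (Subgroup.one_mem _) (Subgroup.one_mem _) (by
            intro y hy hyp
            have hy' : (y : G) ∈ (P : Subgroup G) ⊓ K := hy
            have hyp' : (y : G) ^ p = 1 := congrArg Subtype.val hyp
            -- `a ^ i` commutes with `y`, since `x` and `b` do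
            have hyb : Commute (y : G) b := hKL _ y.2 _ hb.1
            have hay : Commute (a ^ i) (y : G) := by
              rw [eq_mul_inv_of_mul_eq hxe.symm]
              exact Commute.mul_left (hxc _ hy'.1).symm (hyb.zpow_right j).symm.inv_left
            obtain ⟨m, n, hmn⟩ := span_of_rank hrank hai haip hbp hyp' hbai
              (hKL _ haiP.2 _ hb.1) hay hyb.symm
            refine ⟨m, 0, Subtype.ext ?_⟩
            have hbn : b ^ n = 1 := hdisj _ (by
              rw [← inv_mul_eq_iff_eq_mul.mpr hmn]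
              exact mul_mem (inv_mem (Subgroup.zpow_mem _ haiP.2 m)) y.2) (Subgroup.zpow_mem _ hb.1 n)
            simpa [hbn] using hmn)
        obtain ⟨Q, N, hN, hNQ⟩ := hc
        rcases hN.eq_bot_or_eq_top with h | h
        · obtain ⟨k, hk⟩ := IsPGroup.iff_card.mp Q.2
          have : IsPGroup p K := IsPGroup.of_card (n := k)
            (by rw [← hNQ.card_mul, h, Subgroup.card_bot, one_mul, hk])
          haveI := this.isNilpotent
          exact CfsgLib.isQuasisimple_not_isSolvable hK.2 inferInstance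
        · have h1 : ¬ p ∣ Nat.card K := by
            have h2 : (Q : Subgroup K) = ⊥ := by
              have := hNQ.disjoint
              rwa [h, top_disjoint] at this
            have h3 := Q.not_dvd_index
            rwa [h2, Subgroup.index_bot] at h3
          refine h1 ?_
          rw [← orderOf_eq_prime haip hai]
          exact Subgroup.orderOf_dvd_natCard _ (Subgroup.zpow_mem _ ha.1 i)
      have h1 := main K L a b i j hK ha hb hb1 hap hbp hKL hdisj hxe
      have h2 := main L K b a j i hL hb ha ha1 hbp hap (fun u hu v hv => (hKL v hv u hu).symm)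
        (fun u hu hu' => hdisj u hu' hu) (hxe.trans ((hKL _ ha.1 _ hb.1).zpow_zpow i j).eq)
      rw [h1, h2, one_mul] at hxe
      exact hx1 hxe
    haveI : Nontrivial G := ⟨⟨x, 1, hx1⟩⟩
    obtain ⟨K, hK⟩ : ∃ K : Subgroup G, IsComponent K := by
      by_contra hcon
      have hL : layer G = ⊥ := by
        rw [layer, sSup_eq_bot]
        exact fun K hK => absurd ⟨K, hK⟩ hcon
      have hcl := CfsgLib.centralizer_generalizedFitting_le (G := G)
      rw [hFs, hL, Subgroup.coe_bot] at hcl
      have : x ∈ (⊥ : Subgroup G) := hcl (by simp [Subgroup.mem_centralizer_iff])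
      exact hx1 (Subgroup.mem_bot.mp this)
    have hLK : layer G = K :=
      le_antisymm (sSup_le fun L hL => (huniq L K hL hK).le) (CfsgLib.le_layer hK)
    rw [hFs, hLK]
    refine ⟨hsimple K hK, fun h => CfsgLib.isQuasisimple_not_isSolvable hK.2
      (Group.isSolvable_of_comm fun a b => h.is_comm.comm a b)⟩

end Cfsg.Agent.S3049
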