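import Cfsg.Statements.S3038
import Cfsg.Agent.S3049
import Cfsg.Agent.Lib.Isolated
import Cfsg.Agent.Lib.Components
import Cfsg.Agent.Lib.Frobenius.UniqueSubgroup
import Cfsg.Agent.Lib.IsolatedRankTwo.Shape

set_option autoImplicit false
open Cfsg
open scoped commutatorElement

namespace Cfsg.Agent.S3038

open Subgroup

theorem isolated_conj {G : Type*} [Group G] {x : G} (h : IsIsolated x) (g : G) : IsIsolated (g * x * g⁻¹) := by
  intro k hk
  have h1 := h (g⁻¹ * k * g) (by
    have := hk.map (MulAut.conj g⁻¹).toMonoidHom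
    simpa [MulAut.conj_apply, mul_assoc] using this)
  calc k * (g * x * g⁻¹) * k⁻¹ = g * (g⁻¹ * k * g * x * (g⁻¹ * k * g)⁻¹) * g⁻¹ := by group
    _ = g * x * g⁻¹ := by rw [h1]


/-- Let G be a finite group and p an odd prime with O_{p'}(G) = 1. Suppose that G has p-rank at most 2 and that some element x of order p is isolated in G and not central. Then F*(G) is a non-abelian simple group, and for every Sylow p-subgroup P of F*(G), either no conjugate of x lies in P and P is cyclic, or some conjugate of x lies in P and either P is extraspecial of order p³ and exponent p, or p = 3 and P has order 3^{2k+1} for some k ≥ 2 and is of maximal class (nilpotency class 2k). Since O_{p'}(G) = 1, such an x is not central modulo O_{p'}(G): the hypotheses describe a counterexample to the Z*_p statement in p-rank at most 2, and the conclusion records the structure it would have. -/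
theorem result {G : Type*} [Group G] [Finite G] {p : ℕ} [Fact p.Prime] (hp : p ≠ 2) (hcore : Cfsg.pPrimeCore p G = ⊥)
    (hrank : Cfsg.PRankLE p 2 G) (x : G) (hx : orderOf x = p) (hiso : Cfsg.IsIsolated x) (hnc : x ∉ Subgroup.center G) :
    IsSimpleGroup ↥(Cfsg.generalizedFittingSubgroup G) ∧ ¬ IsMulCommutative ↥(Cfsg.generalizedFittingSubgroup G) ∧
    ∀ P : Sylow p ↥(Cfsg.generalizedFittingSubgroup G),
      ((∀ g : G, g * x * g⁻¹ ∉ ((P : Subgroup ↥(Cfsg.generalizedFittingSubgroup G)).map (Cfsg.generalizedFittingSubgroup G).subtype)) ∧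
          IsCyclic ↥(P : Subgroup ↥(Cfsg.generalizedFittingSubgroup G))) ∨
      ((∃ g : G, g * x * g⁻¹ ∈ ((P : Subgroup ↥(Cfsg.generalizedFittingSubgroup G)).map (Cfsg.generalizedFittingSubgroup G).subtype)) ∧
        ((Cfsg.IsExtraspecial p ↥(P : Subgroup ↥(Cfsg.generalizedFittingSubgroup G)) ∧
            Nat.card (P : Subgroup ↥(Cfsg.generalizedFittingSubgroup G)) = p ^ 3 ∧
            ∀ y ∈ (P : Subgroup ↥(Cfsg.generalizedFittingSubgroup G)), y ^ p = 1) ∨
         (p = 3 ∧ ∃ k : ℕ, 2 ≤ k ∧ Nat.card (P : Subgroup ↥(Cfsg.generalizedFittingSubgroup G)) = 3 ^ (2 * k + 1) ∧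
            ∃ _ : Group.IsNilpotent ↥(P : Subgroup ↥(Cfsg.generalizedFittingSubgroup G)),
              Group.nilpotencyClass ↥(P : Subgroup ↥(Cfsg.generalizedFittingSubgroup G)) = 2 * k))) := by
  classical
  have hpp : p.Prime := Fact.out
  obtain ⟨hs, hnab⟩ := Cfsg.Agent.S3049.result hp hcore hrank x hx hiso hnc
  set F := Cfsg.generalizedFittingSubgroup G with hF
  haveI := hs
  refine ⟨hs, hnab, fun P => ?_⟩
  set Pm := (P : Subgroup F).map F.subtype with hPm
  have hPmp : IsPGroup p Pm := P.2.map _
  have hrF : Cfsg.PRankLE p 2 F := CfsgLib.IsoRankTwo.prankLE_subgroup hrank F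
  have hrP : Cfsg.PRankLE p 2 (P : Subgroup F) := CfsgLib.IsoRankTwo.prankLE_subgroup hrF _
  by_cases hcase : ∃ g : G, g * x * g⁻¹ ∈ Pm
  · refine Or.inr ⟨hcase, ?_⟩
    obtain ⟨g, y, hy, hyx⟩ := hcase
    change (y : G) = g * x * g⁻¹ at hyx
    have hyo : orderOf y = p := by
      rw [← Subgroup.orderOf_coe, hyx, ← hx]; exact (MulAut.conj g).orderOf_eq x
    have hisoF : IsIsolated y := fun k hk => by
      have h1 := (isolated_conj hiso g) (k : G) (by
        rw [← hyx]; exact congrArg Subtype.val hk)
      rw [← hyx] at h1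
      exact Subtype.ext h1
    have hperf : commutator F = ⊤ := (Subgroup.Normal.eq_bot_or_eq_top inferInstance).resolve_left fun h => hnab
      ⟨⟨fun a b => commutatorElement_eq_one_iff_mul_comm.mp (by
        rw [← Subgroup.mem_bot, ← h, commutator_def]
        exact commutator_mem_commutator (mem_top a) (mem_top b))⟩⟩
    set Nn := normalizer ((P : Subgroup F) : Set F) with hNn
    have hPN : (P : Subgroup F) ≤ Nn := le_normalizer
    set T := (P : Subgroup F).subgroupOf Nn with hTdef
    haveI : T.Normal := normal_in_normalizer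
    have hidx : ¬ p ∣ T.index := fun h => P.not_dvd_index (h.trans (relIndex_dvd_index_of_le hPN))
    have hT : IsPGroup p T := P.2.of_equiv (subgroupOfEquivOfLe hPN).symm
    have hrT : Cfsg.PRankLE p 2 T :=
      CfsgLib.IsoRankTwo.prankLE_subgroup (CfsgLib.IsoRankTwo.prankLE_subgroup hrF Nn) T
    have hcom : T ≤ commutator Nn := by
      intro t ht
      have h1 := CfsgLib.IsoRankTwo.sylow_le_commutator_normalizer hp hperf P hrP ht
      rw [← hNn, ← map_subtype_commutator] at h1
      exact (mem_map_iff_mem Nn.subtype_injective).mp h1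
    have hxT : (⟨y, hPN hy⟩ : Nn) ∈ T := hy
    have hxc : (⟨y, hPN hy⟩ : Nn) ∈ center Nn := mem_center_iff.mpr fun k => Subtype.ext (
      mul_inv_eq_iff_eq_mul.mp (CfsgLib.Local.isolated_unique P.2 hy hisoF ((mem_normalizer_iff.mp k.2 y).mp hy)))
    have e : T ≃* (P : Subgroup F) := subgroupOfEquivOfLe hPN
    rcases CfsgLib.IsoRankTwo.shape T hp hT hidx hcom hrT hxT (by rw [Subgroup.orderOf_mk, hyo]) hxc with
      ⟨hE, hc, hexp⟩ | ⟨h3, k, hk, hc, hnil, hcl⟩
    · have hcP : Nat.card (P : Subgroup F) = p ^ 3 := by rw [← hc]; exact Nat.card_congr e.symm.toEquiv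
      refine Or.inl ⟨(Cfsg.EssentialSmall.extraspecial_cube hcP fun hab => ?_).1, hcP, fun v hv => ?_⟩
      · have htop : center T = ⊤ := eq_top_iff.mpr fun a _ => mem_center_iff.mpr fun b =>
          e.injective (by rw [map_mul, map_mul]; exact hab _ _)
        have h := hE.2
        rw [htop, Nat.card_congr (topEquiv (G := T)).toEquiv, hc] at h
        have := Nat.pow_right_injective hpp.two_le (h.trans (pow_one p).symm)
        norm_num at this
      · have h := hexp (e.symm ⟨v, hv⟩)
        rw [← map_pow, MulEquiv.map_eq_one_iff] at h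
        exact congrArg Subtype.val h
    · refine Or.inr ⟨h3, k, hk, by rw [← hc]; exact Nat.card_congr e.symm.toEquiv, P.2.isNilpotent, ?_⟩
      haveI := P.2.isNilpotent
      haveI := hnil
      rw [← hcl]
      exact le_antisymm (Group.nilpotencyClass_le_of_surjective e.toMonoidHom e.surjective)
        (Group.nilpotencyClass_le_of_surjective e.symm.toMonoidHom e.symm.surjective)
  · push Not at hcase
    refine Or.inl ⟨hcase, ?_⟩
    -- a conjugate of `x` centralises `P`
    obtain ⟨Q, hQ⟩ := hPmp.exists_le_sylow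
    obtain ⟨R, hR⟩ := (IsPGroup.of_card (p := p) (n := 1)
      (by rw [Nat.card_zpowers, hx, pow_one]) : IsPGroup p (Subgroup.zpowers x)).exists_le_sylow
    obtain ⟨g, hg⟩ := MulAction.exists_smul_eq G R Q
    have hy : g * x * g⁻¹ ∈ (Q : Subgroup G) := by
      rw [← hg, Sylow.coe_subgroup_smul]
      exact Subgroup.mem_pointwise_smul_iff_inv_smul_mem.mpr (by simpa [MulAut.smul_def, mul_assoc] using hR (mem_zpowers x))
    have hyp : (g * x * g⁻¹) ^ p = 1 := by rw [conj_pow, ← hx, pow_orderOf_eq_one, mul_one, mul_inv_cancel]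
    have hyc := CfsgLib.Local.isolated_central Q.2 hy (isolated_conj hiso g)
    -- commuting elements of order `p` of `P` generate one another
    have key : ∀ a b : (P : Subgroup F), a ≠ 1 → a ^ p = 1 → b ^ p = 1 → Commute a b → b ∈ zpowers a := by
      intro a b ha1 hap hbp hab
      by_contra hb
      set a' : G := ((a : F) : G) with ha'
      set b' : G := ((b : F) : G) with hb'
      have haP : a' ∈ Pm := ⟨_, a.2, rfl⟩
      have hbP : b' ∈ Pm := ⟨_, b.2, rfl⟩
      obtain ⟨i, j, hij⟩ := Cfsg.Agent.S3049.span_of_rank hrank (a := a') (b := b') (c := g * x * g⁻¹)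
        (fun h => ha1 (Subtype.ext (Subtype.ext h)))
        (by rw [ha']; exact_mod_cast congrArg (fun w : (P : Subgroup F) => ((w : F) : G)) hap)
        (by rw [hb']; exact_mod_cast congrArg (fun w : (P : Subgroup F) => ((w : F) : G)) hbp) hyp
        (fun h => hb (by
          obtain ⟨k, hk⟩ := h
          exact ⟨k, Subtype.ext (Subtype.ext (by push_cast; exact hk))⟩))
        (congrArg (fun w : (P : Subgroup F) => ((w : F) : G)) hab.eq) (hyc a' (hQ haP)) (hyc b' (hQ hbP))
      exact hcase g (hij ▸ mul_mem (zpow_mem haP i) (zpow_mem hbP j))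
    refine CfsgLib.Frob.isCyclic_of_uniq_odd hp P.2 ?_
    rcases subsingleton_or_nontrivial (P : Subgroup F) with hsub | hnt
    · intro A B hA hB
      exact Subsingleton.elim A B
    haveI := P.2.center_nontrivial
    obtain ⟨c, hc⟩ : ∃ c : center (P : Subgroup F), orderOf c = p := by
      obtain ⟨m, hm⟩ := IsPGroup.iff_card.mp (P.2.to_subgroup (center (P : Subgroup F)))
      refine exists_prime_orderOf_dvd_card' p (hm ▸ dvd_pow_self p fun e => ?_)
      have := Finite.one_lt_card (α := center (P : Subgroup F))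
      rw [hm, e, pow_zero] at this
      exact lt_irrefl _ this
    have hcp : ((c : (P : Subgroup F))) ^ p = 1 := by
      have h : c ^ p = 1 := orderOf_dvd_iff_pow_eq_one.mp (dvd_of_eq hc)
      simpa using congrArg Subtype.val h
    have hc1 : (c : (P : Subgroup F)) ≠ 1 := fun h => hpp.ne_one (by
      rw [← hc, ← Subgroup.orderOf_coe, h, orderOf_one])
    have huniq : ∀ A : Subgroup (P : Subgroup F), Nat.card A = p → A = zpowers (c : (P : Subgroup F)) := by
      intro A hA
      refine eq_of_le_of_card_ge (fun a ha => ?_) (by rw [Nat.card_zpowers, Subgroup.orderOf_coe, hc, hA])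
      refine key _ a hc1 hcp ?_ (mem_center_iff.mp c.2 a).symm
      have h : (⟨a, ha⟩ : A) ^ Nat.card A = 1 := pow_card_eq_one'
      rw [hA] at h
      simpa using congrArg Subtype.val h
    intro A B hA hB
    rw [huniq A hA, huniq B hB]


end Cfsg.Agent.S3038
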