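import Cfsg.Statements.S3040
import Cfsg.Agent.Lib.FpfSymThree.Main
-- import your own Cfsg.Agent.* helpers here

set_option autoImplicit false
open Cfsg

namespace Cfsg.Agent.S3040

/-- Let G be a finite group of even order coprime to 3, and let Σ be a group of automorphisms of G isomorphic to the symmetric group of degree 3 that is fixed-point-free (only the identity of G is fixed by every element of Σ). Then G is solvable, O_{2′,2}(G) (the preimage in G of O₂(G/O(G))) has odd index in G, and G = O_{2′,2}(G) C_G(σ) for every element σ of Σ of order 3; that is, O₂(G/O(G)) is a Sylow 2-subgroup of G/O(G) and G/O(G) = O₂(G/O(G)) C_{G/O(G)}(σ). -/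
theorem result {G : Type*} [Group G] [Finite G] (heven : 2 ∣ Nat.card G) (h3 : ¬ 3 ∣ Nat.card G)
    (Sig : Subgroup (MulAut G)) (hS3 : Nonempty (↥Sig ≃* Equiv.Perm (Fin 3))) (hfpf : ∀ g : G, (∀ σ ∈ Sig, σ g = g) → g = 1) :
    Group.IsSolvable G ∧ ¬ 2 ∣ (Cfsg.pPrimePCore 2 G).index ∧ ∀ σ ∈ Sig, orderOf σ = 3 →
      Cfsg.pPrimePCore 2 G ⊔ Subgroup.closure {g : G | σ g = g} = ⊤ := by
  classical
  obtain ⟨e⟩ := hS3
  have hSig : Nat.card Sig = 6 := by
    rw [Nat.card_congr e.toEquiv, Nat.card_perm, Nat.card_fin]; rfl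
  have key : ∀ σ ∈ Sig, orderOf σ = 3 → CfsgLib.FpfSymThree.Concl G σ := by
    intro σ hσ ho
    obtain ⟨τ, hτ⟩ : ∃ τ : Sig, τ = e.symm (Equiv.swap 0 1) := ⟨_, rfl⟩
    have ho' : orderOf (e ⟨σ, hσ⟩) = 3 := by rw [MulEquiv.orderOf_eq, Subgroup.orderOf_mk]; exact ho
    have hperm : ∀ p : Equiv.Perm (Fin 3), p * (p * p) = 1 → p ≠ 1 →
        Equiv.swap 0 1 * p * Equiv.swap 0 1 = p * p := by decide
    have h3p : e ⟨σ, hσ⟩ * (e ⟨σ, hσ⟩ * e ⟨σ, hσ⟩) = 1 := by
      have := pow_orderOf_eq_one (e ⟨σ, hσ⟩)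
      rw [ho', pow_three] at this
      exact this
    have hrel := hperm _ h3p fun h => by rw [h, orderOf_one] at ho'; omega
    have hτ2 : τ * τ = 1 := e.injective (by
      rw [map_mul, map_one, hτ, e.apply_symm_apply, Equiv.swap_mul_self])
    have hrel' : τ * ⟨σ, hσ⟩ * τ = ⟨σ, hσ⟩ * ⟨σ, hσ⟩ := e.injective (by
      rw [map_mul, map_mul, map_mul, hτ, e.apply_symm_apply]
      exact hrel)
    have hσ3 : σ * (σ * σ) = 1 := by rw [← pow_three, ← ho, pow_orderOf_eq_one]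
    have hτo : orderOf τ = 2 := orderOf_eq_prime (by rw [sq, hτ2]) fun h => by
      rw [h] at hτ
      exact absurd (e.symm.injective (hτ.symm.trans (map_one e.symm).symm)) (by decide)
    refine CfsgLib.FpfSymThree.main _ G σ (τ : MulAut G) rfl h3
      ⟨fun x => DFunLike.congr_fun hσ3 x, fun x => DFunLike.congr_fun (congrArg Subtype.val hτ2) x,
        fun x => DFunLike.congr_fun (congrArg Subtype.val hrel') x, fun x hx hτx => hfpf x fun φ hφ => ?_⟩
    let H : Subgroup Sig :=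
      { carrier := {ψ | (ψ : MulAut G) x = x}
        one_mem' := rfl
        mul_mem' := fun {a b} ha hb => show (a : MulAut G) ((b : MulAut G) x) = x by rw [hb, ha]
        inv_mem' := fun {a} ha => show (a : MulAut G).symm x = x from (MulEquiv.symm_apply_eq _).2 ha.symm }
    have h2H : 2 ∣ Nat.card H := hτo ▸ Subgroup.orderOf_dvd_natCard H hτx
    have h3H : 3 ∣ Nat.card H := by
      have := Subgroup.orderOf_dvd_natCard H (show (⟨σ, hσ⟩ : Sig) ∈ H from hx)
      rwa [Subgroup.orderOf_mk, ho] at this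
    have h6 : H = ⊤ := Subgroup.eq_top_of_le_card H (by
      rw [hSig]; exact Nat.le_of_dvd Nat.card_pos (Nat.Coprime.mul_dvd_of_dvd_of_dvd (by norm_num) h2H h3H))
    exact (h6 ▸ Subgroup.mem_top (⟨φ, hφ⟩ : Sig) : (⟨φ, hφ⟩ : Sig) ∈ H)
  obtain ⟨σ₀, hσ₀⟩ : ∃ σ : Sig, orderOf σ = 3 := by
    haveI : Fact (Nat.Prime 3) := ⟨Nat.prime_three⟩
    haveI : Finite Sig := Nat.finite_of_card_ne_zero (by rw [hSig]; norm_num)
    exact exists_prime_orderOf_dvd_card' 3 (by rw [hSig]; norm_num)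
  obtain ⟨hsol, hidx, -⟩ := key σ₀ σ₀.2 (by rw [Subgroup.orderOf_coe]; exact hσ₀)
  refine ⟨hsol, hidx, fun σ hσ ho => eq_top_iff.2 fun g _ => ?_⟩
  obtain ⟨c, hc, hgc⟩ := (key σ hσ ho).2.2 g
  rw [← mul_inv_cancel_right g c]
  exact Subgroup.mul_mem _ (Subgroup.mem_sup_left hgc)
    (Subgroup.inv_mem _ (Subgroup.mem_sup_right (Subgroup.subset_closure hc)))

end Cfsg.Agent.S3040
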