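import Cfsg.Statements.S3041
import Cfsg.Agent.Lib.FlavellA.Main
import Cfsg.Agent.Lib.FrobAction.Dim
import Cfsg.Agent.Lib.RankFrattini

set_option autoImplicit false
open Cfsg

namespace Cfsg.Agent.S3041

/-- A fixed-point result of Shult type. Let X be a finite group with a normal subgroup G and a subgroup R of prime order r not dividing |G| such that X = GR, and let ρ be a faithful irreducible representation of X on a nonzero finite-dimensional vector space V over a field of prime characteristic in which R has no nonzero fixed vector. Then either [G, R] = 1, or r has the form 2^m + 1 and [G, R] is a non-abelian special 2-group. -/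
theorem result {X : Type*} [Group X] [Finite X] (G R : Subgroup X) [G.Normal] (hX : G ⊔ R = ⊤) (r : ℕ) (hr : r.Prime)
    (hR : Nat.card R = r) (hcop : ¬ r ∣ Nat.card G)
    {k : Type*} [Field k] {p : ℕ} [Fact p.Prime] [CharP k p] {V : Type*} [AddCommGroup V] [Module k V] [FiniteDimensional k V] [Nontrivial V]
    (ρ : Representation k X V) (hfaith : Function.Injective ρ)
    (hirr : ∀ W : Submodule k V, (∀ x : X, W.map (ρ x) ≤ W) → W = ⊥ ∨ W = ⊤)
    (hfix : ∀ v : V, (∀ x ∈ R, ρ x v = v) → v = 0) :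
    ⁅G, R⁆ = ⊥ ∨ ((∃ m : ℕ, r = 2 ^ m + 1) ∧ ¬ IsMulCommutative ↥⁅G, R⁆ ∧ Cfsg.IsSpecial 2 ↥⁅G, R⁆) := by
  classical
  haveI := Fact.mk hr
  have hp := (Fact.out : p.Prime)
  set D := ⁅G, R⁆ with hD
  have hnorm : R ≤ Subgroup.normalizer (G : Set X) := fun σ _ =>
    CfsgLib.Comp.mem_normalizer_of_maps fun x hx => (inferInstance : G.Normal).conj_mem x hx σ
  have hcop' : (Nat.card G).Coprime r := (hr.coprime_iff_not_dvd.2 hcop).symm
  let ρ' : X →* Module.End k V := ρ
  -- over the algebraic closure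
  let K := AlgebraicClosure k
  haveI : CharP K p := charP_of_injective_algebraMap (algebraMap k K).injective p
  let ρK : X →* Module.End K (TensorProduct k K V) := (Module.End.baseChangeHom k K V).toMonoidHom.comp ρ'
  have hρK : ∀ x, ρK x = LinearMap.baseChange K (ρ' x) := fun x => rfl
  have hinjK : Function.Injective ρK := by
    intro x y hxy
    refine hfaith ?_
    have hker := CfsgLib.FrobAction.finrank_ker_baseChange (K := K) (ρ' x - ρ' y)
    have h0 : LinearMap.baseChange K (ρ' x - ρ' y) = 0 := by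
      rw [LinearMap.baseChange_sub, ← hρK, ← hρK, hxy]
      exact sub_self (ρK y)
    rw [h0, LinearMap.ker_zero, finrank_top, Module.finrank_baseChange] at hker
    have h1 : LinearMap.ker (ρ' x - ρ' y) = ⊤ := Submodule.eq_top_of_finrank_eq hker.symm
    exact sub_eq_zero.1 (LinearMap.ker_eq_top.1 h1)
  have hfixK : ∀ v : TensorProduct k K V, (∀ σ ∈ R, ρK σ v = v) → v = 0 := by
    intro v hv
    have h0 : CfsgLib.FrobAction.fixedSub (fun σ : R => ρ' (σ : X)) = ⊥ := (Submodule.eq_bot_iff _).2 fun w hw =>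
      hfix w fun x hx => CfsgLib.FrobAction.mem_fixedSub.1 hw ⟨x, hx⟩
    have h1 := CfsgLib.FrobAction.finrank_fixedSub_baseChange K (fun σ : R => ρ' (σ : X))
    rw [h0, finrank_bot, Submodule.finrank_eq_zero] at h1
    exact (Submodule.mem_bot K).1 (h1.le (CfsgLib.FrobAction.mem_fixedSub.2 fun σ => hv σ σ.2))
  -- normal p-subgroups are trivial
  have hnop : ∀ P : Subgroup X, IsPGroup p P → P.Normal → P = ⊥ := by
    intro P hP hPn
    obtain ⟨v, -, hv0, hv⟩ := CfsgLib.FlavellA.exists_fixed_vector ρ' hP (S := (⊤ : Submodule k V))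
      (fun _ _ _ _ => Submodule.mem_top) top_ne_bot
    let T : Submodule k V := ⨅ x : P, LinearMap.eqLocus (ρ' x) LinearMap.id
    have hT : ∀ {w : V}, w ∈ T ↔ ∀ x ∈ P, ρ' x w = w := fun {w} => by
      simp [T, Submodule.mem_iInf, LinearMap.mem_eqLocus]
    rcases hirr T (fun g => by
      rintro _ ⟨w, hw, rfl⟩
      rw [SetLike.mem_coe, hT] at hw
      rw [hT]
      intro x hx
      have hx' : g⁻¹ * x * g ∈ P := by simpa using hPn.conj_mem x hx g⁻¹
      show ρ' x (ρ' g w) = ρ' g w
      rw [← Module.End.mul_apply, ← map_mul, show x * g = g * (g⁻¹ * x * g) by group, map_mul,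
        Module.End.mul_apply, hw _ hx']) with e | e
    · exact absurd ((Submodule.mem_bot k).1 (e.le (hT.2 hv))) hv0
    · refine (Subgroup.eq_bot_iff_forall _).2 fun x hx => hfaith (LinearMap.ext fun w => ?_)
      rw [map_one]
      exact hT.1 (e.ge Submodule.mem_top) x hx
  obtain ⟨Q, hQD, hQp, -, hj⟩ := CfsgLib.FlavellA.pTwo_commutator ρK hinjK hr hR hnorm hcop' hfixK
  have hDn : D.Normal := by
    refine ⟨fun x hx g => ?_⟩
    have hg : g ∈ Subgroup.normalizer (D : Set X) := by
      have hle : G ⊔ R ≤ Subgroup.normalizer (D : Set X) := sup_le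
        (CfsgLib.left_le_normalizer_commutator R G) (CfsgLib.right_le_normalizer_commutator R G)
      exact hle (hX ▸ Subgroup.mem_top g)
    exact (Subgroup.mem_normalizer_iff.1 hg x).1 hx
  by_cases hDb : D = ⊥
  · exact Or.inl hDb
  refine Or.inr ?_
  have hp2 : p ≠ 2 := by
    intro e
    subst e
    refine hDb (hnop D (fun ⟨x, hx⟩ => ?_) hDn)
    obtain ⟨j, hj⟩ := hj x hx
    obtain ⟨i, hi⟩ := hQp ⟨_, hj⟩
    refine ⟨j + i, Subtype.ext ?_⟩
    show x ^ 2 ^ (j + i) = 1
    rw [pow_add, pow_mul]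
    exact congrArg Subtype.val hi
  have hQbot : Q = ⊥ := hnop Q hQp ⟨fun x hx g => by
    obtain ⟨i, hi⟩ := hQp ⟨x, hx⟩
    exact CfsgLib.FlavellA.pTwo_mem hp2 hj (hDn.conj_mem x (hQD hx) g) (i := i)
      (by rw [conj_pow, show x ^ p ^ i = 1 from congrArg Subtype.val hi, mul_one, mul_inv_cancel])⟩
  have hD2 : IsPGroup 2 D := fun ⟨x, hx⟩ => by
    obtain ⟨j, hj⟩ := hj x hx
    exact ⟨j, Subtype.ext (Subgroup.mem_bot.1 (hQbot.le hj))⟩
  haveI : Fact (Nat.Prime 2) := ⟨Nat.prime_two⟩
  have hr2 : r ≠ 2 := by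
    intro e
    obtain ⟨i, hi⟩ := IsPGroup.iff_card.1 hD2
    have hi0 : i ≠ 0 := fun e0 => hDb (Subgroup.card_eq_one.1 (by rw [hi, e0, pow_zero]))
    exact hcop (e ▸ ((dvd_pow_self 2 hi0).trans (hi ▸ Subgroup.card_dvd_of_le
      (CfsgLib.commutator_le_of_le_normalizer hnorm))))
  have hsolv : Group.IsSolvable R := by
    haveI : IsCyclic R := isCyclic_of_prime_card hR
    letI : CommGroup R := IsCyclic.commGroup
    exact Group.isSolvable_of_comm fun a b => mul_comm a b
  have hgen : ⁅D, R⁆ = D := CfsgLib.coprime_commutator_commutator hnorm (by rw [hR]; exact hcop'.symm) (Or.inl hsolv)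
  have hA := CfsgLib.FlavellA.fpfAction_of_rep ρK hinjK hR (CfsgLib.right_le_normalizer_commutator R G) hD2 hgen hr2
    (CfsgLib.FlavellA.natCast_ne_zero (p := p) Nat.prime_two hp2)
    (CfsgLib.FlavellA.natCast_ne_zero (p := p) hr (CfsgLib.FlavellA.char_ne ρ' hR hfix)) hfixK
  haveI : Nontrivial D := (Subgroup.nontrivial_iff_ne_bot D).2 hDb
  haveI := hD2.center_nontrivial
  obtain ⟨⟨c0, hc0⟩, hc0ne⟩ := exists_ne (1 : Subgroup.center D)
  obtain ⟨L, -, -, -, -, rd, n, hrn, -⟩ := hA.exists_constituent hc0 (fun e => hc0ne (Subtype.ext e))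
  refine ⟨⟨n, hrn⟩, fun hcomm => ?_, hD2, le_antisymm ?_ ?_, hA.center_eq_commutator.symm⟩
  · refine hc0ne (Subtype.ext ?_)
    have h1 := hA.center_eq_commutator.le hc0
    have h2 : commutator D = ⊥ := by
      rw [commutator_def, eq_bot_iff, Subgroup.commutator_le]
      intro a _ b _
      exact Subgroup.mem_bot.2 (commutatorElement_eq_one_iff_mul_comm.2 (hcomm.1.comm a b))
    exact Subgroup.mem_bot.1 (h2.le h1)
  · refine CfsgLib.RankFrattini.frattini_le_of_elementary hD2 (Subgroup.center D) hA.comm_central fun a => ?_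
    rw [pow_two]
    exact hA.sq_mem_center a
  · exact hA.center_eq_commutator.le.trans (CfsgLib.commutator_le_frattini_pGroup hD2)


end Cfsg.Agent.S3041
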