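import Cfsg.Statements.S3044
import Cfsg.Agent.Lib.Isolated.Setup

set_option autoImplicit false
set_option linter.unusedVariables false
open Cfsg
open scoped commutatorElement

namespace Cfsg.Agent.S3044

open CfsgLib.Isolated in
theorem gen_part {G : Type*} [Group G] [Finite G] {p : ℕ} [Fact p.Prime] {S : Sylow p G} {P L : Subgroup G}
    (D : Iso p S P L) (Y : Subgroup G)
    (hY : Y = Subgroup.normalClosure (((Cfsg.pResidual p ↥P).map P.subtype : Subgroup G) : Set G)) :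
    Y ⊔ L = ⊤ := by
  refine eq_top_iff.2 (D.sup_top.ge.trans (sup_le le_sup_right ?_))
  conv_lhs => rw [← D.residual_facts.1]
  exact sup_le (D.SL.trans le_sup_right) ((hY ▸ Subgroup.le_normalClosure).trans le_sup_left)

open CfsgLib.Isolated in
theorem isolated_part {G : Type*} [Group G] [Finite G] {p : ℕ} [Fact p.Prime] {S : Sylow p G} {P L : Subgroup G}
    (D : Iso p S P L) (Z : Subgroup G) (hSZ : (S : Subgroup G) ≤ Z) :
    ¬ (Cfsg.pCore p ↥((Subgroup.normalizer ((S : Subgroup G) : Set G) ⊓ Z) ⊔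
          ⨆ P' : {P' : Subgroup G // (S : Subgroup G) ≤ P' ∧ P' ≤ Z ∧ Cfsg.IsPMinimal p ↥P' ∧ P' ≠ P}, (P' : Subgroup G))).map
        (Subgroup.subtype _) ≤ (Cfsg.pCore p ↥P).map P.subtype := by
  obtain ⟨L₀, hL₀⟩ : ∃ L₀, L₀ = (Subgroup.normalizer ((S : Subgroup G) : Set G) ⊓ Z) ⊔
      ⨆ P' : {P' : Subgroup G // (S : Subgroup G) ≤ P' ∧ P' ≤ Z ∧ Cfsg.IsPMinimal p ↥P' ∧ P' ≠ P}, (P' : Subgroup G) :=
    ⟨_, rfl⟩
  rw [← hL₀]
  intro h
  have hLL : L₀ ≤ L := by
    rw [hL₀, D.hL]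
    exact sup_le (inf_le_left.trans le_sup_left) (iSup_le fun P' => le_trans
      (le_iSup (fun P' : {P' : Subgroup G // (S : Subgroup G) ≤ P' ∧ Cfsg.IsPMinimal p ↥P' ∧ P' ≠ P} =>
        (P' : Subgroup G)) ⟨P'.1, P'.2.1, P'.2.2.2.1, P'.2.2.2.2⟩) le_sup_right)
  have hQL : (Cfsg.pCore p ↥L).map L.subtype ≤ L₀ :=
    D.QS.trans (hL₀ ▸ (le_inf Subgroup.le_normalizer hSZ).trans le_sup_left)
  haveI : (((Cfsg.pCore p ↥L).map L.subtype).subgroupOf L₀).Normal :=
    (Subgroup.normal_subgroupOf_iff_le_normalizer hQL).2 (hLL.trans D.L_nQ)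
  refine D.hiso (le_trans ?_ h)
  rw [← Subgroup.map_subgroupOf_eq_of_le hQL]
  exact Subgroup.map_mono (CfsgLib.le_pCore ((S.2.to_le D.QS).comap_subtype))

open CfsgLib.Isolated in
theorem last_part {G : Type*} [Group G] [Finite G] {p : ℕ} [Fact p.Prime] {S : Sylow p G} {P L : Subgroup G}
    (D : Iso p S P L) (Y : Subgroup G)
    (hY : Y = Subgroup.normalClosure (((Cfsg.pResidual p ↥P).map P.subtype : Subgroup G) : Set G)) :
    (Cfsg.pResidual p ↥P).map P.subtype = Y ∨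
     ∃ _ : (Cfsg.pCore p ↥Y).Normal,
       p ∣ Nat.card (↥Y ⧸ Cfsg.pCore p ↥Y) ∧ Cfsg.layer (↥Y ⧸ Cfsg.pCore p ↥Y) = ⊤ ∧
       ∀ K₁ K₂ : Subgroup (↥Y ⧸ Cfsg.pCore p ↥Y), Cfsg.IsComponent K₁ → Cfsg.IsComponent K₂ →
         ∃ s ∈ (S : Subgroup G), ((K₂.comap (QuotientGroup.mk' (Cfsg.pCore p ↥Y))).map Y.subtype) = (((K₁.comap (QuotientGroup.mk' (Cfsg.pCore p ↥Y))).map Y.subtype)).map (MulAut.conj s).toMonoidHom := by
  haveI hn : (Cfsg.pCore p G).Normal := inferInstance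
  haveI hYn : Y.Normal := hY ▸ Subgroup.normalClosure_normal
  by_cases hs : Group.IsSolvable ↥(Y.map (QuotientGroup.mk' (Cfsg.pCore p G)))
  · exact Or.inl (D.solvable_eq_residual Y hY hs)
  right
  haveI hnY : (Cfsg.pCore p ↥Y).Normal := inferInstance
  refine ⟨hnY, ?_⟩
  have C := D.ctx
  rw [← hY] at C
  obtain ⟨e, he⟩ := exists_iso (p := p) Y
  refine ⟨?_, ?_, fun K₁ K₂ h₁ h₂ => ?_⟩
  · rw [Nat.card_congr e.toEquiv]
    exact C.dvd_card hs
  · have := CfsgLib.map_layer_equiv e.symm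
    rw [C.layer_top hs, Subgroup.map_top_of_surjective e.symm.toMonoidHom e.symm.surjective] at this
    exact this.symm
  · have hc : ∀ K : Subgroup (↥Y ⧸ Cfsg.pCore p ↥Y), Cfsg.IsComponent K → Comp (Y.map (QuotientGroup.mk' (Cfsg.pCore p G)))
        ((K.map e.toMonoidHom).map (Y.map (QuotientGroup.mk' (Cfsg.pCore p G))).subtype) := fun K hK =>
      ⟨_, CfsgLib.isComponent_map_equiv e hK, rfl⟩
    obtain ⟨_, ⟨s, hs', rfl⟩, hss⟩ := C.trans hs (hc K₁ h₁) (hc K₂ h₂)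
    have hmem : ∀ (K : Subgroup (↥Y ⧸ Cfsg.pCore p ↥Y)) (g : G),
        g ∈ (K.comap (QuotientGroup.mk' (Cfsg.pCore p ↥Y))).map Y.subtype ↔
          g ∈ Y ∧ QuotientGroup.mk' (Cfsg.pCore p G) g ∈
            (K.map e.toMonoidHom).map (Y.map (QuotientGroup.mk' (Cfsg.pCore p G))).subtype := by
      intro K g
      constructor
      · rintro ⟨y, hy, rfl⟩
        exact ⟨y.2, _, ⟨_, hy, rfl⟩, he y⟩
      · rintro ⟨hgY, _, ⟨k, hk, rfl⟩, hge⟩
        refine ⟨⟨g, hgY⟩, ?_, rfl⟩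
        show QuotientGroup.mk' (Cfsg.pCore p ↥Y) ⟨g, hgY⟩ ∈ K
        have : e k = e (QuotientGroup.mk ⟨g, hgY⟩) := Subtype.ext (hge.trans (he ⟨g, hgY⟩).symm)
        rw [e.injective this] at hk
        exact hk
    refine ⟨s, hs', ?_⟩
    ext g
    have hconj : ∀ M : Subgroup G, g ∈ M.map (MulAut.conj s).toMonoidHom ↔ s⁻¹ * g * s ∈ M := fun M =>
      ⟨by rintro ⟨x, hx, rfl⟩; simpa [mul_assoc] using hx, fun h => ⟨_, h, by simp [mul_assoc]⟩⟩
    rw [hconj, hmem, hmem, hss]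
    have hY' : g ∈ Y ↔ s⁻¹ * g * s ∈ Y := by
      constructor
      · intro h; simpa using Subgroup.Normal.conj_mem hYn g h s⁻¹
      · intro h
        have := Subgroup.Normal.conj_mem hYn _ h s
        simpa [mul_assoc] using this
    refine and_congr hY' ?_
    constructor
    · rintro ⟨x, hx, hxe⟩
      have : QuotientGroup.mk' (Cfsg.pCore p G) (s⁻¹ * g * s) = x := by
        rw [map_mul, map_mul, map_inv, ← hxe]
        simp [mul_assoc]
      exact this ▸ hx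
    · intro h
      exact ⟨_, h, by simp [mul_assoc]⟩

/-- Let G be a finite group, p a prime, S a Sylow p-subgroup of G and P a p-minimal subgroup of G containing S (S is not normal in P and lies in exactly one maximal subgroup of P). Let L be the subgroup generated by N_G(S) and all p-minimal subgroups of G containing S other than P, and suppose P is isolated: O_p(L) is not contained in O_p(P). Put Y for the normal closure of O^p(P) in G. Then G = YL; P is again isolated in the subgroup YS (the subgroup L₀ generated by N_{YS}(S) and the p-minimal subgroups of YS containing S other than P has O_p(L₀) not contained in O_p(P)); and either Y = O^p(P), or p divides |Y/O_p(Y)|, Y/O_p(Y) is generated by its components (a central product of quasisimple groups), and S permutes these components transitively by conjugation. -/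
theorem result {G : Type*} [Group G] [Finite G] {p : ℕ} [Fact p.Prime] (S : Sylow p G) (P : Subgroup G) (hSP : (S : Subgroup G) ≤ P) (hPmin : Cfsg.IsPMinimal p ↥P)
    (L Y : Subgroup G)
    (hL : L = Subgroup.normalizer ((S : Subgroup G) : Set G) ⊔ ⨆ P' : {P' : Subgroup G // (S : Subgroup G) ≤ P' ∧ Cfsg.IsPMinimal p ↥P' ∧ P' ≠ P}, (P' : Subgroup G))
    (hiso : ¬ (Cfsg.pCore p ↥L).map L.subtype ≤ (Cfsg.pCore p ↥P).map P.subtype)
    (hY : Y = Subgroup.normalClosure (((Cfsg.pResidual p ↥P).map P.subtype : Subgroup G) : Set G)) :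
    Y ⊔ L = ⊤ ∧
    ¬ (Cfsg.pCore p ↥((Subgroup.normalizer ((S : Subgroup G) : Set G) ⊓ (Y ⊔ (S : Subgroup G))) ⊔
          ⨆ P' : {P' : Subgroup G // (S : Subgroup G) ≤ P' ∧ P' ≤ Y ⊔ (S : Subgroup G) ∧ Cfsg.IsPMinimal p ↥P' ∧ P' ≠ P}, (P' : Subgroup G))).map
        (Subgroup.subtype _) ≤ (Cfsg.pCore p ↥P).map P.subtype ∧
    ((Cfsg.pResidual p ↥P).map P.subtype = Y ∨
     ∃ _ : (Cfsg.pCore p ↥Y).Normal,
       p ∣ Nat.card (↥Y ⧸ Cfsg.pCore p ↥Y) ∧ Cfsg.layer (↥Y ⧸ Cfsg.pCore p ↥Y) = ⊤ ∧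
       ∀ K₁ K₂ : Subgroup (↥Y ⧸ Cfsg.pCore p ↥Y), Cfsg.IsComponent K₁ → Cfsg.IsComponent K₂ →
         ∃ s ∈ (S : Subgroup G), ((K₂.comap (QuotientGroup.mk' (Cfsg.pCore p ↥Y))).map Y.subtype) = (((K₁.comap (QuotientGroup.mk' (Cfsg.pCore p ↥Y))).map Y.subtype)).map (MulAut.conj s).toMonoidHom) := by
  have D : CfsgLib.Isolated.Iso p S P L := ⟨hSP, hPmin, hL, hiso⟩
  exact ⟨gen_part D Y hY, isolated_part D _ le_sup_right, last_part D Y hY⟩

end Cfsg.Agent.S3044
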