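import Cfsg.Statements.S3045
import Cfsg.Agent.Lib.Isolated.Setup

set_option autoImplicit false
set_option linter.unusedVariables false
open Cfsg
open scoped commutatorElement

namespace Cfsg.Agent.S3045

open CfsgLib.Isolated in
theorem fitting_part {G : Type*} [Group G] [Finite G] {p : ℕ} [Fact p.Prime] {S : Sylow p G} {P L : Subgroup G}
    (D : Iso p S P L) [hn : (Cfsg.pCore p G).Normal] :
    (Cfsg.pResidual p ↥P).map P.subtype ≤
      (Cfsg.generalizedFittingSubgroup (G ⧸ Cfsg.pCore p G)).comap (QuotientGroup.mk' (Cfsg.pCore p G)) := by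
  rw [← Subgroup.map_le_iff_le_comap]
  have C := D.ctx
  refine C.RY.trans ?_
  haveI := C.Ynormal
  by_cases hs : Group.IsSolvable ↥((Subgroup.normalClosure (((Cfsg.pResidual p ↥P).map P.subtype : Subgroup G) : Set G)).map
      (QuotientGroup.mk' (Cfsg.pCore p G)))
  · refine (CfsgLib.le_fittingSubgroup ?_).trans CfsgLib.fittingSubgroup_le_generalized
    exact (C.nilp_of_solvable hs).1
  · refine le_trans ?_ CfsgLib.layer_le_generalized
    refine le_trans ?_ (CfsgLib.map_layer_le ((Subgroup.normalClosure (((Cfsg.pResidual p ↥P).map P.subtype : Subgroup G) : Set G)).map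
      (QuotientGroup.mk' (Cfsg.pCore p G))))
    rw [C.layer_top hs, ← MonoidHom.range_eq_map, Subgroup.range_subtype]

open CfsgLib.Isolated in
theorem solvable_part {G : Type*} [Group G] [Finite G] {p : ℕ} [Fact p.Prime] {S : Sylow p G} {P L : Subgroup G}
    (D : Iso p S P L) [hn : (Cfsg.pCore p G).Normal] (Y : Subgroup G)
    (hY : Y = Subgroup.normalClosure (((Cfsg.pResidual p ↥P).map P.subtype : Subgroup G) : Set G))
    (hs : Group.IsSolvable ↥Y) :
    (Cfsg.pResidual p ↥P).map P.subtype = Y ∧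
      ∃ _ : (Cfsg.pCore p ↥Y).Normal, ∃ t : ℕ, t.Prime ∧ t ≠ p ∧ IsPGroup t (↥Y ⧸ Cfsg.pCore p ↥Y) ∧
        ∃ _ : Group.IsNilpotent (↥Y ⧸ Cfsg.pCore p ↥Y), Group.nilpotencyClass (↥Y ⧸ Cfsg.pCore p ↥Y) ≤ 2 := by
  haveI hYn : Y.Normal := hY ▸ Subgroup.normalClosure_normal
  have hs' : Group.IsSolvable ↥(Y.map (QuotientGroup.mk' (Cfsg.pCore p G))) :=
    Group.isSolvable_of_surjective (f := (QuotientGroup.mk' (Cfsg.pCore p G)).subgroupMap Y)
      ((QuotientGroup.mk' (Cfsg.pCore p G)).subgroupMap_surjective Y)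
  haveI hnY : (Cfsg.pCore p ↥Y).Normal := inferInstance
  refine ⟨D.solvable_eq_residual Y hY hs', hnY, ?_⟩
  obtain ⟨e, -⟩ := exists_iso (p := p) Y
  have C := D.ctx
  rw [← hY] at C
  obtain ⟨t, ht, htp, htY, hc, -⟩ := C.solvable_tgroup hs'
  obtain ⟨hnil, -⟩ := C.nilp_of_solvable hs'
  haveI hn' : Group.IsNilpotent (↥Y ⧸ Cfsg.pCore p ↥Y) := Group.nilpotent_of_mulEquiv e.symm
  refine ⟨t, ht, htp, htY.of_equiv e.symm, hn', ?_⟩
  rw [← Subgroup.lowerCentralSeries_eq_bot_iff_nilpotencyClass_le, Subgroup.lowerCentralSeries_succ,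
    Subgroup.top_lowerCentralSeries_one, Subgroup.commutator_eq_bot_iff_le_centralizer]
  intro w hw x _
  apply e.injective
  rw [map_mul, map_mul]
  have h : e w ∈ commutator ↥(Y.map (QuotientGroup.mk' (Cfsg.pCore p G))) := by
    have hle := Subgroup.mem_map_of_mem e.toMonoidHom hw
    rw [commutator_def, Subgroup.map_commutator, Subgroup.map_top_of_surjective e.toMonoidHom e.surjective] at hle
    rw [commutator_def]
    exact hle
  exact (Subgroup.mem_center_iff.1 (hc h) (e x))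

/-- Let G be a finite group, p a prime, S a Sylow p-subgroup of G and P a p-minimal subgroup of G containing S. Let L be the subgroup generated by N_G(S) and all p-minimal subgroups of G containing S other than P, and suppose O_p(L) is not contained in O_p(P). Put Y for the normal closure of O^p(P) in G. Then O^p(P) is contained in the preimage in G of F*(G/O_p(G)); and if Y is solvable, then Y = O^p(P) and Y/O_p(Y) is a t-group of nilpotency class at most 2 for some prime t ≠ p. -/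
theorem result {G : Type*} [Group G] [Finite G] {p : ℕ} [Fact p.Prime] (S : Sylow p G) (P : Subgroup G) (hSP : (S : Subgroup G) ≤ P) (hPmin : Cfsg.IsPMinimal p ↥P)
    (L Y : Subgroup G)
    (hL : L = Subgroup.normalizer ((S : Subgroup G) : Set G) ⊔ ⨆ P' : {P' : Subgroup G // (S : Subgroup G) ≤ P' ∧ Cfsg.IsPMinimal p ↥P' ∧ P' ≠ P}, (P' : Subgroup G))
    (hiso : ¬ (Cfsg.pCore p ↥L).map L.subtype ≤ (Cfsg.pCore p ↥P).map P.subtype)
    (hY : Y = Subgroup.normalClosure (((Cfsg.pResidual p ↥P).map P.subtype : Subgroup G) : Set G)) [hn : (Cfsg.pCore p G).Normal] :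
    (Cfsg.pResidual p ↥P).map P.subtype ≤ (Cfsg.generalizedFittingSubgroup (G ⧸ Cfsg.pCore p G)).comap (QuotientGroup.mk' (Cfsg.pCore p G)) ∧
    (Group.IsSolvable ↥Y → (Cfsg.pResidual p ↥P).map P.subtype = Y ∧
       ∃ _ : (Cfsg.pCore p ↥Y).Normal, ∃ t : ℕ, t.Prime ∧ t ≠ p ∧ IsPGroup t (↥Y ⧸ Cfsg.pCore p ↥Y) ∧
         ∃ _ : Group.IsNilpotent (↥Y ⧸ Cfsg.pCore p ↥Y), Group.nilpotencyClass (↥Y ⧸ Cfsg.pCore p ↥Y) ≤ 2) := by
  have D : CfsgLib.Isolated.Iso p S P L := ⟨hSP, hPmin, hL, hiso⟩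
  subst hY
  exact ⟨fitting_part D, fun hs => solvable_part D _ rfl hs⟩

end Cfsg.Agent.S3045
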