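import Cfsg.Statements.S3047
import Cfsg.Agent.Lib.RankOneCentre.Main
import Cfsg.Agent.Lib.RankOneCentre.Models

set_option autoImplicit false
open Cfsg

namespace Cfsg.Agent.S3047

/-- Let p ≥ 5 be a prime, G a finite group all of whose composition factors are known simple groups, S a Sylow p-subgroup and P a p-minimal subgroup of G containing S such that O^p(P/O_p(P)) is isomorphic to SL₂(pᵃ), PSL₂(pᵃ), SU₃(pᵃ) or PSU₃(pᵃ) for some a ≥ 1. Let L be the subgroup generated by N_G(S) and the p-minimal subgroups of G containing S other than P. Then either O^p(P) is normal in G, or every p-element of the centre of L lies in O_p(P). -/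
theorem result {G : Type*} [Group G] [Finite G] {p : ℕ} [Fact p.Prime] (hp : 5 ≤ p) (hK : Cfsg.IsCompositionKGroup G)
    (S : Sylow p G) (P : Subgroup G) (hSP : (S : Subgroup G) ≤ P) (hPmin : Cfsg.IsPMinimal p ↥P) [hn : (Cfsg.pCore p ↥P).Normal]
    (hrk1 : ∃ (F : Type) (_ : Field F) (_ : Fintype F) (a : ℕ), 1 ≤ a ∧
      ((Fintype.card F = p ^ a ∧ (Nonempty (↥(Cfsg.pResidual p (↥P ⧸ Cfsg.pCore p ↥P)) ≃* Matrix.SpecialLinearGroup (Fin 2) F) ∨
                                  Nonempty (↥(Cfsg.pResidual p (↥P ⧸ Cfsg.pCore p ↥P)) ≃* Matrix.ProjectiveSpecialLinearGroup (Fin 2) F))) ∨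
       (Fintype.card F = p ^ (2 * a) ∧ (Nonempty (↥(Cfsg.pResidual p (↥P ⧸ Cfsg.pCore p ↥P)) ≃* ↥(Cfsg.SU 3 F (p ^ a))) ∨
                                        Nonempty (↥(Cfsg.pResidual p (↥P ⧸ Cfsg.pCore p ↥P)) ≃* Cfsg.PSU 3 F (p ^ a))))))
    (L : Subgroup G)
    (hL : L = Subgroup.normalizer ((S : Subgroup G) : Set G) ⊔ ⨆ P' : {P' : Subgroup G // (S : Subgroup G) ≤ P' ∧ Cfsg.IsPMinimal p ↥P' ∧ P' ≠ P}, (P' : Subgroup G)) :
    ((Cfsg.pResidual p ↥P).map P.subtype).Normal ∨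
    ∀ z ∈ L ⊓ Subgroup.centralizer (L : Set G), (∃ k : ℕ, orderOf z = p ^ k) → z ∈ (Cfsg.pCore p ↥P).map P.subtype := by
  refine Or.inr fun z hz hpow => ?_
  obtain ⟨-, hzc⟩ := Subgroup.mem_inf.mp hz
  refine CfsgLib.RankOneCentre.mem_pCore_of_central S P hSP ?_ (fun g hg => ?_) hpow
  · obtain ⟨F, _, _, a, ha, hF⟩ := hrk1
    have key : ∀ {M : Type} [Group M] [Finite M],
        Nonempty (↥(Cfsg.pResidual p (↥P ⧸ Cfsg.pCore p ↥P)) ≃* M) →
        (∃ U : Subgroup M, CfsgLib.RankOneCentre.IsData p U) →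
        ∃ U : Subgroup ↥(Cfsg.pResidual p (↥P ⧸ Cfsg.pCore p ↥P)), CfsgLib.RankOneCentre.IsData p U := by
      rintro M _ _ ⟨e⟩ ⟨U, hU⟩
      refine ⟨_, hU.map e.symm.toMonoidHom e.symm.surjective ?_ ?_⟩
      · rw [(MonoidHom.ker_eq_bot_iff _).mpr e.symm.injective]; exact bot_le
      · rw [(MonoidHom.ker_eq_bot_iff _).mpr e.symm.injective, Subgroup.card_bot]
        exact (Fact.out : p.Prime).not_dvd_one
    rcases hF with ⟨hc, h | h⟩ | ⟨hc, h | h⟩
    · exact key h ⟨_, CfsgLib.RankOneCentre.isData_SL2 hp ha hc⟩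
    · exact key h (CfsgLib.RankOneCentre.exists_isData_PSL2 hp ha hc)
    · exact key h (CfsgLib.RankOneCentre.exists_isData_SU3 hp hc).1
    · exact key h (CfsgLib.RankOneCentre.exists_isData_SU3 hp hc).2
  · exact (Subgroup.mem_centralizer_iff.mp hzc g (hL ▸ Subgroup.mem_sup_left hg)).symm

end Cfsg.Agent.S3047
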