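import Cfsg.Statements.S3048
import Cfsg.Agent.S3012
import Cfsg.Agent.Lib.Components
import Cfsg.Agent.Lib.Elementary
import Cfsg.Agent.Lib.Basic

set_option autoImplicit false
set_option linter.unusedVariables false
universe u
open Cfsg
open scoped commutatorElement

namespace Cfsg.Agent.S3048

universe v
variable {G : Type v} [Group G] [Finite G]

theorem conj_mem {N : Subgroup G} (hN : N.Normal) (g : G) {x : G} (hx : x ∈ N) : g * x * g⁻¹ ∈ N := hN.conj_mem x hx g

/-- A commutator of an element of `O₂(H)` with an element of a subnormal subgroup, in both, is trivial. -/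
theorem comm_eq_one (hO : Cfsg.pCore 2 G = ⊥) {S H : Subgroup G} (hS : S.IsSubnormal) (hSH : S ≤ H)
    (hnS : H ≤ Subgroup.normalizer (S : Set G)) {x : ↥H} (hx : x ∈ Cfsg.pCore 2 ↥H) {s : G} (hs : s ∈ S) :
    (x : G) * s * (x : G)⁻¹ * s⁻¹ = 1 := by
  set A := S ⊓ (Cfsg.pCore 2 ↥H).map H.subtype with hA
  have hA2 : IsPGroup 2 A := ((CfsgLib.isPGroup_pCore 2).map _).to_le inf_le_right
  have hAn : (A.subgroupOf S).Normal := ⟨fun a ha g => by
    obtain ⟨b, hb, hb'⟩ := (Subgroup.mem_subgroupOf.mp ha).2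
    refine Subgroup.mem_subgroupOf.mpr ⟨(g * a * g⁻¹).2, ?_⟩
    refine ⟨⟨g, hSH g.2⟩ * b * ⟨g, hSH g.2⟩⁻¹, conj_mem (G := ↥H) inferInstance _ hb, ?_⟩
    rw [map_mul, map_mul, map_inv, hb']; rfl⟩
  have hAO := CfsgLib.isSubnormal_isPGroup_le_pCore (Subgroup.IsSubnormal.step A S inf_le_left hS hAn) hA2
  rw [hO, le_bot_iff] at hAO
  have hmem : (x : G) * s * (x : G)⁻¹ * s⁻¹ ∈ A := by
    refine ⟨show _ ∈ S from mul_mem ((Subgroup.mem_normalizer_iff.mp (hnS x.2) s).mp hs) (inv_mem hs), ?_⟩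
    refine ⟨x * (⟨s, hSH hs⟩ * x⁻¹ * (⟨s, hSH hs⟩ : ↥H)⁻¹), mul_mem hx (conj_mem (G := ↥H) inferInstance _ (inv_mem hx)), ?_⟩
    simp [mul_assoc]
  rw [hAO, Subgroup.mem_bot] at hmem
  exact hmem

theorem isElem_subgroupOf {V H : Subgroup G} (hV : Cfsg.IsElementaryAbelian 2 V) :
    Cfsg.IsElementaryAbelian 2 (V.subgroupOf H) := by
  obtain ⟨hc, he⟩ := hV
  exact ⟨⟨⟨fun a b => Subtype.ext (Subtype.ext (Subgroup.mul_comm_of_mem_isMulCommutative V a.2 b.2))⟩⟩,
    fun a ha => Subtype.ext (by simpa using he _ ha)⟩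

theorem isElem_le {V W : Subgroup G} (hV : Cfsg.IsElementaryAbelian 2 V) (hW : W ≤ V) :
    Cfsg.IsElementaryAbelian 2 W := by
  obtain ⟨hc, he⟩ := hV
  exact ⟨⟨⟨fun a b => Subtype.ext (Subgroup.mul_comm_of_mem_isMulCommutative V (hW a.2) (hW b.2))⟩⟩,
    fun a ha => he _ (hW ha)⟩

theorem sidki_subgroupOf {V H : Subgroup G} (hVH : V ≤ H) (hS : Cfsg.IsSidkiPair V) :
    Cfsg.IsSidkiPair (V.subgroupOf H) := by
  intro h v hv hodd hinv
  obtain ⟨w, hw, hw1, hwh⟩ := hS h v hv (by rwa [Subgroup.orderOf_coe]) (by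
    have := congrArg Subtype.val hinv; simpa using this)
  exact ⟨⟨w, hVH hw⟩, hw, fun e => hw1 (congrArg Subtype.val e), Subtype.ext hwh⟩

theorem exists_odd_ne_one {S : Subgroup G} (h : ¬ IsPGroup 2 S) : ∃ s ∈ S, s ≠ 1 ∧ Odd (orderOf s) := by
  by_contra hno
  push_neg at hno
  refine h fun x => ?_
  obtain ⟨k, m, hm, hxm⟩ := Nat.exists_eq_two_pow_mul_odd (orderOf_pos (x : G)).ne'
  refine ⟨k, Subtype.ext ?_⟩
  rw [SubmonoidClass.coe_pow, OneMemClass.coe_one]
  by_contra hne
  refine hno _ (pow_mem x.2 _) hne (hm.of_dvd_nat (orderOf_dvd_of_pow_eq_one ?_))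
  rw [← pow_mul, ← hxm, pow_orderOf_eq_one]

theorem main (V : Subgroup G) (hV : Cfsg.IsElementaryAbelian 2 V) (hV1 : V ≠ ⊥) (hS : Cfsg.IsSidkiPair V)
    (hVO : V ⊓ Cfsg.pCore 2 G = ⊥)
    (hminG : ∀ (H : Type v) [Group H] [Finite H] (W : Subgroup H), Nat.card H < Nat.card G → Cfsg.IsElementaryAbelian 2 W → W ≠ ⊥ → Cfsg.IsSidkiPair W → W ⊓ Cfsg.pCore 2 H ≠ ⊥)
    (hminV : ∀ W : Subgroup G, Nat.card W < Nat.card V → Cfsg.IsElementaryAbelian 2 W → W ≠ ⊥ → Cfsg.IsSidkiPair W → W ⊓ Cfsg.pCore 2 G ≠ ⊥) :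
    IsSimpleGroup ↥(Cfsg.generalizedFittingSubgroup G) ∧ ¬ IsMulCommutative ↥(Cfsg.generalizedFittingSubgroup G) ∧ V ⊔ Cfsg.generalizedFittingSubgroup G = ⊤ := by
  classical
  have : Fact (Nat.Prime 2) := ⟨Nat.prime_two⟩
  have hV2 : IsPGroup 2 V := fun x => ⟨1, Subtype.ext (by simpa using hV.2 x x.2)⟩
  have hVc : ∀ a ∈ V, ∀ b ∈ V, a * b = b * a := fun a ha b hb => by
    have := hV.1; exact setLike_mul_comm ha hb
  have hVinv : ∀ a ∈ V, a⁻¹ = a := fun a ha => inv_eq_of_mul_eq_one_right (by rw [← pow_two]; exact hV.2 a ha)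
  -- `O₂(G) = 1`
  have hO : Cfsg.pCore 2 G = ⊥ := by
    by_contra hne
    set K := Cfsg.pCore 2 G with hK
    have hcard : Nat.card (G ⧸ K) < Nat.card G := by
      rw [Subgroup.card_eq_card_quotient_mul_card_subgroup K]
      have : Nontrivial K := (Subgroup.nontrivial_iff_ne_bot K).mpr hne
      exact lt_mul_of_one_lt_right Nat.card_pos Finite.one_lt_card
    have hW1 : V.map (QuotientGroup.mk' K) ≠ ⊥ := by
      rw [Ne, Subgroup.map_eq_bot_iff, QuotientGroup.ker_mk']
      exact fun h => hV1 (eq_bot_iff.mpr (hVO ▸ le_inf le_rfl h))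
    have hWel : Cfsg.IsElementaryAbelian 2 (V.map (QuotientGroup.mk' K)) := by
      obtain ⟨hc, he⟩ := hV
      refine ⟨inferInstance, ?_⟩
      rintro _ ⟨a, ha, rfl⟩
      rw [← map_pow, he a ha, map_one]
    refine hminG (G ⧸ K) _ hcard hWel hW1 (Cfsg.Agent.S3012.result V K hV hV1 hS hVO) ?_
    rw [eq_bot_iff]
    have hpre : ((Cfsg.pCore 2 (G ⧸ K)).comap (QuotientGroup.mk' K)) ≤ K :=
      CfsgLib.le_pCore ((CfsgLib.isPGroup_pCore 2).comap_of_ker_isPGroup (QuotientGroup.mk' K)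
        (by rw [QuotientGroup.ker_mk']; exact CfsgLib.isPGroup_pCore 2))
    rintro _ ⟨⟨a, ha, rfl⟩, hy⟩
    exact (QuotientGroup.eq_one_iff a).mpr (hpre hy)
  have hsubn : ∀ {S : Subgroup G}, S.IsSubnormal → IsPGroup 2 S → S = ⊥ := fun hS h =>
    le_bot_iff.mp (hO ▸ CfsgLib.isSubnormal_isPGroup_le_pCore hS h)
  have htoplt : ∀ {H : Subgroup G}, H ≠ ⊤ → Nat.card H < Nat.card G := fun h =>
    lt_of_le_of_ne (Subgroup.card_le_card_group _) fun e => h (Subgroup.eq_top_of_card_eq _ e)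
  have hlow : ∀ {H W : Subgroup G}, H ≠ ⊤ → W ≤ H → W ≤ V → W ≠ ⊥ → Cfsg.IsSidkiPair (W.subgroupOf H) →
      ∃ x : ↥H, (x : G) ∈ W ∧ x ≠ 1 ∧ x ∈ Cfsg.pCore 2 ↥H := by
    intro H W hH hWH hWV hW hWS
    have h1 := hminG ↥H (W.subgroupOf H) (htoplt hH) (isElem_subgroupOf (isElem_le hV hWV)) (by
      rw [Ne, Subgroup.subgroupOf_eq_bot]
      intro hd
      exact hW (le_bot_iff.mp (hd le_rfl hWH))) hWS
    obtain ⟨x, hx, hx1⟩ := (Subgroup.bot_or_exists_ne_one _).resolve_left h1
    exact ⟨x, hx.1, hx1, hx.2⟩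
  have hbad : ∀ {W : Subgroup G}, W ≤ V → W ≠ ⊥ → Nat.card W < Nat.card V → ¬ Cfsg.IsSidkiPair W :=
    fun hWV hW hlt hWS => hminV _ hlt (isElem_le hV hWV) hW hWS (by rw [hO, inf_bot_eq])
  -- `M V = G` for every nontrivial normal `M`
  have key : ∀ M : Subgroup G, M.Normal → M ≠ ⊥ → M ⊔ V = ⊤ := by
    intro M hMn hM
    by_contra hne
    have hMs : M.IsSubnormal := hMn.isSubnormal
    obtain ⟨x, hxV, hx1, hxO⟩ := hlow hne le_sup_right le_rfl hV1 (sidki_subgroupOf le_sup_right hS)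
    set C := Subgroup.centralizer (M : Set G) with hC
    have hxC : (x : G) ∈ C := Subgroup.mem_centralizer_iff.mpr fun m hm => by
      have h := comm_eq_one hO hMs (le_sup_left : M ≤ M ⊔ V) (by rw [Subgroup.normalizer_eq_top]; exact le_top) hxO hm
      rw [mul_inv_eq_one, mul_inv_eq_iff_eq_mul] at h
      exact h.symm
    set K := V ⊓ C with hK
    have hK1 : K ≠ ⊥ := fun e => hx1 (Subtype.ext (Subgroup.mem_bot.mp (e ▸ ⟨hxV, hxC⟩)))
    by_cases hKV : K = V
    · have hVC : V ≤ C := hKV ▸ inf_le_right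
      by_cases hCtop : C = ⊤
      · -- `M` central
        have hMc : ∀ g : G, ∀ m ∈ M, m * g = g * m := fun g m hm => Subgroup.mem_centralizer_iff.mp (hCtop ▸ Subgroup.mem_top g : g ∈ C) m hm
        have hVM : V ⊓ M = ⊥ := by
          refine hsubn (Subgroup.Normal.isSubnormal ⟨fun a ha g => ?_⟩) (hV2.to_le inf_le_left)
          rw [← hMc g a ha.2, mul_inv_cancel_right]; exact ha
        have hcard : Nat.card (G ⧸ M) < Nat.card G := by
          rw [Subgroup.card_eq_card_quotient_mul_card_subgroup M]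
          have : Nontrivial M := (Subgroup.nontrivial_iff_ne_bot M).mpr hM
          exact lt_mul_of_one_lt_right Nat.card_pos Finite.one_lt_card
        have hWel : Cfsg.IsElementaryAbelian 2 (V.map (QuotientGroup.mk' M)) := by
          obtain ⟨hc, he⟩ := hV
          refine ⟨inferInstance, ?_⟩
          rintro _ ⟨a, ha, rfl⟩
          rw [← map_pow, he a ha, map_one]
        have hW1 : V.map (QuotientGroup.mk' M) ≠ ⊥ := by
          rw [Ne, Subgroup.map_eq_bot_iff, QuotientGroup.ker_mk']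
          exact fun h => hV1 (eq_bot_iff.mpr (hVM ▸ le_inf le_rfl h))
        apply hminG (G ⧸ M) _ hcard hWel hW1 (Cfsg.Agent.S3012.result V M hV hV1 hS hVM)
        rw [eq_bot_iff]
        rintro _ ⟨⟨a, ha, rfl⟩, hy⟩
        set R := (Cfsg.pCore 2 (G ⧸ M)).comap (QuotientGroup.mk' M) with hR
        have haR : a ∈ R := hy
        have hRn : Group.IsNilpotent ↥R := by
          have hMR : M ≤ R := fun m hm => by
            show QuotientGroup.mk' M m ∈ Cfsg.pCore 2 (G ⧸ M)
            rw [show QuotientGroup.mk' M m = 1 from (QuotientGroup.eq_one_iff m).mpr hm]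
            exact one_mem _
          let f : ↥R →* ↥(Cfsg.pCore 2 (G ⧸ M)) :=
            ((QuotientGroup.mk' M).comp R.subtype).codRestrict _ fun r => r.2
          have hfk : f.ker ≤ Subgroup.center ↥R := fun r hr => Subgroup.mem_center_iff.mpr fun g => Subtype.ext
            (hMc g r ((QuotientGroup.eq_one_iff _).mp (congrArg Subtype.val hr))).symm
          have := (CfsgLib.isPGroup_pCore (G := G ⧸ M) 2).isNilpotent
          exact Subgroup.isNilpotent_of_ker_le_center f hfk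
        obtain ⟨T, hT⟩ := (IsPGroup.comap_subtype (K := R) (hV2.to_le (Subgroup.zpowers_le.mpr ha))).exists_le_sylow
        have hTc : (T : Subgroup ↥R).Characteristic := Sylow.characteristic_of_normal T inferInstance
        have hT0 : (T : Subgroup ↥R).map R.subtype = ⊥ := by
          have hn : ((T : Subgroup ↥R).map R.subtype).Normal := inferInstance
          exact hsubn hn.isSubnormal (T.2.map _)
        have haT : (⟨a, haR⟩ : ↥R) ∈ (T : Subgroup ↥R) := hT (Subgroup.mem_zpowers a)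
        have : a ∈ (T : Subgroup ↥R).map R.subtype := ⟨_, haT, rfl⟩
        rw [hT0, Subgroup.mem_bot] at this
        rw [Subgroup.mem_bot, this, map_one]
      · obtain ⟨y, hyV, hy1, hyO⟩ := hlow hCtop hVC le_rfl hV1 (sidki_subgroupOf hVC hS)
        have h := CfsgLib.map_pCore_le 2 C ⟨y, hyO, rfl⟩
        rw [hO, Subgroup.mem_bot] at h
        exact hy1 (Subtype.ext h)
    · have hKlt : Nat.card K < Nat.card V :=
        lt_of_le_of_ne (Subgroup.card_le_of_le inf_le_left) fun e => hKV (Subgroup.eq_of_le_of_card_ge inf_le_left e.ge)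
      obtain ⟨h, k, hk, hodd, hinv, hno⟩ : ∃ h k, k ∈ K ∧ Odd (orderOf h) ∧ k * h * k⁻¹ = h⁻¹ ∧
          ∀ w ∈ K, w ≠ 1 → w * h ≠ h * w := by
        have := hbad (W := K) inf_le_left hK1 hKlt
        unfold Cfsg.IsSidkiPair at this
        push_neg at this
        exact this
      have hhC : h ∈ C := by
        have h2 : h ^ 2 ∈ C := by
          have h1 : h * k * h⁻¹ * k⁻¹ ∈ C := mul_mem ((inferInstance : C.Normal).conj_mem k hk.2 h) (inv_mem hk.2)
          have e : h * k * h⁻¹ * k⁻¹ = h ^ 2 := by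
            calc h * k * h⁻¹ * k⁻¹ = h * (k * h * k⁻¹)⁻¹ := by group
              _ = h ^ 2 := by rw [hinv, inv_inv, pow_two]
          rwa [e] at h1
        obtain ⟨j, hj⟩ := hodd
        have : h = ((h ^ 2) ^ (j + 1)) := by
          rw [← pow_mul, show 2 * (j + 1) = (2 * j + 1) + 1 by ring, pow_succ, ← hj, pow_orderOf_eq_one, one_mul]
        rw [this]; exact pow_mem h2 _
      let L : Subgroup G :=
        { carrier := {w | w ∈ V ∧ w * h = h * w}
          one_mem' := ⟨one_mem _, by simp⟩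
          mul_mem' := fun {a b} ha hb => ⟨mul_mem ha.1 hb.1, (Commute.mul_left ha.2 hb.2).eq⟩
          inv_mem' := fun {a} ha => ⟨inv_mem ha.1, (Commute.inv_left ha.2).eq⟩ }
      have hLV : L ≤ V := fun w hw => hw.1
      have hL1 : L ≠ ⊥ := by
        obtain ⟨w, hw, hw1, hwh⟩ := hS h k hk.1 hodd hinv
        exact fun e => hw1 (Subgroup.mem_bot.mp (e ▸ (show w ∈ L from ⟨hw, hwh⟩)))
      have hLK : ∀ w ∈ L, w ∈ C → w = 1 := fun w hw hwC => by
        by_contra hw1
        exact hno w ⟨hw.1, hwC⟩ hw1 hw.2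
      have hLlt : Nat.card L < Nat.card V := by
        refine lt_of_le_of_ne (Subgroup.card_le_of_le hLV) fun e => ?_
        have hLeq := Subgroup.eq_of_le_of_card_ge hLV e.ge
        obtain ⟨w, hw, hw1⟩ := (Subgroup.bot_or_exists_ne_one _).resolve_left hK1
        exact hno w hw hw1 (show w ∈ L from hLeq ▸ hw.1).2
      have hH : M ⊔ L ≠ ⊤ := fun e => hne (eq_top_iff.mpr (e ▸ sup_le_sup_left hLV M))
      have hns : ¬ Cfsg.IsSidkiPair (L.subgroupOf (M ⊔ L)) := fun hLS => by
        obtain ⟨y, hyL, hy1, hyO⟩ := hlow hH le_sup_right hLV hL1 hLS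
        refine hy1 (Subtype.ext (hLK _ hyL (Subgroup.mem_centralizer_iff.mpr fun m hm => ?_)))
        have h := comm_eq_one hO hMs (le_sup_left : M ≤ M ⊔ L) (by rw [Subgroup.normalizer_eq_top]; exact le_top) hyO hm
        rw [mul_inv_eq_one, mul_inv_eq_iff_eq_mul] at h
        exact h.symm
      unfold Cfsg.IsSidkiPair at hns
      push_neg at hns
      obtain ⟨m', l', hl', hmodd, hminv, hmno⟩ := hns
      set m := (m' : G) with hm
      set l := (l' : G) with hl
      have hlL : l ∈ L := hl'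
      have hmodd' : Odd (orderOf m) := by rwa [hm, Subgroup.orderOf_coe]
      have hlm : l * m * l⁻¹ = m⁻¹ := by
        have := congrArg Subtype.val hminv; simpa using this
      have hmM : m ∈ M := by
        have hm2 : m ^ 2 ∈ M := by
          obtain ⟨a, ha, b, hb, hab⟩ := Subgroup.mem_sup_of_normal_left.mp m'.2
          rw [hm, ← hab]
          have : (a * b) ^ 2 = a * (b * a * b⁻¹) * b ^ 2 := by rw [pow_two, pow_two]; group
          rw [this, hV.2 b (hLV hb), mul_one]
          exact mul_mem ha (hMn.conj_mem a ha b)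
        obtain ⟨j, hj⟩ := hmodd'
        have : m = (m ^ 2) ^ (j + 1) := by
          rw [← pow_mul, show 2 * (j + 1) = (2 * j + 1) + 1 by ring, pow_succ, ← hj, pow_orderOf_eq_one, one_mul]
        rw [this]; exact pow_mem hm2 _
      have hhm : Commute h m := (Subgroup.mem_centralizer_iff.mp hhC m hmM).symm
      have hkl : (k * l) * (h * m) * (k * l)⁻¹ = (h * m)⁻¹ := by
        have e1 : l * h * l⁻¹ = h := by rw [hlL.2, mul_inv_cancel_right]
        have e2 : k * m⁻¹ * k⁻¹ = m⁻¹ := by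
          rw [← Subgroup.mem_centralizer_iff.mp hk.2 _ (inv_mem hmM), mul_inv_cancel_right]
        calc (k * l) * (h * m) * (k * l)⁻¹ = k * ((l * h * l⁻¹) * (l * m * l⁻¹)) * k⁻¹ := by group
          _ = (k * h * k⁻¹) * (k * m⁻¹ * k⁻¹) := by rw [e1, hlm]; group
          _ = (h * m)⁻¹ := by rw [hinv, e2, hhm.eq, mul_inv_rev]
      have hodd2 : Odd (orderOf (h * m)) := by
        refine Odd.of_dvd_nat ?_ hhm.orderOf_mul_dvd_lcm
        exact (hodd.mul hmodd').of_dvd_nat (Nat.lcm_dvd_mul _ _)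
      obtain ⟨w, hw, hw1, hwhm⟩ := hS (h * m) (k * l) (mul_mem hk.1 (hLV hlL)) hodd2 hkl
      set y := w * h * w⁻¹ with hy
      set z := w * m * w⁻¹ with hz
      have hzM : z ∈ M := hMn.conj_mem m hmM w
      have hyz : y * z = h * m := by
        calc y * z = w * (h * m) * w⁻¹ := by rw [hy, hz]; group
          _ = h * m := by rw [hwhm, mul_inv_cancel_right]
      set u := h⁻¹ * y with hu
      have huM : u ∈ M := by
        have : u = m * z⁻¹ := by rw [hu, eq_mul_inv_iff_mul_eq, mul_assoc, hyz, inv_mul_cancel_left]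
        rw [this]; exact mul_mem hmM (inv_mem hzM)
      have hhu : Commute h u := (Subgroup.mem_centralizer_iff.mp hhC u huM).symm
      have hku : k * u * k⁻¹ = u := by
        rw [← Subgroup.mem_centralizer_iff.mp hk.2 u huM, mul_inv_cancel_right]
      have hky : k * y * k⁻¹ = y⁻¹ := by
        have hkw : k * w = w * k := hVc k hk.1 w hw
        have hkw' : w⁻¹ * k⁻¹ = k⁻¹ * w⁻¹ := by rw [← mul_inv_rev, ← mul_inv_rev, hkw]
        calc k * y * k⁻¹ = (k * w) * h * (w⁻¹ * k⁻¹) := by rw [hy]; group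
          _ = w * (k * h * k⁻¹) * w⁻¹ := by rw [hkw, hkw']; group
          _ = y⁻¹ := by rw [hinv, hy]; group
      have hy' : y = h * u := by rw [hu, mul_inv_cancel_left]
      have hu2 : u * u = 1 := by
        have h3 : h⁻¹ * u = h⁻¹ * u⁻¹ := by
          calc h⁻¹ * u = (k * h * k⁻¹) * (k * u * k⁻¹) := by rw [hinv, hku]
            _ = k * y * k⁻¹ := by rw [hy']; group
            _ = (h * u)⁻¹ := by rw [hky, hy']
            _ = h⁻¹ * u⁻¹ := by rw [hhu.eq, mul_inv_rev]
        exact mul_eq_one_iff_eq_inv.mpr (mul_left_cancel h3)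
      have hu1 : u = 1 := by
        have hoy : Odd (orderOf y) := by
          have : orderOf y = orderOf h := by
            rw [hy, ← MulAut.conj_apply, MulEquiv.orderOf_eq]
          rw [this]; exact hodd
        have hcy : Commute h⁻¹ y := by rw [hy']; exact ((Commute.refl h).mul_right hhu).inv_left
        have hou : Odd (orderOf u) := by
          refine Odd.of_dvd_nat ?_ hcy.orderOf_mul_dvd_lcm
          rw [orderOf_inv]
          exact (hodd.mul hoy).of_dvd_nat (Nat.lcm_dvd_mul _ _)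
        exact orderOf_eq_one_iff.mp (Nat.eq_one_of_dvd_coprimes (Nat.coprime_two_right.mpr hou) dvd_rfl
          (orderOf_dvd_of_pow_eq_one (by rw [pow_two, hu2])))
      have hwh : w * h = h * w := by
        have : y = h := by rw [hy', hu1, mul_one]
        calc w * h = y * w := by rw [hy]; group
          _ = h * w := by rw [this]
      have hwL : w ∈ L := ⟨hw, hwh⟩
      refine hmno ⟨w, Subgroup.mem_sup_right hwL⟩ hwL (fun e => hw1 (congrArg Subtype.val e)) (Subtype.ext ?_)
      show w * m = m * w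
      have : h * (w * m) = h * (m * w) := by
        rw [← mul_assoc, ← hwh, mul_assoc, hwhm, mul_assoc]
      exact mul_left_cancel this
  -- a minimal normal subgroup
  have hGnt : (⊤ : Subgroup G) ≠ ⊥ := fun e => hV1 (le_bot_iff.mp (e ▸ le_top))
  obtain ⟨M, -, hM'⟩ := Finite.exists_le_minimal (p := fun K : Subgroup G => K.Normal ∧ K ≠ ⊥) (a := ⊤) ⟨inferInstance, hGnt⟩
  haveI hMn : M.Normal := hM'.prop.1
  have hM0 : M ≠ ⊥ := hM'.prop.2
  have hmin : ∀ N : Subgroup G, N.Normal → N ≤ M → N = ⊥ ∨ N = M := fun N hN hle =>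
    (em (N = ⊥)).imp id fun h => le_antisymm hle (hM'.2 ⟨hN, h⟩ hle)
  have htop := key M hMn hM0
  have hdec : ∀ g : G, ∃ m ∈ M, ∃ w ∈ V, m * w = g := fun g =>
    Subgroup.mem_sup_of_normal_left.mp (htop ▸ Subgroup.mem_top g)
  have hnormal : ∀ T : Subgroup G, (∀ m ∈ M, ∀ t ∈ T, m * t * m⁻¹ ∈ T) → (∀ w ∈ V, ∀ t ∈ T, w * t * w⁻¹ ∈ T) → T.Normal := by
    intro T h1 h2
    refine ⟨fun t ht g => ?_⟩
    obtain ⟨m, hm, w, hw, rfl⟩ := hdec g
    have e : m * w * t * (m * w)⁻¹ = m * (w * t * w⁻¹) * m⁻¹ := by group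
    rw [e]; exact h1 m hm _ (h2 w hw t ht)
  have hns : ¬ Group.IsSolvable ↥M := by
    intro hs
    obtain ⟨hMa, p, hp, hexp⟩ := CfsgLib.minimal_normal_elementary hM0 hs hmin
    have hMc : ∀ a ∈ M, ∀ b ∈ M, a * b = b * a := fun a ha b hb => setLike_mul_comm ha hb
    have hVC : V ⊓ Subgroup.centralizer (M : Set G) = ⊥ := by
      refine hsubn (Subgroup.Normal.isSubnormal (hnormal _ (fun m hm t ht => ?_) (fun w hw t ht => ?_)))
        (hV2.to_le inf_le_left)
      · rw [Subgroup.mem_centralizer_iff.mp ht.2 m hm, mul_inv_cancel_right]; exact ht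
      · rw [hVc w hw t ht.1, mul_inv_cancel_right]; exact ht
    have hinvall : ∀ v ∈ V, v ≠ 1 → ∀ x ∈ M, v * x * v⁻¹ = x⁻¹ := by
      intro v hv hv1
      let I : Subgroup G :=
        { carrier := {x | x ∈ M ∧ v * x * v⁻¹ = x⁻¹}
          one_mem' := ⟨one_mem _, by simp⟩
          mul_mem' := fun {a b} ha hb => ⟨mul_mem ha.1 hb.1, by
            calc v * (a * b) * v⁻¹ = (v * a * v⁻¹) * (v * b * v⁻¹) := by group
              _ = a⁻¹ * b⁻¹ := by rw [ha.2, hb.2]
              _ = (a * b)⁻¹ := by rw [hMc a ha.1 b hb.1, mul_inv_rev]⟩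
          inv_mem' := fun {a} ha => ⟨inv_mem ha.1, by
            calc v * a⁻¹ * v⁻¹ = (v * a * v⁻¹)⁻¹ := by group
              _ = a⁻¹⁻¹ := by rw [ha.2]⟩ }
      have hIn : I.Normal := hnormal I (fun m hm t ht => by rw [hMc m hm t ht.1, mul_inv_cancel_right]; exact ht)
        (fun w hw t ht => ⟨hMn.conj_mem t ht.1 w, by
          have h1 : v * w = w * v := hVc v hv w hw
          have h1' : w⁻¹ * v⁻¹ = v⁻¹ * w⁻¹ := by rw [← mul_inv_rev, ← mul_inv_rev, h1]
          calc v * (w * t * w⁻¹) * v⁻¹ = (v * w) * t * (w⁻¹ * v⁻¹) := by group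
            _ = w * (v * t * v⁻¹) * w⁻¹ := by rw [h1, h1']; group
            _ = (w * t * w⁻¹)⁻¹ := by rw [ht.2]; group⟩)
      rcases hmin I hIn (fun x hx => hx.1) with e | e
      · exfalso
        refine hv1 (Subgroup.mem_bot.mp (hVC ▸ (⟨hv, Subgroup.mem_centralizer_iff.mpr fun x hx => ?_⟩ : v ∈ V ⊓ _)))
        have hy : (v * x * v⁻¹) * x⁻¹ ∈ I := ⟨mul_mem (hMn.conj_mem x hx v) (inv_mem hx), by
          calc v * (v * x * v⁻¹ * x⁻¹) * v⁻¹ = (v * v) * x * (v * v)⁻¹ * (v * x * v⁻¹)⁻¹ := by group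
            _ = x * (v * x * v⁻¹)⁻¹ := by rw [← pow_two, hV.2 v hv]; group
            _ = (v * x * v⁻¹ * x⁻¹)⁻¹ := by group⟩
        rw [e, Subgroup.mem_bot, mul_inv_eq_one, mul_inv_eq_iff_eq_mul] at hy
        exact hy.symm
      · exact fun x hx => (show x ∈ I from e ▸ hx).2
    have hMnp : ¬ IsPGroup 2 M := fun h => hM0 (hsubn hMn.isSubnormal h)
    obtain ⟨x, hx, hx1, hxodd⟩ := exists_odd_ne_one hMnp
    obtain ⟨v, hv, hv1⟩ := (Subgroup.bot_or_exists_ne_one _).resolve_left hV1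
    obtain ⟨w, hw, hw1, hwx⟩ := hS x v hv hxodd (hinvall v hv hv1 x hx)
    have := hinvall w hw hw1 x hx
    rw [hwx, mul_inv_cancel_right, eq_inv_iff_mul_eq_one, ← pow_two] at this
    exact hx1 (orderOf_eq_one_iff.mp (Nat.eq_one_of_dvd_coprimes (Nat.coprime_two_right.mpr hxodd) dvd_rfl
      (orderOf_dvd_of_pow_eq_one this)))
  set C := Subgroup.centralizer (M : Set G) with hC
  have hCM : C ⊓ M = ⊥ := by
    rcases hmin (C ⊓ M) inferInstance inf_le_right with e | e
    · exact e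
    · exfalso
      apply hns
      exact Group.isSolvable_of_comm fun a b => Subtype.ext
        (Subgroup.mem_centralizer_iff.mp ((e.ge b.2).1) a a.2)
  have hC1 : C = ⊥ := by
    refine hsubn (inferInstance : C.Normal).isSubnormal fun c => ⟨1, Subtype.ext ?_⟩
    rw [pow_one, SubmonoidClass.coe_pow, OneMemClass.coe_one]
    have h1 : (c : G) ^ 2 ∈ C ⊓ M := by
      refine ⟨pow_mem c.2 2, ?_⟩
      obtain ⟨a, ha, b, hb, hab⟩ := hdec (c : G)
      rw [← hab]
      have : (a * b) ^ 2 = a * (b * a * b⁻¹) * b ^ 2 := by rw [pow_two, pow_two]; group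
      rw [this, hV.2 b hb, mul_one]
      exact mul_mem ha (hMn.conj_mem a ha b)
    rwa [hCM, Subgroup.mem_bot] at h1
  -- a minimal normal subgroup of `M`
  obtain ⟨S, hSM, hS'⟩ := Finite.exists_le_minimal
    (p := fun K : Subgroup G => K ≤ M ∧ (∀ m ∈ M, ∀ t ∈ K, m * t * m⁻¹ ∈ K) ∧ K ≠ ⊥) (a := M)
    ⟨le_rfl, fun m hm t ht => mul_mem (mul_mem hm ht) (inv_mem hm), hM0⟩
  obtain ⟨-, hSn, hS0⟩ := hS'.prop
  have hSsub : S.IsSubnormal := Subgroup.IsSubnormal.step S M hSM hMn.isSubnormal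
    ⟨fun t ht g => hSn g g.2 t ht⟩
  by_cases hfix : ∀ w ∈ V, ∀ t ∈ S, w * t * w⁻¹ ∈ S
  · have hSeq : S = M := ((hmin S (hnormal S hSn hfix) hSM).resolve_left hS0)
    have hFM : Cfsg.generalizedFittingSubgroup G = M := by
      have huni : ∀ N : Subgroup G, N.Normal → N ≠ ⊥ → M ≤ N := by
        intro N hN hN0
        rcases hmin (N ⊓ M) inferInstance inf_le_right with e | e
        · exfalso
          refine hN0 (le_bot_iff.mp (hC1 ▸ fun n hn => Subgroup.mem_centralizer_iff.mpr fun m hm => ?_))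
          have h1 : m * n * m⁻¹ * n⁻¹ ∈ N ⊓ M := ⟨show _ ∈ N from mul_mem (hN.conj_mem n hn m) (inv_mem hn), by
            rw [mul_assoc m, mul_assoc m]; exact mul_mem hm (hMn.conj_mem _ (inv_mem hm) n)⟩
          rw [e, Subgroup.mem_bot, mul_inv_eq_one, mul_inv_eq_iff_eq_mul] at h1
          exact h1
        · exact inf_eq_right.mp e
      have hF : Cfsg.fittingSubgroup G = ⊥ := by
        by_contra h
        have hle := huni _ inferInstance h
        apply hns
        have := CfsgLib.isNilpotent_fittingSubgroup (G := G)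
        exact Group.isSolvable_of_isSolvable_injective (f := Subgroup.inclusion hle) (Subgroup.inclusion_injective _)
      have hL : Cfsg.layer G ≤ M := by
        conv_lhs => rw [← CfsgLib.layer_commutator_self]
        rw [Subgroup.commutator_le]
        intro a _ b _
        obtain ⟨m1, hm1, w1, hw1, rfl⟩ := hdec a
        obtain ⟨m2, hm2, w2, hw2, rfl⟩ := hdec b
        rw [← QuotientGroup.eq_one_iff]
        refine (map_commutatorElement (QuotientGroup.mk' M) _ _).trans ?_
        rw [commutatorElement_eq_one_iff_mul_comm, map_mul, map_mul,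
          show QuotientGroup.mk' M m1 = 1 from (QuotientGroup.eq_one_iff _).mpr hm1,
          show QuotientGroup.mk' M m2 = 1 from (QuotientGroup.eq_one_iff _).mpr hm2, one_mul, one_mul,
          ← map_mul, ← map_mul, hVc w1 hw1 w2 hw2]
      refine le_antisymm (sup_le hL (hF ▸ bot_le)) (huni _ inferInstance fun e => ?_)
      have := CfsgLib.centralizer_generalizedFitting_le (G := G)
      rw [e, Subgroup.coe_bot] at this
      exact hGnt (le_bot_iff.mp (fun g _ => this (by simp [Subgroup.mem_centralizer_iff])))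
    rw [hFM]
    refine ⟨?_, fun h => hns (Group.isSolvable_of_comm fun a b => h.is_comm.comm a b), by rw [sup_comm]; exact htop⟩
    · have : Nontrivial M := (Subgroup.nontrivial_iff_ne_bot M).mpr hM0
      refine ⟨fun N hN => ?_⟩
      by_cases h0 : N = ⊥
      · exact Or.inl h0
      refine Or.inr ?_
      have hp : N.map M.subtype ≤ M ∧ (∀ m ∈ M, ∀ t ∈ N.map M.subtype, m * t * m⁻¹ ∈ N.map M.subtype) ∧
          N.map M.subtype ≠ ⊥ := by
        refine ⟨Subgroup.map_subtype_le N, ?_, fun e => h0 ((Subgroup.map_eq_bot_iff_of_injective _ M.subtype_injective).mp e)⟩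
        rintro m hm _ ⟨t, ht, rfl⟩
        exact ⟨⟨m, hm⟩ * t * ⟨m, hm⟩⁻¹, hN.conj_mem t ht _, rfl⟩
      have hle : S ≤ N.map M.subtype := hS'.2 hp (hSeq ▸ hp.1)
      refine Subgroup.map_injective M.subtype_injective (le_antisymm ?_ ?_)
      · rw [← MonoidHom.range_eq_map, Subgroup.range_subtype]; exact Subgroup.map_subtype_le N
      · rw [← MonoidHom.range_eq_map, Subgroup.range_subtype]; exact hSeq ▸ hle
  -- otherwise a contradiction
  exfalso
  let c : G → Subgroup G := fun w => S.map (MulAut.conj w).toMonoidHom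
  have hmem : ∀ (w t : G), t ∈ S → w * t * w⁻¹ ∈ c w := fun w t ht => ⟨t, ht, rfl⟩
  have hcn : ∀ w, ∀ m ∈ M, ∀ t ∈ c w, m * t * m⁻¹ ∈ c w := by
    rintro w m hm _ ⟨t, ht, rfl⟩
    refine ⟨(w⁻¹ * m * w) * t * (w⁻¹ * m * w)⁻¹, hSn _ (by simpa using hMn.conj_mem m hm w⁻¹) t ht, ?_⟩
    simp only [MulEquiv.coe_toMonoidHom, MulAut.conj_apply]; group
  have hcM : ∀ w, c w ≤ M := by
    rintro w _ ⟨t, ht, rfl⟩
    exact hMn.conj_mem t (hSM ht) w
  have hcV : ∀ a ∈ V, ∀ b ∈ V, ∀ t ∈ c b, a * t * a⁻¹ ∈ c (a * b) := by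
    rintro a _ b _ _ ⟨t, ht, rfl⟩
    have := hmem (a * b) t ht
    simp only [MulEquiv.coe_toMonoidHom, MulAut.conj_apply]
    have e : a * (b * t * b⁻¹) * a⁻¹ = a * b * t * (a * b)⁻¹ := by group
    rw [e]; exact this
  have hdisj : ∀ w, c w ≠ S → ∀ s ∈ S, ∀ t ∈ c w, s * t = t * s := by
    intro w hne s hs t ht
    have h0 : S ⊓ c w = ⊥ := by
      by_contra h
      have hp : S ⊓ c w ≤ M ∧ (∀ m ∈ M, ∀ t ∈ S ⊓ c w, m * t * m⁻¹ ∈ S ⊓ c w) ∧ S ⊓ c w ≠ ⊥ :=
        ⟨inf_le_left.trans hSM, fun m hm t ht => ⟨hSn m hm t ht.1, hcn w m hm t ht.2⟩, h⟩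
      have hle : S ≤ c w := (hS'.2 hp inf_le_left).trans inf_le_right
      exact hne (Subgroup.eq_of_le_of_card_ge hle
        (by rw [Subgroup.card_map_of_injective (MulAut.conj w).injective])).symm
    have h1 : s * t * s⁻¹ * t⁻¹ ∈ S ⊓ c w := ⟨show _ ∈ S by
        rw [mul_assoc s, mul_assoc s]; exact mul_mem hs (hSn t (hcM w ht) _ (inv_mem hs)),
      show _ ∈ c w from mul_mem (hcn w s (hSM hs) t ht) (inv_mem ht)⟩
    rw [h0, Subgroup.mem_bot, mul_inv_eq_one, mul_inv_eq_iff_eq_mul] at h1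
    exact h1
  set W1 := V ⊓ Subgroup.normalizer (S : Set G) with hW1
  have hW1iff : ∀ w ∈ V, w ∈ W1 ↔ c w = S := by
    intro w hw
    constructor
    · intro h
      ext t
      constructor
      · rintro ⟨s, hs, rfl⟩; exact (Subgroup.mem_normalizer_iff.mp h.2 s).mp hs
      · intro ht
        refine ⟨w⁻¹ * t * w, ?_, by simp only [MulEquiv.coe_toMonoidHom, MulAut.conj_apply]; group⟩
        simpa using (Subgroup.mem_normalizer_iff.mp (inv_mem h.2) t).mp ht
    · intro h
      refine ⟨hw, Subgroup.mem_normalizer_iff.mpr fun t => ⟨fun ht => h ▸ hmem w t ht, fun ht => ?_⟩⟩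
      obtain ⟨s, hs, e⟩ := h.ge ht
      rwa [← (MulAut.conj w).injective e]
  obtain ⟨v, hv, t0, ht0, hvt⟩ : ∃ v ∈ V, ∃ t ∈ S, v * t * v⁻¹ ∉ S := by push_neg at hfix; exact hfix
  have hvW : v ∉ W1 := fun h => hvt ((Subgroup.mem_normalizer_iff.mp h.2 t0).mp ht0)
  have hWlt : Nat.card W1 < Nat.card V :=
    lt_of_le_of_ne (Subgroup.card_le_of_le inf_le_left) fun e =>
      hvW ((Subgroup.eq_of_le_of_card_ge (H := W1) inf_le_left e.ge).ge hv)
  have hSN : S ⊔ W1 ≤ Subgroup.normalizer (S : Set G) := sup_le Subgroup.le_normalizer inf_le_right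
  by_cases hW1b : W1 = ⊥
  · have hSnp : ¬ IsPGroup 2 S := fun h => hS0 (hsubn hSsub h)
    obtain ⟨s, hs, hs1, hsodd⟩ := exists_odd_ne_one hSnp
    have hcv : c v ≠ S := fun h => hvW ((hW1iff v hv).mpr h)
    set u := v * s⁻¹ * v⁻¹ with hu
    have huc : u ∈ c v := hmem v _ (inv_mem hs)
    have hsu : Commute s u := hdisj v hcv s hs u huc
    have hvv : v * v = 1 := by rw [← pow_two]; exact hV.2 v hv
    have hinv : v * (s * u) * v⁻¹ = (s * u)⁻¹ := by
      calc v * (s * u) * v⁻¹ = (v * s * v⁻¹) * ((v * v) * s⁻¹ * (v * v)⁻¹) := by rw [hu]; group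
        _ = (v * s * v⁻¹) * s⁻¹ := by rw [hvv]; group
        _ = (s * u)⁻¹ := by rw [hu]; group
    have hodd : Odd (orderOf (s * u)) := by
      refine Odd.of_dvd_nat ?_ hsu.orderOf_mul_dvd_lcm
      have : orderOf u = orderOf s := by rw [hu, ← MulAut.conj_apply, MulEquiv.orderOf_eq, orderOf_inv]
      rw [this, Nat.lcm_self]; exact hsodd
    obtain ⟨w, hw, hw1, hwh⟩ := hS (s * u) v hv hodd hinv
    have hwW : ∀ x ∈ V, c x = S → x = 1 := fun x hx h => Subgroup.mem_bot.mp (hW1b ▸ (hW1iff x hx).mpr h)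
    by_cases hwv : w = v
    · subst hwv
      rw [hwh, mul_inv_cancel_right, eq_inv_iff_mul_eq_one, ← pow_two] at hinv
      have h1 : s * u = 1 := orderOf_eq_one_iff.mp (Nat.eq_one_of_dvd_coprimes (Nat.coprime_two_right.mpr hodd)
        dvd_rfl (orderOf_dvd_of_pow_eq_one hinv))
      have hsc : s ∈ c w := by rw [eq_inv_of_mul_eq_one_left h1]; exact inv_mem huc
      have := hdisj w hcv
      -- `s` is central in `S`
      refine hs1 (Subgroup.mem_bot.mp (hC1 ▸ Subgroup.mem_centralizer_iff.mpr fun m hm => ?_))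
      have h0 : S ⊓ c w = ⊥ := by
        by_contra h
        have hp : S ⊓ c w ≤ M ∧ (∀ m ∈ M, ∀ t ∈ S ⊓ c w, m * t * m⁻¹ ∈ S ⊓ c w) ∧ S ⊓ c w ≠ ⊥ :=
          ⟨inf_le_left.trans hSM, fun m hm t ht => ⟨hSn m hm t ht.1, hcn w m hm t ht.2⟩, h⟩
        exact hcv (Subgroup.eq_of_le_of_card_ge ((hS'.2 hp inf_le_left).trans inf_le_right)
          (by rw [Subgroup.card_map_of_injective (MulAut.conj w).injective])).symm
      have hsb : s ∈ (⊥ : Subgroup G) := h0 ▸ ⟨hs, hsc⟩
      exact absurd (Subgroup.mem_bot.mp hsb) hs1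
    · have hcw : c w ≠ S := fun h => hw1 (hwW w hw h)
      have hcwv : c (w * v) ≠ S := fun h => hwv (by
        have := hwW _ (mul_mem hw hv) h
        rw [mul_eq_one_iff_eq_inv.mp this, hVinv v hv])
      set a := w * s * w⁻¹ with ha
      set b := w * u * w⁻¹ with hb
      have hab : a * b = s * u := by
        calc a * b = w * (s * u) * w⁻¹ := by rw [ha, hb]; group
          _ = s * u := by rw [hwh, mul_inv_cancel_right]
      have hbc : b ∈ c (w * v) := hcV w hw v hv u huc
      have hac : a ∈ c w := hmem w s hs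
      have hscent : ∀ t ∈ S, t * s = s * t := by
        intro t ht
        have h1 : Commute t (a * b) := Commute.mul_right (hdisj w hcw t ht a hac) (hdisj _ hcwv t ht b hbc)
        rw [hab] at h1
        have h2 : Commute t u := hdisj v hcv t ht u huc
        have h3 := h1.mul_right h2.inv_right
        rwa [mul_inv_cancel_right] at h3
      -- the centre of `S` is trivial
      have hZ : (S ⊓ Subgroup.centralizer (S : Set G)) ≠ ⊥ := fun e =>
        hs1 (Subgroup.mem_bot.mp (e ▸ ⟨hs, Subgroup.mem_centralizer_iff.mpr hscent⟩))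
      have hp : S ⊓ Subgroup.centralizer (S : Set G) ≤ M ∧
          (∀ m ∈ M, ∀ t ∈ S ⊓ Subgroup.centralizer (S : Set G), m * t * m⁻¹ ∈ S ⊓ Subgroup.centralizer (S : Set G)) ∧
          S ⊓ Subgroup.centralizer (S : Set G) ≠ ⊥ := by
        refine ⟨inf_le_left.trans hSM, fun m hm t ht => ⟨hSn m hm t ht.1, Subgroup.mem_centralizer_iff.mpr fun x hx => ?_⟩, hZ⟩
        have h1 : m⁻¹ * x * m ∈ S := by simpa using hSn m⁻¹ (inv_mem hm) x hx
        have h2 := Subgroup.mem_centralizer_iff.mp ht.2 _ h1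
        calc x * (m * t * m⁻¹) = m * ((m⁻¹ * x * m) * t) * m⁻¹ := by group
          _ = m * t * m⁻¹ * x := by rw [h2]; group
      have hle : S ≤ Subgroup.centralizer (S : Set G) := (hS'.2 hp inf_le_left).trans inf_le_right
      -- `S` is abelian, so `M` is solvable
      apply hns
      have hSab : ∀ a ∈ S, ∀ b ∈ S, a * b = b * a := fun a ha b hb => Subgroup.mem_centralizer_iff.mp (hle hb) a ha
      have hcab : ∀ a ∈ V, ∀ b ∈ V, ∀ x ∈ c a, ∀ y ∈ c b, x * y = y * x := by
        intro a ha b hb x hx y hy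
        by_cases he : c (a⁻¹ * b) = S
        · obtain ⟨x0, hx0, rfl⟩ := hx
          have h1 : a⁻¹ * y * a⁻¹⁻¹ ∈ c (a⁻¹ * b) := hcV _ (inv_mem ha) b hb y hy
          rw [he, inv_inv] at h1
          simp only [MulEquiv.coe_toMonoidHom, MulAut.conj_apply]
          calc a * x0 * a⁻¹ * y = a * (x0 * (a⁻¹ * y * a)) * a⁻¹ := by group
            _ = y * (a * x0 * a⁻¹) := by rw [hSab x0 hx0 _ h1]; group
        · obtain ⟨x0, hx0, rfl⟩ := hx
          have h1 : a⁻¹ * y * a⁻¹⁻¹ ∈ c (a⁻¹ * b) := hcV _ (inv_mem ha) b hb y hy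
          rw [inv_inv] at h1
          simp only [MulEquiv.coe_toMonoidHom, MulAut.conj_apply]
          calc a * x0 * a⁻¹ * y = a * (x0 * (a⁻¹ * y * a)) * a⁻¹ := by group
            _ = y * (a * x0 * a⁻¹) := by rw [hdisj _ he x0 hx0 _ h1]; group
      have hP : M ≤ Subgroup.closure (⋃ a ∈ (V : Set G), (c a : Set G)) := by
        set P := Subgroup.closure (⋃ a ∈ (V : Set G), (c a : Set G)) with hP
        have hcP : ∀ a ∈ V, c a ≤ P := fun a ha x hx => Subgroup.subset_closure (Set.mem_biUnion ha hx)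
        have hPM : P ≤ M := (Subgroup.closure_le _).mpr (Set.iUnion₂_subset fun a _ => hcM a)
        have hPn : P.Normal := hnormal P (fun m hm t ht => by
          have : P ≤ P.comap (MulAut.conj m).toMonoidHom := (Subgroup.closure_le _).mpr (Set.iUnion₂_subset
            fun a ha x hx => hcP a ha (hcn a m hm x hx))
          exact this ht) (fun w' hw' t ht => by
          have : P ≤ P.comap (MulAut.conj w').toMonoidHom := (Subgroup.closure_le _).mpr (Set.iUnion₂_subset
            fun a ha x hx => hcP _ (mul_mem hw' ha) (hcV w' hw' a ha x hx))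
          exact this ht)
        rcases hmin P hPn hPM with e | e
        · exfalso
          exact hS0 (le_bot_iff.mp (fun x hx => e ▸ hcP 1 (one_mem _) (by simpa using hmem 1 x hx)))
        · exact e.ge
      have hcomm := Subgroup.isMulCommutative_closure (k := ⋃ a ∈ (V : Set G), (c a : Set G)) (fun x hx y hy => by
        simp only [Set.mem_iUnion, exists_prop] at hx hy
        obtain ⟨a, ha, hxa⟩ := hx
        obtain ⟨b', hb', hyb⟩ := hy
        exact hcab a ha b' hb' x hxa y hyb)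
      exact Group.isSolvable_of_comm fun a b => Subtype.ext (setLike_mul_comm (hP a.2) (hP b.2))
  · have hH : S ⊔ W1 ≠ ⊤ := fun e => hvW ⟨hv, hSN (e ▸ Subgroup.mem_top v)⟩
    have hns' : ¬ Cfsg.IsSidkiPair (W1.subgroupOf (S ⊔ W1)) := fun hWS => by
      obtain ⟨y, hyW, hy1, hyO⟩ := hlow hH le_sup_right inf_le_left hW1b hWS
      have hyS : ∀ t ∈ S, t * (y : G) = y * t := fun t ht => by
        have h := comm_eq_one hO hSsub (le_sup_left : S ≤ S ⊔ W1) hSN hyO ht
        rw [mul_inv_eq_one, mul_inv_eq_iff_eq_mul] at h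
        exact h.symm
      -- the centralizer of `y` in `M` is normal
      have hn : (M ⊓ Subgroup.centralizer ({(y : G)} : Set G)) = M := by
        let P := ⨆ a : V, c a
        have hPM : P ≤ M := iSup_le fun a => hcM a
        have hPn : P.Normal := hnormal P (fun m hm t ht => by
          have : P ≤ P.comap (MulAut.conj m).toMonoidHom := iSup_le fun a x hx => le_iSup (fun a : V => c a) a (hcn a m hm x hx)
          exact this ht) (fun w' hw' t ht => by
          have : P ≤ P.comap (MulAut.conj w').toMonoidHom := iSup_le fun a x hx =>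
            le_iSup (fun a : V => c a) ⟨_, mul_mem hw' a.2⟩ (hcV w' hw' a a.2 x hx)
          exact this ht)
        rcases hmin P hPn hPM with e | e
        · exact absurd (le_bot_iff.mp fun x hx => e ▸ le_iSup (fun a : V => c a) 1 (by simpa using hmem 1 x hx)) hS0
        · refine le_antisymm inf_le_left ?_
          conv_lhs => rw [← e]
          refine iSup_le fun a => le_inf (hcM a) ?_
          rintro _ ⟨x, hx, rfl⟩
          refine Subgroup.mem_centralizer_iff.mpr fun z hz => ?_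
          rw [Set.mem_singleton_iff.mp hz]
          have hay : (a : G) * y = y * a := hVc a a.2 y hyW.1
          simp only [MulEquiv.coe_toMonoidHom, MulAut.conj_apply]
          calc (y : G) * ((a : G) * x * (a : G)⁻¹) = ((y : G) * a) * x * (a : G)⁻¹ := by group
            _ = (a : G) * ((y : G) * x) * (a : G)⁻¹ := by rw [← hay]; group
            _ = (a : G) * x * ((y : G) * (a : G)⁻¹) := by rw [← hyS x hx]; group
            _ = (a : G) * x * (a : G)⁻¹ * y := by
                rw [← (Commute.inv_left (show Commute (a : G) y from hay)).eq]; group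
      refine hy1 (Subtype.ext (Subgroup.mem_bot.mp (hC1 ▸ Subgroup.mem_centralizer_iff.mpr fun m hm => ?_)))
      exact (Subgroup.mem_centralizer_iff.mp (hn.ge hm).2 (y : G) rfl).symm
    unfold Cfsg.IsSidkiPair at hns'
    push_neg at hns'
    obtain ⟨m', l', hl', hmodd, hminv, hmno⟩ := hns'
    set m := (m' : G) with hm
    have hmodd' : Odd (orderOf m) := by rwa [hm, Subgroup.orderOf_coe]
    have hmS : m ∈ S := by
      have hm2 : m ^ 2 ∈ S := by
        suffices key : ∀ x ∈ S ⊔ W1, x ^ 2 ∈ S from key _ m'.2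
        intro x h
        rw [← SetLike.mem_coe, sup_comm, Subgroup.coe_mul_of_left_le_normalizer_right W1 S inf_le_right] at h
        obtain ⟨b, hb, a, ha, hab⟩ := h
        rw [← hab]
        have : (b * a) ^ 2 = (b * a * b⁻¹) * b ^ 2 * a := by rw [pow_two, pow_two]; group
        rw [this, hV.2 b hb.1, mul_one]
        exact mul_mem ((Subgroup.mem_normalizer_iff.mp hb.2 a).mp ha) ha
      obtain ⟨j, hj⟩ := hmodd'
      have : m = (m ^ 2) ^ (j + 1) := by
        rw [← pow_mul, show 2 * (j + 1) = (2 * j + 1) + 1 by ring, pow_succ, ← hj, pow_orderOf_eq_one, one_mul]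
      rw [this]; exact pow_mem hm2 _
    have hm1 : m ≠ 1 := fun e => by
      obtain ⟨w, hw, hw1⟩ := (Subgroup.bot_or_exists_ne_one _).resolve_left hW1b
      exact hmno ⟨w, Subgroup.mem_sup_right hw⟩ hw (fun e' => hw1 (congrArg Subtype.val e')) (Subtype.ext (by
        show w * m = m * w
        rw [e, mul_one, one_mul]))
    obtain ⟨w, hw, hw1, hwm⟩ := hS m l' hl'.1 hmodd' (by have := congrArg Subtype.val hminv; simpa using this)
    by_cases hcw : c w = S
    · have hwW : w ∈ W1 := (hW1iff w hw).mpr hcw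
      exact hmno ⟨w, Subgroup.mem_sup_right hwW⟩ hwW (fun e' => hw1 (congrArg Subtype.val e')) (Subtype.ext hwm)
    · have hmc : m ∈ c w := by
        have := hmem w m hmS
        rwa [hwm, mul_inv_cancel_right] at this
      have h0 : S ⊓ c w = ⊥ := by
        by_contra h
        have hp : S ⊓ c w ≤ M ∧ (∀ m ∈ M, ∀ t ∈ S ⊓ c w, m * t * m⁻¹ ∈ S ⊓ c w) ∧ S ⊓ c w ≠ ⊥ :=
          ⟨inf_le_left.trans hSM, fun m hm t ht => ⟨hSn m hm t ht.1, hcn w m hm t ht.2⟩, h⟩
        exact hcw (Subgroup.eq_of_le_of_card_ge ((hS'.2 hp inf_le_left).trans inf_le_right)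
          (by rw [Subgroup.card_map_of_injective (MulAut.conj w).injective])).symm
      have hmb : m ∈ (⊥ : Subgroup G) := h0 ▸ ⟨hmS, hmc⟩
      exact hm1 (Subgroup.mem_bot.mp hmb)

/-- Minimal counterexample reduction for the Sidki pair problem. Let G be a finite group and V a nontrivial elementary abelian 2-subgroup satisfying the Sidki pair condition with V ∩ O₂(G) = 1. Suppose that for every finite group H of smaller order, every nontrivial elementary abelian 2-subgroup W of H satisfying the Sidki pair condition meets O₂(H) nontrivially, and that the same holds in G for every such subgroup W of order smaller than that of V. Then the generalized Fitting subgroup F*(G) is a non-abelian simple group and G = V F*(G). -/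
theorem result {G : Type u} [Group G] [Finite G] (V : Subgroup G) (hV : Cfsg.IsElementaryAbelian 2 V) (hV1 : V ≠ ⊥) (hS : Cfsg.IsSidkiPair V) (hVO : V ⊓ Cfsg.pCore 2 G = ⊥) (hminG : ∀ (H : Type u) [Group H] [Finite H] (W : Subgroup H), Nat.card H < Nat.card G → Cfsg.IsElementaryAbelian 2 W → W ≠ ⊥ → Cfsg.IsSidkiPair W → W ⊓ Cfsg.pCore 2 H ≠ ⊥) (hminV : ∀ W : Subgroup G, Nat.card W < Nat.card V → Cfsg.IsElementaryAbelian 2 W → W ≠ ⊥ → Cfsg.IsSidkiPair W → W ⊓ Cfsg.pCore 2 G ≠ ⊥) : IsSimpleGroup ↥(Cfsg.generalizedFittingSubgroup G) ∧ ¬ IsMulCommutative ↥(Cfsg.generalizedFittingSubgroup G) ∧ V ⊔ Cfsg.generalizedFittingSubgroup G = ⊤ := by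
  exact main V hV hV1 hS hVO hminG hminV

end Cfsg.Agent.S3048
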