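import Cfsg.Statements.S3050
import Cfsg.Agent.Lib.HigmanSL2

set_option autoImplicit false
set_option linter.unusedVariables false
open Cfsg
open scoped commutatorElement

namespace Cfsg.Agent.S3050

open CfsgLib CfsgLib.SL2Pair CfsgLib.Higman

variable {K : Type*} [Field K] [Finite K] [CharP K 2]

theorem trace_one {X : Matrix (Fin 2) (Fin 2) K} (hdet : X.det = 1) (h3 : X ^ 3 = 1) (hne : X ≠ 1) :
    X 0 0 + X 1 1 = 1 := by
  rw [Matrix.det_fin_two] at hdet
  have h3' : X * X * X = 1 := by rw [← h3, pow_succ, sq]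
  have e : ∀ i j, (X * X * X) i j = (1 : Matrix (Fin 2) (Fin 2) K) i j := fun i j => by rw [h3']
  have e00 := e 0 0; have e01 := e 0 1; have e10 := e 1 0; have e11 := e 1 1
  simp only [Matrix.mul_apply, Fin.sum_univ_two, Matrix.one_apply_eq, Matrix.one_apply_ne (show (0 : Fin 2) ≠ 1 by decide),
    Matrix.one_apply_ne (show (1 : Fin 2) ≠ 0 by decide)] at e00 e01 e10 e11
  have h2 : (2 : K) = 0 := CharTwo.two_eq_zero
  by_contra ht
  have hq : (X 0 0 + X 1 1) ^ 2 + 1 ≠ 0 := by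
    intro h
    apply ht
    have : (X 0 0 + X 1 1 + 1) ^ 2 = 0 := by rw [CharTwo.add_sq, one_pow]; exact h
    exact CharTwo.add_eq_zero.mp (pow_eq_zero_iff two_ne_zero |>.mp this)
  have h01 : X 0 1 = 0 := by
    refine (mul_eq_zero.mp (?_ : ((X 0 0 + X 1 1) ^ 2 + 1) * X 0 1 = 0)).resolve_left hq
    linear_combination e01 + X 0 1 * hdet + X 0 1 * h2
  have h10 : X 1 0 = 0 := by
    refine (mul_eq_zero.mp (?_ : ((X 0 0 + X 1 1) ^ 2 + 1) * X 1 0 = 0)).resolve_left hq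
    linear_combination e10 + X 1 0 * hdet + X 1 0 * h2
  rw [h01, h10] at e00 e11 hdet
  have heq : X 0 0 = X 1 1 := by
    have h' : ((X 0 0 + X 1 1) ^ 2 + 1) * (X 0 0 - X 1 1) = 0 := by
      linear_combination e00 - e11 + (X 0 0 - X 1 1) * hdet + (X 0 0 - X 1 1) * h2
    exact sub_eq_zero.mp ((mul_eq_zero.mp h').resolve_left hq)
  have h1 : X 0 0 = 1 := by
    rw [← heq] at hdet
    linear_combination e00 - X 0 0 * hdet
  refine hne (Matrix.ext fun i j => ?_)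
  fin_cases i <;> fin_cases j
  · simpa using h1
  · simpa using h01
  · simpa using h10
  · simpa [← heq] using h1

theorem conj_standard (s : Matrix.SpecialLinearGroup (Fin 2) K) (hs : s.1 0 0 + s.1 1 1 = 1) :
    ∃ k, s = k * (up 1 * lo 1) * k⁻¹ := by
  obtain ⟨S, hS⟩ : ∃ S, s.1 = S := ⟨_, rfl⟩
  have hdet : S 0 0 * S 1 1 - S 0 1 * S 1 0 = 1 := by rw [← hS, ← Matrix.det_fin_two]; exact s.2
  rw [hS] at hs
  have h2 : (2 : K) = 0 := CharTwo.two_eq_zero
  obtain ⟨p, q, hd⟩ : ∃ p q : K, p * (S 1 0 * p + S 1 1 * q) - (S 0 0 * p + S 0 1 * q) * q ≠ 0 := by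
    by_cases h10 : S 1 0 = 0
    · by_cases h01 : S 0 1 = 0
      · refine ⟨1, 1, ?_⟩
        rw [h10, h01]; simp
        intro h
        exact one_ne_zero (α := K) (by linear_combination -1 * hs + h + S 0 0 * h2)
      · exact ⟨0, 1, by simpa using h01⟩
    · exact ⟨1, 0, by simpa using h10⟩
  obtain ⟨c, hc⟩ := (Finite.injective_iff_surjective.mp (frobenius_inj K 2))
    (p * (S 1 0 * p + S 1 1 * q) - (S 0 0 * p + S 0 1 * q) * q)⁻¹
  rw [frobenius_def] at hc
  let P : Matrix (Fin 2) (Fin 2) K :=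
    !![c * p, S 0 0 * (c * p) + S 0 1 * (c * q); c * q, S 1 0 * (c * p) + S 1 1 * (c * q)]
  have hP : P.det = 1 := by
    rw [Matrix.det_fin_two_of]
    have := mul_inv_cancel₀ hd
    rw [← hc] at this
    linear_combination this
  refine ⟨⟨P, hP⟩, eq_mul_inv_of_mul_eq (Subtype.ext ?_)⟩
  show s.1 * P = P * (!![1, 1; 0, 1] * !![1, 0; 1, 1])
  rw [hS, Matrix.mul_fin_two, Matrix.eta_fin_two S]
  show !![S 0 0, S 0 1; S 1 0, S 1 1] * !![_, _; _, _] = !![_, _; _, _] * _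
  rw [Matrix.mul_fin_two, Matrix.mul_fin_two]
  congr 1
  ext i j
  fin_cases i <;> fin_cases j <;>
    simp only [Fin.zero_eta, Fin.mk_one, Matrix.cons_val_zero, Matrix.cons_val_one]
  · linear_combination (-(c * p)) * h2
  · linear_combination (S 0 0 * (c * p) + S 0 1 * (c * q)) * hs - (c * p) * hdet - (c * p) * h2
  · linear_combination (-(c * q)) * h2
  · linear_combination (S 1 0 * (c * p) + S 1 1 * (c * q)) * hs - (c * q) * hdet - (c * q) * h2

universe u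

variable {G : Type u} [Group G] [Finite G]

/-- A normal abelian subgroup with `x` fixed point free as a module of the quotient. -/
theorem exists_phi (π : G →* Matrix.SpecialLinearGroup (Fin 2) K) (hs : Function.Surjective π) (Y : Subgroup G)
    [Y.Normal] (hYc : ∀ a ∈ Y, ∀ b ∈ Y, a * b = b * a) (hcen : ∀ q ∈ π.ker, ∀ y ∈ Y, q * y = y * q)
    {x : G} (hx3 : x ^ 3 = 1) (hx1 : π x ≠ 1) (hfpf : ∀ y ∈ Y, x * y * x⁻¹ = y → y = 1) :
    ∃ (U : Type) (_ : AddCommGroup U) (_ : Finite U)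
      (φ : Matrix.SpecialLinearGroup (Fin 2) K →* AddMonoid.End U) (τ : ↥Y → U),
      Function.Bijective τ ∧ (∀ a b, τ (a * b) = τ a + τ b) ∧
      (∀ (g : G) (y : ↥Y) (h : g * y * g⁻¹ ∈ Y), φ (π g) (τ y) = τ ⟨g * y * g⁻¹, h⟩) ∧
      ∀ a : K, a ≠ 0 → φ (up a * lo a⁻¹) * φ (up a * lo a⁻¹) + φ (up a * lo a⁻¹) + 1 = 0 := by
  obtain ⟨U, iU, iU', ρ, τ, hτs, hτadd, hτker, hτact⟩ := exists_sectionRep (⊤ : Subgroup G) Y ⊥ bot_le hYc
    (fun g _ y hy => (inferInstance : Y.Normal).conj_mem y hy g) (fun g _ z hz => by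
      rw [Subgroup.mem_bot] at hz ⊢; rw [hz]; group)
  have hτi : Function.Injective τ := fun a b e => by
    have h1 : τ (a * b⁻¹) + τ b = τ b := by rw [← hτadd, inv_mul_cancel_right, e]
    have h2 := (hτker _).mp (add_eq_right.mp h1)
    exact Subtype.ext (mul_inv_eq_one.mp (Subgroup.mem_bot.mp h2))
  let ρ' : G →* AddMonoid.End U := ρ.comp (Subgroup.topEquiv.symm.toMonoidHom)
  have hρ' : ∀ (g : G) (y : ↥Y) (h : g * y * g⁻¹ ∈ Y), ρ' g (τ y) = τ ⟨g * y * g⁻¹, h⟩ :=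
    fun g y h => hτact ⟨g, Subgroup.mem_top g⟩ y h
  have hker : π.ker ≤ ρ'.ker := fun q hq => MonoidHom.mem_ker.mpr (AddMonoidHom.ext fun u => by
    obtain ⟨y, rfl⟩ := hτs u
    refine (hρ' q y ((inferInstance : Y.Normal).conj_mem _ y.2 q)).trans ?_
    exact congrArg τ (Subtype.ext (by
      show q * y * q⁻¹ = y
      rw [hcen q hq y y.2, mul_inv_cancel_right])))
  obtain ⟨φ, hφ⟩ : ∃ φ : Matrix.SpecialLinearGroup (Fin 2) K →* AddMonoid.End U, ∀ g, φ (π g) = ρ' g := by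
    obtain ⟨s, hs'⟩ := hs.hasRightInverse
    refine ⟨{ toFun := fun k => ρ' (s k), map_one' := ?_, map_mul' := fun a b => ?_ }, fun g => ?_⟩
    · exact MonoidHom.mem_ker.mp (hker (MonoidHom.mem_ker.mpr (hs' 1)))
    · show ρ' (s (a * b)) = ρ' (s a) * ρ' (s b)
      rw [← map_mul]
      have : s (a * b) * (s a * s b)⁻¹ ∈ ρ'.ker := hker (by
        rw [MonoidHom.mem_ker, map_mul, map_inv, map_mul, hs', hs', hs', mul_inv_cancel])
      calc ρ' (s (a * b)) = ρ' (s (a * b) * (s a * s b)⁻¹ * (s a * s b)) := by rw [inv_mul_cancel_right]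
        _ = ρ' (s a * s b) := by rw [map_mul, MonoidHom.mem_ker.mp this, one_mul]
    · show ρ' (s (π g)) = ρ' g
      have : s (π g) * g⁻¹ ∈ ρ'.ker := hker (by rw [MonoidHom.mem_ker, map_mul, map_inv, hs', mul_inv_cancel])
      calc ρ' (s (π g)) = ρ' (s (π g) * g⁻¹ * g) := by rw [inv_mul_cancel_right]
        _ = ρ' g := by rw [map_mul, MonoidHom.mem_ker.mp this, one_mul]
  refine ⟨U, iU, iU', φ, τ, ⟨hτi, hτs⟩, hτadd, fun g y h => by rw [hφ]; exact hρ' g y h, ?_⟩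
  obtain ⟨z, hz⟩ : ∃ z, φ (π x) = z := ⟨_, rfl⟩
  have hz3 : z * z * z = 1 := by rw [← hz, ← map_mul, ← map_mul, ← map_mul, ← map_mul, ← sq, ← pow_succ, hx3, map_one, map_one]
  have hzero : z * z + z + 1 = 0 := by
    refine AddMonoidHom.ext fun u => ?_
    obtain ⟨y, hy⟩ := hτs ((z * z + z + 1) u)
    have hfix : z ((z * z + z + 1) u) = (z * z + z + 1) u := by
      show (z * (z * z + z + 1)) u = _
      rw [mul_add, mul_add, ← mul_assoc, hz3, mul_one, show 1 + z * z + z = z * z + z + 1 by abel]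
    rw [← hy, ← hz, hφ, hρ' x y ((inferInstance : Y.Normal).conj_mem _ y.2 x)] at hfix
    have hy1 : y = 1 := Subtype.ext (hfpf y y.2 (congrArg Subtype.val (hτi hfix)))
    refine hy.symm.trans ?_
    rw [hy1]
    exact (hτker 1).mpr (Subgroup.one_mem ⊥)
  obtain ⟨k₀, hk₀⟩ := conj_standard (π x) (trace_one (π x).2
    (by rw [← Matrix.SpecialLinearGroup.coe_pow, ← map_pow, hx3, map_one, Matrix.SpecialLinearGroup.coe_one])
    fun e => hx1 (Subtype.ext e))
  intro a ha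
  obtain ⟨k₁, hk₁⟩ := conj_standard (up a * lo a⁻¹) (by
    show (!![1, a; 0, 1] * !![1, 0; a⁻¹, 1]) 0 0 + (!![1, a; 0, 1] * !![1, 0; a⁻¹, 1]) 1 1 = 1
    rw [Matrix.mul_fin_two]
    simp [ha, CharTwo.add_self_eq_zero])
  obtain ⟨k, hk⟩ : ∃ k, up a * lo a⁻¹ = k * π x * k⁻¹ :=
    ⟨k₁ * k₀⁻¹, by rw [hk₁, hk₀]; group⟩
  obtain ⟨e, he⟩ : ∃ e, φ k = e := ⟨_, rfl⟩
  obtain ⟨e', he'⟩ : ∃ e', φ k⁻¹ = e' := ⟨_, rfl⟩
  have hee : e' * e = 1 := by rw [← he, ← he', ← map_mul, inv_mul_cancel, map_one]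
  have hee' : e * e' = 1 := by rw [← he, ← he', ← map_mul, mul_inv_cancel, map_one]
  rw [hk, map_mul, map_mul, hz, he, he']
  calc e * z * e' * (e * z * e') + e * z * e' + 1 = e * (z * (e' * e) * z + z) * e' + 1 := by noncomm_ring
    _ = e * (z * z + z + 1) * e' := by
      rw [hee, mul_one, mul_add e (z * z + z) 1, add_mul, mul_one, hee']
    _ = 0 := by rw [hzero, mul_zero, zero_mul]

/-- The kernel is elementary abelian. -/
theorem elementary {a : K} (ha0 : a ≠ 0) (ha1 : a ≠ 1) :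
    ∀ (m : ℕ) (G : Type u) [Group G] [Finite G] (π : G →* Matrix.SpecialLinearGroup (Fin 2) K),
      Nat.card G = m → Function.Surjective π → IsPGroup 2 π.ker → ∀ x : G, x ^ 3 = 1 → π x ≠ 1 →
      (∀ q ∈ π.ker, x * q * x⁻¹ = q → q = 1) →
      (∀ q ∈ π.ker, ∀ q' ∈ π.ker, q * q' = q' * q) ∧ ∀ q ∈ π.ker, q ^ 2 = 1 := by
  intro m
  induction m using Nat.strong_induction_on with
  | _ m ih =>
  intro G _ _ π hm hπ hp x hx3 hx1 hfpf
  by_cases hQ : π.ker = ⊥
  · refine ⟨fun q hq q' hq' => ?_, fun q hq => ?_⟩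
    · rw [hQ, Subgroup.mem_bot] at hq hq'; rw [hq, hq']
    · rw [hQ, Subgroup.mem_bot] at hq; rw [hq, one_pow]
  let Z : Subgroup G :=
    { carrier := {z | z ∈ π.ker ∧ (∀ q ∈ π.ker, q * z = z * q) ∧ z ^ 2 = 1}
      one_mem' := ⟨π.ker.one_mem, fun q _ => by rw [mul_one, one_mul], one_pow 2⟩
      mul_mem' := fun {z z'} ⟨h1, h2, h3⟩ ⟨h1', h2', h3'⟩ => ⟨π.ker.mul_mem h1 h1', fun q hq => by
          rw [← mul_assoc, h2 q hq, mul_assoc, h2' q hq, mul_assoc],
        by rw [Commute.mul_pow (h2' z h1), h3, h3', mul_one]⟩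
      inv_mem' := fun {z} ⟨h1, h2, h3⟩ => ⟨π.ker.inv_mem h1, fun q hq => (Commute.inv_right (h2 q hq)).eq,
        by rw [inv_pow, h3, inv_one]⟩ }
  haveI hZn : Z.Normal := ⟨fun z ⟨h1, h2, h3⟩ g => ⟨(inferInstance : π.ker.Normal).conj_mem z h1 g, fun q hq => by
      have h := h2 (g⁻¹ * q * g⁻¹⁻¹) ((inferInstance : π.ker.Normal).conj_mem q hq g⁻¹)
      calc q * (g * z * g⁻¹) = g * (g⁻¹ * q * g⁻¹⁻¹ * z) * g⁻¹ := by group
        _ = g * (z * (g⁻¹ * q * g⁻¹⁻¹)) * g⁻¹ := by rw [h]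
        _ = g * z * g⁻¹ * q := by group,
    by rw [conj_pow, h3, mul_one, mul_inv_cancel]⟩⟩
  have hZbot : Z ≠ ⊥ := by
    haveI : Fact (Nat.Prime 2) := ⟨Nat.prime_two⟩
    haveI : Nontrivial ↥π.ker := (Subgroup.nontrivial_iff_ne_bot _).mpr hQ
    haveI := hp.center_nontrivial
    obtain ⟨k, hk0, hk⟩ := (hp.to_subgroup (Subgroup.center ↥π.ker)).nontrivial_iff_card.mp inferInstance
    obtain ⟨z, hz⟩ := exists_prime_orderOf_dvd_card' (G := ↥(Subgroup.center ↥π.ker)) 2 (by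
      rw [hk]; exact dvd_pow_self 2 hk0.ne')
    intro e
    have hz2 := pow_orderOf_eq_one z
    rw [hz] at hz2
    have hzZ : ((z : ↥π.ker) : G) ∈ Z := ⟨(z : ↥π.ker).2, fun q hq =>
      congrArg Subtype.val (Subgroup.mem_center_iff.mp z.2 ⟨q, hq⟩),
      congrArg (Subtype.val ∘ Subtype.val) hz2⟩
    rw [e, Subgroup.mem_bot] at hzZ
    rw [show z = 1 from Subtype.ext (Subtype.ext hzZ), orderOf_one] at hz
    exact absurd hz (by norm_num)
  have hlt : Nat.card (G ⧸ Z) < m := by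
    rw [← hm, Subgroup.card_eq_card_quotient_mul_card_subgroup Z]
    exact lt_mul_of_one_lt_right Nat.card_pos
      (Finite.one_lt_card_iff_nontrivial.mpr ((Subgroup.nontrivial_iff_ne_bot Z).mpr hZbot))
  let πb : G ⧸ Z →* Matrix.SpecialLinearGroup (Fin 2) K := QuotientGroup.lift Z π fun z hz => hz.1
  have hπb : ∀ g : G, πb g = π g := fun g => rfl
  have hkb : ∀ q : G, (q : G ⧸ Z) ∈ πb.ker ↔ q ∈ π.ker := fun q => Iff.rfl
  obtain ⟨ihc, ihe⟩ := ih _ hlt (G ⧸ Z) πb rfl (fun k => by obtain ⟨g, hg⟩ := hπ k; exact ⟨(g : G ⧸ Z), hg⟩)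
    (by
      intro q
      obtain ⟨g, hg⟩ := QuotientGroup.mk_surjective q.1
      obtain ⟨k, hk⟩ := hp ⟨g, (hkb g).mp (hg ▸ q.2)⟩
      exact ⟨k, Subtype.ext (by
        show q.1 ^ 2 ^ k = 1
        rw [← hg, ← QuotientGroup.mk_pow, show g ^ 2 ^ k = 1 from congrArg Subtype.val hk]; rfl)⟩)
    (x : G ⧸ Z) (by rw [← QuotientGroup.mk_pow, hx3]; rfl) hx1 (by
      intro qq hqq e
      obtain ⟨q, rfl⟩ := QuotientGroup.mk_surjective qq
      have hd : x * q * x⁻¹ * q⁻¹ ∈ Z := by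
        rw [← QuotientGroup.eq_one_iff, QuotientGroup.mk_mul, QuotientGroup.mk_inv, QuotientGroup.mk_mul,
          QuotientGroup.mk_mul, QuotientGroup.mk_inv, e, mul_inv_cancel]
      -- correct `q` by an element of `Z`
      let f : ↥Z → ↥Z := fun z => ⟨x * z * x⁻¹ * (z : G)⁻¹, Z.mul_mem (hZn.conj_mem _ z.2 x) (Z.inv_mem z.2)⟩
      have hf : Function.Injective f := by
        intro z z' e'
        have e1 : x * (z : G) * x⁻¹ * (z : G)⁻¹ = x * (z' : G) * x⁻¹ * (z' : G)⁻¹ := congrArg Subtype.val e'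
        have h5 : (z' : G)⁻¹ * (z : G) ∈ π.ker := π.ker.mul_mem (π.ker.inv_mem z'.2.1) z.2.1
        refine Subtype.ext (inv_mul_eq_one.mp (hfpf _ h5 ?_)).symm
        calc x * ((z' : G)⁻¹ * (z : G)) * x⁻¹ = (x * (z' : G) * x⁻¹)⁻¹ * ((x * (z : G) * x⁻¹ * (z : G)⁻¹) * (z : G)) := by group
          _ = (z' : G)⁻¹ * ((x * (z' : G) * x⁻¹ * (z' : G)⁻¹)⁻¹ * (x * (z' : G) * x⁻¹ * (z' : G)⁻¹) * (z : G)) := by
            rw [e1]; group
          _ = _ := by group
      obtain ⟨z, hz⟩ := Finite.injective_iff_surjective.mp hf ⟨_, Z.inv_mem hd⟩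
      have hz' : x * (z : G) * x⁻¹ * (z : G)⁻¹ = (x * q * x⁻¹ * q⁻¹)⁻¹ := congrArg Subtype.val hz
      have hzc := z.2.2.1 q ((hkb q).mp hqq)
      have h0 : x * (q * z) * x⁻¹ = q * z := by
        calc x * (q * z) * x⁻¹ = (x * q * x⁻¹ * q⁻¹) * q * ((x * z * x⁻¹ * (z : G)⁻¹) * z) := by group
          _ = (x * q * x⁻¹ * q⁻¹) * q * ((x * q * x⁻¹ * q⁻¹)⁻¹ * z) := by rw [hz']
          _ = (x * q * x⁻¹ * q⁻¹) * (q * (x * q * x⁻¹ * q⁻¹)⁻¹) * z := by group
          _ = (x * q * x⁻¹ * q⁻¹) * ((x * q * x⁻¹ * q⁻¹)⁻¹ * q) * z := by rw [(Z.inv_mem hd).2.1 q ((hkb q).mp hqq)]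
          _ = q * z := by rw [mul_inv_cancel_left]
      have h1 := hfpf _ (π.ker.mul_mem ((hkb q).mp hqq) z.2.1) h0
      exact (QuotientGroup.eq_one_iff q).mpr (by rw [eq_inv_of_mul_eq_one_left h1]; exact Z.inv_mem z.2))
  have hcommZ : ∀ q ∈ π.ker, ∀ q' ∈ π.ker, q * q' * q⁻¹ * q'⁻¹ ∈ Z := fun q hq q' hq' => by
    rw [← QuotientGroup.eq_one_iff, QuotientGroup.mk_mul, QuotientGroup.mk_mul, QuotientGroup.mk_mul,
      ihc _ ((hkb q).mpr hq) _ ((hkb q').mpr hq'), QuotientGroup.mk_inv, QuotientGroup.mk_inv]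
    group
  have hsqZ : ∀ q ∈ π.ker, q ^ 2 ∈ Z := fun q hq => by
    rw [← QuotientGroup.eq_one_iff, QuotientGroup.mk_pow]; exact ihe _ ((hkb q).mpr hq)
  -- the two modules
  obtain ⟨U₁, i1, i1', φ₁, τ₁, hτ₁, hτ₁add, hτ₁act, hcub₁⟩ := exists_phi πb
    (fun k => by obtain ⟨g, hg⟩ := hπ k; exact ⟨(g : G ⧸ Z), hg⟩) πb.ker ihc (fun q hq y hy => ihc q hq y hy)
    (x := (x : G ⧸ Z)) (by rw [← QuotientGroup.mk_pow, hx3]; rfl) hx1 (by
      intro y hy e
      obtain ⟨q, rfl⟩ := QuotientGroup.mk_surjective y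
      have hd : x * q * x⁻¹ * q⁻¹ ∈ Z := by
        rw [← QuotientGroup.eq_one_iff, QuotientGroup.mk_mul, QuotientGroup.mk_inv, QuotientGroup.mk_mul,
          QuotientGroup.mk_mul, QuotientGroup.mk_inv, e, mul_inv_cancel]
      let f : ↥Z → ↥Z := fun z => ⟨x * z * x⁻¹ * (z : G)⁻¹, Z.mul_mem (hZn.conj_mem _ z.2 x) (Z.inv_mem z.2)⟩
      have hf : Function.Injective f := by
        intro z z' e'
        have e1 : x * (z : G) * x⁻¹ * (z : G)⁻¹ = x * (z' : G) * x⁻¹ * (z' : G)⁻¹ := congrArg Subtype.val e'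
        have h5 : (z' : G)⁻¹ * (z : G) ∈ π.ker := π.ker.mul_mem (π.ker.inv_mem z'.2.1) z.2.1
        refine Subtype.ext (inv_mul_eq_one.mp (hfpf _ h5 ?_)).symm
        calc x * ((z' : G)⁻¹ * (z : G)) * x⁻¹ = (x * (z' : G) * x⁻¹)⁻¹ * ((x * (z : G) * x⁻¹ * (z : G)⁻¹) * (z : G)) := by group
          _ = (z' : G)⁻¹ * ((x * (z' : G) * x⁻¹ * (z' : G)⁻¹)⁻¹ * (x * (z' : G) * x⁻¹ * (z' : G)⁻¹) * (z : G)) := by
            rw [e1]; group
          _ = _ := by group
      obtain ⟨z, hz⟩ := Finite.injective_iff_surjective.mp hf ⟨_, Z.inv_mem hd⟩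
      have hz' : x * (z : G) * x⁻¹ * (z : G)⁻¹ = (x * q * x⁻¹ * q⁻¹)⁻¹ := congrArg Subtype.val hz
      have h0 : x * (q * z) * x⁻¹ = q * z := by
        calc x * (q * z) * x⁻¹ = (x * q * x⁻¹ * q⁻¹) * q * ((x * z * x⁻¹ * (z : G)⁻¹) * z) := by group
          _ = (x * q * x⁻¹ * q⁻¹) * q * ((x * q * x⁻¹ * q⁻¹)⁻¹ * z) := by rw [hz']
          _ = (x * q * x⁻¹ * q⁻¹) * (q * (x * q * x⁻¹ * q⁻¹)⁻¹) * z := by group
          _ = (x * q * x⁻¹ * q⁻¹) * ((x * q * x⁻¹ * q⁻¹)⁻¹ * q) * z := by rw [(Z.inv_mem hd).2.1 q ((hkb q).mp hy)]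
          _ = q * z := by rw [mul_inv_cancel_left]
      have h1 := hfpf _ (π.ker.mul_mem ((hkb q).mp hy) z.2.1) h0
      exact (QuotientGroup.eq_one_iff q).mpr (by rw [eq_inv_of_mul_eq_one_left h1]; exact Z.inv_mem z.2))
  obtain ⟨U₂, i2, i2', φ₂, τ₂, hτ₂, hτ₂add, hτ₂act, hcub₂⟩ := exists_phi π hπ Z
    (fun a ha b hb => hb.2.1 a ha.1) (fun q hq y hy => hy.2.1 q hq) hx3 hx1 (fun y hy => hfpf y hy.1)
  have hτ₁1 : τ₁ 1 = 0 := by
    have h := hτ₁add 1 1
    rw [mul_one] at h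
    exact left_eq_add.mp h
  have hτ₂1 : τ₂ 1 = 0 := by
    have h := hτ₂add 1 1
    rw [mul_one] at h
    exact left_eq_add.mp h
  have hchar1 : ∀ w : AddMonoid.End U₁, w + w = 0 := fun w => AddMonoidHom.ext fun v => by
    obtain ⟨⟨y, hy⟩, e⟩ := hτ₁.2 (w v)
    show w v + w v = 0
    rw [← e, ← hτ₁add, ← hτ₁1]
    exact congrArg τ₁ (Subtype.ext (by show y * y = 1; rw [← sq]; exact ihe y hy))
  have hchar2 : ∀ w : AddMonoid.End U₂, w + w = 0 := fun w => AddMonoidHom.ext fun v => by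
    obtain ⟨⟨y, hy⟩, e⟩ := hτ₂.2 (w v)
    show w v + w v = 0
    rw [← e, ← hτ₂add, ← hτ₂1]
    exact congrArg τ₂ (Subtype.ext (by show y * y = 1; rw [← sq]; exact hy.2.2))
  have hrel : ∀ {R : Type} [Ring R] (φ : Matrix.SpecialLinearGroup (Fin 2) K →* R), (∀ w : R, w + w = 0) →
      (∀ b : K, b ≠ 0 → φ (up b * lo b⁻¹) * φ (up b * lo b⁻¹) + φ (up b * lo b⁻¹) + 1 = 0) →
      ∀ b : K, b ≠ 0 → φ (up b) * φ (lo b⁻¹) * φ (up b) = φ (up b) + φ (lo b⁻¹) := fun φ h2 hc b hb => by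
    rw [rel_of_cubic φ hc hb, sub_eq_add_neg, neg_eq_of_add_eq_zero_left (h2 _), neg_eq_of_add_eq_zero_left (h2 _)]
  obtain ⟨N, M, B, hN, hM, hNM, hB, hup, hlo⟩ := natural hchar1 φ₁ (hrel φ₁ hchar1 hcub₁)
  obtain ⟨N', M', B', hN', hM', hNM', hB', hup', hlo'⟩ := natural hchar2 φ₂ (hrel φ₂ hchar2 hcub₂)
  -- the commutator form
  have hsur : ∀ u : U₁, ∃ q : G, ∃ h : q ∈ π.ker, τ₁ ⟨(q : G ⧸ Z), (hkb q).mpr h⟩ = u := fun u => by
    obtain ⟨⟨y, hy⟩, rfl⟩ := hτ₁.2 u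
    obtain ⟨q, rfl⟩ := QuotientGroup.mk_surjective y
    exact ⟨q, (hkb q).mp hy, rfl⟩
  choose σ hσker hσ using hsur
  let β : U₁ → U₁ → U₂ := fun u v => τ₂ ⟨_, hcommZ _ (hσker u) _ (hσker v)⟩
  have hindep : ∀ u v q q', ∀ hq : q ∈ π.ker, ∀ hq' : q' ∈ π.ker, τ₁ ⟨(q : G ⧸ Z), (hkb q).mpr hq⟩ = u →
      τ₁ ⟨(q' : G ⧸ Z), (hkb q').mpr hq'⟩ = v → β u v = τ₂ ⟨_, hcommZ q hq q' hq'⟩ := by
    intro u v q q' hq hq' e e'
    have d1 : (σ u)⁻¹ * q ∈ Z := QuotientGroup.eq.mp (congrArg Subtype.val (hτ₁.1 ((hσ u).trans e.symm)))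
    have d2 : (σ v)⁻¹ * q' ∈ Z := QuotientGroup.eq.mp (congrArg Subtype.val (hτ₁.1 ((hσ v).trans e'.symm)))
    refine congrArg τ₂ (Subtype.ext ?_)
    show σ u * σ v * (σ u)⁻¹ * (σ v)⁻¹ = q * q' * q⁻¹ * q'⁻¹
    obtain ⟨z, hz⟩ : ∃ z, (σ u)⁻¹ * q = z := ⟨_, rfl⟩
    obtain ⟨z', hz'⟩ : ∃ z', (σ v)⁻¹ * q' = z' := ⟨_, rfl⟩
    rw [hz] at d1; rw [hz'] at d2
    rw [show q = σ u * z by rw [← hz, mul_inv_cancel_left], show q' = σ v * z' by rw [← hz', mul_inv_cancel_left]]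
    calc σ u * σ v * (σ u)⁻¹ * (σ v)⁻¹
        = σ u * σ v * (z' * z * z⁻¹ * z'⁻¹) * ((σ u)⁻¹ * (σ v)⁻¹) := by group
      _ = σ u * σ v * z' * z * z⁻¹ * ((σ u)⁻¹ * z'⁻¹) * (σ v)⁻¹ := by
          rw [(Z.inv_mem d2).2.1 _ (π.ker.inv_mem (hσker u))]; group
      _ = σ u * (σ v * z' * z) * z⁻¹ * (σ u)⁻¹ * z'⁻¹ * (σ v)⁻¹ := by group
      _ = σ u * (z * (σ v * z')) * z⁻¹ * (σ u)⁻¹ * z'⁻¹ * (σ v)⁻¹ := by
          rw [d1.2.1 _ (π.ker.mul_mem (hσker v) d2.1)]
      _ = σ u * z * (σ v * z') * (σ u * z)⁻¹ * (σ v * z')⁻¹ := by group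
  have hβadd : ∀ u u' v, β (u + u') v = β u v + β u' v := by
    intro u u' v
    rw [hindep (u + u') v (σ u * σ u') (σ v) (π.ker.mul_mem (hσker u) (hσker u')) (hσker v)
      ((hτ₁add ⟨_, (hkb _).mpr (hσker u)⟩ ⟨_, (hkb _).mpr (hσker u')⟩).trans (by rw [hσ, hσ])) (hσ v),
      ← hτ₂add]
    refine congrArg τ₂ (Subtype.ext ?_)
    show σ u * σ u' * σ v * (σ u * σ u')⁻¹ * (σ v)⁻¹ = (σ u * σ v * (σ u)⁻¹ * (σ v)⁻¹) * (σ u' * σ v * (σ u')⁻¹ * (σ v)⁻¹)
    obtain ⟨c, hc⟩ : ∃ c, σ u' * σ v * (σ u')⁻¹ * (σ v)⁻¹ = c := ⟨_, rfl⟩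
    have hcZ := hcommZ _ (hσker u') _ (hσker v)
    rw [hc] at hcZ
    rw [hc]
    calc σ u * σ u' * σ v * (σ u * σ u')⁻¹ * (σ v)⁻¹
        = σ u * (σ u' * σ v * (σ u')⁻¹ * (σ v)⁻¹) * (σ v * (σ u)⁻¹ * (σ v)⁻¹) := by group
      _ = σ u * c * (σ v * (σ u)⁻¹ * (σ v)⁻¹) := by rw [hc]
      _ = σ u * ((σ v * (σ u)⁻¹ * (σ v)⁻¹) * c) := by
          rw [mul_assoc, hcZ.2.1 _ (π.ker.mul_mem (π.ker.mul_mem (hσker v) (π.ker.inv_mem (hσker u)))
            (π.ker.inv_mem (hσker v)))]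
      _ = _ := by group
  have hβsymm : ∀ u v, β v u = β u v := by
    intro u v
    have h := hcommZ _ (hσker u) _ (hσker v)
    refine congrArg τ₂ (Subtype.ext ?_)
    show σ v * σ u * (σ v)⁻¹ * (σ u)⁻¹ = σ u * σ v * (σ u)⁻¹ * (σ v)⁻¹
    have h' : (σ u * σ v * (σ u)⁻¹ * (σ v)⁻¹)⁻¹ = σ u * σ v * (σ u)⁻¹ * (σ v)⁻¹ :=
      inv_eq_of_mul_eq_one_left (by rw [← sq]; exact h.2.2)
    rw [← h']; group
  have hβadd' : ∀ u v v', β u (v + v') = β u v + β u v' := fun u v v' => by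
    rw [← hβsymm, hβadd, hβsymm, hβsymm v' u]
  have hβ0 : ∀ u, β u 0 = 0 := fun u => left_eq_add.mp (show β u 0 = β u 0 + β u 0 by rw [← hβadd', add_zero])
  have hequi : ∀ s u v, β (φ₁ s u) (φ₁ s v) = φ₂ s (β u v) := by
    intro s u v
    obtain ⟨g, rfl⟩ := hπ s
    have hk : ∀ u, g * σ u * g⁻¹ ∈ π.ker := fun u => (inferInstance : π.ker.Normal).conj_mem _ (hσker u) g
    have himg : ∀ u, τ₁ ⟨((g * σ u * g⁻¹ : G) : G ⧸ Z), (hkb _).mpr (hk u)⟩ = φ₁ (π g) u := fun u => by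
      conv_rhs => rw [← hσ u, ← hπb, hτ₁act _ _ ((hkb _).mpr (hk u))]
      rfl
    rw [hindep _ _ _ _ (hk u) (hk v) (himg u) (himg v), hτ₂act g ⟨_, hcommZ _ (hσker u) _ (hσker v)⟩
      (hZn.conj_mem _ (hcommZ _ (hσker u) _ (hσker v)) g)]
    exact congrArg τ₂ (Subtype.ext (by show _ = g * (σ u * σ v * (σ u)⁻¹ * (σ v)⁻¹) * g⁻¹; group))
  -- the form vanishes
  have hup1 : ∀ b u, φ₁ (up b) u = u + B b (N u) := fun b u => by rw [hup]; rfl
  have hup2 : ∀ b u, φ₂ (up b) u = u + B' b (N' u) := fun b u => by rw [hup']; rfl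
  have hlo1 : ∀ b u, φ₁ (lo b) u = u + B b (M u) := fun b u => by rw [hlo]; rfl
  have hlo2 : ∀ b u, φ₂ (lo b) u = u + B' b (M' u) := fun b u => by rw [hlo']; rfl
  have hNB : ∀ b u, N (B b u) = B b (N u) := fun b u => (DFunLike.congr_fun (hB b).1.eq u).symm
  have hNMN : ∀ u, N u = 0 → N (M u) = u := fun u hu => by
    have h : N (M u) + M (N u) = u := DFunLike.congr_fun hNM u
    rwa [hu, map_zero, add_zero] at h
  have hMNM : ∀ u, M u = 0 → M (N u) = u := fun u hu => by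
    have h : N (M u) + M (N u) = u := DFunLike.congr_fun hNM u
    rwa [hu, map_zero, zero_add] at h
  have hNM2 : ∀ g : U₂, N' g = 0 → M' g = 0 → g = 0 := fun g h1 h2 => by
    have h : N' (M' g) + M' (N' g) = g := DFunLike.congr_fun hNM' g
    rw [h1, h2, map_zero, map_zero, add_zero] at h
    exact h.symm
  have hlin : ∀ u v, N u = 0 → N v = 0 → ∀ b, β u (B b v) = B' b (β u v) ∧ N' (β u v) = 0 := by
    intro u v hu hv
    have h1 : N' (β u v) = 0 := by
      have h := hequi (up 1) u v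
      rw [hup1, hup1, hup2, hu, hv, map_zero, add_zero, add_zero, map_one] at h
      exact left_eq_add.mp h
    have h2 : ∀ b, β u (B b v) = B' b (N' (β u (M v))) := fun b => by
      have h := hequi (up b) u (M v)
      rw [hup1, hup1, hup2, hu, map_zero, add_zero, hNMN v hv, hβadd'] at h
      exact add_left_cancel h
    intro b
    have h3 := h2 1
    rw [map_one, map_one] at h3
    change β u v = N' (β u (M v)) at h3
    exact ⟨by rw [h3]; exact h2 b, h1⟩
  obtain ⟨P, hP⟩ : ∃ P, ∀ w : U₁, P w = N (M w) := ⟨fun w => N (M w), fun w => rfl⟩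
  have htor1 : ∀ u, N u = 0 → φ₁ (up a * lo a⁻¹ * up a * (up 1 * lo 1 * up 1)) u = B a u := by
    intro u hu
    rw [map_mul, map_mul, map_mul, map_mul, map_mul]
    show φ₁ (up a) (φ₁ (lo a⁻¹) (φ₁ (up a) (φ₁ (up 1) (φ₁ (lo 1) (φ₁ (up 1) u))))) = _
    have e0 : φ₁ (up 1) (φ₁ (lo 1) (φ₁ (up 1) u)) = M u := by
      rw [hup1 1 u, hu, map_zero, add_zero, hlo1, map_one, hup1, map_one]
      show u + M u + N (u + M u) = M u
      rw [map_add, hu, hNMN u hu, zero_add, add_comm u, add_assoc]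
      have : u + u = 0 := DFunLike.congr_fun (hchar1 1) u
      rw [this, add_zero]
    rw [e0, hup1 a (M u), hNMN u hu, hlo1, map_add M, show M (M u) = 0 from DFunLike.congr_fun hM u, zero_add,
      show M (B a u) = B a (M u) from (DFunLike.congr_fun (hB a).2.eq u).symm,
      show B a⁻¹ (B a (M u)) = M u from DFunLike.congr_fun (show B a⁻¹ * B a = 1 by
        rw [← map_mul, inv_mul_cancel₀ ha0, map_one]) (M u)]
    have e1 : M u + B a u + M u = B a u := by
      have : M u + M u = 0 := DFunLike.congr_fun (hchar1 M) u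
      rw [add_comm (M u), add_assoc, this, add_zero]
    rw [e1, hup1, hNB, hu, map_zero, map_zero, add_zero]
  have htor2 : ∀ u, N' u = 0 → φ₂ (up a * lo a⁻¹ * up a * (up 1 * lo 1 * up 1)) u = B' a u := by
    intro u hu
    have hNMN2 : N' (M' u) = u := by
      have h : N' (M' u) + M' (N' u) = u := DFunLike.congr_fun hNM' u
      rwa [hu, map_zero, add_zero] at h
    rw [map_mul, map_mul, map_mul, map_mul, map_mul]
    show φ₂ (up a) (φ₂ (lo a⁻¹) (φ₂ (up a) (φ₂ (up 1) (φ₂ (lo 1) (φ₂ (up 1) u))))) = _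
    have e0 : φ₂ (up 1) (φ₂ (lo 1) (φ₂ (up 1) u)) = M' u := by
      rw [hup2 1 u, hu, map_zero, add_zero, hlo2, map_one, hup2, map_one]
      show u + M' u + N' (u + M' u) = M' u
      rw [map_add, hu, hNMN2, zero_add, add_comm u, add_assoc]
      have : u + u = 0 := DFunLike.congr_fun (hchar2 1) u
      rw [this, add_zero]
    rw [e0, hup2 a (M' u), hNMN2, hlo2, map_add M', show M' (M' u) = 0 from DFunLike.congr_fun hM' u, zero_add,
      show M' (B' a u) = B' a (M' u) from (DFunLike.congr_fun (hB' a).2.eq u).symm,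
      show B' a⁻¹ (B' a (M' u)) = M' u from DFunLike.congr_fun (show B' a⁻¹ * B' a = 1 by
        rw [← map_mul, inv_mul_cancel₀ ha0, map_one]) (M' u)]
    have e1 : M' u + B' a u + M' u = B' a u := by
      have : M' u + M' u = 0 := DFunLike.congr_fun (hchar2 M') u
      rw [add_comm (M' u), add_assoc, this, add_zero]
    rw [e1, hup2, show N' (B' a u) = B' a (N' u) from (DFunLike.congr_fun (hB' a).1.eq u).symm, hu, map_zero,
      map_zero, add_zero]
  have hNN : ∀ u v, N u = 0 → N v = 0 → β u v = 0 := by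
    intro u v hu hv
    have hBu : ∀ b, N (B b u) = 0 := fun b => by rw [hNB, hu, map_zero]
    have h := hequi (up a * lo a⁻¹ * up a * (up 1 * lo 1 * up 1)) u v
    rw [htor1 u hu, htor1 v hv, htor2 _ (hlin u v hu hv a).2, (hlin _ v (hBu a) hv a).1, hβsymm v (B a u),
      (hlin v u hv hu a).1, hβsymm u v] at h
    have hne : a * a + a ≠ 0 := fun e => ha1 (by
      have h' : a * (a + 1) = 0 := by rw [mul_add, mul_one]; exact e
      exact CharTwo.add_eq_zero.mp ((mul_eq_zero.mp h').resolve_left ha0))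
    have h0 : B' (a * a + a) (β u v) = 0 := by
      rw [map_add, map_mul]
      show B' a (B' a (β u v)) + B' a (β u v) = 0
      rw [h]
      exact DFunLike.congr_fun (hchar2 (B' a)) _
    have h1 := DFunLike.congr_fun (show B' (a * a + a)⁻¹ * B' (a * a + a) = 1 by
      rw [← map_mul, inv_mul_cancel₀ hne, map_one]) (β u v)
    exact h1.symm.trans ((congrArg (B' (a * a + a)⁻¹) h0).trans (map_zero _))
  have hkN : ∀ z, N (N z) = 0 := fun z => DFunLike.congr_fun hN z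
  have hkM : ∀ z, M (M z) = 0 := fun z => DFunLike.congr_fun hM z
  have hMM : ∀ u v, M u = 0 → M v = 0 → β u v = 0 := by
    intro u v hu hv
    have hw : ∀ z, M z = 0 → φ₁ (up 1 * lo 1 * up 1) z = N z := fun z hz => by
      rw [map_mul, map_mul]
      show φ₁ (up 1) (φ₁ (lo 1) (φ₁ (up 1) z)) = _
      rw [hup1, map_one, hlo1, map_one, hup1, map_one]
      show z + N z + M (z + N z) + N (z + N z + M (z + N z)) = N z
      rw [map_add M, hz, hMNM z hz, zero_add, map_add N, map_add N, show N (N z) = 0 from DFunLike.congr_fun hN z,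
        add_zero]
      have h5 : z + z = 0 := DFunLike.congr_fun (hchar1 1) z
      have h6 : N z + N z = 0 := DFunLike.congr_fun (hchar1 N) z
      calc z + N z + z + (N z + N z) = N z + (z + z) + (N z + N z) := by abel
        _ = N z := by rw [h5, h6, add_zero, add_zero]
    have h := hequi (up 1 * lo 1 * up 1) u v
    rw [hw u hu, hw v hv, hNN (N u) (N v) (hkN u) (hkN v)] at h
    have e1 := congrArg (φ₂ (up 1 * lo 1 * up 1)⁻¹) h
    rw [map_zero] at e1
    have e2 : φ₂ (up 1 * lo 1 * up 1)⁻¹ (φ₂ (up 1 * lo 1 * up 1) (β u v)) = β u v :=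
      DFunLike.congr_fun (show φ₂ (up 1 * lo 1 * up 1)⁻¹ * φ₂ (up 1 * lo 1 * up 1) = 1 by
        rw [← map_mul, inv_mul_cancel, map_one]) _
    exact e2.symm.trans e1.symm
  have hmix : ∀ u v, N u = 0 → N v = 0 → β u (M v) = 0 := by
    intro u v hu hv
    refine hNM2 _ ?_ ?_
    · have h := hequi (up 1) u (M v)
      rw [hup1, hup1, hup2, hu, map_zero, add_zero, hNMN v hv, map_one, map_one, hβadd'] at h
      change β u (M v) + β u v = β u (M v) + N' (β u (M v)) at h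
      rw [← add_left_cancel h, hNN u v hu hv]
    · have h := hequi (lo 1) u (M v)
      rw [hlo1, hlo1, hlo2, show M (M v) = 0 from DFunLike.congr_fun hM v, map_zero, add_zero, map_one, map_one,
        hβadd] at h
      change β u (M v) + β (M u) (M v) = β u (M v) + M' (β u (M v)) at h
      rw [← add_left_cancel h, hMM (M u) (M v) (hkM u) (hkM v)]
  have hzero : ∀ u v, β u v = 0 := by
    have hdec : ∀ z, z = N (M z) + M (N z) := fun z => (DFunLike.congr_fun hNM z).symm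
    have hk : ∀ z, N (N z) = 0 := fun z => DFunLike.congr_fun hN z
    intro u v
    rw [hdec u, hdec v, hβadd, hβadd', hβadd', hNN _ _ (hk _) (hk _), hmix _ _ (hk _) (hk _),
      hMM _ _ (hkM _) (hkM _), hβsymm, hmix _ _ (hk _) (hk _)]
    simp
  have habel : ∀ q ∈ π.ker, ∀ q' ∈ π.ker, q * q' = q' * q := by
    intro q hq q' hq'
    have h := hindep _ _ q q' hq hq' rfl rfl
    rw [hzero, ← hτ₂1] at h
    have h' : (1 : G) = q * q' * q⁻¹ * q'⁻¹ := congrArg Subtype.val (hτ₂.1 h)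
    calc q * q' = q * q' * q⁻¹ * q'⁻¹ * (q' * q) := by group
      _ = q' * q := by rw [← h', one_mul]
  refine ⟨habel, fun q hq => ?_⟩
  obtain ⟨U, iU, iU', φ, τ, hτ, hτadd, hτact, hcub⟩ := exists_phi π hπ π.ker habel habel hx3 hx1 hfpf
  have hτ1 : τ 1 = 0 := by
    have h := hτadd 1 1
    rw [mul_one] at h
    exact left_eq_add.mp h
  have hτ2 : ∀ y : ↥π.ker, τ (y ^ 2) = 2 • τ y := fun y => by rw [sq, hτadd, two_nsmul]
  have h4 : ∀ v : U, 4 • v = 0 := fun v => by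
    obtain ⟨y, rfl⟩ := hτ.2 v
    rw [show 4 = 2 * 2 from rfl, mul_smul, ← hτ2, ← hτ2, ← hτ1]
    exact congrArg τ (Subtype.ext (hsqZ y y.2).2.2)
  have h := exp_two φ h4 hcub ha0 ha1 (τ ⟨q, hq⟩)
  rw [← hτ2, ← hτ1] at h
  exact congrArg Subtype.val (hτ.1 h)

/-- Let G be a finite group with a normal 2-subgroup Q such that G/Q is isomorphic to SL(2, 2ⁿ) with n ≥ 2, and suppose some element of G of order 3 fixes no nonidentity element of Q under conjugation. Then Q is elementary abelian and is the direct product of normal subgroups of G on each of which G acts as SL(2, 2ⁿ) acts on its natural two-dimensional module (a Galois twist of the natural action allowed). -/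
theorem result {G : Type*} [Group G] [Finite G]
    (Q : Subgroup G) [Q.Normal] (hQ : IsPGroup 2 ↥Q) (n : ℕ) (hn : 2 ≤ n)
    (K : Type*) [Field K] [Fintype K] (hK : Fintype.card K = 2 ^ n)
    (e : G ⧸ Q ≃* Matrix.SpecialLinearGroup (Fin 2) K)
    (x : G) (hx : orderOf x = 3) (hfpf : ∀ q ∈ Q, x * q * x⁻¹ = q → q = 1) :
    Cfsg.IsElementaryAbelian 2 Q ∧
      ∃ (k : ℕ) (V : Fin k → Subgroup G), (∀ i, V i ≤ Q ∧ (V i).Normal ∧
        Cfsg.ActsAsSL2OnSection K ⊤ ⊤ (V i) ⊥) ∧ iSupIndep V ∧ ⨆ i, V i = Q := by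
  classical
  haveI : CharP K 2 := charP_of_card_eq_prime_pow (p := 2) (f := n) hK
  obtain ⟨a, ha0, ha1⟩ : ∃ a : K, a ≠ 0 ∧ a ≠ 1 := by
    by_contra h
    push Not at h
    have h1 : (Finset.univ : Finset K) ⊆ {0, 1} := fun a _ => by
      rcases eq_or_ne a 0 with rfl | h0
      · simp
      · simp [h a h0]
    have h2 := (Finset.card_le_card h1).trans Finset.card_le_two
    rw [Finset.card_univ, hK] at h2
    have := Nat.pow_le_pow_right (show 0 < 2 by norm_num) hn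
    omega
  obtain ⟨π, hπs, hπk⟩ : ∃ π : G →* Matrix.SpecialLinearGroup (Fin 2) K, Function.Surjective π ∧ π.ker = Q :=
    ⟨e.toMonoidHom.comp (QuotientGroup.mk' Q), e.surjective.comp (QuotientGroup.mk'_surjective Q), by
      ext g; simp [MonoidHom.mem_ker]⟩
  subst hπk
  have hx3 : x ^ 3 = 1 := hx ▸ pow_orderOf_eq_one x
  have hx1 : π x ≠ 1 := fun h => by
    obtain ⟨k, hk⟩ := hQ ⟨x, h⟩
    have h1 : orderOf x ∣ 2 ^ k := orderOf_dvd_of_pow_eq_one (congrArg Subtype.val hk)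
    rw [hx] at h1
    exact absurd (Nat.prime_three.dvd_of_dvd_pow h1) (by norm_num)
  obtain ⟨hc, he⟩ := elementary ha0 ha1 _ G π rfl hπs hQ x hx3 hx1 hfpf
  refine ⟨⟨⟨⟨fun u v => Subtype.ext (hc u u.2 v v.2)⟩⟩, he⟩, ?_⟩
  obtain ⟨U, iU, iU', φ, τ, hτ, hτadd, hτact, hcub⟩ := exists_phi π hπs π.ker hc hc hx3 hx1 hfpf
  have hτ1 : τ 1 = 0 := by
    have h := hτadd 1 1
    rw [mul_one] at h
    exact left_eq_add.mp h
  have hchar : ∀ w : AddMonoid.End U, w + w = 0 := fun w => AddMonoidHom.ext fun v => by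
    obtain ⟨y, e⟩ := hτ.2 (w v)
    show w v + w v = 0
    rw [← e, ← hτadd, ← hτ1]
    exact congrArg τ (Subtype.ext (by show (y : G) * y = 1; rw [← sq]; exact he y y.2))
  obtain ⟨N, M, B, hN, hM, hNM, hB, hup, hlo⟩ := natural hchar φ (fun b hb => by
    rw [rel_of_cubic φ hcub hb, sub_eq_add_neg, neg_eq_of_add_eq_zero_left (hchar _), neg_eq_of_add_eq_zero_left (hchar _)])
  letI : Module K U := Module.compHom U B
  have hsmul : ∀ (c : K) (u : U), c • u = B c u := fun c u => rfl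
  have hNsm : ∀ (c : K) u, N (c • u) = c • N u := fun c u => (DFunLike.congr_fun (hB c).1.eq u).symm
  have hMsm : ∀ (c : K) u, M (c • u) = c • M u := fun c u => (DFunLike.congr_fun (hB c).2.eq u).symm
  let W : Submodule K U :=
    { carrier := {u | N u = 0}
      zero_mem' := map_zero N
      add_mem' := fun {u v} hu hv => by show N (u + v) = 0; rw [map_add, hu, hv, add_zero]
      smul_mem' := fun c u hu => by show N (c • u) = 0; rw [hNsm, hu, smul_zero] }
  let b := Module.finBasis K ↥W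
  set k := Module.finrank K ↥W
  have hNN : ∀ u, N u ∈ W := fun u => DFunLike.congr_fun hN u
  have hNMN : ∀ u, N (M (N u)) = N u := fun u => by
    have h : N (M (N u)) + M (N (N u)) = N u := DFunLike.congr_fun hNM (N u)
    rwa [show N (N u) = 0 from hNN u, map_zero, add_zero] at h
  let R1 : U →+ ↥W := AddMonoidHom.mk' (fun u => ⟨N (M u), hNN _⟩) fun u v => Subtype.ext (by
    show N (M (u + v)) = N (M u) + N (M v); rw [map_add, map_add])
  let R2 : U →+ ↥W := AddMonoidHom.mk' (fun u => ⟨N u, hNN _⟩) fun u v => Subtype.ext (by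
    show N (u + v) = N u + N v; rw [map_add])
  have hR1 : ∀ u, ((R1 u : ↥W) : U) = N (M u) := fun u => rfl
  have hR2 : ∀ u, ((R2 u : ↥W) : U) = N u := fun u => rfl
  obtain ⟨Ψ, hΨ⟩ : ∃ Ψ : U →+ (Fin k → Fin 2 → K), ∀ u i, Ψ u i = ![b.repr (R1 u) i, b.repr (R2 u) i] :=
    ⟨AddMonoidHom.mk' (fun u i => ![b.repr (R1 u) i, b.repr (R2 u) i]) (fun u v => by
      funext i j
      fin_cases j <;> simp), fun u i => rfl⟩
  have hΨi : Function.Injective Ψ := (injective_iff_map_eq_zero Ψ).mpr fun u hu => by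
    have h1 : R1 u = 0 := b.repr.injective (Finsupp.ext fun i => by
      have := congrFun (congrFun hu i) 0
      rw [hΨ] at this
      simpa using this)
    have h2 : R2 u = 0 := b.repr.injective (Finsupp.ext fun i => by
      have := congrFun (congrFun hu i) 1
      rw [hΨ] at this
      simpa using this)
    have h1' : N (M u) = 0 := congrArg Subtype.val h1
    have h2' : N u = 0 := congrArg Subtype.val h2
    have h : N (M u) + M (N u) = u := DFunLike.congr_fun hNM u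
    rw [h1', h2', map_zero, add_zero] at h
    exact h.symm
  have hΨs : Function.Surjective Ψ := by
    intro F
    obtain ⟨w₁, hw₁⟩ : ∃ w : ↥W, ∀ i, b.repr w i = F i 0 := ⟨b.equivFun.symm fun i => F i 0, fun i => by
      rw [← b.equivFun_apply, LinearEquiv.apply_symm_apply]⟩
    obtain ⟨w₂, hw₂⟩ : ∃ w : ↥W, ∀ i, b.repr w i = F i 1 := ⟨b.equivFun.symm fun i => F i 1, fun i => by
      rw [← b.equivFun_apply, LinearEquiv.apply_symm_apply]⟩
    have hk : ∀ w : ↥W, N (M w) = (w : U) := fun w => by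
      have h : N (M (w : U)) + M (N (w : U)) = (w : U) := DFunLike.congr_fun hNM _
      rwa [show N (w : U) = 0 from w.2, map_zero, add_zero] at h
    refine ⟨(w₁ : U) + M w₂, funext fun i => funext fun j => ?_⟩
    have e1 : R1 ((w₁ : U) + M w₂) = w₁ := Subtype.ext (by
      rw [hR1, map_add, map_add, hk, show M (M (w₂ : U)) = 0 from DFunLike.congr_fun hM _, map_zero, add_zero])
    have e2 : R2 ((w₁ : U) + M w₂) = w₂ := Subtype.ext (by
      rw [hR2, map_add, show N (w₁ : U) = 0 from w₁.2, zero_add, hk])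
    rw [hΨ, e1, e2, hw₁, hw₂]
    fin_cases j <;> rfl
  have hΨact : ∀ s u i, Ψ (φ s u) i = (s : Matrix.SpecialLinearGroup (Fin 2) K).1.mulVec (Ψ u i) := by
    let H : Subgroup (Matrix.SpecialLinearGroup (Fin 2) K) :=
      { carrier := {s | ∀ u i, Ψ (φ s u) i = s.1.mulVec (Ψ u i)}
        one_mem' := fun u i => by rw [map_one]; show Ψ u i = _; simp
        mul_mem' := fun {s t} hs ht u i => by
          rw [map_mul]
          show Ψ (φ s (φ t u)) i = _
          rw [hs, ht, Matrix.mulVec_mulVec]; rfl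
        inv_mem' := fun {s} hs u i => by
          have h := hs (φ s⁻¹ u) i
          rw [show φ s (φ s⁻¹ u) = u from DFunLike.congr_fun (show φ s * φ s⁻¹ = 1 by
            rw [← map_mul, mul_inv_cancel, map_one]) u] at h
          rw [h, Matrix.mulVec_mulVec, ← Matrix.SpecialLinearGroup.coe_mul, inv_mul_cancel]
          simp }
    suffices h : H = ⊤ from fun s => (h.ge (Subgroup.mem_top s) : s ∈ H)
    refine eq_top_of_up_lo H (fun c u i => ?_) (fun c u i => ?_)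
    · funext j
      have e1 : R1 (φ (up c) u) = R1 u + c • R2 u := Subtype.ext (by
        show N (M (φ (up c) u)) = N (M u) + c • N u
        rw [hup]
        show N (M (u + c • N u)) = _
        rw [map_add, map_add, hMsm, hNsm, hNMN])
      have e2 : R2 (φ (up c) u) = R2 u := Subtype.ext (by
        show N (φ (up c) u) = N u
        rw [hup]
        show N (u + c • N u) = _
        rw [map_add, hNsm, show N (N u) = 0 from hNN u, smul_zero, add_zero])
      rw [hΨ, e1, e2]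
      fin_cases j
      · refine Eq.trans ?_ (up_mulVec c (Ψ u i)).1.symm
        rw [hΨ]; simp
      · refine Eq.trans ?_ (up_mulVec c (Ψ u i)).2.symm
        rw [hΨ]; simp
    · funext j
      have e1 : R1 (φ (lo c) u) = R1 u := Subtype.ext (by
        show N (M (φ (lo c) u)) = N (M u)
        rw [hlo]
        show N (M (u + c • M u)) = _
        rw [map_add, map_add, hMsm, hNsm, show M (M u) = 0 from DFunLike.congr_fun hM u, map_zero, smul_zero, add_zero])
      have e2 : R2 (φ (lo c) u) = c • R1 u + R2 u := Subtype.ext (by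
        show N (φ (lo c) u) = c • N (M u) + N u
        rw [hlo]
        show N (u + c • M u) = _
        rw [map_add, hNsm, add_comm])
      rw [hΨ, e1, e2]
      fin_cases j
      · refine Eq.trans ?_ (lo_mulVec c (Ψ u i)).1.symm
        rw [hΨ]; simp
      · refine Eq.trans ?_ (lo_mulVec c (Ψ u i)).2.symm
        rw [hΨ]; simp
  obtain ⟨θ, hθ⟩ : ∃ θ : ↥π.ker →* Multiplicative (Fin k → Fin 2 → K),
      ∀ q, Multiplicative.toAdd (θ q) = Ψ (τ q) :=
    ⟨MonoidHom.mk' (fun q => Multiplicative.ofAdd (Ψ (τ q))) (fun q q' => by rw [hτadd, map_add]; rfl), fun q => rfl⟩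
  have hθb : Function.Bijective θ := by
    have : (θ : ↥π.ker → _) = Multiplicative.ofAdd ∘ Ψ ∘ τ := funext fun q => by
      show θ q = Multiplicative.ofAdd (Ψ (τ q)); rw [← hθ]; rfl
    rw [this]; exact (Equiv.bijective _).comp ((show Function.Bijective Ψ from ⟨hΨi, hΨs⟩).comp hτ)
  let V : Fin k → Subgroup G := fun i =>
    { carrier := {g | ∃ h : g ∈ π.ker, ∀ j, j ≠ i → Multiplicative.toAdd (θ ⟨g, h⟩) j = 0}
      one_mem' := ⟨π.ker.one_mem, fun j _ => by rw [show (⟨1, π.ker.one_mem⟩ : ↥π.ker) = 1 from rfl, map_one]; rfl⟩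
      mul_mem' := fun {g g'} ⟨h, hj⟩ ⟨h', hj'⟩ => ⟨π.ker.mul_mem h h', fun j hne => by
        rw [show (⟨g * g', π.ker.mul_mem h h'⟩ : ↥π.ker) = ⟨g, h⟩ * ⟨g', h'⟩ from rfl, map_mul, toAdd_mul, Pi.add_apply,
          hj j hne, hj' j hne, add_zero]⟩
      inv_mem' := fun {g} ⟨h, hj⟩ => ⟨π.ker.inv_mem h, fun j hne => by
        rw [show (⟨g⁻¹, π.ker.inv_mem h⟩ : ↥π.ker) = ⟨g, h⟩⁻¹ from rfl, map_inv, toAdd_inv, Pi.neg_apply,
          hj j hne, neg_zero]⟩ }
  have hconj : ∀ (g : G) (q : ↥π.ker) (h : g * q * g⁻¹ ∈ π.ker) (i : Fin k),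
      Multiplicative.toAdd (θ ⟨g * q * g⁻¹, h⟩) i = (π g).1.mulVec (Multiplicative.toAdd (θ q) i) := fun g q h i => by
    rw [hθ, hθ, ← hτact g q h, hΨact]
  refine ⟨k, V, fun i => ⟨fun g hg => hg.1, ⟨?_⟩, ?_⟩, ?_, ?_⟩
  · rintro g ⟨h, hj⟩ c
    have h' := (inferInstance : π.ker.Normal).conj_mem g h c
    exact ⟨h', fun j hne => by rw [hconj c ⟨g, h⟩ h' j, hj j hne, Matrix.mulVec_zero]⟩
  · refine ⟨fun g _ => ?_, bot_le, π.comp (⊤ : Subgroup G).subtype,
      MonoidHom.mk' (fun v => Multiplicative.ofAdd (Multiplicative.toAdd (θ ⟨v.1, v.2.1⟩) i)) ?_, ?_, ?_, ?_, ?_⟩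
    · refine Subgroup.mem_normalizer_iff.mpr fun v => ⟨?_, ?_⟩
      · rintro ⟨h, hj⟩
        have h' := (inferInstance : π.ker.Normal).conj_mem v h g
        exact ⟨h', fun j hne => by rw [hconj g ⟨v, h⟩ h' j, hj j hne, Matrix.mulVec_zero]⟩
      · rintro ⟨h, hj⟩
        have h' : v ∈ π.ker := by
          have := (inferInstance : π.ker.Normal).conj_mem _ h g⁻¹
          rwa [show g⁻¹ * (g * v * g⁻¹) * g⁻¹⁻¹ = v by group] at this
        refine ⟨h', fun j hne => ?_⟩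
        have h1 := hconj g ⟨v, h'⟩ h j
        rw [hj j hne] at h1
        have h2 := congrArg ((π g)⁻¹).1.mulVec h1
        rw [Matrix.mulVec_zero, Matrix.mulVec_mulVec, ← Matrix.SpecialLinearGroup.coe_mul, inv_mul_cancel,
          Matrix.SpecialLinearGroup.coe_one, Matrix.one_mulVec] at h2
        exact h2.symm
    · intro v w
      show Multiplicative.ofAdd _ = _
      rw [show (⟨((v * w : ↥(V i)) : G), (v * w).2.1⟩ : ↥π.ker) = ⟨v.1, v.2.1⟩ * ⟨w.1, w.2.1⟩ from rfl, map_mul, toAdd_mul]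
      rfl
    · rw [MonoidHom.range_eq_top]
      exact fun s => (hπs s).imp' (fun g => (⟨g, Subgroup.mem_top g⟩ : (⊤ : Subgroup G))) fun g hg => hg
    · intro z
      obtain ⟨q, hq⟩ := hθb.2 (Multiplicative.ofAdd (Pi.single i (Multiplicative.toAdd z)))
      refine ⟨⟨q.1, q.2, fun j hne => ?_⟩, ?_⟩
      · rw [hq]; exact Pi.single_eq_of_ne hne _
      · show Multiplicative.ofAdd (Multiplicative.toAdd (θ q) i) = z
        rw [hq]; simp
    · intro v
      rw [Subgroup.mem_bot]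
      show Multiplicative.ofAdd _ = 1 ↔ _
      rw [ofAdd_eq_one]
      constructor
      · intro h
        have h1 : θ ⟨v.1, v.2.1⟩ = 1 := by
          apply Multiplicative.toAdd.injective
          funext j
          by_cases hji : j = i
          · subst hji; exact h
          · exact v.2.2 j hji
        exact congrArg Subtype.val ((map_eq_one_iff θ hθb.1).mp h1)
      · intro h
        rw [show (⟨v.1, v.2.1⟩ : ↥π.ker) = 1 from Subtype.ext h, map_one]; rfl
    · intro g v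
      have h' := (inferInstance : π.ker.Normal).conj_mem _ v.2.1 (g : G)
      exact ⟨⟨(g : G) * v * (g : G)⁻¹, h', fun j hne => by
        rw [hconj g ⟨v.1, v.2.1⟩ h' j, v.2.2 j hne, Matrix.mulVec_zero]⟩, rfl, hconj g ⟨v.1, v.2.1⟩ h' i⟩
  · -- independence
    intro i
    rw [disjoint_iff_inf_le]
    rintro g ⟨⟨h, hj⟩, hsup⟩
    have hle : (⨆ (j) (_ : j ≠ i), V j) ≤
        ((AddSubgroup.toSubgroup ((Pi.evalAddMonoidHom (fun _ : Fin k => Fin 2 → K) i).ker)).comap θ).map π.ker.subtype :=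
      iSup₂_le fun j hne v ⟨hv, hvj⟩ => ⟨⟨v, hv⟩, hvj i (Ne.symm hne), rfl⟩
    obtain ⟨q, hq, rfl⟩ := hle hsup
    rw [Subgroup.mem_bot]
    have h1 : θ q = 1 := by
      apply Multiplicative.toAdd.injective
      funext j
      by_cases hji : j = i
      · subst hji; exact hq
      · exact hj j hji
    exact congrArg Subtype.val ((map_eq_one_iff θ hθb.1).mp h1)
  · refine le_antisymm (iSup_le fun i g hg => hg.1) fun g hg => ?_
    have key : ∀ (s : Finset (Fin k)) (q : ↥π.ker),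
        (∀ j, j ∉ s → Multiplicative.toAdd (θ q) j = 0) → (q : G) ∈ ⨆ i, V i := by
      intro s
      induction s using Finset.induction_on with
      | empty =>
        intro q hq
        have h1 : θ q = 1 := by
          apply Multiplicative.toAdd.injective
          funext j; exact hq j (Finset.notMem_empty j)
        rw [(map_eq_one_iff θ hθb.1).mp h1]
        exact Subgroup.one_mem _
      | insert i s hi ih =>
        intro q hq
        obtain ⟨q₁, hq₁⟩ := hθb.2 (Multiplicative.ofAdd (Pi.single i (Multiplicative.toAdd (θ q) i)))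
        have hmem : (q₁ : G) ∈ V i := ⟨q₁.2, fun j hne => by rw [hq₁]; exact Pi.single_eq_of_ne hne _⟩
        have h2 : ((q₁⁻¹ * q : ↥π.ker) : G) ∈ ⨆ i, V i := ih _ fun j hj => by
          rw [map_mul, map_inv, hq₁, toAdd_mul, toAdd_inv, toAdd_ofAdd, Pi.add_apply, Pi.neg_apply]
          by_cases hji : j = i
          · subst hji; rw [Pi.single_eq_same, neg_add_cancel]
          · rw [Pi.single_eq_of_ne hji, neg_zero, zero_add]
            exact hq j (by simp [hji, hj])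
        have h3 := Subgroup.mul_mem _ (le_iSup V i hmem) h2
        rwa [← Subgroup.coe_mul, mul_inv_cancel_left] at h3
    exact key Finset.univ ⟨g, hg⟩ fun j hj => absurd (Finset.mem_univ j) hj

end Cfsg.Agent.S3050
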