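import Cfsg.Statements.S3053
import Cfsg.Agent.Lib.SmallElements
import Cfsg.Agent.Lib.Local
import Cfsg.Agent.Lib.Coprime

set_option autoImplicit false
set_option linter.unusedVariables false
open Cfsg
open scoped commutatorElement

namespace Cfsg.Agent.S3053

open CfsgLib in
theorem key {G : Type*} [Group G] [Finite G] {p : ℕ} [Fact p.Prime] (hp : p ≠ 2) (P : Sylow p G)
    (hE : Cfsg.IsExtraspecial p ↥P) (hcard : Nat.card P = p ^ 3) (hexp : Monoid.exponent ↥P = p ^ 2) :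
    Cfsg.IsStronglyClosed ((Subgroup.center ↥P).map (P : Subgroup G).subtype) (P : Subgroup G) := by
  obtain ⟨⟨hPp, hfr, hcom⟩, hZp⟩ := hE
  have hp1 := (Fact.out : p.Prime).one_lt
  change IsPGroup p (P : Subgroup G) at hPp
  change frattini (P : Subgroup G) = Subgroup.center (P : Subgroup G) at hfr
  change commutator (P : Subgroup G) = Subgroup.center (P : Subgroup G) at hcom
  change Nat.card (Subgroup.center (P : Subgroup G)) = p at hZp
  change Monoid.exponent (P : Subgroup G) = p ^ 2 at hexp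
  change Nat.card (P : Subgroup G) = p ^ 3 at hcard
  refine ⟨Subgroup.map_subtype_le _, ?_⟩
  rintro _ ⟨z0, hz0, rfl⟩ g hg
  by_contra hout
  change g * (z0 : G) * g⁻¹ ∈ (P : Subgroup G) at hg
  set z : G := (z0 : G) with hzdef
  set y : G := g * z * g⁻¹ with hydef
  have hyZ : (⟨y, hg⟩ : (P : Subgroup G)) ∉ Subgroup.center (P : Subgroup G) := fun h => hout ⟨_, h, rfl⟩
  have hcen : ∀ a ∈ Subgroup.center (P : Subgroup G), ∀ b : (P : Subgroup G), b * a = a * b := fun a ha b =>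
    Subgroup.mem_center_iff.1 ha b
  have hcc : ∀ a b : (P : Subgroup G), ⁅a, b⁆ ∈ Subgroup.center (P : Subgroup G) := fun a b =>
    hcom ▸ Subgroup.commutator_mem_commutator (Subgroup.mem_top a) (Subgroup.mem_top b)
  have hpz : ∀ a : (P : Subgroup G), a ^ p ∈ Subgroup.center (P : Subgroup G) := fun a => hfr ▸ pow_mem_frattini_pGroup hPp a
  have hmul : ∀ a b : (P : Subgroup G), (a * b) ^ p = a ^ p * b ^ p := fun a b =>
    Small.mul_pow_of_central (C := ⊤) (Subgroup.mem_top a) (Subgroup.mem_top b)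
      (fun u _ v _ w _ => (hcen _ (hcc u v) w).symm) (fun u _ w _ => (hcen _ (hpz u) w).symm)
      ((Fact.out : p.Prime).dvd_choose_self two_ne_zero (lt_of_le_of_ne (Fact.out : p.Prime).two_le hp.symm))
  let f : (P : Subgroup G) →* (P : Subgroup G) :=
    { toFun := fun a => a ^ p, map_one' := one_pow p, map_mul' := hmul }
  set E := f.ker
  obtain ⟨x, hxE⟩ : ∃ x : (P : Subgroup G), x ^ p ≠ 1 := by
    by_contra hall
    push Not at hall
    have h := Monoid.exponent_dvd_of_forall_pow_eq_one hall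
    rw [show Monoid.exponent (P : Subgroup G) = p ^ 2 from hexp] at h
    have := Nat.le_of_dvd (Fact.out : p.Prime).pos h
    nlinarith
  have hrange : f.range = Subgroup.center (P : Subgroup G) := by
    refine Subgroup.eq_of_le_of_card_ge (by rintro _ ⟨a, rfl⟩; exact hpz a) ?_
    have h1 : f.range ≠ ⊥ := fun e => hxE (Subgroup.mem_bot.1 (e ▸ ⟨x, rfl⟩ : f x ∈ (⊥ : Subgroup (P : Subgroup G))))
    have hd := Subgroup.card_dvd_of_le (show f.range ≤ Subgroup.center (P : Subgroup G) by rintro _ ⟨a, rfl⟩; exact hpz a)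
    rw [hZp] at hd ⊢
    rcases (Nat.dvd_prime Fact.out).1 hd with h | h
    · exact absurd (Subgroup.card_eq_one.1 h) h1
    · exact h.ge
  have hEcard : Nat.card E = p ^ 2 := by
    have h := Subgroup.card_mul_index E
    rw [Subgroup.index_ker, hrange, hZp, hcard, pow_succ p 2] at h
    exact Nat.eq_of_mul_eq_mul_right (Fact.out : p.Prime).pos h
  have hPE : ∀ a : (P : Subgroup G), ∃ l : ℕ, ∃ e ∈ E, a = x ^ l * e := by
    intro a
    have hle : E ⊔ Subgroup.zpowers x = ⊤ := by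
      have hlt : E < E ⊔ Subgroup.zpowers x := lt_of_le_of_ne le_sup_left fun e =>
        hxE (e.ge (Subgroup.mem_sup_right (Subgroup.mem_zpowers x)))
      obtain ⟨i, hi'⟩ := IsPGroup.iff_card.1 (hPp.to_subgroup (E ⊔ Subgroup.zpowers x))
      refine Subgroup.eq_top_of_card_eq _ (le_antisymm ((Subgroup.card_le_of_le le_top).trans Subgroup.card_top.le) ?_)
      have h1 : Nat.card E < Nat.card ↥(E ⊔ Subgroup.zpowers x) := lt_of_le_of_ne (Subgroup.card_le_of_le hlt.le)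
        fun e => hlt.ne (Subgroup.eq_of_le_of_card_ge hlt.le e.ge)
      rw [hEcard, hi', Nat.pow_lt_pow_iff_right hp1] at h1
      rw [hcard, hi']
      exact Nat.pow_le_pow_right (Fact.out : p.Prime).pos h1
    obtain ⟨e, he, _, ⟨k, rfl⟩, rfl⟩ := Subgroup.mem_sup_of_normal_left.1 (hle.ge (Subgroup.mem_top a))
    obtain ⟨l, hl⟩ := mem_powers_iff_mem_zpowers.2 (⟨k, rfl⟩ : x ^ k ∈ Subgroup.zpowers x)
    have hl' : x ^ l = x ^ k := hl
    refine ⟨l, (x ^ l)⁻¹ * e * x ^ l, ?_, ?_⟩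
    · have := (inferInstance : E.Normal).conj_mem e he (x ^ l)⁻¹
      simpa using this
    · rw [mul_assoc ((x ^ l)⁻¹), mul_inv_cancel_left, hl']
  set EG : Subgroup G := E.map (P : Subgroup G).subtype with hEG
  have hEGP : EG ≤ (P : Subgroup G) := Subgroup.map_subtype_le _
  have hEGcard : Nat.card EG = p ^ 2 := by
    rw [Subgroup.card_map_of_injective (P : Subgroup G).subtype_injective, hEcard]
  have hz1 : z ≠ 1 := fun e => hout (by
    show g * z * g⁻¹ ∈ _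
    rw [e, mul_one, mul_inv_cancel]; exact Subgroup.one_mem _)
  have hzC : ∀ a ∈ (P : Subgroup G), a * z = z * a := fun a ha =>
    congrArg Subtype.val (hcen z0 hz0 ⟨a, ha⟩)
  have hz0p : z0 ^ p = 1 := by
    obtain ⟨a, ha⟩ := hrange.ge hz0
    have h1 := pow_card_eq_one' (x := (⟨z0, hz0⟩ : Subgroup.center (P : Subgroup G)))
    rw [hZp] at h1
    exact congrArg Subtype.val h1
  have hzp : z ^ p = 1 := congrArg Subtype.val hz0p
  have hzE : z ∈ EG := ⟨z0, hz0p, rfl⟩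
  have hyp : (⟨y, hg⟩ : (P : Subgroup G)) ^ p = 1 := Subtype.ext (by
    show (g * z * g⁻¹) ^ p = 1
    rw [conj_pow, hzp, mul_one, mul_inv_cancel])
  have hyE : y ∈ EG := ⟨_, hyp, rfl⟩
  have hzgen : ∀ c ∈ Subgroup.center (P : Subgroup G), ∃ n : ℕ, (c : G) = z ^ n := by
    intro c hc
    have hz0' : orderOf z0 = p := orderOf_eq_prime hz0p fun e => hz1 (by rw [hzdef, e]; rfl)
    have h1 : Subgroup.zpowers z0 = Subgroup.center (P : Subgroup G) :=
      Subgroup.eq_of_le_of_card_ge ((Subgroup.zpowers_le).2 hz0) (by rw [Nat.card_zpowers, hz0', hZp])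
    obtain ⟨n, hn⟩ := mem_powers_iff_mem_zpowers.2 (h1.ge hc)
    exact ⟨n, by rw [← hn]; rfl⟩
  -- every element of `EG` is `z^b y^a`
  have hEdec : ∀ e ∈ EG, ∃ b a : ℕ, e = z ^ b * y ^ a := by
    have h1 : Subgroup.zpowers z ⊔ Subgroup.zpowers y = EG := by
      refine Subgroup.eq_of_le_of_card_ge (sup_le ((Subgroup.zpowers_le).2 hzE) ((Subgroup.zpowers_le).2 hyE)) ?_
      have hlt : Subgroup.zpowers z < Subgroup.zpowers z ⊔ Subgroup.zpowers y := by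
        refine lt_of_le_of_ne le_sup_left fun e => hyZ ?_
        obtain ⟨k, hk⟩ := Subgroup.mem_zpowers_iff.1 (e.ge (Subgroup.mem_sup_right (Subgroup.mem_zpowers y)))
        have hk' : z0 ^ k = ⟨y, hg⟩ := Subtype.ext (by rw [SubgroupClass.coe_zpow]; exact hk)
        exact hk' ▸ Subgroup.zpow_mem _ hz0 k
      obtain ⟨i, hi'⟩ := IsPGroup.iff_card.1 (P.2.to_le (sup_le ((Subgroup.zpowers_le).2 (hEGP hzE)) ((Subgroup.zpowers_le).2 hg)) :
        IsPGroup p ↥(Subgroup.zpowers z ⊔ Subgroup.zpowers y))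
      have h1 : Nat.card (Subgroup.zpowers z) < Nat.card ↥(Subgroup.zpowers z ⊔ Subgroup.zpowers y) :=
        lt_of_le_of_ne (Subgroup.card_le_of_le hlt.le) fun e => hlt.ne (Subgroup.eq_of_le_of_card_ge hlt.le e.ge)
      rw [Nat.card_zpowers, orderOf_eq_prime hzp hz1, hi'] at h1
      rw [hEGcard, hi']
      refine Nat.pow_le_pow_right (Fact.out : p.Prime).pos ?_
      by_contra hlt2
      have h3 : p ^ i ≤ p ^ 1 := Nat.pow_le_pow_right (Fact.out : p.Prime).pos (by omega)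
      rw [pow_one] at h3
      omega
    have hn : Subgroup.zpowers y ≤ Subgroup.normalizer (Subgroup.zpowers z : Set G) := by
      refine (Subgroup.zpowers_le).2 (Subgroup.mem_normalizer_iff.2 fun w => ?_)
      have hcomm : ∀ u ∈ Subgroup.zpowers z, y * u * y⁻¹ = u := by
        rintro _ ⟨k, rfl⟩
        rw [((Commute.zpow_right (show Commute y z from hzC y hg)) k).eq, mul_inv_cancel_right]
      refine ⟨fun hw => (hcomm w hw).symm ▸ hw, fun hw => ?_⟩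
      have h2 := hcomm _ hw
      have : y * w * y⁻¹ = w := mul_left_cancel (mul_right_cancel h2)
      exact this ▸ hw
    intro e he
    obtain ⟨u, hu, v, hv, rfl⟩ := mem_sup_of_le_normalizer hn (h1.ge he)
    obtain ⟨b, hb⟩ := mem_powers_iff_mem_zpowers.2 hu
    obtain ⟨a, ha⟩ := mem_powers_iff_mem_zpowers.2 hv
    exact ⟨b, a, by rw [← hb, ← ha]⟩
  have hzy : Commute z y := (hzC y hg).symm
  have hEcomm : ∀ a ∈ EG, a * y = y * a := by
    intro a ha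
    obtain ⟨b, c, rfl⟩ := hEdec a ha
    exact ((hzy.pow_left b).mul_left ((Commute.refl y).pow_left c)).eq
  -- the commutator `c = [x, y]`
  obtain ⟨n, hn⟩ := hzgen _ (hcc x ⟨y, hg⟩)
  have hconjy : (x : G) * y * (x : G)⁻¹ = y * z ^ n := by
    have h : (x : G) * y * (x : G)⁻¹ * y⁻¹ = z ^ n := by rw [← hn]; rfl
    calc (x : G) * y * (x : G)⁻¹ = ((x : G) * y * (x : G)⁻¹ * y⁻¹) * y := by group
      _ = z ^ n * y := by rw [h]
      _ = _ := (hzy.pow_left n).eq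
  have hxz : (x : G) * z * (x : G)⁻¹ = z := by rw [hzC x x.2, mul_inv_cancel_right]
  have hxpow : ∀ l : ℕ, (x : G) ^ l * y * ((x : G) ^ l)⁻¹ = y * z ^ (n * l) := by
    intro l
    induction l with
    | zero => simp
    | succ l ih =>
      have e : (x : G) ^ (l + 1) * y * ((x : G) ^ (l + 1))⁻¹ = (x : G) * ((x : G) ^ l * y * ((x : G) ^ l)⁻¹) * (x : G)⁻¹ := by
        rw [pow_succ']; group
      rw [e, ih, ← conj_mul, hconjy, ← conj_pow, hxz, mul_assoc, ← pow_add]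
      congr 2
      ring
  have hn0 : ¬ p ∣ n := by
    intro hd
    obtain ⟨d, rfl⟩ := hd
    refine hyZ (Subgroup.mem_center_iff.2 fun a => Subtype.ext ?_)
    obtain ⟨l, e, he, rfl⟩ := hPE a
    have h1 : (x : G) ^ l * y * ((x : G) ^ l)⁻¹ = y := by
      rw [hxpow, show p * d * l = p * (d * l) by ring, pow_mul, hzp, one_pow, mul_one]
    have h2 : (e : G) * y = y * e := hEcomm _ ⟨e, he, rfl⟩
    show ((x : G) ^ l * (e : G)) * y = y * ((x : G) ^ l * (e : G))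
    exact (Commute.mul_left (show Commute ((x : G) ^ l) y from mul_inv_eq_iff_eq_mul.1 h1) h2).eq
  obtain ⟨i, hi⟩ : ∃ i : ℕ, z ^ (n * i) = z := by
    obtain ⟨i, hi⟩ := Nat.exists_mul_mod_eq_one_of_coprime (((Fact.out : p.Prime).coprime_iff_not_dvd.2 hn0).symm) hp1
    refine ⟨i, ?_⟩
    rw [← Nat.mod_add_div (n * i) p, hi.2, pow_add, pow_mul, hzp, one_pow, mul_one, pow_one]
  -- an element normalising `EG` and moving `y` to `z`
  obtain ⟨h, hhy, hhN⟩ : ∃ h : G, h * y * h⁻¹ = z ∧ ∀ e ∈ EG, h * e * h⁻¹ ∈ EG := by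
    set C := Subgroup.centralizer ({z} : Set G)
    have hPC : (P : Subgroup G) ≤ C := fun a ha => Subgroup.mem_centralizer_singleton_iff.2 (hzC a ha)
    set M := EG.map (MulAut.conj g⁻¹).toMonoidHom
    have hMC : M ≤ C := by
      rintro _ ⟨e, he, rfl⟩
      refine Subgroup.mem_centralizer_singleton_iff.2 ?_
      have h1 := hEcomm e he
      show (g⁻¹ * e * g⁻¹⁻¹) * z = z * (g⁻¹ * e * g⁻¹⁻¹)
      calc (g⁻¹ * e * g⁻¹⁻¹) * z = g⁻¹ * (e * y) * g := by rw [hydef]; group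
        _ = g⁻¹ * (y * e) * g := by rw [h1]
        _ = _ := by rw [hydef]; group
    have hMp : IsPGroup p (M.subgroupOf C) :=
      ((P.2.to_le hEGP).map _).comap_of_injective C.subtype C.subtype_injective
    obtain ⟨T, hT⟩ := hMp.exists_le_sylow
    obtain ⟨c, hc⟩ := MulAction.exists_smul_eq C T (P.subtype hPC)
    refine ⟨(c : G) * g⁻¹, ?_, fun e he => ?_⟩
    · have h1 : g⁻¹ * y * g⁻¹⁻¹ = z := by rw [hydef]; group
      have h2 : (c : G) * z = z * c := Subgroup.mem_centralizer_singleton_iff.1 c.2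
      calc (c : G) * g⁻¹ * y * ((c : G) * g⁻¹)⁻¹ = (c : G) * (g⁻¹ * y * g⁻¹⁻¹) * (c : G)⁻¹ := by group
        _ = _ := by rw [h1, h2, mul_inv_cancel_right]
    have hm : (⟨g⁻¹ * e * g⁻¹⁻¹, hMC ⟨e, he, rfl⟩⟩ : C) ∈ (T : Subgroup C) := hT ⟨e, he, rfl⟩
    have h3 : c * ⟨g⁻¹ * e * g⁻¹⁻¹, hMC ⟨e, he, rfl⟩⟩ * c⁻¹ ∈ ((P.subtype hPC : Sylow p C) : Subgroup C) :=
      hc ▸ ⟨_, hm, rfl⟩
    have h4 : (c : G) * g⁻¹ * e * ((c : G) * g⁻¹)⁻¹ ∈ (P : Subgroup G) := by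
      have h5 : ((c * ⟨g⁻¹ * e * g⁻¹⁻¹, hMC ⟨e, he, rfl⟩⟩ * c⁻¹ : C) : G) ∈ (P : Subgroup G) := h3
      convert h5 using 1
      show _ = (c : G) * (g⁻¹ * e * g⁻¹⁻¹) * (c : G)⁻¹
      group
    refine ⟨⟨_, h4⟩, Subtype.ext ?_, rfl⟩
    show ((c : G) * g⁻¹ * e * ((c : G) * g⁻¹)⁻¹) ^ p = 1
    obtain ⟨e', he', rfl⟩ := he
    rw [conj_pow, show ((P : Subgroup G).subtype e') ^ p = 1 from congrArg Subtype.val he', mul_one, mul_inv_cancel]
  obtain ⟨b, a, hab⟩ := hEdec _ (hhN z hzE)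
  have ha0 : ¬ p ∣ a := by
    intro hd
    obtain ⟨d, rfl⟩ := hd
    have hypG : y ^ p = 1 := congrArg Subtype.val hyp
    rw [pow_mul, hypG, one_pow, mul_one] at hab
    -- then `z` is a power of `y`
    have h1 : h * z * h⁻¹ = h * (y ^ b) * h⁻¹ := by rw [hab, ← conj_pow, hhy]
    have h2 : z = y ^ b := mul_left_cancel (mul_right_cancel h1)
    have hb : (y ^ b) ∈ Subgroup.zpowers z := h2 ▸ Subgroup.mem_zpowers z
    refine hyZ ?_
    by_cases hpb : p ∣ b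
    · obtain ⟨q, rfl⟩ := hpb
      rw [pow_mul, hypG, one_pow] at h2
      exact absurd h2 hz1
    · obtain ⟨q, hq⟩ := exists_pow_eq_self_of_coprime (x := y) (n := b)
        (Nat.Coprime.coprime_dvd_right (orderOf_dvd_of_pow_eq_one hypG) ((Fact.out : p.Prime).coprime_iff_not_dvd.2 hpb).symm)
      rw [← h2] at hq
      have : z0 ^ q = ⟨y, hg⟩ := Subtype.ext (by rw [SubgroupClass.coe_pow]; exact hq)
      exact this ▸ Subgroup.pow_mem _ hz0 q
  -- the transvection fixing `y`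
  obtain ⟨k, hk⟩ : ∃ k : ℕ, z ^ (a * k) = z⁻¹ := by
    obtain ⟨k, hk⟩ := Nat.exists_mul_mod_eq_one_of_coprime (((Fact.out : p.Prime).coprime_iff_not_dvd.2 ha0).symm) hp1
    refine ⟨k * (p - 1), eq_inv_of_mul_eq_one_left ?_⟩
    have h1 : z ^ (a * k) = z := by
      rw [← Nat.mod_add_div (a * k) p, hk.2, pow_add, pow_mul, hzp, one_pow, mul_one, pow_one]
    rw [← mul_assoc, pow_mul, h1, ← pow_succ, Nat.sub_add_cancel hp1.le, hzp]
  set x1 : G := (x : G) ^ i with hx1def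
  have hx1y : x1 * y * x1⁻¹ = y * z := by rw [hx1def, hxpow, hi]
  have hx1z : x1 * z * x1⁻¹ = z := by
    rw [hx1def, show (x : G) ^ i * z = z * (x : G) ^ i from
      hzC _ ((P : Subgroup G).pow_mem x.2 i), mul_inv_cancel_right]
  have hxk : ∀ m : ℕ, x1 ^ m * y * (x1 ^ m)⁻¹ = y * z ^ m := by
    intro m
    rw [hx1def, ← pow_mul, hxpow, show n * (i * m) = n * i * m by ring, pow_mul, hi]
  set x2 : G := h⁻¹ * x1 ^ k * h
  have hx1kz : x1 ^ k * z * (x1 ^ k)⁻¹ = z := by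
    rw [hx1def, ← pow_mul, hzC _ ((P : Subgroup G).pow_mem x.2 _), mul_inv_cancel_right]
  have hx2y : x2 * y * x2⁻¹ = y := by
    have h1 : h⁻¹ * z * h = y := by rw [← hhy]; group
    calc x2 * y * x2⁻¹ = h⁻¹ * (x1 ^ k * (h * y * h⁻¹) * (x1 ^ k)⁻¹) * h := by simp only [x2]; group
      _ = _ := by rw [hhy, hx1kz, h1]
  have hx2z : x2 * z * x2⁻¹ = z * y⁻¹ := by
    have e1 : x1 ^ k * (z ^ b * y ^ a) * (x1 ^ k)⁻¹ = z ^ b * y ^ a * z⁻¹ := by
      rw [← conj_mul, ← conj_pow, ← conj_pow, hx1kz, hxk, (hzy.symm.pow_right k).mul_pow, ← pow_mul, mul_comm k a,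
        hk, mul_assoc]
    calc x2 * z * x2⁻¹ = h⁻¹ * (x1 ^ k * (h * z * h⁻¹) * (x1 ^ k)⁻¹) * h := by simp only [x2]; group
      _ = h⁻¹ * (h * z * h⁻¹ * z⁻¹) * h := by rw [hab, e1]
      _ = z * (h⁻¹ * z * h)⁻¹ := by group
      _ = z * y⁻¹ := by rw [show h⁻¹ * z * h = y by rw [← hhy]; group]
  set w : G := x1 * x2 * x1
  have hwy : w * y * w⁻¹ = z := by
    calc w * y * w⁻¹ = x1 * (x2 * (x1 * y * x1⁻¹) * x2⁻¹) * x1⁻¹ := by simp only [w]; group
      _ = x1 * ((x2 * y * x2⁻¹) * (x2 * z * x2⁻¹)) * x1⁻¹ := by rw [hx1y]; group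
      _ = x1 * (y * (z * y⁻¹)) * x1⁻¹ := by rw [hx2y, hx2z]
      _ = x1 * z * x1⁻¹ := by rw [← mul_assoc y z y⁻¹, hzy.symm.eq, mul_inv_cancel_right]
      _ = z := hx1z
  have hwz : w * z * w⁻¹ = y⁻¹ := by
    calc w * z * w⁻¹ = x1 * (x2 * (x1 * z * x1⁻¹) * x2⁻¹) * x1⁻¹ := by simp only [w]; group
      _ = x1 * (z * y⁻¹) * x1⁻¹ := by rw [hx1z, hx2z]
      _ = (x1 * z * x1⁻¹) * (x1 * y * x1⁻¹)⁻¹ := by group
      _ = z * (y * z)⁻¹ := by rw [hx1z, hx1y]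
      _ = y⁻¹ := by group
  set τ : G := w * w
  have hτy : τ * y * τ⁻¹ = y⁻¹ := by
    calc τ * y * τ⁻¹ = w * (w * y * w⁻¹) * w⁻¹ := by simp only [τ]; group
      _ = _ := by rw [hwy, hwz]
  have hτz : τ * z * τ⁻¹ = z⁻¹ := by
    calc τ * z * τ⁻¹ = w * (w * z * w⁻¹) * w⁻¹ := by simp only [τ]; group
      _ = (w * y * w⁻¹)⁻¹ := by rw [hwz]; group
      _ = _ := by rw [hwy]
  have hτE : ∀ e ∈ EG, τ * e * τ⁻¹ = e⁻¹ := by
    intro e he
    obtain ⟨b', a', rfl⟩ := hEdec e he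
    rw [← conj_mul, ← conj_pow, ← conj_pow, hτy, hτz, inv_pow, inv_pow, ← mul_inv_rev]
    exact inv_inj.2 (hzy.pow_pow b' a').symm.eq
  -- Frattini
  set CE := Subgroup.centralizer (EG : Set G)
  set L := CE ⊔ (P : Subgroup G)
  have hEn : ∀ q ∈ (P : Subgroup G), ∀ e ∈ EG, q * e * q⁻¹ ∈ EG := by
    rintro q hq _ ⟨e, he, rfl⟩
    exact ⟨⟨q, hq⟩ * e * ⟨q, hq⟩⁻¹, (inferInstance : E.Normal).conj_mem e he _, rfl⟩
  have hPN : (P : Subgroup G) ≤ Subgroup.normalizer (CE : Set G) := by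
    intro q hq
    have key : ∀ q ∈ (P : Subgroup G), ∀ c ∈ CE, q * c * q⁻¹ ∈ CE := by
      intro q hq c hc e he
      have h1 := hc (q⁻¹ * e * q) (by simpa using hEn q⁻¹ ((P : Subgroup G).inv_mem hq) e he)
      calc e * (q * c * q⁻¹) = q * ((q⁻¹ * e * q) * c) * q⁻¹ := by group
        _ = q * (c * (q⁻¹ * e * q)) * q⁻¹ := by rw [h1]
        _ = _ := by group
    refine Subgroup.mem_normalizer_iff.2 fun c => ⟨key q hq c, fun hc => ?_⟩
    simpa [mul_assoc] using key q⁻¹ ((P : Subgroup G).inv_mem hq) _ hc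
  have hτP : ∀ q ∈ (P : Subgroup G), τ * q * τ⁻¹ ∈ L := by
    intro q hq
    have h1 : τ * q * τ⁻¹ * q⁻¹ ∈ CE := fun e he => by
      have h2 := hEn q⁻¹ ((P : Subgroup G).inv_mem hq) e he
      rw [inv_inv] at h2
      have h3 := hτE _ h2
      have h4 : τ⁻¹ * e * τ = e⁻¹ := by
        have h5 := hτE _ (EG.inv_mem he)
        rw [inv_inv] at h5
        calc τ⁻¹ * e * τ = τ⁻¹ * (τ * e⁻¹ * τ⁻¹) * τ := by rw [h5]
          _ = _ := by group
      -- both conjugate `e` in the same way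
      have h6 : (τ * q * τ⁻¹ * q⁻¹)⁻¹ * e * (τ * q * τ⁻¹ * q⁻¹) = e := by
        calc (τ * q * τ⁻¹ * q⁻¹)⁻¹ * e * (τ * q * τ⁻¹ * q⁻¹)
            = q * (τ * (q⁻¹ * (τ⁻¹ * e * τ) * q) * τ⁻¹) * q⁻¹ := by group
          _ = q * (τ * (q⁻¹ * e * q)⁻¹ * τ⁻¹) * q⁻¹ := by rw [h4]; group
          _ = q * (τ * (q⁻¹ * e * q) * τ⁻¹)⁻¹ * q⁻¹ := by group
          _ = _ := by rw [h3]; group
      calc e * (τ * q * τ⁻¹ * q⁻¹) = (τ * q * τ⁻¹ * q⁻¹) * ((τ * q * τ⁻¹ * q⁻¹)⁻¹ * e * (τ * q * τ⁻¹ * q⁻¹)) := by group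
        _ = _ := by rw [h6]
    have := L.mul_mem (Subgroup.mem_sup_left h1) (Subgroup.mem_sup_right hq)
    simpa using this
  have hPL : (P : Subgroup G) ≤ L := le_sup_right
  have hτPle : ((τ • P : Sylow p G) : Subgroup G) ≤ L := by
    rintro _ ⟨q, hq, rfl⟩
    exact hτP q hq
  obtain ⟨l, hl⟩ := MulAction.exists_smul_eq L ((τ • P).subtype hτPle) (P.subtype hPL)
  have hlP : ∀ q ∈ (P : Subgroup G), ((l : G) * τ) * q * ((l : G) * τ)⁻¹ ∈ (P : Subgroup G) := by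
    intro q hq
    have h1 : l * ⟨τ * q * τ⁻¹, hτP q hq⟩ * l⁻¹ ∈ ((P.subtype hPL : Sylow p L) : Subgroup L) :=
      hl ▸ ⟨_, (⟨q, hq, rfl⟩ : τ * q * τ⁻¹ ∈ ((τ • P : Sylow p G) : Subgroup G)), rfl⟩
    have h2 : ((l * ⟨τ * q * τ⁻¹, hτP q hq⟩ * l⁻¹ : L) : G) ∈ (P : Subgroup G) := h1
    convert h2 using 1
    show _ = (l : G) * (τ * q * τ⁻¹) * (l : G)⁻¹
    group
  obtain ⟨c, hc, q₀, hq₀, hlq⟩ := mem_sup_of_le_normalizer hPN l.2
  -- the element `h₀`
  set h₀ : G := q₀⁻¹ * (l : G) * τ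
  have hP0 : ∀ q ∈ (P : Subgroup G), h₀ * q * h₀⁻¹ ∈ (P : Subgroup G) := fun q hq => by
    have := (P : Subgroup G).mul_mem ((P : Subgroup G).mul_mem ((P : Subgroup G).inv_mem hq₀) (hlP q hq)) hq₀
    convert this using 1
    simp only [h₀]
    group
  have hh0E : ∀ e ∈ EG, h₀ * e * h₀⁻¹ = e⁻¹ := by
    intro e he
    have h1 : τ * e * τ⁻¹ = e⁻¹ := hτE e he
    have h2 : q₀ * e⁻¹ * q₀⁻¹ ∈ EG := hEn q₀ hq₀ _ (EG.inv_mem he)
    calc h₀ * e * h₀⁻¹ = q₀⁻¹ * (c * q₀ * (τ * e * τ⁻¹) * q₀⁻¹ * c⁻¹) * q₀ := by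
          simp only [h₀]; rw [← hlq]; group
      _ = q₀⁻¹ * (c * (q₀ * e⁻¹ * q₀⁻¹) * c⁻¹) * q₀ := by rw [h1]; group
      _ = q₀⁻¹ * (q₀ * e⁻¹ * q₀⁻¹) * q₀ := by rw [← hc _ h2, mul_inv_cancel_right]
      _ = _ := by group
  obtain ⟨l', e, he, hxl⟩ := hPE ⟨_, hP0 x x.2⟩
  have hxl' : h₀ * (x : G) * h₀⁻¹ = (x : G) ^ l' * (e : G) := congrArg Subtype.val hxl
  have hyh := hh0E y hyE
  have hzh := hh0E z hzE
  -- the effect on `[x, y] = z ^ n`
  have e1 : (h₀ * (x : G) * h₀⁻¹) * y⁻¹ * (h₀ * (x : G) * h₀⁻¹)⁻¹ = y⁻¹ * z⁻¹ ^ n := by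
    calc (h₀ * (x : G) * h₀⁻¹) * y⁻¹ * (h₀ * (x : G) * h₀⁻¹)⁻¹
        = (h₀ * (x : G) * h₀⁻¹) * (h₀ * y * h₀⁻¹) * (h₀ * (x : G) * h₀⁻¹)⁻¹ := by rw [hyh]
      _ = h₀ * ((x : G) * y * (x : G)⁻¹) * h₀⁻¹ := by group
      _ = (h₀ * y * h₀⁻¹) * (h₀ * z * h₀⁻¹) ^ n := by rw [hconjy, ← conj_mul, conj_pow]
      _ = _ := by rw [hyh, hzh]
  rw [hxl'] at e1
  have hey : (e : G) * y⁻¹ = y⁻¹ * e := (Commute.inv_right (hEcomm _ ⟨e, he, rfl⟩ : Commute (e : G) y)).eq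
  have e2 : (x : G) ^ l' * y⁻¹ * ((x : G) ^ l')⁻¹ = y⁻¹ * z⁻¹ ^ n := by
    rw [← e1]
    calc (x : G) ^ l' * y⁻¹ * ((x : G) ^ l')⁻¹ = (x : G) ^ l' * (y⁻¹ * e) * (e : G)⁻¹ * ((x : G) ^ l')⁻¹ := by group
      _ = (x : G) ^ l' * ((e : G) * y⁻¹) * (e : G)⁻¹ * ((x : G) ^ l')⁻¹ := by rw [hey]
      _ = _ := by group
  have e3 : (y * z ^ (n * l'))⁻¹ = (y * z ^ n)⁻¹ := by
    rw [← hxpow l']
    calc ((x : G) ^ l' * y * ((x : G) ^ l')⁻¹)⁻¹ = (x : G) ^ l' * y⁻¹ * ((x : G) ^ l')⁻¹ := by group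
      _ = y⁻¹ * z⁻¹ ^ n := e2
      _ = y⁻¹ * (z ^ n)⁻¹ := by rw [inv_pow]
      _ = (z ^ n * y)⁻¹ := (mul_inv_rev _ _).symm
      _ = _ := by rw [(hzy.pow_left n).eq]
  rw [inv_inj] at e3
  have e4 := mul_left_cancel e3
  rw [pow_eq_pow_iff_modEq, orderOf_eq_prime hzp hz1] at e4
  have hl1 : l' ≡ 1 [MOD p] := Nat.ModEq.cancel_left_of_coprime (c := n)
    (((Fact.out : p.Prime).coprime_iff_not_dvd.2 hn0)) (by rw [mul_one]; exact e4)
  -- the `p`-th power gives the contradiction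
  set xp : G := (x : G) ^ p with hxpdef
  have hxp1 : xp ≠ 1 := fun h' => hxE (Subtype.ext (by rw [SubgroupClass.coe_pow]; exact h'))
  obtain ⟨mz, hmz⟩ := hzgen _ (hpz x)
  have hxpE : xp ∈ EG := by
    refine ⟨x ^ p, ?_, rfl⟩
    obtain ⟨a', ha'⟩ := hrange.ge (hpz x)
    have h1 := pow_card_eq_one' (x := (⟨x ^ p, hpz x⟩ : Subgroup.center (P : Subgroup G)))
    rw [hZp] at h1
    exact congrArg Subtype.val h1
  have hxpp : xp ^ p = 1 := by
    obtain ⟨e', he', ee⟩ := hxpE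
    rw [← ee]
    exact congrArg Subtype.val he'
  have e5 : xp⁻¹ = xp := by
    have h1 : (⟨_, hP0 x x.2⟩ : (P : Subgroup G)) ^ p = x ^ (p * l') := by
      rw [hxl, hmul, show e ^ p = 1 from he, mul_one, ← pow_mul, mul_comm l' p]
    have h2 : (h₀ * (x : G) * h₀⁻¹) ^ p = xp ^ l' := by
      rw [hxpdef, ← pow_mul]
      exact (SubgroupClass.coe_pow _ _).symm.trans ((congrArg Subtype.val h1).trans (SubgroupClass.coe_pow _ _))
    rw [conj_pow, ← hxpdef, hh0E xp hxpE] at h2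
    rw [h2]
    conv_rhs => rw [← pow_one xp]
    rw [pow_eq_pow_iff_modEq, orderOf_eq_prime hxpp hxp1]
    exact hl1
  have h2 : xp ^ 2 = 1 := by rw [pow_two]; nth_rw 1 [← e5]; exact inv_mul_cancel _
  have := orderOf_dvd_of_pow_eq_one h2
  rw [orderOf_eq_prime hxpp hxp1] at this
  exact hp ((Nat.prime_dvd_prime_iff_eq Fact.out Nat.prime_two).1 this)

/-- Let p be an odd prime and G a finite group with a Sylow p-subgroup P that is extraspecial of order p³ and exponent p². Then the centre of P is strongly closed in P with respect to G: a G-conjugate of an element of Z(P) that lies in P already lies in Z(P). In particular a nontrivial central element of P is conjugate in G to no noncentral element of P. -/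
theorem result {G : Type*} [Group G] [Finite G]
    {p : ℕ} [Fact p.Prime] (hp : p ≠ 2) (P : Sylow p G) (hE : Cfsg.IsExtraspecial p ↥P)
    (hcard : Nat.card P = p ^ 3) (hexp : Monoid.exponent ↥P = p ^ 2) :
    Cfsg.IsStronglyClosed ((Subgroup.center ↥P).map (P : Subgroup G).subtype) (P : Subgroup G) := by
    exact key hp P hE hcard hexp

end Cfsg.Agent.S3053
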