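import Cfsg.Statements.S3054
import Cfsg.Agent.Lib.ExtraFusion.Planes

set_option autoImplicit false
set_option linter.unusedVariables false
open Cfsg
open scoped commutatorElement

namespace Cfsg.Agent.S3054

open CfsgLib.ExtraFusion in
theorem exists_moving {G : Type*} [Group G] {p : ℕ} [Fact p.Prime] (A : Subgroup G) {z x : G} (hz : z ∈ A) (hx : x ∈ A)
    (hcard : Nat.card A = p ^ 2) (hzo : orderOf z = p) (hxo : orderOf x = p) (hxz : x ∉ Subgroup.zpowers z)
    (hc : ∀ a ∈ A, ∀ b ∈ A, Commute a b) :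
    ∃ φ : MulAut ↥A, orderOf φ = p ∧ (φ ⟨z, hz⟩ : G) = z * x := by
  haveI : NeZero p := ⟨(Fact.out : p.Prime).ne_zero⟩
  haveI : Finite A := Nat.finite_of_card_ne_zero (by rw [hcard]; exact pow_ne_zero _ (NeZero.ne p))
  have hadd : ∀ q : G, orderOf q = p → ∀ i j : ZMod p, q ^ (i + j).val = q ^ i.val * q ^ j.val := fun q hq i j => by
    rw [ZMod.val_add, ← pow_add]
    have := pow_mod_orderOf q (i.val + j.val)
    rwa [hq] at this
  let E : Multiplicative (ZMod p × ZMod p) →* ↥A :=
    { toFun := fun w => ⟨x ^ (Multiplicative.toAdd w).1.val * z ^ (Multiplicative.toAdd w).2.val,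
        mul_mem (pow_mem hx _) (pow_mem hz _)⟩
      map_one' := Subtype.ext (by simp)
      map_mul' := fun v w => Subtype.ext (by
        simp only [toAdd_mul, Prod.fst_add, Prod.snd_add, Subgroup.coe_mul, hadd x hxo, hadd z hzo]
        exact (((hc x hx z hz).pow_pow _ _).mul_mul_mul_comm _ _)) }
  have hinj : Function.Injective E := by
    rw [injective_iff_map_eq_one]
    intro w hw
    have h : x ^ (Multiplicative.toAdd w).1.val * z ^ (Multiplicative.toAdd w).2.val = 1 := congrArg Subtype.val hw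
    have hxi : x ^ (Multiplicative.toAdd w).1.val ∈ Subgroup.zpowers z := by
      rw [mul_eq_one_iff_eq_inv.1 h]
      exact inv_mem (pow_mem (Subgroup.mem_zpowers z) _)
    have hi : (Multiplicative.toAdd w).1 = 0 := by
      by_contra hne
      apply hxz
      have : x = (x ^ (Multiplicative.toAdd w).1.val) ^ ((Multiplicative.toAdd w).1⁻¹).val := by
        rw [← pow_mul, ← pow_mod_orderOf, hxo, ← ZMod.val_mul, mul_inv_cancel₀ hne, ZMod.val_one, pow_one]
      rw [this]
      exact pow_mem hxi _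
    have hj : (Multiplicative.toAdd w).2 = 0 := by
      rw [hi, ZMod.val_zero, pow_zero, one_mul, ← orderOf_dvd_iff_pow_eq_one, hzo] at h
      rw [← ZMod.natCast_zmod_val (Multiplicative.toAdd w).2, (ZMod.natCast_eq_zero_iff _ _).2 h] <;> rfl
    exact toAdd_eq_zero.1 (Prod.ext hi hj)
  have hbij : Function.Bijective E := by
    refine (Nat.bijective_iff_injective_and_card E).2 ⟨hinj, ?_⟩
    rw [Nat.card_congr Multiplicative.toAdd, Nat.card_prod, Nat.card_zmod, hcard, sq]
  let e := MulEquiv.ofBijective E hbij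
  let σ : Multiplicative (ZMod p × ZMod p) ≃* Multiplicative (ZMod p × ZMod p) := AddEquiv.toMultiplicative
    { toFun := fun w => (w.1 + w.2, w.2)
      invFun := fun w => (w.1 - w.2, w.2)
      left_inv := fun w => by simp
      right_inv := fun w => by simp
      map_add' := fun v w => by ext <;> simp <;> ring }
  let φ : MulAut ↥A := (e.symm.trans σ).trans e
  have hφ : ∀ (n : ℕ) (i j : ZMod p),
      (φ ^ n) (e (Multiplicative.ofAdd (i, j))) = e (Multiplicative.ofAdd (i + n * j, j)) := by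
    intro n
    induction n with
    | zero => intro i j; simp
    | succ n ih =>
      intro i j
      rw [pow_succ, MulAut.mul_apply]
      show (φ ^ n) (e (σ (e.symm (e (Multiplicative.ofAdd (i, j)))))) = _
      rw [MulEquiv.symm_apply_apply]
      show (φ ^ n) (e (Multiplicative.ofAdd (i + j, j))) = _
      rw [ih]; push_cast; ring_nf
  have hz' : e (Multiplicative.ofAdd ((0 : ZMod p), (1 : ZMod p))) = ⟨z, hz⟩ := Subtype.ext (by
    show x ^ (0 : ZMod p).val * z ^ (1 : ZMod p).val = z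
    rw [ZMod.val_zero, ZMod.val_one, pow_zero, pow_one, one_mul])
  have hz'' : (φ ⟨z, hz⟩ : G) = z * x := by
    have := hφ 1 0 1
    rw [pow_one, hz'] at this
    rw [this]
    show x ^ ((0 : ZMod p) + ((1 : ℕ) : ZMod p) * 1).val * z ^ (1 : ZMod p).val = z * x
    rw [Nat.cast_one, one_mul, zero_add, ZMod.val_one, pow_one, pow_one, (hc x hx z hz).eq]
  refine ⟨φ, orderOf_eq_prime (MulEquiv.ext fun a => ?_) (fun h1 => ?_), hz''⟩
  · obtain ⟨w, rfl⟩ := e.surjective a
    have hw := hφ p (Multiplicative.toAdd w).1 (Multiplicative.toAdd w).2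
    rw [ZMod.natCast_self, zero_mul, add_zero, Prod.mk.eta, ofAdd_toAdd] at hw
    exact hw
  · rw [h1, MulAut.one_apply] at hz''
    have : x = 1 := mul_eq_left.1 hz''.symm
    exact hxz (this ▸ one_mem _)

open CfsgLib.ExtraFusion in
theorem key {G : Type*} [Group G] [Finite G]
    {p : ℕ} [Fact p.Prime] (P : Sylow p G) (hE : Cfsg.IsExtraspecial p ↥P)
    (hcard : Nat.card P = p ^ 3) (hexp : Monoid.exponent ↥P = p)
    (A : Fin 3 → Subgroup G) (hA : Function.Injective A) (hAP : ∀ i, A i ≤ (P : Subgroup G))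
    (hAcard : ∀ i, Nat.card ↥(A i) = p ^ 2)
    (hSL : ∀ i, ∀ φ : MulAut ↥(A i), orderOf φ = p → ∃ g : G, ∀ a : ↥(A i), (φ a : G) = g * (a : G) * g⁻¹) :
    p ≤ 13 := by
  by_contra hp13
  have hpp := (Fact.out : p.Prime)
  obtain ⟨z, D⟩ := exists_ext (P := P) hE hexp
  obtain ⟨φ, hφs, hφk⟩ := exists_phi D hcard
  have hAc : ∀ i, ∀ a ∈ A i, ∀ b ∈ A i, Commute a b := fun i a ha b hb =>
    congrArg Subtype.val (IsPGroup.commutative_of_card_eq_prime_sq (hAcard i) ⟨a, ha⟩ ⟨b, hb⟩)
  have hAz : ∀ i, ∀ q ∈ A i, q ∈ Subgroup.zpowers z → q = 1 ∨ z ∈ A i := by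
    intro i q hq hqz
    by_cases hq1 : q = 1
    · exact Or.inl hq1
    · right
      have hle : Subgroup.zpowers q ≤ Subgroup.zpowers z := Subgroup.zpowers_le.2 hqz
      have he := Subgroup.eq_of_le_of_card_ge hle (by
        rw [Nat.card_zpowers, Nat.card_zpowers, D.order_z, orderOf_eq_prime (D.exp q (hAP i hq)) hq1])
      exact Subgroup.zpowers_le.1 (he.ge.trans (Subgroup.zpowers_le.2 hq))
  have hzA : ∀ i, z ∈ A i := by
    intro i
    by_contra hz
    have hidx : (A i).relIndex (P : Subgroup G) = p := by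
      have := Subgroup.card_mul_index ((A i).subgroupOf (P : Subgroup G))
      rw [Nat.card_congr (Subgroup.subgroupOfEquivOfLe (hAP i)).toEquiv, hAcard] at this
      change p ^ 2 * (A i).relIndex (P : Subgroup G) = Nat.card P at this
      rw [hcard, pow_succ p 2] at this
      exact Nat.eq_of_mul_eq_mul_left (pow_pos hpp.pos 2) this
    have hlt : A i < A i ⊔ Subgroup.zpowers z :=
      lt_of_le_of_ne le_sup_left fun e => hz (e.ge (Subgroup.mem_sup_right (Subgroup.mem_zpowers z)))
    have hsup : A i ⊔ Subgroup.zpowers z ≤ (P : Subgroup G) := sup_le (hAP i) (Subgroup.zpowers_le.2 D.zP)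
    have htop : A i ⊔ Subgroup.zpowers z = (P : Subgroup G) := by
      have hm := Subgroup.relIndex_mul_relIndex _ _ _ hlt.le hsup
      rw [hidx] at hm
      rcases hpp.eq_one_or_self_of_dvd _ (Dvd.intro _ hm) with h | h
      · exact absurd (Subgroup.relIndex_eq_one.1 h) hlt.not_ge
      · rw [h] at hm
        exact le_antisymm hsup (Subgroup.relIndex_eq_one.1 (Nat.eq_of_mul_eq_mul_left hpp.pos (hm.trans (mul_one p).symm)))
    obtain ⟨a, ha, ha1⟩ : ∃ a ∈ A i, a ≠ (1 : G) := (Subgroup.bot_or_exists_ne_one (A i)).resolve_left (by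
      intro hb
      have := hAcard i
      rw [hb, Subgroup.card_bot] at this
      exact (one_lt_pow₀ hpp.one_lt two_ne_zero).ne this)
    have hanz : a ∉ Subgroup.zpowers z := fun h => (hAz i a ha h).elim ha1 hz
    obtain ⟨w, hw, hwc⟩ := D.noncentral a (hAP i ha) hanz
    have hle : A i ⊔ Subgroup.zpowers z ≤ Subgroup.centralizer ({a} : Set G) :=
      sup_le (fun b hb => Subgroup.mem_centralizer_singleton_iff.2 (hAc i b hb a ha).eq)
        (Subgroup.zpowers_le.2 (Subgroup.mem_centralizer_singleton_iff.2 (D.central a (hAP i ha)).symm.eq))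
    exact hwc (Subgroup.mem_centralizer_singleton_iff.1 (hle (htop.ge hw)))
  have hex : ∀ i, ∃ x : ↥(P : Subgroup G), (x : G) ∈ A i ∧ (x : G) ∉ Subgroup.zpowers z ∧
      ∃ g : G, g * z * g⁻¹ = x ∧ g⁻¹ * z * g ∈ (P : Subgroup G) := by
    intro i
    obtain ⟨x₀, hx₀, hx₀z⟩ : ∃ x₀ ∈ A i, x₀ ∉ Subgroup.zpowers z := by
      by_contra h
      push Not at h
      have := Subgroup.card_le_of_le (K := Subgroup.zpowers z) h
      rw [hAcard, Nat.card_zpowers, D.order_z] at this
      nlinarith [hpp.two_le]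
    have hx₀o : orderOf x₀ = p := orderOf_eq_prime (D.exp x₀ (hAP i hx₀)) fun e => hx₀z (e ▸ one_mem _)
    obtain ⟨f, hf, hfz⟩ := exists_moving (A i) (hzA i) hx₀ (hAcard i) D.order_z hx₀o hx₀z (hAc i)
    obtain ⟨g, hg⟩ := hSL i f hf
    have h1 : g * z * g⁻¹ = z * x₀ := (hg ⟨z, hzA i⟩).symm.trans hfz
    refine ⟨⟨z * x₀, mul_mem D.zP (hAP i hx₀)⟩, mul_mem (hzA i) hx₀, fun h => hx₀z ?_, g, h1, hAP i ?_⟩
    · have := mul_mem (inv_mem (Subgroup.mem_zpowers z)) h
      simpa using this
    · have h2 := hg (f.symm ⟨z, hzA i⟩)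
      rw [MulEquiv.apply_symm_apply] at h2
      have h3 : g⁻¹ * z * g = (f.symm ⟨z, hzA i⟩ : G) := by
        conv_lhs => rw [show z = ((⟨z, hzA i⟩ : ↥(A i)) : G) from rfl, h2]
        group
      rw [h3]
      exact (f.symm ⟨z, hzA i⟩).2
  choose x hxA hxz g hg1 hg2 using hex
  have hind : ∀ i j, (∃ a : ZMod p, coord φ (x j) = a • coord φ (x i)) → i = j := by
    rintro i j ⟨a, ha⟩
    haveI : NeZero p := ⟨hpp.ne_zero⟩
    have h1 : φ (x j * ((x i) ^ a.val)⁻¹) = 1 := by
      rw [map_mul, map_inv, mul_inv_eq_one, map_pow]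
      apply Multiplicative.toAdd.injective
      rw [toAdd_pow, ← Nat.cast_smul_eq_nsmul (ZMod p), ZMod.natCast_zmod_val]
      exact ha
    obtain ⟨n, hn⟩ := Subgroup.mem_zpowers_iff.1 ((hφk _).1 h1)
    have hxj : (x j : G) ∈ A i := by
      have e : (x j : G) = z ^ n * (x i : G) ^ a.val := by rw [hn]; push_cast; group
      rw [e]
      exact mul_mem (zpow_mem (hzA i) n) (pow_mem (hxA i) _)
    apply hA
    have hle : Subgroup.zpowers z < A i ⊓ A j := lt_of_le_of_ne
      (Subgroup.zpowers_le.2 ⟨hzA i, hzA j⟩) fun e => hxz j (e.ge ⟨hxj, hxA j⟩)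
    obtain ⟨k, hk2, hk⟩ := (Nat.dvd_prime_pow hpp).1 (hAcard i ▸ Subgroup.card_dvd_of_le (inf_le_left : A i ⊓ A j ≤ A i))
    have h1 : Nat.card (Subgroup.zpowers z) < Nat.card ↥(A i ⊓ A j) := lt_of_le_of_ne (Subgroup.card_le_of_le hle.le)
      fun e => hle.ne (Subgroup.eq_of_le_of_card_ge hle.le e.ge)
    rw [Nat.card_zpowers, D.order_z, hk] at h1
    have hk' : k = 2 := by
      interval_cases k
      · simp at h1; omega
      · simp at h1
      · rfl
    rw [hk'] at hk
    rw [← Subgroup.eq_of_le_of_card_ge (inf_le_left : A i ⊓ A j ≤ A i) (by rw [hk, hAcard]),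
      Subgroup.eq_of_le_of_card_ge (inf_le_right : A i ⊓ A j ≤ A j) (by rw [hk, hAcard])]
  have hp17 : 17 ≤ p := by
    by_contra h
    have : p = 14 ∨ p = 15 ∨ p = 16 := by omega
    rcases this with rfl | rfl | rfl <;> norm_num at hpp
  have hb := (planes_bound D hcard φ hφs hφk x hxz hind (fun i => ⟨g i, hg1 i, hg2 i⟩) 6 (by norm_num) fun k h0 h6 hd => by
    have := Nat.le_of_dvd (by omega) hd
    omega).2 le_rfl
  simp at hb

/-- Let p be an odd prime and G a finite group with a Sylow p-subgroup P that is extraspecial of order p³ and exponent p. Suppose P contains three distinct subgroups A of order p² (each is elementary abelian of rank 2) such that every automorphism of A of order p is induced by conjugation by an element of G; equivalently the automorphism group induced on A by its normalizer contains the special linear group of A. Then p ≤ 13. -/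
theorem result {G : Type*} [Group G] [Finite G]
    {p : ℕ} [Fact p.Prime] (hp : p ≠ 2) (P : Sylow p G) (hE : Cfsg.IsExtraspecial p ↥P)
    (hcard : Nat.card P = p ^ 3) (hexp : Monoid.exponent ↥P = p)
    (A : Fin 3 → Subgroup G) (hA : Function.Injective A) (hAP : ∀ i, A i ≤ (P : Subgroup G))
    (hAcard : ∀ i, Nat.card ↥(A i) = p ^ 2)
    (hSL : ∀ i, ∀ φ : MulAut ↥(A i), orderOf φ = p → ∃ g : G, ∀ a : ↥(A i), (φ a : G) = g * (a : G) * g⁻¹) :
    p ≤ 13 := by
  exact key P hE hcard hexp A hA hAP hAcard hSL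

end Cfsg.Agent.S3054
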