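import Cfsg.Statements.S3055
import Cfsg.Agent.Lib.ExtraFusion.Planes

set_option autoImplicit false
set_option linter.unusedVariables false
open Cfsg
open scoped commutatorElement

namespace Cfsg.Agent.S3055

open CfsgLib.ExtraFusion in
theorem key {G : Type*} [Group G] [Finite G]
    {p : ℕ} [Fact p.Prime] (P : Sylow p G) (hE : Cfsg.IsExtraspecial p ↥P)
    (hcard : Nat.card P = p ^ 3) (hexp : Monoid.exponent ↥P = p)
    (hconj : ∀ x y : ↥P, x ≠ 1 → y ≠ 1 → ∃ g : G, g * (x : G) * g⁻¹ = (y : G)) :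
    p ≤ 7 := by
  by_contra hp7
  have hpp := (Fact.out : p.Prime)
  haveI : NeZero p := ⟨hpp.ne_zero⟩
  obtain ⟨z, D⟩ := exists_ext (P := P) hE hexp
  obtain ⟨φ, hφs, hφk⟩ := exists_phi D hcard
  let vec : Option (ZMod p) → Fin 2 → ZMod p := fun o => o.elim ![0, 1] fun a => ![1, a]
  have hvec : ∀ o, vec o ≠ 0 := by
    rintro (_ | a) h
    · simpa [vec] using congrFun h 1
    · simpa [vec] using congrFun h 0
  have hex : ∀ o, ∃ q : ↥(P : Subgroup G), coord φ q = vec o := fun o => by
    obtain ⟨q, hq⟩ := hφs (Multiplicative.ofAdd (vec o))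
    exact ⟨q, by rw [coord, hq, toAdd_ofAdd]⟩
  choose x hx using hex
  have hxz : ∀ o, ((x o : G)) ∉ Subgroup.zpowers z := fun o h => hvec o (by
    rw [← hx o, coord, (hφk _).2 h, toAdd_one])
  have hg : ∀ o, ∃ g : G, g * z * g⁻¹ = x o ∧ g⁻¹ * z * g ∈ (P : Subgroup G) := by
    intro o
    have hx1 : x o ≠ 1 := fun e => hxz o (by rw [e]; exact one_mem _)
    obtain ⟨h, hh⟩ := hconj ⟨(x o : G), (x o).2⟩ ⟨z, D.zP⟩
      (fun e => hx1 (Subtype.ext (congrArg Subtype.val e :))) (fun e => D.ne (congrArg Subtype.val e :))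
    change h * (x o : G) * h⁻¹ = z at hh
    let C := Subgroup.centralizer ({z} : Set G)
    have hPC : (P : Subgroup G) ≤ C := fun q hq => Subgroup.mem_centralizer_singleton_iff.2 (D.central q hq).eq
    have hw : h * z * h⁻¹ ∈ C := Subgroup.mem_centralizer_singleton_iff.2 (by
      have e := ((D.central _ (x o).2).symm.eq)
      calc h * z * h⁻¹ * z = h * (z * (x o : G)) * h⁻¹ := by rw [← hh]; group
        _ = h * ((x o : G) * z) * h⁻¹ := by rw [e]
        _ = z * (h * z * h⁻¹) := by rw [← hh]; group)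
    obtain ⟨e, he⟩ : ∃ e, e = (⟨h * z * h⁻¹, hw⟩ : C) := ⟨_, rfl⟩
    have hep : IsPGroup p (Subgroup.zpowers e) := by
      refine IsPGroup.of_card (n := 1) ?_
      rw [Nat.card_zpowers, pow_one, ← Subgroup.orderOf_coe, he]
      show orderOf (h * z * h⁻¹) = p
      rw [← MulAut.conj_apply, MulEquiv.orderOf_eq, D.order_z]
    obtain ⟨Q, hQ⟩ := hep.exists_le_sylow
    obtain ⟨c, hc⟩ := MulAction.exists_smul_eq C Q (P.subtype hPC)
    have hmem : c * e * c⁻¹ ∈ (P.subtype hPC : Subgroup C) := by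
      rw [← hc, Sylow.coe_subgroup_smul, Subgroup.mem_pointwise_smul_iff_inv_smul_mem]
      have := hQ (Subgroup.mem_zpowers e)
      simpa [MulAut.smul_def, mul_assoc] using this
    rw [Sylow.coe_subtype, Subgroup.mem_subgroupOf, he] at hmem
    simp only [Subgroup.coe_mul, Subgroup.coe_inv] at hmem
    refine ⟨((c : G) * h)⁻¹, ?_, ?_⟩
    · have hc' : (c : G) * z = z * c := Subgroup.mem_centralizer_singleton_iff.1 c.2
      calc ((c : G) * h)⁻¹ * z * ((c : G) * h)⁻¹⁻¹ = h⁻¹ * (c : G)⁻¹ * (z * c) * h := by group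
        _ = h⁻¹ * z * h := by rw [← hc']; group
        _ = x o := by rw [← hh]; group
    · rwa [show ((c : G) * h)⁻¹⁻¹ * z * ((c : G) * h)⁻¹ = (c : G) * (h * z * h⁻¹) * (c : G)⁻¹ by group]
  have hind : ∀ i j, (∃ a : ZMod p, coord φ (x j) = a • coord φ (x i)) → i = j := by
    rintro (_ | a) (_ | b) ⟨c, hc⟩ <;> simp only [hx] at hc <;> have h0 := congrFun hc 0 <;> have h1 := congrFun hc 1 <;>
      simp [vec] at h0 h1 ⊢
    all_goals first | (exact absurd h1 one_ne_zero) | (simp_all; done) | (rw [← h0] at h1; simpa using h1.symm) | (subst h0; simp at h1)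
  have hcardI : Fintype.card (Option (ZMod p)) = p + 1 := by rw [Fintype.card_option, ZMod.card]
  have hp8 : 11 ≤ p := by
    by_contra h
    have : p ∈ [8, 9, 10] := by simp; omega
    simp only [List.mem_cons, List.not_mem_nil, or_false] at this
    rcases this with rfl | rfl | rfl <;> norm_num at hpp
  by_cases h13 : p = 13
  · have hb := (planes_bound D hcard φ hφs hφk x hxz hind hg 4 le_rfl fun k h0 h4 hd => by
      subst h13; interval_cases k <;> norm_num at hd).1
    rw [hcardI] at hb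
    omega
  · have hb := (planes_bound D hcard φ hφs hφk x hxz hind hg 6 (by norm_num) fun k h0 h6 hd => by
      have hle := Nat.le_of_dvd (by omega) hd
      have : p = 11 ∨ p = 12 ∨ p = 14 ∨ p = 15 ∨ p = 16 := by omega
      rcases this with rfl | rfl | rfl | rfl | rfl <;> first | (interval_cases k <;> norm_num at hd; done) | norm_num at hpp).2 le_rfl
    rw [hcardI] at hb
    omega

/-- Let p be an odd prime and G a finite group with a Sylow p-subgroup P that is extraspecial of order p³ and exponent p. If all nonidentity elements of P are conjugate in G, then p ≤ 7. -/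
theorem result {G : Type*} [Group G] [Finite G]
    {p : ℕ} [Fact p.Prime] (hp : p ≠ 2) (P : Sylow p G) (hE : Cfsg.IsExtraspecial p ↥P)
    (hcard : Nat.card P = p ^ 3) (hexp : Monoid.exponent ↥P = p)
    (hconj : ∀ x y : ↥P, x ≠ 1 → y ≠ 1 → ∃ g : G, g * (x : G) * g⁻¹ = (y : G)) :
    p ≤ 7 := by
  exact key P hE hcard hexp hconj

end Cfsg.Agent.S3055
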