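import Cfsg.Statements.S3056
import Cfsg.Agent.Lib.ChainConnected

set_option autoImplicit false
set_option linter.unusedVariables false
open Cfsg
open scoped commutatorElement

namespace Cfsg.Agent.S3056

/-- Let G be a finite group and p a prime. Join two Sylow p-subgroups when they are distinct and meet nontrivially. This graph on the Sylow p-subgroups is disconnected (the Sylow p-subgroups are not chain-connected through nontrivial intersections) if and only if G has a strongly p-embedded subgroup in the classical sense: a proper subgroup H of order divisible by p such that H ∩ gHg⁻¹ has order prime to p for every g outside H. -/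
theorem result {G : Type*} [Group G] [Finite G]
    (p : ℕ) [Fact p.Prime] :
    ¬ Cfsg.IsSylowChainConnected p G ↔
      ∃ H : Subgroup G, H ≠ ⊤ ∧ p ∣ Nat.card H ∧
        ∀ g : G, g ∉ H → ¬ p ∣ Nat.card ↥(H ⊓ H.map (MulAut.conj g).toMonoidHom) := by
    constructor
    · intro h
      have hdiv : p ∣ Nat.card G := by
        by_contra hd
        refine h fun S T => ⟨0, fun _ => S, rfl, ?_, fun _ => inf_le_left, fun i => i.elim0⟩
        have hbot : ∀ U : Sylow p G, (U : Subgroup G) = ⊥ := fun U => by
          by_contra hU
          exact hd ((CfsgLib.StronglyEmbedded.dvd_card_of_ne_bot U.2 hU).trans (Subgroup.card_subgroup_dvd_card _))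
        exact Sylow.ext ((hbot S).trans (hbot T).symm)
      obtain ⟨H, hH⟩ := CfsgLib.ChainConnected.exists_stronglyEmbedded hdiv h
      exact ⟨H, hH.2.1, CfsgLib.StronglyEmbedded.dvd_card_of hH, fun g hg => CfsgLib.StronglyEmbedded.not_dvd_inter hH hg⟩
    · rintro ⟨H, hne, hp, h⟩
      exact CfsgLib.ChainConnected.not_connected (CfsgLib.StronglyEmbedded.of_inter hne hp h)

end Cfsg.Agent.S3056
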