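import Cfsg.Statements.S3057
import Cfsg.Agent.Lib.ChainConnected
import Cfsg.Agent.Lib.UniqueSubgroup

set_option autoImplicit false
set_option linter.unusedVariables false
open Cfsg
open scoped commutatorElement

namespace Cfsg.Agent.S3057

theorem uniq_cyclic {X : Type*} [Group X] [Finite X] [IsCyclic X] {p : ℕ} [Fact p.Prime] {x z : X} (hx : x ^ p = 1)
    (hz : orderOf z = p) : x ∈ Subgroup.zpowers z := by
  classical
  haveI := Fintype.ofFinite X
  have h1 := IsCyclic.card_pow_eq_one_le (α := X) (Fact.out : p.Prime).pos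
  have h2 : (Finset.univ.filter fun a : X => a ∈ Subgroup.zpowers z) ⊆ Finset.univ.filter fun a : X => a ^ p = 1 := by
    intro a ha
    simp only [Finset.mem_filter, Finset.mem_univ, true_and] at ha ⊢
    obtain ⟨k, rfl⟩ := Subgroup.mem_zpowers_iff.1 ha
    rw [← zpow_natCast, ← zpow_mul, mul_comm, zpow_mul, zpow_natCast, ← hz, pow_orderOf_eq_one, one_zpow]
  have h3 : (Finset.univ.filter fun a : X => a ∈ Subgroup.zpowers z).card = p := by
    rw [← Fintype.card_subtype, ← Nat.card_eq_fintype_card]
    exact (Nat.card_zpowers z).trans hz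
  have h4 := Finset.eq_of_subset_of_card_le h2 (h1.trans h3.ge)
  have h5 : x ∈ Finset.univ.filter fun a : X => a ^ p = 1 := by simp [hx]
  rw [← h4] at h5
  simpa using h5

theorem uniq_quat {n : ℕ} [NeZero n] (x : QuaternionGroup n) (hx : x ^ 2 = 1) :
    x = 1 ∨ x = QuaternionGroup.a (n : ZMod (2 * n)) := by
  cases x with
  | a i =>
    rw [pow_two, QuaternionGroup.a_mul_a, QuaternionGroup.one_def] at hx
    injection hx with h
    have h' : ((2 * i.val : ℕ) : ZMod (2 * n)) = 0 := by
      push_cast
      rw [ZMod.natCast_zmod_val]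
      exact (two_mul i).trans h
    rw [ZMod.natCast_eq_zero_iff] at h'
    obtain ⟨c, hc⟩ := h'
    have hi : i.val = n * c := by nlinarith
    have hlt := ZMod.val_lt i
    have hc2 : c < 2 := by
      by_contra hge
      push Not at hge
      nlinarith [Nat.mul_le_mul_left n hge]
    rcases (by omega : c = 0 ∨ c = 1) with rfl | rfl
    · left
      rw [QuaternionGroup.one_def, ← ZMod.natCast_zmod_val i, hi, mul_zero, Nat.cast_zero]
    · right
      rw [← ZMod.natCast_zmod_val i, hi, mul_one]
  | xa i =>
    rw [QuaternionGroup.xa_sq, QuaternionGroup.one_def] at hx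
    injection hx with h
    rw [ZMod.natCast_eq_zero_iff] at h
    have := Nat.le_of_dvd (Nat.pos_of_ne_zero (NeZero.ne n)) h
    have := Nat.pos_of_ne_zero (NeZero.ne n)
    omega

/-- Let p be a prime and G a finite p-solvable group of order divisible by p, with Sylow p-subgroup P. Then the Sylow p-subgroups of G fail to be chain-connected through nontrivial intersections (equivalently, G has a strongly p-embedded subgroup) if and only if O_p(G) = 1 and P is cyclic or, for p = 2, generalized quaternion. -/
theorem result {G : Type*} [Group G] [Finite G]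
    (p : ℕ) [Fact p.Prime] (hdiv : p ∣ Nat.card G) (hsol : Cfsg.IsPSolvable p G) (P : Sylow p G) :
    ¬ Cfsg.IsSylowChainConnected p G ↔
      Cfsg.pCore p G = ⊥ ∧ (IsCyclic ↥P ∨ (p = 2 ∧ ∃ n : ℕ, Nonempty (↥P ≃* QuaternionGroup (2 ^ n)))) := by
    constructor
    · intro h
      obtain ⟨H, hH⟩ := CfsgLib.ChainConnected.exists_stronglyEmbedded hdiv h
      refine ⟨?_, ?_⟩
      · by_contra hne
        refine h ((CfsgLib.ChainConnected.connected_iff).2 fun S T => Relation.ReflTransGen.single fun e => hne ?_)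
        exact le_bot_iff.1 (e ▸ le_inf (CfsgLib.pCore_le_sylow S) (CfsgLib.pCore_le_sylow T))
      obtain ⟨S, hS⟩ := CfsgLib.StronglyEmbedded.exists_sylow_le hH
      obtain ⟨g, hg⟩ := MulAction.exists_smul_eq G P S
      have hPH : ∀ x : P, g * (x : G) * g⁻¹ ∈ H := fun x => hS (hg ▸ ⟨x, x.2, rfl⟩)
      haveI : Nontrivial P := (Subgroup.nontrivial_iff_ne_bot _).2
        (CfsgLib.StronglyEmbedded.ne_bot_of_dvd (p := p) (P.dvd_card_of_dvd_card hdiv))
      haveI := P.2.center_nontrivial
      obtain ⟨n, hn, hcn⟩ := (P.2.to_subgroup (Subgroup.center (P : Subgroup G))).nontrivial_iff_card.1 this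
      obtain ⟨⟨z, hzc⟩, hz⟩ := exists_prime_orderOf_dvd_card' (G := Subgroup.center (P : Subgroup G)) p (hcn ▸ dvd_pow_self p hn.ne')
      rw [Subgroup.orderOf_mk] at hz
      have huniq : ∀ x : P, x ^ p = 1 → x ∈ Subgroup.zpowers z := by
        intro x hx
        by_cases hx1 : x = 1
        · exact hx1 ▸ Subgroup.one_mem _
        have hc : x * z = z * x := Subgroup.mem_center_iff.1 hzc x
        have hxo : orderOf x = p := orderOf_eq_prime hx hx1
        have := CfsgLib.ChainConnected.unique_of_pSolvable hH hsol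
          (x := g * (z : G) * g⁻¹) (y := g * (x : G) * g⁻¹)
          (by rw [← MulAut.conj_apply, MulEquiv.orderOf_eq, Subgroup.orderOf_coe, hz])
          (by rw [← MulAut.conj_apply, MulEquiv.orderOf_eq, Subgroup.orderOf_coe, hxo])
          (by
            have hc' : (x : G) * z = z * x := congrArg Subtype.val hc
            rw [← MulAut.conj_apply, ← MulAut.conj_apply, ← map_mul, ← map_mul, hc'])
          (hPH z) (hPH x)
        obtain ⟨i, hi⟩ := Subgroup.mem_zpowers_iff.1 this
        refine Subgroup.mem_zpowers_iff.2 ⟨i, Subtype.ext ?_⟩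
        rw [conj_zpow] at hi
        exact mul_left_cancel (mul_right_cancel hi)
      rcases CfsgLib.UniqueSubgroup.cyclic_or_quaternion P.2 hz huniq with hc | ⟨h2, k, -, hk⟩
      · exact Or.inl hc
      · exact Or.inr ⟨h2, k, hk⟩
    · rintro ⟨hO, hrk⟩
      -- only one subgroup of order `p`
      have huniq : ∀ x z : P, x ^ p = 1 → orderOf z = p → x ∈ Subgroup.zpowers z := by
        intro x z hx hz
        rcases hrk with hc | ⟨h2, n, ⟨e⟩⟩
        · haveI := hc
          exact uniq_cyclic hx hz
        · subst h2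
          haveI : NeZero (2 ^ n) := ⟨(Nat.two_pow_pos n).ne'⟩
          have hex : e x ^ 2 = 1 := by rw [← map_pow, hx, map_one]
          have hez : e z ^ 2 = 1 := by rw [← map_pow, orderOf_dvd_iff_pow_eq_one.1 hz.dvd, map_one]
          rcases uniq_quat _ hex with h | h
          · rw [map_eq_one_iff e e.injective] at h
            exact h ▸ Subgroup.one_mem _
          · rcases uniq_quat _ hez with h' | h'
            · rw [map_eq_one_iff e e.injective] at h'
              rw [h', orderOf_one] at hz
              exact absurd hz (by norm_num)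
            · exact e.injective (h.trans h'.symm) ▸ Subgroup.mem_zpowers x
      obtain ⟨z, hzP, hz⟩ := CfsgLib.StronglyEmbedded.exists_orderOf_eq (A := (P : Subgroup G)) (P.dvd_card_of_dvd_card hdiv)
      refine CfsgLib.ChainConnected.not_connected (CfsgLib.StronglyEmbedded.of_inter
        (Y := Subgroup.normalizer (Subgroup.zpowers z : Set G)) ?_ ?_ ?_)
      · intro htop
        haveI := Subgroup.normalizer_eq_top_iff.1 htop
        have := CfsgLib.le_pCore (CfsgLib.StronglyEmbedded.isPGroup_zpowers hz)
        rw [hO, le_bot_iff] at this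
        exact CfsgLib.StronglyEmbedded.zpowers_ne_bot hz this
      · exact CfsgLib.StronglyEmbedded.dvd_card_of_mem (Subgroup.le_normalizer (Subgroup.mem_zpowers z)) hz
      -- any element of order `p` normalizing `⟨z⟩` lies in it
      have key : ∀ y ∈ Subgroup.normalizer (Subgroup.zpowers z : Set G), orderOf y = p → y ∈ Subgroup.zpowers z := by
        intro y hy hyo
        have hp' : IsPGroup p ↥(Subgroup.zpowers y ⊔ Subgroup.zpowers z) :=
          IsPGroup.to_sup_of_normal_right' (CfsgLib.StronglyEmbedded.isPGroup_zpowers hyo)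
            (CfsgLib.StronglyEmbedded.isPGroup_zpowers hz) ((Subgroup.zpowers_le).2 hy)
        obtain ⟨T, hT⟩ := hp'.exists_le_sylow
        obtain ⟨g, hg⟩ := MulAction.exists_smul_eq G T P
        have hy' : g * y * g⁻¹ ∈ (P : Subgroup G) := hg ▸ ⟨y, hT (Subgroup.mem_sup_left (Subgroup.mem_zpowers y)), rfl⟩
        have hz' : g * z * g⁻¹ ∈ (P : Subgroup G) := hg ▸ ⟨z, hT (Subgroup.mem_sup_right (Subgroup.mem_zpowers z)), rfl⟩
        have hyp : (⟨_, hy'⟩ : P) ^ p = 1 := Subtype.ext (by
          show (g * y * g⁻¹) ^ p = 1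
          rw [conj_pow, ← hyo, pow_orderOf_eq_one, mul_one, mul_inv_cancel])
        have := huniq ⟨_, hy'⟩ ⟨_, hz'⟩ hyp (by rw [Subgroup.orderOf_mk, ← MulAut.conj_apply, MulEquiv.orderOf_eq, hz])
        obtain ⟨i, hi⟩ := Subgroup.mem_zpowers_iff.1 this
        have hi' : (g * z * g⁻¹) ^ i = g * y * g⁻¹ := congrArg Subtype.val hi
        rw [conj_zpow] at hi'
        exact Subgroup.mem_zpowers_iff.2 ⟨i, mul_left_cancel (mul_right_cancel hi')⟩
      intro g hg hd
      obtain ⟨y, ⟨hy1, hy2⟩, hyo⟩ := CfsgLib.StronglyEmbedded.exists_orderOf_eq hd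
      have h1 := key y hy1 hyo
      have hy2' : g⁻¹ * y * g ∈ Subgroup.normalizer (Subgroup.zpowers z : Set G) := CfsgLib.Local.mem_map_conj.1 hy2
      have hyo' : orderOf (g⁻¹ * y * g) = p := by
        rw [show g⁻¹ * y * g = MulAut.conj g⁻¹ y by simp [MulAut.conj_apply], MulEquiv.orderOf_eq, hyo]
      have h2 := key _ hy2' hyo'
      have hzy : Subgroup.zpowers y = Subgroup.zpowers z := Subgroup.eq_of_le_of_card_ge ((Subgroup.zpowers_le).2 h1)
        (by rw [Nat.card_zpowers, Nat.card_zpowers, hz, hyo])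
      refine hg (inv_inv g ▸ Subgroup.inv_mem _ ?_)
      refine CfsgLib.Local.mem_normalizer_of_map_conj_eq (Subgroup.eq_of_le_of_card_ge ?_ ?_)
      · rw [← hzy, MonoidHom.map_zpowers, Subgroup.zpowers_le, hzy]
        simpa [MulAut.conj_apply] using h2
      · exact (Subgroup.card_map_of_injective (MulEquiv.injective _)).ge

end Cfsg.Agent.S3057
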