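import Cfsg.Statements.S3060
import Cfsg.Agent.Lib.DStar
import Cfsg.Agent.Lib.Basic
import Cfsg.Agent.Lib.Local

set_option autoImplicit false
set_option linter.unusedVariables false
open Cfsg
open scoped commutatorElement

namespace Cfsg.Agent.S3060

open CfsgLib in
theorem key {G : Type*} [Group G] [Finite G] {p : ℕ} [Fact p.Prime]
    (hc : Subgroup.centralizer (Cfsg.pCore p G : Set G) ≤ Cfsg.pCore p G)
    (hst : ∀ (P : Subgroup G) [P.Normal], IsPGroup p P → Cfsg.IsPStableOn p P) (S : Sylow p G) :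
    (Cfsg.dStarOf (S : Subgroup G)).Normal := by
  set D := Cfsg.dStarOf (S : Subgroup G) with hDdef
  have hS := S.2
  have hdS : D ≤ (S : Subgroup G) := Subgroup.map_subtype_le _
  have hDc : ∀ a ∈ D, ∀ b ∈ D, a * b = b * a := by
    rintro _ ⟨a, ha, rfl⟩ _ ⟨b, hb, rfl⟩
    exact congrArg Subtype.val (DStar.isMulCommutative_iff.1 (DStar.dStar_mem hS).1 a ha b hb)
  have hDn : (S : Subgroup G) ≤ Subgroup.normalizer (D : Set G) := fun s hs => by
    haveI := DStar.dStar_normal hS
    refine DStar.normalizer_mem_conj ?_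
    rintro _ ⟨a, ha, rfl⟩
    exact ⟨⟨s, hs⟩ * a * ⟨s, hs⟩⁻¹, (inferInstance : (Cfsg.dStar (S : Subgroup G)).Normal).conj_mem a ha _, rfl⟩
  have toS : ∀ A : Subgroup G, A ≤ (S : Subgroup G) → ∀ x : (S : Subgroup G),
      ((A.subgroupOf S) ⊔ Subgroup.zpowers x).map (S : Subgroup G).subtype = A ⊔ Subgroup.zpowers (x : G) := by
    intro A hA x
    rw [Subgroup.map_sup, MonoidHom.map_zpowers, Subgroup.map_subgroupOf_eq_of_le hA]
    rfl
  have hDdef' : D.subgroupOf S = Cfsg.dStar (S : Subgroup G) :=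
    Subgroup.comap_map_eq_self_of_injective (S : Subgroup G).subtype_injective _
  have hDx : ∀ x ∈ (S : Subgroup G),
      ⁅⁅D ⊔ Subgroup.zpowers x, D ⊔ Subgroup.zpowers x⁆, D ⊔ Subgroup.zpowers x⁆ = ⊥ → ∀ d ∈ D, d * x = x * d := by
    intro x hx hcl d hd
    have hcl' : ⁅⁅Cfsg.dStar (S : Subgroup G) ⊔ Subgroup.zpowers ⟨x, hx⟩, Cfsg.dStar (S : Subgroup G) ⊔ Subgroup.zpowers ⟨x, hx⟩⁆,
        Cfsg.dStar (S : Subgroup G) ⊔ Subgroup.zpowers ⟨x, hx⟩⁆ = ⊥ := by
      rw [← Subgroup.map_eq_bot_iff_of_injective _ (S : Subgroup G).subtype_injective, Subgroup.map_commutator,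
        Subgroup.map_commutator, ← hDdef', toS D hdS]
      exact hcl
    obtain ⟨a, ha, rfl⟩ := hd
    exact congrArg Subtype.val ((DStar.dStar_mem hS).2 ⟨x, hx⟩ hcl' a ha)
  -- the preimage of the core of the automizer
  have core : ∀ (P : Subgroup G) [P.Normal] (a : G),
      (QuotientGroup.mk a : G ⧸ Subgroup.centralizer (P : Set G)) ∈ Cfsg.pCore p (G ⧸ Subgroup.centralizer (P : Set G)) →
      a ∈ (Cfsg.pCore p (G ⧸ Subgroup.centralizer (P : Set G))).comap (QuotientGroup.mk' _) := fun _ _ _ h => h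
  have hsup : ∀ (C : Subgroup G) [C.Normal],
      (Cfsg.pCore p (G ⧸ C)).comap (QuotientGroup.mk' C) ≤ C ⊔ (S : Subgroup G) := by
    intro C _ r hr
    have := pCore_le_sylow (S.mapSurjective (QuotientGroup.mk'_surjective C)) hr
    rw [Sylow.coe_mapSurjective] at this
    obtain ⟨s, hs, e⟩ := this
    have h1 : r * s⁻¹ ∈ C := (QuotientGroup.eq_one_iff _).1 (show QuotientGroup.mk' C (r * s⁻¹) = 1 by
      rw [map_mul, map_inv, e, mul_inv_cancel])
    simpa using (C ⊔ (S : Subgroup G)).mul_mem (Subgroup.mem_sup_left h1) (Subgroup.mem_sup_right hs)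
  set Q := Cfsg.pCore p G
  have hQS : Q ≤ (S : Subgroup G) := pCore_le_sylow S
  have hDQ : D ≤ Q := by
    intro a ha
    have hquad : ⁅⁅Q, Subgroup.zpowers a⁆, Subgroup.zpowers a⁆ = ⊥ := by
      have hza : Subgroup.zpowers a ≤ D := (Subgroup.zpowers_le).2 ha
      refine le_bot_iff.1 ((Subgroup.commutator_mono (K₁ := D) ?_ hza).trans (le_of_eq ?_))
      · refine Subgroup.commutator_le.2 fun q hq z hz => ?_
        rw [commutatorElement_def]
        exact D.mul_mem ((Subgroup.mem_normalizer_iff.1 (hDn (hQS hq)) z).1 (hza hz)) (D.inv_mem (hza hz))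
      · exact Subgroup.commutator_eq_bot_iff_le_centralizer.2 fun z hz y hy => hDc y hy z hz
    have h1 := core Q a (hst Q (isPGroup_pCore p) a hquad)
    set R := (Cfsg.pCore p (G ⧸ Subgroup.centralizer (Q : Set G))).comap (QuotientGroup.mk' _)
    have hR : R ≤ (S : Subgroup G) := (hsup _).trans (sup_le (hc.trans hQS) le_rfl)
    exact le_pCore (N := R) (hS.to_le hR) h1
  set B := Subgroup.normalClosure (D : Set G)
  have hBQ : B ≤ Q := Subgroup.normalClosure_le_normal hDQ
  -- the normal closure is abelian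
  have hconj : ∀ g : G, ∀ x ∈ Q, ⁅⁅D.map (MulAut.conj g).toMonoidHom ⊔ Subgroup.zpowers x, D.map (MulAut.conj g).toMonoidHom ⊔ Subgroup.zpowers x⁆,
      D.map (MulAut.conj g).toMonoidHom ⊔ Subgroup.zpowers x⁆ = ⊥ → ∀ d ∈ D, (g * d * g⁻¹) * x = x * (g * d * g⁻¹) := by
    intro g x hx hcl d hd
    have hx' : g⁻¹ * x * g ∈ (S : Subgroup G) := hQS (by simpa using (inferInstance : Q.Normal).conj_mem x hx g⁻¹)
    have e : (D ⊔ Subgroup.zpowers (g⁻¹ * x * g)).map (MulAut.conj g).toMonoidHom =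
        D.map (MulAut.conj g).toMonoidHom ⊔ Subgroup.zpowers x := by
      rw [Subgroup.map_sup, MonoidHom.map_zpowers]
      simp [MulAut.conj_apply, mul_assoc]
    rw [← e, ← Subgroup.map_commutator, ← Subgroup.map_commutator,
      Subgroup.map_eq_bot_iff_of_injective _ (MulAut.conj g).injective] at hcl
    have h2 := hDx _ hx' hcl d hd
    calc g * d * g⁻¹ * x = g * (d * (g⁻¹ * x * g)) * g⁻¹ := by group
      _ = g * ((g⁻¹ * x * g) * d) * g⁻¹ := by rw [h2]
      _ = _ := by group
  have hQp : IsPGroup p Q := isPGroup_pCore p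
  set E := (Cfsg.dStar Q).map Q.subtype
  have hBE : B ≤ E := by
    refine (Subgroup.closure_le _).2 fun y hy => ?_
    obtain ⟨d, hd, hdy⟩ := Group.mem_conjugatesOfSet_iff.1 hy
    obtain ⟨g, rfl⟩ := isConj_iff.1 hdy
    have hsub : D.map (MulAut.conj g).toMonoidHom ≤ Q := by
      rintro _ ⟨a, ha, rfl⟩
      exact (inferInstance : Q.Normal).conj_mem a (hDQ ha) g
    have hfam : (D.map (MulAut.conj g).toMonoidHom).subgroupOf Q ∈ Cfsg.dStarFamily Q := by
      refine ⟨DStar.isMulCommutative_iff.2 fun a ha b hb => Subtype.ext ?_, fun x hcl a ha => Subtype.ext ?_⟩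
      · obtain ⟨a', ha', ea⟩ := ha
        obtain ⟨b', hb', eb⟩ := hb
        show (a : G) * b = b * a
        rw [show (a : G) = MulAut.conj g a' from ea.symm, show (b : G) = MulAut.conj g b' from eb.symm,
          ← map_mul, ← map_mul, hDc a' ha' b' hb']
      · obtain ⟨a', ha', ea⟩ := ha
        have hcl' := congrArg (Subgroup.map Q.subtype) hcl
        rw [Subgroup.map_commutator, Subgroup.map_commutator, Subgroup.map_bot, Subgroup.map_sup,
          MonoidHom.map_zpowers, Subgroup.map_subgroupOf_eq_of_le hsub] at hcl'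
        have := hconj g x x.2 hcl' a' ha'
        show (a : G) * x = x * a
        rw [show (a : G) = MulAut.conj g a' from ea.symm]
        exact this
    exact ⟨⟨_, hsub ⟨d, hd, rfl⟩⟩, (le_sSup hfam : _ ≤ Cfsg.dStar Q) ⟨d, hd, rfl⟩, rfl⟩
  have hBc : ∀ a ∈ B, ∀ b ∈ B, a * b = b * a := by
    intro a ha b hb
    obtain ⟨a', ha', rfl⟩ := hBE ha
    obtain ⟨b', hb', rfl⟩ := hBE hb
    exact congrArg Subtype.val (DStar.isMulCommutative_iff.1 (DStar.dStar_mem hQp).1 a' ha' b' hb')
  -- the closure is a member for `S`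
  have hfamB : B.subgroupOf S ∈ Cfsg.dStarFamily (S : Subgroup G) := by
    have hBS : B ≤ (S : Subgroup G) := hBQ.trans hQS
    refine ⟨DStar.isMulCommutative_iff.2 fun a ha b hb => Subtype.ext (hBc a ha b hb), fun x hcl a ha => Subtype.ext ?_⟩
    have hcl' := congrArg (Subgroup.map (S : Subgroup G).subtype) hcl
    rw [Subgroup.map_commutator, Subgroup.map_commutator, Subgroup.map_bot, toS B hBS] at hcl'
    set C := Subgroup.centralizer (B : Set G)
    set R := (Cfsg.pCore p (G ⧸ C)).comap (QuotientGroup.mk' C)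
    -- elements of `S` of class two with `B` lie in `R`
    have inR : ∀ y : G, ⁅⁅B ⊔ Subgroup.zpowers y, B ⊔ Subgroup.zpowers y⁆, B ⊔ Subgroup.zpowers y⁆ = ⊥ → y ∈ R := by
      intro y hy
      refine core B y (hst B (hQp.to_le hBQ) y (le_bot_iff.1 (le_trans ?_ hy.le)))
      exact Subgroup.commutator_mono (Subgroup.commutator_mono le_sup_left le_sup_right) le_sup_right
    have hR : R ≤ C ⊔ (R ⊓ (S : Subgroup G)) := by
      intro r hr
      obtain ⟨c, hc', s, hs, rfl⟩ := Subgroup.mem_sup_of_normal_left.1 (hsup C hr)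
      have hcR : c ∈ R := by
        show QuotientGroup.mk' C c ∈ Cfsg.pCore p (G ⧸ C)
        rw [show QuotientGroup.mk' C c = 1 from (QuotientGroup.eq_one_iff c).2 hc']
        exact Subgroup.one_mem _
      refine Subgroup.mul_mem _ (Subgroup.mem_sup_left hc') (Subgroup.mem_sup_right ⟨?_, hs⟩)
      simpa using R.mul_mem (R.inv_mem hcR) hr
    haveI : R.Normal := inferInstance
    obtain ⟨T₀⟩ : Nonempty (Sylow p R) := inferInstance
    obtain ⟨S₁, hS₁⟩ := (T₀.2.map R.subtype).exists_le_sylow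
    obtain ⟨g, hg⟩ := MulAction.exists_smul_eq G S₁ S
    let φ : R →* R := (MulAut.conjNormal g : MulAut R).toMonoidHom
    have hT : Nat.card ((T₀ : Subgroup R).map φ) = p ^ (Nat.card R).factorization p := by
      rw [Subgroup.card_map_of_injective (MulEquiv.injective _), T₀.card_eq_multiplicity]
    set T := Sylow.ofCard _ hT
    have hTle : (T : Subgroup R) ≤ (S : Subgroup G).subgroupOf R := by
      rintro _ ⟨t, ht, rfl⟩
      show (MulAut.conjNormal g t : R).1 ∈ (S : Subgroup G)
      rw [MulAut.conjNormal_apply, ← hg]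
      exact ⟨(t : G), hS₁ ⟨t, ht, rfl⟩, rfl⟩
    have hTeq : (S : Subgroup G).subgroupOf R = (T : Subgroup R) :=
      T.3 (hS.comap_of_injective R.subtype R.subtype_injective) hTle
    have hTmap : (T : Subgroup R).map R.subtype = R ⊓ (S : Subgroup G) := by
      rw [← hTeq]
      ext z
      constructor
      · rintro ⟨w, hw, rfl⟩; exact ⟨w.2, hw⟩
      · rintro ⟨hzR, hzS⟩; exact ⟨⟨z, hzR⟩, hzS, rfl⟩
    have hfrat := Sylow.normalizer_sup_eq_top T
    rw [hTmap] at hfrat
    set N := Subgroup.normalizer ((R ⊓ (S : Subgroup G) : Subgroup G) : Set G)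
    have hCN : C ⊔ N = ⊤ := top_le_iff.1 (hfrat.ge.trans (sup_le le_sup_right
      (hR.trans (sup_le le_sup_left (Subgroup.le_normalizer.trans le_sup_right)))))
    -- `x` centralises every conjugate of `D`
    suffices B ≤ Subgroup.centralizer ({(x : G)} : Set G) from
      Subgroup.mem_centralizer_singleton_iff.1 (this ha)
    refine (Subgroup.closure_le _).2 fun y hy => ?_
    obtain ⟨d, hd, hdy⟩ := Group.mem_conjugatesOfSet_iff.1 hy
    obtain ⟨g', rfl⟩ := isConj_iff.1 hdy
    obtain ⟨c, hc', n, hn, rfl⟩ := Subgroup.mem_sup_of_normal_left.1 (hCN.ge (Subgroup.mem_top g'))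
    have hxT : n⁻¹ * (x : G) * n ∈ R ⊓ (S : Subgroup G) :=
      (Subgroup.mem_normalizer_iff''.1 hn _).1 ⟨inR _ hcl', x.2⟩
    have hn' : n * d * n⁻¹ ∈ B := Subgroup.normalClosure_normal.conj_mem d (Subgroup.subset_normalClosure hd) n
    have e1 : c * n * d * (c * n)⁻¹ = n * d * n⁻¹ := by
      calc c * n * d * (c * n)⁻¹ = c * (n * d * n⁻¹) * c⁻¹ := by group
        _ = (n * d * n⁻¹) * c * c⁻¹ := by rw [hc' _ hn']
        _ = _ := by group
    refine Subgroup.mem_centralizer_singleton_iff.2 ?_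
    rw [e1]
    have hclx : ⁅⁅D ⊔ Subgroup.zpowers (n⁻¹ * (x : G) * n), D ⊔ Subgroup.zpowers (n⁻¹ * (x : G) * n)⁆,
        D ⊔ Subgroup.zpowers (n⁻¹ * (x : G) * n)⁆ = ⊥ := by
      have hle : D ⊔ Subgroup.zpowers (n⁻¹ * (x : G) * n) ≤ (B ⊔ Subgroup.zpowers (x : G)).map (MulAut.conj n⁻¹).toMonoidHom := by
        refine sup_le (fun d' hd' => ⟨n * d' * n⁻¹, Subgroup.mem_sup_left
          (Subgroup.normalClosure_normal.conj_mem d' (Subgroup.subset_normalClosure hd') n), by
            simp [MulAut.conj_apply, mul_assoc]⟩) ((Subgroup.zpowers_le).2 ⟨x, Subgroup.mem_sup_right (Subgroup.mem_zpowers _), by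
            simp [MulAut.conj_apply]⟩)
      refine le_bot_iff.1 ((Subgroup.commutator_mono (Subgroup.commutator_mono hle hle) hle).trans (le_of_eq ?_))
      rw [← Subgroup.map_commutator, ← Subgroup.map_commutator, hcl', Subgroup.map_bot]
    have h2 := hDx _ hxT.2 hclx d hd
    calc n * d * n⁻¹ * x = n * (d * (n⁻¹ * x * n)) * n⁻¹ := by group
      _ = n * ((n⁻¹ * x * n) * d) * n⁻¹ := by rw [h2]
      _ = _ := by group
  have hBD : B ≤ D := by
    intro b hb
    exact ⟨⟨b, hQS (hBQ hb)⟩, (le_sSup hfamB : _ ≤ Cfsg.dStar (S : Subgroup G)) hb, rfl⟩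
  rw [show D = B from le_antisymm Subgroup.le_normalClosure hBD]
  exact Subgroup.normalClosure_normal

/-- The D*-Theorem. For a finite p-group S let D*(S) be the subgroup generated by the abelian subgroups A of S such that every x ∈ S with ⟨A, x⟩ of nilpotency class at most two centralizes A. Let p be an odd prime and H a finite p-stable group with Sylow p-subgroup S. Here H is p-stable in the following sense: the largest normal p-subgroup O_p(H) contains its centralizer in H, and for every normal p-subgroup P of H, every element acting quadratically on P has image in O_p(H/C_H(P)). Then D*(S) is a normal subgroup of H. -/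
theorem result {G : Type*} [Group G] [Finite G] {p : ℕ} [Fact p.Prime] (hp : p ≠ 2)
    (hc : Subgroup.centralizer (Cfsg.pCore p G : Set G) ≤ Cfsg.pCore p G)
    (hst : ∀ (P : Subgroup G) [P.Normal], IsPGroup p P → Cfsg.IsPStableOn p P) (S : Sylow p G) :
    (Cfsg.dStarOf (S : Subgroup G)).Normal := by
    exact key hc hst S

end Cfsg.Agent.S3060
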