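import Cfsg.Statements.S3064
import Cfsg.Agent.Lib.Frobenius.Kernel
-- import your own Cfsg.Agent.* helpers here

set_option autoImplicit false
open Cfsg

namespace Cfsg.Agent.S3064

theorem uniq_in_sylow {G : Type*} [Group G] [Finite G] {p : ℕ} [Fact p.Prime] (S : Sylow p G)
    (x : G) (hx : x ∈ S) (hU : ∀ g : G, g⁻¹ * x * g ∈ S → g⁻¹ * x * g = x)
    (T : Sylow p G) (hxT : x ∈ T) (g : G) (hg : g⁻¹ * x * g ∈ T) : g⁻¹ * x * g = x := by
  obtain ⟨t, rfl⟩ := MulAction.exists_smul_eq G S T
  have key : ∀ y : G, y ∈ (t • S : Sylow p G) → t⁻¹ * y * t ∈ S := by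
    intro y hy
    have hy' : y ∈ ((t • S : Sylow p G) : Subgroup G) := hy
    rw [Sylow.smul_def] at hy'
    rcases hy' with ⟨s, hs, rfl⟩
    simpa [mul_assoc] using hs
  have h1 := hU t (key x hxT)
  have h2 := hU (g * t) (by simpa [mul_assoc] using key _ hg)
  calc g⁻¹ * x * g = t * ((g * t)⁻¹ * x * (g * t)) * t⁻¹ := by group
    _ = t * x * t⁻¹ := by rw [h2]
    _ = t * (t⁻¹ * x * t) * t⁻¹ := by rw [h1]
    _ = x := by group

theorem central_aux.{v} (n : ℕ) : ∀ (G : Type v) [Group G] [Finite G], Nat.card G = n →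
    ∀ {p : ℕ} [Fact p.Prime] (S : Sylow p G) (x : G), x ∈ S →
    (∀ g : G, g⁻¹ * x * g ∈ S → g⁻¹ * x * g = x) →
    (∀ H : Subgroup G, (Nat.card H).Coprime p →
      (∀ h ∈ H, x * h * x⁻¹ ∈ H) → ∀ h ∈ H, x * h = h * x) → x ∈ Subgroup.center G := by
  induction n using Nat.strong_induction_on with
  | _ n ih =>
  intro G _ _ hn p hp S x hx hU hb
  by_contra hxZ
  set M : Subgroup G := Subgroup.centralizer {x} with hMdef
  have hMmem : ∀ y, y ∈ M ↔ y * x = x * y := fun y => Subgroup.mem_centralizer_singleton_iff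
  -- proper subgroups containing x centralise x
  have hprop : ∀ H : Subgroup G, x ∈ H → H ≠ ⊤ → ∀ h ∈ H, h * x = x * h := by
    intro H hxH hH h hh
    have hlt : Nat.card H < n := by
      rcases lt_or_eq_of_le (Subgroup.card_le_card_group H) with h' | h'
      · omega
      · exact absurd ((Subgroup.card_eq_iff_eq_top H).mp h') hH
    have hpx : IsPGroup p (Subgroup.zpowers (⟨x, hxH⟩ : H)) := by
      intro y
      obtain ⟨k, hk⟩ := S.2 ⟨x, hx⟩
      have hk' : x ^ p ^ k = 1 := by simpa using congrArg Subtype.val hk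
      obtain ⟨m, hm⟩ := Subgroup.mem_zpowers_iff.mp y.2
      refine ⟨k, ?_⟩
      apply Subtype.ext
      apply Subtype.ext
      have : (((y : H) : G)) = x ^ m := by rw [← hm]; simp
      show ((y : H) : G) ^ p ^ k = 1
      rw [this, ← zpow_natCast, ← zpow_mul, mul_comm m, zpow_mul, zpow_natCast, hk', one_zpow]
    obtain ⟨T, hT⟩ := hpx.exists_le_sylow
    obtain ⟨T', hT'⟩ := (T.2.map H.subtype).exists_le_sylow
    have hxT : (⟨x, hxH⟩ : H) ∈ T := hT (Subgroup.mem_zpowers _)
    have hxT' : x ∈ T' := hT' ⟨_, hxT, rfl⟩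
    have hxc := ih _ hlt H rfl T ⟨x, hxH⟩ hxT
      (fun g hg => Subtype.ext (uniq_in_sylow S x hx hU T' hxT' g.1
        (show _ ∈ (T' : Subgroup G) from hT' (Subgroup.mem_map_of_mem H.subtype hg))))
      (fun L hL hn' l hl => by
        apply Subtype.ext
        refine hb (L.map H.subtype) ?_ ?_ l.1 ⟨l, hl, rfl⟩
        · rwa [Subgroup.card_map_of_injective H.subtype_injective]
        · rintro _ ⟨l', hl', rfl⟩
          exact ⟨_, hn' l' hl', by simp⟩)
    exact congrArg Subtype.val (Subgroup.mem_center_iff.mp hxc ⟨h, hh⟩)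
  have hMtop : M ≠ ⊤ := fun e => hxZ (Subgroup.mem_center_iff.mpr fun g =>
    (hMmem g).mp (e ▸ Subgroup.mem_top g))
  -- intersections with other conjugates are central
  have hTI : ∀ g : G, g ∉ M → ∀ y : G, y ∈ M → g⁻¹ * y * g ∈ M → y ∈ Subgroup.center G := by
    intro g hg y hy hy'
    set x' := g * x * g⁻¹ with hx'
    have hgen : Subgroup.closure {x, x'} = ⊤ := by
      by_contra hne
      have h1 := hprop _ (Subgroup.subset_closure (by simp)) hne x'
        (Subgroup.subset_closure (by simp))
      -- the two commuting elements lie in one Sylow subgroup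
      obtain ⟨k, hk⟩ := S.2 ⟨x, hx⟩
      have hk' : x ^ p ^ k = 1 := by simpa using congrArg Subtype.val hk
      have hcl : IsPGroup p (Subgroup.closure {x, x'}) := by
        have : IsMulCommutative (Subgroup.closure {x, x'}) :=
          Subgroup.isMulCommutative_closure (by
            rintro a (rfl | rfl) b (rfl | rfl)
            · rfl
            · exact h1.symm
            · exact h1
            · rfl)
        intro z
        refine ⟨k, ?_⟩
        have hz : (z : G) ∈ Subgroup.closure {x, x'} := z.2
        apply Subtype.ext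
        have : ∀ w, ∀ hw : w ∈ Subgroup.closure {x, x'}, w ^ p ^ k = 1 := by
          intro w hw
          induction hw using Subgroup.closure_induction with
          | mem a ha =>
            rcases ha with rfl | rfl
            · exact hk'
            · rw [hx', conj_pow, hk']; group
          | one => simp
          | mul a b ha hb iha ihb =>
            have hc : Commute a b := congrArg Subtype.val
              (mul_comm' (⟨a, ha⟩ : Subgroup.closure {x, x'}) ⟨b, hb⟩)
            rw [hc.mul_pow, iha, ihb, one_mul]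
          | inv a ha iha => rw [inv_pow, iha, inv_one]
        simpa using this _ hz
      obtain ⟨T, hT⟩ := hcl.exists_le_sylow
      have h2 := uniq_in_sylow S x hx hU T (hT (Subgroup.subset_closure (by simp))) g⁻¹
        (by show _ ∈ (T : Subgroup G); simpa [hx'] using hT (Subgroup.subset_closure (show x' ∈ ({x, x'} : Set G) by simp)))
      rw [inv_inv] at h2
      exact hg ((hMmem g).mpr (by
        calc g * x = (g * x * g⁻¹) * g := by group
          _ = x * g := by rw [h2]))
    have hc : Subgroup.closure {x, x'} ≤ Subgroup.centralizer {y} := by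
      rw [Subgroup.closure_le]
      rintro a (rfl | rfl)
      · exact Subgroup.mem_centralizer_singleton_iff.mpr ((hMmem y).mp hy).symm
      · refine Subgroup.mem_centralizer_singleton_iff.mpr ?_
        have e := (hMmem _).mp hy'
        calc g * x * g⁻¹ * y = g * (x * (g⁻¹ * y * g)) * g⁻¹ := by group
          _ = g * ((g⁻¹ * y * g) * x) * g⁻¹ := by rw [e]
          _ = y * (g * x * g⁻¹) := by group
    rw [hgen] at hc
    exact Subgroup.mem_center_iff.mpr fun z =>
      Subgroup.mem_centralizer_singleton_iff.mp (hc (Subgroup.mem_top z))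
  -- Frobenius in the quotient by the centre
  let Z := Subgroup.center G
  let π := QuotientGroup.mk' Z
  have hZM : Z ≤ M := fun z hz => (hMmem z).mpr (Subgroup.mem_center_iff.mp hz x).symm
  have hker : π.ker ≤ M := by rwa [QuotientGroup.ker_mk']
  have hcm : (M.map π).comap π = M := Subgroup.comap_map_eq_self hker
  have hxM : x ∈ M := (hMmem x).mpr rfl
  have hF : Cfsg.IsFrobeniusComplement (M.map π) := by
    refine ⟨fun e => hxZ ?_, fun e => hMtop ?_, ?_⟩
    · have : π x ∈ M.map π := Subgroup.mem_map_of_mem π hxM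
      rw [e, Subgroup.mem_bot] at this
      exact (QuotientGroup.eq_one_iff x).mp this
    · rw [e, Subgroup.comap_top] at hcm
      exact hcm.symm
    · intro a ha
      obtain ⟨g, rfl⟩ := QuotientGroup.mk'_surjective Z a
      rw [Subgroup.eq_bot_iff_forall]
      intro b hb
      obtain ⟨hb1, hb2⟩ := Subgroup.mem_inf.mp hb
      obtain ⟨y, rfl⟩ := QuotientGroup.mk'_surjective Z b
      have hg : g ∉ M := fun h => ha (Subgroup.mem_map_of_mem π h)
      have hy : y ∈ M := by rw [← hcm]; exact hb1
      have hy2 : g⁻¹ * y * g ∈ M := by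
        rw [← hcm, Subgroup.mem_comap]
        obtain ⟨c, hc, hce⟩ := hb2
        have : π (g⁻¹ * y * g) = c := by
          have hce' : π g * c * (π g)⁻¹ = π y := hce
          rw [map_mul, map_mul, map_inv, ← hce']; group
        rwa [this]
      exact (QuotientGroup.eq_one_iff y).mpr (hTI g hg y hy hy2)
  obtain ⟨N, -, hNn, hNc⟩ := CfsgLib.Frob.exists_kernel hF
  let K := N.comap π
  have hZK : Z ≤ K := fun z hz => by
    show π z ∈ N
    rw [show π z = 1 from (QuotientGroup.eq_one_iff z).mpr hz]
    exact N.one_mem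
  have hp' : p.Prime := Fact.out
  have hKidx : ¬ p ∣ Z.relIndex K := by
    have h1 : Z.relIndex K = Nat.card N := by
      have h2 := Subgroup.relIndex_comap (⊥ : Subgroup (G ⧸ Z)) π K
      rw [MonoidHom.comap_bot, QuotientGroup.ker_mk',
        Subgroup.map_comap_eq_self_of_surjective (QuotientGroup.mk'_surjective Z),
        Subgroup.relIndex_bot_left] at h2
      exact h2
    have h3 : Nat.card N = (M.map π).index := by
      exact (hNc.index_eq_card).symm
    have h4 : p ∣ Nat.card (M.map π) := by
      obtain ⟨k, hk⟩ := S.2 ⟨x, hx⟩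
      have hk' : x ^ p ^ k = 1 := by simpa using congrArg Subtype.val hk
      have h5 : orderOf (π x) ∣ p ^ k := orderOf_dvd_of_pow_eq_one (by rw [← map_pow, hk', map_one])
      have h6 : orderOf (π x) ≠ 1 := fun e => hxZ ((QuotientGroup.eq_one_iff x).mp (orderOf_eq_one_iff.mp e))
      obtain ⟨i, -, hi⟩ := (Nat.dvd_prime_pow hp').mp h5
      have h7 : p ∣ orderOf (π x) := by
        rw [hi]
        exact dvd_pow_self p (fun e => h6 (by rw [hi, e, pow_zero]))
      have h8 : orderOf (⟨π x, Subgroup.mem_map_of_mem π hxM⟩ : M.map π) ∣ Nat.card (M.map π) :=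
        orderOf_dvd_natCard _
      rw [Subgroup.orderOf_mk] at h8
      exact h7.trans h8
    intro h
    rw [h1, h3] at h
    exact hp'.not_dvd_one (CfsgLib.Frob.coprime_index hF ▸ Nat.dvd_gcd h4 h)
  -- x centralizes a Sylow subgroup of K for every other prime
  have hKM : K ≤ M := by
    rw [← Subgroup.relIndex_eq_one]
    by_contra hne
    obtain ⟨q, hq, hqd⟩ := Nat.exists_prime_and_dvd hne
    have hqp : q ≠ p := by
      rintro rfl
      exact hKidx (hqd.trans (Subgroup.relIndex_dvd_of_le_left K hZM))
    haveI : Fact q.Prime := ⟨hq⟩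
    obtain ⟨Q⟩ := (inferInstance : Nonempty (Sylow q K))
    set L := (Q : Subgroup K).map K.subtype with hL
    have hKn : K.Normal := hNn.comap π
    have hsup := Sylow.normalizer_sup_eq_top (N := K) Q
    rw [← hL] at hsup
    set NL := Subgroup.normalizer (L : Set G) with hNL
    have hidx : NL.index ∣ Z.relIndex K := by
      have h1 : K.relIndex NL = K.index := by
        rw [← Subgroup.relIndex_sup_right, hsup, Subgroup.relIndex_top_right]
      have h2 : (K ⊓ NL).relIndex NL * NL.index = (K ⊓ NL).index :=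
        Subgroup.relIndex_mul_index inf_le_right
      have h3 : (K ⊓ NL).relIndex K * K.index = (K ⊓ NL).index :=
        Subgroup.relIndex_mul_index inf_le_left
      rw [Subgroup.inf_relIndex_right, h1] at h2
      rw [inf_comm, Subgroup.inf_relIndex_right, mul_comm] at h3
      rw [inf_comm, ← h3] at h2
      have h4 : NL.index = NL.relIndex K :=
        Nat.eq_of_mul_eq_mul_left (Nat.pos_of_ne_zero Subgroup.index_ne_zero_of_finite) h2
      rw [h4]
      refine Subgroup.relIndex_dvd_of_le_left K fun z hz => ?_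
      rw [hNL, Subgroup.mem_normalizer_iff]
      intro a
      rw [← Subgroup.mem_center_iff.mp hz a, mul_inv_cancel_right]
    obtain ⟨T⟩ := (inferInstance : Nonempty (Sylow p NL))
    obtain ⟨T', hT'⟩ := (T.2.map NL.subtype).exists_le_sylow
    have hTT : (T : Subgroup NL).map NL.subtype = (T' : Subgroup G) := by
      refine Subgroup.eq_of_le_of_card_ge hT' ?_
      rw [Subgroup.card_map_of_injective NL.subtype_injective, Sylow.card_eq_multiplicity,
        Sylow.card_eq_multiplicity, ← NL.card_mul_index, Nat.factorization_mul Nat.card_pos.ne'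
          Subgroup.index_ne_zero_of_finite]
      simp [Nat.factorization_eq_zero_of_not_dvd (fun h => hKidx (h.trans hidx))]
    obtain ⟨g, hgT⟩ := MulAction.exists_smul_eq G S T'
    have hxg : g * x * g⁻¹ ∈ NL := by
      have : g * x * g⁻¹ ∈ (T' : Subgroup G) := by
        rw [← hgT]
        exact ⟨x, hx, rfl⟩
      rw [← hTT] at this
      obtain ⟨t, -, ht⟩ := this
      rw [← ht]
      exact t.2
    -- the conjugate of L is normalised, hence centralised
    let L' := L.map (MulAut.conj g⁻¹).toMonoidHom
    have hL'K : L' ≤ K := by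
      rintro _ ⟨l, ⟨l0, -, rfl⟩, rfl⟩
      simpa using hKn.conj_mem _ l0.2 g⁻¹
    have hL'card : Nat.card L' = q ^ (Nat.card K).factorization q := by
      rw [Subgroup.card_map_of_injective (f := (MulAut.conj g⁻¹).toMonoidHom) (MulAut.conj g⁻¹).injective,
        hL, Subgroup.card_map_of_injective K.subtype_injective, Sylow.card_eq_multiplicity]
    have hL'M : L' ≤ M := by
      intro l hl
      refine (hMmem l).mpr (hb L' ?_ ?_ l hl).symm
      · rw [hL'card]
        exact Nat.Coprime.pow_left _ ((Nat.coprime_primes hq hp').mpr hqp)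
      · rintro _ ⟨l, hl, rfl⟩
        refine ⟨(g * x * g⁻¹) * l * (g * x * g⁻¹)⁻¹, ?_, ?_⟩
        · exact (Subgroup.mem_normalizer_iff.mp hxg l).mp hl
        · show (g⁻¹) * _ * (g⁻¹)⁻¹ = x * (g⁻¹ * l * g⁻¹⁻¹) * x⁻¹
          group
    have h5 : Nat.card L' ∣ Nat.card (M ⊓ K : Subgroup G) :=
      Subgroup.card_dvd_of_le (le_inf hL'M hL'K)
    have h6 : Nat.card (M ⊓ K : Subgroup G) * M.relIndex K = Nat.card K := by
      rw [← Subgroup.inf_relIndex_right M K, ← Subgroup.relIndex_bot_left (M ⊓ K)]
      rw [Subgroup.relIndex_mul_relIndex _ _ _ bot_le inf_le_right, Subgroup.relIndex_bot_left]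
    have h7 : q ^ ((Nat.card K).factorization q + 1) ∣ Nat.card K := by
      rw [hL'card] at h5
      rw [pow_succ]
      exact (mul_dvd_mul h5 hqd).trans (dvd_of_eq h6)
    exact Nat.pow_succ_factorization_not_dvd Nat.card_pos.ne' hq h7
  apply hMtop
  rw [← hcm, ← Subgroup.comap_top π, ← hNc.sup_eq_top]
  congr 1
  refine le_antisymm le_sup_right (sup_le ?_ le_rfl)
  intro a ha
  obtain ⟨b, rfl⟩ := QuotientGroup.mk'_surjective Z a
  exact Subgroup.mem_map_of_mem π (hKM ha)
/-- Let S be a Sylow p-subgroup of the finite group G and x an element of S such that (i) x is the only G-conjugate of x lying in S, and (ii) x centralizes every subgroup of order prime to p that it normalizes. Then x lies in the centre of G. -/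
theorem result {G : Type*} [Group G] [Finite G] {p : ℕ} [Fact p.Prime]
    (S : Sylow p G) (x : G) (hx : x ∈ S)
    (hU : ∀ g : G, g⁻¹ * x * g ∈ S → g⁻¹ * x * g = x)
    (hb : ∀ H : Subgroup G, (Nat.card H).Coprime p → (∀ h ∈ H, x * h * x⁻¹ ∈ H) → ∀ h ∈ H, x * h = h * x) :
    x ∈ Subgroup.center G := by
  exact central_aux _ G rfl S x hx hU hb

end Cfsg.Agent.S3064
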