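import Cfsg.Statements.S3067
import Cfsg.Agent.Lib.CoprimeInvCent.Main

set_option autoImplicit false
open Cfsg

namespace Cfsg.Agent.S3067

/-- Let G be a finite non-abelian simple group, τ an involution of G, and α a nontrivial automorphism of G whose order is coprime to the order of G. Then α moves some element of the centralizer of τ: α does not fix C_G(τ) elementwise. -/
theorem result {G : Type*} [Group G] [Finite G] [IsSimpleGroup G]
    (hG : ¬ IsMulCommutative G) (τ : G) (hτ : orderOf τ = 2) (α : MulAut G) (hα : α ≠ 1)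
    (hcop : (orderOf α).Coprime (Nat.card G)) :
    ∃ c ∈ Subgroup.centralizer ({τ} : Set G), α c ≠ c := by
  by_contra hno
  push Not at hno
  obtain ⟨q, hq, hqdvd⟩ := Nat.exists_prime_and_dvd fun e : orderOf α = 1 => hα (orderOf_eq_one_iff.mp e)
  haveI : Fact q.Prime := ⟨hq⟩
  haveI : Finite (MulAut G) := Finite.of_injective (fun e : MulAut G => (e : G → G)) DFunLike.coe_injective
  set β := α ^ (orderOf α / q) with hβ
  have hord : orderOf β = q := orderOf_pow_orderOf_div (orderOf_pos α).ne' hqdvd
  have hfix : ∀ c, Commute τ c → β c = c := fun c hc =>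
    CfsgLib.FixGen.fx_pow (x := α) (hno c (Subgroup.mem_centralizer_singleton_iff.mpr hc.symm.eq)) _
  have hle := CfsgLib.CoprimeInvCent.brk_le_oddCore (p := q) (α := β) (hord ▸ pow_orderOf_eq_one β)
    (hcop.symm.coprime_dvd_right hqdvd) hτ hfix
  rcases (inferInstance : (pPrimeCore 2 G).Normal).eq_bot_or_eq_top with hO | hO
  · have hb : β = 1 := MulEquiv.ext fun g => by
      have h1 := hle (CfsgLib.FixGen.mem_brk (x := β) (P := ((⊤ : Subgroup G) : Set G)) (Subgroup.mem_top g) 1)
      rw [hO, Subgroup.mem_bot, pow_one, inv_mul_eq_one] at h1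
      exact h1.symm
    rw [hb, orderOf_one] at hord
    exact hq.ne_one hord.symm
  · have h1 : Odd (Nat.card (pPrimeCore 2 G)) := CfsgLib.odd_card_oddCore
    rw [hO, Subgroup.card_top] at h1
    exact Nat.not_even_iff_odd.mpr h1 (even_iff_two_dvd.mpr (hτ ▸ orderOf_dvd_natCard τ))

end Cfsg.Agent.S3067
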