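import Cfsg.Statements.S3070
import Cfsg.Agent.Lib.ThompsonFive.Criterion

set_option autoImplicit false
open Cfsg

namespace Cfsg.Agent.S3070

/-- Let p ≥ 5 be a prime, S a Sylow p-subgroup of the finite group G and J(S) the subgroup generated by the abelian subgroups of S of largest order. Then G has a normal p-complement if and only if N_G(J(S))/C_G(J(S)) is a p-group (every element of N_G(J(S)) of order prime to p centralizes J(S)). -/
theorem result {G : Type*} [Group G] [Finite G] {p : ℕ} [Fact p.Prime]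
    (hp : 5 ≤ p) (S : Sylow p G) :
    Cfsg.HasNormalPComplement p G ↔
      ∀ g ∈ Subgroup.normalizer (Cfsg.thompsonSubgroupAOf (S : Subgroup G) : Set G), (orderOf g).Coprime p →
        g ∈ Subgroup.centralizer (Cfsg.thompsonSubgroupAOf (S : Subgroup G) : Set G) := by
  rw [← CfsgLib.ZJ.thompsonJ_zero]
  set J := CfsgLib.ZJ.thompsonJ 0 (S : Subgroup G) with hJ
  have hJS : J ≤ (S : Subgroup G) := CfsgLib.ZJ.thompsonJ_le 0 _
  have hJp : IsPGroup p J := S.2.to_le hJS
  constructor
  · intro hG g hg hgc j hj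
    have hgK : g ∈ pPrimeCore p G := by
      obtain ⟨k, hk⟩ := CfsgLib.hasNormalPComplement_iff.1 hG (QuotientGroup.mk g)
      exact CfsgLib.PResidual.mem_of_pow_mem hgc (k := k)
        ((QuotientGroup.eq_one_iff _).1 (by rw [QuotientGroup.mk_pow]; exact hk))
    set d := j * g * j⁻¹ * g⁻¹ with hd
    have h1 : d ∈ pPrimeCore p G :=
      mul_mem ((inferInstance : (pPrimeCore p G).Normal).conj_mem g hgK j) (inv_mem hgK)
    have h2 : d ∈ J := by
      rw [hd, show j * g * j⁻¹ * g⁻¹ = j * (g * j⁻¹ * g⁻¹) by group]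
      exact mul_mem hj ((Subgroup.mem_normalizer_iff.1 hg _).1 (inv_mem hj))
    obtain ⟨k, hk⟩ := hJp.exists_card_eq
    have hdis : Disjoint J (pPrimeCore p G) := Subgroup.disjoint_of_coprime_natCard (by
      rw [hk]; exact ((CfsgLib.card_pPrimeCore_coprime p).pow_right k).symm)
    have h3 : d = 1 := Subgroup.disjoint_def.1 hdis h2 h1
    rw [hd, mul_inv_eq_one, mul_inv_eq_iff_eq_mul] at h3
    exact h3
  · intro h
    refine CfsgLib.ThompsonComplement.hasNormalPComplement_of_normalizerJ hp S ?_
    show HasNormalPComplement p ↥(Subgroup.normalizer (J : Set G))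
    set N := Subgroup.normalizer (J : Set G) with hN
    have hSN : (S : Subgroup G) ≤ N :=
      Subgroup.le_normalizer.trans (CfsgLib.ThompsonComplement.normalizer_le_normalizer_J (e := 0) _)
    set C := (Subgroup.centralizer (J : Set G)).subgroupOf N with hC
    haveI hCn : C.Normal := by
      refine ⟨fun c hc g => Subgroup.mem_subgroupOf.2 fun j hj => ?_⟩
      have h1 := (Subgroup.mem_subgroupOf.1 hc) ((g : G)⁻¹ * j * g) (by
        have := (Subgroup.mem_normalizer_iff.1 (inv_mem g.2) j).1 hj
        simpa using this)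
      show j * ((g : G) * c * (g : G)⁻¹) = (g : G) * c * (g : G)⁻¹ * j
      calc j * ((g : G) * c * (g : G)⁻¹) = g * (((g : G)⁻¹ * j * g) * c) * (g : G)⁻¹ := by group
        _ = g * (c * ((g : G)⁻¹ * j * g)) * (g : G)⁻¹ := by rw [h1]
        _ = _ := by group
    -- the Sylow subgroup meets the centralizer inside `J`
    have hSC : ∀ s ∈ (S : Subgroup G), s ∈ Subgroup.centralizer (J : Set G) → s ∈ J := by
      intro s hs hsC
      obtain ⟨A, hA⟩ := CfsgLib.ZJ.goodMax_nonempty 0 (S : Subgroup G)
      have hAJ : A ≤ J := le_sSup hA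
      set X := Subgroup.closure ((A : Set G) ∪ {s}) with hX
      have hXS : X ≤ (S : Subgroup G) := by
        rw [hX, Subgroup.closure_le]
        rintro x (hx | rfl)
        · exact hA.1 hx
        · exact hs
      have hXg : CfsgLib.ZJ.IsGood 0 X := CfsgLib.ZJ.isGood_closure (by
        rintro x (hx | rfl) y (hy | rfl)
        · exact hA.2.1.1 x hx y hy
        · exact hsC x (hAJ hx)
        · exact (hsC y (hAJ hy)).symm
        · rfl) fun x _ => pow_zero x
      have hle : A ≤ X := fun x hx => Subgroup.subset_closure (Or.inl hx)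
      rw [Subgroup.eq_of_le_of_card_ge hle (hA.2.2 X hXS hXg)] at hAJ
      exact hAJ (Subgroup.subset_closure (Or.inr rfl))
    -- the Sylow subgroups of the centralizer are central
    obtain ⟨R⟩ := (inferInstance : Nonempty (Sylow p C))
    have hRJ : ∀ r ∈ (R : Subgroup C), ((r : N) : G) ∈ J := by
      intro r hr
      obtain ⟨T, hT⟩ := (R.2.map C.subtype).exists_le_sylow
      obtain ⟨g, hg⟩ := MulAction.exists_smul_eq N (S.subtype hSN) T
      have h1 : (r : N) ∈ (T : Subgroup N) := hT ⟨r, hr, rfl⟩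
      rw [← hg, Sylow.coe_subgroup_smul, Subgroup.mem_pointwise_smul_iff_inv_smul_mem,
        MulAut.inv_def, MulAut.smul_def, MulAut.conj_symm_apply, Sylow.coe_subtype,
        Subgroup.mem_subgroupOf] at h1
      have h2 : g⁻¹ * (r : N) * g ∈ C := by simpa using hCn.conj_mem r r.2 g⁻¹
      have h3 := hSC _ h1 (Subgroup.mem_subgroupOf.1 h2)
      have h4 := (Subgroup.mem_normalizer_iff.1 g.2 _).1 h3
      simpa [mul_assoc] using h4
    have hCnpc : HasNormalPComplement p C :=
      CfsgLib.hasNormalPComplement_of_normalizer_le_centralizer R fun y _ r hr =>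
        Subtype.ext (Subtype.ext ((Subgroup.mem_subgroupOf.1 y.2) _ (hRJ r hr)))
    rw [CfsgLib.hasNormalPComplement_iff] at hCnpc ⊢
    intro q
    induction q using QuotientGroup.induction_on with
    | H x => ?_
    obtain ⟨k, hk⟩ := CfsgLib.PResidual.exists_pow_coprime (p := p) x
    have hyC : x ^ p ^ k ∈ C := Subgroup.mem_subgroupOf.2
      (h _ (x ^ p ^ k).2 (by rw [Subgroup.orderOf_coe]; exact hk))
    obtain ⟨l, hl⟩ := hCnpc (QuotientGroup.mk ⟨_, hyC⟩)
    rw [← QuotientGroup.mk_pow, QuotientGroup.eq_one_iff] at hl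
    refine ⟨k + l, ?_⟩
    rw [← QuotientGroup.mk_pow, QuotientGroup.eq_one_iff, pow_add, pow_mul]
    exact CfsgLib.map_pPrimeCore_le p C ⟨_, hl, rfl⟩

end Cfsg.Agent.S3070
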