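import Cfsg.Statements.S3071
import Cfsg.Agent.Lib.StrongFusion.LocalFree

set_option autoImplicit false
set_option linter.unusedVariables false
open Cfsg
open scoped commutatorElement

namespace Cfsg.Agent.S3071

/-- Let p be an odd prime and S a Sylow p-subgroup of the finite group G such that, for every subgroup P with Z(S) ≤ P ≤ S, the normalizer N_G(P) has no section isomorphic to SL₂(p). Let J(S) be the subgroup generated by the abelian subgroups of S of largest order. Then two elements of S are conjugate in G if and only if they are conjugate in N_G(Z(J(S))). -/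
theorem result {G : Type*} [Group G] [Finite G] {p : ℕ} [Fact p.Prime]
    (hp : p ≠ 2) (S : Sylow p G)
    (hfree : ∀ P : Subgroup G, (S : Subgroup G) ⊓ Subgroup.centralizer ((S : Subgroup G) : Set G) ≤ P → P ≤ S →
      ¬ ∃ (H K : Subgroup G) (hK : (K.subgroupOf H).Normal), H ≤ Subgroup.normalizer (P : Set G) ∧
        Nonempty ((H ⧸ K.subgroupOf H) ≃* Matrix.SpecialLinearGroup (Fin 2) (ZMod p))) :
    ∀ x ∈ S, ∀ y ∈ S, (∃ g : G, g * x * g⁻¹ = y) ↔
      ∃ n ∈ Subgroup.normalizer (Cfsg.centerThompsonAOf (S : Subgroup G) : Set G), n * x * n⁻¹ = y := by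
  have hqd : ¬ Cfsg.Involves (Cfsg.qd p) G := fun h => by
    obtain ⟨P, hP1, hP2, hinv⟩ := CfsgLib.StrongFusion.exists_sl2_local S h
    obtain ⟨K, R, hR, ⟨e⟩⟩ := hinv
    obtain ⟨f, hf⟩ := CfsgLib.Quadratic.exists_surjective_map (Subgroup.normalizer (P : Set G)).subtype
      (Subgroup.subtype_injective _) (e.toMonoidHom.comp (QuotientGroup.mk' (R.subgroupOf K)))
      (e.surjective.comp (QuotientGroup.mk'_surjective _))
    obtain ⟨L, hL, hiso⟩ := CfsgLib.Quadratic.exists_section_of_surjective _ f hf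
    exact hfree P hP1 hP2 ⟨_, L, hL, Subgroup.map_subtype_le _, hiso⟩
  intro x hx y hy
  constructor
  · rintro ⟨g, rfl⟩
    obtain ⟨n, hn, he⟩ := (CfsgLib.StrongFusion.controlsOf_zj hp hqd (Or.inl rfl) S
      (D := (S : Subgroup G)) ⟨le_rfl, fun x _ g hg => hg⟩ (A := {x}) (by simpa using hx)).2 g (by simpa using hy)
    rw [CfsgLib.StrongFusion.inducedFunctor_zjA] at hn
    exact ⟨n, hn, (he x rfl).symm⟩
  · rintro ⟨n, -, hn⟩
    exact ⟨n, hn⟩

end Cfsg.Agent.S3071
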