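import Cfsg.Statements.S3072
import Cfsg.Agent.Lib.StrongAlperin.Family

set_option autoImplicit false
set_option linter.unusedVariables false
open Cfsg
open scoped commutatorElement

namespace Cfsg.Agent.S3072

open CfsgLib CfsgLib.StrongFusion CfsgLib.StrongAlperin in
theorem connected_congr {A B : Type*} [Group A] [Group B] [Finite A] [Finite B] {p : ℕ} [Fact p.Prime] (e : A ≃* B)
    (h : Cfsg.IsSylowChainConnected p A) : Cfsg.IsSylowChainConnected p B := by
  intro S T
  obtain ⟨S', rfl⟩ : ∃ S' : Sylow p A, S'.mapSurjective (f := e.toMonoidHom) e.surjective = S :=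
    Sylow.mapSurjective_surjective e.surjective p S
  obtain ⟨T', rfl⟩ : ∃ T' : Sylow p A, T'.mapSurjective (f := e.toMonoidHom) e.surjective = T :=
    Sylow.mapSurjective_surjective e.surjective p T
  obtain ⟨n, c, h0, hn, hle, hstep⟩ := h S' T'
  refine ⟨n, fun i => (c i).mapSurjective (f := e.toMonoidHom) e.surjective, congrArg (fun Q : Sylow p A => Q.mapSurjective (f := e.toMonoidHom) e.surjective) h0,
    congrArg (fun Q : Sylow p A => Q.mapSurjective (f := e.toMonoidHom) e.surjective) hn, fun i => ?_,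
    fun i => ⟨fun he => (hstep i).1 ?_, fun he => (hstep i).2 ?_⟩⟩
  · show (S' : Subgroup A).map e.toMonoidHom ⊓ (T' : Subgroup A).map e.toMonoidHom ≤ (c i : Subgroup A).map e.toMonoidHom
    rw [← Subgroup.map_inf _ _ _ e.injective]
    exact Subgroup.map_mono (hle i)
  · exact Sylow.ext (Subgroup.map_injective (f := e.toMonoidHom) e.injective
      (congrArg (fun Q : Sylow p B => (Q : Subgroup B)) he))
  · change (c i.castSucc : Subgroup A).map e.toMonoidHom ⊓ (c i.succ : Subgroup A).map e.toMonoidHom = ⊥ at he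
    rw [← Subgroup.map_inf _ _ _ e.injective] at he
    exact (Subgroup.map_eq_bot_iff_of_injective _ e.injective).1 he

open CfsgLib CfsgLib.StrongFusion CfsgLib.StrongAlperin in
theorem pPrimePCore_map {A B : Type*} [Group A] [Group B] (p : ℕ) (e : A ≃* B) :
    (Cfsg.pPrimePCore p A).map e.toMonoidHom = Cfsg.pPrimePCore p B := by
  have hO := pPrimeCore_map_equiv p e
  let ē := QuotientGroup.congr (Cfsg.pPrimeCore p A) (Cfsg.pPrimeCore p B) e hO
  rw [Cfsg.pPrimePCore, Cfsg.pPrimePCore, ← pCore_map_equiv p ē]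
  ext b
  constructor
  · rintro ⟨a, ha, rfl⟩
    exact ⟨QuotientGroup.mk a, ha, rfl⟩
  · rintro ⟨x, hx, hxe⟩
    obtain ⟨a, rfl⟩ := QuotientGroup.mk_surjective x
    refine ⟨e.symm b, ?_, by simp⟩
    have : (QuotientGroup.mk (e.symm b) : A ⧸ Cfsg.pPrimeCore p A) = QuotientGroup.mk a := ē.injective (by
      rw [show ē (QuotientGroup.mk a) = QuotientGroup.mk b from hxe]
      show QuotientGroup.mk (e (e.symm b)) = _
      rw [MulEquiv.apply_symm_apply])
    show QuotientGroup.mk (e.symm b) ∈ Cfsg.pCore p _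
    rw [this]; exact hx

open CfsgLib CfsgLib.StrongFusion CfsgLib.StrongAlperin in
theorem ess_transport {G : Type*} [Group G] [Finite G] {p : ℕ} [Fact p.Prime] (P : Sylow p G) {H X : Subgroup G}
    {x y : G} (hy : y ∈ Subgroup.normalizer ((P : Subgroup G) : Set G)) (h : Ess p (P : Subgroup G) H X x) :
    Ess p (P : Subgroup G) (cm y H) (cm y X) (y * x * y⁻¹) := by
  obtain ⟨h1, h2, h3, h4, h5, ⟨h6, h7, h8, h9, h10⟩, h11⟩ := h
  obtain ⟨f, hf⟩ : ∃ f : G →* G, f = (MulAut.conj y).toMonoidHom := ⟨_, rfl⟩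
  have hcm : ∀ A : Subgroup G, cm y A = A.map f := fun A => hf ▸ rfl
  have hinj : Function.Injective f := hf ▸ (MulAut.conj y).injective
  have hP : (P : Subgroup G).map f = (P : Subgroup G) := by
    rw [← hcm]; exact Local.map_conj_eq_of_mem_normalizer hy
  have hN : Subgroup.normalizer ((H.map f : Subgroup G) : Set G) = (Subgroup.normalizer (H : Set G)).map f := by
    rw [hf]; exact (Subgroup.map_equiv_normalizer_eq H (MulAut.conj y)).symm
  have hCc : Subgroup.centralizer ((H.map f : Subgroup G) : Set G) = (Subgroup.centralizer (H : Set G)).map f := by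
    ext c
    constructor
    · intro hc
      refine ⟨y⁻¹ * c * y, Subgroup.mem_centralizer_iff.2 fun v hv => ?_, by simp [hf, mul_assoc]⟩
      have e := Subgroup.mem_centralizer_iff.1 hc (f v) (Subgroup.mem_map_of_mem f hv)
      rw [hf] at e
      change y * v * y⁻¹ * c = c * (y * v * y⁻¹) at e
      calc v * (y⁻¹ * c * y) = y⁻¹ * (y * v * y⁻¹ * c) * y := by group
        _ = _ := by rw [e]; group
    · rintro ⟨c, hc, rfl⟩
      refine Subgroup.mem_centralizer_iff.2 ?_
      rintro _ ⟨v, hv, rfl⟩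
      rw [← map_mul, Subgroup.mem_centralizer_iff.1 hc v hv, map_mul]
  rw [hcm, hcm]
  let N := Subgroup.normalizer (H : Set G)
  let N' := Subgroup.normalizer ((H.map f : Subgroup G) : Set G)
  let ε : ↥N ≃* ↥N' := (N.equivMapOfInjective f hinj).trans (MulEquiv.subgroupCongr hN.symm)
  have hε : ∀ a : ↥N, (ε a : G) = f a := fun a => rfl
  have hεsub : ∀ A : Subgroup G, A ≤ N → (A.subgroupOf N).map ε.toMonoidHom = (A.map f).subgroupOf N' := by
    intro A hA
    ext b
    constructor
    · rintro ⟨a, ha, rfl⟩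
      exact ⟨(a : G), ha, rfl⟩
    · rintro ⟨a, ha, hab⟩
      exact ⟨⟨a, hA ha⟩, ha, Subtype.ext hab⟩
  have hHN : H ≤ N := Subgroup.le_normalizer
  refine ⟨hP ▸ Subgroup.map_mono h1, ?_, ?_, ?_, ?_, ⟨Subgroup.map_mono h6, hN ▸ Subgroup.map_mono h7, ?_, ?_, ?_⟩, ?_⟩
  · rw [hN]
    conv => arg 1; arg 2; arg 1; rw [← hP]
    rwa [← Subgroup.map_inf _ _ _ hinj, Subgroup.relIndex_map_map_of_injective _ _ hinj]
  · rw [hCc]
    conv_lhs => rw [← hP]
    rw [← Subgroup.map_inf _ _ _ hinj]
    exact Subgroup.map_mono h3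
  · rw [hCc, ← Subgroup.map_sup, ← h4, ← pPrimePCore_map p ε, Subgroup.map_map, Subgroup.map_map]
    rfl
  · intro hc
    refine h5 ?_
    exact connected_congr (QuotientGroup.congr (H.subgroupOf N) ((H.map f).subgroupOf N') ε (hεsub H hHN)).symm hc
  · have := h8.map ε.toMonoidHom ε.surjective
    rwa [hεsub X h7] at this
  · rwa [Subgroup.relIndex_map_map_of_injective _ _ hinj]
  · intro Y hHY hYN hYn hYd
    have hY : Y = (Y.comap f).map f := by
      refine (Subgroup.map_comap_eq_self_of_surjective ?_ Y).symm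
      rw [hf]; exact (MulAut.conj y).surjective
    have h1' : H ≤ Y.comap f := Subgroup.map_le_iff_le_comap.1 hHY
    have h2' : Y.comap f ≤ N := by
      have hh : (Y.comap f).map f ≤ N.map f := by rw [← hY]; exact hYN.trans hN.le
      exact (Subgroup.map_le_map_iff_of_injective hinj).1 hh
    rw [hY]
    refine Subgroup.map_mono (h10 _ h1' h2' ?_ ?_)
    · have e := hεsub _ h2'
      rw [← hY] at e
      have := hYn.comap ε.toMonoidHom
      rwa [← e, Subgroup.comap_map_eq_self_of_injective ε.injective] at this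
    · rw [hY, Subgroup.relIndex_map_map_of_injective _ _ hinj] at hYd
      exact hYd
  · obtain ⟨o, ho, rfl⟩ := h11
    have hs : Function.Surjective (X.equivMapOfInjective f hinj).toMonoidHom := (X.equivMapOfInjective f hinj).surjective
    rw [← CfsgLib.PResidual.map_pResidual hs]
    exact ⟨_, ⟨o, ho, rfl⟩, (DFunLike.congr_fun hf (o : G) : f (o : G) = y * o * y⁻¹)⟩

open CfsgLib CfsgLib.StrongFusion CfsgLib.StrongAlperin in
theorem extract {G : Type*} [Group G] [Finite G] {p : ℕ} [Fact p.Prime] (P : Sylow p G) {A : Subgroup G} {g : G}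
    (h : FChain (St p (P : Subgroup G)) A g) (hA : A ≤ (P : Subgroup G)) :
    ∃ (k : ℕ) (H X : Fin k → Subgroup G) (x : Fin k → G) (c y : G),
      c ∈ Subgroup.centralizer (A : Set G) ∧ y ∈ Subgroup.normalizer ((P : Subgroup G) : Set G) ∧
      g⁻¹ = c * (List.ofFn x).prod * y ∧
      ∀ i : Fin k, Ess p (P : Subgroup G) (H i) (X i) (x i) ∧ cm (((List.ofFn x).take i.val).prod)⁻¹ A ≤ H i := by
  induction h with
  | one => exact ⟨0, fun i => i.elim0, fun i => i.elim0, fun i => i.elim0, 1, 1, one_mem _, one_mem _, by simp, fun i => i.elim0⟩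
  | @step A T n g hs hAT _ ih =>
    have hTP : T = (P : Subgroup G) ∨ n ∈ Subgroup.centralizer (T : Set G) ∨ T ≤ (P : Subgroup G) := by
      rcases hs with h | ⟨e, -⟩ | ⟨X, hX⟩
      · exact Or.inr (Or.inl h)
      · exact Or.inl e
      · exact Or.inr (Or.inr hX.1)
    have hnA : cm n A ≤ (P : Subgroup G) := by
      rcases hs with h | ⟨rfl, h⟩ | ⟨X, hX⟩
      · rintro _ ⟨a, ha, rfl⟩
        show n * a * n⁻¹ ∈ (P : Subgroup G)
        rw [← Subgroup.mem_centralizer_iff.1 h a (hAT ha), mul_inv_cancel_right]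
        exact hA ha
      · exact (cm_mono hA).trans (Local.map_conj_eq_of_mem_normalizer h).le
      · have hnN := (goodSteps P).norm T n (Or.inr (Or.inr ⟨X, hX⟩))
        exact ((cm_mono hAT).trans (Local.map_conj_eq_of_mem_normalizer hnN).le).trans hX.1
    obtain ⟨k, H, X, x, c, y, hc, hy, hg, hH⟩ := ih hnA
    have hc' : n⁻¹ * c * n ∈ Subgroup.centralizer (A : Set G) := Subgroup.mem_centralizer_iff.2 fun a ha => by
      have e := Subgroup.mem_centralizer_iff.1 hc (n * a * n⁻¹) (conj_mem_cm ha)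
      calc a * (n⁻¹ * c * n) = n⁻¹ * (n * a * n⁻¹ * c) * n := by group
        _ = _ := by rw [e]; group
    rcases hs with h | ⟨rfl, h⟩ | ⟨X₀, hX₀⟩
    · have hnC : n ∈ Subgroup.centralizer (A : Set G) :=
        Subgroup.centralizer_le (SetLike.coe_subset_coe.2 hAT) h
      have hA' : cm n A = A := cm_eq_self fun a ha => by
        rw [← Subgroup.mem_centralizer_iff.1 hnC a ha, mul_inv_cancel_right]
      rw [hA'] at hc hH
      exact ⟨k, H, X, x, n⁻¹ * c, y, mul_mem (inv_mem hnC) hc, hy, by rw [mul_inv_rev, hg]; group, hH⟩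
    · have hprod : ∀ l : List G, (l.map fun z => n⁻¹ * z * n).prod = n⁻¹ * l.prod * n := by
        intro l
        induction l with
        | nil => simp
        | cons a l ih => rw [List.map_cons, List.prod_cons, List.prod_cons, ih]; group
      have hof : List.ofFn (fun i => n⁻¹ * x i * n) = (List.ofFn x).map fun z => n⁻¹ * z * n := by
        rw [List.map_ofFn]; rfl
      refine ⟨k, fun i => cm n⁻¹ (H i), fun i => cm n⁻¹ (X i), fun i => n⁻¹ * x i * n, n⁻¹ * c * n, n⁻¹ * y, hc',
        mul_mem (inv_mem h) hy, by rw [mul_inv_rev, hg, hof, hprod]; group, fun i => ⟨?_, ?_⟩⟩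
      · have := ess_transport P (inv_mem h) (hH i).1
        rwa [inv_inv] at this
      · rw [hof, ← List.map_take, hprod,
          show (n⁻¹ * ((List.ofFn x).take i.val).prod * n)⁻¹ = n⁻¹ * (((List.ofFn x).take i.val).prod)⁻¹ * n by group,
          ← cm_cm, ← cm_cm]
        exact cm_mono (hH i).2
    · refine ⟨k + 1, Fin.cons T H, Fin.cons X₀ X, Fin.cons n⁻¹ x, n⁻¹ * c * n, y, hc', hy, ?_, fun i => ?_⟩
      · rw [mul_inv_rev, hg, List.ofFn_succ]
        simp only [Fin.cons_zero, Fin.cons_succ, List.prod_cons]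
        group
      · refine Fin.cases ?_ (fun j => ?_) i
        · refine ⟨?_, ?_⟩
          · obtain ⟨a1, a2, a3, a4, a5, a6, a7⟩ := hX₀
            simp only [Fin.cons_zero]
            exact ⟨a1, a2, a3, a4, a5, a6, inv_mem a7⟩
          · simpa [cm_one] using hAT
        · obtain ⟨e1, e2⟩ := hH j
          refine ⟨by simpa using e1, ?_⟩
          rw [cm_cm] at e2
          rw [List.ofFn_succ]
          simpa [mul_inv_rev] using e2

open CfsgLib CfsgLib.StrongFusion CfsgLib.StrongAlperin in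
theorem key {G : Type*} [Group G] [Finite G] {p : ℕ} [Fact p.Prime]
    (P : Sylow p G) (A : Set G) (hA : A ⊆ (P : Set G))
    (g : G) (hAg : (fun a => g⁻¹ * a * g) '' A ⊆ (P : Set G)) :
    ∃ (n : ℕ) (H X : Fin n → Subgroup G) (x : Fin n → G) (c y : G),
      c ∈ Subgroup.centralizer A ∧ y ∈ Subgroup.normalizer ((P : Subgroup G) : Set G) ∧
      g = c * (List.ofFn x).prod * y ∧
      ∀ i : Fin n, Ess p (P : Subgroup G) (H i) (X i) (x i) ∧
        (fun a => (((List.ofFn x).take i.val).prod)⁻¹ * a * ((List.ofFn x).take i.val).prod) '' A ⊆ (H i : Set G) := by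
  have hcl : Subgroup.closure A ≤ (P : Subgroup G) := (Subgroup.closure_le _).2 hA
  have h := fchain_of_good P (goodSteps P) (Full p (P : Subgroup G)) (fun U hU => exists_full P hU) (fun _ _ h => h)
    (fun V hV hVg big => CfsgLib.StrongAlperin.haut P V hV hVg big) hcl (g := g⁻¹) (by
      rw [cm, MonoidHom.map_closure]
      refine (Subgroup.closure_le _).2 ?_
      rintro _ ⟨a, ha, rfl⟩
      simpa using hAg ⟨a, ha, rfl⟩)
  obtain ⟨k, H, X, x, c, y, hc, hy, hg, hH⟩ := extract P h hcl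
  refine ⟨k, H, X, x, c, y, Subgroup.centralizer_le Subgroup.subset_closure hc, hy, by rw [← hg, inv_inv],
    fun i => ⟨(hH i).1, ?_⟩⟩
  rintro _ ⟨a, ha, rfl⟩
  have := (hH i).2 (conj_mem_cm (Subgroup.subset_closure ha))
  simpa using this

/-- A strong form of the Alperin–Goldschmidt fusion Theorem. Let P be a Sylow p-subgroup of the finite group G, A a subset of P containing a nonidentity element, and g an element with g⁻¹Ag ⊆ P. Then g = c·x₁⋯xₙ·y with c ∈ C_G(A), y ∈ N_G(P) and, for each i, an element xᵢ and a subgroup Hᵢ ≤ P such that: N_P(Hᵢ) is a Sylow p-subgroup of N_G(Hᵢ); C_P(Hᵢ) ≤ Hᵢ; O_{p',p}(N_G(Hᵢ)) = Hᵢ·C_G(Hᵢ); the Sylow p-subgroups of N_G(Hᵢ)/Hᵢ are not chain-connected through nontrivial intersections (the quotient has a strongly p-embedded subgroup); xᵢ lies in O^p(Xᵢ), where Xᵢ/Hᵢ is the smallest normal subgroup of N_G(Hᵢ)/Hᵢ of order divisible by p; and (x₁⋯xᵢ₋₁)⁻¹A(x₁⋯xᵢ₋₁) ⊆ Hᵢ. -/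
theorem result {G : Type*} [Group G] [Finite G] {p : ℕ} [Fact p.Prime]
    (P : Sylow p G) (A : Set G) (hA : A ⊆ (P : Set G)) (hA1 : ∃ a ∈ A, a ≠ 1)
    (g : G) (hAg : (fun a => g⁻¹ * a * g) '' A ⊆ (P : Set G)) :
    ∃ (n : ℕ) (H X : Fin n → Subgroup G) (x : Fin n → G) (c y : G),
      c ∈ Subgroup.centralizer A ∧ y ∈ Subgroup.normalizer ((P : Subgroup G) : Set G) ∧
      g = c * (List.ofFn x).prod * y ∧
      ∀ i : Fin n,
        H i ≤ (P : Subgroup G) ∧
        ¬ p ∣ ((P : Subgroup G) ⊓ Subgroup.normalizer (H i : Set G)).relIndex (Subgroup.normalizer (H i : Set G)) ∧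
        (P : Subgroup G) ⊓ Subgroup.centralizer (H i : Set G) ≤ H i ∧
        (Cfsg.pPrimePCore p ↥(Subgroup.normalizer (H i : Set G))).map (Subgroup.normalizer (H i : Set G)).subtype =
          H i ⊔ Subgroup.centralizer (H i : Set G) ∧
        ¬ Cfsg.IsSylowChainConnected p
            (↥(Subgroup.normalizer (H i : Set G)) ⧸ (H i).subgroupOf (Subgroup.normalizer (H i : Set G))) ∧
        (H i ≤ X i ∧ X i ≤ Subgroup.normalizer (H i : Set G) ∧
          ((X i).subgroupOf (Subgroup.normalizer (H i : Set G))).Normal ∧ p ∣ (H i).relIndex (X i) ∧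
          ∀ Y : Subgroup G, H i ≤ Y → Y ≤ Subgroup.normalizer (H i : Set G) →
            (Y.subgroupOf (Subgroup.normalizer (H i : Set G))).Normal → p ∣ (H i).relIndex Y → X i ≤ Y) ∧
        x i ∈ (Cfsg.pResidual p ↥(X i)).map (X i).subtype ∧
        (fun a => (((List.ofFn x).take i.val).prod)⁻¹ * a * ((List.ofFn x).take i.val).prod) '' A ⊆ (H i : Set G) := by
  obtain ⟨n, H, X, x, c, y, hc, hy, hg, hH⟩ := key P A hA g hAg
  refine ⟨n, H, X, x, c, y, hc, hy, hg, fun i => ?_⟩
  obtain ⟨⟨a1, a2, a3, a4, a5, a6, a7⟩, a8⟩ := hH i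
  exact ⟨a1, a2, a3, a4, a5, a6, a7, a8⟩

end Cfsg.Agent.S3072
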