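import Cfsg.Statements.S3073
import Cfsg.Agent.S1982
import Cfsg.Agent.S2006
import Cfsg.Agent.Lib.KInf.Basic
import Cfsg.Agent.Lib.SmallElements
import Cfsg.Agent.Lib.PComplement
import Cfsg.Agent.Lib.Basic

set_option autoImplicit false
set_option linter.unusedVariables false
universe u
open Cfsg
open scoped commutatorElement

namespace Cfsg.Agent.S3073

universe v

theorem hloc_kInf {X : Type v} [Group X] [Finite X] {p : ℕ} [Fact p.Prime] (hp : p ≠ 2)
    (hc : Subgroup.centralizer ((Cfsg.pCore p X : Subgroup X) : Set X) ≤ Cfsg.pCore p X)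
    (T : Sylow p X) (hK : ¬ (Cfsg.inducedFunctor Cfsg.kInfLower (T : Subgroup X)).Normal) :
    ∃ g : X, g ∈ (T : Subgroup X) ∧ g ∉ Cfsg.pCore p X ∧ ∃ U V : Subgroup X, Cfsg.IsChiefFactor U V ∧
      U ≤ Cfsg.pCore p X ∧ Cfsg.iterCommutator U (Subgroup.zpowers g) (p - 1) ≤ V ∧ ¬ ⁅U, Subgroup.zpowers g⁆ ≤ V := by
  set O := Cfsg.pCore p X with hO
  have hOp : IsPGroup p O := CfsgLib.isPGroup_pCore p
  obtain ⟨C, hch, hcom, hpow, hcen⟩ := CfsgLib.Small.exists_critical (X := ↥O) (p := p) hOp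
  set A := C.map O.subtype with hA
  have hAeq : A.subgroupOf O = C := Subgroup.comap_map_eq_self_of_injective O.subtype_injective C
  have hcz : ∀ c : ↥O, c ∈ Subgroup.centralizer (C : Set ↥O) → (c : X) ∈ Subgroup.centralizer (A : Set X) := by
    intro c hc
    refine Subgroup.mem_centralizer_iff.mpr ?_
    rintro _ ⟨d, hd, rfl⟩
    exact congrArg Subtype.val (Subgroup.mem_centralizer_iff.mp hc d hd)
  obtain ⟨g, hgT, hgO, -, -, hU⟩ := Cfsg.Agent.S1982.result T A (Subgroup.map_subtype_le C)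
    (by rw [hAeq]; exact hch)
    (by rintro _ ⟨c, hc, rfl⟩; exact ⟨⟨c ^ p, pow_mem hc p, by simp⟩, by
          have := hcz _ (hpow c hc).2; simpa using this⟩)
    (by
      rw [Subgroup.commutator_le]
      rintro _ ⟨a, ha, rfl⟩ _ ⟨b, hb, rfl⟩
      rw [← map_commutatorElement]
      exact hcz _ (hcom a b hb).2)
    (by
      rw [Subgroup.commutator_le]
      rintro x hx _ ⟨b, hb, rfl⟩
      have e : ⁅x, O.subtype b⁆ = O.subtype ⁅(⟨x, hx⟩ : ↥O), b⁆ := by
        rw [map_commutatorElement]; rfl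
      rw [e]
      exact ⟨⟨_, (hcom ⟨x, hx⟩ b hb).1, rfl⟩, hcz _ (hcom ⟨x, hx⟩ b hb).2⟩)
    (by
      refine le_antisymm (fun x hx => ⟨⟨⟨x, hx.1⟩, hcen ?_, rfl⟩, hx.2⟩) (inf_le_inf_right _ (Subgroup.map_subtype_le C))
      exact Subgroup.mem_centralizer_iff.mpr fun d hd => Subtype.ext
        (Subgroup.mem_centralizer_iff.mp hx.2 _ ⟨d, hd, rfl⟩))
    (fun φ hφ h => by
      haveI := hch
      exact CfsgLib.Small.eq_one_of_fixes_critical hOp hcom hpow hcen hφ fun c hc _ => h c ⟨c, hc, rfl⟩)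
    (Or.inl hK)
  obtain ⟨U, V, hUV, hUA, hquad, hne⟩ := hU hc
  have hVn : V.Normal := hUV.2.2.1
  refine ⟨g, hgT, hgO, U, V, hUV, hUA.trans (Subgroup.map_subtype_le C), ?_, hne⟩
  obtain ⟨m, hm⟩ : ∃ m, p - 1 = 2 + m := ⟨p - 3, by have := (Fact.out : p.Prime).two_le; omega⟩
  rw [hm]
  clear hm
  induction m with
  | zero => exact hquad
  | succ m ih =>
    show ⁅Cfsg.iterCommutator U (Subgroup.zpowers g) (2 + m), Subgroup.zpowers g⁆ ≤ V
    exact (Subgroup.commutator_mono ih le_rfl).trans (Subgroup.commutator_le_left V _)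

theorem main (p : ℕ) [Fact p.Prime] (hp : p ≠ 2) (S : Type v) [Group S] [Finite S] (hS : IsPGroup p S) :
    ∃ K : Subgroup S, K.Characteristic ∧ Subgroup.centralizer (K : Set S) ≤ K ∧
      ∀ (G : Type v) [Group G] [Finite G] (P : Sylow p G) (e : ↥(P : Subgroup G) ≃* S),
        Cfsg.HasNormalPComplement p G ↔
          ∀ g ∈ Subgroup.normalizer (((K.comap (e : ↥(P : Subgroup G) →* S)).map (P : Subgroup G).subtype : Subgroup G) : Set G),
            (orderOf g).Coprime p →
              g ∈ Subgroup.centralizer (((K.comap (e : ↥(P : Subgroup G) →* S)).map (P : Subgroup G).subtype : Subgroup G) : Set G) := by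
  have hF := (CfsgLib.KInf.isCharPFunctor p).1
  refine ⟨Cfsg.kInfLower S, Subgroup.characteristic_iff_map_eq.mpr fun φ => hF.2 S S hS φ,
    (CfsgLib.KInf.centralizer_kInf hS).1, ?_⟩
  intro G _ _ P e
  have hcomap : (Cfsg.kInfLower S).comap (e : ↥(P : Subgroup G) →* S) = Cfsg.kInfLower ↥(P : Subgroup G) := by
    rw [← hF.2 ↥(P : Subgroup G) S P.2 e]
    exact Subgroup.comap_map_eq_self_of_injective e.injective _
  rw [hcomap]
  set W := Cfsg.inducedFunctor (G := G) Cfsg.kInfLower (P : Subgroup G) with hW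
  show _ ↔ ∀ g ∈ Subgroup.normalizer (W : Set G), (orderOf g).Coprime p → g ∈ Subgroup.centralizer (W : Set G)
  have hWP : W ≤ (P : Subgroup G) := Subgroup.map_subtype_le _
  constructor
  · intro h g hg hgc
    exact CfsgLib.frobeniusCond_of_hasNormalPComplement h W (P.2.to_le hWP) g hg hgc
  intro h
  refine Cfsg.Agent.S2006.result Cfsg.kInfLower hF P ?_ (fun _ _ _ hc T hn => hloc_kInf hp hc T hn)
  set M := Subgroup.normalizer (W : Set G) with hM
  have hPM : (P : Subgroup G) ≤ M := by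
    have hPn : (Cfsg.kInfLower ↥(P : Subgroup G)).Normal := by
      have : (Cfsg.kInfLower ↥(P : Subgroup G)).Characteristic :=
        Subgroup.characteristic_iff_map_eq.mpr fun φ => hF.2 _ _ P.2 φ
      infer_instance
    intro x hx
    refine Subgroup.mem_normalizer_iff.mpr fun y => ⟨?_, ?_⟩
    · rintro ⟨w, hw, rfl⟩
      exact ⟨(⟨x, hx⟩ : ↥(P : Subgroup G)) * w * (⟨x, hx⟩ : ↥(P : Subgroup G))⁻¹, hPn.conj_mem w hw _, rfl⟩
    · rintro ⟨w, hw, e'⟩
      refine ⟨(⟨x, hx⟩ : ↥(P : Subgroup G))⁻¹ * w * ((⟨x, hx⟩ : ↥(P : Subgroup G))⁻¹)⁻¹, hPn.conj_mem w hw _, ?_⟩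
      show x⁻¹ * ((w : G)) * x⁻¹⁻¹ = y
      rw [show (w : G) = x * y * x⁻¹ from e']; group
  set PM : Sylow p M := P.subtype hPM
  set C := (Subgroup.centralizer (W : Set G)).subgroupOf M with hC
  haveI hCn : C.Normal := ⟨fun c hc m => Subgroup.mem_centralizer_iff.mpr fun w hw => by
    have h1 : (m : G)⁻¹ * w * m ∈ W := by
      simpa using (Subgroup.mem_normalizer_iff.mp (inv_mem m.2) w).mp hw
    have h2 : ((m : G)⁻¹ * w * m) * (c : G) = (c : G) * ((m : G)⁻¹ * w * m) := Subgroup.mem_centralizer_iff.mp hc _ h1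
    show w * ((m : G) * c * (m : G)⁻¹) = (m : G) * c * (m : G)⁻¹ * w
    calc w * ((m : G) * c * (m : G)⁻¹) = (m : G) * (((m : G)⁻¹ * w * m) * c) * (m : G)⁻¹ := by group
      _ = (m : G) * c * (m : G)⁻¹ * w := by rw [h2]; group⟩
  -- a Sylow subgroup of `C` is central in `C`
  have hZ : ∀ x ∈ C, (x : G) ∈ (P : Subgroup G) → ∀ c ∈ C, c * x = x * c := by
    intro x hx hxP c hc
    have h1 : (⟨(x : G), hxP⟩ : ↥(P : Subgroup G)) ∈ Cfsg.kInfLower ↥(P : Subgroup G) :=
      (CfsgLib.KInf.centralizer_kInf P.2).1 (Subgroup.mem_centralizer_iff.mpr fun w hw => Subtype.ext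
        (Subgroup.mem_centralizer_iff.mp hx _ ⟨w, hw, rfl⟩))
    exact Subtype.ext (Subgroup.mem_centralizer_iff.mp hc _ ⟨_, h1, rfl⟩).symm
  have hCnpc : Cfsg.HasNormalPComplement p C := by
    obtain ⟨R⟩ := (inferInstance : Nonempty (Sylow p C))
    refine CfsgLib.hasNormalPComplement_of_normalizer_le_centralizer R fun y _ => ?_
    refine Subgroup.mem_centralizer_iff.mpr fun r hr => ?_
    obtain ⟨S', hS'⟩ := (R.2.map C.subtype).exists_le_sylow
    obtain ⟨m, hm⟩ := MulAction.exists_smul_eq M S' PM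
    have h1 : m * ((r : C) : M) * m⁻¹ ∈ C := hCn.conj_mem _ r.2 m
    have h2 : ((m * ((r : C) : M) * m⁻¹ : M) : G) ∈ (P : Subgroup G) := by
      have : MulAut.conj m ((r : C) : M) ∈ (m • S' : Sylow p M).1 :=
        Subgroup.smul_mem_pointwise_smul _ (MulAut.conj m) (S' : Subgroup M) (hS' ⟨r, hr, rfl⟩)
      rw [hm] at this
      exact this
    have h3 := hZ _ h1 h2 (m * (y : M) * m⁻¹) (hCn.conj_mem _ y.2 m)
    apply Subtype.ext
    show ((r : C) : M) * y = (y : M) * r
    have h4 : m * ((y : M) * r) * m⁻¹ = m * (((r : C) : M) * y) * m⁻¹ := by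
      calc m * ((y : M) * r) * m⁻¹ = (m * (y : M) * m⁻¹) * (m * ((r : C) : M) * m⁻¹) := by group
        _ = _ := by rw [h3]; group
    exact (mul_left_cancel (mul_right_cancel h4)).symm
  rw [CfsgLib.hasNormalPComplement_iff_pResidual]
  have hle : Cfsg.pResidual p M ≤ (Cfsg.pPrimeCore p C).map C.subtype := by
    refine CfsgLib.pResidual_le fun g hg => ?_
    have hgC : g ∈ C := h g g.2 (by rwa [Subgroup.orderOf_coe])
    exact ⟨⟨g, hgC⟩, CfsgLib.mem_pPrimeCore_of_hasNormalPComplement hCnpc (by rwa [Subgroup.orderOf_mk]), rfl⟩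
  refine Nat.Coprime.coprime_dvd_left (Subgroup.card_dvd_of_le hle) ?_
  rw [Subgroup.card_map_of_injective C.subtype_injective]
  exact CfsgLib.card_pPrimeCore_coprime p

/-- For an odd prime p, every finite p-group S has a characteristic subgroup K with C_S(K) ≤ K such that, whenever S is (isomorphic to) a Sylow p-subgroup of a finite group G, G has a normal p-complement if and only if N_G(K)/C_G(K) is a p-group, i.e. every element of N_G(K) of order prime to p centralizes K (K transported into G along the isomorphism). -/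
theorem result (p : ℕ) [Fact p.Prime] (hp : p ≠ 2)
    (S : Type u) [Group S] [Finite S] (hS : IsPGroup p S) :
    ∃ K : Subgroup S, K.Characteristic ∧ Subgroup.centralizer (K : Set S) ≤ K ∧
      ∀ (G : Type u) [Group G] [Finite G] (P : Sylow p G) (e : ↥(P : Subgroup G) ≃* S),
        Cfsg.HasNormalPComplement p G ↔
          ∀ g ∈ Subgroup.normalizer (((K.comap (e : ↥(P : Subgroup G) →* S)).map (P : Subgroup G).subtype : Subgroup G) : Set G),
            (orderOf g).Coprime p →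
              g ∈ Subgroup.centralizer (((K.comap (e : ↥(P : Subgroup G) →* S)).map (P : Subgroup G).subtype : Subgroup G) : Set G) := by
  exact main p hp S hS

end Cfsg.Agent.S3073
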