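import Cfsg.Statements.S3074
import Mathlib
import Cfsg.Agent.S2763
import Cfsg.Agent.Lib.GeneralizedExtraspecial
import Cfsg.Agent.Lib.YoshidaTransfer
import Cfsg.Agent.Lib.Elementary

set_option autoImplicit false
set_option linter.unusedVariables false
open Cfsg
open scoped commutatorElement

namespace Cfsg.Agent.S3074

open CfsgLib Cfsg.Agent.S2763

variable {p : ℕ} [Fact p.Prime]

theorem center_iff (b x y : ZMod p) :
    (⟨u b x y, _, _, _, rfl⟩ : ↥(P₀ p)) ∈ Subgroup.center ↥(P₀ p) ↔ b = 0 ∧ y = 0 := by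
  rw [Subgroup.mem_center_iff]
  constructor
  · intro h
    have h1 := congrArg Subtype.val (h ⟨u 1 0 0, _, _, _, rfl⟩)
    simp only [Subgroup.coe_mul, u_mul] at h1
    have h2 := congrArg Subtype.val (h ⟨u 0 0 1, _, _, _, rfl⟩)
    simp only [Subgroup.coe_mul, u_mul] at h2
    exact ⟨by have := (u_inj h2).2.1; linear_combination -this, by have := (u_inj h1).2.1; linear_combination this⟩
  · rintro ⟨rfl, rfl⟩ ⟨_, b', x', y', rfl⟩
    refine Subtype.ext ?_
    simp only [Subgroup.coe_mul, u_mul]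
    congr 1 <;> ring

theorem data (hp : p ≠ 2) : Cfsg.IsSpecial p ↥(P₀ p) ∧ Nat.card ↥(Subgroup.center ↥(P₀ p)) = p ∧
    Monoid.exponent ↥(P₀ p) = p ∧ Nat.card ↥(P₀ p) = p ^ 3 := by
  have hcard : Nat.card ↥(P₀ p) = p ^ 3 := by
    let f : ZMod p × ZMod p × ZMod p → ↥(P₀ p) := fun v => ⟨u v.1 v.2.1 v.2.2, _, _, _, rfl⟩
    have hf : Function.Bijective f := ⟨fun a b h => by
        obtain ⟨h1, h2, h3⟩ := u_inj (congrArg Subtype.val h)
        exact Prod.ext h1 (Prod.ext h2 h3),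
      fun ⟨g, b, x, y, hg⟩ => ⟨(b, x, y), Subtype.ext hg.symm⟩⟩
    rw [← Nat.card_congr (Equiv.ofBijective f hf), Nat.card_prod, Nat.card_prod, Nat.card_zmod]
    ring
  let η : ↥(P₀ p) →* Multiplicative (ZMod p × ZMod p) :=
    MonoidHom.mk' (fun g => Multiplicative.ofAdd
      (((g : Cfsg.qd p) : Matrix.SpecialLinearGroup (Fin 3) (ZMod p)) 0 1, ((g : Cfsg.qd p) : Matrix.SpecialLinearGroup (Fin 3) (ZMod p)) 1 2)) (by
      rintro ⟨_, b, x, y, rfl⟩ ⟨_, b', x', y', rfl⟩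
      simp only [Subgroup.coe_mul, ← ofAdd_add]
      refine congrArg Multiplicative.ofAdd ?_
      rw [show ((u b x y : Cfsg.qd p) : Matrix.SpecialLinearGroup (Fin 3) (ZMod p)) * (u b' x' y' : Cfsg.qd p) = (u (b + b') (x + x' + b * y') (y + y') : Cfsg.qd p) from congrArg Subtype.val (u_mul b x y b' x' y')]
      simp [u, CfsgLib.Qd.el, CfsgLib.Qd.mat])
  have hker : η.ker ≤ Subgroup.center ↥(P₀ p) := by
    rintro ⟨_, b, x, y, rfl⟩ h
    refine (center_iff b x y).mpr ?_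
    have h' := congrArg Multiplicative.toAdd (MonoidHom.mem_ker.mp h)
    simpa [η, u, CfsgLib.Qd.el, CfsgLib.Qd.mat] using h'
  have hcom : Subgroup.center ↥(P₀ p) ≤ commutator ↥(P₀ p) := by
    rintro ⟨_, b, x, y, rfl⟩ h
    obtain ⟨rfl, rfl⟩ := (center_iff b x y).mp h
    have e : (⟨u 0 x 0, _, _, _, rfl⟩ : ↥(P₀ p)) = ⁅(⟨u x 0 0, _, _, _, rfl⟩ : ↥(P₀ p)), (⟨u 0 0 1, _, _, _, rfl⟩ : ↥(P₀ p))⁆ := by
      rw [commutatorElement_def, eq_mul_inv_iff_mul_eq, eq_mul_inv_iff_mul_eq]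
      refine Subtype.ext ?_
      simp only [Subgroup.coe_mul, u_mul]
      congr 1 <;> ring
    rw [e, commutator_def]
    exact Subgroup.commutator_mem_commutator (Subgroup.mem_top _) (Subgroup.mem_top _)
  have hfc := CfsgLib.commutator_le_frattini_pGroup (isPGroup_P₀ (p := p))
  have hfk : frattini ↥(P₀ p) ≤ η.ker := CfsgLib.YoshidaTransfer.frattini_le_ker (p := p)
    (fun a => Multiplicative.toAdd.injective (by
      rw [toAdd_pow, toAdd_one]; exact Prod.ext (by simp) (by simp))) η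
  have hc1 : commutator ↥(P₀ p) = Subgroup.center ↥(P₀ p) :=
    le_antisymm (Abelianization.commutator_subset_ker η |>.trans hker) hcom
  refine ⟨⟨isPGroup_P₀, le_antisymm (hfk.trans hker) (hcom.trans hfc), hc1⟩, ?_, ?_, hcard⟩
  · let g : ZMod p → ↥(Subgroup.center ↥(P₀ p)) := fun x => ⟨⟨u 0 x 0, _, _, _, rfl⟩, (center_iff 0 x 0).mpr ⟨rfl, rfl⟩⟩
    have hg : Function.Bijective g := ⟨fun a b h => (u_inj (congrArg (fun z : ↥(Subgroup.center ↥(P₀ p)) => ((z : ↥(P₀ p)) : Cfsg.qd p)) h : u 0 a 0 = u 0 b 0)).2.1, by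
      rintro ⟨⟨_, b, x, y, rfl⟩, h⟩
      obtain ⟨rfl, rfl⟩ := (center_iff b x y).mp h
      exact ⟨x, rfl⟩⟩
    rw [← Nat.card_congr (Equiv.ofBijective g hg), Nat.card_zmod]
  · have hpw : ∀ (b x y : ZMod p) (n : ℕ), ∃ t : ZMod p, 2 * t = (n : ZMod p) * ((n : ZMod p) - 1) * (b * y) ∧
        u b x y ^ n = u ((n : ZMod p) * b) ((n : ZMod p) * x + t) ((n : ZMod p) * y) := by
      intro b x y n
      induction n with
      | zero => exact ⟨0, by simp, by rw [pow_zero, ← u_one]; congr 1 <;> simp⟩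
      | succ n ih =>
        obtain ⟨t, ht, e⟩ := ih
        refine ⟨t + (n : ZMod p) * (b * y), ?_, ?_⟩
        · push_cast; linear_combination ht
        · rw [pow_succ, e, u_mul]; congr 1 <;> (push_cast; ring)
    refine Nat.dvd_antisymm (Monoid.exponent_dvd_of_forall_pow_eq_one ?_) ?_
    · rintro ⟨_, b, x, y, rfl⟩
      refine Subtype.ext ?_
      obtain ⟨t, ht, e⟩ := hpw b x y p
      have h2 : (2 : ZMod p) ≠ 0 := by
        intro h
        have h' : ((2 : ℕ) : ZMod p) = 0 := by exact_mod_cast h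
        rw [ZMod.natCast_eq_zero_iff] at h'
        exact hp ((Nat.prime_dvd_prime_iff_eq Fact.out Nat.prime_two).mp h')
      have ht0 : t = 0 := by simpa [h2] using ht
      rw [SubmonoidClass.coe_pow, e, ht0]
      simp [u_one]
    · have h : orderOf (⟨u 1 0 0, _, _, _, rfl⟩ : ↥(P₀ p)) = p := by
        obtain ⟨t, ht, e⟩ := hpw 1 0 0 p
        refine orderOf_eq_prime (Subtype.ext ?_) (fun h => ?_)
        · have ht2 : (2 : ZMod p) * t = 0 := by rw [ht]; ring
          rw [SubmonoidClass.coe_pow, e]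
          rcases mul_eq_zero.mp ht2 with h | h
          · exfalso
            have h' : ((2 : ℕ) : ZMod p) = 0 := by exact_mod_cast h
            rw [ZMod.natCast_eq_zero_iff] at h'
            exact hp ((Nat.prime_dvd_prime_iff_eq Fact.out Nat.prime_two).mp h')
          · rw [h]; simp [u_one]
        · exact one_ne_zero (u_inj ((congrArg Subtype.val h).trans u_one.symm)).1
      calc p = orderOf (⟨u 1 0 0, _, _, _, rfl⟩ : ↥(P₀ p)) := h.symm
        _ ∣ Monoid.exponent ↥(P₀ p) := Monoid.order_dvd_exponent _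

/-- Let p be an odd prime. A Sylow p-subgroup of Qd(p), the split extension of an elementary abelian group of order p² by SL₂(p) acting naturally, is extraspecial of order p³ and exponent p. -/
theorem result (p : ℕ) [Fact p.Prime] (hp : p ≠ 2) (P : Sylow p ↥(Cfsg.qd p)) :
    Cfsg.IsExtraspecial p ↥P ∧ Nat.card P = p ^ 3 ∧ Monoid.exponent ↥P = p := by
  obtain ⟨S₀, hS₀⟩ := (isPGroup_P₀ (p := p)).exists_le_sylow
  have e₀ := sylow_eq S₀ hS₀
  have e : ↥(P : Subgroup ↥(Cfsg.qd p)) ≃* ↥(P₀ p) := (P.equiv S₀).trans (MulEquiv.subgroupCongr e₀)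
  obtain ⟨h1, h2, h3, h4⟩ := data (p := p) hp
  obtain ⟨hc, hz⟩ := CfsgLib.GenExtraspecial.isSpecial_congr e.symm h1.2.1 h1.2.2
  have hf : (frattini ↥(P₀ p)).map e.symm.toMonoidHom = frattini ↥(P : Subgroup ↥(Cfsg.qd p)) := OrderIso.map_radical (e.symm.mapSubgroup)
  refine ⟨⟨⟨P.2, ?_, ?_⟩, (Nat.card_congr (Subgroup.centerCongr e).toEquiv).trans h2⟩, (Nat.card_congr e.toEquiv).trans h4,
    (Monoid.exponent_eq_of_mulEquiv e).trans h3⟩
  · exact hf.symm.trans ((congrArg (fun K => K.map e.symm.toMonoidHom) h1.2.1).trans hz)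
  · exact hc.symm.trans ((congrArg (fun K => K.map e.symm.toMonoidHom) h1.2.2).trans hz)

end Cfsg.Agent.S3074
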