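import Cfsg.Statements.S3075
import Mathlib
import Cfsg.Agent.Lib.Local

set_option autoImplicit false
set_option linter.unusedVariables false
open Cfsg
open scoped commutatorElement

namespace Cfsg.Agent.S3075

open CfsgLib

/-- Let p be an odd prime and N a finite group with a normal elementary abelian subgroup A of order p² that is its own centralizer in N, such that N/A is isomorphic to SL₂(p) (over any field F with p elements). Then N splits over A: some subgroup U of N satisfies A ∩ U = 1 and AU = N. -/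
theorem result {N : Type*} [Group N] [Finite N] {p : ℕ} [Fact p.Prime] (hp : p ≠ 2)
    (A : Subgroup N) [A.Normal] (hAcomm : IsMulCommutative A) (hAcard : Nat.card A = p ^ 2) (hAexp : Monoid.exponent ↥A = p)
    (hAself : Subgroup.centralizer (A : Set N) = A)
    {F : Type*} [Field F] [Fintype F] (hF : Fintype.card F = p) (e : N ⧸ A ≃* Matrix.SpecialLinearGroup (Fin 2) F) :
    ∃ U : Subgroup N, A ⊓ U = ⊥ ∧ A ⊔ U = ⊤ := by
  classical
  have hpp := (Fact.out : p.Prime)
  have hcomm : ∀ a ∈ A, ∀ b ∈ A, a * b = b * a := fun a ha b hb =>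
    congrArg Subtype.val (hAcomm.is_comm.comm (⟨a, ha⟩ : A) ⟨b, hb⟩)
  have hexp : ∀ a ∈ A, a ^ p = 1 := fun a ha => by
    have h := Monoid.pow_exponent_eq_one (⟨a, ha⟩ : A)
    rw [hAexp] at h
    exact congrArg Subtype.val h
  have hodd : p % 2 = 1 := hpp.eq_two_or_odd.resolve_left hp
  haveI : NeZero (2 : F) := ⟨by
    intro h2
    haveI : CharP F p := charP_of_card_eq_prime hF
    have h3 := (CharP.cast_eq_zero_iff F p 2).mp (by exact_mod_cast h2)
    exact hp ((Nat.prime_dvd_prime_iff_eq hpp Nat.prime_two).mp h3)⟩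
  obtain ⟨s, hs⟩ := QuotientGroup.mk'_surjective A (e.symm (-1))
  have hm1 : (-1 : Matrix.SpecialLinearGroup (Fin 2) F) ≠ 1 := by
    intro h
    have := congrArg (fun M : Matrix.SpecialLinearGroup (Fin 2) F => (M : Matrix (Fin 2) (Fin 2) F) 0 0) h
    simp at this
    have h2 : (2 : F) = 0 := by linear_combination (-1 : F) * this
    exact NeZero.ne (2 : F) h2
  set t := s ^ p with ht
  have hts : QuotientGroup.mk' A t = e.symm (-1) := by
    rw [ht, map_pow, hs, ← map_pow, show (-1 : Matrix.SpecialLinearGroup (Fin 2) F) ^ p = -1 from by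
      rw [← Nat.div_add_mod p 2, hodd, pow_succ, pow_mul]; simp]
  have htA : t ∉ A := by
    intro h
    rw [← QuotientGroup.eq_one_iff] at h
    rw [QuotientGroup.mk'_apply, h] at hts
    exact hm1 (e.symm.injective (by rw [← hts, map_one]))
  have ht2 : t * t = 1 := by
    have h1 : s * s ∈ A := by
      rw [← QuotientGroup.eq_one_iff, QuotientGroup.mk_mul, ← QuotientGroup.mk'_apply, hs, ← map_mul]
      simp
    rw [ht, ← (Commute.refl s).mul_pow, hexp _ h1]
  have htc : ∀ n : N, n * t * n⁻¹ * t⁻¹ ∈ A := by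
    intro n
    rw [← QuotientGroup.eq_one_iff, QuotientGroup.mk_mul, QuotientGroup.mk_mul, QuotientGroup.mk_mul, QuotientGroup.mk_inv,
      QuotientGroup.mk_inv, ← QuotientGroup.mk'_apply (N := A) n, ← QuotientGroup.mk'_apply (N := A) t, hts]
    obtain ⟨m, hm⟩ := e.symm.surjective (QuotientGroup.mk' A n)
    rw [← hm, ← map_mul, ← map_inv, ← map_mul, ← map_inv, ← map_mul]
    simp
  set C := A ⊓ Subgroup.centralizer ({t} : Set N) with hC
  have hCn : C.Normal := by
    refine ⟨fun c hc n => ⟨Subgroup.Normal.conj_mem inferInstance c hc.1 n, Subgroup.mem_centralizer_singleton_iff.mpr ?_⟩⟩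
    have hct : c * t = t * c := Subgroup.mem_centralizer_singleton_iff.mp hc.2
    have h2 : c * (n⁻¹ * t * n * t⁻¹) = (n⁻¹ * t * n * t⁻¹) * c := hcomm _ hc.1 _ (by simpa using htc n⁻¹)
    have h3 : c * (n⁻¹ * t * n) = (n⁻¹ * t * n) * c := by
      calc c * (n⁻¹ * t * n) = c * (n⁻¹ * t * n * t⁻¹) * t := by group
        _ = (n⁻¹ * t * n * t⁻¹) * (c * t) := by rw [h2]; group
        _ = (n⁻¹ * t * n * t⁻¹) * (t * c) := by rw [hct]
        _ = _ := by group
    calc n * c * n⁻¹ * t = n * (c * (n⁻¹ * t * n)) * n⁻¹ := by group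
      _ = n * ((n⁻¹ * t * n) * c) * n⁻¹ := by rw [h3]
      _ = _ := by group
  set d : ↥A →* ↥A :=
    { toFun := fun a => ⟨t * a * t⁻¹ * (a : N)⁻¹, A.mul_mem (Subgroup.Normal.conj_mem inferInstance _ a.2 t) (A.inv_mem a.2)⟩
      map_one' := Subtype.ext (by simp)
      map_mul' := fun a b => Subtype.ext (by
        have h1 := hcomm _ (A.inv_mem a.2) _ (A.mul_mem (Subgroup.Normal.conj_mem inferInstance _ b.2 t) (A.inv_mem b.2))
        calc t * ((a : N) * b) * t⁻¹ * ((a : N) * b)⁻¹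
            = t * a * t⁻¹ * ((t * b * t⁻¹ * (b : N)⁻¹) * (a : N)⁻¹) := by group
          _ = t * a * t⁻¹ * ((a : N)⁻¹ * (t * b * t⁻¹ * (b : N)⁻¹)) := by rw [h1]
          _ = _ := by push_cast; group) } with hd
  have hfree : C = ⊥ := by
    by_contra hne
    have hCA : C ≠ A := by
      intro h
      refine htA (hAself ▸ Subgroup.mem_centralizer_iff.mpr fun a ha => ?_)
      exact Subgroup.mem_centralizer_singleton_iff.mp (h.ge ha).2
    obtain ⟨i, hi, hci⟩ := (Nat.dvd_prime_pow hpp).mp (hAcard ▸ Subgroup.card_dvd_of_le (inf_le_left : C ≤ A))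
    have hi1 : i = 1 := by
      interval_cases i
      · exact absurd (Subgroup.card_eq_one.mp (by rw [hci, pow_zero])) hne
      · rfl
      · exact absurd (Subgroup.eq_of_le_of_card_ge inf_le_left (by rw [hci, hAcard])) hCA
    rw [hi1, pow_one] at hci
    set K := d.range.map A.subtype with hK
    have hker : d.ker.map A.subtype = C := by
      ext a
      constructor
      · rintro ⟨a, ha, rfl⟩
        refine ⟨a.2, Subgroup.mem_centralizer_singleton_iff.mpr ?_⟩
        have h1 := congrArg Subtype.val (MonoidHom.mem_ker.mp ha)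
        have h2 : t * a * t⁻¹ * (a : N)⁻¹ = 1 := h1
        rw [mul_inv_eq_one, mul_inv_eq_iff_eq_mul] at h2
        exact h2.symm
      · intro ha
        refine ⟨⟨a, ha.1⟩, MonoidHom.mem_ker.mpr (Subtype.ext ?_), rfl⟩
        show t * a * t⁻¹ * a⁻¹ = 1
        rw [← Subgroup.mem_centralizer_singleton_iff.mp ha.2, mul_inv_cancel_right, mul_inv_cancel]
    have hKc : Nat.card ↥K = p := by
      rw [hK, Subgroup.card_map_of_injective A.subtype_injective]
      have h1 := d.ker.card_mul_index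
      rw [Subgroup.index_ker, ← Subgroup.card_map_of_injective A.subtype_injective, hker, hci, hAcard, pow_two] at h1
      exact Nat.eq_of_mul_eq_mul_left hpp.pos h1
    have hKn : K.Normal := by
      refine ⟨?_⟩
      rintro _ ⟨_, ⟨a, rfl⟩, rfl⟩ n
      refine ⟨d ⟨n * a * n⁻¹, Subgroup.Normal.conj_mem inferInstance _ a.2 n⟩, ⟨_, rfl⟩, ?_⟩
      show t * (n * a * n⁻¹) * t⁻¹ * (n * a * n⁻¹)⁻¹ = n * (t * a * t⁻¹ * (a : N)⁻¹) * n⁻¹
      have h0 := htc n⁻¹
      rw [inv_inv] at h0
      set c := n⁻¹ * t * n * t⁻¹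
      have h1 := hcomm c h0 _ (Subgroup.Normal.conj_mem inferInstance (a : N) a.2 t)
      calc t * (n * a * n⁻¹) * t⁻¹ * (n * a * n⁻¹)⁻¹ = n * (c * (t * a * t⁻¹)) * c⁻¹ * (a : N)⁻¹ * n⁻¹ := by simp only [c]; group
        _ = n * ((t * a * t⁻¹) * c) * c⁻¹ * (a : N)⁻¹ * n⁻¹ := by rw [h1]
        _ = _ := by group
    have hsq : ∀ (L : Subgroup N), L.Normal → Nat.card ↥L = p → ∀ a b : N, ∀ l ∈ L, (a * b) * l * (a * b)⁻¹ = (b * a) * l * (b * a)⁻¹ := by
      intro L hL hLc a b l hl
      by_cases hl1 : l = 1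
      · simp [hl1]
      have hgen : L = Subgroup.zpowers l := (Subgroup.eq_of_le_of_card_ge (Subgroup.zpowers_le.mpr hl) (by
        rw [hLc, Nat.card_zpowers]
        exact (orderOf_eq_prime (by rw [← hLc]; exact congrArg Subtype.val (pow_card_eq_one' (x := (⟨l, hl⟩ : L)))) hl1).ge)).symm
      obtain ⟨i, hi⟩ := Subgroup.mem_zpowers_iff.mp (hgen ▸ hL.conj_mem l hl a)
      obtain ⟨j, hj⟩ := Subgroup.mem_zpowers_iff.mp (hgen ▸ hL.conj_mem l hl b)
      have hp' : ∀ (g : N) (k : ℤ), g * l ^ k * g⁻¹ = (g * l * g⁻¹) ^ k := fun g k => by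
        rw [← MulAut.conj_apply, map_zpow, MulAut.conj_apply]
      have e1 : a * b * l * (a * b)⁻¹ = a * (b * l * b⁻¹) * a⁻¹ := by group
      have e2 : b * a * l * (b * a)⁻¹ = b * (a * l * a⁻¹) * b⁻¹ := by group
      rw [e1, e2, ← hi, ← hj, hp', hp', ← hi, ← hj, ← zpow_mul, ← zpow_mul, mul_comm]
    have hder : ∀ a b : N, a * b * a⁻¹ * b⁻¹ ∈ A := by
      intro a b
      rw [← hAself, Subgroup.mem_centralizer_iff]
      have hCK : C ⊔ K = A := by
        refine Subgroup.eq_of_le_of_card_ge (sup_le inf_le_left (Subgroup.map_subtype_le _)) ?_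
        by_contra hlt
        push Not at hlt
        obtain ⟨j, hj, hcj⟩ := (Nat.dvd_prime_pow hpp).mp (hAcard ▸ Subgroup.card_dvd_of_le (sup_le inf_le_left (Subgroup.map_subtype_le _) : C ⊔ K ≤ A))
        have hj1 : j ≤ 1 := by
          by_contra hj2
          rw [hcj, show j = 2 by omega, hAcard] at hlt
          exact lt_irrefl _ hlt
        have hCe : C = C ⊔ K := Subgroup.eq_of_le_of_card_ge le_sup_left (by
          rw [hcj, hci]; exact (Nat.pow_le_pow_right hpp.pos hj1).trans_eq (pow_one p))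
        have hKC : K = C := Subgroup.eq_of_le_of_card_ge (le_sup_right.trans hCe.ge) (by rw [hKc, hci])
        refine hne (le_bot_iff.mp (hKC ▸ ?_))
        rintro _ ⟨_, ⟨a, rfl⟩, rfl⟩
        have h1 : t * ((d a : A) : N) * t⁻¹ = (d a : N) := by
          have h := Subgroup.mem_centralizer_singleton_iff.mp (hKC.le ⟨_, ⟨a, rfl⟩, rfl⟩ : ((d a : A) : N) ∈ C).2
          rw [← h]; exact mul_inv_cancel_right _ _
        have h2 : ((d a : A) : N) * ((d a : A) : N) = 1 := by
          have h3 : t * ((d a : A) : N) * t⁻¹ = ((d a : A) : N)⁻¹ := by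
            show t * (t * a * t⁻¹ * (a : N)⁻¹) * t⁻¹ = (t * a * t⁻¹ * (a : N)⁻¹)⁻¹
            have hti : t⁻¹ = t := inv_eq_of_mul_eq_one_right ht2
            calc t * (t * a * t⁻¹ * (a : N)⁻¹) * t⁻¹ = (t * t) * a * t⁻¹ * ((a : N)⁻¹ * t⁻¹) := by group
              _ = (a : N) * t * ((a : N)⁻¹ * t⁻¹) := by rw [ht2, one_mul, hti]
              _ = _ := by group
          rw [h1] at h3
          nth_rewrite 2 [h3]
          exact mul_inv_cancel _
        have h4 := hexp _ (d a).2
        rw [← Nat.div_add_mod p 2, hodd, pow_succ, pow_mul, pow_two, h2, one_pow, one_mul] at h4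
        exact Subgroup.mem_bot.mpr h4
      intro x hx
      rw [← hCK] at hx
      have hfix : ∀ l, l ∈ C ∨ l ∈ K → (a * b * a⁻¹ * b⁻¹) * l * (a * b * a⁻¹ * b⁻¹)⁻¹ = l := by
        intro l hl
        rcases hl with hl | hl
        · have h := hsq C hCn hci a b ((b * a)⁻¹ * l * (b * a)) (by simpa using hCn.conj_mem l hl (b * a)⁻¹)
          simpa [mul_assoc] using h
        · have h := hsq K hKn hKc a b ((b * a)⁻¹ * l * (b * a)) (by simpa using hKn.conj_mem l hl (b * a)⁻¹)
          simpa [mul_assoc] using h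
      have hle : C ⊔ K ≤ Subgroup.centralizer ({a * b * a⁻¹ * b⁻¹} : Set N) := sup_le
        (fun l hl => Subgroup.mem_centralizer_singleton_iff.mpr (mul_inv_eq_iff_eq_mul.mp (hfix l (Or.inl hl))).symm)
        (fun l hl => Subgroup.mem_centralizer_singleton_iff.mpr (mul_inv_eq_iff_eq_mul.mp (hfix l (Or.inr hl))).symm)
      exact Subgroup.mem_centralizer_singleton_iff.mp (hle hx)
    have key : ∀ u v : Matrix.SpecialLinearGroup (Fin 2) F, u * v = v * u := by
      intro u v
      obtain ⟨a, ha⟩ := QuotientGroup.mk'_surjective A (e.symm u)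
      obtain ⟨b, hb⟩ := QuotientGroup.mk'_surjective A (e.symm v)
      apply e.symm.injective
      rw [map_mul, map_mul, ← ha, ← hb, ← map_mul, ← map_mul, QuotientGroup.mk'_apply, QuotientGroup.mk'_apply, QuotientGroup.eq]
      simpa [mul_assoc] using hder b⁻¹ a⁻¹
    have hu : Matrix.det !![(1 : F), 1; 0, 1] = 1 := by simp [Matrix.det_fin_two]
    have hv : Matrix.det !![(1 : F), 0; 1, 1] = 1 := by simp [Matrix.det_fin_two]
    have h : !![(1 : F), 1; 0, 1] * !![(1 : F), 0; 1, 1] = !![(1 : F), 0; 1, 1] * !![(1 : F), 1; 0, 1] :=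
      congrArg Subtype.val (key ⟨_, hu⟩ ⟨_, hv⟩)
    have h00 := congrFun (congrFun h 0) 0
    simp [Matrix.mul_apply, Fin.sum_univ_two] at h00
  refine ⟨Subgroup.centralizer ({t} : Set N), hfree, top_le_iff.mp fun n _ => ?_⟩
  have hinj : Function.Injective d := by
    rw [injective_iff_map_eq_one]
    intro a ha
    have h2 : t * a * t⁻¹ * (a : N)⁻¹ = 1 := congrArg Subtype.val ha
    rw [mul_inv_eq_one, mul_inv_eq_iff_eq_mul] at h2
    exact Subtype.ext (Subgroup.mem_bot.mp (hfree ▸ (⟨a.2, Subgroup.mem_centralizer_singleton_iff.mpr h2.symm⟩ : (a : N) ∈ C)))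
  obtain ⟨a, ha⟩ := Finite.injective_iff_surjective.mp hinj (⟨n * t * n⁻¹ * t⁻¹, htc n⟩⁻¹)
  have ha' : t * a * t⁻¹ * (a : N)⁻¹ = (n * t * n⁻¹ * t⁻¹)⁻¹ := congrArg Subtype.val ha
  have h1 : n * t * n⁻¹ = (a : N) * t * (a : N)⁻¹ := by
    have h2 := congrArg (fun z => z⁻¹ * t) ha'
    simp only [inv_inv, mul_inv_rev, inv_mul_cancel_right] at h2
    rw [← h2]; group
  have h3 : (a : N)⁻¹ * n ∈ Subgroup.centralizer ({t} : Set N) := by
    refine Subgroup.mem_centralizer_singleton_iff.mpr ?_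
    calc (a : N)⁻¹ * n * t = (a : N)⁻¹ * (n * t * n⁻¹) * n := by group
      _ = (a : N)⁻¹ * ((a : N) * t * (a : N)⁻¹) * n := by rw [h1]
      _ = _ := by group
  have := Subgroup.mul_mem (A ⊔ Subgroup.centralizer ({t} : Set N)) (Subgroup.mem_sup_left a.2) (Subgroup.mem_sup_right h3)
  rwa [mul_inv_cancel_left] at this

end Cfsg.Agent.S3075
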