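import Cfsg.Statements.S3076
import Cfsg.Agent.Lib.Basic
import Cfsg.Agent.Lib.SylowExtra
import Cfsg.Agent.Lib.Comp.PComp
import Cfsg.Agent.Lib.PRegularClass
import Mathlib.GroupTheory.Transfer
-- import your own Cfsg.Agent.* helpers here

set_option autoImplicit false
open Cfsg

namespace Cfsg.Agent.S3076

/-- Let P be a Sylow p-subgroup of the finite group G and H ≤ P a subgroup with N_P(H) a Sylow p-subgroup of N_G(H). Let N be the preimage in N_G(H) of O_p(N_G(H)/C_G(H)). Then H is a Sylow p-subgroup of N if and only if C_P(H) ≤ H and O_{p',p}(N_G(H)) = H·C_G(H). -/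
theorem result {G : Type*} [Group G] [Finite G] {p : ℕ} [Fact p.Prime]
    (P : Sylow p G) (H : Subgroup G) (hHP : H ≤ (P : Subgroup G))
    (hSyl : ¬ p ∣ ((P : Subgroup G) ⊓ Subgroup.normalizer (H : Set G)).relIndex (Subgroup.normalizer (H : Set G)))
    [hC : ((Subgroup.centralizer (H : Set G)).subgroupOf (Subgroup.normalizer (H : Set G))).Normal] :
    (H ≤ ((Cfsg.pCore p (↥(Subgroup.normalizer (H : Set G)) ⧸
              (Subgroup.centralizer (H : Set G)).subgroupOf (Subgroup.normalizer (H : Set G)))).comap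
            (QuotientGroup.mk' _)).map (Subgroup.normalizer (H : Set G)).subtype ∧
      ¬ p ∣ H.relIndex (((Cfsg.pCore p (↥(Subgroup.normalizer (H : Set G)) ⧸
              (Subgroup.centralizer (H : Set G)).subgroupOf (Subgroup.normalizer (H : Set G)))).comap
            (QuotientGroup.mk' _)).map (Subgroup.normalizer (H : Set G)).subtype)) ↔
    ((P : Subgroup G) ⊓ Subgroup.centralizer (H : Set G) ≤ H ∧
      (Cfsg.pPrimePCore p ↥(Subgroup.normalizer (H : Set G))).map (Subgroup.normalizer (H : Set G)).subtype =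
        H ⊔ Subgroup.centralizer (H : Set G)) := by
  set M := Subgroup.normalizer (H : Set G) with hM
  set C := (Subgroup.centralizer (H : Set G)).subgroupOf M with hCdef
  set N := (Cfsg.pCore p (↥M ⧸ C)).comap (QuotientGroup.mk' C) with hNdef
  have hHM : H ≤ M := Subgroup.le_normalizer
  have hCM : Subgroup.centralizer (H : Set G) ≤ M := Subgroup.centralizer_le_normalizer _
  set A := H.subgroupOf M with hAdef
  haveI : A.Normal := Subgroup.normal_subgroupOf_iff_le_normalizer hHM |>.2 le_rfl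
  have hS : IsPGroup p ((P : Subgroup G).subgroupOf M) :=
    P.2.comap_of_injective _ Subtype.val_injective
  have hSi : ¬ p ∣ ((P : Subgroup G).subgroupOf M).index := by
    have e : ((P : Subgroup G) ⊓ M).relIndex M = ((P : Subgroup G).subgroupOf M).index :=
      Subgroup.inf_relIndex_right _ _
    exact e ▸ hSyl
  set S := (P : Subgroup G).subgroupOf M with hSdef
  have hAS : A ≤ S := fun x hx => hHP hx
  have hA : IsPGroup p A := hS.to_le hAS
  have hCA : ∀ y ∈ C, ∀ a ∈ A, a * y = y * a := fun y hy a ha =>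
    Subtype.ext (Subgroup.mem_centralizer_iff.1 hy a ha)
  have hAN : A ≤ N := by
    intro a ha
    haveI : (A.map (QuotientGroup.mk' C)).Normal :=
      Subgroup.Normal.map inferInstance _ (QuotientGroup.mk'_surjective C)
    exact CfsgLib.le_pCore (hA.map _) (Subgroup.mem_map_of_mem _ ha)
  have hCN : C ≤ N := fun c hc => by
    show QuotientGroup.mk' C c ∈ Cfsg.pCore p _
    rw [show QuotientGroup.mk' C c = 1 from (QuotientGroup.eq_one_iff (N := C) c).2 hc]
    exact one_mem _
  have hNpow : ∀ x ∈ N, ∃ n : ℕ, x ^ p ^ n ∈ C := by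
    intro x hx
    obtain ⟨n, hn⟩ := CfsgLib.isPGroup_pCore p (G := ↥M ⧸ C) ⟨_, hx⟩
    refine ⟨n, (QuotientGroup.eq_one_iff (N := C) _).1 ?_⟩
    exact (map_pow (QuotientGroup.mk' C) x _).trans (congrArg Subtype.val hn)
  set K := Cfsg.pPrimeCore p ↥M with hKdef
  set L := Cfsg.pPrimePCore p ↥M with hLdef
  have hKC : K ≤ C := by
    intro k hk
    refine Subgroup.mem_centralizer_iff.2 (fun a ha => ?_)
    have hd : Disjoint A K := disjoint_iff.2 (Subgroup.inf_eq_bot_of_coprime (by
      obtain ⟨n, hn⟩ := hA.exists_card_eq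
      rw [hn]
      exact Nat.Coprime.pow_left _ (CfsgLib.card_pPrimeCore_coprime p).symm))
    exact congrArg Subtype.val
      ((Subgroup.commute_of_normal_of_disjoint A K inferInstance inferInstance hd ⟨a, hHM ha⟩ k ha hk).eq)
  have hLpow : ∀ x ∈ L, ∃ n : ℕ, x ^ p ^ n ∈ K := by
    intro x hx
    obtain ⟨n, hn⟩ := CfsgLib.isPGroup_pCore p (G := ↥M ⧸ K) ⟨_, hx⟩
    refine ⟨n, (QuotientGroup.eq_one_iff (N := K) _).1 ?_⟩
    exact (map_pow (QuotientGroup.mk' K) x _).trans (congrArg Subtype.val hn)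
  have hLN : L ≤ N := by
    intro x hx
    haveI : L.Normal := by rw [hLdef, Cfsg.pPrimePCore]; infer_instance
    haveI : (L.map (QuotientGroup.mk' C)).Normal :=
      Subgroup.Normal.map inferInstance _ (QuotientGroup.mk'_surjective C)
    refine CfsgLib.le_pCore ?_ (Subgroup.mem_map_of_mem _ hx)
    rintro ⟨_, y, hy, rfl⟩
    obtain ⟨n, hn⟩ := hLpow y hy
    refine ⟨n, Subtype.ext ?_⟩
    rw [SubgroupClass.coe_pow, ← map_pow]
    exact (QuotientGroup.eq_one_iff (N := C) _).2 (hKC hn)
  have hNL : (∀ y ∈ C, ∃ n : ℕ, y ^ p ^ n ∈ K) → N ≤ L := by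
    intro hy x hx
    haveI : N.Normal := by rw [hNdef]; infer_instance
    haveI : (N.map (QuotientGroup.mk' K)).Normal :=
      Subgroup.Normal.map inferInstance _ (QuotientGroup.mk'_surjective K)
    refine CfsgLib.le_pCore ?_ (Subgroup.mem_map_of_mem _ hx)
    rintro ⟨_, w, hw, rfl⟩
    obtain ⟨n, hn⟩ := hNpow w hw
    obtain ⟨m, hm⟩ := hy _ hn
    refine ⟨n + m, Subtype.ext ?_⟩
    rw [SubgroupClass.coe_pow, ← map_pow, pow_add, pow_mul]
    exact (QuotientGroup.eq_one_iff (N := K) _).2 hm
  have hSC : ¬ p ∣ (S ⊓ C).relIndex C := by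
    rw [Subgroup.inf_relIndex_right]
    exact fun h => hSi (h.trans (CfsgLib.relIndex_dvd_index_of_normal_top S C))
  have hrelA : H.relIndex (N.map M.subtype) = A.relIndex N := by
    rw [← Subgroup.map_subgroupOf_eq_of_le hHM, Subgroup.relIndex_map_map_of_injective _ _ Subtype.val_injective]
  have key : (A ≤ N ∧ ¬ p ∣ A.relIndex N) ↔ (S ⊓ C ≤ A ∧ L = A ⊔ C) := by
    constructor
    · rintro ⟨-, hp⟩
      have h1 : S ⊓ C ≤ A := by
        have hB : IsPGroup p ↥(A ⊔ S ⊓ C) := hS.to_le (sup_le hAS inf_le_left)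
        have hd : A.relIndex (A ⊔ S ⊓ C) ∣ A.relIndex N := by
          rw [← Subgroup.relIndex_mul_relIndex A (A ⊔ S ⊓ C) N le_sup_left (sup_le hAN (inf_le_right.trans hCN))]
          exact dvd_mul_right _ _
        obtain ⟨n, hn⟩ := hB.exists_card_eq
        obtain ⟨j, -, hj⟩ := (Nat.dvd_prime_pow Fact.out).1 (hn ▸ Subgroup.relIndex_dvd_card A (A ⊔ S ⊓ C))
        have hj0 : j = 0 := by
          by_contra hj0
          exact hp ((dvd_pow_self p hj0).trans (hj ▸ hd))
        rw [hj0, pow_zero] at hj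
        exact le_sup_right.trans (Subgroup.relIndex_eq_one.1 hj)
      refine ⟨h1, le_antisymm (hLN.trans ?_) ?_⟩
      · have hd1 : (A ⊔ C).relIndex N ∣ A.relIndex N := Subgroup.relIndex_dvd_of_le_left N le_sup_left
        have hd2 : (A ⊔ C).relIndex N ∣ C.relIndex N := Subgroup.relIndex_dvd_of_le_left N le_sup_right
        have hcard : C.relIndex N = Nat.card (Cfsg.pCore p (↥M ⧸ C)) := by
          conv_lhs => rw [← QuotientGroup.ker_mk' C, ← MonoidHom.comap_bot, hNdef,
            Subgroup.relIndex_comap]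
          rw [Subgroup.map_comap_eq_self_of_surjective (QuotientGroup.mk'_surjective C), Subgroup.relIndex_bot_left]
        obtain ⟨n, hn⟩ := (CfsgLib.isPGroup_pCore p (G := ↥M ⧸ C)).exists_card_eq
        rw [hcard, hn] at hd2
        obtain ⟨j, -, hj⟩ := (Nat.dvd_prime_pow Fact.out).1 hd2
        have hj0 : j = 0 := by
          by_contra hj0
          exact hp ((dvd_pow_self p hj0).trans (hj ▸ hd1))
        rw [hj0, pow_zero] at hj
        exact Subgroup.relIndex_eq_one.1 hj
      · have hpw : ∀ y ∈ C, ∃ n : ℕ, y ^ p ^ n ∈ K := by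
          let Q : Sylow p C := IsPGroup.toSylow (P := (S ⊓ C).subgroupOf C)
            ((hS.to_le inf_le_left).comap_of_injective _ Subtype.val_injective) hSC
          have hQ : (Q : Subgroup C) = (S ⊓ C).subgroupOf C := rfl
          have hn : Subgroup.normalizer ((Q : Subgroup C) : Set C) ≤ Subgroup.centralizer ((Q : Subgroup C) : Set C) := by
            intro y _
            refine Subgroup.mem_centralizer_iff.2 (fun q hq => Subtype.ext ?_)
            exact hCA y y.2 q (h1 hq)
          have hc := MonoidHom.ker_transferSylow_isComplement' Q hn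
          set D := (MonoidHom.transferSylow Q hn).ker with hD
          have hDc : (Nat.card D).Coprime p := by
            rw [← hc.index_eq_card]
            exact ((Fact.out : p.Prime).coprime_iff_not_dvd.2 Q.not_dvd_index).symm
          have hDK : D.map C.subtype ≤ K := by
            refine (Subgroup.map_mono (CfsgLib.le_pPrimeCore (N := D) hDc)).trans ?_
            refine CfsgLib.le_pPrimeCore ?_
            rw [Subgroup.card_subtype]
            exact CfsgLib.card_pPrimeCore_coprime p
          intro y hy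
          obtain ⟨n, hn'⟩ := Q.2.exists_card_eq
          refine ⟨n, hDK ⟨(⟨y, hy⟩ : C) ^ p ^ n, ?_, by simp⟩⟩
          have := Subgroup.pow_index_mem D (⟨y, hy⟩ : C)
          rwa [hc.symm.index_eq_card, hn'] at this
        exact (sup_le hAN hCN).trans (hNL hpw)
    · rintro ⟨h1, hL⟩
      have hN : N ≤ A ⊔ C := hL ▸ hNL (fun y hy => hLpow y (hL ▸ le_sup_right (a := A) hy))
      refine ⟨hAN, fun hd => ?_⟩
      have e : A.relIndex N = A.relIndex C := by
        rw [le_antisymm hN (sup_le hAN hCN), sup_comm, Subgroup.relIndex_sup_right]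
      rw [e] at hd
      exact hSC (hd.trans (Subgroup.relIndex_dvd_of_le_left C h1))
  have eC : (P : Subgroup G) ⊓ Subgroup.centralizer (H : Set G) ≤ H ↔ S ⊓ C ≤ A :=
    ⟨fun h x hx => h (Subgroup.mem_inf.2 ⟨hx.1, hx.2⟩), fun h x hx => h (x := ⟨x, hCM hx.2⟩) ⟨hx.1, hx.2⟩⟩
  have eL : L.map M.subtype = H ⊔ Subgroup.centralizer (H : Set G) ↔ L = A ⊔ C := by
    have e : H ⊔ Subgroup.centralizer (H : Set G) = (A ⊔ C).map M.subtype := by
      rw [Subgroup.map_sup, Subgroup.map_subgroupOf_eq_of_le hHM, Subgroup.map_subgroupOf_eq_of_le hCM]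
    rw [e]
    exact (Subgroup.map_injective Subtype.val_injective).eq_iff
  have eH : H ≤ N.map M.subtype := by
    rw [← Subgroup.map_subgroupOf_eq_of_le hHM]; exact Subgroup.map_mono hAN
  rw [eC, eL, hrelA]
  exact ⟨fun h => key.1 ⟨hAN, h.2⟩, fun h => ⟨eH, (key.2 h).2⟩⟩

end Cfsg.Agent.S3076
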