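import Cfsg.Statements.S3078
import Cfsg.Agent.Lib.PReduced
-- import your own Cfsg.Agent.* helpers here

set_option autoImplicit false
open Cfsg

namespace Cfsg.Agent.S3078

open scoped commutatorElement

variable {G : Type*} [Group G]

/-- The commutator `a⁻¹ b⁻¹ a b`. -/
def kc (a b : G) : G := a⁻¹ * b⁻¹ * a * b

theorem kc_eq (a b : G) : kc a b = ⁅a⁻¹, b⁻¹⁆ := by simp [kc, commutatorElement_def]

theorem kc_self_eq {a b : G} : kc a b = 1 ↔ a * b = b * a := by
  constructor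
  · intro h
    calc a * b = b * a * kc a b := by simp only [kc]; group
      _ = b * a := by rw [h, mul_one]
  · intro h
    calc kc a b = (b * a)⁻¹ * (a * b) := by simp only [kc]; group
      _ = 1 := by rw [h, inv_mul_cancel]

theorem kc_mem_of_normalizer {A : Subgroup G} {u a : G} (hu : u ∈ Subgroup.normalizer (A : Set G))
    (ha : a ∈ A) : kc u a ∈ A := by
  refine A.mul_mem ?_ ha
  have h := (Subgroup.mem_normalizer_iff.mp (inv_mem hu) a⁻¹).mp (A.inv_mem ha)
  simpa [mul_assoc] using h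

theorem kc_mem_of_normalizer' {A : Subgroup G} {a y : G} (ha : a ∈ A)
    (hy : y ∈ Subgroup.normalizer (A : Set G)) : kc a y ∈ A := by
  have e : kc a y = (kc y a)⁻¹ := by simp only [kc]; group
  rw [e]
  exact A.inv_mem (kc_mem_of_normalizer hy ha)

/-- The data of the replacement: a class two subgroup `B` and an element `x` of it. -/
structure Setup (A B : Subgroup G) (x : G) : Prop where
  comm : ∀ a ∈ A, ∀ b ∈ A, a * b = b * a
  cent : ∀ a ∈ B, ∀ b ∈ B, ∀ c ∈ B, c * kc a b = kc a b * c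
  derived : ∀ a ∈ B, ∀ b ∈ B, kc a b ∈ A
  xB : x ∈ B
  uB : ∀ a ∈ A, kc a x ∈ B
  uN : ∀ a ∈ A, kc a x ∈ Subgroup.normalizer (A : Set G)
  uN' : ∀ a ∈ A, kc a x⁻¹ ∈ Subgroup.normalizer (A : Set G)
  conjB : ∀ a ∈ A, ∀ b ∈ B, a⁻¹ * b * a ∈ B

variable {A B : Subgroup G} {x : G}

theorem u_mul (a b : G) : kc (a * b) x = kc a x * kc (kc a x) b * kc b x := by
  simp only [kc]; group

theorem Setup.kc_mul_left (h : Setup A B x) {a b c : G} (ha : a ∈ B) (hb : b ∈ B) (hc : c ∈ B) :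
    kc (a * b) c = kc a c * kc b c := by
  calc kc (a * b) c = b⁻¹ * kc a c * b * kc b c := by simp only [kc]; group
    _ = b⁻¹ * (b * kc a c) * kc b c := by rw [h.cent a ha c hc b hb]; group
    _ = _ := by group

theorem Setup.kc_mul_right (h : Setup A B x) {a b c : G} (ha : a ∈ B) (hb : b ∈ B) (hc : c ∈ B) :
    kc a (b * c) = kc a b * kc a c := by
  calc kc a (b * c) = kc a c * (c⁻¹ * (kc a b * c)) := by simp only [kc]; group
    _ = kc a c * (c⁻¹ * (c * kc a b)) := by rw [h.cent a ha b hb c hc]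
    _ = kc a c * kc a b := by group
    _ = _ := (h.cent a ha b hb _ (by
        unfold kc
        exact mul_mem (mul_mem (mul_mem (inv_mem ha) (inv_mem hc)) ha) hc))

theorem Setup.g_mem (h : Setup A B x) {a b : G} (ha : a ∈ A) (hb : b ∈ A) : kc (kc a x) b ∈ A :=
  kc_mem_of_normalizer (h.uN a ha) hb

theorem Setup.g_memB (h : Setup A B x) {a b : G} (ha : a ∈ A) (hb : b ∈ A) : kc (kc a x) b ∈ B := by
  have e : kc (kc a x) b = (kc a x)⁻¹ * (b⁻¹ * kc a x * b) := by simp only [kc]; group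
  rw [e]
  exact mul_mem (inv_mem (h.uB a ha)) (h.conjB b hb _ (h.uB a ha))

theorem Setup.g_conj_mem (h : Setup A B x) {a b : G} (ha : a ∈ A) (hb : b ∈ A) :
    x * kc (kc a x) b * x⁻¹ ∈ A := by
  have e1 : kc (kc a x) b = kc (x⁻¹ * a * x) b := by
    have hc : a * b⁻¹ * a⁻¹ = b⁻¹ := by
      rw [h.comm a ha b⁻¹ (A.inv_mem hb), mul_inv_cancel_right]
    calc kc (kc a x) b = x⁻¹ * a⁻¹ * x * (a * b⁻¹ * a⁻¹) * (x⁻¹ * a * x) * b := by simp only [kc]; group
      _ = kc (x⁻¹ * a * x) b := by rw [hc]; simp only [kc]; group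
  have e2 : x * kc (x⁻¹ * a * x) b * x⁻¹ = kc a (b * kc b x⁻¹) := by simp only [kc]; group
  rw [e1, e2]
  exact kc_mem_of_normalizer' ha (mul_mem (Subgroup.le_normalizer hb) (h.uN' b hb))

theorem Setup.g_comm_u (h : Setup A B x) {a b c : G} (ha : a ∈ A) (hb : b ∈ A) (hc : c ∈ A) :
    Commute (kc (kc a x) b) (kc c x) := by
  have h1 : Commute (kc (kc a x) b) c := h.comm _ (h.g_mem ha hb) c hc
  have h2 : Commute (x * kc (kc a x) b * x⁻¹) c := h.comm _ (h.g_conj_mem ha hb) c hc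
  have h3 : Commute (kc (kc a x) b) (x⁻¹ * c * x) := by
    show _ = _
    calc kc (kc a x) b * (x⁻¹ * c * x) = x⁻¹ * (x * kc (kc a x) b * x⁻¹ * c) * x := by group
      _ = x⁻¹ * (c * (x * kc (kc a x) b * x⁻¹)) * x := by rw [h2.eq]
      _ = _ := by group
  have e : kc c x = c⁻¹ * (x⁻¹ * c * x) := by simp only [kc]; group
  rw [e]
  exact h1.inv_right.mul_right h3

theorem Setup.f_g (h : Setup A B x) {a b : G} (ha : a ∈ A) (hb : b ∈ A) :
    kc (kc a x) (kc b x) * kc (kc a x) b = kc (kc b x) a := by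
  have h1 := u_mul (x := x) a b
  rw [h.comm a ha b hb, u_mul] at h1
  have c1 := h.g_comm_u ha hb hb
  have c2 := h.g_comm_u hb ha ha
  rw [mul_assoc _ (kc (kc b x) a), c2.eq, mul_assoc _ (kc (kc a x) b), c1.eq, ← mul_assoc,
    ← mul_assoc] at h1
  calc kc (kc a x) (kc b x) * kc (kc a x) b
      = (kc b x * kc a x)⁻¹ * (kc a x * kc b x * kc (kc a x) b) := by simp only [kc]; group
    _ = (kc b x * kc a x)⁻¹ * (kc b x * kc a x * kc (kc b x) a) := by rw [h1]
    _ = _ := by group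

theorem Setup.f_eq (h : Setup A B x) {a b : G} (ha : a ∈ A) (hb : b ∈ A) :
    kc (kc (kc b x) a) x = kc (kc b x) (kc a x) := by
  set u := kc a x with hu
  set v := kc b x with hv
  set g := kc v a with hg
  have huB := h.uB a ha
  have hvB := h.uB b hb
  have hgB : g ∈ B := h.g_memB hb ha
  have hz : a⁻¹ * kc v x * a = kc v x := by
    rw [mul_assoc, h.comm _ (h.derived v hvB x h.xB) a ha, inv_mul_cancel_left]
  have e : a⁻¹ * kc v x * a = kc (v * g) (x * u⁻¹) := by simp only [hu, hg, kc]; group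
  rw [e, h.kc_mul_right (mul_mem hvB hgB) h.xB (inv_mem huB), h.kc_mul_left hvB hgB h.xB,
    h.kc_mul_left hvB hgB (inv_mem huB)] at hz
  have h1 : kc g u⁻¹ = 1 := kc_self_eq.mpr (h.g_comm_u hb ha ha).inv_right.eq
  have h2 : kc v u⁻¹ = (kc v u)⁻¹ := by
    have := h.kc_mul_right hvB huB (inv_mem huB)
    rw [mul_inv_cancel, kc_self_eq.mpr (by simp)] at this
    exact (inv_eq_of_mul_eq_one_right this.symm).symm
  rw [h1, h2, mul_one, mul_assoc, mul_eq_left, mul_inv_eq_one] at hz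
  exact hz

theorem Setup.f_one [Finite G] (h : Setup A B x) {p : ℕ} [Fact p.Prime] (hp : p ≠ 2)
    (hG : IsPGroup p G) {a b : G} (ha : a ∈ A) (hb : b ∈ A) :
    kc a x * kc b x = kc b x * kc a x := by
  set u := kc a x with hu
  set v := kc b x with hv
  have huB := h.uB a ha
  have hvB := h.uB b hb
  have hfB : kc u v ∈ B := mul_mem (mul_mem (mul_mem (inv_mem huB) (inv_mem hvB)) huB) hvB
  have h1 : kc v u = kc (kc v a) x := (h.f_eq ha hb).symm
  have h2 : kc u v = kc (kc u b) x := (h.f_eq hb ha).symm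
  have h3 : kc (kc u v) x = 1 := kc_self_eq.mpr (h.cent u huB v hvB x h.xB).symm
  rw [← h.f_g ha hb, h.kc_mul_left hfB (h.g_memB ha hb) h.xB, h3, one_mul, ← h2] at h1
  have h4 : kc v u = (kc u v)⁻¹ := by simp only [kc]; group
  have h5 : kc u v ^ 2 = 1 := by
    rw [pow_two]
    nth_rewrite 1 [← h1]
    rw [h4, inv_mul_cancel]
  refine kc_self_eq.mp ?_
  obtain ⟨k, hk⟩ := hG (kc u v)
  have hp' : p.Prime := Fact.out
  have hcop : Nat.Coprime 2 (p ^ k) :=
    Nat.Coprime.pow_right k ((Nat.coprime_primes Nat.prime_two hp').mpr (Ne.symm hp))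
  have := pow_gcd_eq_one.mpr ⟨h5, hk⟩
  rwa [hcop.gcd_eq_one, pow_one] at this

theorem Setup.g_symm [Finite G] (h : Setup A B x) {p : ℕ} [Fact p.Prime] (hp : p ≠ 2)
    (hG : IsPGroup p G) {a b : G} (ha : a ∈ A) (hb : b ∈ A) :
    kc (kc a x) b = kc (kc b x) a := by
  rw [← h.f_g ha hb, kc_self_eq.mpr (h.f_one hp hG ha hb), one_mul]

theorem Setup.u_pow_eq_one [Finite G] (h : Setup A B x) {p : ℕ} [Fact p.Prime] (hp : p ≠ 2)
    (hG : IsPGroup p G) {a : G} (ha : a ∈ A) {n : ℕ} (hn : Odd n) (han : a ^ n = 1) :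
    kc a x ^ n = 1 := by
  set u := kc a x with hu
  set g := kc u a with hg
  have hgA : g ∈ A := h.g_mem ha ha
  have hlin : ∀ m : ℕ, kc u (a ^ m) = g ^ m := by
    intro m
    induction m with
    | zero => simp [kc]
    | succ m ih =>
      rw [pow_succ, pow_succ' g, ← ih]
      calc kc u (a ^ m * a) = g * (a⁻¹ * kc u (a ^ m) * a) := by simp only [hg, kc]; group
        _ = g * kc u (a ^ m) := by
          rw [mul_assoc a⁻¹, h.comm _ (ih ▸ pow_mem hgA m) a ha, inv_mul_cancel_left]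
  have hpow : ∀ m : ℕ, kc (a ^ m) x = u ^ m * g ^ m.choose 2 := by
    intro m
    induction m with
    | zero => simp [kc]
    | succ m ih =>
      have hgm : kc (kc (a ^ m) x) a = g ^ m := by
        rw [h.g_symm hp hG (pow_mem ha m) ha, hlin]
      have hgu : Commute g u := h.g_comm_u ha ha ha
      rw [pow_succ a, u_mul, hgm, ih, Nat.choose_succ_succ, Nat.choose_one_right, pow_succ u]
      calc u ^ m * g ^ m.choose 2 * g ^ m * u = u ^ m * (g ^ (m.choose 2 + m) * u) := by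
            rw [pow_add]; simp only [mul_assoc]
        _ = u ^ m * (u * g ^ (m + m.choose 2)) := by rw [(hgu.pow_left _).eq, add_comm]
        _ = _ := by simp only [mul_assoc]
  have h1 := hpow n
  rw [han] at h1
  have h2 : g ^ n = 1 := by rw [← hlin, han]; simp [kc]
  obtain ⟨k, rfl⟩ := hn
  have h3 : (2 * k + 1).choose 2 = (2 * k + 1) * k := by
    rw [Nat.choose_two_right, Nat.add_sub_cancel, show (2 * k + 1) * (2 * k) = 2 * ((2 * k + 1) * k) by ring,
      Nat.mul_div_cancel_left _ two_pos]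
  rw [h3, pow_mul g, h2, one_pow, mul_one] at h1
  rw [← h1]
  simp [kc]

/-- Comparing two subgroups through a homomorphism to a common group. -/
theorem card_le_of_hom [Finite G] {Q : Type*} [Group Q] {S W : Subgroup G} (f : S →* Q) (g : W →* Q)
    (hrange : f.range ≤ g.range) (hker : ∀ s : S, f s = 1 → ∃ w : W, (w : G) = s ∧ g w = 1) :
    Nat.card S ≤ Nat.card W := by
  have h1 : Nat.card f.ker ≤ Nat.card g.ker := by
    choose w hw hw' using fun s : f.ker => hker s.1 s.2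
    refine Nat.card_le_card_of_injective (fun s => (⟨w s, hw' s⟩ : g.ker)) fun s t hst => ?_
    apply Subtype.ext
    apply Subtype.ext
    rw [← hw s, ← hw t]
    exact congrArg (fun z : g.ker => ((z : W) : G)) hst
  rw [← f.ker.card_mul_index, ← g.ker.card_mul_index, Subgroup.index_ker, Subgroup.index_ker]
  refine Nat.mul_le_mul h1 ?_
  rcases finite_or_infinite g.range with hfin | hinf
  · exact Nat.card_le_card_of_injective (Subgroup.inclusion hrange) (Subgroup.inclusion_injective _)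
  · exact absurd (Finite.of_surjective g.rangeRestrict g.rangeRestrict_surjective) (not_finite_iff_infinite.mpr hinf)

/-- Adjoining an element with `p`-th power inside. -/
theorem card_sup_zpowers_le [Finite G] {p : ℕ} (hp : 0 < p) {H : Subgroup G} {z : G}
    (hcomm : ∀ h ∈ H, Commute h z) (hz : z ^ p ∈ H) :
    Nat.card (H ⊔ Subgroup.zpowers z : Subgroup G) ≤ p * Nat.card H := by
  let T : Subgroup G :=
    { carrier := {g | ∃ h ∈ H, ∃ i : ℤ, g = h * z ^ i}
      one_mem' := ⟨1, H.one_mem, 0, by simp⟩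
      mul_mem' := by
        rintro _ _ ⟨h, hh, i, rfl⟩ ⟨k, hk, j, rfl⟩
        refine ⟨h * k, H.mul_mem hh hk, i + j, ?_⟩
        rw [zpow_add, mul_assoc h, ← mul_assoc (z ^ i), ← ((hcomm k hk).zpow_right i).eq]
        simp only [mul_assoc]
      inv_mem' := by
        rintro _ ⟨h, hh, i, rfl⟩
        refine ⟨h⁻¹, H.inv_mem hh, -i, ?_⟩
        rw [mul_inv_rev, zpow_neg, ((hcomm h hh).zpow_right i).inv_inv.eq] }
  have hle : H ⊔ Subgroup.zpowers z ≤ T := by
    refine sup_le (fun h hh => ⟨h, hh, 0, by simp⟩) ?_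
    rintro _ ⟨i, rfl⟩
    exact ⟨1, H.one_mem, i, by simp⟩
  refine (Subgroup.card_le_of_le hle).trans ?_
  have : Nat.card (Fin p × H) = p * Nat.card H := by rw [Nat.card_prod, Nat.card_fin]
  rw [← this]
  refine Nat.card_le_card_of_surjective (fun s => (⟨(s.2 : G) * z ^ (s.1 : ℕ), s.2, s.2.2,
    ((s.1 : ℕ) : ℤ), by rw [zpow_natCast]⟩ : T)) ?_
  rintro ⟨_, h, hh, i, rfl⟩
  have hp' : (p : ℤ) ≠ 0 := by exact_mod_cast hp.ne'
  have h0 := Int.emod_nonneg i hp'
  have h1 : i % (p : ℤ) < p := Int.emod_lt_of_pos i (by exact_mod_cast hp)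
  refine ⟨(⟨(i % p).toNat, by omega⟩, ⟨h * (z ^ p) ^ (i / p), H.mul_mem hh (zpow_mem hz _)⟩), ?_⟩
  apply Subtype.ext
  show h * (z ^ p) ^ (i / p) * z ^ (i % (p : ℤ)).toNat = h * z ^ i
  rw [← zpow_natCast z (i % (p : ℤ)).toNat, Int.toNat_of_nonneg h0, ← zpow_natCast z p, ← zpow_mul,
    mul_assoc, ← zpow_add, Int.mul_ediv_add_emod]

/-- A subgroup of prescribed order between two subgroups of a `p`-group. -/
theorem exists_between [Finite G] {p : ℕ} [Fact p.Prime] (hG : IsPGroup p G) {H X : Subgroup G}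
    (hHX : H ≤ X) {m : ℕ} (hH : Nat.card H ≤ p ^ m) (hX : p ^ m ≤ Nat.card X) :
    ∃ D : Subgroup G, Nat.card D = p ^ m ∧ H ≤ D ∧ D ≤ X := by
  have hp : p.Prime := Fact.out
  obtain ⟨a, ha⟩ := (hG.to_subgroup H).exists_card_eq
  obtain ⟨b, hb⟩ := (hG.to_subgroup X).exists_card_eq
  rw [ha, Nat.pow_le_pow_iff_right hp.one_lt] at hH
  rw [hb, Nat.pow_le_pow_iff_right hp.one_lt] at hX
  obtain ⟨K, hK, hle⟩ := Sylow.exists_subgroup_card_pow_prime_le (G := X) p
    (show p ^ m ∣ Nat.card X by rw [hb]; exact Nat.pow_dvd_pow p hX) (H.subgroupOf X)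
    (by rw [Nat.card_congr (Subgroup.subgroupOfEquivOfLe hHX).toEquiv, ha]) hH
  refine ⟨K.map X.subtype, by rw [Subgroup.card_map_of_injective X.subtype_injective, hK],
    fun h hh => ⟨⟨h, hHX hh⟩, hle hh, rfl⟩, Subgroup.map_subtype_le K⟩

/-- The `p`-power map of an abelian subgroup. -/
def powHom (p : ℕ) (H : Subgroup G) (hc : ∀ a ∈ H, ∀ b ∈ H, a * b = b * a) : H →* G :=
  MonoidHom.mk' (fun h => (h : G) ^ p) fun a b => by
    rw [Subgroup.coe_mul]
    exact (show Commute (a : G) b from hc a a.2 b b.2).mul_pow p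

theorem card_omega_mul [Finite G] (p : ℕ) (H : Subgroup G) (hc : ∀ a ∈ H, ∀ b ∈ H, a * b = b * a) :
    Nat.card H = Nat.card (Cfsg.omegaOne p H) * Nat.card (powHom p H hc).range := by
  have hk : Nat.card (powHom p H hc).ker = Nat.card (Cfsg.omegaOne p H) := by
    refine Nat.card_congr
      { toFun := fun k => ⟨((k : H) : G), (CfsgLib.PReduced.mem_omegaOne hc).mpr ⟨(k : H).2, k.2⟩⟩
        invFun := fun w => ⟨⟨w, ((CfsgLib.PReduced.mem_omegaOne hc).mp w.2).1⟩,
          ((CfsgLib.PReduced.mem_omegaOne hc).mp w.2).2⟩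
        left_inv := fun k => rfl
        right_inv := fun w => rfl }
  rw [← hk, ← Subgroup.index_ker, Subgroup.card_mul_index]

theorem mem_normalizer_of_forall [Finite G] {b : G}
    (h : ∀ a ∈ A, b⁻¹ * a * b ∈ A) : b ∈ Subgroup.normalizer (A : Set G) := by
  have e : A.map (MulAut.conj b⁻¹).toMonoidHom = A := by
    refine Subgroup.eq_of_le_of_card_ge ?_ (le_of_eq
      (Subgroup.card_map_of_injective (f := (MulAut.conj b⁻¹).toMonoidHom) (MulAut.conj b⁻¹).injective).symm)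
    rintro _ ⟨a, ha, rfl⟩
    simpa using h a ha
  rw [Subgroup.mem_normalizer_iff]
  intro a
  constructor
  · intro ha
    rw [← e] at ha
    obtain ⟨c, hc, hce⟩ := ha
    have hce' : b⁻¹ * c * b = a := by simpa using hce
    rw [← hce']
    simpa [mul_assoc] using hc
  · intro ha
    simpa [mul_assoc] using h _ ha

theorem exists_setup [Finite G] {p : ℕ} [Fact p.Prime] (hG : IsPGroup p G) (A B : Subgroup G)
    (hA : IsMulCommutative A) (hB2 : ⁅⁅B, B⁆, B⁆ = ⊥) (hBA : ⁅B, B⁆ ≤ A)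
    (hAB : A ≤ Subgroup.normalizer (B : Set G)) (hBnA : ¬ B ≤ Subgroup.normalizer (A : Set G)) :
    ∃ x, Setup A B x ∧ x ∉ Subgroup.normalizer (A : Set G) := by
  classical
  have hmem : ∀ a ∈ B, ∀ b ∈ B, kc a b ∈ ⁅B, B⁆ := fun a ha b hb => by
    rw [kc_eq]; exact Subgroup.commutator_mem_commutator (B.inv_mem ha) (B.inv_mem hb)
  have hconj : ∀ a ∈ A, ∀ b ∈ B, a⁻¹ * b * a ∈ B := fun a ha b hb => by
    simpa using (Subgroup.mem_normalizer_iff.mp (hAB (A.inv_mem ha)) b).mp hb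
  have hex : ∃ n, ∀ b ∈ B, b ∈ (⊤ : Subgroup G).lowerCentralSeries n →
      b ∈ Subgroup.normalizer (A : Set G) := by
    have := hG.isNilpotent
    obtain ⟨n, hn⟩ := Subgroup.nilpotent_iff_lowerCentralSeries.mp this
    exact ⟨n, fun b _ hb => by rw [hn, Subgroup.mem_bot] at hb; rw [hb]; exact one_mem _⟩
  obtain ⟨i, hi⟩ : ∃ i, Nat.find hex = i + 1 := by
    refine Nat.exists_eq_add_one_of_ne_zero fun h0 => hBnA fun b hb => ?_
    have := Nat.find_spec hex
    rw [h0] at this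
    exact this b hb (Subgroup.mem_top b)
  have hmin := Nat.find_min hex (show i < Nat.find hex by omega)
  push Not at hmin
  obtain ⟨x, hxB, hxi, hxN⟩ := hmin
  have hspec := Nat.find_spec hex
  rw [hi] at hspec
  have hu : ∀ y : G, y ∈ B → y ∈ (⊤ : Subgroup G).lowerCentralSeries i → ∀ a ∈ A,
      kc a y ∈ B ∧ kc a y ∈ Subgroup.normalizer (A : Set G) := by
    intro y hy hyi a ha
    have hB' : kc a y ∈ B := by
      have e : kc a y = (a⁻¹ * y⁻¹ * a) * y := by simp only [kc]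
      rw [e]
      exact mul_mem (hconj a ha _ (B.inv_mem hy)) hy
    refine ⟨hB', hspec _ hB' ?_⟩
    rw [Subgroup.lowerCentralSeries_succ, Subgroup.commutator_comm, kc_eq]
    exact Subgroup.commutator_mem_commutator (Subgroup.mem_top _) (inv_mem hyi)
  refine ⟨x, ⟨fun a ha b hb => congrArg Subtype.val (mul_comm' (⟨a, ha⟩ : A) ⟨b, hb⟩),
    fun a ha b hb c hc => ?_, fun a ha b hb => hBA (hmem a ha b hb), hxB,
    fun a ha => (hu x hxB hxi a ha).1, fun a ha => (hu x hxB hxi a ha).2,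
    fun a ha => (hu x⁻¹ (B.inv_mem hxB) (inv_mem hxi) a ha).2, hconj⟩, hxN⟩
  exact (Subgroup.mem_centralizer_iff.mp
    (Subgroup.commutator_eq_bot_iff_le_centralizer.mp hB2 (hmem a ha b hb)) c hc)

theorem replacement [Finite G] {p : ℕ} [Fact p.Prime] (hp : p ≠ 2) (hG : IsPGroup p G)
    (A B : Subgroup G) (hA : IsMulCommutative A) (hB2 : ⁅⁅B, B⁆, B⁆ = ⊥) (hBA : ⁅B, B⁆ ≤ A)
    (hAB : A ≤ Subgroup.normalizer (B : Set G)) (hBnA : ¬ B ≤ Subgroup.normalizer (A : Set G)) :
    ∃ Astar : Subgroup G, IsMulCommutative Astar ∧ Nat.card Astar = Nat.card A ∧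
      A ⊓ B < Astar ⊓ B ∧ Astar ≤ Subgroup.normalizer (A : Set G) ∧
      Astar ≤ Subgroup.normalClosure (A : Set G) ∧ Monoid.exponent Astar ∣ Monoid.exponent A ∧
      Nat.card (Cfsg.omegaOne p A) ≤ Nat.card (Cfsg.omegaOne p Astar) := by
  classical
  have hp' : p.Prime := Fact.out
  obtain ⟨x, h, hxN⟩ := exists_setup hG A B hA hB2 hBA hAB hBnA
  set NA := Subgroup.normalizer (A : Set G) with hNA
  set gens : Set G := {g | g ∈ A ∧ kc g x ∈ A} ∪ {g | ∃ a ∈ A, g = kc a x} with hgens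
  have hgcomm : ∀ a ∈ gens, ∀ b ∈ gens, a * b = b * a := by
    have key : ∀ c b : G, c ∈ A → kc c x ∈ A → b ∈ A → c * kc b x = kc b x * c := by
      intro c b hc hc' hb
      have h1 : kc (kc b x) c = 1 := by
        rw [h.g_symm hp hG hb hc]
        exact kc_self_eq.mpr (h.comm _ hc' b hb)
      exact (kc_self_eq.mp h1).symm
    rintro a (⟨ha, ha'⟩ | ⟨a, ha, rfl⟩) b (⟨hb, hb'⟩ | ⟨b, hb, rfl⟩)
    · exact h.comm a ha b hb
    · exact key a b ha ha' hb
    · exact (key b a hb hb' ha).symm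
    · exact h.f_one hp hG ha hb
  set W := Subgroup.closure gens with hWdef
  haveI hWc : IsMulCommutative W := Subgroup.isMulCommutative_closure hgcomm
  have hWcomm : ∀ a ∈ W, ∀ b ∈ W, a * b = b * a :=
    fun a ha b hb => congrArg Subtype.val (mul_comm' (⟨a, ha⟩ : W) ⟨b, hb⟩)
  have hWu : ∀ a ∈ A, kc a x ∈ W := fun a ha => Subgroup.subset_closure (Or.inr ⟨a, ha, rfl⟩)
  have hWC : ∀ a ∈ A, kc a x ∈ A → a ∈ W := fun a ha h' => Subgroup.subset_closure (Or.inl ⟨ha, h'⟩)
  have hWN : W ≤ NA := (Subgroup.closure_le _).mpr (by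
    rintro g (⟨hg, -⟩ | ⟨a, ha, rfl⟩)
    · exact Subgroup.le_normalizer hg
    · exact h.uN a ha)
  have hWnc : W ≤ Subgroup.normalClosure (A : Set G) := (Subgroup.closure_le _).mpr (by
    rintro g (⟨hg, -⟩ | ⟨a, ha, rfl⟩)
    · exact Subgroup.subset_normalClosure hg
    · have hm := Subgroup.subset_normalClosure (s := (A : Set G)) ha
      have e : kc a x = a⁻¹ * (x⁻¹ * a * x) := by simp only [kc]; group
      rw [e]
      refine mul_mem (inv_mem hm) ?_
      simpa using (Subgroup.normalClosure_normal (s := (A : Set G))).conj_mem a hm x⁻¹)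
  obtain ⟨m, hm⟩ := (hG.to_subgroup A).exists_card_eq
  have hWexp : ∀ w ∈ W, w ^ Monoid.exponent A = 1 := by
    have hodd : Odd (Monoid.exponent A) := by
      have hd := Group.exponent_dvd_nat_card (G := A)
      rw [hm] at hd
      exact ((hp'.odd_of_ne_two hp).pow).of_dvd_nat hd
    intro w hw
    induction hw using Subgroup.closure_induction with
    | mem g hg =>
      rcases hg with ⟨hg, -⟩ | ⟨a, ha, rfl⟩
      · exact congrArg Subtype.val (Monoid.pow_exponent_eq_one (⟨g, hg⟩ : A))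
      · exact h.u_pow_eq_one hp hG ha hodd (congrArg Subtype.val (Monoid.pow_exponent_eq_one (⟨a, ha⟩ : A)))
    | one => simp
    | mul a b ha hb iha ihb => rw [(show Commute a b from hWcomm a ha b hb).mul_pow, iha, ihb, one_mul]
    | inv a ha iha => rw [inv_pow, iha, inv_one]
  -- the map modulo A
  let π : NA →* NA ⧸ A.subgroupOf NA := QuotientGroup.mk' _
  let πW : W →* NA ⧸ A.subgroupOf NA := π.comp (Subgroup.inclusion hWN)
  let θ : A →* NA ⧸ A.subgroupOf NA := MonoidHom.mk' (fun a => π ⟨kc a x, h.uN a a.2⟩) (by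
    intro a b
    have hg : π ⟨kc (kc (a : G) x) b, Subgroup.le_normalizer (h.g_mem a.2 b.2)⟩ = 1 :=
      (QuotientGroup.eq_one_iff _).mpr (h.g_mem a.2 b.2)
    rw [← mul_one (π ⟨kc (a : G) x, _⟩), ← hg, ← map_mul, ← map_mul]
    congr 1
    apply Subtype.ext
    exact u_mul (a : G) b)
  have hθ1 : ∀ a : A, θ a = 1 ↔ kc (a : G) x ∈ A := fun a => QuotientGroup.eq_one_iff _
  have hle : Nat.card A ≤ Nat.card W := by
    refine card_le_of_hom θ πW ?_ fun a ha => ⟨⟨a, hWC a a.2 ((hθ1 a).mp ha)⟩, rfl, ?_⟩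
    · rintro _ ⟨a, rfl⟩
      exact ⟨⟨kc a x, hWu a a.2⟩, rfl⟩
    · exact (QuotientGroup.eq_one_iff _).mpr a.2
  set E := A ⊓ B with hE
  have hEu : ∀ a ∈ E, kc a x ∈ A := fun a ha => h.derived a (Subgroup.mem_inf.mp ha).2 x h.xB
  have hEW : E ≤ W := fun a ha => hWC a (Subgroup.mem_inf.mp ha).1 (hEu a ha)
  have hEA : p * Nat.card E ≤ Nat.card A := by
    obtain ⟨i, hi⟩ := (hG.to_subgroup E).exists_card_eq
    rw [hi, hm, ← pow_succ']
    refine Nat.pow_le_pow_right hp'.pos ?_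
    by_contra hc
    have : E = A := Subgroup.eq_of_le_of_card_ge inf_le_left (by
      rw [hi, hm]; exact Nat.pow_le_pow_right hp'.pos (by omega))
    refine hBnA fun b hb => mem_normalizer_of_forall fun a ha => ?_
    have haB : a ∈ B := (Subgroup.mem_inf.mp (this.symm ▸ ha : a ∈ E)).2
    have e : b⁻¹ * a * b = a * kc a b := by simp only [kc]; group
    rw [e]
    exact A.mul_mem ha (hBA (by
      rw [kc_eq]; exact Subgroup.commutator_mem_commutator (B.inv_mem haB) (B.inv_mem hb)))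
  have hEcomm : ∀ a ∈ E, ∀ b ∈ E, a * b = b * a := fun a ha b hb =>
    h.comm a (Subgroup.mem_inf.mp ha).1 b (Subgroup.mem_inf.mp hb).1
  set pA := (powHom p A h.comm).range with hpA
  set pE := (powHom p E hEcomm).range with hpE
  have hpEA : pE ≤ pA := by
    rintro _ ⟨e, rfl⟩
    exact ⟨⟨(e : G), (Subgroup.mem_inf.mp e.2).1⟩, rfl⟩
  have hpEE : pE ≤ E := by
    rintro _ ⟨e, rfl⟩
    exact pow_mem e.2 p
  -- the extra element
  obtain ⟨y, hyW, hyB, hyA, hyp, hbound⟩ : ∃ y : G, y ∈ W ∧ y ∈ B ∧ y ∉ A ∧ y ^ p ∈ E ∧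
      Nat.card (pE ⊔ Subgroup.zpowers (y ^ p) : Subgroup G) ≤ Nat.card pA := by
    by_cases hcase : ∃ a ∈ A, a ^ p = 1 ∧ kc a x ∉ A
    · obtain ⟨a, ha, hap, hua⟩ := hcase
      have h1 := h.u_pow_eq_one hp hG ha (hp'.odd_of_ne_two hp) hap
      refine ⟨kc a x, hWu a ha, h.uB a ha, hua, by rw [h1]; exact one_mem _, ?_⟩
      rw [h1, Subgroup.zpowers_one_eq_bot, sup_bot_eq]
      exact Subgroup.card_le_of_le hpEA
    · push Not at hcase
      obtain ⟨a, ha, hua⟩ : ∃ a ∈ A, kc a x ∉ A := by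
        by_contra hne
        push Not at hne
        refine hxN (mem_normalizer_of_forall fun a ha => ?_)
        have e : x⁻¹ * a * x = a * kc a x := by simp only [kc]; group
        rw [e]
        exact A.mul_mem ha (hne a ha)
      have hlt : pE ≠ pA := by
        intro he
        obtain ⟨e, he'⟩ : (a ^ p : G) ∈ pE := he.symm ▸ (⟨⟨a, ha⟩, rfl⟩ : a ^ p ∈ pA)
        have heA : (e : G) ∈ A := (Subgroup.mem_inf.mp e.2).1
        have hd : kc (a * (e : G)⁻¹) x ∈ A := by
          refine hcase _ (A.mul_mem ha (A.inv_mem heA)) ?_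
          have he'' : (e : G) ^ p = a ^ p := he'
          rw [(show Commute a (e : G)⁻¹ from h.comm a ha _ (A.inv_mem heA)).mul_pow, inv_pow, he'',
            mul_inv_cancel]
        have h1 : θ (⟨a, ha⟩ * ⟨(e : G), heA⟩⁻¹) = 1 := (hθ1 _).mpr hd
        rw [map_mul, map_inv, (hθ1 ⟨(e : G), heA⟩).mpr (hEu _ e.2), inv_one, mul_one] at h1
        exact hua ((hθ1 _).mp h1)
      obtain ⟨k, hk⟩ := hG (kc a x)
      have hex : ∃ j, kc a x ^ p ^ j ∈ A := ⟨k, hk ▸ A.one_mem⟩
      obtain ⟨j, hj⟩ : ∃ j, Nat.find hex = j + 1 :=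
        Nat.exists_eq_add_one_of_ne_zero fun h0 => hua (by simpa [h0] using Nat.find_spec hex)
      have hs := Nat.find_spec hex
      rw [hj] at hs
      have hyp : (kc a x ^ p ^ j) ^ p ∈ E := by
        rw [← pow_mul, ← pow_succ]
        exact Subgroup.mem_inf.mpr ⟨hs, pow_mem (h.uB a ha) _⟩
      refine ⟨kc a x ^ p ^ j, pow_mem (hWu a ha) _, pow_mem (h.uB a ha) _,
        Nat.find_min hex (by omega), hyp, ?_⟩
      refine (card_sup_zpowers_le hp'.pos
        (fun g hg => hEcomm g (hpEE hg) _ hyp) ⟨⟨_, hyp⟩, rfl⟩).trans ?_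
      obtain ⟨i, hi⟩ := (hG.to_subgroup pE).exists_card_eq
      obtain ⟨i', hi'⟩ := (hG.to_subgroup pA).exists_card_eq
      rw [hi, hi', ← pow_succ']
      refine Nat.pow_le_pow_right hp'.pos ?_
      by_contra hc
      exact hlt (Subgroup.eq_of_le_of_card_ge hpEA (by
        rw [hi, hi']; exact Nat.pow_le_pow_right hp'.pos (by omega)))
  set D0 := E ⊔ Subgroup.zpowers y with hD0
  have hD0W : D0 ≤ W := sup_le hEW (Subgroup.zpowers_le.mpr hyW)
  have hD0card : Nat.card D0 ≤ p ^ m := by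
    rw [← hm]
    exact (card_sup_zpowers_le hp'.pos (fun g hg => hWcomm g (hEW hg) y hyW) hyp).trans hEA
  set O := Cfsg.omegaOne p W with hO
  have hOmem : ∀ g, g ∈ O ↔ g ∈ W ∧ g ^ p = 1 := fun g => CfsgLib.PReduced.mem_omegaOne hWcomm
  have hOA : Nat.card (Cfsg.omegaOne p A) ≤ Nat.card O := by
    have hAm : ∀ g, g ∈ Cfsg.omegaOne p A ↔ g ∈ A ∧ g ^ p = 1 :=
      fun g => CfsgLib.PReduced.mem_omegaOne h.comm
    refine card_le_of_hom (θ.comp (Subgroup.inclusion fun g hg => ((hAm g).mp hg).1))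
      (πW.comp (Subgroup.inclusion fun g hg => ((hOmem g).mp hg).1)) ?_ fun a ha => ?_
    · rintro _ ⟨a, rfl⟩
      have h1 := (hAm _).mp a.2
      exact ⟨⟨kc a x, (hOmem _).mpr
        ⟨hWu _ h1.1, h.u_pow_eq_one hp hG h1.1 (hp'.odd_of_ne_two hp) h1.2⟩⟩, rfl⟩
    · have h1 := (hAm _).mp a.2
      exact ⟨⟨a, (hOmem _).mpr ⟨hWC _ h1.1 ((hθ1 ⟨(a : G), h1.1⟩).mp ha), h1.2⟩⟩, rfl,
        (QuotientGroup.eq_one_iff _).mpr h1.1⟩
  set V := D0 ⊔ O with hV
  have hOW : O ≤ W := fun g hg => ((hOmem g).mp hg).1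
  have hVW : V ≤ W := sup_le hD0W hOW
  set T := pE ⊔ Subgroup.zpowers (y ^ p) with hT
  have hVT : ∀ g ∈ V, g ^ p ∈ T := by
    have hle2 : V ≤ (T.comap (powHom p W hWcomm)).map W.subtype := by
      refine sup_le (sup_le ?_ ?_) ?_
      · intro e he
        exact ⟨⟨e, hEW he⟩, Subgroup.mem_sup_left ⟨⟨e, he⟩, rfl⟩, rfl⟩
      · rw [Subgroup.zpowers_le]
        exact ⟨⟨y, hyW⟩, Subgroup.mem_sup_right (Subgroup.mem_zpowers _), rfl⟩
      · intro g hg
        refine ⟨⟨g, hOW hg⟩, ?_, rfl⟩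
        show g ^ p ∈ T
        rw [((hOmem g).mp hg).2]
        exact one_mem _
    intro g hg
    obtain ⟨w, hw, rfl⟩ := hle2 hg
    exact hw
  obtain ⟨D, hD, hD0D, hDW, hDO⟩ : ∃ D : Subgroup G, Nat.card D = p ^ m ∧ D0 ≤ D ∧ D ≤ W ∧
      (D ≤ V ∨ O ≤ D) := by
    rcases le_or_gt (p ^ m) (Nat.card V) with hc | hc
    · obtain ⟨D, h1, h2, h3⟩ := exists_between hG (le_sup_left : D0 ≤ V) hD0card hc
      exact ⟨D, h1, h2, h3.trans hVW, Or.inl h3⟩
    · obtain ⟨D, h1, h2, h3⟩ := exists_between hG hVW hc.le (hm ▸ hle)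
      exact ⟨D, h1, le_sup_left.trans h2, h3, Or.inr (le_sup_right.trans h2)⟩
  have hDcomm : ∀ a ∈ D, ∀ b ∈ D, a * b = b * a := fun a ha b hb => hWcomm a (hDW ha) b (hDW hb)
  refine ⟨D, ⟨⟨fun a b => Subtype.ext (hDcomm a a.2 b b.2)⟩⟩, hD.trans hm.symm, ?_,
    hDW.trans hWN, hDW.trans hWnc, ?_, ?_⟩
  · refine lt_of_le_of_ne (le_inf (le_sup_left.trans hD0D) inf_le_right) fun e => hyA ?_
    have hy : y ∈ D ⊓ B := Subgroup.mem_inf.mpr
      ⟨hD0D (Subgroup.mem_sup_right (Subgroup.mem_zpowers y)), hyB⟩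
    rw [← e] at hy
    exact (Subgroup.mem_inf.mp hy).1
  · exact Monoid.exponent_dvd_of_forall_pow_eq_one fun d => Subtype.ext (hWexp d (hDW d.2))
  · rcases hDO with hc | hc
    · have e1 := card_omega_mul p A h.comm
      have e2 := card_omega_mul p D hDcomm
      have h3 : Nat.card (powHom p D hDcomm).range ≤ Nat.card pA := by
        refine le_trans (Subgroup.card_le_of_le ?_) hbound
        rintro _ ⟨d, rfl⟩
        exact hVT d (hc d.2)
      rw [hD, ← hm, e1] at e2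
      refine Nat.le_of_mul_le_mul_right ?_ (Nat.card_pos (α := (powHom p D hDcomm).range))
      calc Nat.card (Cfsg.omegaOne p A) * Nat.card (powHom p D hDcomm).range
          ≤ Nat.card (Cfsg.omegaOne p A) * Nat.card pA := Nat.mul_le_mul_left _ h3
        _ = _ := e2
    · refine hOA.trans (Subgroup.card_le_of_le fun g hg => ?_)
      exact (CfsgLib.PReduced.mem_omegaOne hDcomm).mpr ⟨hc hg, ((hOmem g).mp hg).2⟩
/-- A replacement Theorem for abelian subgroups of p-groups, p odd. Let G be a finite p-group with p odd, A an abelian subgroup of G, and B a subgroup of nilpotency class at most 2 with [B, B] ≤ A, such that A normalizes B but B does not normalize A. Then there is an abelian subgroup A* of G of the same order as A with A ∩ B strictly contained in A* ∩ B, A* contained in N_G(A) and in the normal closure of A, the exponent of A* dividing the exponent of A, and with the subgroup generated by the elements of order dividing p in A of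 order at most that of the corresponding subgroup of A* (the rank of A is at most the rank of A*). -/
theorem result {G : Type*} [Group G] [Finite G] {p : ℕ} [Fact p.Prime] (hp : p ≠ 2) (hG : IsPGroup p G) (A B : Subgroup G) (hA : IsMulCommutative A) (hB2 : ⁅⁅B, B⁆, B⁆ = ⊥) (hBA : ⁅B, B⁆ ≤ A) (hAB : A ≤ Subgroup.normalizer (B : Set G)) (hBnA : ¬ B ≤ Subgroup.normalizer (A : Set G)) : ∃ Astar : Subgroup G, IsMulCommutative Astar ∧ Nat.card Astar = Nat.card A ∧ A ⊓ B < Astar ⊓ B ∧ Astar ≤ Subgroup.normalizer (A : Set G) ∧ Astar ≤ Subgroup.normalClosure (A : Set G) ∧ Monoid.exponent Astar ∣ Monoid.exponent A ∧ Nat.card (Cfsg.omegaOne p A) ≤ Nat.card (Cfsg.omegaOne p Astar) := by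
  exact replacement hp hG A B hA hB2 hBA hAB hBnA

end Cfsg.Agent.S3078
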