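import Cfsg.Statements.S3082
import Cfsg.Agent.Lib.ZJ.ComplementClosed

set_option autoImplicit false
set_option linter.unusedVariables false
open Cfsg
open scoped commutatorElement

namespace Cfsg.Agent.S3082

/-- The Glauberman–Thompson normal p-complement criterion for strongly closed subgroups, p odd. Let G be a finite group, P a Sylow p-subgroup and D a subgroup of P strongly closed in P with respect to G. If N_G(Z(J(D))) has a normal p-complement (J(D) generated by the abelian subgroups of D of largest order), or N_G(Ω₁(Z(J_e(D)))) has one (J_e(D) generated by the elementary abelian subgroups of largest order), then G has a normal p-complement. -/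
theorem result {G : Type*} [Group G] [Finite G] {p : ℕ} [Fact p.Prime] (hp : p ≠ 2) (P : Sylow p G) (D : Subgroup G) (hD : Cfsg.IsStronglyClosed D (P : Subgroup G)) (h : Cfsg.HasNormalPComplement p ↥(Subgroup.normalizer ((Cfsg.centerThompsonAOf D) : Set G)) ∨ Cfsg.HasNormalPComplement p ↥(Subgroup.normalizer ((Cfsg.omegaOne p (Cfsg.centerThompsonOf p D)) : Set G))) : Cfsg.HasNormalPComplement p G := by
  rcases h with h | h
  · refine CfsgLib.ZJ.hasNormalPComplement_of_normalizer_zj_closed hp (e := 0) (Or.inl rfl) P D hD ?_
    rwa [CfsgLib.ZJ.zj_zero]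
  · refine CfsgLib.ZJ.hasNormalPComplement_of_normalizer_zj_closed hp (e := p) (Or.inr rfl) P D hD ?_
    refine CfsgLib.ZJ.hasNormalPComplement_of_le ?_ h
    rw [CfsgLib.ZJ.zj_prime]
    intro g hg
    have hmap : ∀ g ∈ Subgroup.normalizer ((Cfsg.centerThompsonOf p D) : Set G),
        ∀ x ∈ Cfsg.omegaOne p (Cfsg.centerThompsonOf p D), g * x * g⁻¹ ∈ Cfsg.omegaOne p (Cfsg.centerThompsonOf p D) := by
      intro g hg x hx
      induction hx using Subgroup.closure_induction with
      | mem y hy => exact Subgroup.subset_closure ⟨(Subgroup.mem_normalizer_iff.1 hg y).1 hy.1,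
          by rw [conj_pow, hy.2, mul_one, mul_inv_cancel]⟩
      | one => simp
      | mul a b _ _ e1 e2 =>
        have := mul_mem e1 e2
        rwa [conj_mul] at this
      | inv a _ e1 =>
        have := inv_mem e1
        simpa [mul_assoc] using this
    refine Subgroup.mem_normalizer_iff.2 fun x => ⟨hmap g hg x, fun hx => ?_⟩
    simpa [mul_assoc] using hmap g⁻¹ (inv_mem hg) _ hx

end Cfsg.Agent.S3082
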