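import Cfsg.Statements.S3086
import Cfsg.Agent.Lib.PGV.Main
import Cfsg.Agent.Lib.Components

set_option autoImplicit false
set_option linter.unusedVariables false
open Cfsg
open scoped commutatorElement

namespace Cfsg.Agent.S3086

/-- The P(G,V)-theorem. Let p be a prime, G a finite group acting faithfully and linearly on a finite vector space V over the field with p elements, and A a nontrivial elementary abelian p-subgroup of G such that |A|·|C_V(A)| ≥ |B|·|C_V(B)| for every subgroup B of A. Then A normalizes every component (subnormal quasisimple subgroup) of G. -/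
theorem result {G V : Type*} [Group G] [Finite G] [AddCommGroup V] [Finite V] (p : ℕ) [Fact p.Prime] [Module (ZMod p) V]
    (ρ : Representation (ZMod p) G V) (hρ : Function.Injective ρ)
    (A : Subgroup G) (hA : A ≠ ⊥) (hAel : Cfsg.IsElementaryAbelian p A)
    (hP : ∀ B : Subgroup G, B ≤ A →
      Nat.card ↥B * Nat.card {v : V // ∀ b ∈ B, ρ b v = v} ≤ Nat.card ↥A * Nat.card {v : V // ∀ a ∈ A, ρ a v = v}) :
    ∀ K : Subgroup G, Cfsg.IsComponent K → A ≤ Subgroup.normalizer (K : Set G) := by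
  intro K hK
  by_contra hcon
  obtain ⟨a, haA, hna⟩ := SetLike.not_le_iff_exists.mp hcon
  set φ : G →* (Module.End (ZMod p) V)ˣ := ρ.toHomUnits with hφ
  have hinj : Function.Injective φ := fun g h e => hρ (congrArg Units.val e)
  have hKperf : ⁅K, K⁆ = K := CfsgLib.isComponent_commutator_self hK
  have hperf : ⁅K.map φ, K.map φ⁆ = K.map φ := by rw [← Subgroup.map_commutator, hKperf]
  have hne : K.map φ ≠ ⊥ := fun h => CfsgLib.isComponent_ne_bot hK
    ((Subgroup.map_eq_bot_iff_of_injective K hinj).mp h)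
  have hconjcomm : ∀ g : G, g ∉ Subgroup.normalizer (K : Set G) →
      ∀ x ∈ K, ∀ y ∈ K, g * x * g⁻¹ * y = y * (g * x * g⁻¹) := by
    intro g hg x hx y hy
    have hL : Cfsg.IsComponent (K.map (MulAut.conj g).toMonoidHom) := CfsgLib.isComponent_map_equiv (MulAut.conj g) hK
    rcases CfsgLib.components_eq_or_commute hK hL with h | h
    · refine absurd (CfsgLib.PGV.mem_normalizer_of_conj_mem fun z hz => ?_) hg
      rw [h]; exact ⟨z, hz, rfl⟩
    · rw [Subgroup.commutator_eq_bot_iff_le_centralizer] at h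
      exact (Subgroup.mem_centralizer_iff.mp (h hy) _ ⟨x, hx, rfl⟩)
  have hmapN : ∀ g : G, φ g ∈ Subgroup.normalizer (K.map φ : Set (Module.End (ZMod p) V)ˣ) →
      g ∈ Subgroup.normalizer (K : Set G) := fun g hg => CfsgLib.PGV.mem_normalizer_of_conj_mem fun z hz => by
    obtain ⟨w, hw, he⟩ := (Subgroup.mem_normalizer_iff.mp hg _).mp (⟨z, hz, rfl⟩ : φ z ∈ K.map φ)
    rw [← map_inv, ← map_mul, ← map_mul] at he
    exact hinj he ▸ hw
  have hcomm : ∀ x ∈ A, ∀ y ∈ A, x * y = y * x := fun x hx y hy =>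
    congrArg Subtype.val (hAel.1.is_comm.comm (⟨x, hx⟩ : ↥A) ⟨y, hy⟩)
  have hexp : ∀ x ∈ A, x ^ p = 1 := hAel.2
  have hconf : CfsgLib.PGV.Conf p (A.map φ) (K.map φ) := by
    refine ⟨?_, ?_, hperf, hne, ?_, ?_, ⟨φ a, ⟨a, haA, rfl⟩, fun h => hna (hmapN a h)⟩⟩
    · rintro _ ⟨x, hx, rfl⟩ _ ⟨y, hy, rfl⟩
      rw [← map_mul, hcomm x hx y hy, map_mul]
    · rintro _ ⟨x, hx, rfl⟩
      rw [← map_pow, hexp x hx, map_one]
    · intro N hle hn
      set M := (N.comap φ).subgroupOf K with hM
      haveI : M.Normal := ⟨fun n hn' g => by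
        show φ ((g * n * g⁻¹ : ↥K) : G) ∈ N
        rw [Subgroup.coe_mul, Subgroup.coe_mul, Subgroup.coe_inv, map_mul, map_mul, map_inv]
        exact hn _ ⟨g, g.2, rfl⟩ _ hn'⟩
      rcases CfsgLib.quasisimple_normal_le_center_or_eq_top hK.2 M with h | h
      · right
        intro n hn' k hk
        obtain ⟨x, hx, rfl⟩ := hle hn'
        obtain ⟨y, hy, rfl⟩ := hk
        have := Subgroup.mem_center_iff.mp (h (show (⟨x, hx⟩ : ↥K) ∈ M from hn')) ⟨y, hy⟩
        rw [← map_mul, ← map_mul, show x * y = y * x from (congrArg Subtype.val this).symm]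
      · left
        refine le_antisymm hle ?_
        rintro _ ⟨x, hx, rfl⟩
        exact (show (⟨x, hx⟩ : ↥K) ∈ M from h ▸ Subgroup.mem_top _)
    · rintro _ ⟨g, hg, rfl⟩
      by_cases hn : g ∈ Subgroup.normalizer (K : Set G)
      · left
        refine CfsgLib.PGV.mem_normalizer_of_conj_mem ?_
        rintro _ ⟨z, hz, rfl⟩
        exact ⟨_, (Subgroup.mem_normalizer_iff.mp hn z).mp hz, by simp⟩
      · right
        rintro _ ⟨x, hx, rfl⟩ _ ⟨y, hy, rfl⟩
        rw [← map_inv, ← map_mul, ← map_mul, ← map_mul, ← map_mul, hconjcomm g hn x hx y hy]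
  refine CfsgLib.PGV.main p _ _ V (A.map φ) (K.map φ) rfl rfl hconf ?_
  intro B hB
  have hfix : ∀ (S : Subgroup G), Nat.card ↥(CfsgLib.PGV.fixSpace (S.map φ)) = Nat.card {v : V // ∀ b ∈ S, ρ b v = v} :=
    fun S => Nat.card_congr (Equiv.subtypeEquivRight fun v => by
      constructor
      · intro hv b hb; exact hv (φ b) ⟨b, hb, rfl⟩
      · rintro hv _ ⟨b, hb, rfl⟩; exact hv b hb)
  have h1 : B = (B.comap φ).map φ :=
    (Subgroup.map_comap_eq_self (hB.trans (Subgroup.map_le_range φ A))).symm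
  rw [h1, Subgroup.card_map_of_injective hinj, Subgroup.card_map_of_injective hinj, hfix, hfix]
  refine hP _ fun x hx => ?_
  obtain ⟨y, hy, hyx⟩ := hB (show φ x ∈ B from hx)
  exact hinj hyx ▸ hy

end Cfsg.Agent.S3086
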