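import Cfsg.Statements.S3087
import Mathlib

set_option autoImplicit false
set_option linter.unusedVariables false
open Cfsg
open scoped commutatorElement

namespace Cfsg.Agent.S3087

/-- Let p be a prime, G a finite group acting linearly on a finite vector space V over the field with p elements, W a G-invariant subspace, and A a subgroup of G with |A|·|C_V(A)| ≥ |B|·|C_V(B)| for every subgroup B of A. Then |A|·|C_W(A)| ≥ |B|·|C_W(B)| for every subgroup B of A that contains C_A(W); that is, the image of A in the group induced on W satisfies the same maximality condition. -/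
theorem result {G V : Type*} [Group G] [Finite G] [AddCommGroup V] [Finite V] (p : ℕ) [Fact p.Prime] [Module (ZMod p) V]
    (ρ : Representation (ZMod p) G V) (W : Submodule (ZMod p) V) (hW : ∀ g : G, ∀ w ∈ W, ρ g w ∈ W)
    (A : Subgroup G)
    (hP : ∀ B : Subgroup G, B ≤ A →
      Nat.card ↥B * Nat.card {v : V // ∀ b ∈ B, ρ b v = v} ≤ Nat.card ↥A * Nat.card {v : V // ∀ a ∈ A, ρ a v = v})
    (B : Subgroup G) (hBA : B ≤ A) (hCB : ∀ a ∈ A, (∀ w ∈ W, ρ a w = w) → a ∈ B) :
    Nat.card ↥B * Nat.card {w : W // ∀ b ∈ B, ρ b w = w} ≤ Nat.card ↥A * Nat.card {w : W // ∀ a ∈ A, ρ a w = w} := by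
  set CVA := {v : V // ∀ a ∈ A, ρ a v = v}
  set CVB := {v : V // ∀ b ∈ B, ρ b v = v}
  set CWA := {w : W // ∀ a ∈ A, ρ a w = w}
  set CWB := {w : W // ∀ b ∈ B, ρ b w = w}
  have hkey : Nat.card CVA * Nat.card CWB ≤ Nat.card CWA * Nat.card CVB := by
    let φ : CVA × CWB → CVB := fun x => ⟨x.1.1 + (x.2.1 : V), fun b hb => by
      rw [map_add, x.1.2 b (hBA hb), x.2.2 b hb]⟩
    classical
    let pick : CVB → CVA × CWB := fun v => if h : ∃ x, φ x = v then h.choose else ⟨⟨0, fun a _ => map_zero _⟩, ⟨0, fun b _ => by simp⟩⟩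
    let ψ : CVA × CWB → CWA × CVB := fun x => ⟨⟨x.2.1 - (pick (φ x)).2.1, fun a ha => by
        have h : φ (pick (φ x)) = φ x := by
          show φ (if h : ∃ y, φ y = φ x then h.choose else _) = φ x
          rw [dif_pos ⟨x, rfl⟩]
          exact Exists.choose_spec (⟨x, rfl⟩ : ∃ y, φ y = φ x)
        have h' : (pick (φ x)).1.1 + ((pick (φ x)).2.1 : V) = x.1.1 + (x.2.1 : V) := congrArg Subtype.val h
        have e : ((x.2.1 - (pick (φ x)).2.1 : W) : V) = (pick (φ x)).1.1 - x.1.1 := by
          push_cast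
          rw [sub_eq_sub_iff_add_eq_add, add_comm (x.2.1 : V), ← h']
        rw [e, map_sub, (pick (φ x)).1.2 a ha, x.1.2 a ha]⟩, φ x⟩
    have hinj : Function.Injective ψ := by
      intro x y hxy
      have h1 : φ x = φ y := congrArg Prod.snd hxy
      have h2 : x.2.1 - (pick (φ x)).2.1 = y.2.1 - (pick (φ y)).2.1 := congrArg Subtype.val (congrArg Prod.fst hxy)
      rw [h1, sub_left_inj] at h2
      have h3 : x.1.1 + (x.2.1 : V) = y.1.1 + (y.2.1 : V) := congrArg Subtype.val h1
      rw [h2, add_left_inj] at h3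
      exact Prod.ext (Subtype.ext h3) (Subtype.ext h2)
    rw [← Nat.card_prod, ← Nat.card_prod]
    exact Nat.card_le_card_of_injective ψ hinj
  haveI : Nonempty CVA := ⟨⟨0, fun a _ => map_zero _⟩⟩
  have hpos : 0 < Nat.card CVA := Nat.card_pos
  refine Nat.le_of_mul_le_mul_right ?_ hpos
  calc Nat.card ↥B * Nat.card CWB * Nat.card CVA = Nat.card ↥B * (Nat.card CVA * Nat.card CWB) := by ring
    _ ≤ Nat.card ↥B * (Nat.card CWA * Nat.card CVB) := Nat.mul_le_mul_left _ hkey
    _ = Nat.card CWA * (Nat.card ↥B * Nat.card CVB) := by ring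
    _ ≤ Nat.card CWA * (Nat.card ↥A * Nat.card CVA) := Nat.mul_le_mul_left _ (hP B hBA)
    _ = Nat.card ↥A * Nat.card CWA * Nat.card CVA := by ring

end Cfsg.Agent.S3087
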