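import Cfsg.Statements.S3104
import Cfsg.Agent.Lib.SectFour.Main

set_option autoImplicit false
open Cfsg

namespace Cfsg.Agent.S3104

/-- Let X be a finite nonsolvable 2-constrained group with no nontrivial normal subgroup of odd order such that O₂(X) has sectional 2-rank at most 4, and write Q for X/O₂(X). Then Q is isomorphic to the projective special linear group of dimension 3 over the field with 2 elements, to an alternating group of degree n with 5 ≤ n ≤ 8, to a symmetric group of degree n with 5 ≤ n ≤ 7, or else O₃(Q) has order 3 and Q/O₃(Q) is isomorphic to the alternating or the symmetric group of degree 5 (so Q is the direct product of a group of order 3 with the alternating group of degree 5, or an extension of that direct product by a group of order 2). If moreover X itself has sectional 2-rank at most 4, then Q is not isomorphic to the symmetric group of degree 6 or 7 nor to the alternating group of degree 8. -/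
theorem result {X : Type*} [Group X] [Finite X] (hns : ¬ Group.IsSolvable X) (hc : Cfsg.IsPConstrained 2 X) (hO : Cfsg.oddCore X = ⊥)
    (h4 : Cfsg.SectionalPRankLE 2 4 ↥(Cfsg.pCore 2 X)) :
    ((∃ (F : Type) (_ : Field F) (_ : Fintype F), Fintype.card F = 2 ∧
          Nonempty (X ⧸ Cfsg.pCore 2 X ≃* Matrix.ProjectiveSpecialLinearGroup (Fin 3) F)) ∨
        (∃ n : ℕ, 5 ≤ n ∧ n ≤ 8 ∧ Nonempty (X ⧸ Cfsg.pCore 2 X ≃* ↥(alternatingGroup (Fin n)))) ∨
        (∃ n : ℕ, 5 ≤ n ∧ n ≤ 7 ∧ Nonempty (X ⧸ Cfsg.pCore 2 X ≃* Equiv.Perm (Fin n))) ∨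
        (Nat.card ↥(Cfsg.pCore 3 (X ⧸ Cfsg.pCore 2 X)) = 3 ∧
          (Nonempty ((X ⧸ Cfsg.pCore 2 X) ⧸ Cfsg.pCore 3 (X ⧸ Cfsg.pCore 2 X) ≃* ↥(alternatingGroup (Fin 5))) ∨
            Nonempty ((X ⧸ Cfsg.pCore 2 X) ⧸ Cfsg.pCore 3 (X ⧸ Cfsg.pCore 2 X) ≃* Equiv.Perm (Fin 5))))) ∧
      (Cfsg.SectionalPRankLE 2 4 X →
        ¬ (Nonempty (X ⧸ Cfsg.pCore 2 X ≃* Equiv.Perm (Fin 6)) ∨ Nonempty (X ⧸ Cfsg.pCore 2 X ≃* Equiv.Perm (Fin 7)) ∨
            Nonempty (X ⧸ Cfsg.pCore 2 X ≃* ↥(alternatingGroup (Fin 8))))) := by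
  classical
  haveI : Fact (Nat.Prime 2) := ⟨Nat.prime_two⟩
  have hnsQ : ¬ Group.IsSolvable (X ⧸ Cfsg.pCore 2 X) := by
    intro hs
    refine hns ?_
    haveI := hs
    haveI : Group.IsSolvable ↥(Cfsg.pCore 2 X) :=
      haveI : Group.IsNilpotent ↥(Cfsg.pCore 2 X) := (CfsgLib.isPGroup_pCore 2).isNilpotent
      inferInstance
    exact Group.isSolvable_of_ker_le_range (Cfsg.pCore 2 X).subtype (QuotientGroup.mk' (Cfsg.pCore 2 X)) (by simp)
  obtain ⟨f, hf⟩ := CfsgLib.RadicalQuotient.exists_embedding hc hO h4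
  have hA : ∀ n : ℕ, 2 ≤ n → Nat.card (alternatingGroup (Fin n)) * 2 = n.factorial := fun n hn =>
    CfsgLib.EightSubgroups.card_alt (α := Fin n) n (by simp) hn
  refine ⟨?_, fun hr => ?_⟩
  · rcases CfsgLib.SectFour.shape f hf hnsQ CfsgLib.ZJ.pCore_quotient_pCore_eq_bot with h | h
    · rcases h with ⟨n, h5, h8, h⟩ | h | h | h
      · exact Or.inr (Or.inl ⟨n, h5, h8, h⟩)
      · exact Or.inr (Or.inr (Or.inl ⟨5, le_rfl, by norm_num, h⟩))
      · exact Or.inr (Or.inr (Or.inl ⟨6, by norm_num, by norm_num, h⟩))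
      · haveI : Fact (Nat.Prime 2) := ⟨Nat.prime_two⟩
        refine Or.inl ⟨ZMod 2, inferInstance, inferInstance, ZMod.card 2, ?_⟩
        exact h.map fun e => e.trans CfsgLib.SectFour.glPSL
    · exact Or.inr (Or.inr (Or.inr h))
  · rintro (⟨⟨e⟩⟩ | ⟨⟨e⟩⟩ | ⟨⟨e⟩⟩)
    · refine CfsgLib.SectFour.not_big hc hO hr (Or.inl ?_)
      rw [Nat.card_congr e.toEquiv, Nat.card_perm, Nat.card_fin]; rfl
    · refine CfsgLib.SectFour.not_big hc hO hr (Or.inr ?_)
      rw [Nat.card_congr e.toEquiv, Nat.card_perm, Nat.card_fin]; decide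
    · refine CfsgLib.SectFour.not_big hc hO hr (Or.inr ?_)
      have := hA 8 (by norm_num)
      rw [show Nat.factorial 8 = 40320 from rfl] at this
      rw [Nat.card_congr e.toEquiv]
      omega

end Cfsg.Agent.S3104
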