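import Cfsg.Statements.S3110
import Cfsg.Agent.Lib.TwoLocalSignalizer.Main
-- import your own Cfsg.Agent.* helpers here

set_option autoImplicit false
open Cfsg

namespace Cfsg.Agent.S3110

theorem normalizer_zpowers_two {G : Type*} [Group G] [Finite G] {u : G} (hu : orderOf u = 2) :
    Subgroup.normalizer ((Subgroup.zpowers u : Subgroup G) : Set G) = Subgroup.centralizer ({u} : Set G) := by
  classical
  ext g
  rw [Subgroup.mem_centralizer_singleton_iff]
  have h2 : ∀ w, w ∈ Subgroup.zpowers u ↔ w = 1 ∨ w = u := fun w => by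
    rw [mem_zpowers_iff_mem_range_orderOf, hu]
    simp [Finset.range_add_one, or_comm, eq_comm]
  constructor
  · intro hg
    rcases (h2 _).mp ((Subgroup.mem_normalizer_iff.mp hg u).mp (Subgroup.mem_zpowers u)) with h | h
    · exfalso
      rw [show u = 1 by simpa using h, orderOf_one] at hu
      norm_num at hu
    · exact mul_inv_eq_iff_eq_mul.mp h
  · intro hg
    refine Subgroup.mem_normalizer_iff.mpr fun w => ?_
    rw [h2, h2, conj_eq_one_iff, mul_inv_eq_iff_eq_mul]
    refine or_congr Iff.rfl ⟨fun h => h ▸ hg, fun h => mul_left_cancel (h.trans hg.symm)⟩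

/-- Let G be a finite group in which every 2-local subgroup is 2-constrained and some Sylow 2-subgroup has a self-centralizing abelian normal subgroup of 2-rank at least 3, and let S be any Sylow 2-subgroup of G. Then there is a subgroup W of G of odd order such that, for every subgroup B of S of 2-rank at least 2, W is generated by the largest normal odd-order subgroups O(C_G(b)) of the centralizers of the non-identity elements b of B, and W is normalized by the normalizer of every such B. -/
theorem result {G : Type*} [Group G] [Finite G]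
    (h2c : ∀ T : Subgroup G, IsPGroup 2 T → T ≠ ⊥ → Cfsg.IsPConstrained 2 ↥(Subgroup.normalizer (T : Set G)))
    (S : Sylow 2 G) (A : Subgroup ↥(S : Subgroup G)) (hAn : A.Normal) (hAab : IsMulCommutative ↥A)
    (hAC : Subgroup.centralizer (A : Set ↥(S : Subgroup G)) = A) (hA3 : ¬ Cfsg.PRankLE 2 2 ↥A) (S' : Sylow 2 G) :
    ∃ W : Subgroup G, Odd (Nat.card ↥W) ∧
      ∀ B : Subgroup G, B ≤ (S' : Subgroup G) → ¬ Cfsg.PRankLE 2 1 ↥B →
        W = (⨆ b : {b : G // b ∈ B ∧ b ≠ 1}, Cfsg.centralizerPPrimeCore 2 (b : G)) ∧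
        Subgroup.normalizer (B : Set G) ≤ Subgroup.normalizer (W : Set G) := by
  classical
  haveI := Fact.mk Nat.prime_two
  have hcon : CfsgLib.TwoLocalSignalizer.Hyp G := fun t ht => by
    have h1 := h2c (Subgroup.zpowers t) (IsPGroup.of_card (n := 1) (by rw [Nat.card_zpowers, ht, pow_one]))
      (fun e => by rw [Subgroup.zpowers_eq_bot.mp e, orderOf_one] at ht; norm_num at ht)
    rwa [normalizer_zpowers_two ht] at h1
  obtain ⟨g, hg⟩ := MulAction.exists_smul_eq G S S'
  -- the involutions of A, moved into S'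
  let Ω : Subgroup ↥(S : Subgroup G) :=
    { carrier := {a | a ∈ A ∧ a * a = 1}
      one_mem' := ⟨one_mem A, one_mul 1⟩
      mul_mem' := fun {a b} ha hb => ⟨mul_mem ha.1 hb.1, by
        have hba : b * a = a * b := congrArg Subtype.val (hAab.is_comm.comm ⟨b, hb.1⟩ ⟨a, ha.1⟩)
        rw [mul_assoc a b, ← mul_assoc b a, hba, mul_assoc a b, hb.2, mul_one, ha.2]⟩
      inv_mem' := fun {a} ha => ⟨inv_mem ha.1, by rw [← mul_inv_rev, ha.2, inv_one]⟩ }
  have hΩn : ∀ s a : ↥(S : Subgroup G), a ∈ Ω → s * a * s⁻¹ ∈ Ω := fun s a ha => ⟨hAn.conj_mem a ha.1 s, by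
    rw [show s * a * s⁻¹ * (s * a * s⁻¹) = s * (a * a) * s⁻¹ by group, ha.2, mul_one, mul_inv_cancel]⟩
  have hΩcard : 4 < Nat.card Ω := by
    by_contra hle
    refine hA3 fun B hB hB2 => ?_
    have h1 : B.map A.subtype ≤ Ω := by
      rintro _ ⟨b, hb, rfl⟩
      exact ⟨b.2, by rw [← pow_two]; exact congrArg Subtype.val (hB2 b hb)⟩
    have := Subgroup.card_le_of_le h1
    rw [Subgroup.card_map_of_injective A.subtype_injective] at this
    omega
  set f : ↥(S : Subgroup G) →* G := (MulAut.conj g).toMonoidHom.comp (S : Subgroup G).subtype with hf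
  have hfinj : Function.Injective f := (MulAut.conj g).injective.comp (Subgroup.subtype_injective _)
  have hfr : f.range = (S' : Subgroup G) := by
    rw [hf, MonoidHom.range_comp, Subgroup.range_subtype, ← hg]
    rfl
  have hE : Cfsg.IsElementaryAbelian 2 (Ω.map f) := by
    refine CfsgLib.SolvSF.ea_of_comm ?_ ?_
    · rintro _ ⟨a, ha, rfl⟩ _ ⟨b, hb, rfl⟩
      rw [← map_mul, ← map_mul, show a * b = b * a from congrArg Subtype.val (hAab.is_comm.comm ⟨a, ha.1⟩ ⟨b, hb.1⟩)]
    · rintro _ ⟨a, ha, rfl⟩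
      rw [← map_pow, pow_two, ha.2, map_one]
  refine CfsgLib.TwoLocalSignalizer.exists_odd_generated hcon S' (E := Ω.map f) ?_ ?_ hE
    (CfsgLib.TwoLocalSignalizer.eight_le_of_four_lt (CfsgLib.Signalizer.isPGroup_ea hE) ?_)
  · exact hfr ▸ Subgroup.map_le_range f Ω
  · intro x hx
    rw [← hfr] at hx
    obtain ⟨s, rfl⟩ := hx
    refine CfsgLib.Comp.mem_normalizer_of_maps ?_
    rintro _ ⟨a, ha, rfl⟩
    exact ⟨s * a * s⁻¹, hΩn s a ha, by rw [map_mul, map_mul, map_inv]⟩
  · rwa [Subgroup.card_map_of_injective hfinj]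

end Cfsg.Agent.S3110
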