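import Cfsg.Statements.S3117
import Cfsg.Agent.Lib.ThreeInvolutions.Main
-- import your own Cfsg.Agent.* helpers here

set_option autoImplicit false
open Cfsg

namespace Cfsg.Agent.S3117

/-- If X is a finite 2-group containing exactly three involutions, then the automorphism group of X is solvable. -/
theorem result {X : Type*} [Group X] [Finite X] (h2 : IsPGroup 2 X) (h3 : Nat.card {x : X // orderOf x = 2} = 3) : Group.IsSolvable (MulAut X) := by
  classical
  by_contra hns
  obtain ⟨N, hN⟩ : ∃ N, derivedSeries (MulAut X) (N + 1) = derivedSeries (MulAut X) N := by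
    by_contra h
    push Not at h
    have hd : ∀ n, Nat.card (derivedSeries (MulAut X) n) + n ≤ Nat.card (MulAut X) := by
      intro n
      induction n with
      | zero => simp
      | succ n ih =>
        have hlt : derivedSeries (MulAut X) (n + 1) < derivedSeries (MulAut X) n :=
          lt_of_le_of_ne (derivedSeries_antitone _ (by omega)) (h n)
        have : Nat.card (derivedSeries (MulAut X) (n + 1)) < Nat.card (derivedSeries (MulAut X) n) := by
          simp only [← SetLike.coe_sort_coe, Nat.card_coe_set_eq]
          exact Set.ncard_lt_ncard hlt (Set.toFinite _)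
        omega
    have := hd (Nat.card (MulAut X))
    have := Nat.card_pos (α := derivedSeries (MulAut X) (Nat.card (MulAut X)))
    omega
  set A := derivedSeries (MulAut X) N
  have hA : commutator A = ⊤ := by
    apply Subgroup.map_injective A.subtype_injective
    rw [commutator_def, Subgroup.map_commutator, ← MonoidHom.range_eq_map, Subgroup.range_subtype]
    exact hN
  have h4 : Nat.card {x : X // x * x = 1} ≤ 4 := by
    haveI := Fintype.ofFinite X
    rw [Nat.card_eq_fintype_card, Fintype.card_subtype] at h3 ⊢
    have hsub : (Finset.univ.filter fun x : X => x * x = 1) ⊆ insert 1 (Finset.univ.filter fun x : X => orderOf x = 2) := by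
      intro x hx
      simp only [Finset.mem_filter, Finset.mem_univ, true_and, Finset.mem_insert] at hx ⊢
      by_cases h1 : x = 1
      · exact Or.inl h1
      · exact Or.inr (orderOf_eq_prime (by rw [pow_two, hx]) h1)
    exact (Finset.card_le_card hsub).trans ((Finset.card_insert_le _ _).trans (by omega))
  have hA1 : A = ⊥ := (Subgroup.eq_bot_iff_forall A).2 fun a ha => MulEquiv.ext fun x =>
    CfsgLib.ThreeInvolutions.trivial_of_perfect hA (Nat.card X) X rfl h2 h4 A.subtype ⟨a, ha⟩ x
  exact hns ((Group.isSolvable_def (G := MulAut X)).mpr ⟨N, hA1⟩)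

end Cfsg.Agent.S3117
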