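import Cfsg.Statements.S3125
import Mathlib
import Cfsg.Agent.S1993
import Cfsg.Agent.Lib.CharTheory.Burnside

set_option autoImplicit false
open Cfsg

namespace Cfsg.Agent.S3125

open Subgroup

/-- For `p ≥ 5` a nontrivial self-normalizing Sylow `p`-subgroup is not contained in the derived group. -/
theorem not_le_commutator.{v} {p : ℕ} [Fact p.Prime] (h5 : 5 ≤ p) (n : ℕ) :
    ∀ (G : Type v) [Group G] [Finite G], Nat.card G = n → ∀ S : Sylow p G, (S : Subgroup G) ≠ ⊥ →
      normalizer ((S : Subgroup G) : Set G) = S → ¬ (S : Subgroup G) ≤ commutator G := by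
  induction n using Nat.strong_induction_on with
  | _ n ih =>
    intro G _ _ hn S hS0 hself hle
    haveI : Nontrivial (S : Subgroup G) := (nontrivial_iff_ne_bot _).mpr hS0
    have hW := (CfsgLib.KInf.isCharPFunctor.{v} p).2
    haveI hKc : (kInfUpper (S : Subgroup G)).Characteristic :=
      characteristic_iff_map_eq.mpr fun φ => hW.2 _ _ S.2 φ
    obtain ⟨K, hK⟩ : ∃ K, K = inducedFunctor kInfUpper (S : Subgroup G) := ⟨_, rfl⟩
    have hKS : K ≤ (S : Subgroup G) := hK ▸ map_subtype_le _
    have hK0 : K ≠ ⊥ := fun e => hW.1 _ S.2 ‹_› (by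
      have h := hK.symm.trans e
      exact (map_eq_bot_iff_of_injective _ (subtype_injective _)).mp h)
    have hSN : (S : Subgroup G) ≤ normalizer (K : Set G) := by
      intro s hs
      refine mem_normalizer_iff.mpr fun x => ?_
      have key : ∀ t : (S : Subgroup G), ∀ y, y ∈ K → (t : G) * y * (t : G)⁻¹ ∈ K := by
        intro t y hy
        rw [hK] at hy ⊢
        obtain ⟨z, hz, rfl⟩ := hy
        exact ⟨t * z * t⁻¹, (inferInstance : (kInfUpper (S : Subgroup G)).Normal).conj_mem z hz t, rfl⟩
      refine ⟨key ⟨s, hs⟩ x, fun h => ?_⟩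
      have := key ⟨s, hs⟩⁻¹ _ h
      rwa [InvMemClass.coe_inv, inv_inv, show s⁻¹ * (s * x * s⁻¹) * s = x by group] at this
    have hc : (S : Subgroup G) ≤ ⁅normalizer (K : Set G), normalizer (K : Set G)⁆ := by
      have h := (Cfsg.Agent.S1993.result S).1 h5
      rw [← hK, inf_eq_left.mpr hle] at h
      exact h.le.trans inf_le_right
    by_cases hN : normalizer (K : Set G) = ⊤
    · -- `K` is normal
      haveI : K.Normal := normalizer_eq_top_iff.mp hN
      by_cases hKe : K = S
      · rw [← hKe] at hself
        rw [hN] at hself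
        have hsol : Group.IsSolvable G := by
          haveI : Group.IsNilpotent (⊤ : Subgroup G) := by
            rw [hself, hKe]; exact S.2.isNilpotent
          exact solvable_of_surjective (f := (topEquiv (G := G)).toMonoidHom) topEquiv.surjective
        have htop : commutator G = ⊤ := top_le_iff.mp ((hself.trans hKe).le.trans hle)
        haveI : Nontrivial G := (nontrivial_iff.mp ⟨(S : Subgroup G), ⊥, hS0⟩)
        exact (IsSolvable.commutator_lt_top_of_nontrivial G).ne htop
      · have hlt : Nat.card (G ⧸ K) < n := by
          have h2 := one_lt_card_iff_ne_bot K |>.mpr hK0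
          rw [← hn, ← K.index_mul_card]
          exact lt_mul_of_one_lt_right (Nat.pos_of_ne_zero index_ne_zero_of_finite) h2
        obtain ⟨T, hT⟩ : ∃ T : Sylow p (G ⧸ K), T = S.mapSurjective (QuotientGroup.mk'_surjective K) := ⟨_, rfl⟩
        have hTc : (T : Subgroup (G ⧸ K)) = (S : Subgroup G).map (QuotientGroup.mk' K) := by rw [hT]; rfl
        refine ih _ hlt (G ⧸ K) rfl T ?_ ?_ ?_
        · rw [hTc, Ne, Subgroup.map_eq_bot_iff, QuotientGroup.ker_mk']
          exact fun h => hKe (le_antisymm hKS h)
        · refine le_antisymm ?_ le_normalizer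
          intro x hx
          obtain ⟨g, rfl⟩ := QuotientGroup.mk'_surjective K x
          rw [hTc] at hx ⊢
          refine mem_map_of_mem _ (hself.le (mem_normalizer_iff.mpr fun y => ?_))
          have h1 := mem_normalizer_iff.mp hx (QuotientGroup.mk' K y)
          rw [← map_inv, ← map_mul, ← map_mul] at h1
          have hcm : ∀ z, QuotientGroup.mk' K z ∈ (S : Subgroup G).map (QuotientGroup.mk' K) ↔ z ∈ (S : Subgroup G) := fun z => by
            rw [← mem_comap, comap_map_eq, QuotientGroup.ker_mk', sup_eq_left.mpr hKS]
          rwa [hcm, hcm] at h1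
        · rw [hTc]
          refine (map_mono hle).trans ?_
          rw [_root_.commutator_def, _root_.commutator_def, map_commutator, map_top_of_surjective _ (QuotientGroup.mk'_surjective K)]
    · -- induction in the normalizer
      have hlt : Nat.card (normalizer (K : Set G)) < n := hn ▸ lt_of_le_of_ne (Subgroup.card_le_card_group _) (fun e => hN (Subgroup.eq_top_of_card_eq _ e))
      refine ih _ hlt _ rfl (S.subtype hSN) ?_ ?_ ?_
      · intro h
        exact hS0 (by
          have := congrArg (Subgroup.map (normalizer (K : Set G)).subtype) h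
          rwa [Sylow.coe_subtype, subgroupOf_map_subtype, Subgroup.map_bot, inf_eq_left.mpr hSN] at this)
      · rw [Sylow.coe_subtype]
        refine le_antisymm ?_ le_normalizer
        intro x hx
        refine hself.le (mem_normalizer_iff.mpr fun y => ?_)
        have hxK := x.2
        constructor
        · intro hy
          exact ((mem_normalizer_iff.mp hx ⟨y, hSN hy⟩).mp hy)
        · intro hy
          have hyN : y ∈ normalizer (K : Set G) := by
            have := mul_mem (mul_mem (inv_mem hxK) (hSN hy)) hxK
            simpa [mul_assoc] using this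
          exact ((mem_normalizer_iff.mp hx ⟨y, hyN⟩).mpr hy)
      · rw [Sylow.coe_subtype]
        intro x hx
        have h1 := hc hx
        rw [← map_subtype_commutator] at h1
        obtain ⟨y, hy, he⟩ := h1
        rwa [← Subtype.ext he]


/-- Let G be a finite group such that, for every prime p dividing the order of G, every Sylow p-subgroup of G is its own normalizer. Then G is not a non-abelian simple group. -/
theorem result {G : Type*} [Group G] [Finite G]
    (h : ∀ p : ℕ, p.Prime → p ∣ Nat.card G → ∀ P : Sylow p G, Subgroup.normalizer ((P : Subgroup G) : Set G) = P) :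
    ¬ (IsSimpleGroup G ∧ ¬ IsMulCommutative G) := by
  rintro ⟨hs, hnc⟩
  haveI := hs
  have hperf : commutator G = ⊤ := by
    rcases (inferInstance : (commutator G).Normal).eq_bot_or_eq_top with h | h
    · exact absurd ((commutator_eq_bot_iff (G := G)).mp h) hnc
    · exact h
  have hp : ∀ p : ℕ, p.Prime → p ∣ Nat.card G → p < 5 := by
    intro p hp hd
    by_contra h5
    haveI := Fact.mk hp
    obtain ⟨S⟩ : Nonempty (Sylow p G) := inferInstance
    exact not_le_commutator (Nat.le_of_not_lt h5) _ G rfl S (S.ne_bot_of_dvd_card hd) (h p hp hd S) (hperf ▸ le_top)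
  obtain ⟨a, b, hab⟩ : ∃ a b, Nat.card G = 2 ^ a * 3 ^ b := by
    refine ⟨(Nat.card G).factorization 2, (Nat.card G).factorization 3, ?_⟩
    conv_lhs => rw [← Nat.prod_factorization_pow_eq_self (Nat.card_pos (α := G)).ne']
    rw [Finsupp.prod]
    have hsub : (Nat.card G).factorization.support ⊆ {2, 3} := by
      intro q hq
      rw [Nat.support_factorization, Nat.mem_primeFactors] at hq
      have := hp q hq.1 hq.2.1
      have h2 := hq.1.two_le
      interval_cases q
      · simp
      · simp
      · exact absurd hq.1 (by norm_num)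
    rw [Finset.prod_subset hsub (fun q _ hq => by rw [Finsupp.notMem_support_iff.mp hq, pow_zero]), Finset.prod_pair (by norm_num)]
  haveI : Group.IsSolvable G := CfsgLib.CharTheory.isSolvable_of_card_two_primes Nat.prime_two Nat.prime_three hab
  haveI : Nontrivial G := hs.toNontrivial
  exact (IsSolvable.commutator_lt_top_of_nontrivial G).ne hperf

end Cfsg.Agent.S3125
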