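import Cfsg.Statements.S3144
import Cfsg.Agent.Lib.StdO8Two.Nine
import Cfsg.Agent.Lib.ZStar.Main

set_option autoImplicit false
open Cfsg

namespace Cfsg.Agent.S3144

/-- Let G be a finite group with no nontrivial normal subgroup of odd order and L a standard subgroup of G which is a double cover of the simple orthogonal group PΩ⁺ of dimension 8 over the field with 2 elements (the centre of L has order 2 and L modulo its centre is isomorphic to that group), and suppose the centralizer of L in G has cyclic Sylow 2-subgroups. Then L is normal in G. -/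
theorem result {G : Type*} [Group G] [Finite G] (hO : Cfsg.oddCore G = ⊥) (L : Subgroup G) (hL : Cfsg.IsStandardSubgroup L)
    {F : Type*} [Field F] [Fintype F] (hF : Fintype.card F = 2)
    (hZ : Nat.card ↥(Subgroup.center ↥L) = 2) (hLX : Nonempty ((↥L ⧸ Subgroup.center ↥L) ≃* Cfsg.POmega F (Cfsg.quadFormPlus 4 F)))
    (hR : ∀ R : Sylow 2 ↥(Subgroup.centralizer (L : Set G)), IsCyclic ↥(R : Subgroup ↥(Subgroup.centralizer (L : Set G)))) :
    L.Normal := by
  obtain ⟨D, rfl⟩ := CfsgLib.O8Two.exists_setting L hL hF hZ hLX hR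
  refine Subgroup.normalizer_eq_top_iff.mp (eq_top_iff.mpr fun g _ => D.N_iff.mpr ?_)
  have h := CfsgLib.ZStar.commutator_mem (orderOf_eq_prime (by rw [pow_two]; exact D.z_sq) D.z_ne) D.isolated g
  rw [show pPrimeCore 2 G = ⊥ from hO, Subgroup.mem_bot, mul_inv_eq_one, mul_inv_eq_iff_eq_mul] at h
  exact h.symm

end Cfsg.Agent.S3144
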