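import Cfsg.Statements.S3148
import Cfsg.Agent.Lib.RankTwoModel.Main
import Cfsg.Agent.Lib.CyclicStandard.Final

set_option autoImplicit false
open Cfsg

namespace Cfsg.Agent.S3148

/-- Let G be a finite group with no nontrivial normal subgroup of odd order, A a standard subgroup of G, and R a cyclic Sylow 2-subgroup of the centralizer of A. Then one of the following holds: A is normal in G; A has 2-rank at most 1 and the normal closure of A in G is isomorphic to the projective special linear group of dimension 3 over a field with q elements, q ≡ 3 mod 4 and q ≠ 3, or to the projective special unitary group of dimension 3 with parameter q ≡ 1 mod 4 (realised over the field with q² elements); or some conjugate of R by an element of G outside the normalizer of A lies in the normalizer of A. -/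
theorem result {G : Type*} [Group G] [Finite G] (hO : Cfsg.oddCore G = ⊥) (A : Subgroup G) (hA : Cfsg.IsStandardSubgroup A)
    (R : Sylow 2 ↥(Subgroup.centralizer (A : Set G))) (hR : IsCyclic ↥(R : Subgroup ↥(Subgroup.centralizer (A : Set G)))) :
    A.Normal ∨
      (Cfsg.PRankLE 2 1 ↥A ∧
        ((∃ (F : Type) (_ : Field F) (_ : Fintype F), Fintype.card F % 4 = 3 ∧ Fintype.card F ≠ 3 ∧
            Nonempty (↥(Subgroup.normalClosure (A : Set G)) ≃* Matrix.ProjectiveSpecialLinearGroup (Fin 3) F)) ∨
          (∃ (F : Type) (_ : Field F) (_ : Fintype F) (q : ℕ), q % 4 = 1 ∧ Fintype.card F = q ^ 2 ∧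
            Nonempty (↥(Subgroup.normalClosure (A : Set G)) ≃* Cfsg.PSU 3 F q)))) ∨
      (∃ g : G, g ∉ Subgroup.normalizer (A : Set G) ∧
        (((R : Subgroup ↥(Subgroup.centralizer (A : Set G))).map (Subgroup.centralizer (A : Set G)).subtype).map (MulAut.conj g).toMonoidHom ≤ Subgroup.normalizer (A : Set G))) := by
  exact CfsgLib.CyclicStandard.cyclic_standard CfsgLib.RankTwoModel.main hO A hA R hR

end Cfsg.Agent.S3148
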