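import Cfsg.Statements.S3150
import Cfsg.Agent.Lib.StdConway.Isolated
import Cfsg.Agent.Lib.ZStar.Main

set_option autoImplicit false
open Cfsg

namespace Cfsg.Agent.S3150

/-- Let G be a finite group with no nontrivial normal subgroup of odd order and A a standard subgroup of G isomorphic to the automorphism group of the Leech lattice (the double cover of the first Conway group). If the centralizer of A in G has cyclic Sylow 2-subgroups, then A is normal in G. -/
theorem result {G : Type*} [Group G] [Finite G] (hO : Cfsg.oddCore G = ⊥) (A : Subgroup G) (hA : Cfsg.IsStandardSubgroup A)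
    (hAX : Nonempty (↥A ≃* ↥Cfsg.Co0)) (hR : ∀ R : Sylow 2 ↥(Subgroup.centralizer (A : Set G)), IsCyclic ↥(R : Subgroup ↥(Subgroup.centralizer (A : Set G)))) : A.Normal := by
  obtain ⟨e⟩ := hAX
  obtain ⟨R⟩ := (inferInstance : Nonempty (Sylow 2 ↥(Subgroup.centralizer (A : Set G))))
  let H : CfsgLib.StdConway.Hyp A := ⟨e, hA, R, hR R⟩
  have hc := CfsgLib.ZStar.commutator_mem H.orderOf_z H.isolated
  have hall : ∀ g : G, g ∈ Subgroup.normalizer (A : Set G) := fun g => by
    have h1 : H.z * g * H.z⁻¹ * g⁻¹ ∈ oddCore G := hc g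
    rw [hO, Subgroup.mem_bot, mul_inv_eq_one, mul_inv_eq_iff_eq_mul] at h1
    exact H.cent_le (Subgroup.mem_centralizer_singleton_iff.2 h1.symm)
  exact Subgroup.normalizer_eq_top_iff.1 (top_le_iff.1 fun g _ => hall g)

end Cfsg.Agent.S3150
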