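import Cfsg.Statements.S3153
import Cfsg.Agent.Lib.Comp.Standard
import Cfsg.Agent.Lib.CoprimeGen
import Cfsg.Agent.S1754

set_option autoImplicit false
set_option linter.style.haveILetI false
set_option maxHeartbeats 1000000
open Cfsg

namespace Cfsg.Agent.S3153

/-- Let X be a finite group and P a standard subgroup of X whose centralizer has 2-rank at most 1 and whose centre has odd order. Let S be a Sylow 2-subgroup of N_X(P) and t an involution of S centralizing P. Suppose some element g of X normalizes S, does not lie in S, has its square in S, and conjugates t into P·C_X(P). Then P commutes elementwise with the largest normal odd-order subgroup O(X) of X; consequently every t-invariant 2-component of X containing P is quasisimple. -/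
theorem result {X : Type*} [Group X] [Finite X] (P : Subgroup X) (hP : Cfsg.IsStandardSubgroup P)
    (hr : Cfsg.PRankLE 2 1 ↥(Subgroup.centralizer (P : Set X))) (hZ : Odd (Nat.card ↥(Subgroup.center ↥P)))
    (S : Sylow 2 ↥(Subgroup.normalizer (P : Set X))) (t : X) (ht : orderOf t = 2) (htS : t ∈ (S : Subgroup ↥(Subgroup.normalizer (P : Set X))).map (Subgroup.normalizer (P : Set X)).subtype)
    (htP : t ∈ Subgroup.centralizer (P : Set X))
    (g : X) (hgN : ∀ s ∈ (S : Subgroup ↥(Subgroup.normalizer (P : Set X))).map (Subgroup.normalizer (P : Set X)).subtype, g * s * g⁻¹ ∈ (S : Subgroup ↥(Subgroup.normalizer (P : Set X))).map (Subgroup.normalizer (P : Set X)).subtype)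
    (hgS : g ∉ (S : Subgroup ↥(Subgroup.normalizer (P : Set X))).map (Subgroup.normalizer (P : Set X)).subtype) (hg2 : g ^ 2 ∈ (S : Subgroup ↥(Subgroup.normalizer (P : Set X))).map (Subgroup.normalizer (P : Set X)).subtype)
    (hgt : g * t * g⁻¹ ∈ P ⊔ Subgroup.centralizer (P : Set X)) :
    ⁅P, Cfsg.oddCore X⁆ = ⊥ ∧
      ∀ L : Subgroup X, Cfsg.IsPComponent 2 L → P ≤ L → (∀ l ∈ L, t * l * t⁻¹ ∈ L) → Cfsg.IsQuasisimple ↥L := by
  haveI : Fact (Nat.Prime 2) := ⟨Nat.prime_two⟩
  obtain ⟨hP1, hP2⟩ := hP.1, hP.2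
  have hCN : Subgroup.centralizer ({t} : Set X) ≤ Subgroup.normalizer (P : Set X) :=
    (S1754.result P hP t ht htP).1
  set O := Cfsg.oddCore X with hO
  have ht2 : t * t = 1 := by rw [← pow_two, ← ht, pow_orderOf_eq_one]
  have ht1 : t ≠ 1 := fun h => by simp [h] at ht
  -- commuting involutions of the centralizer are equal
  have hone : ∀ a b : X, a ∈ (Subgroup.centralizer (P : Set X)) → b ∈ (Subgroup.centralizer (P : Set X)) → a * a = 1 → b * b = 1 → a * b = b * a → a ≠ 1 → b ≠ 1 → a = b := by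
    intro a b ha hb ha2 hb2 hab ha1 hb1
    by_contra hne
    let a' : (Subgroup.centralizer (P : Set X)) := ⟨a, ha⟩
    let b' : (Subgroup.centralizer (P : Set X)) := ⟨b, hb⟩
    have hsub : ∀ x ∈ ({a', b'} : Set (Subgroup.centralizer (P : Set X))), ∀ y ∈ ({a', b'} : Set (Subgroup.centralizer (P : Set X))), x * y = y * x := by
      rintro x (rfl | rfl) y (rfl | rfl)
      · rfl
      · exact Subtype.ext hab
      · exact Subtype.ext hab.symm
      · rfl
    haveI : IsMulCommutative ↥(Subgroup.closure ({a', b'} : Set (Subgroup.centralizer (P : Set X)))) :=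
      Subgroup.isMulCommutative_closure hsub
    have hle := hr (Subgroup.closure ({a', b'} : Set (Subgroup.centralizer (P : Set X)))) inferInstance (fun x hx => by
      induction hx using Subgroup.closure_induction with
      | mem z hz =>
        rcases hz with rfl | rfl
        · exact Subtype.ext (by simpa [pow_two] using ha2)
        · exact Subtype.ext (by simpa [pow_two] using hb2)
      | one => exact one_pow 2
      | mul x y hx hy ihx ihy =>
        have hc : Commute x y := congrArg Subtype.val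
          (mul_comm' (⟨x, hx⟩ : Subgroup.closure ({a', b'} : Set (Subgroup.centralizer (P : Set X)))) ⟨y, hy⟩)
        rw [hc.mul_pow, ihx, ihy, one_mul]
      | inv x _ ihx => rw [inv_pow, ihx, inv_one])
    have h3 : ({1, a', b'} : Set (Subgroup.centralizer (P : Set X))) ⊆ (Subgroup.closure ({a', b'} : Set (Subgroup.centralizer (P : Set X))) : Set (Subgroup.centralizer (P : Set X))) := by
      rintro x (rfl | rfl | rfl)
      · exact one_mem _
      · exact Subgroup.subset_closure (Or.inl rfl)
      · exact Subgroup.subset_closure (Or.inr rfl)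
    have hC3 : ({1, a', b'} : Set (Subgroup.centralizer (P : Set X))).ncard = 3 := Set.ncard_eq_three.mpr ⟨1, a', b',
      fun h => ha1 (congrArg Subtype.val h).symm, fun h => hb1 (congrArg Subtype.val h).symm,
      fun h => hne (congrArg Subtype.val h), rfl⟩
    have h4 := Set.ncard_le_ncard h3
    rw [hC3, ← Nat.card_coe_set_eq, SetLike.coe_sort_coe] at h4
    omega
  -- all involutions of `(Subgroup.centralizer (P : Set X))` in `((S : Subgroup (Subgroup.normalizer (P : Set X))).map (Subgroup.normalizer (P : Set X)).subtype)` equal `t`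
  have hS2 : IsPGroup 2 ((S : Subgroup (Subgroup.normalizer (P : Set X))).map (Subgroup.normalizer (P : Set X)).subtype) := S.2.map _
  have hinv : ∀ a : X, a ∈ ((S : Subgroup (Subgroup.normalizer (P : Set X))).map (Subgroup.normalizer (P : Set X)).subtype) → a ∈ (Subgroup.centralizer (P : Set X)) → a * a = 1 → a ≠ 1 → a = t := by
    intro a haS haC ha2 ha1
    set D := ((S : Subgroup (Subgroup.normalizer (P : Set X))).map (Subgroup.normalizer (P : Set X)).subtype) ⊓ (Subgroup.centralizer (P : Set X)) with hD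
    have hD2 : IsPGroup 2 D := hS2.to_le inf_le_left
    haveI : Nontrivial D := (Subgroup.nontrivial_iff_ne_bot D).mpr fun h =>
      ht1 (Subgroup.mem_bot.mp (h ▸ (⟨htS, htP⟩ : t ∈ D)))
    haveI := hD2.center_nontrivial
    obtain ⟨⟨z, hz⟩, hz2⟩ := exists_prime_orderOf_dvd_card' (G := Subgroup.center D) 2 (by
      obtain ⟨n, hn⟩ := IsPGroup.iff_card.mp (hD2.to_subgroup (Subgroup.center D))
      have : 1 < Nat.card (Subgroup.center D) := Finite.one_lt_card
      rw [hn] at this ⊢
      exact dvd_pow_self 2 (fun h0 => by simp [h0] at this))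
    have hz2' : (z : X) * z = 1 := by
      have := pow_orderOf_eq_one (⟨z, hz⟩ : Subgroup.center D)
      rw [hz2, pow_two] at this
      simpa using congrArg (fun w : Subgroup.center D => ((w : D) : X)) this
    have hz1 : (z : X) ≠ 1 := by
      intro h
      have : (⟨z, hz⟩ : Subgroup.center D) = 1 := Subtype.ext (Subtype.ext h)
      simp [this] at hz2
    have hcomm : ∀ x : D, (x : X) * z = z * x := fun x =>
      congrArg Subtype.val (Subgroup.mem_center_iff.mp hz x)
    rw [hone a z haC z.2.2 ha2 hz2' (hcomm ⟨a, haS, haC⟩) ha1 hz1,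
      hone t z htP z.2.2 ht2 hz2' (hcomm ⟨t, htS, htP⟩) ht1 hz1]
  have hS'N : ((S : Subgroup (Subgroup.normalizer (P : Set X))).map (Subgroup.normalizer (P : Set X)).subtype) ≤ (Subgroup.normalizer (P : Set X)) := Subgroup.map_subtype_le _
  have hCn : ∀ n ∈ (Subgroup.normalizer (P : Set X)), ∀ c ∈ (Subgroup.centralizer (P : Set X)), n * c * n⁻¹ ∈ (Subgroup.centralizer (P : Set X)) := by
    intro n hn c hc y hy
    have hy' : n⁻¹ * y * n ∈ P := (Subgroup.mem_normalizer_iff''.mp hn y).mp hy
    calc y * (n * c * n⁻¹) = n * ((n⁻¹ * y * n) * c) * n⁻¹ := by group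
      _ = n * (c * (n⁻¹ * y * n)) * n⁻¹ := by rw [hc _ hy']
      _ = n * c * n⁻¹ * y := by group
  have htc : ∀ s ∈ ((S : Subgroup (Subgroup.normalizer (P : Set X))).map (Subgroup.normalizer (P : Set X)).subtype), s * t = t * s := by
    intro s hs
    have h1 := hinv (s * t * s⁻¹) (mul_mem (mul_mem hs htS) (inv_mem hs)) (hCn s (hS'N hs) t htP)
      (by rw [show s * t * s⁻¹ * (s * t * s⁻¹) = s * (t * t) * s⁻¹ by group, ht2]; group)
      (fun h => ht1 (conj_eq_one_iff.mp h))
    exact mul_inv_eq_iff_eq_mul.mp h1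
  set t' := g * t * g⁻¹ with ht'
  have ht'S : t' ∈ ((S : Subgroup (Subgroup.normalizer (P : Set X))).map (Subgroup.normalizer (P : Set X)).subtype) := hgN t htS
  have ht't : t' * t = t * t' := htc t' ht'S
  have ht'2 : t' * t' = 1 := by
    rw [ht', show g * t * g⁻¹ * (g * t * g⁻¹) = g * (t * t) * g⁻¹ by group, ht2]; group
  have ht'1 : t' ≠ 1 := fun h => ht1 (conj_eq_one_iff.mp h)
  have hne : t' ≠ t := by
    intro h
    have hgN' : g ∈ (Subgroup.normalizer (P : Set X)) := hCN (Subgroup.mem_centralizer_singleton_iff.mpr (mul_inv_eq_iff_eq_mul.mp h))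
    let n : (Subgroup.normalizer (P : Set X)) := ⟨g, hgN'⟩
    have hnS : n ∈ Subgroup.normalizer ((S : Subgroup (Subgroup.normalizer (P : Set X))) : Set (Subgroup.normalizer (P : Set X))) := by
      refine CfsgLib.Comp.mem_normalizer_of_maps (fun x hx => ?_)
      obtain ⟨y, hy, hyx⟩ := hgN (x : X) (Subgroup.mem_map_of_mem _ hx)
      have : n * x * n⁻¹ = y := Subtype.ext hyx.symm
      rw [this]; exact hy
    have hn2 : IsPGroup 2 (Subgroup.zpowers n) := by
      obtain ⟨y, hy, hyx⟩ := hg2
      have hny : n ^ 2 = y := Subtype.ext hyx.symm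
      obtain ⟨k, hk⟩ := S.2 ⟨y, hy⟩
      intro w
      obtain ⟨j, hj⟩ := w.2
      refine ⟨k + 1, Subtype.ext ?_⟩
      have h1 : n ^ (2 ^ (k + 1)) = 1 := by
        rw [pow_succ', pow_mul, hny]
        exact congrArg Subtype.val hk
      change (w : (Subgroup.normalizer (P : Set X))) ^ (2 ^ (k + 1)) = 1
      rw [show (w : (Subgroup.normalizer (P : Set X))) = n ^ j from hj.symm, ← zpow_natCast, ← zpow_mul, mul_comm, zpow_mul, zpow_natCast, h1,
        one_zpow]
    have h5 := hn2.inf_normalizer_sylow S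
    have hn' : n ∈ Subgroup.zpowers n ⊓ Subgroup.normalizer ((S : Subgroup (Subgroup.normalizer (P : Set X))) : Set (Subgroup.normalizer (P : Set X))) :=
      ⟨Subgroup.mem_zpowers n, hnS⟩
    replace hn' := h5.le hn'
    exact hgS ⟨n, hn'.2, rfl⟩
  -- `t' = p c` with involutions `p ∈ P` and `c ∈ (Subgroup.centralizer (P : Set X))`
  obtain ⟨p₀, hp₀, c₀, hc₀, hpc⟩ := CfsgLib.mem_sup_of_le_normalizer
    (CfsgLib.Comp.centralizer_le_normalizer' P) hgt
  set m := Nat.card (Subgroup.center P) with hm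
  have hpc₀ : Commute p₀ c₀ := hc₀ p₀ hp₀
  have hp2c : p₀ * p₀ = (c₀ * c₀)⁻¹ := by
    rw [eq_inv_iff_mul_eq_one]
    calc p₀ * p₀ * (c₀ * c₀) = p₀ * (p₀ * c₀) * c₀ := by group
      _ = p₀ * (c₀ * p₀) * c₀ := by rw [hpc₀.eq]
      _ = (p₀ * c₀) * (p₀ * c₀) := by group
      _ = 1 := by rw [hpc]; exact ht'2
  have hzm : (p₀ * p₀) ^ m = 1 := by
    have hz : (⟨p₀ * p₀, mul_mem hp₀ hp₀⟩ : P) ∈ Subgroup.center P :=
      Subgroup.mem_center_iff.mpr fun y => Subtype.ext (by
        change (y : X) * (p₀ * p₀) = p₀ * p₀ * y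
        rw [hp2c]
        exact (inv_mem (mul_mem hc₀ hc₀) : (c₀ * c₀)⁻¹ ∈ (Subgroup.centralizer (P : Set X))) y y.2)
    have h1 := pow_card_eq_one' (x := (⟨_, hz⟩ : Subgroup.center P))
    have h2 := congrArg (fun w : Subgroup.center P => ((w : P) : X)) h1
    simp only [Subgroup.coe_pow, OneMemClass.coe_one] at h2
    exact h2
  set p := p₀ ^ m with hp
  set c := c₀ ^ m with hc
  have hpP : p ∈ P := pow_mem hp₀ m
  have hcC : c ∈ (Subgroup.centralizer (P : Set X)) := pow_mem hc₀ m
  have hpp : p * p = 1 := by rw [hp, ← (Commute.refl p₀).mul_pow]; exact hzm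
  have hcc : c * c = 1 := by
    rw [hc, ← (Commute.refl c₀).mul_pow, show c₀ * c₀ = (p₀ * p₀)⁻¹ by rw [hp2c, inv_inv], inv_pow, hzm,
      inv_one]
  have htpc : t' = p * c := by
    rw [hp, hc, ← hpc₀.mul_pow, hpc]
    obtain ⟨k, hk⟩ := hZ
    rw [show m = 2 * k + 1 from hk, pow_succ, pow_mul, pow_two, ht'2, one_pow, one_mul]
  have hct : c * t = t * c := by
    have e1 : p * t = t * p := htP p hpP
    have e2 : c = p * t' := by rw [htpc, ← mul_assoc, hpp, one_mul]
    rw [e2, mul_assoc, ht't, ← mul_assoc, e1, mul_assoc]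
  have hc01 : c = 1 ∨ c = t := by
    by_cases h : c = 1
    · exact Or.inl h
    · exact Or.inr (hone c t hcC htP hcc ht2 hct h ht1)
  have hp1 : p ≠ 1 := by
    intro h
    rw [h, one_mul] at htpc
    exact hne (hinv t' ht'S (htpc ▸ hcC) ht'2 ht'1)
  have hPeven : Even (Nat.card P) := by
    have h2 : orderOf (⟨p, hpP⟩ : P) = 2 := orderOf_eq_prime (Subtype.ext (by simpa [pow_two] using hpp))
      (fun h => hp1 (congrArg Subtype.val h))
    exact even_iff_two_dvd.mpr (h2 ▸ orderOf_dvd_natCard _)
  have hOodd : Odd (Nat.card O) := Nat.coprime_two_right.mp (CfsgLib.card_pPrimeCore_coprime 2)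
  have hOn : O.Normal := CfsgLib.Comp.pPrimeCore_normal'
  have hPperf : ⁅P, P⁆ = P := Subgroup.isPerfect_iff.mp hP1.1
  -- `P` centralizes the fixed points of `t` on `O`
  have hPC : ∀ y ∈ O, y * t = t * y → ∀ x ∈ P, x * y = y * x := by
    intro y hyO hyt
    set U := O ⊓ Subgroup.centralizer ({t} : Set X) with hU
    have hUN : U ≤ (Subgroup.normalizer (P : Set X)) := inf_le_right.trans hCN
    have hPU : P ≤ Subgroup.normalizer (U : Set X) := by
      intro x hx
      refine CfsgLib.Comp.mem_normalizer_of_maps (fun u hu => Subgroup.mem_inf.mpr ⟨hOn.conj_mem u (Subgroup.mem_inf.mp hu).1 x, ?_⟩)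
      exact mul_mem (mul_mem (Subgroup.mem_centralizer_singleton_iff.mpr (htP x hx)) (Subgroup.mem_inf.mp hu).2)
        (inv_mem (Subgroup.mem_centralizer_singleton_iff.mpr (htP x hx)))
    have hPUle : ⁅U, P⁆ ≤ (Subgroup.center ↥P).map P.subtype := by
      have h1 : ⁅U, P⁆ ≤ P ⊓ U := le_inf (Subgroup.commutator_le.mpr fun u hu x hx => by
          rw [commutatorElement_def]
          exact mul_mem ((Subgroup.mem_normalizer_iff.mp (hUN hu) x).mp hx) (inv_mem hx))
        (Subgroup.commutator_le.mpr fun u hu x hx => by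
          rw [commutatorElement_def, show u * x * u⁻¹ * x⁻¹ = u * (x * u⁻¹ * x⁻¹) by group]
          exact mul_mem hu ((Subgroup.mem_normalizer_iff.mp (hPU hx) _).mp (inv_mem hu)))
      haveI : ((P ⊓ U).subgroupOf P).Normal :=
        (Subgroup.normal_subgroupOf_iff_le_normalizer inf_le_left).mpr fun x hx =>
          CfsgLib.Comp.mem_normalizer_of_maps fun u hu =>
            Subgroup.mem_inf.mpr ⟨mul_mem (mul_mem hx (Subgroup.mem_inf.mp hu).1) (inv_mem hx),
              (Subgroup.mem_normalizer_iff.mp (hPU hx) u).mp (Subgroup.mem_inf.mp hu).2⟩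
      rcases CfsgLib.quasisimple_normal_le_center_or_eq_top hP1 ((P ⊓ U).subgroupOf P) with h | h
      · intro z hz
        exact ⟨⟨z, (h1 hz).1⟩, h (h1 hz), rfl⟩
      · exfalso
        have hle : P ≤ O := (Subgroup.subgroupOf_eq_top.mp h).trans (inf_le_right.trans inf_le_left)
        exact Nat.not_even_iff_odd.mpr (hOodd.of_dvd_nat (Subgroup.card_dvd_of_le hle)) hPeven
    have hZP : ⁅(Subgroup.center ↥P).map P.subtype, P⁆ = ⊥ := by
      rw [Subgroup.commutator_eq_bot_iff_le_centralizer]
      rintro _ ⟨z, hz, rfl⟩ x hx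
      exact congrArg Subtype.val (Subgroup.mem_center_iff.mp hz ⟨x, hx⟩)
    have h2 : ⁅⁅U, P⁆, P⁆ = ⊥ := le_bot_iff.mp (hZP ▸ Subgroup.commutator_mono hPUle le_rfl)
    have h3 : ⁅⁅P, U⁆, P⁆ = ⊥ := by rwa [Subgroup.commutator_comm P U]
    have h4 := Subgroup.commutator_commutator_eq_bot_of_rotate h3 h2
    rw [hPperf, Subgroup.commutator_eq_bot_iff_le_centralizer] at h4
    intro x hx
    exact (h4 hx y ⟨hyO, Subgroup.mem_centralizer_singleton_iff.mpr hyt⟩).symm
  have hA1 : ∀ y ∈ O, y * t = t * y → y * t' = t' * y := by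
    intro y hy hyt
    have e1 : y * p = p * y := (hPC y hy hyt p hpP).symm
    have e2 : y * c = c * y := by rcases hc01 with h | h <;> rw [h] <;> simp [hyt]
    rw [htpc, ← mul_assoc, e1, mul_assoc, e2, ← mul_assoc]
  have hA2 : ∀ y ∈ O, y * t' = t' * y → y * t = t * y := by
    intro y hy hyt
    have hy' : g⁻¹ * y * g ∈ O := by simpa using hOn.conj_mem y hy g⁻¹
    have h1 : g⁻¹ * y * g * t = t * (g⁻¹ * y * g) := by
      calc g⁻¹ * y * g * t = g⁻¹ * (y * t') * g := by rw [ht']; group
        _ = g⁻¹ * (t' * y) * g := by rw [hyt]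
        _ = t * (g⁻¹ * y * g) := by rw [ht']; group
    have h2 := hA1 _ hy' h1
    have h3 : g ^ 2 * t = t * g ^ 2 := htc _ hg2
    have h4 : g * t' * g⁻¹ = t := by
      calc g * t' * g⁻¹ = g ^ 2 * t * (g ^ 2)⁻¹ := by rw [ht', pow_two]; group
        _ = t := by rw [h3]; group
    calc y * t = g * ((g⁻¹ * y * g) * t') * g⁻¹ := by rw [← h4]; group
      _ = g * (t' * (g⁻¹ * y * g)) * g⁻¹ := by rw [h2]
      _ = t * y := by rw [← h4]; group
  set u := t * t' with hu
  have huu : u * u = 1 := by
    rw [hu, show t * t' * (t * t') = t * (t' * t) * t' by group, ht't,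
      show t * (t * t') * t' = (t * t) * (t' * t') by group, ht2, ht'2, one_mul]
  have hgen : ∀ y ∈ O, y * u = u * y := by
    set W := Subgroup.closure ({t, t'} : Set X) with hW
    haveI : IsMulCommutative W := Subgroup.isMulCommutative_closure (by
      rintro x (rfl | rfl) y (rfl | rfl)
      · rfl
      · exact ht't.symm
      · exact ht't
      · rfl)
    have hWmem : ∀ w ∈ W, w = 1 ∨ w = t ∨ w = t' ∨ w = u := by
      intro w hw
      induction hw using Subgroup.closure_induction with
      | mem z hz => rcases hz with rfl | rfl <;> simp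
      | one => simp
      | mul x y _ _ hx hy =>
        have e1 : t * u = t' := by rw [hu, ← mul_assoc, ht2, one_mul]
        have e2 : u * t = t' := by rw [hu, mul_assoc, ht't, ← mul_assoc, ht2, one_mul]
        have e3 : t' * u = t := by rw [hu, ← mul_assoc, ht't, mul_assoc, ht'2, mul_one]
        have e4 : u * t' = t := by rw [hu, mul_assoc, ht'2, mul_one]
        have e5 : t' * t = u := ht't
        have e6 : t * t' = u := hu.symm
        rcases hx with rfl | rfl | rfl | rfl <;> rcases hy with rfl | rfl | rfl | rfl <;>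
          simp only [one_mul, mul_one, ht2, ht'2, huu, e1, e2, e3, e4, e5, e6, true_or, or_true]
      | inv x _ hx =>
        rcases hx with rfl | rfl | rfl | rfl
        · simp
        · simp [inv_eq_of_mul_eq_one_right ht2]
        · simp [inv_eq_of_mul_eq_one_right ht'2]
        · simp [inv_eq_of_mul_eq_one_right huu]
    have hWcyc : ¬ IsCyclic W := by
      intro hcyc
      obtain ⟨⟨w, hw⟩, hgw⟩ := hcyc.exists_generator
      have hw2 : w * w = 1 := by rcases hWmem w hw with rfl | rfl | rfl | rfl <;> simp [ht2, ht'2, huu]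
      have hmem2 : ∀ x ∈ W, x = 1 ∨ x = w := by
        intro x hx
        obtain ⟨j, hj⟩ := hgw ⟨x, hx⟩
        have hj' : w ^ j = x := congrArg Subtype.val hj
        rcases Int.even_or_odd' j with ⟨k, rfl | rfl⟩
        · left; rw [← hj', zpow_mul, zpow_two, hw2, one_zpow]
        · right; rw [← hj', zpow_add, zpow_mul, zpow_two, hw2, one_zpow, one_mul, zpow_one]
      rcases hmem2 t (Subgroup.subset_closure (Or.inl rfl)) with h | h
      · exact ht1 h
      rcases hmem2 t' (Subgroup.subset_closure (Or.inr rfl)) with h' | h'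
      · exact ht'1 h'
      exact hne (h'.trans h.symm)
    have hcop : (Nat.card W).Coprime (Nat.card O) := by
      have hW2 : IsPGroup 2 W := by
        intro w
        refine ⟨1, Subtype.ext ?_⟩
        change (w : X) ^ (2 ^ 1) = 1
        rw [pow_one, pow_two]
        rcases hWmem w w.2 with h | h | h | h <;> rw [h] <;> simp [ht2, ht'2, huu]
      obtain ⟨k, hk⟩ := IsPGroup.iff_card.mp hW2
      rw [hk]
      exact (Nat.coprime_two_left.mpr hOodd).pow_left k
    have hG := CfsgLib.coprime_generated_by_centralizers (A := W) (K := O) hWcyc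
      (fun a _ => by rw [Subgroup.normalizer_eq_top]; trivial) hcop
    have hle : O ≤ Subgroup.centralizer ({u} : Set X) := by
      refine hG.symm.trans_le (iSup₂_le fun a ha y hy => Subgroup.mem_centralizer_singleton_iff.mpr ?_)
      obtain ⟨hyO, hya⟩ := Subgroup.mem_inf.mp hy
      rw [Subgroup.mem_centralizer_singleton_iff] at hya
      rcases hWmem a ha.1 with h | h | h | h
      · exact absurd h ha.2
      · rw [h] at hya
        rw [hu, ← mul_assoc, hya, mul_assoc, hA1 y hyO hya, ← mul_assoc]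
      · rw [h] at hya
        rw [hu, ← mul_assoc, hA2 y hyO hya, mul_assoc, hya, ← mul_assoc]
      · rwa [h] at hya
    exact fun y hy => Subgroup.mem_centralizer_singleton_iff.mp (hle hy)
  have hsame : ∀ y ∈ O, t' * y * t'⁻¹ = t * y * t⁻¹ := by
    intro y hy
    have e : t' = t * u := by rw [hu, ← mul_assoc, ht2, one_mul]
    rw [e, show t * u * y * (t * u)⁻¹ = t * (u * y) * u⁻¹ * t⁻¹ by group, ← hgen y hy]
    group
  have hPO : ⁅P, O⁆ = ⊥ := by
    set K := Subgroup.centralizer (O : Set X) with hK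
    haveI : (K.subgroupOf P).Normal := by
      haveI : K.Normal := inferInstance
      infer_instance
    rcases CfsgLib.quasisimple_normal_le_center_or_eq_top hP1 (K.subgroupOf P) with h | h
    swap
    · exact Subgroup.commutator_eq_bot_iff_le_centralizer.mpr (Subgroup.subgroupOf_eq_top.mp h)
    exfalso
    -- then `p` is central modulo the centre
    have hpZ : ∀ x : P, x * (⟨p, hpP⟩ : P) * x⁻¹ * (⟨p, hpP⟩ : P)⁻¹ ∈ Subgroup.center P := by
      intro x
      refine h ?_
      rw [Subgroup.mem_subgroupOf]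
      intro y hy
      change y * ((x : X) * p * (x : X)⁻¹ * p⁻¹) = (x : X) * p * (x : X)⁻¹ * p⁻¹ * y
      have hcx : (x : X) * c = c * x := hcC x x.2
      have htx : (x : X) * t = t * x := htP x x.2
      have e : (x : X) * p * (x : X)⁻¹ * p⁻¹ = ((x : X) * t' * (x : X)⁻¹) * t'⁻¹ := by
        rw [htpc, show (x : X) * (p * c) * (x : X)⁻¹ = ((x : X) * p * (x : X)⁻¹) * ((x : X) * c * (x : X)⁻¹) by
          group, hcx]
        group
      have hy1 : (x : X)⁻¹ * (t'⁻¹ * y * t') * x ∈ O := by
        have h0 : t'⁻¹ * y * t' ∈ O := by simpa using hOn.conj_mem y hy t'⁻¹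
        simpa [mul_assoc] using hOn.conj_mem _ h0 (x : X)⁻¹
      have key : ((x : X) * t' * (x : X)⁻¹ * t'⁻¹) * y * ((x : X) * t' * (x : X)⁻¹ * t'⁻¹)⁻¹ = y := by
        calc _ = (x : X) * (t' * ((x : X)⁻¹ * (t'⁻¹ * y * t') * x) * t'⁻¹) * (x : X)⁻¹ := by group
          _ = (x : X) * (t * ((x : X)⁻¹ * (t'⁻¹ * y * t') * x) * t⁻¹) * (x : X)⁻¹ := by rw [hsame _ hy1]
          _ = ((x : X) * t) * (x : X)⁻¹ * (t'⁻¹ * y * t') * (((x : X) * t) * (x : X)⁻¹)⁻¹ := by group
          _ = t * (t'⁻¹ * y * t') * t⁻¹ := by rw [htx]; group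
          _ = t' * (t'⁻¹ * y * t') * t'⁻¹ := by
            rw [hsame (t'⁻¹ * y * t') (by simpa using hOn.conj_mem y hy t'⁻¹)]
          _ = y := by group
      rw [e]
      exact (mul_inv_eq_iff_eq_mul.mp key).symm
    -- perfect: second centre equals centre
    have hpC : (⟨p, hpP⟩ : P) ∈ Subgroup.center P := by
      refine Subgroup.mem_center_iff.mpr fun x => ?_
      let f : P →* P :=
        { toFun := fun y => y * (⟨p, hpP⟩ : P) * y⁻¹ * (⟨p, hpP⟩ : P)⁻¹
          map_one' := by group
          map_mul' := fun a b => by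
            set q := (⟨p, hpP⟩ : P)
            have h1 := Subgroup.mem_center_iff.mp (hpZ b) a
            calc a * b * q * (a * b)⁻¹ * q⁻¹ = a * (b * q * b⁻¹ * q⁻¹) * (q * a⁻¹ * q⁻¹) := by group
              _ = (b * q * b⁻¹ * q⁻¹) * a * (q * a⁻¹ * q⁻¹) := by rw [h1]
              _ = (b * q * b⁻¹ * q⁻¹) * (a * q * a⁻¹ * q⁻¹) := by group
              _ = (a * q * a⁻¹ * q⁻¹) * (b * q * b⁻¹ * q⁻¹) := by rw [Subgroup.mem_center_iff.mp (hpZ a)] }
      have hker : commutator P ≤ f.ker := by
        rw [_root_.commutator_def, Subgroup.commutator_le]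
        intro a _ b _
        rw [MonoidHom.mem_ker, map_commutatorElement, commutatorElement_eq_one_iff_mul_comm]
        exact Subgroup.mem_center_iff.mp (hpZ b) (f a)
      haveI := hP1.1
      have h1 : f x = 1 := MonoidHom.mem_ker.mp (hker Group.IsPerfect.mem_commutator)
      exact mul_inv_eq_iff_eq_mul.mp (mul_inv_eq_one.mp h1)
    have hpC' : p ∈ (Subgroup.centralizer (P : Set X)) := fun y hy => congrArg Subtype.val (Subgroup.mem_center_iff.mp hpC ⟨y, hy⟩)
    exact hne (hinv t' ht'S (htpc ▸ mul_mem hpC' hcC) ht'2 ht'1)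
  refine ⟨hPO, fun L hL hPL _ => ?_⟩
  haveI : (Subgroup.centralizer (O : Set X)).Normal := inferInstance
  rcases CfsgLib.Comp.pcomp_le_or_commutator hL (Subgroup.centralizer (O : Set X)) with h | h
  · exact (CfsgLib.Comp.isComponent_of_pcomp_centralizes hL
      (Subgroup.commutator_eq_bot_iff_le_centralizer.mpr h)).2
  · exfalso
    have hle : P ≤ O := by
      refine le_trans ?_ h
      rw [← hPperf]
      exact Subgroup.commutator_mono hPL (Subgroup.commutator_eq_bot_iff_le_centralizer.mp hPO)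
    exact Nat.not_even_iff_odd.mpr (hOodd.of_dvd_nat (Subgroup.card_dvd_of_le hle)) hPeven
end Cfsg.Agent.S3153
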