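import Cfsg.Statements.S3154
import Cfsg.Agent.Lib.L34Cover.Main

set_option autoImplicit false
open Cfsg

namespace Cfsg.Agent.S3154

/-- Let X be a finite quasisimple group whose centre is an elementary abelian 2-group and whose central quotient is isomorphic to the projective special linear group of dimension 3 over the field with 4 elements. Let T be a Sylow 2-subgroup of X and H ≠ K subgroups of T containing the centre Z(X) whose images in X/Z(X) are elementary abelian of order 16 (the two such subgroups of a Sylow 2-subgroup of the quotient). Then H and K are elementary abelian, H ∩ K is the centre of the subgroup they generate, and each of N_X(H), N_X(K) is a split extension of H, respectively K, by the projective special linear group of dimension 2 over the field with 4 elements (there is a complement isomorphic to that group). -/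
theorem result {X : Type*} [Group X] [Finite X] (hq : Cfsg.IsQuasisimple X) (hZ : Cfsg.IsElementaryAbelian 2 (Subgroup.center X))
    {F : Type*} [Field F] [Fintype F] (hF : Fintype.card F = 4) (hXL : Nonempty ((X ⧸ Subgroup.center X) ≃* Matrix.ProjectiveSpecialLinearGroup (Fin 3) F))
    (T : Sylow 2 X) (H K : Subgroup X) (hHK : H ≠ K) (hHT : H ≤ T) (hKT : K ≤ T) (hZH : Subgroup.center X ≤ H) (hZK : Subgroup.center X ≤ K)
    (hH : Cfsg.IsElementaryAbelian 2 (H.map (QuotientGroup.mk' (Subgroup.center X))) ∧ Nat.card ↥(H.map (QuotientGroup.mk' (Subgroup.center X))) = 16)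
    (hK : Cfsg.IsElementaryAbelian 2 (K.map (QuotientGroup.mk' (Subgroup.center X))) ∧ Nat.card ↥(K.map (QuotientGroup.mk' (Subgroup.center X))) = 16) :
    Cfsg.IsElementaryAbelian 2 H ∧ Cfsg.IsElementaryAbelian 2 K ∧
      H ⊓ K = (Subgroup.center ↥(H ⊔ K)).map (H ⊔ K).subtype ∧
      (∃ C : Subgroup X, C ≤ Subgroup.normalizer (H : Set X) ∧ C ⊓ H = ⊥ ∧ H ⊔ C = Subgroup.normalizer (H : Set X) ∧
        Nonempty (↥C ≃* Matrix.ProjectiveSpecialLinearGroup (Fin 2) F)) ∧
      (∃ C : Subgroup X, C ≤ Subgroup.normalizer (K : Set X) ∧ C ⊓ K = ⊥ ∧ K ⊔ C = Subgroup.normalizer (K : Set X) ∧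
        Nonempty (↥C ≃* Matrix.ProjectiveSpecialLinearGroup (Fin 2) F)) := by
  classical
  obtain ⟨φ⟩ := hXL
  have hker : (φ.toMonoidHom.comp (QuotientGroup.mk' (Subgroup.center X))).ker = Subgroup.center X := by
    ext x
    simp
  have hS : CfsgLib.L34Cover.Setup (φ.toMonoidHom.comp (QuotientGroup.mk' (Subgroup.center X))) :=
    ⟨φ.surjective.comp (QuotientGroup.mk'_surjective _), hker.le, fun z hz => by
      rw [hker] at hz
      have := hZ.2 z hz
      rwa [pow_two] at this⟩
  have hmap : ∀ J : Subgroup X, J.map (φ.toMonoidHom.comp (QuotientGroup.mk' (Subgroup.center X))) =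
      (J.map (QuotientGroup.mk' (Subgroup.center X))).map φ.toMonoidHom := fun J =>
    (Subgroup.map_map _ _ _).symm
  have hsq : ∀ J : Subgroup X, Cfsg.IsElementaryAbelian 2 (J.map (QuotientGroup.mk' (Subgroup.center X))) →
      ∀ e ∈ J.map (φ.toMonoidHom.comp (QuotientGroup.mk' (Subgroup.center X))), e * e = 1 := by
    intro J hJ e he
    rw [hmap] at he
    obtain ⟨e₀, he₀, rfl⟩ := he
    rw [← map_mul, ← pow_two, hJ.2 e₀ he₀, map_one]
  have hcard : ∀ J : Subgroup X, Nat.card (J.map (QuotientGroup.mk' (Subgroup.center X))) = 16 →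
      Nat.card (J.map (φ.toMonoidHom.comp (QuotientGroup.mk' (Subgroup.center X)))) = 16 := fun J hJ => by
    rw [hmap, ← hJ]
    exact (Nat.card_congr ((J.map (QuotientGroup.mk' (Subgroup.center X))).equivMapOfInjective _ φ.injective).toEquiv).symm
  exact CfsgLib.L34Cover.main hF hS T H K hHK hHT hKT (hker.le.trans hZH) (hker.le.trans hZK)
    (hsq H hH.1) (hcard H hH.2) (hsq K hK.1) (hcard K hK.2)

end Cfsg.Agent.S3154
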