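import Cfsg.Statements.S3155
import Mathlib

set_option autoImplicit false
open Cfsg

namespace Cfsg.Agent.S3155



/-- Let B be the direct product of three cyclic groups of order 4. Then the automorphism of B inverting every element is not the square of any automorphism of B. -/
theorem result {B : Type*} [CommGroup B] [Finite B] (hB : Nonempty (B ≃* Multiplicative (ZMod 4 × ZMod 4 × ZMod 4)))
    (τ : B ≃* B) : τ.trans τ ≠ MulEquiv.inv B := by
  intro h
  obtain ⟨e⟩ := hB
  let M := ZMod 4 × ZMod 4 × ZMod 4
  let f : M →+ M :=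
    { toFun := fun a => Multiplicative.toAdd (e (τ (e.symm (Multiplicative.ofAdd a))))
      map_zero' := by simp
      map_add' := fun a b => by simp }
  let L : M →ₗ[ZMod 4] M := f.toZModLinearMap 4
  have hL : L ∘ₗ L = (-1 : ZMod 4) • LinearMap.id := by
    refine LinearMap.ext fun a => ?_
    have := DFunLike.congr_fun h (e.symm (Multiplicative.ofAdd a))
    simp only [MulEquiv.trans_apply, MulEquiv.inv_apply] at this
    show Multiplicative.toAdd (e (τ (e.symm (Multiplicative.ofAdd (Multiplicative.toAdd (e (τ (e.symm (Multiplicative.ofAdd a))))))))) = _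
    rw [ofAdd_toAdd, MulEquiv.symm_apply_apply, this, map_inv, MulEquiv.apply_symm_apply]
    simp
  have hd := congrArg LinearMap.det hL
  rw [LinearMap.det_comp, LinearMap.det_smul, LinearMap.det_id, mul_one] at hd
  haveI : Nontrivial (ZMod 4) := ⟨⟨0, 1, by decide⟩⟩
  have hr : Module.finrank (ZMod 4) M = 3 := by
    show Module.finrank (ZMod 4) (ZMod 4 × ZMod 4 × ZMod 4) = 3
    rw [Module.finrank_prod, Module.finrank_prod, Module.finrank_self]
  rw [hr] at hd
  have key : ∀ d : ZMod 4, d * d ≠ (-1) ^ 3 := by decide
  exact key _ hd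

end Cfsg.Agent.S3155
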