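import Cfsg.Statements.S3156
import Cfsg.Agent.Lib.FpfTwo.SixtyNoS3
import Cfsg.Agent.Lib.SuzukiTwo.UnitarySixty
-- import your own Cfsg.Agent.* helpers here

set_option autoImplicit false
open Cfsg

namespace Cfsg.Agent.S3156

/-- If a finite group T is isomorphic to a Sylow 2-subgroup of the projective special unitary group of dimension 3 with parameter 4 (realised over the field with 16 elements), then no subgroup of the automorphism group of T is isomorphic to the symmetric group of degree 3. -/
theorem result {T : Type*} [Group T] [Finite T] (hT : (∃ (F : Type) (_ : Field F) (_ : Fintype F), Fintype.card F = 16 ∧ ∃ S : Sylow 2 (Cfsg.PSU 3 F 4), Nonempty (T ≃* ↥(S : Subgroup (Cfsg.PSU 3 F 4))))) (H : Subgroup (MulAut T)) : ¬ Nonempty (↥H ≃* Equiv.Perm (Fin 3)) := by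
  classical
  obtain ⟨F, iF, iFt, h16, S, ⟨e⟩⟩ := hT
  have h := CfsgLib.SuzukiTwo.sixty h16 S
  rintro ⟨φ⟩
  let Φ : Equiv.Perm (Fin 3) →* MulAut (S : Subgroup (Cfsg.PSU 3 F 4)) :=
    (MulAut.congr e).toMonoidHom.comp (H.subtype.comp φ.symm.toMonoidHom)
  have hΦ : Function.Injective Φ :=
    (MulAut.congr e).injective.comp (Subtype.val_injective.comp φ.symm.injective)
  let σ : Equiv.Perm (Fin 3) := finRotate 3
  let τ : Equiv.Perm (Fin 3) := Equiv.swap 0 1
  have e3 : σ * σ * σ = 1 := by decide
  have e2 : τ * τ = 1 := by decide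
  have e1 : τ * σ = σ * σ * τ := by decide
  have hσ : σ ≠ 1 := by decide
  refine hσ (hΦ (MulEquiv.ext fun g => ?_))
  rw [map_one]
  exact h.no_dihedral (r := Φ σ) (x := Φ τ)
    (fun g => by
      have := congrArg (fun ψ : MulAut _ => ψ g) (congrArg Φ e3)
      simpa [map_mul] using this)
    (fun g => by
      have := congrArg (fun ψ : MulAut _ => ψ g) (congrArg Φ e2)
      simpa [map_mul] using this)
    (fun g => by
      have := congrArg (fun ψ : MulAut _ => ψ g) (congrArg Φ e1)
      simpa [map_mul] using this) g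

end Cfsg.Agent.S3156
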