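import Cfsg.Statements.S3157
import Cfsg.Agent.Lib.FpfTwo.SixtyFour
import Cfsg.Agent.S4399
import Mathlib.FieldTheory.Finite.GaloisField
-- import your own Cfsg.Agent.* helpers here

set_option autoImplicit false
open Cfsg
open scoped commutatorElement

namespace Cfsg.Agent.S3157

/-- Let T be a non-abelian group of order 64 admitting automorphisms ρ of order 3 and x of order 2 with x ρ x⁻¹ = ρ⁻¹ (so they generate a symmetric group of degree 3), where ρ fixes only the identity. Then T is isomorphic to a Sylow 2-subgroup of the projective special linear group of dimension 3 over the field with 4 elements, and the subgroup of fixed points of x is dihedral of order 8 or quaternion of order 8. -/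
theorem result {T : Type*} [Group T] [Finite T] (hT : Nat.card T = 64) (hna : ¬ IsMulCommutative T) (ρ x : MulAut T) (hρ : orderOf ρ = 3) (hx : orderOf x = 2)
    (hxr : x * ρ * x⁻¹ = ρ⁻¹) (hfp : ∀ y : T, ρ y = y → y = 1) (C : Subgroup T) (hC : ∀ y : T, y ∈ C ↔ x y = y) :
    (∃ (F : Type) (_ : Field F) (_ : Fintype F), Fintype.card F = 4 ∧
        ∃ S : Sylow 2 (Matrix.ProjectiveSpecialLinearGroup (Fin 3) F), Nonempty (T ≃* ↥(S : Subgroup (Matrix.ProjectiveSpecialLinearGroup (Fin 3) F)))) ∧
      (Nonempty (↥C ≃* DihedralGroup 4) ∨ Nonempty (↥C ≃* QuaternionGroup 2)) := by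
  classical
  have hne : ∃ a b : T, a * b ≠ b * a := by
    by_contra hn; push Not at hn
    exact hna ⟨⟨hn⟩⟩
  have hρ3 : ρ ^ 3 = 1 := by rw [← hρ, pow_orderOf_eq_one]
  have h3 : ∀ g, ρ (ρ (ρ g)) = g := fun g => by
    have := congrArg (fun φ : MulAut T => φ g) hρ3
    simpa [pow_succ] using this
  have hx2 : ∀ g, x (x g) = g := fun g => by
    have := congrArg (fun φ : MulAut T => φ g) (show x ^ 2 = 1 by rw [← hx, pow_orderOf_eq_one])
    simpa [pow_succ] using this
  have hinv : ρ⁻¹ = ρ ^ 2 := inv_eq_of_mul_eq_one_left (by rw [← pow_succ]; exact hρ3)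
  have hxρ : ∀ g, x (ρ g) = ρ (ρ (x g)) := fun g => by
    have := congrArg (fun φ : MulAut T => φ (x g)) hxr
    rw [hinv] at this
    simpa [pow_two] using this
  obtain ⟨⟨m₁, m₂, hm₁, hm₂, hB⟩, ⟨e, he, heK⟩, h8⟩ :=
    CfsgLib.FpfTwo.sixtyFour_inverted hT hne h3 hfp hx2 hxρ
  obtain ⟨hp, hK4, hKsq, hsqK, -⟩ := CfsgLib.FpfTwo.sixtyFour_basic hT hne h3 hfp
  refine ⟨?_, ?_⟩
  · haveI := Fintype.ofFinite (GaloisField 2 2)
    have hF : Fintype.card (GaloisField 2 2) = 4 := by
      rw [← Nat.card_eq_fintype_card, GaloisField.card 2 2 two_ne_zero]; norm_num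
    haveI : Fact (Nat.Prime 2) := ⟨Nat.prime_two⟩
    obtain ⟨e1⟩ := CfsgLib.FpfTwo.sixtyFour_upper hF hT hne h3 hfp he heK
    refine ⟨GaloisField 2 2, inferInstance, inferInstance, hF,
      CfsgLib.PSLn.upperSylow (F := GaloisField 2 2) (n := 3) 2, ⟨?_⟩⟩
    exact e1.symm.trans ((MonoidHom.ofInjective (CfsgLib.PSLn.upperHom_injective (F := GaloisField 2 2) (n := 3))).trans
      (MulEquiv.subgroupCongr (CfsgLib.PSLn.coe_upperSylow (F := GaloisField 2 2) (n := 3) 2).symm))
  haveI : Fact (Nat.Prime 2) := ⟨Nat.prime_two⟩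
  obtain ⟨hC8, -⟩ := h8 C hC
  have hpC : IsPGroup 2 C := hp.to_subgroup C
  -- the order is eight
  have hm : (⟨m₁, (hC _).mpr hm₁⟩ : C) * ⟨m₂, (hC _).mpr hm₂⟩ ≠ ⟨m₂, (hC _).mpr hm₂⟩ * ⟨m₁, (hC _).mpr hm₁⟩ := by
    intro h
    exact hB (commutatorElement_eq_one_iff_commute.mpr (congrArg Subtype.val h))
  obtain ⟨k, hk⟩ := hpC.exists_card_eq
  have hC8' : Nat.card C = 8 := by
    have hk3 : 3 ≤ k := by
      by_contra hlt
      push Not at hlt
      apply hm
      interval_cases k
      · haveI : Subsingleton C := (Nat.card_eq_one_iff_unique.mp (by simpa using hk)).1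
        exact Subsingleton.elim _ _
      · haveI : IsCyclic C := isCyclic_of_prime_card (p := 2) (by simpa using hk)
        exact (IsCyclic.commutative (α := C)).1.1 _ _
      · exact IsPGroup.commutative_of_card_eq_prime_sq (p := 2) hk _ _
    have hk3' : k ≤ 3 := by
      by_contra hlt
      push Not at hlt
      have := Nat.pow_le_pow_right (show 1 ≤ 2 by norm_num) hlt
      rw [← hk] at this
      omega
    rw [hk, show k = 3 by omega]; norm_num
  -- the commutator subgroup
  have hcl : ∀ a b g : T, g * ⁅a, b⁆ = ⁅a, b⁆ * g := CfsgLib.FpfTwo.fpf_class_two hp h3 hfp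
  have hcc : commutator C ≤ (Subgroup.center T).comap C.subtype := by
    rw [commutator_def, Subgroup.commutator_le]
    intro a _ b _
    rw [Subgroup.mem_comap, map_commutatorElement]
    exact Subgroup.mem_center_iff.mpr fun g => hcl _ _ g
  have hfixK : ∀ z ∈ Subgroup.center T, x z = z → ∀ w ∈ Subgroup.center T, x w = w → z ≠ 1 → w ≠ 1 → z = w := by
    intro z hz hzx w hw hwx hz1 hw1
    by_contra hne'
    -- otherwise `x` fixes the centre, against inversion of `ρ`
    have hmemz : ∀ v ∈ Subgroup.center T, v = 1 ∨ v = z ∨ v = w ∨ v = z * w := by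
      intro v hv
      have hsub : ({1, z, w, z * w} : Set T) ⊆ (Subgroup.center T : Set T) := by
        intro u hu
        simp only [Set.mem_insert_iff, Set.mem_singleton_iff] at hu
        rcases hu with rfl | rfl | rfl | rfl
        exacts [one_mem _, hz, hw, mul_mem hz hw]
      have hzw1 : z * w ≠ 1 := fun h => hne' ((eq_inv_of_mul_eq_one_left h).trans
        (inv_eq_of_mul_eq_one_right (hKsq w hw)))
      have hcard : ({1, z, w, z * w} : Set T).ncard = 4 := by
        rw [Set.ncard_insert_of_notMem, Set.ncard_insert_of_notMem, Set.ncard_insert_of_notMem,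
          Set.ncard_singleton] <;>
          simp [Ne.symm hz1, Ne.symm hw1, Ne.symm hzw1, hne', hz1, hw1]
      have heq := Set.eq_of_subset_of_ncard_le hsub (le_of_eq (by
        rw [hcard, ← Nat.card_coe_set_eq]; exact hK4)) (Set.toFinite _)
      have : v ∈ ({1, z, w, z * w} : Set T) := by rw [heq]; exact hv
      simpa using this
    have hall : ∀ v ∈ Subgroup.center T, x v = v := by
      intro v hv
      rcases hmemz v hv with rfl | rfl | rfl | rfl
      exacts [map_one x, hzx, hwx, by rw [map_mul, hzx, hwx]]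
    have hρz : ρ z ∈ Subgroup.center T := Subgroup.mem_center_iff.mpr fun g => by
      obtain ⟨g', rfl⟩ := ρ.surjective g
      rw [← map_mul, Subgroup.mem_center_iff.mp hz g', map_mul]
    have := hxρ z
    rw [hall _ hρz, hzx] at this
    exact hz1 (hfp z (ρ.injective this.symm))
  have hcard2 : Nat.card (commutator C) ≤ 2 := by
    refine le_trans (Nat.card_le_card_of_injective (fun a => decide ((a : C) = 1)) ?_) (le_of_eq (by simp))
    intro a b hab
    have hab' := decide_eq_decide.mp hab
    refine Subtype.ext ?_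
    by_cases ha : (a : C) = 1
    · rw [ha, hab'.mp ha]
    · have hb : (b : C) ≠ 1 := fun h => ha (hab'.mpr h)
      exact Subtype.ext (hfixK _ (hcc a.2) ((hC _).mp (a : C).2) _ (hcc b.2) ((hC _).mp (b : C).2)
        (fun h => ha (Subtype.ext h)) (fun h => hb (Subtype.ext h)))
  have hcomm1 : Nat.card (commutator C) ≠ 1 := by
    intro h
    haveI := (Nat.card_eq_one_iff_unique.mp h).1
    have h1 := Subsingleton.elim (⟨_, Subgroup.commutator_mem_commutator (Subgroup.mem_top (⟨m₁, (hC _).mpr hm₁⟩ : C)) (Subgroup.mem_top (⟨m₂, (hC _).mpr hm₂⟩ : C))⟩ : commutator C) 1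
    exact hm (commutatorElement_eq_one_iff_commute.mp (congrArg Subtype.val h1))
  have hab : Nat.card (Abelianization C) = 4 := by
    have h1 := (commutator C).card_eq_card_quotient_mul_card_subgroup
    have h2 : Nat.card (commutator C) = 2 := by
      have := Nat.card_pos (α := commutator C)
      omega
    rw [hC8', h2] at h1
    show Nat.card (C ⧸ commutator C) = 4
    omega
  have hexp : ∀ a : Abelianization C, a ^ 2 = 1 := by
    intro a
    obtain ⟨g, rfl⟩ : ∃ g, Abelianization.of g = a := QuotientGroup.mk'_surjective _ a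
    rw [← map_pow, ← MonoidHom.mem_ker, Abelianization.ker_of]
    by_cases hg : g * g = 1
    · rw [pow_two, hg]; exact one_mem _
    obtain ⟨⟨c, hc⟩, hc1⟩ : ∃ c : commutator C, c ≠ 1 := by
      haveI : Nontrivial (commutator C) := Finite.one_lt_card_iff_nontrivial.mp (by
        have := Nat.card_pos (α := commutator C)
        omega)
      exact exists_ne 1
    have : g ^ 2 = c := Subtype.ext (hfixK _ (by rw [pow_two]; exact hsqK g) ((hC _).mp (g ^ 2).2) _ (hcc hc)
      ((hC _).mp c.2) (fun h => hg (by rw [← pow_two]; exact Subtype.ext h)) (fun h => hc1 (Subtype.ext (Subtype.ext h))))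
    rwa [this]
  rcases Cfsg.Agent.S4399.result hpC hab hexp with h | ⟨j, ⟨e2⟩⟩ | ⟨j, hj, -⟩ | ⟨j, ⟨e2⟩⟩
  · omega
  · left
    have h1 := Nat.card_congr e2.toEquiv
    rw [hC8', DihedralGroup.nat_card] at h1
    have : j = 0 := by
      by_contra hj
      have := Nat.pow_le_pow_right (show 1 ≤ 2 by norm_num) (show 3 ≤ j + 2 by omega)
      omega
    subst this
    exact ⟨e2⟩
  · exfalso
    have := Nat.pow_le_pow_right (show 1 ≤ 2 by norm_num) (show 4 ≤ j + 4 by omega)
    omega
  · right
    have h1 := Nat.card_congr e2.toEquiv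
    rw [hC8', Nat.card_eq_fintype_card, QuaternionGroup.card] at h1
    have : j = 0 := by
      by_contra hj
      have := Nat.pow_le_pow_right (show 1 ≤ 2 by norm_num) (show 2 ≤ j + 1 by omega)
      omega
    subst this
    exact ⟨e2⟩

end Cfsg.Agent.S3157
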