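import Cfsg.Statements.S3158
import Mathlib
import Cfsg.Agent.Lib.Elementary

set_option autoImplicit false
open Cfsg

namespace Cfsg.Agent.S3158

theorem abelian_aux {U : Type*} [Group U] [Finite U] (n : ℕ) (hU : Nat.card U = (2 ^ n) ^ 2)
    (y : MulAut U) (hy : orderOf y = 2 ^ n - 1) (hfp : ∀ k : ℕ, y ^ k ≠ 1 → ∀ u : U, (y ^ k) u = u → u = 1)
    (V : Subgroup U) [V.Normal] (hyV : ∀ v ∈ V, y v ∈ V)
    (hVe : ∀ v ∈ V, v ^ 2 = 1) (hQe : ∀ u : U, u ^ 2 ∈ V)
    (φ : ↥V ≃* U ⧸ V) (hφ : ∀ (v : ↥V) (u : U), (QuotientGroup.mk u : U ⧸ V) = φ v → φ ⟨y v, hyV v v.2⟩ = QuotientGroup.mk (y u)) :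
    IsMulCommutative U := by
  classical
  have hsplit : Nat.card V = 2 ^ n := by
    have h := V.card_eq_card_quotient_mul_card_subgroup
    rw [← Nat.card_congr φ.toEquiv, hU, ← sq] at h
    exact (Nat.pow_left_injective (by norm_num) h).symm
  have hyk : ∀ k : ℕ, ∀ v ∈ V, (y ^ k) v ∈ V := by
    intro k
    induction k with
    | zero => exact fun v hv => hv
    | succ k ih => intro v hv; rw [pow_succ', MulAut.mul_apply]; exact hyV _ (ih v hv)
  have hφk : ∀ (k : ℕ) (v : ↥V) (u : U), (QuotientGroup.mk u : U ⧸ V) = φ v →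
      φ ⟨(y ^ k) v, hyk k v v.2⟩ = QuotientGroup.mk ((y ^ k) u) := by
    intro k
    induction k with
    | zero => intro v u h; exact h.symm
    | succ k ih =>
      intro v u h
      have h1 := hφ ⟨(y ^ k) v, hyk k v v.2⟩ ((y ^ k) u) (ih v u h).symm
      simp only [pow_succ', MulAut.mul_apply]
      exact h1
  -- the orbit of a nontrivial element of `V` is everything but 1
  have horbit : ∀ v w : ↥V, v ≠ 1 → w ≠ 1 → ∃ k : ℕ, (y ^ k) (v : U) = w := by
    intro v w hv hw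
    let f : Fin (2 ^ n - 1) → {x : ↥V // x ≠ 1} := fun k => ⟨⟨(y ^ (k : ℕ)) v, hyk _ v v.2⟩, fun h => hv (by
      have := congrArg Subtype.val h
      simpa using this)⟩
    have hinj : Function.Injective f := by
      have key : ∀ a b : Fin (2 ^ n - 1), (a : ℕ) ≤ b → f a = f b → a = b := by
        intro a b hab h
        have e : (y ^ (a : ℕ)) (v : U) = (y ^ (b : ℕ)) (v : U) := congrArg (fun x : {x : ↥V // x ≠ 1} => ((x : ↥V) : U)) h
        rw [show (b : ℕ) = a + (b - a) by omega, pow_add, MulAut.mul_apply] at e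
        have e' := (y ^ (a : ℕ)).injective e
        by_contra hne
        refine hv (Subtype.ext (hfp (b - a) ?_ v e'.symm))
        refine pow_ne_one_of_lt_orderOf ?_ ?_
        · have : (a : ℕ) ≠ b := fun h => hne (Fin.ext h)
          omega
        · rw [hy]; omega
      intro a b h
      rcases le_total (a : ℕ) b with hab | hab
      · exact key a b hab h
      · exact (key b a hab h.symm).symm
    have hb := hinj.bijective_of_nat_card_le (by
      rw [Nat.card_fin]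
      haveI := Fintype.ofFinite ↥V
      rw [Nat.card_eq_fintype_card, Fintype.card_subtype_compl, Fintype.card_subtype_eq, ← Nat.card_eq_fintype_card, hsplit])
    obtain ⟨k, hk⟩ := hb.2 ⟨w, hw⟩
    exact ⟨k, congrArg (fun x : {x : ↥V // x ≠ 1} => ((x : ↥V) : U)) hk⟩
  by_cases hall : ∀ u : U, u ^ 2 = 1
  · refine ⟨⟨fun a b => ?_⟩⟩
    have h1 : ∀ u : U, u⁻¹ = u := fun u => inv_eq_of_mul_eq_one_right (by rw [← sq]; exact hall u)
    calc a * b = (a * b)⁻¹ := (h1 _).symm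
      _ = b⁻¹ * a⁻¹ := mul_inv_rev a b
      _ = b * a := by rw [h1, h1]
  push Not at hall
  obtain ⟨u0, hu0⟩ := hall
  set x0 := φ.symm (QuotientGroup.mk u0) with hx0
  have hx0φ : (QuotientGroup.mk u0 : U ⧸ V) = φ x0 := (φ.apply_symm_apply _).symm
  have hx0ne : x0 ≠ 1 := by
    intro h
    rw [h, map_one, QuotientGroup.eq_one_iff] at hx0φ
    exact hu0 (hVe _ hx0φ)
  obtain ⟨m, hm⟩ := horbit x0 ⟨u0 ^ 2, hQe u0⟩ hx0ne (fun h => hu0 (congrArg Subtype.val h))
  -- squares depend only on the coset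
  -- `V` is central
  haveI : Fact (Nat.Prime 2) := ⟨Nat.prime_two⟩
  have hU2 : IsPGroup 2 U := IsPGroup.of_card (n := n * 2) (by rw [hU, pow_mul])
  have hV1 : V ≠ ⊥ := fun h => hx0ne (Subtype.ext ((Subgroup.mem_bot).mp (h ▸ x0.2)))
  obtain ⟨z, hzV, hzc, hz1⟩ : ∃ z ∈ V, z ∈ Subgroup.center U ∧ z ≠ 1 := by
    haveI := hU2.isNilpotent
    obtain ⟨⟨z, hz⟩, hz1⟩ := Subgroup.ne_bot_iff_exists_ne_one.mp (CfsgLib.inf_center_ne_bot_of_nilpotent hV1)
    exact ⟨z, (Subgroup.mem_inf.mp hz).1, (Subgroup.mem_inf.mp hz).2, fun e => hz1 (Subtype.ext e)⟩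
  have hVc : ∀ u : U, ∀ v ∈ V, u * v = v * u := by
    intro u v hv
    by_cases hv1 : v = 1
    · simp [hv1]
    obtain ⟨k, hk⟩ := horbit ⟨z, hzV⟩ ⟨v, hv⟩ (fun h => hz1 (congrArg Subtype.val h)) (fun h => hv1 (congrArg Subtype.val h))
    have hk' : (y ^ k) z = v := hk
    refine Subgroup.mem_center_iff.mp (hk' ▸ ?_) u
    exact Subgroup.mem_center_iff.mpr fun w => (y ^ k).symm.injective (by
      rw [map_mul, map_mul, MulEquiv.symm_apply_apply]; exact Subgroup.mem_center_iff.mp hzc _)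
  have hcos : ∀ u w : U, (QuotientGroup.mk u : U ⧸ V) = QuotientGroup.mk w → u ^ 2 = w ^ 2 := by
    intro u w h
    obtain ⟨v, hv, rfl⟩ : ∃ v ∈ V, w = u * v := ⟨u⁻¹ * w, QuotientGroup.eq.mp h, by group⟩
    rw [sq, sq, show u * v * (u * v) = u * (v * u) * v by group, ← hVc u v hv,
      show u * (u * v) * v = u * u * (v * v) by group, ← sq v, hVe v hv, mul_one]
  have hgen : ∀ u : U, u ^ 2 = (y ^ m) (φ.symm (QuotientGroup.mk u) : U) := by
    intro u
    by_cases huV : u ∈ V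
    · rw [(QuotientGroup.eq_one_iff u).mpr huV, map_one, Subgroup.coe_one, map_one, hVe u huV]
    obtain ⟨k, hk⟩ := horbit x0 (φ.symm (QuotientGroup.mk u)) hx0ne (fun h => huV (by
      rw [← QuotientGroup.eq_one_iff, ← φ.apply_symm_apply (QuotientGroup.mk u), h, map_one]))
    have h1 : (QuotientGroup.mk u : U ⧸ V) = QuotientGroup.mk ((y ^ k) u0) := by
      rw [← hφk k x0 u0 hx0φ]
      conv_lhs => rw [← φ.apply_symm_apply (QuotientGroup.mk u)]
      exact congrArg φ (Subtype.ext hk.symm)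
    have hm' : (y ^ m) (x0 : U) = u0 ^ 2 := hm
    rw [hcos u _ h1, ← map_pow, ← hm', ← hk, ← MulAut.mul_apply, ← pow_add, ← MulAut.mul_apply, ← pow_add, add_comm]
  refine ⟨⟨fun a b => ?_⟩⟩
  have h2 : (a * b) ^ 2 = a ^ 2 * b ^ 2 := by
    rw [hgen, hgen a, hgen b, ← map_mul, ← Subgroup.coe_mul, ← map_mul, ← QuotientGroup.mk_mul]
  rw [sq, sq, sq, show a * b * (a * b) = a * (b * a) * b by group, show a * a * (b * b) = a * (a * b) * b by group] at h2
  exact (mul_left_cancel (mul_right_cancel h2)).symm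

/-- Let U be a group of order q² with q = 2^n ≥ 2, and y an automorphism of U of order q − 1 all of whose nontrivial powers fix only the identity. Let V be a proper normal y-invariant subgroup of U such that V and U/V are elementary abelian 2-groups and there is an isomorphism from V to U/V commuting with the actions of y. Then U is abelian. -/
theorem result {U : Type*} [Group U] [Finite U] (n : ℕ) (hn : 1 ≤ n) (hU : Nat.card U = (2 ^ n) ^ 2)
    (y : MulAut U) (hy : orderOf y = 2 ^ n - 1) (hfp : ∀ k : ℕ, y ^ k ≠ 1 → ∀ u : U, (y ^ k) u = u → u = 1)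
    (V : Subgroup U) [V.Normal] (hV : V ≠ ⊤) (hyV : ∀ v ∈ V, y v ∈ V)
    (hVe : ∀ v ∈ V, v ^ 2 = 1) (hQe : ∀ u : U, u ^ 2 ∈ V) (hQc : ∀ u w : U, u * w * u⁻¹ * w⁻¹ ∈ V)
    (φ : ↥V ≃* U ⧸ V) (hφ : ∀ (v : ↥V) (u : U), (QuotientGroup.mk u : U ⧸ V) = φ v → φ ⟨y v, hyV v v.2⟩ = QuotientGroup.mk (y u)) :
    IsMulCommutative U := by
  exact abelian_aux n hU y hy hfp V hyV hVe hQe φ hφ

end Cfsg.Agent.S3158
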