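import Cfsg.Statements.S3161
import Cfsg.Agent.Lib.InvFixedSinger.Setup

set_option autoImplicit false
open Cfsg

namespace Cfsg.Agent.S3161

/-- Let Q be a non-abelian finite 2-group admitting commuting automorphisms α of order 2 and ρ of order 2^n − 1, where n ≥ 2, such that the fixed points of α form an elementary abelian subgroup of order 2^n on whose nonidentity elements the group generated by ρ acts transitively. Then Q is isomorphic to a Sylow 2-subgroup of the projective special unitary group of dimension 3 with parameter 2^n (realised over the field with 4^n elements) or of the projective special linear group of dimension 3 over the field with 2^n elements. -/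
theorem result {Q : Type*} [Group Q] [Finite Q] (hQ : IsPGroup 2 Q) (hna : ¬ IsMulCommutative Q) (n : ℕ) (hn : 2 ≤ n)
    (α ρ : MulAut Q) (hα : orderOf α = 2) (hρ : orderOf ρ = 2 ^ n - 1) (hc : Commute α ρ)
    (C : Subgroup Q) (hC : ∀ x : Q, x ∈ C ↔ α x = x) (hCE : Cfsg.IsElementaryAbelian 2 C ∧ Nat.card ↥C = 2 ^ n)
    (htr : ∀ x y : Q, x ∈ C → y ∈ C → x ≠ 1 → y ≠ 1 → ∃ k : ℕ, (ρ ^ k) x = y) :
    (∃ (F : Type) (_ : Field F) (_ : Fintype F), Fintype.card F = 4 ^ n ∧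
        ∃ S : Sylow 2 (Cfsg.PSU 3 F (2 ^ n)), Nonempty (Q ≃* ↥(S : Subgroup (Cfsg.PSU 3 F (2 ^ n))))) ∨
      (∃ (F : Type) (_ : Field F) (_ : Fintype F), Fintype.card F = 2 ^ n ∧
        ∃ S : Sylow 2 (Matrix.ProjectiveSpecialLinearGroup (Fin 3) F), Nonempty (Q ≃* ↥(S : Subgroup (Matrix.ProjectiveSpecialLinearGroup (Fin 3) F)))) := by
  classical
  haveI : Fact (Nat.Prime 2) := ⟨Nat.prime_two⟩
  obtain ⟨F, iF, iFt, iC, hcF, a, ⟨A⟩⟩ := CfsgLib.InvFixedSinger.classify hQ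
    (fun h => hna ⟨⟨h⟩⟩) n hn α ρ
    (fun x => by
      have h := congrArg (fun φ : MulAut Q => φ x) (show α ^ 2 = 1 by rw [← hα, pow_orderOf_eq_one])
      simpa [pow_two] using h)
    (by rw [← hρ, pow_orderOf_eq_one])
    (fun x => congrArg (fun φ : MulAut Q => φ x) hc.eq) C hC
    (fun x hx => by rw [← pow_two]; exact hCE.1.2 x hx)
    hCE.2 htr
  by_cases hroot : ∃ t : F, t ^ 2 + t = a
  · right
    obtain ⟨t, ht⟩ := hroot
    obtain ⟨B⟩ := CfsgLib.InvFixedSinger.split_model F a t ht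
    obtain ⟨e⟩ := CfsgLib.InvFixedSinger.iso_of_squares (fun z : F => CharTwo.add_self_eq_zero z) A B
    refine ⟨F, iF, iFt, hcF, CfsgLib.PSLn.upperSylow (F := F) (n := 3) 2, ⟨?_⟩⟩
    exact e.trans ((MonoidHom.ofInjective (CfsgLib.PSLn.upperHom_injective (F := F) (n := 3))).trans
      (MulEquiv.subgroupCongr (CfsgLib.PSLn.coe_upperSylow (F := F) (n := 3) 2).symm))
  · left
    push Not at hroot
    obtain ⟨K, iK, iKt, iKC, hcK, ι, θ, hθ, hspan⟩ :=
      CfsgLib.InvFixedSinger.exists_quadratic F a hroot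
    have hcK' : Fintype.card K = (2 ^ n) ^ 2 := by rw [hcK, hcF]
    let P : Sylow 2 ↥(Cfsg.SU 3 K (2 ^ n)) := Classical.arbitrary _
    obtain ⟨c, ⟨M⟩⟩ := CfsgLib.UnitarySylowAut.exists_model (by omega) hcK' P
    obtain ⟨B⟩ := CfsgLib.InvFixedSinger.unitary_model F hcF a hcK ι θ hθ hspan M
    obtain ⟨e⟩ := CfsgLib.InvFixedSinger.iso_of_squares (fun z : F => CharTwo.add_self_eq_zero z) A B
    refine ⟨K, iK, iKt, ?_, P.mapSurjective
      (QuotientGroup.mk'_surjective (Subgroup.center ↥(Cfsg.SU 3 K (2 ^ n)))), ⟨?_⟩⟩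
    · rw [hcK', ← pow_mul, mul_comm, pow_mul]; norm_num
    let φ := (QuotientGroup.mk' (Subgroup.center ↥(Cfsg.SU 3 K (2 ^ n)))).comp
      (P : Subgroup ↥(Cfsg.SU 3 K (2 ^ n))).subtype
    have hφ : Function.Injective φ := by
      rw [← MonoidHom.ker_eq_bot_iff, Subgroup.eq_bot_iff_forall]
      intro x hx
      have hz : (x : ↥(Cfsg.SU 3 K (2 ^ n))) ∈ Subgroup.center ↥(Cfsg.SU 3 K (2 ^ n)) :=
        (QuotientGroup.eq_one_iff _).1 hx
      have h1 := Subgroup.orderOf_dvd_natCard _ hz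
      rw [Cfsg.Agent.S0280.center_card hcK' 3 (by norm_num)] at h1
      obtain ⟨k, hk⟩ := (IsPGroup.iff_orderOf.1 P.isPGroup') x
      have h2 : orderOf (x : ↥(Cfsg.SU 3 K (2 ^ n))) ∣ 2 ^ k := by rw [Subgroup.orderOf_coe, hk]
      have h3 : orderOf (x : ↥(Cfsg.SU 3 K (2 ^ n))) ∣ 3 := h1.trans (Nat.gcd_dvd_left _ _)
      have h4 : orderOf (x : ↥(Cfsg.SU 3 K (2 ^ n))) = 1 := Nat.eq_one_of_dvd_one
        ((Nat.Coprime.pow_left k (by norm_num : Nat.Coprime 2 3)).gcd_eq_one ▸ Nat.dvd_gcd h2 h3)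
      exact Subtype.ext (orderOf_eq_one_iff.1 h4)
    refine e.trans ((MonoidHom.ofInjective hφ).trans (MulEquiv.subgroupCongr ?_))
    rw [MonoidHom.range_comp, Subgroup.range_subtype]
    rfl

end Cfsg.Agent.S3161
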