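import Cfsg.Statements.S3163
import Mathlib

set_option autoImplicit false
open Cfsg

namespace Cfsg.Agent.S3163

theorem comm_of_el {S : Type*} [Group S] {A : Subgroup S} (hA : Cfsg.IsElementaryAbelian 2 A) {a b : S}
    (ha : a ∈ A) (hb : b ∈ A) : a * b = b * a :=
  congrArg Subtype.val (hA.1.is_comm.comm (⟨a, ha⟩ : A) ⟨b, hb⟩)

/-- Let S be a non-abelian finite 2-group which is the product S = AB of two elementary abelian subgroups A and B, and suppose that the centralizer in S of every element of A outside B is exactly A. Then the centralizer of every element of B outside A is exactly B; A and B are maximal elementary abelian subgroups of S and the only ones; the centre of S is A ∩ B; and every element of S outside A ∪ B has centralizer of order at most min(|A|, |B|). -/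
theorem result {S : Type*} [Group S] [Finite S] (hS : IsPGroup 2 S) (hna : ¬ IsMulCommutative S) (A B : Subgroup S)
    (hA : Cfsg.IsElementaryAbelian 2 A) (hB : Cfsg.IsElementaryAbelian 2 B) (hAB : ∀ s : S, ∃ a ∈ A, ∃ b ∈ B, s = a * b)
    (hC : ∀ a ∈ A, a ∉ B → Subgroup.centralizer ({a} : Set S) = A) :
    (∀ b ∈ B, b ∉ A → Subgroup.centralizer ({b} : Set S) = B) ∧
      (∀ E : Subgroup S, Cfsg.IsElementaryAbelian 2 E → (∀ E' : Subgroup S, Cfsg.IsElementaryAbelian 2 E' → E ≤ E' → E' = E) → E = A ∨ E = B) ∧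
      (∀ E' : Subgroup S, Cfsg.IsElementaryAbelian 2 E' → A ≤ E' → E' = A) ∧ (∀ E' : Subgroup S, Cfsg.IsElementaryAbelian 2 E' → B ≤ E' → E' = B) ∧
      Subgroup.center S = A ⊓ B ∧
      (∀ x : S, x ∉ A → x ∉ B → Nat.card ↥(Subgroup.centralizer ({x} : Set S)) ≤ min (Nat.card ↥A) (Nat.card ↥B)) := by
  classical
  have hAc := fun {a b} => comm_of_el (a := a) (b := b) hA
  have hBc := fun {a b} => comm_of_el (a := a) (b := b) hB
  have memC : ∀ {u v : S}, v ∈ Subgroup.centralizer ({u} : Set S) ↔ v * u = u * v := Subgroup.mem_centralizer_singleton_iff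
  obtain ⟨a0, ha0, ha0B⟩ : ∃ a ∈ A, a ∉ B := by
    by_contra h; push Not at h
    have hall : ∀ s : S, s ∈ B := fun s => by
      obtain ⟨a, ha, b, hb, rfl⟩ := hAB s; exact B.mul_mem (h a ha) hb
    exact hna ⟨⟨fun x y => hBc (hall x) (hall y)⟩⟩
  have h1 : ∀ b ∈ B, b ∉ A → Subgroup.centralizer ({b} : Set S) = B := by
    intro b hb hbA
    apply le_antisymm
    · intro c hc
      obtain ⟨a, ha, b', hb', rfl⟩ := hAB c
      rw [memC, mul_assoc, hBc hb' hb, ← mul_assoc, ← mul_assoc, mul_left_inj] at hc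
      by_cases haB : a ∈ B
      · exact B.mul_mem haB hb'
      · exfalso
        have : b ∈ Subgroup.centralizer ({a} : Set S) := memC.mpr hc.symm
        rw [hC a ha haB] at this; exact hbA this
    · exact fun c hc => memC.mpr (hBc hc hb)
  have hmix : ∀ {a b}, a ∈ A → a ∉ B → b ∈ B → b ∉ A → a * b ≠ b * a := by
    intro a b ha haB hb hbA e
    have : b ∈ Subgroup.centralizer ({a} : Set S) := memC.mpr e.symm
    rw [hC a ha haB] at this; exact hbA this
  have hinv : ∀ s : S, s ^ 2 = 1 → s ∈ A ∨ s ∈ B := by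
    intro s hs
    obtain ⟨a, ha, b, hb, rfl⟩ := hAB s
    by_cases haB : a ∈ B
    · exact Or.inr (B.mul_mem haB hb)
    by_cases hbA : b ∈ A
    · exact Or.inl (A.mul_mem ha hbA)
    exfalso
    apply hmix ha haB hb hbA
    have ea : a⁻¹ = a := inv_eq_of_mul_eq_one_right (by rw [← pow_two]; exact hA.2 a ha)
    have eb : b⁻¹ = b := inv_eq_of_mul_eq_one_right (by rw [← pow_two]; exact hB.2 b hb)
    rw [pow_two] at hs
    calc a * b = (a * b)⁻¹ := (inv_eq_of_mul_eq_one_right hs).symm
      _ = b * a := by rw [mul_inv_rev, ea, eb]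
  have hsub : ∀ E : Subgroup S, Cfsg.IsElementaryAbelian 2 E → E ≤ A ∨ E ≤ B := by
    intro E hE
    by_contra h
    push Not at h
    obtain ⟨⟨e, he, heA⟩, f, hf, hfB⟩ := (⟨SetLike.not_le_iff_exists.mp h.1, SetLike.not_le_iff_exists.mp h.2⟩ : (∃ e ∈ E, e ∉ A) ∧ ∃ f ∈ E, f ∉ B)
    have heB : e ∈ B := (hinv e (hE.2 e he)).resolve_left heA
    have hfA : f ∈ A := (hinv f (hE.2 f hf)).resolve_right hfB
    exact hmix hfA hfB heB heA (comm_of_el hE hf he)
  have hBA : ∃ b ∈ B, b ∉ A := by
    by_contra h; push Not at h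
    have hall : ∀ s : S, s ∈ A := fun s => by
      obtain ⟨a, ha, b, hb, rfl⟩ := hAB s; exact A.mul_mem ha (h b hb)
    exact hna ⟨⟨fun x y => hAc (hall x) (hall y)⟩⟩
  obtain ⟨b0, hb0, hb0A⟩ := hBA
  have hmaxA : ∀ E' : Subgroup S, Cfsg.IsElementaryAbelian 2 E' → A ≤ E' → E' = A := fun E hE hle =>
    le_antisymm ((hsub E hE).resolve_right fun h => ha0B (h (hle ha0))) hle
  have hmaxB : ∀ E' : Subgroup S, Cfsg.IsElementaryAbelian 2 E' → B ≤ E' → E' = B := fun E hE hle =>
    le_antisymm ((hsub E hE).resolve_left fun h => hb0A (h (hle hb0))) hle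
  have hZ : Subgroup.center S = A ⊓ B := by
    apply le_antisymm
    · intro z hz
      have hz' := Subgroup.mem_center_iff.mp hz
      constructor
      · have : z ∈ Subgroup.centralizer ({a0} : Set S) := memC.mpr (hz' a0).symm
        rwa [hC a0 ha0 ha0B] at this
      · have : z ∈ Subgroup.centralizer ({b0} : Set S) := memC.mpr (hz' b0).symm
        rwa [h1 b0 hb0 hb0A] at this
    · rintro z ⟨hzA, hzB⟩
      refine Subgroup.mem_center_iff.mpr fun s => ?_
      obtain ⟨a, ha, b, hb, rfl⟩ := hAB s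
      rw [mul_assoc, hBc hb hzB, ← mul_assoc, hAc ha hzA, mul_assoc]
  refine ⟨h1, ?_, hmaxA, hmaxB, hZ, ?_⟩
  · intro E hE hmax
    rcases hsub E hE with h | h
    · exact Or.inl (hmax A hA h).symm
    · exact Or.inr (hmax B hB h).symm
  · intro x hxA hxB
    set C := Subgroup.centralizer ({x} : Set S) with hCdef
    obtain ⟨a, ha, b, hb, rfl⟩ := hAB x
    have haB : a ∉ B := fun h => hxB (B.mul_mem h hb)
    have hbA : b ∉ A := fun h => hxA (A.mul_mem ha h)
    have hCA : C ⊓ A = A ⊓ B := by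
      apply le_antisymm
      · rintro c ⟨hc, hcA⟩
        refine ⟨hcA, ?_⟩
        by_contra hcB
        apply hmix hcA hcB hb hbA
        have hc' := memC.mp hc
        rw [← mul_assoc, hAc hcA ha, mul_assoc, mul_assoc, mul_right_inj] at hc'
        exact hc'
      · rintro c ⟨hcA, hcB⟩
        exact ⟨memC.mpr (by rw [← mul_assoc, hAc hcA ha, mul_assoc, hBc hcB hb, mul_assoc]), hcA⟩
    have hCB : C ⊓ B = A ⊓ B := by
      apply le_antisymm
      · rintro c ⟨hc, hcB⟩
        refine ⟨?_, hcB⟩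
        by_contra hcA
        apply hmix ha haB hcB hcA
        have hc' := memC.mp hc
        rw [mul_assoc, hBc hb hcB, ← mul_assoc, ← mul_assoc, mul_left_inj] at hc'
        exact hc'.symm
      · rintro c ⟨hcA, hcB⟩
        exact ⟨memC.mpr (by rw [← mul_assoc, hAc hcA ha, mul_assoc, hBc hcB hb, mul_assoc]), hcB⟩
    have key : ∀ (P Q : Subgroup S), (∀ s : S, ∃ p ∈ P, ∃ q ∈ Q, s = p * q) → C ⊓ P = A ⊓ B → P ⊓ Q = A ⊓ B → Nat.card C ≤ Nat.card Q := by
      intro P Q hPQ hCP hPQi
      have e1 : (C ⊓ P).relIndex C ≤ P.index := by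
        rw [Subgroup.inf_relIndex_left, ← Subgroup.relIndex_top_right P]
        exact Subgroup.relIndex_le_of_le_right le_top (by rw [Subgroup.relIndex_top_right]; exact Subgroup.index_ne_zero_of_finite)
      have e2 : P.index = P.relIndex Q := by
        rw [Subgroup.relIndex, ← Subgroup.relIndex_top_right P]
        refine Nat.card_congr (Equiv.ofBijective (Quotient.map' (fun q : Q => (⟨q, trivial⟩ : (⊤ : Subgroup S))) fun u v h => ?_) ?_).symm
        · rw [QuotientGroup.leftRel_apply] at h ⊢; exact h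
        · constructor
          · rintro ⟨u⟩ ⟨v⟩ h
            refine Quotient.sound' (QuotientGroup.leftRel_apply.mpr ?_)
            have h' := QuotientGroup.leftRel_apply.mp (Quotient.exact' h)
            exact h'
          · rintro ⟨⟨s, -⟩⟩
            obtain ⟨p', hp', q', hq', e⟩ := hPQ s⁻¹
            refine ⟨QuotientGroup.mk ⟨q'⁻¹, Q.inv_mem hq'⟩, QuotientGroup.eq.mpr ?_⟩
            rw [Subgroup.mem_subgroupOf]
            show (q'⁻¹)⁻¹ * s ∈ P
            have : s = q'⁻¹ * p'⁻¹ := by rw [← mul_inv_rev, ← e, inv_inv]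
            rw [this]; simpa using P.inv_mem hp'
      have e3 : Nat.card C = (C ⊓ P).relIndex C * Nat.card (C ⊓ P : Subgroup S) := by
        rw [Subgroup.relIndex, ← Nat.card_congr (Subgroup.subgroupOfEquivOfLe (inf_le_left : C ⊓ P ≤ C)).toEquiv, Subgroup.index_mul_card]
      have e4 : Nat.card Q = (P ⊓ Q).relIndex Q * Nat.card (P ⊓ Q : Subgroup S) := by
        rw [Subgroup.relIndex, ← Nat.card_congr (Subgroup.subgroupOfEquivOfLe (inf_le_right : P ⊓ Q ≤ Q)).toEquiv, Subgroup.index_mul_card]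
      rw [e3, e4, hCP, hPQi]
      refine Nat.mul_le_mul_right _ ?_
      rw [← hCP]
      refine e1.trans_eq ?_
      rw [hCP, ← hPQi, Subgroup.inf_relIndex_right, ← e2]
    refine le_min (key B A ?_ hCB (inf_comm B A)) (key A B hAB hCA rfl)
    intro s
    obtain ⟨a, ha, b, hb, e⟩ := hAB s⁻¹
    exact ⟨b⁻¹, B.inv_mem hb, a⁻¹, A.inv_mem ha, by rw [← mul_inv_rev, ← e, inv_inv]⟩

end Cfsg.Agent.S3163
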