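import Cfsg.Statements.S3164
import Cfsg.Agent.Lib.Comp.BalanceTwo
import Cfsg.Agent.Lib.Comp.BpInherit
import Cfsg.Agent.Lib.Comp.Layer
import Cfsg.Agent.Lib.Comp.LayerMore
import Cfsg.Agent.Lib.Comp.Standard
import Cfsg.Agent.Lib.CoprimeGen
import Cfsg.Agent.Lib.CharP

set_option autoImplicit false
set_option linter.unusedSectionVars false
open Cfsg

namespace Cfsg.Agent.S3164

open CfsgLib CfsgLib.Comp
open scoped commutatorElement

universe u
variable {G : Type u} [Group G] [Finite G]

theorem centralizer_zpowers' (z : G) :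
    Subgroup.centralizer ({z} : Set G) = Subgroup.centralizer (Subgroup.zpowers z : Set G) := by
  rw [Subgroup.zpowers_eq_closure, Subgroup.centralizer_closure]

/-- A perfect group with a central subgroup whose quotient map lands in the layer is layered. -/
theorem layer_eq_top_of_map_le {Q : Type u} [Group Q] [Finite Q] {X : Type u} [Group X] [Finite X]
    (f : X →* Q) (hker : f.ker ≤ Subgroup.center X) (hperf : ⁅(⊤ : Subgroup X), (⊤ : Subgroup X)⁆ = ⊤)
    (hn : f.range.Normal) (hle : f.range ≤ layer Q) : layer X = ⊤ := by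
  haveI := hn
  -- the join of the components inside the range is the whole range
  set 𝒮 : Set (Subgroup Q) := {K | IsComponent K ∧ K ≤ f.range} with h𝒮
  have hperfR : ⁅f.range, f.range⁆ = f.range := by
    rw [MonoidHom.range_eq_map, ← Subgroup.map_commutator, hperf]
  have hE1 : sSup 𝒮 = f.range := by
    refine le_antisymm (sSup_le fun K hK => hK.2) ?_
    set E₂ := sSup {K : Subgroup Q | IsComponent K ∧ ¬ K ≤ f.range} with hE₂
    have hc : ⁅f.range, E₂⁆ = ⊥ := by
      rw [Subgroup.commutator_comm, Subgroup.commutator_eq_bot_iff_le_centralizer]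
      refine sSup_le fun K hK => Subgroup.commutator_eq_bot_iff_le_centralizer.mp ?_
      exact (component_le_or_commutator_eq_bot hK.1 f.range).resolve_left hK.2
    have h12 : ⁅sSup 𝒮, E₂⁆ = ⊥ := by
      rw [eq_bot_iff, ← hc]
      exact Subgroup.commutator_mono (sSup_le fun K hK => hK.2) le_rfl
    have hsplit : f.range ≤ sSup 𝒮 ⊔ E₂ := hle.trans (sSup_le fun K hK => by
      by_cases h : K ≤ f.range
      · exact le_trans (le_sSup (show K ∈ 𝒮 from ⟨hK, h⟩)) le_sup_left
      · exact le_trans (le_sSup (show K ∈ {K : Subgroup Q | IsComponent K ∧ ¬ K ≤ f.range} from ⟨hK, h⟩))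
          le_sup_right)
    intro y hy
    -- modulo the part of the range in `E₂`, which is central in the range
    have hdec : ∀ w ∈ f.range, ∃ u ∈ sSup 𝒮, ∃ v, (v ∈ f.range ∧ ∀ r ∈ f.range, r * v = v * r) ∧ w = u * v := by
      intro w hw
      obtain ⟨u, hu, v, hv, rfl⟩ := mem_sup_of_commutator_eq_bot h12 (hsplit hw)
      refine ⟨u, hu, v, ⟨?_, fun r hr => comm_of_commutator_eq_bot hc hr hv⟩, rfl⟩
      have := f.range.mul_mem (f.range.inv_mem (sSup_le (fun K (hK : K ∈ 𝒮) => hK.2) hu)) hw
      simpa using this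
    rw [← hperfR] at hy
    refine (Subgroup.commutator_le.mpr ?_) hy
    intro a ha b hb
    obtain ⟨u, hu, v, ⟨hv1, hv2⟩, rfl⟩ := hdec a ha
    obtain ⟨u', hu', v', ⟨hv1', hv2'⟩, rfl⟩ := hdec b hb
    have hmem : ∀ {z}, z ∈ sSup 𝒮 → z ∈ f.range := fun {z} hz => sSup_le (fun K (hK : K ∈ 𝒮) => hK.2) hz
    have e : ⁅u * v, u' * v'⁆ = ⁅u, u'⁆ := by
      have h1 := hv2 u' (hmem hu')
      have h2 := hv2 v' hv1'
      have h3 := hv2' u (hmem hu)
      have h4 := hv2' u' (hmem hu')
      have e1 : (u * v) * (u' * v') = (u * u') * (v * v') := by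
        calc u * v * (u' * v') = u * (v * u') * v' := by group
          _ = u * (u' * v) * v' := by rw [h1]
          _ = (u * u') * (v * v') := by group
      have e2 : (u' * v') * (u * v) = (u' * u) * (v' * v) := by
        calc u' * v' * (u * v) = u' * (v' * u) * v := by group
          _ = u' * (u * v') * v := by rw [h3]
          _ = (u' * u) * (v' * v) := by group
      calc ⁅u * v, u' * v'⁆ = ((u * v) * (u' * v')) * ((u' * v') * (u * v))⁻¹ := by
            rw [commutatorElement_def]; group
        _ = ((u * u') * (v * v')) * ((u' * u) * (v' * v))⁻¹ := by rw [e1, e2]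
        _ = (u * u') * (v * v') * (v' * v)⁻¹ * (u' * u)⁻¹ := by group
        _ = ⁅u, u'⁆ := by rw [h2]; rw [commutatorElement_def]; group
    rw [e, commutatorElement_def]
    exact mul_mem (mul_mem (mul_mem hu hu') (inv_mem hu)) (inv_mem hu')
  -- every component in the range lifts to a component
  have hlift : ∀ K ∈ 𝒮, K ≤ (layer X).map f := by
    rintro K ⟨hK, hKle⟩
    haveI := hK.2.1
    set U := K.comap f with hU
    haveI hUn : U.Normal := by
      refine ⟨fun x hx g => ?_⟩
      rw [hU, Subgroup.mem_comap, map_mul, map_mul, map_inv]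
      have hg : f g ∈ Subgroup.normalizer (K : Set Q) := by
        refine (sSup_le fun L hL => ?_ : layer Q ≤ _) (hle ⟨g, rfl⟩)
        rcases components_eq_or_commute hL hK with h | h
        · exact h ▸ Subgroup.le_normalizer
        · exact (Subgroup.commutator_eq_bot_iff_le_centralizer.mp h).trans (centralizer_le_normalizer' K)
      exact (Subgroup.mem_normalizer_iff.mp hg _).mp hx
    set D := ⁅U, U⁆ with hD
    have hUK : U.map f = K := Subgroup.map_comap_eq_self hKle
    have hDK : D.map f = K := by rw [hD, Subgroup.map_commutator, hUK, isComponent_commutator_self hK]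
    have hUD : U ≤ D ⊔ f.ker := by
      rw [← Subgroup.comap_map_eq, hDK]
    have hDD : ⁅D, D⁆ = D := by
      refine le_antisymm (Subgroup.commutator_le_self D) ?_
      show ⁅U, U⁆ ≤ ⁅D, D⁆
      refine Subgroup.commutator_le.mpr fun a ha b hb => ?_
      have ha' : a ∈ (↑(D ⊔ f.ker) : Set X) := hUD ha
      have hb' : b ∈ (↑(D ⊔ f.ker) : Set X) := hUD hb
      rw [Subgroup.normal_mul] at ha' hb'
      obtain ⟨d, hd, k, hk, rfl⟩ := ha'
      obtain ⟨d', hd', k', hk', rfl⟩ := hb'
      have h1 := Subgroup.mem_center_iff.mp (hker hk)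
      have h2 := Subgroup.mem_center_iff.mp (hker hk')
      have : ⁅d * k, d' * k'⁆ = ⁅d, d'⁆ := by
        have e1 : (d * k) * (d' * k') = (d * d') * (k * k') := by
          calc d * k * (d' * k') = d * (k * d') * k' := by group
            _ = d * (d' * k) * k' := by rw [← h1 d']
            _ = _ := by group
        have e2 : (d' * k') * (d * k) = (d' * d) * (k * k') := by
          calc d' * k' * (d * k) = d' * (k' * d) * k := by group
            _ = d' * (d * k') * k := by rw [← h2 d]
            _ = (d' * d) * (k' * k) := by group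
            _ = _ := by rw [h2 k]
        calc ⁅d * k, d' * k'⁆ = ((d * k) * (d' * k')) * ((d' * k') * (d * k))⁻¹ := by
              rw [commutatorElement_def]; group
          _ = ((d * d') * (k * k')) * ((d' * d) * (k * k'))⁻¹ := by rw [e1, e2]
          _ = ⁅d, d'⁆ := by rw [commutatorElement_def]; group
      rw [this]
      exact Subgroup.commutator_mem_commutator hd hd'
    haveI : Group.IsPerfect ↥D := Subgroup.isPerfect_iff.mpr hDD
    have hDn : D.Normal := inferInstance
    let g : ↥D →* ↥(D.map f) := f.subgroupMap D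
    have hg : Function.Surjective g := f.subgroupMap_surjective D
    have hq : IsQuasisimple ↥(D.map f) := isQuasisimple_of_equiv (MulEquiv.subgroupCongr hDK.symm) hK.2
    have hgk : g.ker ≤ Subgroup.center ↥D := by
      intro x hx
      rw [Subgroup.mem_center_iff]
      intro y
      exact Subtype.ext (Subgroup.mem_center_iff.mp (hker (congrArg Subtype.val hx : f (x : X) = 1)) y)
    have hDq : IsQuasisimple ↥D := quasisimple_of_central_quotient inferInstance g.ker hgk
      (isQuasisimple_of_equiv (QuotientGroup.quotientKerEquivOfSurjective g hg).symm hq)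
    rw [← hDK]
    exact Subgroup.map_mono (le_layer ⟨hDn.isSubnormal, hDq⟩)
  have htop : (⊤ : Subgroup X) ≤ layer X ⊔ f.ker := by
    rw [← Subgroup.comap_map_eq, ← Subgroup.map_le_iff_le_comap, ← MonoidHom.range_eq_map, ← hE1]
    exact sSup_le hlift
  rw [eq_top_iff, ← hperf]
  refine Subgroup.commutator_le.mpr fun a _ b _ => ?_
  have ha' : a ∈ (↑(layer X ⊔ f.ker) : Set X) := htop (Subgroup.mem_top a)
  have hb' : b ∈ (↑(layer X ⊔ f.ker) : Set X) := htop (Subgroup.mem_top b)
  rw [Subgroup.normal_mul] at ha' hb'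
  obtain ⟨d, hd, k, hk, rfl⟩ := ha'
  obtain ⟨d', hd', k', hk', rfl⟩ := hb'
  have h1 := Subgroup.mem_center_iff.mp (hker hk)
  have h2 := Subgroup.mem_center_iff.mp (hker hk')
  have e : ⁅d * k, d' * k'⁆ = ⁅d, d'⁆ := by
    have e1 : k * (d' * k') * k⁻¹ = d' * k' := by rw [← h1]; group
    have e2 : k' * d⁻¹ * k'⁻¹ = d⁻¹ := by rw [← h2]; group
    calc ⁅d * k, d' * k'⁆ = d * (k * (d' * k') * k⁻¹) * d⁻¹ * (d' * k')⁻¹ := by
          rw [commutatorElement_def]; group
      _ = d * (d' * k') * d⁻¹ * (d' * k')⁻¹ := by rw [e1]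
      _ = d * d' * (k' * d⁻¹ * k'⁻¹) * d'⁻¹ := by group
      _ = ⁅d, d'⁆ := by rw [e2, commutatorElement_def]
  rw [e, commutatorElement_def]
  exact mul_mem (mul_mem (mul_mem hd hd') (inv_mem hd)) (inv_mem hd')

/-- In a 2-group with cyclic overgroup: commuting involutions coincide. -/
theorem involution_eq {C : Subgroup G} (hcyc : ∀ R : Sylow 2 ↥C, IsCyclic ↥(R : Subgroup ↥C))
    {a b : G} (ha : a ∈ C) (hb : b ∈ C) (ha2 : orderOf a = 2) (hb2 : orderOf b = 2) (hab : a * b = b * a) :
    a = b := by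
  haveI : Fact (Nat.Prime 2) := ⟨Nat.prime_two⟩
  set a' : ↥C := ⟨a, ha⟩
  set b' : ↥C := ⟨b, hb⟩
  have h2 : ∀ {x : ↥C}, orderOf (x : G) = 2 → x ^ 2 ^ 1 = 1 := fun {x} h => by
    rw [pow_one]; exact Subtype.ext (by push_cast; exact h ▸ pow_orderOf_eq_one (x : G))
  have hn : Subgroup.zpowers a' ≤ Subgroup.normalizer (Subgroup.zpowers b' : Set ↥C) := by
    refine le_trans ?_ (centralizer_le_normalizer' _)
    rw [Subgroup.zpowers_le, ← centralizer_zpowers']
    exact Subgroup.mem_centralizer_singleton_iff.mpr (Subtype.ext hab)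
  have hp : IsPGroup 2 ↥(Subgroup.zpowers a' ⊔ Subgroup.zpowers b') :=
    (zpowers_isPGroup (h2 (x := a') ha2)).to_sup_of_normal_right' (zpowers_isPGroup (h2 (x := b') hb2)) hn
  obtain ⟨R, hR⟩ := hp.exists_le_sylow
  haveI := hcyc R
  let A : ↥(R : Subgroup ↥C) := ⟨a', hR (Subgroup.mem_sup_left (Subgroup.mem_zpowers _))⟩
  let B : ↥(R : Subgroup ↥C) := ⟨b', hR (Subgroup.mem_sup_right (Subgroup.mem_zpowers _))⟩
  have hA : orderOf A = 2 := by rw [← Subgroup.orderOf_coe, ← Subgroup.orderOf_coe]; exact ha2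
  have hB : orderOf B = 2 := by rw [← Subgroup.orderOf_coe, ← Subgroup.orderOf_coe]; exact hb2
  classical
  haveI := Fintype.ofFinite ↥(R : Subgroup ↥C)
  have : A = B := by
    have h1 : (Finset.univ.filter fun x : ↥(R : Subgroup ↥C) => orderOf x = 2).card = 1 := by
      rw [IsCyclic.card_orderOf_eq_totient (by have h2 := orderOf_dvd_card (x := A); rwa [hA] at h2)]; rfl
    exact Finset.card_le_one.mp h1.le A (by simp [hA]) B (by simp [hB])
  exact congrArg (fun x : ↥(R : Subgroup ↥C) => ((x : ↥C) : G)) this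

/-- The standard subgroup `A` centralizes the odd core once a conjugate of `t` is `a * t`. -/
theorem centralizes_core (A O : Subgroup G) [O.Normal] (hOc : (Nat.card O).Coprime 2)
    (hqs : IsQuasisimple ↥A) (t a r : G) (ht : orderOf t = 2) (htA : t ∈ Subgroup.centralizer (A : Set G))
    (haA : a ∈ A) (hanz : ¬ ∀ x ∈ A, x * a = a * x) (hconj : r * t * r⁻¹ = a * t)
    (hCA : O ⊓ Subgroup.centralizer ({t} : Set G) ≤ Subgroup.normalizer (A : Set G)) :
    ⁅A, O⁆ = ⊥ := by
  haveI := hqs.1
  set D := O ⊓ Subgroup.centralizer ({t} : Set G) with hD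
  have htne : t ≠ 1 := fun h => by rw [h, orderOf_one] at ht; omega
  have hat : a * t = t * a := htA a haA
  -- `A` centralizes `D`
  have hAD : ⁅A, D⁆ = ⊥ := by
    have hA_t : A ≤ Subgroup.centralizer ({t} : Set G) := fun x hx =>
      Subgroup.mem_centralizer_singleton_iff.mpr (htA x hx)
    have h1 : ⁅A, D⁆ ≤ A ⊓ O := by
      refine Subgroup.commutator_le.mpr fun x hx d hd => ⟨?_, ?_⟩
      · have := A.mul_mem hx ((Subgroup.mem_normalizer_iff.mp (hCA hd) x⁻¹).mp (A.inv_mem hx))
        simpa [commutatorElement_def, mul_assoc] using this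
      · have := O.mul_mem ((inferInstance : O.Normal).conj_mem d hd.1 x) (O.inv_mem hd.1)
        simpa [commutatorElement_def, mul_assoc] using this
    rcases quasisimple_normal_le_center_or_eq_top hqs ((A ⊓ O).subgroupOf A) (hN := by
      rw [Subgroup.inf_subgroupOf_left]; exact Subgroup.normal_subgroupOf) with h | h
    · have h2 : ⁅⁅A, D⁆, A⁆ = ⊥ := by
        rw [Subgroup.commutator_eq_bot_iff_le_centralizer]
        intro z hz y hy
        have hz' := h1 hz
        exact congrArg Subtype.val (Subgroup.mem_center_iff.mp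
          (h (show (⟨z, hz'.1⟩ : ↥A) ∈ (A ⊓ O).subgroupOf A from hz')) ⟨y, hy⟩)
      have h3 : ⁅⁅D, A⁆, A⁆ = ⊥ := by rwa [Subgroup.commutator_comm D A]
      have := Subgroup.commutator_commutator_eq_bot_of_rotate (H₁ := A) (H₂ := A) (H₃ := D) h2 h3
      rwa [Subgroup.isPerfect_iff.mp hqs.1] at this
    · exfalso
      have hAO : A ≤ O := (Subgroup.subgroupOf_eq_top.mp h).trans inf_le_right
      have ha1 : a ≠ 1 := fun h => hanz fun x _ => by rw [h]; simp
      have ha2 : a ^ 2 = 1 := by
        have h5 : (r * t * r⁻¹) ^ 2 = 1 := by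
          rw [← MulAut.conj_apply, ← map_pow, ← ht, pow_orderOf_eq_one, map_one]
        rw [hconj, (show Commute a t from hat).mul_pow, ← ht, pow_orderOf_eq_one, mul_one, ht] at h5
        exact h5
      exact ha1 (CfsgLib.CharP.eq_one_of_mem_pGroup (p := 2) (P := Subgroup.zpowers a)
        (zpowers_isPGroup (n := 1) (by simpa using ha2)) (Subgroup.mem_zpowers a)
        (Nat.Coprime.coprime_dvd_left (Subgroup.orderOf_dvd_natCard _ (hAO haA)) hOc))
  have hDa : D ≤ O ⊓ Subgroup.centralizer ({a} : Set G) := fun d hd =>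
    ⟨hd.1, Subgroup.mem_centralizer_singleton_iff.mpr (comm_of_commutator_eq_bot hAD haA hd).symm⟩
  have hDs : D = O ⊓ Subgroup.centralizer ({a * t} : Set G) := by
    refine Subgroup.eq_of_le_of_card_ge (fun d hd => ⟨hd.1, Subgroup.mem_centralizer_singleton_iff.mpr ?_⟩) ?_
    · have h1 := Subgroup.mem_centralizer_singleton_iff.mp (hDa hd).2
      have h2 := Subgroup.mem_centralizer_singleton_iff.mp hd.2
      calc d * (a * t) = (d * a) * t := by group
        _ = a * (d * t) := by rw [h1]; group
        _ = a * t * d := by rw [h2]; group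
    · have : O ⊓ Subgroup.centralizer ({a * t} : Set G) ≤ D.map (MulAut.conj r).toMonoidHom := by
        rintro x ⟨hxO, hx⟩
        refine ⟨r⁻¹ * x * r, ⟨?_, Subgroup.mem_centralizer_singleton_iff.mpr ?_⟩, by simp [mul_assoc]⟩
        · simpa using (inferInstance : O.Normal).conj_mem x hxO r⁻¹
        · have h1 := Subgroup.mem_centralizer_singleton_iff.mp hx
          rw [← hconj] at h1
          calc r⁻¹ * x * r * t = r⁻¹ * (x * (r * t * r⁻¹)) * r := by group
            _ = r⁻¹ * ((r * t * r⁻¹) * x) * r := by rw [h1]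
            _ = t * (r⁻¹ * x * r) := by group
      exact (Nat.le_of_dvd Nat.card_pos (Subgroup.card_dvd_of_le this)).trans
        (le_of_eq (Subgroup.card_map_of_injective (MulAut.conj r).injective))
  -- the four-group `⟨t, a⟩`
  set E := Subgroup.closure ({t, a} : Set G) with hE
  have hcomm : ∀ x ∈ ({t, a} : Set G), ∀ y ∈ ({t, a} : Set G), x * y = y * x := by
    rintro x (rfl | rfl) y (rfl | rfl)
    · rfl
    · exact hat.symm
    · exact hat
    · rfl
  haveI : IsMulCommutative ↥E := Subgroup.isMulCommutative_closure hcomm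
  have ha2 : a ^ 2 = 1 := by
    have h5 : (r * t * r⁻¹) ^ 2 = 1 := by
      rw [← MulAut.conj_apply, ← map_pow, ← ht, pow_orderOf_eq_one, map_one]
    rw [hconj, (show Commute a t from hat).mul_pow, ← ht, pow_orderOf_eq_one, mul_one, ht] at h5
    exact h5
  have ha1 : a ≠ 1 := fun h => hanz fun x _ => by rw [h]; simp
  have hat' : a ≠ t := fun h => hanz fun x hx => by rw [h]; exact htA x hx
  have hsq : ∀ x ∈ E, x ^ 2 = 1 := by
    intro x hx
    induction hx using Subgroup.closure_induction with
    | mem y hy =>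
      rcases hy with rfl | rfl
      · rw [← ht, pow_orderOf_eq_one]
      · exact ha2
    | one => simp
    | mul y z hy hz ey ez =>
      have : Commute y z := congrArg Subtype.val (mul_comm' (⟨y, hy⟩ : ↥E) ⟨z, hz⟩)
      rw [this.mul_pow, ey, ez, mul_one]
    | inv y _ ey => rw [inv_pow, ey, inv_one]
  have hE2 : IsPGroup 2 ↥E := fun x => ⟨1, Subtype.ext (by push_cast; simpa using hsq _ x.2)⟩
  have hnc : ¬ IsCyclic ↥E := by
    intro hc
    obtain ⟨g, hg⟩ := hc.exists_generator
    obtain ⟨i, hi⟩ := Subgroup.mem_zpowers_iff.mp (hg ⟨t, Subgroup.subset_closure (Or.inl rfl)⟩)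
    obtain ⟨j, hj⟩ := Subgroup.mem_zpowers_iff.mp (hg ⟨a, Subgroup.subset_closure (Or.inr rfl)⟩)
    have hgi : ∀ k : ℤ, (g : G) ^ k = 1 ∨ (g : G) ^ k = g := by
      intro k
      rcases Int.even_or_odd k with ⟨m, hm⟩ | ⟨m, hm⟩ <;> subst hm
      · left; rw [← two_mul, zpow_mul, zpow_ofNat, hsq _ g.2, one_zpow]
      · right; rw [zpow_add, zpow_mul, zpow_ofNat, hsq _ g.2, one_zpow, one_mul, zpow_one]
    have hi' : t = (g : G) ^ i := by rw [← Subgroup.coe_zpow, hi]
    have hj' : a = (g : G) ^ j := by rw [← Subgroup.coe_zpow, hj]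
    exact hat' (hj'.trans (((hgi j).resolve_left fun e => ha1 (hj'.trans e)).trans
      (((hgi i).resolve_left fun e => htne (hi'.trans e)).symm.trans hi'.symm)))
  have hgen := coprime_generated_by_centralizers (A := E) (K := O) hnc
    (by rw [Subgroup.normalizer_eq_top]; exact le_top) (by
      obtain ⟨k, hk⟩ := hE2.exists_card_eq
      rw [hk]; exact hOc.symm.pow_left k)
  have hOa : O ≤ Subgroup.centralizer ({a} : Set G) := by
    refine hgen.ge.trans (iSup₂_le fun e he => ?_)
    have hcases : e = t ∨ e = a ∨ e = a * t := by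
      have htt : t * t = 1 := by rw [← sq, ← ht, pow_orderOf_eq_one]
      have haa : a * a = 1 := by rw [← sq]; exact ha2
      have this : ∀ x ∈ E, x = 1 ∨ x = t ∨ x = a ∨ x = a * t := by
        intro x hx
        induction hx using Subgroup.closure_induction with
        | mem y hy => rcases hy with rfl | rfl <;> simp
        | one => simp
        | mul y z _ _ ey ez =>
          have e1 : a * (a * t) = t := by rw [← mul_assoc, haa, one_mul]
          have e2 : a * t * t = a := by rw [mul_assoc, htt, mul_one]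
          have e3 : a * t * a = t := by rw [hat, mul_assoc, haa, mul_one]
          have e4 : t * (a * t) = a := by rw [hat, ← mul_assoc, htt, one_mul]
          have e5 : a * t * (a * t) = 1 := by rw [mul_assoc, e4, haa]
          rcases ey with rfl | rfl | rfl | rfl <;> rcases ez with rfl | rfl | rfl | rfl <;>
            simp [htt, haa, e1, e2, e3, e4, e5, ← hat]
        | inv y hy ey =>
          rw [inv_eq_of_mul_eq_one_right ((sq y).symm.trans (hsq y hy))]
          exact ey
      exact (this e he.1).resolve_left he.2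
    rcases hcases with rfl | rfl | rfl
    · exact (le_of_eq hD.symm).trans (hDa.trans inf_le_right)
    · exact inf_le_right
    · exact hDs.ge.trans (hDa.trans inf_le_right)
  -- hence `A` centralizes `O`
  haveI hN : (((Subgroup.centralizer (O : Set G)) ⊓ A).subgroupOf A).Normal := by
    rw [Subgroup.inf_subgroupOf_right]
    haveI : (Subgroup.centralizer (O : Set G)).Normal := by
      infer_instance
    exact Subgroup.normal_subgroupOf
  rcases quasisimple_normal_le_center_or_eq_top hqs
    (((Subgroup.centralizer (O : Set G)) ⊓ A).subgroupOf A) with h | h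
  · exfalso
    have hamem : (⟨a, haA⟩ : ↥A) ∈ ((Subgroup.centralizer (O : Set G)) ⊓ A).subgroupOf A :=
      ⟨fun o ho => Subgroup.mem_centralizer_singleton_iff.mp (hOa ho), haA⟩
    exact hanz fun x hx => congrArg Subtype.val (Subgroup.mem_center_iff.mp (h hamem) ⟨x, hx⟩)
  · exact Subgroup.commutator_eq_bot_iff_le_centralizer.mpr
      ((Subgroup.subgroupOf_eq_top.mp h).trans inf_le_left)

/-- The standard subgroup lies in the 2-layer. -/
theorem le_pLayer_two {A : Subgroup G} (hA : IsStandardSubgroup A) (he : Even (Nat.card A)) {t : G}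
    (ht : orderOf t = 2) (htA : t ∈ Subgroup.centralizer (A : Set G))
    (hC : Subgroup.centralizer ({t} : Set G) ≤ Subgroup.normalizer (A : Set G)) :
    A ≤ pLayer 2 G := by
  haveI : Fact (Nat.Prime 2) := ⟨Nat.prime_two⟩
  set C := Subgroup.centralizer ({t} : Set G) with hCdef
  have hAC : A ≤ C := fun x hx => Subgroup.mem_centralizer_singleton_iff.mpr (htA x hx)
  have hAn : (A.subgroupOf C).Normal := (Subgroup.normal_subgroupOf_iff_le_normalizer hAC).mpr hC
  have hq : IsQuasisimple ↥(A.subgroupOf C) := isQuasisimple_of_equiv (Subgroup.subgroupOfEquivOfLe hAC).symm hA.1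
  have he' : Even (Nat.card ↥(A.subgroupOf C)) := by
    rwa [Nat.card_congr (Subgroup.subgroupOfEquivOfLe hAC).toEquiv]
  have hp : pEl 2 (A.subgroupOf C) = A.subgroupOf C := pEl_two_self_of_even hq he'
  have hK : IsPComponent 2 (A.subgroupOf C) := by
    refine isPComponent_of_pEl hAn.isSubnormal hp ⟨hAn.isSubnormal.map (bar_surjective 2), ?_⟩
    haveI : Nontrivial ↥((A.subgroupOf C).map (bar 2 ↥C)) := by
      rw [Subgroup.nontrivial_iff_ne_bot, Ne, Subgroup.map_eq_bot_iff]
      intro h
      have hd : Nat.card ↥(A.subgroupOf C) ∣ Nat.card ↥(pPrimeCore 2 ↥C) :=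
        Subgroup.card_dvd_of_le (h.trans (le_of_eq (QuotientGroup.ker_mk' _)))
      have := Nat.Coprime.coprime_dvd_left hd (card_pPrimeCore_coprime (G := ↥C) 2)
      exact (Nat.Prime.coprime_iff_not_dvd Nat.prime_two).mp this.symm (even_iff_two_dvd.mp he')
    exact isQuasisimple_of_surj_nontrivial _ ((bar 2 ↥C).subgroupMap_surjective _) hq
  have hR : IsPGroup 2 ↥(Subgroup.zpowers t) :=
    zpowers_isPGroup (n := 1) (by rw [pow_one]; exact ht ▸ pow_orderOf_eq_one t)
  have hbal := pLayer_balance_two_centralizer (Subgroup.zpowers t) hR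
  rw [← centralizer_zpowers'] at hbal
  calc A = (A.subgroupOf C).map C.subtype := (Subgroup.map_subgroupOf_eq_of_le hAC).symm
    _ ≤ (pLayer 2 ↥C).map C.subtype := Subgroup.map_mono (le_sSup hK)
    _ ≤ pLayer 2 G := hbal

/-- Let A be a standard subgroup of a finite group G whose centralizer has cyclic Sylow 2-subgroups, t an involution centralizing A, and X the normal closure of A in G. If X has a t-invariant 2-subgroup R with [R, t] nontrivial and contained in A, then X is semisimple (X equals its own layer, a central product of quasisimple groups) and the centre of X has odd order. -/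
theorem result {G : Type*} [Group G] [Finite G] (A : Subgroup G) (hA : Cfsg.IsStandardSubgroup A)
    (hcyc : ∀ R : Sylow 2 ↥(Subgroup.centralizer (A : Set G)), IsCyclic ↥(R : Subgroup ↥(Subgroup.centralizer (A : Set G)))) (t : G) (ht : orderOf t = 2) (htA : t ∈ Subgroup.centralizer (A : Set G))
    (R : Subgroup G) (hR2 : IsPGroup 2 ↥R) (hRX : R ≤ Subgroup.normalClosure (A : Set G)) (hRt : ∀ r ∈ R, t * r * t⁻¹ ∈ R)
    (hc1 : ⁅R, Subgroup.zpowers t⁆ ≠ ⊥) (hc2 : ⁅R, Subgroup.zpowers t⁆ ≤ A) :
    Cfsg.layer ↥(Subgroup.normalClosure (A : Set G)) = ⊤ ∧ Odd (Nat.card ↥(Subgroup.center ↥(Subgroup.normalClosure (A : Set G)))) := by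
  haveI : Fact (Nat.Prime 2) := ⟨Nat.prime_two⟩
  set X := Subgroup.normalClosure (A : Set G) with hXdef
  have hAX : A ≤ X := Subgroup.le_normalClosure
  -- a commutator `a = [r, t]`
  obtain ⟨r, hr, a, ha, haA, hane⟩ : ∃ r ∈ R, ∃ a, a = r * t * r⁻¹ * t⁻¹ ∧ a ∈ A ∧ a ≠ 1 := by
    by_contra hne
    push Not at hne
    apply hc1
    rw [Subgroup.commutator_eq_bot_iff_le_centralizer]
    intro r hr
    rw [← centralizer_zpowers', Subgroup.mem_centralizer_singleton_iff]
    have hmem : r * t * r⁻¹ * t⁻¹ ∈ A := hc2 (by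
      have := Subgroup.commutator_mem_commutator hr (Subgroup.mem_zpowers t)
      rwa [commutatorElement_def] at this)
    have := hne r hr _ rfl hmem
    calc r * t = (r * t * r⁻¹ * t⁻¹) * t * r := by group
      _ = t * r := by rw [this]; group
  have hconj : r * t * r⁻¹ = a * t := by rw [ha]; group
  have hat : a * t = t * a := htA a haA
  have ha2 : orderOf a = 2 := by
    refine orderOf_eq_prime ?_ hane
    have h5 : (r * t * r⁻¹) ^ 2 = 1 := by
      rw [← MulAut.conj_apply, ← map_pow, ← ht, pow_orderOf_eq_one, map_one]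
    rw [hconj, (show Commute a t from hat).mul_pow, ← ht, pow_orderOf_eq_one, mul_one, ht] at h5
    exact h5
  have hanz : ¬ ∀ x ∈ A, x * a = a * x := by
    intro h
    have haC : a ∈ Subgroup.centralizer (A : Set G) := fun x hx => h x hx
    have hat' : a = t := involution_eq hcyc haC htA ha2 ht hat
    have h6 : r * t * r⁻¹ = 1 := by rw [hconj, hat', ← sq, ← ht, pow_orderOf_eq_one]
    rw [show (1 : G) = r * 1 * r⁻¹ by group] at h6
    rw [mul_left_cancel (mul_right_cancel h6), orderOf_one] at ht
    omega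
  have hCN : Subgroup.centralizer ({t} : Set G) ≤ Subgroup.normalizer (A : Set G) := by
    intro g hg
    rw [hA.2.2.2]
    by_contra hne
    have hodd := hA.2.1.2 g hne
    have htm : t ∈ Subgroup.centralizer (A : Set G) ⊓
        (Subgroup.centralizer (A : Set G)).map (MulAut.conj g).toMonoidHom := by
      refine ⟨htA, t, htA, ?_⟩
      have := Subgroup.mem_centralizer_singleton_iff.mp hg
      show g * t * g⁻¹ = t
      rw [this]; group
    have := Subgroup.orderOf_dvd_natCard _ htm
    rw [ht] at this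
    exact Nat.not_even_iff_odd.mpr hodd (even_iff_two_dvd.mpr this)
  set O := pPrimeCore 2 G with hOdef
  have hOc : (Nat.card O).Coprime 2 := card_pPrimeCore_coprime (G := G) 2
  have hAO : ⁅A, O⁆ = ⊥ := centralizes_core A O hOc hA.1 t a r ht htA haA hanz hconj
    (inf_le_right.trans hCN)
  have hXO : X ≤ Subgroup.centralizer (O : Set G) :=
    Subgroup.normalClosure_le_normal (Subgroup.commutator_eq_bot_iff_le_centralizer.mp hAO)
  have hXL : X ≤ pLayer 2 G := by
    haveI : (pLayer 2 G).Normal := by infer_instance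
    refine Subgroup.normalClosure_le_normal (le_pLayer_two hA ?_ ht htA hCN)
    exact even_iff_two_dvd.mpr (ha2 ▸ Subgroup.orderOf_dvd_natCard _ haA)
  have hXperf : ⁅X, X⁆ = X := by
    refine le_antisymm (Subgroup.commutator_le_self X) ?_
    refine Subgroup.normalClosure_le_normal ?_
    have hAA : ⁅A, A⁆ = A := Subgroup.isPerfect_iff.mp hA.1.1
    exact hAA.ge.trans (Subgroup.commutator_mono hAX hAX)
  refine ⟨?_, ?_⟩
  · let f : ↥X →* G ⧸ O := (QuotientGroup.mk' O).comp X.subtype
    have hker : f.ker ≤ Subgroup.center ↥X := by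
      intro x hx
      rw [Subgroup.mem_center_iff]
      intro y
      have hxO : (x : G) ∈ O := (QuotientGroup.eq_one_iff (x : G)).mp hx
      exact Subtype.ext ((hXO y.2 x hxO).symm)
    have hrange : f.range = X.map (QuotientGroup.mk' O) := by
      rw [MonoidHom.range_comp, Subgroup.range_subtype]
    refine layer_eq_top_of_map_le f hker ?_ ?_ ?_
    · apply Subgroup.map_injective X.subtype_injective
      rw [Subgroup.map_commutator, ← MonoidHom.range_eq_map, Subgroup.range_subtype, hXperf]
    · rw [hrange]; exact Subgroup.Normal.map inferInstance _ (QuotientGroup.mk'_surjective _)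
    · rw [hrange]
      exact (Subgroup.map_mono hXL).trans (map_pLayer (p := 2)).le
  · by_contra hev
    rw [Nat.not_odd_iff_even, even_iff_two_dvd] at hev
    obtain ⟨z, hz⟩ := exists_prime_orderOf_dvd_card' (G := ↥(Subgroup.center ↥X)) 2 hev
    set W : Subgroup G := ((Subgroup.center ↥X).map X.subtype) with hWdef
    have hWn : ∀ {w}, w ∈ W → t * w * t⁻¹ ∈ W := by
      rintro w ⟨⟨w, hw'⟩, hw, rfl⟩
      refine ⟨⟨t * w * t⁻¹, (inferInstance : X.Normal).conj_mem w hw' t⟩, ?_, rfl⟩
      refine Subgroup.mem_center_iff.mpr fun y => Subtype.ext ?_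
      have h1 := congrArg Subtype.val
        (Subgroup.mem_center_iff.mp hw ⟨t⁻¹ * y * t, by simpa using (inferInstance : X.Normal).conj_mem y y.2 t⁻¹⟩)
      calc (y : G) * (t * w * t⁻¹) = t * ((t⁻¹ * y * t) * w) * t⁻¹ := by group
        _ = t * (w * (t⁻¹ * y * t)) * t⁻¹ := by
          rw [show (t⁻¹ * (y : G) * t) * w = w * (t⁻¹ * y * t) from h1]
        _ = t * w * t⁻¹ * y := by group
    have hWc : ∀ {v w}, v ∈ W → w ∈ W → Commute v w := by
      rintro v w ⟨v, hv, rfl⟩ ⟨w, hw, rfl⟩
      exact congrArg Subtype.val (Subgroup.mem_center_iff.mp hw v)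
    obtain ⟨z0, hz0W, hz0ord⟩ : ∃ z0 ∈ W, orderOf z0 = 2 :=
      ⟨((z : ↥X) : G), ⟨_, z.2, rfl⟩, by rw [Subgroup.orderOf_coe, Subgroup.orderOf_coe]; exact hz⟩
    obtain ⟨z1, hz1W, hz1ord, hz1t⟩ : ∃ z1 ∈ W, orderOf z1 = 2 ∧ t * z1 = z1 * t := by
      by_cases hfix : t * z0 * t⁻¹ = z0
      · exact ⟨z0, hz0W, hz0ord, mul_inv_eq_iff_eq_mul.mp hfix⟩
      refine ⟨z0 * (t * z0 * t⁻¹), W.mul_mem hz0W (hWn hz0W), ?_, ?_⟩
      · have hz02 : z0 ^ 2 = 1 := hz0ord ▸ pow_orderOf_eq_one z0
        refine orderOf_eq_prime ?_ ?_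
        · rw [(hWc hz0W (hWn hz0W)).mul_pow, hz02, ← MulAut.conj_apply, ← map_pow, hz02, map_one, mul_one]
        · intro h
          apply hfix
          rw [eq_inv_of_mul_eq_one_right h, inv_eq_of_mul_eq_one_right ((sq z0).symm.trans hz02)]
      · have ht2 : t * t = 1 := by rw [← sq, ← ht, pow_orderOf_eq_one]
        have hti : t⁻¹ = t := inv_eq_of_mul_eq_one_right ht2
        have hc := hWc hz0W (hWn hz0W)
        calc t * (z0 * (t * z0 * t⁻¹)) = t * ((t * z0 * t⁻¹) * z0) := by rw [hc.eq]
          _ = (t * t) * z0 * (t⁻¹ * z0) := by group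
          _ = z0 * (t * z0) := by rw [ht2, hti, one_mul]
          _ = z0 * (t * z0 * t⁻¹) * t := by group
    have hz1C : z1 ∈ Subgroup.centralizer (A : Set G) := by
      obtain ⟨w, hw, rfl⟩ := hz1W
      exact fun x hx => congrArg Subtype.val (Subgroup.mem_center_iff.mp hw ⟨x, hAX hx⟩)
    have hzt : z1 = t := involution_eq hcyc hz1C htA hz1ord ht hz1t.symm
    obtain ⟨w, hw, hwt⟩ := hz1W
    have hrt : r * t = t * r := by
      have h1 := congrArg Subtype.val (Subgroup.mem_center_iff.mp hw ⟨r, hRX hr⟩)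
      rw [← hzt, ← hwt]; exact h1
    apply hane
    rw [ha, hrt]; group

end Cfsg.Agent.S3164
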