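import Cfsg.Statements.S3166
import Mathlib

set_option autoImplicit false
open Cfsg

namespace Cfsg.Agent.S3166

theorem key (q p m : ℕ) (hq : 2 ≤ q) (h2 : 2 ∣ q) (hpow : ∀ a b : ℕ, Odd b → q ∣ a * b → q ∣ a)
    (hp : p.Prime) (hX : q ^ 4 + q ^ 2 + 1 = p ^ m + q ^ 3 + q) : m = 1 := by
  have hzX : ((q:ℤ)^4 + q^2 + 1) = (p:ℤ)^m + q^3 + q := by exact_mod_cast hX
  by_contra hm
  have hm0 : m ≠ 0 := by
    rintro rfl
    have : (q:ℤ)*q*q*(q-1) + q*(q-1) = 0 := by linarith
    have hq' : (2:ℤ) ≤ q := by exact_mod_cast hq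
    nlinarith [mul_pos (show (0:ℤ) < q by linarith) (show (0:ℤ) < (q:ℤ) - 1 by linarith), mul_pos (mul_pos (show (0:ℤ) < q by linarith) (show (0:ℤ) < q by linarith)) (mul_pos (show (0:ℤ) < q by linarith) (show (0:ℤ) < (q:ℤ) - 1 by linarith))]
  have hq' : (2:ℤ) ≤ q := by exact_mod_cast hq
  rcases Nat.even_or_odd m with ⟨k, hk⟩ | hodd
  · -- m even
    subst hk
    set y : ℤ := (p:ℤ)^k
    have hy : y * y = (q:ℤ)^4 - q^3 + q^2 - q + 1 := by
      have : (p:ℤ)^(k+k) = y*y := pow_add _ _ _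
      linarith
    have hy0 : 0 ≤ y := by positivity
    have l : 2*(q:ℤ)^2 - q < 2*y := by
      by_contra hc; push Not at hc
      nlinarith [mul_le_mul hc hc (by linarith) (by nlinarith)]
    have u : 2*y < 2*(q:ℤ)^2 - q + 1 := by
      by_contra hc; push Not at hc
      nlinarith [mul_le_mul hc hc (by nlinarith) (by linarith)]
    omega
  · have hp1 : 1 ≤ p := hp.one_le
    have hp2 : Odd p := by
      refine (hp.eq_two_or_odd').resolve_left ?_
      rintro rfl
      have h3 : 2 ∣ 2^m + q^3 + q :=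
        dvd_add (dvd_add (dvd_pow_self 2 hm0) (h2.trans (dvd_pow_self q (by norm_num)))) h2
      rw [← hX] at h3
      have h4 : 2 ∣ q^4 + q^2 := dvd_add (h2.trans (dvd_pow_self q (by norm_num))) (h2.trans (dvd_pow_self q (by norm_num)))
      have := (Nat.dvd_add_right h4).mp h3
      omega
    obtain ⟨a, ha⟩ : ∃ a, p = a + 1 := ⟨p - 1, by omega⟩
    have hgeom := geom_sum_mul_add a m
    rw [← ha] at hgeom
    set s := ∑ i ∈ Finset.range m, p ^ i
    have hsodd : Odd s := by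
      rw [Nat.odd_iff]
      rw [Finset.sum_nat_mod, Finset.sum_congr rfl fun i _ => Nat.odd_iff.mp (hp2.pow (n := i))]
      simp [Nat.odd_iff.mp hodd]
    have h1 : (a:ℤ) * s + 1 = (p:ℤ)^m := by
      have : a * s + 1 = p^m := by rw [mul_comm]; exact hgeom
      exact_mod_cast this
    have hqa : q ∣ a * s := by
      refine Int.natCast_dvd_natCast.mp ⟨(q:ℤ)^3 - q^2 + q - 1, ?_⟩
      push_cast; linarith
    obtain ⟨t, ht⟩ := hpow a s hsodd hqa
    have hpZ : (p:ℤ) = 1 + q*t := by rw [ha, ht]; push_cast; ring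
    have ht0 : t ≠ 0 := by rintro rfl; have := hp.two_le; omega
    have hlt : p^m < q^4 := by nlinarith [Nat.le_self_pow (show 3 ≠ 0 by norm_num) q, Nat.pow_le_pow_right (show 1 ≤ q by omega) (show 2 ≤ 3 by norm_num)]
    have hqtp : q * t < p := by omega
    have hm4 : m < 4 := by
      by_contra hc; push Not at hc
      have : q^4 < p^m := lt_of_lt_of_le
        (Nat.pow_lt_pow_left (lt_of_le_of_lt (Nat.le_mul_of_pos_right q (Nat.pos_of_ne_zero ht0)) hqtp) (by norm_num))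
        (Nat.pow_le_pow_right hp1 hc)
      omega
    obtain rfl : m = 3 := by obtain ⟨k, hk⟩ := hodd; omega
    have hs3 : t^3 < q := by
      have h3 : (q*t)^3 < p^3 := Nat.pow_lt_pow_left hqtp (by norm_num)
      have : q^3 * t^3 < q^3 * q := by
        rw [← mul_pow, ← pow_succ]
        exact h3.trans hlt
      exact Nat.lt_of_mul_lt_mul_left this
    rw [hpZ] at hzX
    have hd : (q:ℤ) ∣ 3 * t + 1 := by
      refine ⟨(q:ℤ)^2 - q + 1 - 3*t^2 - q*t^3, ?_⟩
      have : (q:ℤ) * (3 * t + 1 - q * ((q:ℤ)^2 - q + 1 - 3*t^2 - q*t^3)) = 0 := by linarith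
      have h' := (mul_eq_zero.mp this).resolve_left (by omega)
      linarith
    obtain ⟨c, hc⟩ : q ∣ 3 * t + 1 := by exact_mod_cast hd
    have ht3 : t ≤ t^3 := Nat.le_self_pow (by norm_num) t
    have hc3 : c ≤ 3 := by nlinarith
    have htle : t ≤ 1 := by
      by_contra hh; push Not at hh
      have hq3 : q ≤ 3 * t + 1 := Nat.le_of_dvd (by omega) ⟨c, hc⟩
      have h4 : 2 * 2 * t ≤ t ^ 3 := by
        rw [show t ^ 3 = t * t * t by ring]
        exact Nat.mul_le_mul (Nat.mul_le_mul hh hh) le_rfl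
      omega
    obtain rfl : t = 1 := by omega
    have hq4 : q ≤ 4 := Nat.le_of_dvd (by norm_num) ⟨c, hc⟩
    interval_cases q <;> omega

/-- Let q = 2^n with n ≥ 1. If q⁴ − q³ + q² − q + 1 is a power p^m of a prime p, then m = 1: the value is never a prime power with exponent greater than 1. -/
theorem result (n p m : ℕ) (hn : 1 ≤ n) (hp : p.Prime) (h : (2 ^ n) ^ 4 - (2 ^ n) ^ 3 + (2 ^ n) ^ 2 - 2 ^ n + 1 = p ^ m) : m = 1 := by
  refine key (2^n) p m (Nat.le_self_pow (by omega) 2) (dvd_pow_self 2 (by omega)) ?_ hp ?_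
  · intro a b hb hab
    exact (Nat.Coprime.pow_left n (Nat.coprime_two_left.mpr hb)).dvd_of_dvd_mul_right hab
  · have h1 : (2^n)^3 ≤ (2^n)^4 := Nat.pow_le_pow_right Nat.one_le_two_pow (by norm_num)
    have h2 : 2^n ≤ (2^n)^2 := Nat.le_self_pow (by norm_num) _
    omega

end Cfsg.Agent.S3166
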