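import Cfsg.Statements.S3169
import Cfsg.Agent.Lib.M24Quot.Global
import Cfsg.Agent.Lib.M24Quot.Iso

set_option autoImplicit false
open Cfsg

namespace Cfsg.Agent.S3169

/-- Let P be a Sylow 2-subgroup of the Mathieu group of degree 24 and let G be a finite group with no nontrivial normal subgroup of odd order whose Sylow 2-subgroup S is isomorphic to the quotient of P by its centre. If A is an abelian subgroup of S of order 64 and is the only abelian subgroup of S of that order, then A is normal in G. -/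
theorem result {G : Type*} [Group G] [Finite G]
    (hO : Cfsg.oddCore G = ⊥) (S : Sylow 2 G) (P : Sylow 2 ↥Cfsg.M24)
    (hS : Nonempty (↥(S : Subgroup G) ≃* (↥(P : Subgroup ↥Cfsg.M24) ⧸ Subgroup.center ↥(P : Subgroup ↥Cfsg.M24))))
    (A : Subgroup G) (hA : A ≤ (S : Subgroup G)) (hAc : IsMulCommutative ↥A) (hA64 : Nat.card ↥A = 64)
    (huniq : ∀ B : Subgroup G, B ≤ (S : Subgroup G) → IsMulCommutative ↥B → Nat.card ↥B = 64 → B = A) :
    A.Normal := by
  obtain ⟨e⟩ := hS
  obtain ⟨M⟩ := CfsgM24Q.exists_mdl P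
  let E : CfsgM24Q.Emb (S : Subgroup G) := (M.map e.symm).emb
  have hEA : E.subA = A := huniq _ E.subA_le
    ⟨⟨fun a b => Subtype.ext (E.subA_comm a a.2 b b.2)⟩⟩ E.card_subA
  exact CfsgM24Q.Cfg.normal (S := S) (A := A) ⟨E, hEA.symm, fun B hB hBc hB64 =>
    huniq B hB ⟨⟨fun a b => Subtype.ext (hBc a a.2 b b.2)⟩⟩ hB64⟩ hO

end Cfsg.Agent.S3169
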