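import Cfsg.Statements.S3171
import Cfsg.Agent.Lib.Golay.SylowQuotChecks

set_option autoImplicit false
open Cfsg CfsgGolay CfsgGolay.SylQuot
open scoped Pointwise

namespace Cfsg.Agent.S3171

set_option maxHeartbeats 1000000

attribute [local irreducible] codeL octadL dodecadL slpCodes pcomp codeP pack papp sylowM24 spanH

/-- Let P be a Sylow 2-subgroup of the Mathieu group of degree 24 and S the quotient of P by its centre. Then the centre of every maximal subgroup of S has order at most 8; S has an elementary abelian subgroup of order 64; and S has only one abelian subgroup of order 64. -/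
theorem result (P : Sylow 2 ↥Cfsg.M24) :
    (∀ M : Subgroup (↥(P : Subgroup ↥Cfsg.M24) ⧸ Subgroup.center ↥(P : Subgroup ↥Cfsg.M24)), IsCoatom M →
        Nat.card ↥(Subgroup.center ↥M) ≤ 8) ∧
      (∃ A : Subgroup (↥(P : Subgroup ↥Cfsg.M24) ⧸ Subgroup.center ↥(P : Subgroup ↥Cfsg.M24)),
        Cfsg.IsElementaryAbelian 2 A ∧ Nat.card ↥A = 64) ∧
      ∀ A B : Subgroup (↥(P : Subgroup ↥Cfsg.M24) ⧸ Subgroup.center ↥(P : Subgroup ↥Cfsg.M24)),
        IsMulCommutative ↥A → Nat.card ↥A = 64 → IsMulCommutative ↥B → Nat.card ↥B = 64 → A = B := by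
  classical
  haveI : Fact (Nat.Prime 2) := ⟨Nat.prime_two⟩
  have hB : sylowM24.checkBasic = true := basic_ok
  have hP : sylowM24.checkPhi = true := phi_ok
  have hC : sylowM24.checkCen = true := cen_ok
  have hgen : checkGen = true := gen_ok
  have hA : checkA = true := a_ok
  have hF : checkFix = true := fix_ok
  have hM : checkMax = true := max_ok
  have hlen : (spanC gT).length = 1024 := len_ok
  have hG : Cfsg.M24 = sylowM24.amb := amb_eq
  have hHG : spanH gT ≤ Cfsg.M24 := (SylData.spanH_le_amb hB).trans hG.ge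
  have hT : Nat.card ↥(spanH gT) = 1024 := (SylData.card_U hB).trans hlen
  have hcardU : Nat.card ((spanH gT).subgroupOf Cfsg.M24) = 2 ^ 10 := by
    rw [Nat.card_congr (Subgroup.subgroupOfEquivOfLe hHG).toEquiv, hT]
    norm_num
  have hfac : (Nat.card Cfsg.M24).factorization 2 = 10 := by
    rw [card_M24, show (244823040 : ℕ) = 2 ^ 10 * 239085 from by norm_num, Nat.factorization_mul (by norm_num) (by norm_num),
      Finsupp.add_apply, Nat.factorization_eq_zero_of_not_dvd (by norm_num : ¬ 2 ∣ 239085), add_zero, Nat.factorization_pow,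
      Finsupp.smul_apply, Nat.Prime.factorization_self Nat.prime_two, smul_eq_mul, mul_one]
  let U : Sylow 2 Cfsg.M24 := Sylow.ofCard ((spanH gT).subgroupOf Cfsg.M24) (by rw [hfac, hcardU])
  let e : ↥(spanH gT) ≃* ↥(P : Subgroup ↥Cfsg.M24) :=
    (Subgroup.subgroupOfEquivOfLe hHG).symm.trans ((MulEquiv.subgroupCongr (Sylow.coe_ofCard _ _).symm).trans (U.equiv P))
  let φ := (QuotientGroup.mk' (Subgroup.center ↥(P : Subgroup ↥Cfsg.M24))).comp e.toMonoidHom
  have hsur : Function.Surjective φ := (QuotientGroup.mk'_surjective _).comp e.surjective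
  have hker : ∀ t : ↥(spanH gT), φ t = 1 → codeP (t : Equiv.Perm GolayPt) = pid ∨ codeP (t : Equiv.Perm GolayPt) = zc := by
    intro t ht
    have hcen : ∀ u : ↥(spanH gT), u * t = t * u := fun u => e.injective (by
      rw [map_mul, map_mul]
      exact Subgroup.mem_center_iff.mp ((QuotientGroup.eq_one_iff _).mp ht) (e u))
    simp only [SylData.checkCen, List.all_eq_true, Bool.or_eq_true, Bool.not_eq_true'] at hC
    rcases hC _ (spanC_complete (SylData.permOK_gens hB) (SylData.pc_gens hB) _ t.2) with h | h | h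
    · rw [List.all_eq_false] at h
      obtain ⟨d, hd, hne⟩ := h
      exfalso
      obtain ⟨v, hv⟩ := lift hB (of_memB (List.all_eq_true.mp hgen d hd))
      apply hne
      rw [← hv, pcomp_eq_codeP (repr_codeP _) (repr_codeP _), pcomp_eq_codeP (repr_codeP _) (repr_codeP _)]
      rw [show (t : Equiv.Perm GolayPt) * v = (v : Equiv.Perm GolayPt) * t from congrArg Subtype.val (hcen v).symm]
      exact Nat.beq_refl _
    · exact Or.inl (Nat.eq_of_beq_eq_true h)
    · exact Or.inr (Nat.eq_of_beq_eq_true h)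
  have hPp : IsPGroup 2 ↥(P : Subgroup ↥Cfsg.M24) := P.2
  haveI : Nontrivial ↥(P : Subgroup ↥Cfsg.M24) := Finite.one_lt_card_iff_nontrivial.mp (by
    rw [← Nat.card_congr e.toEquiv, hT]; norm_num)
  have hk : Nat.card φ.ker = 2 := by
    have hle : Nat.card φ.ker ≤ 2 := by
      refine le_trans (Nat.card_le_card_of_injective
        (fun t : φ.ker => decide (codeP ((t : ↥(spanH gT)) : Equiv.Perm GolayPt) = pid)) fun a b hab => ?_) (by simp)
      have h1 := hker _ a.2
      have h2 := hker _ b.2
      simp only [decide_eq_decide] at hab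
      refine Subtype.ext (Subtype.ext (codeP_injective ?_))
      rcases h1 with h1 | h1 <;> rcases h2 with h2 | h2
      · rw [h1, h2]
      · rw [h1, hab.mp h1]
      · rw [hab.mpr h2, h2]
      · rw [h1, h2]
    haveI : Nontrivial ↥(Subgroup.center ↥(P : Subgroup ↥Cfsg.M24)) := hPp.center_nontrivial
    have h1 := Finite.one_lt_card (α := ↥(Subgroup.center ↥(P : Subgroup ↥Cfsg.M24)))
    have h2 : Nat.card φ.ker = Nat.card ↥(Subgroup.center ↥(P : Subgroup ↥Cfsg.M24)) :=
      Nat.card_congr (e.toEquiv.subtypeEquiv fun a => by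
        rw [MonoidHom.mem_ker]
        exact QuotientGroup.eq_one_iff _)
    omega
  have hS : Nat.card (↥(P : Subgroup ↥Cfsg.M24) ⧸ Subgroup.center ↥(P : Subgroup ↥Cfsg.M24)) = 512 := by
    have h := φ.ker.card_mul_index
    rw [hk, Subgroup.index_ker, MonoidHom.range_eq_top.mpr hsur, Subgroup.card_top, hT] at h
    omega
  have hfacts := facts hA
  refine ⟨fun M hco => ?_, ⟨bigA φ, bigA_elementary hB hk hker hfacts, card_bigA hB hsur hk hker hfacts⟩,
    fun A B hA1 hA2 hB1 hB2 => (abelian_eq hB hsur hk hker hfacts hlen hS hF A hA1 hA2).trans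
      (abelian_eq hB hsur hk hker hfacts hlen hS hF B hB1 hB2).symm⟩
  refine centre_le hB hP hsur hk hker hgen hM M ?_
  have hq : IsPGroup 2 (↥(P : Subgroup ↥Cfsg.M24) ⧸ Subgroup.center ↥(P : Subgroup ↥Cfsg.M24)) :=
    hPp.to_quotient _
  haveI := hq.isNilpotent
  haveI hn : M.Normal := Subgroup.NormalizerCondition.normal_of_coatom M Group.normalizerCondition_of_isNilpotent hco
  have hne : M.index ≠ 1 := fun h => hco.1 (Subgroup.index_eq_one.mp h)
  haveI : Nontrivial (_ ⧸ M) := Finite.one_lt_card_iff_nontrivial.mp (by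
    rw [← Subgroup.index_eq_card]; have := M.index_ne_zero_of_finite; omega)
  obtain ⟨k, hk'⟩ := IsPGroup.iff_card.mp (hq.to_quotient M)
  obtain ⟨q, hq2⟩ := exists_prime_orderOf_dvd_card' (G := _ ⧸ M) 2 (by
    rw [hk']
    refine dvd_pow_self 2 fun h0 => ?_
    rw [h0, pow_zero, ← Subgroup.index_eq_card] at hk'
    exact hne hk')
  have htop : Subgroup.zpowers q = ⊤ := by
    have hlt : M < (Subgroup.zpowers q).comap (QuotientGroup.mk' M) := by
      obtain ⟨x, rfl⟩ := QuotientGroup.mk'_surjective M q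
      refine lt_of_le_of_ne (fun m hm => ?_) fun h => ?_
      · show QuotientGroup.mk' M m ∈ Subgroup.zpowers _
        rw [(QuotientGroup.eq_one_iff m).mpr hm |> fun h => (show QuotientGroup.mk' M m = 1 from h)]; exact one_mem _
      · have hx : x ∈ M := h ▸ Subgroup.mem_zpowers _
        rw [QuotientGroup.mk'_apply, (QuotientGroup.eq_one_iff x).mpr hx, orderOf_one] at hq2
        omega
    rw [← Subgroup.map_comap_eq_self_of_surjective (QuotientGroup.mk'_surjective M) (Subgroup.zpowers q),
      hco.2 _ hlt, Subgroup.map_top_of_surjective _ (QuotientGroup.mk'_surjective M)]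
  rw [Subgroup.index_eq_card, ← Subgroup.card_top, ← htop, Nat.card_zpowers, hq2]

end Cfsg.Agent.S3171
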