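import Cfsg.Statements.S3170
import Cfsg.Agent.S3169
import Cfsg.Agent.S3171
import Cfsg.Agent.Lib.GW.Conseq.Basic

set_option autoImplicit false
open Cfsg
open scoped commutatorElement

namespace Cfsg.Agent.S3170

universe u

variable {H : Type u} [Group H]

theorem card_center_sylow (P : Sylow 2 ↥Cfsg.M24) : Nat.card (Subgroup.center ↥(P : Subgroup ↥Cfsg.M24)) = 2 := by
  haveI : Fact (Nat.Prime 2) := ⟨Nat.prime_two⟩
  have h := (Subgroup.center ↥(P : Subgroup ↥Cfsg.M24)).card_mul_index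
  rw [Subgroup.index_eq_card, CfsgM24Q.card_quot] at h
  have hfac : (Nat.card Cfsg.M24).factorization 2 = 10 := by
    rw [CfsgGolay.card_M24, show (244823040 : ℕ) = 2 ^ 10 * 239085 from by norm_num, Nat.factorization_mul (by norm_num) (by norm_num),
      Finsupp.add_apply, Nat.factorization_eq_zero_of_not_dvd (by norm_num : ¬ 2 ∣ 239085), add_zero, Nat.factorization_pow,
      Finsupp.smul_apply, Nat.Prime.factorization_self Nat.prime_two, smul_eq_mul, mul_one]
  have hP : Nat.card ↥(P : Subgroup ↥Cfsg.M24) = 1024 := by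
    rw [P.card_eq_multiplicity, hfac]; norm_num
  omega

/-- Let H be a finite group with no nontrivial normal subgroup of odd order whose Sylow 2-subgroup T is isomorphic to a Sylow 2-subgroup of the Mathieu group of degree 24, and suppose that the centre of T lies in the centre of H. If E is a subgroup of T that is normal in T and extraspecial of order 2^7, and E is the only such subgroup of T, then E is normal in H. -/
theorem result {H : Type*} [Group H] [Finite H]
    (hO : Cfsg.oddCore H = ⊥) (T : Sylow 2 H) (P : Sylow 2 ↥Cfsg.M24)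
    (hT : Nonempty (↥(T : Subgroup H) ≃* ↥(P : Subgroup ↥Cfsg.M24)))
    (hZ : ∀ z ∈ (T : Subgroup H), (∀ t ∈ (T : Subgroup H), z * t = t * z) → z ∈ Subgroup.center H)
    (E : Subgroup H) (hE : E ≤ (T : Subgroup H)) (hEn : (E.subgroupOf (T : Subgroup H)).Normal)
    (hEx : Cfsg.IsExtraspecial 2 ↥E) (hE7 : Nat.card ↥E = 2 ^ 7)
    (huniq : ∀ E' : Subgroup H, E' ≤ (T : Subgroup H) → (E'.subgroupOf (T : Subgroup H)).Normal →
      Cfsg.IsExtraspecial 2 ↥E' → Nat.card ↥E' = 2 ^ 7 → E' = E) :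
    E.Normal := by
  classical
  haveI : Fact (Nat.Prime 2) := ⟨Nat.prime_two⟩
  obtain ⟨e⟩ := hT
  set ZT := Subgroup.center ↥(T : Subgroup H) with hZT
  have hzmap : ZT.map e.toMonoidHom = Subgroup.center ↥(P : Subgroup ↥Cfsg.M24) := by
    ext y
    rw [Subgroup.mem_map_equiv, Subgroup.mem_center_iff, Subgroup.mem_center_iff]
    exact ⟨fun h x => e.symm.injective (by rw [map_mul, map_mul]; exact h _),
      fun h x => e.injective (by rw [map_mul, map_mul, e.apply_symm_apply]; exact h _)⟩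
  set Z := ZT.map (T : Subgroup H).subtype with hZdef
  have hZ2 : Nat.card Z = 2 := by
    have h2 := card_center_sylow P
    rw [← hzmap, Subgroup.card_map_of_injective (MulEquiv.injective e)] at h2
    rw [Subgroup.card_map_of_injective (Subgroup.subtype_injective _)]
    exact h2
  have hZc : Z ≤ Subgroup.center H := by
    rintro _ ⟨z, hz, rfl⟩
    exact hZ z z.2 fun t ht => (congrArg Subtype.val (Subgroup.mem_center_iff.mp hz ⟨t, ht⟩)).symm
  haveI : Z.Normal := ⟨fun n hn g => by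
    rw [Subgroup.mem_center_iff.mp (hZc hn) g, mul_inv_cancel_right]; exact hn⟩
  -- the centre of the extraspecial group
  have hsub : Subgroup.center ↥E ≠ ⊥ := by
    intro h
    have := hEx.2
    rw [h, Subgroup.card_bot] at this
    omega
  haveI := hEn
  haveI : Nontrivial ↥(E.subgroupOf (T : Subgroup H)) := Finite.one_lt_card_iff_nontrivial.mp (by
    rw [Nat.card_congr (Subgroup.subgroupOfEquivOfLe hE).toEquiv, hE7]; norm_num)
  obtain ⟨z0, hz0, hz01⟩ : ∃ z ∈ ZT, z ≠ 1 ∧ (z : H) ∈ E := by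
    have hT2 : IsPGroup 2 ↥(T : Subgroup H) := T.2
    have h := hT2.to_subgroup (E.subgroupOf (T : Subgroup H))
    -- the fixed points of the conjugation
    obtain ⟨w, hw1, hwn, hwc⟩ : ∃ w : ↥(T : Subgroup H), w ≠ 1 ∧ w ∈ E.subgroupOf (T : Subgroup H) ∧
        w ∈ Subgroup.center ↥(T : Subgroup H) := by
      by_contra hcon
      push Not at hcon
      have hp : 2 ∣ Nat.card ↥(E.subgroupOf (T : Subgroup H)) := by
        rw [Nat.card_congr (Subgroup.subgroupOfEquivOfLe hE).toEquiv, hE7]; norm_num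
      let N := E.subgroupOf (T : Subgroup H)
      letI : MulAction (ConjAct ↥(T : Subgroup H)) ↥N := inferInstance
      have hfix := (hT2.of_equiv ConjAct.toConjAct).exists_fixed_point_of_prime_dvd_card_of_fixed_point (α := ↥N)
        hp (a := 1) (fun g => smul_one g)
      obtain ⟨w, hw, hw1⟩ := hfix
      refine hcon w (fun e => hw1 (Subtype.ext e.symm)) w.2 ?_
      rw [Subgroup.mem_center_iff]
      intro g
      have := congrArg Subtype.val (hw (ConjAct.toConjAct g))
      rw [ConjAct.Subgroup.val_conj_smul, ConjAct.smul_def, ConjAct.ofConjAct_toConjAct] at this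
      exact mul_inv_eq_iff_eq_mul.mp this
    exact ⟨w, hwc, hw1, hwn⟩
  have hZE : Z ≤ E := by
    haveI : Fact (Nat.Prime (Nat.card ZT)) := ⟨by
      rw [← Subgroup.card_map_of_injective (K := ZT) (Subgroup.subtype_injective (T : Subgroup H)), ← hZdef, hZ2]
      exact Nat.prime_two⟩
    rintro _ ⟨z, hz, rfl⟩
    obtain ⟨k, hk⟩ := Subgroup.mem_zpowers_iff.mp (mem_zpowers_of_prime_card (g := (⟨z0, hz0⟩ : ZT)) rfl
      (fun e => hz01.1 (congrArg Subtype.val e)) (g' := (⟨z, hz⟩ : ZT)))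
    have e : (z0 : H) ^ k = (z : H) := by rw [← congrArg (fun t : ZT => ((t : ↥(T : Subgroup H)) : H)) hk]; simp
    show (z : H) ∈ E
    exact e ▸ E.zpow_mem hz01.2 k
  have hcenE : (Subgroup.center ↥E).map E.subtype = Z := by
    symm
    refine Subgroup.eq_of_le_of_card_ge (fun x hx => ?_) (by
      rw [Subgroup.card_map_of_injective (Subgroup.subtype_injective _), hEx.2, hZ2])
    exact ⟨⟨x, hZE hx⟩, Subgroup.mem_center_iff.mpr fun y => Subtype.ext (Subgroup.mem_center_iff.mp (hZc hx) y), rfl⟩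
  -- the quotient
  set π := QuotientGroup.mk' Z with hπ
  set Tb := T.mapSurjective (f := π) (QuotientGroup.mk'_surjective Z)
  set Eb := E.map π
  let f : ↥(T : Subgroup H) →* ↥((T : Subgroup H).map π) := π.subgroupMap (T : Subgroup H)
  have hfk : f.ker = ZT := by
    ext x
    rw [MonoidHom.mem_ker, Subtype.ext_iff]
    show π (x : H) = 1 ↔ _
    rw [hπ, QuotientGroup.mk'_apply, QuotientGroup.eq_one_iff]
    exact ⟨fun ⟨y, hy, he⟩ => Subtype.ext he ▸ hy, fun hx => ⟨x, hx, rfl⟩⟩
  let φ : ↥((T : Subgroup H).map π) ≃* ↥(P : Subgroup ↥Cfsg.M24) ⧸ Subgroup.center ↥(P : Subgroup ↥Cfsg.M24) :=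
    ((QuotientGroup.quotientMulEquivOfEq hfk).symm.trans (QuotientGroup.quotientKerEquivOfSurjective f
      (MonoidHom.subgroupMap_surjective _ _))).symm.trans (QuotientGroup.congr ZT _ e hzmap)
  have hcardE : Nat.card ↥Eb = 64 := by
    have h1 : π.ker.relIndex E = Nat.card ↥Eb := Subgroup.relIndex_ker _ _
    rw [hπ, QuotientGroup.ker_mk'] at h1
    have h2 := (Z.subgroupOf E).card_mul_index
    rw [Nat.card_congr (Subgroup.subgroupOfEquivOfLe hZE).toEquiv, hZ2, hE7] at h2
    change Nat.card ↥Eb = 64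
    change 2 * Z.relIndex E = _ at h2
    omega
  have hcomm : ∀ a ∈ Eb, ∀ b ∈ Eb, a * b = b * a := by
    rintro _ ⟨a, ha, rfl⟩ _ ⟨b, hb, rfl⟩
    have hd : ⁅(⟨a, ha⟩ : ↥E), ⟨b, hb⟩⁆ ∈ Subgroup.center ↥E := by
      rw [← hEx.1.2.2]
      exact Subgroup.commutator_mem_commutator (Subgroup.mem_top _) (Subgroup.mem_top _)
    have hz : ⁅a, b⁆ ∈ Z := hcenE ▸ ⟨_, hd, rfl⟩
    have := (QuotientGroup.eq_one_iff (N := Z) _).mpr hz
    rw [← QuotientGroup.mk'_apply, map_commutatorElement, commutatorElement_eq_one_iff_mul_comm] at this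
    exact this
  have hnorm : Eb.Normal := by
    refine Cfsg.Agent.S3169.result (CfsgLib.GWConseq.core_quotient_central hO Z hZ2 hZc) Tb P ⟨φ⟩ Eb
      (Subgroup.map_mono hE) ⟨⟨fun a b => Subtype.ext (hcomm a a.2 b b.2)⟩⟩ hcardE fun B hB hBc hB64 => ?_
    have key := (Cfsg.Agent.S3171.result P).2.2
      ((B.subgroupOf ((T : Subgroup H).map π)).map φ.toMonoidHom) ((Eb.subgroupOf ((T : Subgroup H).map π)).map φ.toMonoidHom)
    have hi : ∀ (C : Subgroup (H ⧸ Z)), C ≤ ((T : Subgroup H).map π) → (∀ a ∈ C, ∀ b ∈ C, a * b = b * a) →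
        Nat.card C = 64 → IsMulCommutative ↥((C.subgroupOf ((T : Subgroup H).map π)).map φ.toMonoidHom) ∧
          Nat.card ↥((C.subgroupOf ((T : Subgroup H).map π)).map φ.toMonoidHom) = 64 := by
      intro C hC hc h64
      refine ⟨⟨⟨?_⟩⟩, ?_⟩
      · rintro ⟨_, a, ha, rfl⟩ ⟨_, b, hb, rfl⟩
        exact Subtype.ext (((map_mul φ a b).symm.trans (congrArg φ (Subtype.ext (hc a ha b hb)))).trans (map_mul φ b a))
      · rw [Subgroup.card_map_of_injective φ.injective, Nat.card_congr (Subgroup.subgroupOfEquivOfLe hC).toEquiv, h64]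
    obtain ⟨b1, b2⟩ := hi B hB (fun a ha b hb => congrArg Subtype.val (hBc.is_comm.comm ⟨a, ha⟩ ⟨b, hb⟩)) hB64
    obtain ⟨e1, e2⟩ := hi Eb (Subgroup.map_mono hE) hcomm hcardE
    have h := Subgroup.map_injective (f := φ.toMonoidHom) φ.injective (key b1 b2 e1 e2)
    have h' := Subgroup.subgroupOf_inj.mp h
    have hB' : B ≤ (T : Subgroup H).map π := hB
    have hE' : Eb ≤ (T : Subgroup H).map π := Subgroup.map_mono hE
    rwa [inf_eq_left.mpr hB', inf_eq_left.mpr hE'] at h'
  have := hnorm.comap π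
  rwa [Subgroup.comap_map_eq, hπ, QuotientGroup.ker_mk', sup_eq_left.mpr hZE] at this

end Cfsg.Agent.S3170
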