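import Cfsg.Statements.S3175
import Cfsg.Agent.Lib.RudvalisWClosed

set_option autoImplicit false
open Cfsg

namespace Cfsg.Agent.S3175

/-- Let G be a finite group whose Sylow 2-subgroup T has order at least 2^14 and whose upper central series has fourth term of order 16; let W be the centralizer in T of the third term, and suppose the Frattini subgroup of W has order at most 8 and lies in every subgroup of W of index at most 16. Then the normalizer of T in G has a normal 2-complement, and W is weakly closed in T with respect to G. -/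
theorem result {G : Type*} [Group G] [Finite G]
    (T : Sylow 2 G) (ha : 2 ^ 14 ≤ Nat.card ↥(T : Subgroup G))
    (hb : Nat.card ↥(Subgroup.upperCentralSeries ↥(T : Subgroup G) 4) = 16)
    (W : Subgroup ↥(T : Subgroup G))
    (hW : W = Subgroup.centralizer ((Subgroup.upperCentralSeries ↥(T : Subgroup G) 3 : Subgroup ↥(T : Subgroup G)) : Set ↥(T : Subgroup G)))
    (hc : Nat.card ↥(frattini ↥W) ≤ 8)
    (hd : ∀ U : Subgroup ↥W, U.index ≤ 16 → frattini ↥W ≤ U) :
    Cfsg.HasNormalPComplement 2 ↥(Subgroup.normalizer ((T : Subgroup G) : Set G)) ∧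
      Cfsg.IsWeaklyClosed (W.map (T : Subgroup G).subtype) (T : Subgroup G) := by
  haveI : Fact (Nat.Prime 2) := ⟨Nat.prime_two⟩
  have h : CfsgLib.RudvalisW.Hyp W := ⟨T.2, ha, hb, hW, hc, hd⟩
  constructor
  · set N : Subgroup G := Subgroup.normalizer ((T : Subgroup G) : Set G) with hN
    have hle : (T : Subgroup G) ≤ N := Subgroup.le_normalizer
    let T' : Sylow 2 ↥N := T.subtype hle
    haveI hT'n : (T' : Subgroup ↥N).Normal := Subgroup.normal_in_normalizer
    have hcop : Nat.Coprime (Nat.card ↥(T' : Subgroup ↥N)) (T' : Subgroup ↥N).index := by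
      obtain ⟨k, hk⟩ := IsPGroup.iff_card.1 T'.2
      rw [hk]
      exact Nat.Coprime.pow_left k (Nat.prime_two.coprime_iff_not_dvd.2 T'.not_dvd_index)
    obtain ⟨K, hK⟩ := Subgroup.exists_right_complement'_of_coprime hcop
    have hcentral : ∀ k ∈ K, ∀ t ∈ (T' : Subgroup ↥N), k * t = t * k := by
      intro k hk t ht
      have hodd : Odd (orderOf k) := by
        rw [Nat.odd_iff, ← Nat.two_dvd_ne_zero]
        intro h2
        refine T'.not_dvd_index (h2.trans ?_)
        rw [hK.symm.index_eq_card]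
        exact Subgroup.orderOf_dvd_natCard K hk
      have hφ := h.aut_trivial hodd (φ := (T : Subgroup G).normalizerMonoidHom k)
        (by rw [← map_pow, pow_orderOf_eq_one, map_one])
      have hmem : k ∈ ((T : Subgroup G).normalizerMonoidHom).ker := hφ
      rw [Subgroup.normalizerMonoidHom_ker] at hmem
      exact Subtype.ext (Subgroup.mem_centralizer_iff.1 (Subgroup.mem_subgroupOf.1 hmem) _
        (Subgroup.mem_subgroupOf.1 ht)).symm
    refine ⟨T', K, ⟨fun k hk g => ?_⟩, hK.symm⟩
    obtain ⟨t, ht, u, hu, rfl⟩ := Subgroup.mem_sup_of_normal_left.1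
      (show g ∈ (T' : Subgroup ↥N) ⊔ K by rw [hK.sup_eq_top]; exact Subgroup.mem_top g)
    have h1 : u * k * u⁻¹ ∈ K := K.mul_mem (K.mul_mem hu hk) (K.inv_mem hu)
    have h2 := hcentral _ h1 t ht
    rw [show t * u * k * (t * u)⁻¹ = t * (u * k * u⁻¹) * t⁻¹ by group, ← h2, mul_inv_cancel_right]
    exact h1
  · refine ⟨Subgroup.map_subtype_le W, fun g hg => ?_⟩
    have hmem : ∀ w : ↥W, g * ((w : ↥(T : Subgroup G)) : G) * g⁻¹ ∈ (T : Subgroup G) := fun w =>
      hg ⟨_, ⟨_, w.2, rfl⟩, rfl⟩
    let ψ : ↥W →* ↥(T : Subgroup G) :=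
      MonoidHom.mk' (fun w => ⟨g * ((w : ↥(T : Subgroup G)) : G) * g⁻¹, hmem w⟩) fun u v => by
        apply Subtype.ext
        simp only [Subgroup.coe_mul]
        group
    have hinj : Function.Injective ψ := fun u v huv => by
      have h1 : g * ((u : ↥(T : Subgroup G)) : G) * g⁻¹ = g * ((v : ↥(T : Subgroup G)) : G) * g⁻¹ :=
        congrArg Subtype.val huv
      exact Subtype.ext (Subtype.ext (mul_left_cancel (mul_right_cancel h1)))
    have hW1 : ψ.range = W := h.range_eq ψ hinj
    ext x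
    constructor
    · rintro ⟨_, ⟨w, hw, rfl⟩, rfl⟩
      exact ⟨ψ ⟨w, hw⟩, hW1.le ⟨⟨w, hw⟩, rfl⟩, rfl⟩
    · rintro ⟨w, hw, rfl⟩
      obtain ⟨u, rfl⟩ := hW1.ge hw
      exact ⟨_, ⟨_, u.2, rfl⟩, rfl⟩

end Cfsg.Agent.S3175
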