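import Cfsg.Statements.S3177
import Cfsg.Agent.Lib.U3Type.Main

set_option autoImplicit false
open Cfsg

namespace Cfsg.Agent.S3177

/-- Let n ≥ 3 and let G be a finite group whose Sylow 2-subgroups are isomorphic to those of PSU(3, 2^n), realised over the field with 4^n elements. Then either G is solvable of 2-length at most one, or the quotient of G by its largest normal subgroup of odd order has a normal subgroup of odd index isomorphic to PSU(3, 2^n). -/
theorem result {G : Type*} [Group G] [Finite G]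
    (n : ℕ) (hn : 3 ≤ n) {F : Type*} [Field F] [Fintype F] (hF : Fintype.card F = 4 ^ n)
    (S : Sylow 2 G) (P : Sylow 2 (Cfsg.PSU 3 F (2 ^ n)))
    (hS : Nonempty (↥(S : Subgroup G) ≃* ↥(P : Subgroup (Cfsg.PSU 3 F (2 ^ n))))) :
    (Group.IsSolvable G ∧ Cfsg.PLengthLE 2 1 G) ∨
      ∃ N : Subgroup (G ⧸ Cfsg.oddCore G), N.Normal ∧ Odd N.index ∧ Nonempty (↥N ≃* Cfsg.PSU 3 F (2 ^ n)) := by
  obtain ⟨e⟩ := hS
  haveI : Fact (Nat.Prime 2) := ⟨Nat.prime_two⟩
  letI := Fintype.ofFinite (GaloisField 2 (2 * n))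
  have hF' : Fintype.card (GaloisField 2 (2 * n)) = 4 ^ n := by
    rw [← Nat.card_eq_fintype_card, GaloisField.card 2 (2 * n) (by omega), pow_mul]
    norm_num
  obtain ⟨ec⟩ := CfsgLib.SUShort.psu_congr
    (FiniteField.ringEquivOfCardEq (hF.trans hF'.symm)) 3 (2 ^ n)
  let P' := P.mapSurjective (f := ec.toMonoidHom) ec.surjective
  have hU := ((CfsgLib.U3Type.u3_psu (by omega) hF' P').of_equiv
    (((P : Subgroup (Cfsg.PSU 3 F (2 ^ n))).equivMapOfInjective ec.toMonoidHom ec.injective).symm.trans e.symm))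
  rcases CfsgLib.U3Type.structure_theorem hn hF' S hU with ⟨N, h1, h2, ⟨e'⟩⟩ | h
  · exact Or.inr ⟨N, h1, h2, ⟨e'.trans ec.symm⟩⟩
  · exact Or.inl h

end Cfsg.Agent.S3177
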