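import Cfsg.Statements.S3178
import Mathlib
import Cfsg.Agent.Lib.PComplement
import Cfsg.Agent.Lib.Stabilizer

set_option autoImplicit false
open Cfsg

namespace Cfsg.Agent.S3178

/-- An element of odd order normalising a cyclic 2-subgroup centralises it. -/
theorem comm_cyclic {G : Type*} [Group G] [Finite G] {g : G} (hg : (orderOf g).Coprime 2) :
    ∀ (m : ℕ) (d : G), (∃ k, d ^ 2 ^ k = 1) → orderOf d = m → g * d * g⁻¹ ∈ Subgroup.zpowers d →
      Commute g d := by
  intro m
  induction m using Nat.strong_induction_on with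
  | _ m ih =>
  intro d hd hm hgd
  by_cases hd1 : d = 1
  · subst hd1; exact Commute.one_right g
  obtain ⟨k, hk⟩ := hd
  obtain ⟨t, ht⟩ := Subgroup.mem_zpowers_iff.mp hgd
  have h2 : 2 ∣ orderOf d := by
    obtain ⟨j, -, hj⟩ := (Nat.dvd_prime_pow Nat.prime_two).mp (orderOf_dvd_of_pow_eq_one hk)
    rw [hj]
    exact dvd_pow_self 2 (fun h => hd1 (orderOf_eq_one_iff.mp (by rw [hj, h, pow_zero])))
  have hlt : orderOf (d ^ 2) < m := by
    rw [orderOf_pow' _ (by norm_num : (2:ℕ) ≠ 0), Nat.gcd_eq_right h2, hm]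
    have := hm ▸ orderOf_pos d
    omega
  have hsq : g * d ^ 2 * g⁻¹ = (d ^ 2) ^ t := by
    rw [← conj_pow, ← ht, ← zpow_natCast, ← zpow_natCast, ← zpow_mul, ← zpow_mul, mul_comm]
  have h1 : Commute g (d ^ 2) := ih _ hlt _ ⟨k, by rw [← pow_mul, mul_comm, pow_mul, hk, one_pow]⟩ rfl
    (Subgroup.mem_zpowers_iff.mpr ⟨t, hsq.symm⟩)
  rcases Int.even_or_odd' t with ⟨j, rfl | rfl⟩
  · have h2 : g * d * g⁻¹ = (d ^ 2) ^ j := by rw [← ht, zpow_mul]; norm_num
    have h3 : Commute g (g * d * g⁻¹) := h2 ▸ h1.zpow_right j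
    have h4 := h3.eq
    have : g * d = d * g := by
      have e1 : g * d = g⁻¹ * (g * (g * d * g⁻¹)) * g := by group
      rw [h4] at e1
      rw [e1]
      group
    exact this
  · have h2 : g * d * g⁻¹ = (d ^ 2) ^ j * d := by
      rw [← ht, zpow_add, zpow_mul, zpow_one]; norm_num
    have hc := CfsgLib.Stabilizer.coprime_step (p := 2) hg ⟨k, by
      rw [← zpow_natCast ((d ^ 2) ^ j), zpow_comm, zpow_natCast, ← pow_mul, mul_comm 2, pow_mul, hk,
        one_pow, one_zpow]⟩ h2 (h1.zpow_right j).eq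
    rw [hc, one_mul] at h2
    exact mul_inv_eq_iff_eq_mul.mp h2

/-- Groups with a modular Sylow 2-subgroup have a normal 2-complement. Let S, of order 2^(n+1) with n ≥ 3, be a Sylow 2-subgroup of a finite group G, and suppose S contains an element a of order 2^n and an involution b with b a b⁻¹ = a^(2^(n-1) + 1); so S is the non-abelian 2-group with a cyclic subgroup of index 2 that is neither dihedral, semidihedral nor generalized quaternion. Then G has a normal 2-complement. -/
theorem result {G : Type*} [Group G] [Finite G]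
    (S : Sylow 2 G) (n : ℕ) (hn : 3 ≤ n) (hS : Nat.card ↥(S : Subgroup G) = 2 ^ (n + 1))
    (a b : G) (ha : a ∈ (S : Subgroup G)) (hb : b ∈ (S : Subgroup G))
    (hao : orderOf a = 2 ^ n) (hbo : orderOf b = 2) (hrel : b * a * b⁻¹ = a ^ (2 ^ (n - 1) + 1)) :
    Cfsg.HasNormalPComplement 2 G := by
  haveI : Fact (Nat.Prime 2) := ⟨Nat.prime_two⟩
  set q := 2 ^ (n - 1) with hq
  set z := a ^ q with hz
  set A := Subgroup.zpowers a with hA
  have hAS : A ≤ (S : Subgroup G) := Subgroup.zpowers_le.mpr ha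
  have hN : 2 ^ n = 2 * q := by rw [hq, ← pow_succ']; congr 1; omega
  have hqeven : q = 2 * 2 ^ (n - 2) := by rw [hq, ← pow_succ']; congr 1; omega
  have hqn : 2 ^ n ∣ q * q := by
    rw [hq, ← pow_add]; exact Nat.pow_dvd_pow 2 (by omega)
  have hpow1 : ∀ j : ℕ, 2 ^ n ∣ j → a ^ j = 1 := fun j hj => orderOf_dvd_iff_pow_eq_one.mp (hao ▸ hj)
  have hz1 : z ≠ 1 := by
    intro h
    have := Nat.le_of_dvd (Nat.two_pow_pos _) (hao ▸ orderOf_dvd_of_pow_eq_one h : 2 ^ n ∣ q)
    rw [hN] at this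
    have := Nat.two_pow_pos (n - 1)
    omega
  have hbb : b * b = 1 := by rw [← pow_two, ← hbo, pow_orderOf_eq_one]
  have hbinv : b⁻¹ = b := inv_eq_of_mul_eq_one_right hbb
  have hconj : ∀ i : ℕ, b * a ^ i * b⁻¹ = a ^ (i * q) * a ^ i := fun i => by
    rw [← conj_pow, hrel, ← pow_mul, ← pow_add]; congr 1; ring
  have hbA : b ∉ A := by
    intro h
    obtain ⟨t, ht⟩ := Subgroup.mem_zpowers_iff.mp h
    apply hz1
    have h1 : b * a * b⁻¹ = a := by
      rw [← ht, (Commute.zpow_self a t).eq, mul_inv_cancel_right]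
    rw [h1, pow_succ] at hrel
    exact right_eq_mul.mp hrel
  have hzsq : z * z = 1 := by rw [hz, ← pow_add]; exact hpow1 _ (by rw [hN, two_mul])
  have hzb : b * z = z * b := by
    have h := hconj q
    rw [show a ^ (q * q) = 1 from hpow1 _ hqn, one_mul] at h
    exact mul_inv_eq_iff_eq_mul.mp h
  -- the elements of `S`
  have hel : ∀ x ∈ (S : Subgroup G), (∃ i : ℕ, x = a ^ i) ∨ ∃ i : ℕ, x = a ^ i * b := by
    intro x hx
    have hi : (A.subgroupOf (S : Subgroup G)).index = 2 := by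
      have h := (A.subgroupOf (S : Subgroup G)).card_mul_index
      rw [Nat.card_congr (Subgroup.subgroupOfEquivOfLe hAS).toEquiv, hA, Nat.card_zpowers, hao, hS,
        pow_succ] at h
      exact Nat.eq_of_mul_eq_mul_left (Nat.two_pow_pos n) h
    by_cases hxA : x ∈ A
    · obtain ⟨i, hi'⟩ := mem_powers_iff_mem_zpowers.mpr hxA
      exact Or.inl ⟨i, hi'.symm⟩
    · have h1 : (⟨x, hx⟩ * ⟨b, hb⟩ : (S : Subgroup G)) ∈ A.subgroupOf (S : Subgroup G) := by
        rw [Subgroup.mul_mem_iff_of_index_two hi]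
        exact ⟨fun h => absurd h hxA, fun h => absurd h hbA⟩
      obtain ⟨i, hi'⟩ := mem_powers_iff_mem_zpowers.mpr (Subgroup.mem_subgroupOf.mp h1)
      refine Or.inr ⟨i, ?_⟩
      show x = (a ^ i : G) * b
      rw [show a ^ i = x * b from hi', mul_assoc, hbb, mul_one]
  set u := 2 ^ (n - 2) + 1 with hu
  have hsqb : ∀ i : ℕ, (a ^ i * b) * (a ^ i * b) = a ^ (2 * i * u) := by
    intro i
    have e : (a ^ i * b) * (a ^ i * b) = a ^ i * (b * a ^ i * b⁻¹) * (b * b) := by group
    rw [e, hconj, hbb, mul_one, ← mul_assoc, ← pow_add, ← pow_add]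
    congr 1
    rw [hu, hqeven]; ring
  have hucop : Nat.Coprime u (2 ^ n) := by
    refine Nat.Coprime.pow_right _ (Nat.coprime_comm.mp (Nat.prime_two.coprime_iff_not_dvd.mpr ?_))
    have : 2 ∣ 2 ^ (n - 2) := dvd_pow_self 2 (by omega)
    omega
  have hsqA : ∀ x ∈ (S : Subgroup G), x * x ∈ A := by
    intro x hx
    rcases hel x hx with ⟨i, rfl⟩ | ⟨i, rfl⟩
    · rw [← pow_add]; exact Subgroup.npow_mem_zpowers a _
    · rw [hsqb]; exact Subgroup.npow_mem_zpowers a _
  have hhalf : ∀ i : ℕ, 2 ^ n ∣ 2 * i → a ^ i = 1 ∨ a ^ i = z := by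
    intro i h
    rw [hN] at h
    obtain ⟨t, rfl⟩ := Nat.dvd_of_mul_dvd_mul_left (by norm_num) h
    rcases Nat.even_or_odd' t with ⟨s, rfl | rfl⟩
    · exact Or.inl (hpow1 _ (by rw [hN]; exact ⟨s, by ring⟩))
    · refine Or.inr ?_
      rw [show q * (2 * s + 1) = 2 * q * s + q by ring, pow_add, hpow1 _ (by rw [hN]; exact ⟨s, rfl⟩), one_mul]
  have hinv : ∀ x ∈ (S : Subgroup G), x * x = 1 → x = 1 ∨ x = z ∨ x = b ∨ x = z * b := by
    intro x hx hxx
    rcases hel x hx with ⟨i, rfl⟩ | ⟨i, rfl⟩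
    · rw [← pow_add, ← two_mul] at hxx
      rcases hhalf i (hao ▸ orderOf_dvd_of_pow_eq_one hxx) with h | h <;> simp [h]
    · rw [hsqb] at hxx
      have h1 : 2 ^ n ∣ 2 * i := hucop.symm.dvd_of_dvd_mul_right (hao ▸ orderOf_dvd_of_pow_eq_one hxx)
      rcases hhalf i h1 with h | h <;> simp [h]
  have hz_mem : z ∈ (S : Subgroup G) := (S : Subgroup G).pow_mem ha q
  -- Step A
  have stepA : ∀ g : G, (orderOf g).Coprime 2 → g * z * g⁻¹ ∈ (S : Subgroup G) →
      g * b * g⁻¹ ∈ (S : Subgroup G) → Commute g z ∧ Commute g b := by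
    intro g hg hgz hgb
    have hgz' : g * z * g⁻¹ = z ∨ g * z * g⁻¹ = b ∨ g * z * g⁻¹ = z * b := by
      rcases hinv _ hgz (by rw [← pow_two, conj_pow, pow_two, hzsq]; simp) with h | h
      · exact absurd (conj_eq_one_iff.mp h) hz1
      · exact h
    rcases hgz' with h | h
    · have hcz : Commute g z := mul_inv_eq_iff_eq_mul.mp h
      refine ⟨hcz, ?_⟩
      rcases hinv _ hgb (by rw [← pow_two, conj_pow, pow_two, hbb]; simp) with h' | h' | h' | h'
      · exact absurd (conj_eq_one_iff.mp h') (fun e => hbA (e ▸ A.one_mem))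
      · exfalso
        apply hbA
        have : b = g⁻¹ * (g * b * g⁻¹) * g := by group
        rw [h'] at this
        rw [this, mul_assoc, ← hcz.eq, inv_mul_cancel_left, hz]
        exact Subgroup.npow_mem_zpowers a _
      · exact mul_inv_eq_iff_eq_mul.mp h'
      · exact absurd (CfsgLib.Stabilizer.coprime_step hg ⟨1, by rw [pow_one, pow_two, hzsq]⟩ h' hcz.eq) hz1
    · exfalso
      set s := a ^ 2 ^ (n - 2) with hs
      have hss : s * s = z := by rw [hs, hz, ← pow_add, hqeven, two_mul]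
      have hsb : Commute s b := by
        have hh := hconj (2 ^ (n - 2))
        rw [show a ^ (2 ^ (n - 2) * q) = 1 from hpow1 _ (by rw [hq, ← pow_add]; exact Nat.pow_dvd_pow 2 (by omega)),
          one_mul] at hh
        exact (mul_inv_eq_iff_eq_mul.mp hh).symm
      have hsz : Commute s z := Commute.pow_pow_self a _ _
      -- the four group
      let V : Subgroup G :=
        { carrier := {1, z, b, z * b}
          one_mem' := Or.inl rfl
          mul_mem' := by
            have e1 : z * (z * b) = b := by rw [← mul_assoc, hzsq, one_mul]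
            have e2 : b * (z * b) = z := by rw [← mul_assoc, hzb, mul_assoc, hbb, mul_one]
            have e3 : z * b * z = b := by rw [mul_assoc, hzb, e1]
            have e4 : z * b * b = z := by rw [mul_assoc, hbb, mul_one]
            have e5 : z * b * (z * b) = 1 := by rw [mul_assoc, e2, hzsq]
            rintro x y (rfl | rfl | rfl | rfl) (rfl | rfl | rfl | rfl) <;>
              simp [hzsq, hbb, hzb, e1, e2, e3, e4, e5]
          inv_mem' := by
            rintro x (rfl | rfl | rfl | rfl)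
            · simp
            · exact Or.inr (Or.inl (inv_eq_of_mul_eq_one_right hzsq))
            · exact Or.inr (Or.inr (Or.inl hbinv))
            · refine Or.inr (Or.inr (Or.inr ?_))
              show (z * b)⁻¹ = z * b
              rw [mul_inv_rev, hbinv, inv_eq_of_mul_eq_one_right hzsq, hzb] }
      have hzV : z ∈ V := Or.inr (Or.inl rfl)
      have hbV : b ∈ V := Or.inr (Or.inr (Or.inl rfl))
      have hVS : V ≤ (S : Subgroup G) := by
        rintro x (rfl | rfl | rfl | rfl)
        exacts [Subgroup.one_mem _, hz_mem, hb, mul_mem hz_mem hb]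
      have hVsq : ∀ x ∈ V, x * x = 1 := by
        rintro x (rfl | rfl | rfl | rfl)
        · rw [one_mul]
        · exact hzsq
        · exact hbb
        · rw [mul_assoc, ← mul_assoc b, hzb, mul_assoc z b b, hbb, mul_one, hzsq]
      have hVcomm : ∀ x, Commute x z → Commute x b → ∀ v ∈ V, Commute x v := by
        rintro x h1 h2 v (rfl | rfl | rfl | rfl)
        exacts [Commute.one_right x, h1, h2, h1.mul_right h2]
      have hback : ∀ y : G, y * z * y⁻¹ ∈ (S : Subgroup G) → y * b * y⁻¹ ∈ (S : Subgroup G) →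
          ∀ v ∈ V, y⁻¹ * v * y ∈ V := by
        intro y hyz hyb
        have hfwd : ∀ v ∈ V, y * v * y⁻¹ ∈ V := by
          intro v hv
          have h1 : y * v * y⁻¹ * (y * v * y⁻¹) = 1 := by rw [← pow_two, conj_pow, pow_two, hVsq v hv]; simp
          refine hinv (y * v * y⁻¹) ?_ h1
          rcases hv with rfl | rfl | rfl | rfl
          · simp
          · exact hyz
          · exact hyb
          · rw [show y * (z * b) * y⁻¹ = (y * z * y⁻¹) * (y * b * y⁻¹) by group]; exact mul_mem hyz hyb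
        have he : V.map (MulAut.conj y).toMonoidHom = V := by
          refine Subgroup.eq_of_le_of_card_ge ?_ ?_
          · rintro _ ⟨v, hv, rfl⟩
            exact hfwd v hv
          · rw [Subgroup.card_map_of_injective (MulEquiv.injective _)]
        intro v hv
        have hv' : v ∈ V.map (MulAut.conj y).toMonoidHom := by rw [he]; exact hv
        obtain ⟨w, hw, rfl⟩ := hv'
        simpa [mul_assoc] using hw
      set C := Subgroup.centralizer (V : Set G) with hC
      set s' := g * s * g⁻¹ with hs'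
      have hs'C : s' ∈ C := by
        intro v hv
        have hc := (hVcomm s hsz hsb _ (hback g hgz hgb v hv)).eq
        calc v * s' = g * ((g⁻¹ * v * g) * s) * g⁻¹ := by rw [hs']; group
          _ = g * (s * (g⁻¹ * v * g)) * g⁻¹ := by rw [hc]
          _ = s' * v := by rw [hs']; group
      set T := (S : Subgroup G) ⊓ C with hT
      obtain ⟨T1, hT1⟩ := (((S.isPGroup'.to_le (inf_le_left : T ≤ _))).comap_of_injective C.subtype
        C.subtype_injective).exists_le_sylow
      set P := (T1 : Subgroup C).map C.subtype with hP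
      have hTP : T ≤ P := fun x hx => ⟨⟨x, hx.2⟩, hT1 hx, rfl⟩
      obtain ⟨R, hR⟩ := (T1.isPGroup'.map C.subtype).exists_le_sylow
      obtain ⟨y, hy⟩ := MulAction.exists_smul_eq G R S
      have hyS : ∀ x ∈ P, y * x * y⁻¹ ∈ (S : Subgroup G) := fun x hx => by
        rw [← hy, Sylow.coe_subgroup_smul, Subgroup.mem_pointwise_smul_iff_inv_smul_mem]
        simpa [mul_assoc] using hR hx
      have hVC : ∀ v ∈ V, Commute v z ∧ Commute v b := by
        rintro v (h | h | h | h) <;> rw [h]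
        exacts [⟨Commute.one_left z, Commute.one_left b⟩, ⟨Commute.refl z, hzb.symm⟩, ⟨hzb, Commute.refl b⟩,
          ⟨(Commute.refl z).mul_left hzb, Commute.mul_left hzb.symm (Commute.refl b)⟩]
      have hVT : V ≤ T := fun v hv => ⟨hVS hv, fun w hw => (hVcomm v (hVC v hv).1 (hVC v hv).2 w hw).symm⟩
      have hPT : P.map (MulAut.conj y).toMonoidHom ≤ T := by
        rintro _ ⟨x, hx, rfl⟩
        refine ⟨hyS x hx, fun v hv => ?_⟩
        obtain ⟨⟨x', hx'⟩, -, rfl⟩ := hx
        have hc : (y⁻¹ * v * y) * x' = x' * (y⁻¹ * v * y) :=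
          hx' _ (hback y (hyS z (hTP (hVT hzV))) (hyS b (hTP (hVT hbV))) v hv)
        show v * (y * x' * y⁻¹) = y * x' * y⁻¹ * v
        calc v * (y * x' * y⁻¹) = y * ((y⁻¹ * v * y) * x') * y⁻¹ := by group
          _ = y * (x' * (y⁻¹ * v * y)) * y⁻¹ := by rw [hc]
          _ = y * x' * y⁻¹ * v := by group
      have hPeq : T = P := Subgroup.eq_of_le_of_card_ge hTP (by
        have h := Subgroup.card_le_of_le hPT
        rwa [Subgroup.card_map_of_injective (MulEquiv.injective _)] at h)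
      have hp2 : IsPGroup 2 (Subgroup.zpowers (⟨s', hs'C⟩ : C)) := by
        refine IsPGroup.of_card (n := Nat.log 2 (orderOf s)) ?_
        rw [Nat.card_zpowers, Subgroup.orderOf_mk, hs']
        have : orderOf (g * s * g⁻¹) = orderOf s := MulEquiv.orderOf_eq (MulAut.conj g) s
        rw [this]
        obtain ⟨j, -, hj⟩ := (Nat.dvd_prime_pow Nat.prime_two).mp (hao ▸ orderOf_pow_dvd (2 ^ (n - 2)) : orderOf s ∣ 2 ^ n)
        rw [hj, Nat.log_pow (by norm_num)]
      obtain ⟨R', hR'⟩ := hp2.exists_le_sylow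
      obtain ⟨c, hc⟩ := MulAction.exists_smul_eq C R' T1
      have hmem : (c : G) * s' * (c : G)⁻¹ ∈ T := by
        rw [hPeq]
        refine ⟨c * ⟨s', hs'C⟩ * c⁻¹, ?_, rfl⟩
        rw [SetLike.mem_coe, ← hc, Sylow.coe_subgroup_smul, Subgroup.mem_pointwise_smul_iff_inv_smul_mem]
        simpa [mul_assoc] using hR' (Subgroup.mem_zpowers _)
      have h1 := hsqA _ hmem.1
      have hw : g * z * g⁻¹ ∈ V := by rcases h with h | h <;> rw [h]; exacts [hbV, mul_mem hzV hbV]
      have e : (c : G) * s' * (c : G)⁻¹ * ((c : G) * s' * (c : G)⁻¹) = g * z * g⁻¹ := by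
        have hc2 : (c : G) * (g * z * g⁻¹) = g * z * g⁻¹ * c := (c.2 _ hw).symm
        rw [show (c : G) * s' * (c : G)⁻¹ * ((c : G) * s' * (c : G)⁻¹) = c * (g * (s * s) * g⁻¹) * (c : G)⁻¹ by
          rw [hs']; group, hss, hc2, mul_inv_cancel_right]
      rw [e] at h1
      rcases h with h | h <;> rw [h] at h1
      · exact hbA h1
      · exact hbA ((A.mul_mem_cancel_left (Subgroup.npow_mem_zpowers a q)).mp h1)
  -- Frobenius' criterion
  refine CfsgLib.hasNormalPComplement_of_frobeniusCond (CfsgLib.frobeniusCond_of_sylow S fun D hDS g hg hg2 => ?_)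
  have hgD : ∀ x ∈ D, g * x * g⁻¹ ∈ D := fun x hx => (Subgroup.mem_normalizer_iff.mp hg x).mp hx
  have h2el : ∀ x ∈ (S : Subgroup G), ∃ k, x ^ 2 ^ k = 1 := fun x hx => by
    obtain ⟨k, hk⟩ := S.isPGroup' ⟨x, hx⟩; exact ⟨k, by simpa using congrArg Subtype.val hk⟩
  have hcyc : ∀ d ∈ D, (∀ x ∈ D, x ∈ Subgroup.zpowers d) → g ∈ Subgroup.centralizer (D : Set G) := by
    intro d hd hDd x hx
    have := comm_cyclic hg2 _ d (h2el d (hDS hd)) rfl (hDd _ (hgD d hd))
    obtain ⟨t, rfl⟩ := Subgroup.mem_zpowers_iff.mp (hDd x hx)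
    exact (this.zpow_right t).eq.symm
  -- generator of the intersection with the cyclic subgroup
  obtain ⟨m, hmD, hmin⟩ : ∃ m : ℕ, a ^ m ∈ D ∧ ∀ x ∈ D, x ∈ A → x ∈ Subgroup.zpowers (a ^ m) := by
    have : IsCyclic (A ⊓ D : Subgroup G) :=
      isCyclic_of_injective (Subgroup.inclusion inf_le_left) (Subgroup.inclusion_injective _)
    obtain ⟨⟨w, hwA, hwD⟩, hw⟩ := this.exists_generator
    obtain ⟨m, rfl⟩ := mem_powers_iff_mem_zpowers.mpr hwA
    refine ⟨m, hwD, fun x hx hxA => ?_⟩
    obtain ⟨t, ht⟩ := Subgroup.mem_zpowers_iff.mp (hw ⟨x, hxA, hx⟩)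
    exact Subgroup.mem_zpowers_iff.mpr ⟨t, by simpa using congrArg Subtype.val ht⟩
  have hgcd : ∀ j k : ℕ, Nat.gcd j (2 ^ n) ∣ k → a ^ k ∈ Subgroup.zpowers (a ^ j) := by
    rintro j k ⟨c, rfl⟩
    rw [pow_mul]
    refine Subgroup.pow_mem _ (Subgroup.mem_zpowers_iff.mpr ⟨Nat.gcdA j (2 ^ n), ?_⟩) c
    conv_rhs => rw [← zpow_natCast, Nat.gcd_eq_gcd_ab, zpow_add, zpow_mul, zpow_mul]
    rw [zpow_natCast, zpow_natCast, hpow1 _ dvd_rfl, one_zpow, mul_one]
  obtain ⟨r, hr, hr'⟩ := (Nat.dvd_prime_pow Nat.prime_two).mp (Nat.gcd_dvd_right m (2 ^ n))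
  by_cases hbD : b ∈ D
  · -- `D` consists of powers of `w` and their products with `b`
    set w := a ^ m with hw
    have hform : ∀ x ∈ D, x ∈ Subgroup.zpowers w ∨ ∃ t ∈ Subgroup.zpowers w, x = t * b := by
      intro x hx
      rcases hel x (hDS hx) with ⟨i, rfl⟩ | ⟨i, rfl⟩
      · exact Or.inl (hmin _ hx (Subgroup.npow_mem_zpowers a i))
      · refine Or.inr ⟨a ^ i, hmin _ ?_ (Subgroup.npow_mem_zpowers a i), rfl⟩
        have := D.mul_mem hx hbD
        rwa [mul_assoc, hbb, mul_one] at this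
    by_cases hw1 : w = 1
    · refine hcyc b hbD fun x hx => ?_
      rcases hform x hx with h | ⟨t, ht, rfl⟩
      · rw [hw1, Subgroup.zpowers_one_eq_bot, Subgroup.mem_bot] at h
        rw [h]; exact Subgroup.one_mem _
      · rw [hw1, Subgroup.zpowers_one_eq_bot, Subgroup.mem_bot] at ht
        rw [ht, one_mul]; exact Subgroup.mem_zpowers _
    have hrn : r < n := by
      rcases lt_or_eq_of_le hr with h | h
      · exact h
      · exfalso; apply hw1; rw [hw]; apply hpow1; rw [← h, ← hr']; exact Nat.gcd_dvd_left _ _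
    have hzD : z ∈ D := by
      have h := hgcd m q (hr' ▸ Nat.pow_dvd_pow 2 (by omega : r ≤ n - 1))
      exact (Subgroup.zpowers_le.mpr hmD) h
    obtain ⟨hcz, hcb⟩ := stepA g hg2 (hDS (hgD z hzD)) (hDS (hgD b hbD))
    -- squares
    have hsqw : ∀ x ∈ D, x * x ∈ Subgroup.zpowers (w * w) := by
      intro x hx
      rcases hform x hx with h | ⟨t, ht, rfl⟩
      · obtain ⟨k, rfl⟩ := Subgroup.mem_zpowers_iff.mp h
        exact Subgroup.mem_zpowers_iff.mpr ⟨k, by rw [Commute.mul_zpow (Commute.refl w)]⟩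
      · obtain ⟨k, rfl⟩ := mem_powers_iff_mem_zpowers.mpr ht
        show w ^ k * b * (w ^ k * b) ∈ _
        rw [hw, ← pow_mul, hsqb, ← pow_add, show 2 * (m * k) * u = (m + m) * (k * u) by ring, pow_mul]
        exact Subgroup.npow_mem_zpowers _ _
    have hcw2 : Commute g (w * w) := by
      refine comm_cyclic hg2 _ _ (h2el _ (hDS (D.mul_mem hmD hmD))) rfl ?_
      have e : g * (w * w) * g⁻¹ = (g * w * g⁻¹) * (g * w * g⁻¹) := by group
      rw [e]; exact hsqw _ (hgD w hmD)
    have hwb : Commute g (w * b * w⁻¹) := by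
      rcases hinv _ (hDS (D.mul_mem (D.mul_mem hmD hbD) (D.inv_mem hmD)))
        (by rw [← pow_two, conj_pow, pow_two, hbb]; simp) with h | h | h | h <;> rw [h]
      exacts [Commute.one_right g, hcz, hcb, hcz.mul_right hcb]
    have hcw : Commute g w := by
      have key : ∀ k : ℤ, ∀ c : G, Commute g c → c ∈ D → g * w * g⁻¹ = c * w ^ k → Commute g w := by
        intro k c hc hcD he
        rcases Int.even_or_odd' k with ⟨j, rfl | rfl⟩
        · have h3 : Commute g (g * w * g⁻¹) := by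
            rw [he, zpow_mul]
            exact hc.mul_right ((show Commute g (w ^ (2:ℤ)) by rw [zpow_two]; exact hcw2).zpow_right j)
          have h4 := h3.eq
          have : g * w = w * g := by
            have e1 : g * w = g⁻¹ * (g * (g * w * g⁻¹)) * g := by group
            rw [h4] at e1
            rw [e1]; group
          exact this
        · rw [zpow_add, zpow_one, ← mul_assoc, zpow_mul, zpow_two] at he
          have hc2 := hc.mul_right (hcw2.zpow_right j)
          have h1 := CfsgLib.Stabilizer.coprime_step hg2 (h2el _ (hDS (D.mul_mem hcD (D.zpow_mem (D.mul_mem hmD hmD) j)))) he hc2.eq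
          rw [h1, one_mul] at he
          exact mul_inv_eq_iff_eq_mul.mp he
      rcases hform _ (hgD w hmD) with h | ⟨t, ht, he⟩
      · obtain ⟨k, hk⟩ := Subgroup.mem_zpowers_iff.mp h
        exact key k 1 (Commute.one_right g) D.one_mem (by rw [one_mul, hk])
      · obtain ⟨k, rfl⟩ := Subgroup.mem_zpowers_iff.mp ht
        rcases Int.even_or_odd' k with ⟨j, rfl | rfl⟩
        · exfalso
          have hcj : Commute g (w ^ (2 * j) * b) := by
            rw [zpow_mul]; exact (((show Commute g (w ^ (2:ℤ)) by rw [zpow_two]; exact hcw2)).zpow_right j).mul_right hcb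
          have e1 : w = w ^ (2 * j) * b := by
            have h5 : w = g⁻¹ * (g * w * g⁻¹) * g := by group
            rw [he, mul_assoc, ← hcj.eq, inv_mul_cancel_left] at h5
            exact h5
          apply hbA
          have : b = (w ^ (2 * j))⁻¹ * w := eq_inv_mul_iff_mul_eq.mpr e1.symm
          rw [this]
          exact mul_mem (A.inv_mem (A.zpow_mem (Subgroup.npow_mem_zpowers a m) _)) (Subgroup.npow_mem_zpowers a m)
        · refine key (2 * j + 1) ((w * w) ^ j * (w * b * w⁻¹) * ((w * w) ^ j)⁻¹) ?_ ?_ ?_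
          · exact ((hcw2.zpow_right j).mul_right hwb).mul_right (hcw2.zpow_right j).inv_right
          · have hh := D.zpow_mem (D.mul_mem hmD hmD) j
            exact D.mul_mem (D.mul_mem hh (D.mul_mem (D.mul_mem hmD hbD) (D.inv_mem hmD))) (D.inv_mem hh)
          · rw [he, zpow_add, zpow_one, zpow_mul, zpow_two]; group
    intro x hx
    rcases hform x hx with h | ⟨t, ht, rfl⟩
    · obtain ⟨k, rfl⟩ := Subgroup.mem_zpowers_iff.mp h
      exact (hcw.zpow_right k).eq.symm
    · obtain ⟨k, rfl⟩ := Subgroup.mem_zpowers_iff.mp ht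
      exact ((hcw.zpow_right k).mul_right hcb).eq.symm
  · -- `D` is cyclic
    by_cases hDA : D ≤ A
    · exact hcyc _ hmD fun x hx => hmin x hx (hDA hx)
    obtain ⟨d, hd, hdA⟩ := SetLike.not_le_iff_exists.mp hDA
    obtain ⟨i, rfl⟩ : ∃ i : ℕ, d = a ^ i * b := by
      rcases hel d (hDS hd) with ⟨i, rfl⟩ | h
      · exact absurd (Subgroup.npow_mem_zpowers a i) hdA
      · exact h
    refine hcyc _ hd fun x hx => ?_
    have hAd : ∀ y ∈ D, y ∈ A → y ∈ Subgroup.zpowers (a ^ i * b) := by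
      intro y hy hyA
      refine (Subgroup.zpowers_le.mpr ?_) (hmin y hy hyA)
      have h1 : a ^ (2 * i * u) ∈ Subgroup.zpowers (a ^ i * b) := by
        rw [← hsqb]; exact mul_mem (Subgroup.mem_zpowers _) (Subgroup.mem_zpowers _)
      refine (Subgroup.zpowers_le.mpr h1) (hgcd (2 * i * u) m ?_)
      rw [Nat.Coprime.gcd_mul_right_cancel (2 * i) hucop]
      by_contra hcon
      obtain ⟨s, hsle, hs⟩ := (Nat.dvd_prime_pow Nat.prime_two).mp (Nat.gcd_dvd_right (2 * i) (2 ^ n))
      have hsr : r < s := by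
        by_contra hle
        exact hcon (hs ▸ (Nat.pow_dvd_pow 2 (not_lt.mp hle)).trans (hr' ▸ Nat.gcd_dvd_left _ _))
      obtain ⟨s0, rfl⟩ := Nat.exists_eq_add_of_lt hsr
      have h2 : 2 ^ (r + s0 + 1) ∣ 2 * i := hs ▸ Nat.gcd_dvd_left _ _
      rw [pow_succ'] at h2
      have h3 : 2 ^ r ∣ i := (Nat.pow_dvd_pow 2 (Nat.le_add_right r s0)).trans (Nat.dvd_of_mul_dvd_mul_left (by norm_num) h2)
      have h4 := (Subgroup.zpowers_le.mpr hmD) (hgcd m i (hr' ▸ h3))
      exact hbD ((D.mul_mem_cancel_left h4).mp hd)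
    rcases hel x (hDS hx) with ⟨j, rfl⟩ | ⟨j, rfl⟩
    · exact hAd _ hx (Subgroup.npow_mem_zpowers a j)
    · have e : a ^ j * b = a ^ j * (a ^ i)⁻¹ * (a ^ i * b) := by group
      rw [e]
      refine mul_mem (hAd _ ?_ (mul_mem (Subgroup.npow_mem_zpowers a j) (A.inv_mem (Subgroup.npow_mem_zpowers a i)))) (Subgroup.mem_zpowers _)
      have := D.mul_mem hx (D.inv_mem hd)
      rwa [show a ^ j * b * (a ^ i * b)⁻¹ = a ^ j * (a ^ i)⁻¹ by group] at this

end Cfsg.Agent.S3178
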