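import Cfsg.Statements.S3179
import Cfsg.Agent.Lib.GLFiveTwoThree
import Cfsg.Agent.Lib.DicksonFull.Subgroups
import Cfsg.Agent.Lib.PSL2Spectrum
import Cfsg.Agent.S1163
import Cfsg.Agent.S0280
-- import your own Cfsg.Agent.* helpers here

set_option autoImplicit false
open Cfsg

namespace Cfsg.Agent.S3179

/-- Let X be a section of the general linear group GL(5, 2), that is, a quotient of a subgroup of it. If X is isomorphic to PSL(2, 2^n) for some n ≥ 2, to a Suzuki group over the field with 2^(2m+1) elements for some m ≥ 1, or to PSU(3, 2^n) for some n ≥ 2, then X is isomorphic to PSL(2, 4). -/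
theorem result {H : Subgroup (GL (Fin 5) (ZMod 2))}
    {K : Subgroup ↥H} [K.Normal]
    (hX : (∃ (n : ℕ) (F : Type) (_ : Field F) (_ : Fintype F), 2 ≤ n ∧ Fintype.card F = 2 ^ n ∧
        Nonempty (↥H ⧸ K ≃* Matrix.ProjectiveSpecialLinearGroup (Fin 2) F)) ∨
      (∃ (m : ℕ) (F : Type) (_ : Field F) (_ : Fintype F), 1 ≤ m ∧ Fintype.card F = 2 ^ (2 * m + 1) ∧
        Nonempty (↥H ⧸ K ≃* ↥(Cfsg.Lie.Sz F (2 ^ (m + 1))))) ∨
      (∃ (n : ℕ) (F : Type) (_ : Field F) (_ : Fintype F), 2 ≤ n ∧ Fintype.card F = 4 ^ n ∧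
        Nonempty (↥H ⧸ K ≃* Cfsg.PSU 3 F (2 ^ n)))) :
    ∃ (F : Type) (_ : Field F) (_ : Fintype F), Fintype.card F = 4 ∧
      Nonempty (↥H ⧸ K ≃* Matrix.ProjectiveSpecialLinearGroup (Fin 2) F) := by
  classical
  have hN : Nat.card (↥H ⧸ K) ∣ 9999360 := by
    rw [← CfsgLib.GLFiveTwo.card]
    exact (Subgroup.card_quotient_dvd_card K).trans (Subgroup.card_subgroup_dvd_card H)
  have hbound : ∀ e : ℕ, 2 ^ e ∣ 9999360 → e ≤ 10 := by
    intro e he
    by_contra hlt
    push Not at hlt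
    have := (Nat.pow_dvd_pow 2 hlt).trans he
    norm_num at this
  rcases hX with ⟨n, F, iF, iFt, hn, hF, ⟨e⟩⟩ | ⟨m, F, iF, iFt, hm, hF, ⟨e⟩⟩ | ⟨n, F, iF, iFt, hn, hF, ⟨e⟩⟩
  · haveI : Fact (Nat.Prime 2) := ⟨Nat.prime_two⟩
    haveI : CharP F 2 := charP_of_card_eq_prime_pow (f := n) hF
    have hc := CfsgLib.DicksonFull.card_psl (F := F)
    have hodd : Nat.gcd 2 (Fintype.card F - 1) = 1 := by
      refine (Nat.prime_two.coprime_iff_not_dvd.mpr ?_ : Nat.Coprime 2 _)
      intro h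
      have h2 : 2 ∣ Fintype.card F := by rw [hF]; exact dvd_pow_self 2 (by omega)
      have := Fintype.card_pos (α := F)
      omega
    rw [hodd, one_mul, hF] at hc
    rw [Nat.card_congr e.toEquiv, hc] at hN
    have := hbound n ((dvd_mul_right _ _).trans hN)
    interval_cases n
    · exact ⟨F, iF, iFt, by rw [hF]; norm_num, ⟨e⟩⟩
    · exfalso
      obtain ⟨x, hx⟩ := (CfsgLib.PSL2Spectrum.psl_orders (F := F) 2 9).mpr (Or.inr (Or.inl (by
        rw [hodd, hF]; norm_num)))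
      obtain ⟨g, hg⟩ := QuotientGroup.mk'_surjective K (e.symm x)
      have h9 : 9 ∣ orderOf g := by
        rw [← hx, ← MulEquiv.orderOf_eq e.symm x, ← hg]
        exact orderOf_map_dvd _ g
      exact CfsgLib.GLFiveTwo.no_order_nine ((g : GL (Fin 5) (ZMod 2)) ^ (orderOf g / 9))
        (by
          rw [← Subgroup.coe_pow, Subgroup.orderOf_coe]
          exact orderOf_pow_orderOf_div (orderOf_pos g).ne' h9)
    all_goals (exfalso; norm_num at hN)
  · exfalso
    rw [Nat.card_congr e.toEquiv, (Cfsg.Agent.S1163.result hm hF).1, ← pow_mul] at hN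
    have := hbound _ (((dvd_mul_right _ _).trans (dvd_mul_right _ _)).trans hN)
    have hm2 : m ≤ 2 := by omega
    interval_cases m <;> norm_num at hN
  · exfalso
    have hc := Cfsg.Agent.S0280.result (F := F) (q := 2 ^ n) (by rw [hF, ← pow_mul, mul_comm, pow_mul]; norm_num) 3 (by norm_num)
    simp [Finset.prod_range_succ, -Nat.card_eq_fintype_card] at hc
    rw [Nat.card_congr e.toEquiv] at hN
    have h1 : (2 ^ n) ^ 3 ∣ Nat.gcd 3 (2 ^ n + 1) * (2 ^ n + 1) * Nat.card (Cfsg.PSU 3 F (2 ^ n)) := by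
      rw [mul_assoc, hc]; exact dvd_mul_right _ _
    have hodd : ∀ d, d ∣ 2 ^ n + 1 → Nat.Coprime ((2 ^ n) ^ 3) d := by
      intro d hd
      refine Nat.Coprime.pow_left 3 (Nat.Coprime.pow_left n (Nat.prime_two.coprime_iff_not_dvd.mpr ?_))
      intro h2
      have h3 := h2.trans hd
      have : 2 ∣ 2 ^ n := dvd_pow_self 2 (by omega)
      omega
    have h2 : (2 ^ n) ^ 3 ∣ Nat.card (Cfsg.PSU 3 F (2 ^ n)) :=
      ((Nat.Coprime.mul_right (hodd _ (Nat.gcd_dvd_right _ _)) (hodd _ dvd_rfl))).dvd_of_dvd_mul_left h1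
    have h3 := hbound (n * 3) (by rw [pow_mul]; exact h2.trans hN)
    have hn3 : n ≤ 3 := by omega
    interval_cases n
    · generalize Nat.card (Cfsg.PSU 3 F (2 ^ 2)) = c at hc hN
      rw [show Nat.gcd 3 (2 ^ 2 + 1) = 1 by decide] at hc
      norm_num at hc
      have h4 : c = 62400 := by omega
      norm_num [h4] at hN
    · generalize Nat.card (Cfsg.PSU 3 F (2 ^ 3)) = c at hc hN
      rw [show Nat.gcd 3 (2 ^ 3 + 1) = 3 by decide] at hc
      norm_num at hc
      have h4 : c = 5515776 := by omega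
      norm_num [h4] at hN

end Cfsg.Agent.S3179
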