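import Cfsg.Statements.S3180
import Mathlib
import Cfsg.Agent.Lib.Local

set_option autoImplicit false
open Cfsg

namespace Cfsg.Agent.S3180



/-- Let P be a Sylow p-subgroup of a finite group J and P₁ a subgroup of P that is weakly closed in P with respect to J. If J acts on a set and two points, each fixed by every element of P₁, lie in one J-orbit, then they lie in one orbit of the normalizer of P₁ in J. -/
theorem result {J : Type*} [Group J] [Finite J]
    {p : ℕ} [Fact p.Prime] (P : Sylow p J) (P₁ : Subgroup J) (hW : Cfsg.IsWeaklyClosed P₁ (P : Subgroup J))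
    {Ω : Type*} [MulAction J Ω] (x y : Ω) (hx : ∀ g ∈ P₁, g • x = x) (hy : ∀ g ∈ P₁, g • y = y)
    (hc : ∃ g : J, g • x = y) :
    ∃ g ∈ Subgroup.normalizer (P₁ : Set J), g • x = y := by
  obtain ⟨g, hg⟩ := hc
  obtain ⟨hWP, hW'⟩ := hW
  have hW1 : ∀ g : J, (∀ a ∈ P₁, g * a * g⁻¹ ∈ (P : Subgroup J)) → g ∈ Subgroup.normalizer (P₁ : Set J) := fun g hg => by
    refine CfsgLib.Local.mem_normalizer_of_map_conj_eq ?_
    exact hW' g (CfsgLib.Local.map_conj_le hg)
  set Jy := MulAction.stabilizer J y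
  have h1 : P₁ ≤ Jy := fun a ha => hy a ha
  have h2 : P₁.map (MulAut.conj g).toMonoidHom ≤ Jy := CfsgLib.Local.map_conj_le fun a ha => by
    show (g * a * g⁻¹) • y = y
    have : g⁻¹ • y = x := by rw [← hg, inv_smul_smul]
    rw [mul_smul, mul_smul, this, hx a ha, hg]
  have hp1 : IsPGroup p P₁ := CfsgLib.Local.isPGroup_of_le hWP P.2
  have hp2 : IsPGroup p (P₁.map (MulAut.conj g).toMonoidHom) := hp1.map _
  obtain ⟨R, hR⟩ := (IsPGroup.of_equiv hp1 (Subgroup.subgroupOfEquivOfLe h1).symm).exists_le_sylow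
  obtain ⟨R', hR'⟩ := (IsPGroup.of_equiv hp2 (Subgroup.subgroupOfEquivOfLe h2).symm).exists_le_sylow
  obtain ⟨j, hj⟩ := MulAction.exists_smul_eq Jy R' R
  obtain ⟨S, hS⟩ := (R.2.map Jy.subtype).exists_le_sylow
  obtain ⟨h, hh⟩ := MulAction.exists_smul_eq J S P
  have hSP : ∀ a ∈ (S : Subgroup J), h * a * h⁻¹ ∈ (P : Subgroup J) := fun a ha => by
    rw [← hh, Sylow.coe_subgroup_smul]
    exact Subgroup.mem_pointwise_smul_iff_inv_smul_mem.mpr (by simpa [mul_assoc] using ha)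
  have hA : h ∈ Subgroup.normalizer (P₁ : Set J) := hW1 h fun a ha =>
    hSP a (hS (Subgroup.mem_map.mpr ⟨⟨a, h1 ha⟩, hR (Subgroup.mem_subgroupOf.mpr ha), rfl⟩))
  have hB : h * ((j : J) * g) ∈ Subgroup.normalizer (P₁ : Set J) := hW1 _ fun a ha => by
    have hmem : (⟨g * a * g⁻¹, h2 (Subgroup.mem_map.mpr ⟨a, ha, rfl⟩)⟩ : Jy) ∈ (R' : Subgroup Jy) :=
      hR' (Subgroup.mem_subgroupOf.mpr (Subgroup.mem_map.mpr ⟨a, ha, rfl⟩))
    have : j * ⟨g * a * g⁻¹, h2 (Subgroup.mem_map.mpr ⟨a, ha, rfl⟩)⟩ * j⁻¹ ∈ (R : Subgroup Jy) := by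
      rw [← hj, Sylow.coe_subgroup_smul]
      exact Subgroup.mem_pointwise_smul_iff_inv_smul_mem.mpr (by simpa [mul_assoc] using hmem)
    have := hSP _ (hS (Subgroup.mem_map_of_mem Jy.subtype this))
    simpa [mul_assoc] using this
  refine ⟨h⁻¹ * (h * ((j:J) * g)), Subgroup.mul_mem _ (Subgroup.inv_mem _ hA) hB, ?_⟩
  rw [inv_mul_cancel_left, mul_smul, hg]
  exact j.2

end Cfsg.Agent.S3180
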