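import Cfsg.Statements.S3183
import Mathlib
import Cfsg.Agent.Lib.Local

set_option autoImplicit false
open Cfsg

namespace Cfsg.Agent.S3183

theorem mem_centre_map {G : Type*} [Group G] {S : Subgroup G} {a : G} :
    a ∈ (Subgroup.center ↥S).map S.subtype ↔ a ∈ S ∧ ∀ s ∈ S, s * a = a * s := by
  constructor
  · rintro ⟨b, hb, rfl⟩
    exact ⟨b.2, fun s hs => congrArg Subtype.val (Subgroup.mem_center_iff.mp hb ⟨s, hs⟩)⟩
  · rintro ⟨ha, h⟩
    exact ⟨⟨a, ha⟩, Subgroup.mem_center_iff.mpr fun s => Subtype.ext (h s s.2), rfl⟩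

/-- Let G be a finite group in which the intersection of any two distinct Sylow 2-subgroups is contained in the centre of some Sylow 2-subgroup, and let S be a Sylow 2-subgroup. Then for every x in S the centralizer of x in S is a Sylow 2-subgroup of the centralizer of x in G (no 2-subgroup centralizing x is larger), and for every other Sylow 2-subgroup T the intersection S ∩ T lies in both the centre of S and the centre of T. -/
theorem result {G : Type*} [Group G] [Finite G]
    (hCI : ∀ S T : Sylow 2 G, S ≠ T → ∃ U : Sylow 2 G,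
      (S : Subgroup G) ⊓ (T : Subgroup G) ≤ (Subgroup.center ↥(U : Subgroup G)).map (U : Subgroup G).subtype)
    (S : Sylow 2 G) :
    (∀ x ∈ (S : Subgroup G), ∀ P : Subgroup G, IsPGroup 2 ↥P → P ≤ Subgroup.centralizer ({x} : Set G) →
        Nat.card ↥P ≤ Nat.card ↥((S : Subgroup G) ⊓ Subgroup.centralizer ({x} : Set G))) ∧
    (∀ T : Sylow 2 G, T ≠ S →
        (S : Subgroup G) ⊓ (T : Subgroup G) ≤
          (Subgroup.center ↥(S : Subgroup G)).map (S : Subgroup G).subtype ⊓
            (Subgroup.center ↥(T : Subgroup G)).map (T : Subgroup G).subtype) := by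
  classical
  haveI : Fact (Nat.Prime 2) := ⟨Nat.prime_two⟩
  have key : ∀ n : ℕ, ∀ S T : Sylow 2 G, S ≠ T → Nat.card G - Nat.card ↥((S : Subgroup G) ⊓ T) = n →
      (S : Subgroup G) ⊓ T ≤ (Subgroup.center ↥(S : Subgroup G)).map (S : Subgroup G).subtype := by
    intro n
    induction n using Nat.strong_induction_on with
    | _ n ih =>
    intro S T hne hn
    set D := (S : Subgroup G) ⊓ T with hD
    obtain ⟨U, hU⟩ := hCI S T hne
    have hUD : (U : Subgroup G) ≤ Subgroup.centralizer (D : Set G) := fun u hu d hd =>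
      ((mem_centre_map.mp (hU hd)).2 u hu).symm
    have hDab : D ≤ Subgroup.centralizer (D : Set G) := fun a ha b hb => (mem_centre_map.mp (hU ha)).2 b (mem_centre_map.mp (hU hb)).1
    intro a ha
    refine mem_centre_map.mpr ⟨ha.1, ?_⟩
    by_contra hcon
    push Not at hcon
    set R := (S : Subgroup G) ⊓ Subgroup.centralizer (D : Set G) with hR
    have hDR : D ≤ R := le_inf inf_le_left hDab
    -- a Sylow subgroup of G inside C(D) containing R
    have hR2 : IsPGroup 2 (R.subgroupOf (Subgroup.centralizer (D : Set G))) :=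
      IsPGroup.of_equiv (CfsgLib.Local.isPGroup_of_le inf_le_left S.2) (Subgroup.subgroupOfEquivOfLe inf_le_right).symm
    obtain ⟨W, hW⟩ := hR2.exists_le_sylow
    have hWc : Nat.card (W : Subgroup (Subgroup.centralizer (D : Set G))) = Nat.card (U : Subgroup G) := by
      apply le_antisymm
      · obtain ⟨V, hV⟩ := (W.2.map (Subgroup.centralizer (D : Set G)).subtype).exists_le_sylow
        have := Subgroup.card_le_of_le hV
        rw [Subgroup.card_map_of_injective (Subgroup.subtype_injective _), Sylow.card_eq_multiplicity V, ← Sylow.card_eq_multiplicity U] at this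
        exact this
      · let U' := U.subtype hUD
        rw [Sylow.card_eq_multiplicity W, ← Sylow.card_eq_multiplicity U', Sylow.coe_subtype,
          Nat.card_congr (Subgroup.subgroupOfEquivOfLe hUD).toEquiv]
    set Wm := (W : Subgroup (Subgroup.centralizer (D : Set G))).map (Subgroup.centralizer (D : Set G)).subtype with hWm
    let W' : Sylow 2 G := Sylow.ofCard Wm (by
      rw [hWm, Subgroup.card_map_of_injective (Subgroup.subtype_injective _), hWc, Sylow.card_eq_multiplicity])
    have hRW : R ≤ (W' : Subgroup G) := fun r hr => Subgroup.mem_map.mpr ⟨⟨r, hr.2⟩, hW hr, rfl⟩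
    have hW'C : (W' : Subgroup G) ≤ Subgroup.centralizer (D : Set G) := Subgroup.map_subtype_le _
    obtain ⟨s, hs, hsa⟩ := hcon
    have hsR : s ∉ R := fun h => hsa (h.2 a ha).symm
    have hSW : S ≠ W' := fun e => hsR ⟨hs, hW'C (e ▸ hs)⟩
    have hSWle : (S : Subgroup G) ⊓ W' = R := le_antisymm (le_inf inf_le_left (inf_le_right.trans hW'C)) (le_inf inf_le_left hRW)
    rcases eq_or_lt_of_le hDR with hRD | hlt
    · -- R = D : normalizer argument
      haveI := S.2.isNilpotent
      obtain ⟨x, hx, hxn⟩ := SetLike.exists_of_lt ((normalizerCondition_of_isNilpotent (G := ↥(S : Subgroup G)))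
        (D.subgroupOf (S : Subgroup G)) (lt_top_iff_ne_top.mpr fun e =>
          hsR (hDR (Subgroup.subgroupOf_eq_top.mp e hs))))
      apply hxn
      rw [Subgroup.mem_subgroupOf, hRD]
      refine ⟨x.2, ?_⟩
      set N := Subgroup.normalizer (D : Set G)
      have hxN : (x : G) ∈ N := by
        refine Subgroup.mem_normalizer_iff.mpr fun y => ⟨fun hy => ?_, fun hy => ?_⟩
        · exact Subgroup.mem_subgroupOf.mp ((Subgroup.mem_normalizer_iff.mp hx ⟨y, hy.1⟩).mp hy)
        · have hyS : y ∈ (S : Subgroup G) := by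
            have := S.mul_mem (S.mul_mem (S.inv_mem x.2) hy.1) x.2
            simpa [mul_assoc] using this
          exact (Subgroup.mem_normalizer_iff.mp hx ⟨y, hyS⟩).mpr hy
      have hUN : (U : Subgroup G) ≤ N := hUD.trans (Subgroup.centralizer_le_normalizer _)
      let UN := U.subtype hUN
      haveI : ((Subgroup.centralizer (D : Set G)).subgroupOf N).Normal :=
        ⟨fun c hc g => by
          rw [Subgroup.mem_subgroupOf] at hc ⊢
          intro d hd
          have hd' : (g : G)⁻¹ * d * g ∈ (D : Set G) := (Subgroup.mem_normalizer_iff''.mp g.2 d).mp hd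
          have h := hc _ hd'
          simp only [Subgroup.coe_mul, InvMemClass.coe_inv]
          calc d * ((g : G) * c * (g : G)⁻¹) = g * (((g : G)⁻¹ * d * g) * c) * (g : G)⁻¹ := by group
            _ = g * ((c : G) * ((g : G)⁻¹ * d * g)) * (g : G)⁻¹ := by rw [h]
            _ = (g : G) * c * (g : G)⁻¹ * d := by group⟩
      have hodd : ¬ 2 ∣ ((Subgroup.centralizer (D : Set G)).subgroupOf N).index := fun h =>
        UN.not_dvd_index (h.trans (Subgroup.index_dvd_of_le (fun u hu => hUD hu)))
      set xN : N := ⟨x, hxN⟩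
      obtain ⟨k, hk⟩ := S.2 x
      set Cn := (Subgroup.centralizer (D : Set G)).subgroupOf N
      have h1 : orderOf (xN : N ⧸ Cn) ∣ Nat.card (N ⧸ Cn) := orderOf_dvd_natCard _
      have h2 : orderOf (xN : N ⧸ Cn) ∣ 2 ^ k := by
        rw [orderOf_dvd_iff_pow_eq_one, ← QuotientGroup.mk_pow, QuotientGroup.eq_one_iff]
        have : xN ^ (2 ^ k) = 1 := Subtype.ext (by simpa using congrArg Subtype.val hk)
        rw [this]; exact one_mem _
      have hcop : Nat.Coprime (Nat.card (N ⧸ Cn)) (2 ^ k) :=
        ((Nat.prime_two.coprime_iff_not_dvd.mpr hodd).symm).pow_right k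
      have h3 : (xN : N ⧸ Cn) = 1 := orderOf_eq_one_iff.mp (Nat.eq_one_of_dvd_coprimes hcop h1 h2)
      have h4 : xN ∈ Cn := (QuotientGroup.eq_one_iff _).mp h3
      exact Subgroup.mem_subgroupOf.mp h4
    · have hcard : Nat.card D < Nat.card R := by
        rcases lt_or_eq_of_le (Subgroup.card_le_of_le hDR) with h | h
        · exact h
        · exact absurd (Subgroup.eq_of_le_of_card_ge hDR h.ge) hlt.ne
      have := ih _ (by rw [← hn, hSWle]; have := Subgroup.card_le_card_group R; omega) S W' hSW rfl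
      exact hsa ((mem_centre_map.mp (this (hSWle.ge (hDR ha)))).2 s hs)
  refine ⟨fun x hx P hP hPC => ?_, fun T hT => le_inf (key _ S T hT.symm rfl) (by rw [inf_comm]; exact key _ T S hT rfl)⟩
  by_contra hlt; push Not at hlt
  set C := Subgroup.centralizer ({x} : Set G)
  obtain ⟨Q, hQ⟩ := (IsPGroup.of_equiv (CfsgLib.Local.isPGroup_of_le inf_le_left S.2) (Subgroup.subgroupOfEquivOfLe (inf_le_right : (S : Subgroup G) ⊓ C ≤ C)).symm).exists_le_sylow
  obtain ⟨Q', hQ'⟩ := (IsPGroup.of_equiv hP (Subgroup.subgroupOfEquivOfLe hPC).symm).exists_le_sylow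
  have hbig : Nat.card P ≤ Nat.card (Q : Subgroup C) := by
    rw [← Nat.card_congr (Subgroup.subgroupOfEquivOfLe hPC).toEquiv]
    refine (Subgroup.card_le_of_le hQ').trans_eq ?_
    rw [Sylow.card_eq_multiplicity, ← Sylow.card_eq_multiplicity Q]
  obtain ⟨T, hT⟩ := (Q.2.map C.subtype).exists_le_sylow
  have hne : S ≠ T := by
    rintro rfl
    have h1 : (Q : Subgroup C).map C.subtype ≤ (S : Subgroup G) ⊓ C := le_inf hT (Subgroup.map_subtype_le _)
    have := Subgroup.card_le_of_le h1
    rw [Subgroup.card_map_of_injective C.subtype_injective] at this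
    omega
  have hxm : x ∈ (S : Subgroup G) ⊓ C := ⟨hx, Subgroup.mem_centralizer_singleton_iff.mpr rfl⟩
  have hxT : x ∈ (S : Subgroup G) ⊓ T := ⟨hx, hT (Subgroup.mem_map.mpr ⟨⟨x, hxm.2⟩, hQ hxm, rfl⟩)⟩
  have hxZ := (mem_centre_map.mp (key _ S T hne rfl hxT)).2
  have hSC : (S : Subgroup G) ⊓ C = S := inf_eq_left.mpr fun s hs => Subgroup.mem_centralizer_singleton_iff.mpr (hxZ s hs)
  obtain ⟨V, hV⟩ := hP.exists_le_sylow
  rw [hSC] at hlt
  have := Subgroup.card_le_of_le hV
  rw [Sylow.card_eq_multiplicity V, ← Sylow.card_eq_multiplicity S] at this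
  omega

end Cfsg.Agent.S3183
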