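import Cfsg.Statements.S3190
import Cfsg.Agent.Lib.Elementary
-- import your own Cfsg.Agent.* helpers here

set_option autoImplicit false
open Cfsg

namespace Cfsg.Agent.S3190

/-- Let p be an odd prime and, inside a finite group, let P be a p-subgroup normalized by a Klein four-group T. Let R be a subgroup of P, normal in P and normalized by T, such that P is the product of R with the centralizer of T in P. If T centralizes the centre of P, then T centralizes the centre of R. -/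
theorem result {X : Type*} [Group X] [Finite X]
    {p : ℕ} (hp : p.Prime) (hodd : Odd p) (P T R : Subgroup X) (hP : IsPGroup p ↥P) (hT : IsKleinFour ↥T)
    (hTP : T ≤ Subgroup.normalizer (P : Set X)) (hRP : R ≤ P) (hRn : (R.subgroupOf P).Normal)
    (hTR : T ≤ Subgroup.normalizer (R : Set X)) (hfac : R ⊔ (P ⊓ Subgroup.centralizer (T : Set X)) = P)
    (hZ : T ≤ Subgroup.centralizer (((Subgroup.center ↥P).map P.subtype : Subgroup X) : Set X)) :
    T ≤ Subgroup.centralizer (((Subgroup.center ↥R).map R.subtype : Subgroup X) : Set X) := by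
  haveI : Fact p.Prime := ⟨hp⟩
  intro t ht
  haveI := hT
  rw [Subgroup.mem_centralizer_iff]
  rintro w ⟨w', hw', rfl⟩
  have ht2 : t * t = 1 := congrArg Subtype.val (IsKleinFour.mul_self (⟨t, ht⟩ : T))
  have htinv : t⁻¹ = t := inv_eq_of_mul_eq_one_right ht2
  let Z : Subgroup X := (Subgroup.center ↥R).map R.subtype
  have hZmem : ∀ z, z ∈ Z ↔ z ∈ R ∧ ∀ r ∈ R, r * z = z * r := by
    intro z
    constructor
    · rintro ⟨a, ha, rfl⟩
      exact ⟨a.2, fun r hr => congrArg Subtype.val (Subgroup.mem_center_iff.1 ha ⟨r, hr⟩)⟩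
    · rintro ⟨hz, h⟩
      exact ⟨⟨z, hz⟩, Subgroup.mem_center_iff.2 fun r => Subtype.ext (h r r.2), rfl⟩
  have hZcomm : ∀ a ∈ Z, ∀ b ∈ Z, a * b = b * a := fun a ha b hb =>
    ((hZmem b).1 hb).2 a ((hZmem a).1 ha).1
  let W : Subgroup X :=
    { carrier := {z | z ∈ Z ∧ t * z * t⁻¹ = z⁻¹}
      one_mem' := ⟨Z.one_mem, by simp⟩
      mul_mem' := by
        rintro a b ⟨ha, ha'⟩ ⟨hb, hb'⟩
        refine ⟨Z.mul_mem ha hb, ?_⟩
        calc t * (a * b) * t⁻¹ = (t * a * t⁻¹) * (t * b * t⁻¹) := by group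
          _ = (b * a)⁻¹ := by rw [ha', hb', mul_inv_rev]
          _ = (a * b)⁻¹ := by rw [hZcomm b hb a ha]
      inv_mem' := by
        rintro a ⟨ha, ha'⟩
        refine ⟨Z.inv_mem ha, ?_⟩
        calc t * a⁻¹ * t⁻¹ = (t * a * t⁻¹)⁻¹ := by group
          _ = a⁻¹⁻¹ := by rw [ha'] }
  have hWP : W ≤ P := fun a ha => hRP ((hZmem a).1 ha.1).1
  have hWn : ∀ g ∈ P, ∀ a ∈ W, g * a * g⁻¹ ∈ W := by
    have key : R ⊔ (P ⊓ Subgroup.centralizer (T : Set X)) ≤ Subgroup.normalizer (W : Set X) := by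
      refine sup_le (fun r hr => ?_) (fun c hc => ?_)
      · rw [Subgroup.mem_normalizer_iff]
        intro a
        constructor
        · intro ha
          have : r * a * r⁻¹ = a := by rw [((hZmem a).1 ha.1).2 r hr]; group
          rw [this]; exact ha
        · intro ha
          have h := ((hZmem _).1 ha.1).2 r hr
          have : r * a * r⁻¹ = a := by
            have h' := congrArg (fun x => r⁻¹ * x) h
            simp only [mul_assoc, inv_mul_cancel_left, inv_mul_cancel, mul_one] at h'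
            simpa [mul_assoc] using h'
          rwa [this] at ha
      · have step : ∀ d ∈ P ⊓ Subgroup.centralizer (T : Set X), ∀ a ∈ W, d * a * d⁻¹ ∈ W := by
          rintro d ⟨hdP, hdT⟩ a ⟨ha, ha'⟩
          have hR : ∀ r ∈ R, d * r * d⁻¹ ∈ R := fun r hr =>
            hRn.conj_mem ⟨r, hRP hr⟩ hr ⟨d, hdP⟩
          have hR' : ∀ r ∈ R, d⁻¹ * r * d ∈ R := fun r hr => by
            simpa [Subgroup.mem_subgroupOf] using hRn.conj_mem ⟨r, hRP hr⟩ hr ⟨d, hdP⟩⁻¹
          obtain ⟨haR, hac⟩ := (hZmem a).1 ha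
          refine ⟨(hZmem _).2 ⟨hR a haR, fun r hr => ?_⟩, ?_⟩
          · calc r * (d * a * d⁻¹) = d * ((d⁻¹ * r * d) * a) * d⁻¹ := by group
              _ = d * (a * (d⁻¹ * r * d)) * d⁻¹ := by rw [hac _ (hR' r hr)]
              _ = d * a * d⁻¹ * r := by group
          · have hdt : t * d = d * t := Subgroup.mem_centralizer_iff.1 hdT t ht
            calc t * (d * a * d⁻¹) * t⁻¹ = (t * d) * a * (t * d)⁻¹ := by group
              _ = d * (t * a * t⁻¹) * d⁻¹ := by rw [hdt]; group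
              _ = (d * a * d⁻¹)⁻¹ := by rw [ha']; group
        rw [Subgroup.mem_normalizer_iff]
        intro a
        refine ⟨step c hc a, fun ha => ?_⟩
        have := step c⁻¹ (Subgroup.inv_mem _ hc) _ ha
        simpa [mul_assoc] using this
    rw [hfac] at key
    intro g hg a ha
    exact ((Subgroup.mem_normalizer_iff.1 (key hg)) a).1 ha
  have hWbot : W = ⊥ := by
    by_contra hne
    haveI : (W.subgroupOf P).Normal := ⟨fun a ha g => hWn g g.2 a ha⟩
    haveI : Group.IsNilpotent P := hP.isNilpotent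
    have h1 : W.subgroupOf P ≠ ⊥ := by
      intro h; exact hne ((Subgroup.subgroupOf_eq_bot.1 h).eq_bot_of_le hWP)
    obtain ⟨⟨a, haW, hac⟩, ha1⟩ := Subgroup.ne_bot_iff_exists_ne_one.1 (CfsgLib.inf_center_ne_bot_of_nilpotent h1)
    have hta : (a : X) * t = t * a :=
      Subgroup.mem_centralizer_iff.1 (hZ ht) a ⟨a, hac, rfl⟩
    have hinv : t * (a : X) * t⁻¹ = (a : X)⁻¹ := haW.2
    rw [← hta, mul_inv_cancel_right] at hinv
    have ha2 : a ^ 2 = 1 := Subtype.ext (by
      rw [SubgroupClass.coe_pow, pow_two]; nth_rewrite 1 [hinv]; simp)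
    obtain ⟨n, hn⟩ := hP a
    have hcop : Nat.Coprime 2 (p ^ n) := Nat.Coprime.pow_right _ ((Nat.coprime_two_left).2 hodd)
    have : orderOf a ∣ 1 := hcop ▸ Nat.dvd_gcd (orderOf_dvd_of_pow_eq_one ha2) (orderOf_dvd_of_pow_eq_one hn)
    exact ha1 (Subtype.ext (orderOf_eq_one_iff.1 (Nat.dvd_one.1 this)))
  obtain ⟨w, hwd⟩ : ∃ w : X, w = (w' : X) := ⟨_, rfl⟩
  have hwZ : w ∈ Z := ⟨w', hw', hwd.symm⟩
  have hRt : ∀ r ∈ R, t * r * t⁻¹ ∈ R := fun r hr =>
    (Subgroup.mem_normalizer_iff.1 (hTR ht) r).1 hr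
  have htwZ : t * w * t⁻¹ ∈ Z := by
    obtain ⟨hwR, hwc⟩ := (hZmem w).1 hwZ
    refine (hZmem _).2 ⟨hRt w hwR, fun r hr => ?_⟩
    have hr' := hRt r hr
    rw [htinv] at hr' ⊢
    calc r * (t * w * t) = (t * t) * r * (t * w * t) := by rw [ht2, one_mul]
      _ = t * ((t * r * t) * w) * t := by group
      _ = t * (w * (t * r * t)) * t := by rw [hwc _ hr']
      _ = t * w * t * r * (t * t) := by group
      _ = t * w * t * r := by rw [ht2, mul_one]
  have hmem : w⁻¹ * (t * w * t⁻¹) ∈ W := by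
    refine ⟨Z.mul_mem (Z.inv_mem hwZ) htwZ, ?_⟩
    calc t * (w⁻¹ * (t * w * t⁻¹)) * t⁻¹ = (t * w⁻¹ * t⁻¹) * ((t * t) * w * (t * t)⁻¹) := by group
      _ = (t * w * t⁻¹)⁻¹ * w := by rw [ht2]; group
      _ = (w⁻¹ * (t * w * t⁻¹))⁻¹ := by group
  rw [hWbot, Subgroup.mem_bot, inv_mul_eq_one] at hmem
  show (w' : X) * t = t * (w' : X)
  rw [← hwd]
  calc w * t = t * w * t⁻¹ * t := by rw [← hmem]
    _ = t * w := by group

end Cfsg.Agent.S3190
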