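import Cfsg.Statements.S3193
import Cfsg.Agent.Lib.ConjRankFour.Inv
import Cfsg.Agent.Lib.ConjRankFour.Poset
import Cfsg.Agent.Lib.ConjRankFour.Small
import Cfsg.Agent.S2508
import Cfsg.Agent.S3192
import Cfsg.Agent.S0252
import Cfsg.Agent.S0253
-- import your own Cfsg.Agent.* helpers here

set_option autoImplicit false
open Cfsg

namespace Cfsg.Agent.S3193

universe u

open Subgroup in
theorem rank_four_of_psl {G : Type u} [Group G] [Finite G] {F : Type} [Field F] [Fintype F]
    (hodd : Odd (Fintype.card F)) (h7 : 7 ≤ Fintype.card F)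
    (e : G ≃* Matrix.ProjectiveSpecialLinearGroup (Fin 2) F) :
    IsSimpleGroup G ∧ ¬ IsMulCommutative G ∧
      Set.ncard {m : ℕ | ∃ x : G, x ∉ center G ∧ m = (centralizer ({x} : Set G)).index} = 4 := by
  haveI : IsSimpleGroup (Matrix.ProjectiveSpecialLinearGroup (Fin 2) F) :=
    Matrix.ProjectiveSpecialLinearGroup.rank_two_simple (by rw [Nat.card_eq_fintype_card]; omega)
  haveI : IsSimpleGroup G := e.isSimpleGroup
  have hidx : ∀ x : G, (centralizer ({x} : Set G)).index =
      (centralizer ({e x} : Set (Matrix.ProjectiveSpecialLinearGroup (Fin 2) F))).index := by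
    intro x
    rw [← index_comap_of_surjective (f := e.toMonoidHom) _ e.surjective]
    congr 1
    ext y
    rw [mem_comap, mem_centralizer_singleton_iff, mem_centralizer_singleton_iff,
      MulEquiv.coe_toMonoidHom, ← map_mul, ← map_mul, e.injective.eq_iff]
  have hone : ∀ x : G, (centralizer ({x} : Set G)).index = 1 ↔ x ∈ center G := fun x => by
    rw [index_eq_one]
    exact ⟨fun h => mem_center_iff.mpr fun g => mem_centralizer_singleton_iff.mp (h ▸ mem_top g),
      fun h => (eq_top_iff' _).mpr fun g => mem_centralizer_singleton_iff.mpr (mem_center_iff.mp h g)⟩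
  have h2 := Cfsg.Agent.S2508.result (F := F) (Nat.two_dvd_ne_zero.mpr (Nat.odd_iff.mp hodd)) h7
  have hall : ∀ A : Set ℕ, Set.range (fun g : Matrix.ProjectiveSpecialLinearGroup (Fin 2) F =>
      (centralizer ({g} : Set (Matrix.ProjectiveSpecialLinearGroup (Fin 2) F))).index) = insert 1 A → 1 ∉ A →
      {m : ℕ | ∃ x : G, x ∉ center G ∧ m = (centralizer ({x} : Set G)).index} = A := by
    intro A hA h1
    ext v
    constructor
    · rintro ⟨x, hx, rfl⟩
      have hv : (centralizer ({x} : Set G)).index ∈ insert 1 A := hA ▸ ⟨e x, (hidx x).symm⟩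
      exact hv.resolve_left fun h => hx ((hone x).mp h)
    · intro hv
      obtain ⟨y, hy⟩ : v ∈ Set.range _ := hA.symm ▸ Set.mem_insert_of_mem 1 hv
      refine ⟨e.symm y, fun hc => ?_, by rw [hidx, e.apply_symm_apply]; exact hy.symm⟩
      have := (hone _).mpr hc
      rw [hidx, e.apply_symm_apply] at this
      exact h1 (this ▸ (show (centralizer ({y} : Set (Matrix.ProjectiveSpecialLinearGroup (Fin 2) F))).index ∈ A by
        rw [show (centralizer ({y} : Set (Matrix.ProjectiveSpecialLinearGroup (Fin 2) F))).index = v from hy]; exact hv))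
  obtain ⟨q, hq⟩ : ∃ q, Fintype.card F = q := ⟨_, rfl⟩
  rw [hq] at h2 h7 hodd
  obtain ⟨k, hk⟩ := hodd
  have e1 : q ^ 2 - 1 = 2 * (2 * (k * (k + 1))) := by
    rw [show q ^ 2 = 4 * (k * (k + 1)) + 1 by rw [show q = 2 * k + 1 from hk]; ring]; omega
  have e2 : q * (q + 1) = 2 * ((2 * k + 1) * (k + 1)) := by rw [show q = 2 * k + 1 from hk]; ring
  have e3 : q * (q - 1) = 2 * ((2 * k + 1) * k) := by
    rw [show q = 2 * k + 1 from hk, Nat.add_sub_cancel]; ring
  have b1 : (2 * k + 1) * (k + 1) = 2 * (k * k) + 3 * k + 1 := by ring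
  have b2 : (2 * k + 1) * k = 2 * (k * k) + k := by ring
  have b3 : k * (k + 1) = k * k + k := by ring
  have hkk : 3 * k ≤ k * k := Nat.mul_le_mul_right k (show 3 ≤ k by omega)
  have hncard : ∀ a b c d : ℕ, a ≠ b → a ≠ c → a ≠ d → b ≠ c → b ≠ d → c ≠ d →
      ({a, b, c, d} : Set ℕ).ncard = 4 := fun a b c d h1 h2 h3 h4 h5 h6 => by
    rw [Set.ncard_insert_of_notMem (by simp [h1, h2, h3]), Set.ncard_insert_of_notMem (by simp [h4, h5]),
      Set.ncard_pair h6]
  have hfour : Set.ncard {m : ℕ | ∃ x : G, x ∉ center G ∧ m = (centralizer ({x} : Set G)).index} = 4 := by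
    rcases Nat.lt_or_ge (q % 4) 2 with h | h
    · rw [hall _ (h2.1 (by omega)) (by simp only [Set.mem_insert_iff, Set.mem_singleton_iff]; omega)]
      exact hncard _ _ _ _ (by omega) (by omega) (by omega) (by omega) (by omega) (by omega)
    · rw [hall _ (h2.2 (by omega)) (by simp only [Set.mem_insert_iff, Set.mem_singleton_iff]; omega)]
      exact hncard _ _ _ _ (by omega) (by omega) (by omega) (by omega) (by omega) (by omega)
  refine ⟨inferInstance, fun hc => ?_, hfour⟩
  have hempty : {m : ℕ | ∃ x : G, x ∉ center G ∧ m = (centralizer ({x} : Set G)).index} = ∅ :=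
    Set.eq_empty_of_forall_notMem fun v ⟨x, hx, _⟩ => hx (mem_center_iff.mpr fun g => hc.1.comm g x)
  rw [hempty, Set.ncard_empty] at hfour
  omega

/-- Simple groups of conjugate type rank four. For a finite group G consider the set of indices of the centralizers of the non-central elements of G. Then G is a non-abelian simple group for which this set has exactly four members if and only if G is isomorphic to PSL(2, q) for some odd prime power q ≥ 7. -/
theorem result (G : Type*) [Group G] [Finite G] :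
    (IsSimpleGroup G ∧ ¬ IsMulCommutative G ∧
        Set.ncard {m : ℕ | ∃ x : G, x ∉ Subgroup.center G ∧ m = (Subgroup.centralizer ({x} : Set G)).index} = 4) ↔
      ∃ (F : Type) (_ : Field F) (_ : Fintype F), Odd (Fintype.card F) ∧ 7 ≤ Fintype.card F ∧
        Nonempty (G ≃* Matrix.ProjectiveSpecialLinearGroup (Fin 2) F) := by
  refine ⟨fun ⟨hs, hna, h4⟩ => ?_, fun ⟨F, _, _, hodd, h7, ⟨e⟩⟩ => rank_four_of_psl hodd h7 e⟩
  have h4' := (CfsgLib.ConjRankFour.orders_ncard_eq hna).symm.trans h4
  obtain ⟨m, hI⟩ := CfsgLib.ConjRankFour.inv_of_four hna h4'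
  rcases CfsgLib.ConjRankFour.classify hna hI with ⟨F, iF, iFt, h3, ⟨e⟩⟩ | h | ⟨⟨e⟩⟩ | ⟨F, iF, iFt, hF, ⟨e⟩⟩
  · rcases Nat.even_or_odd (Fintype.card F) with heven | hodd
    · exfalso
      obtain ⟨p, hp⟩ := CharP.exists F
      obtain ⟨n, hpp, hn⟩ := FiniteField.card F p
      have hp2 : p = 2 := ((Nat.prime_dvd_prime_iff_eq Nat.prime_two hpp).mp
        (Nat.prime_two.dvd_of_dvd_pow (hn ▸ heven.two_dvd))).symm
      subst hp2
      have hn2 : 2 ≤ (n : ℕ) := by
        by_contra hlt
        have := Nat.pow_le_pow_right two_pos (show (n : ℕ) ≤ 1 by omega)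
        omega
      obtain ⟨-, -, h3'⟩ := (Cfsg.Agent.S3192.result G).mpr ⟨n, F, iF, iFt, hn2, hn, ⟨e⟩⟩
      omega
    · by_cases h5 : Fintype.card F = 5
      · exfalso
        haveI : Fact (Nat.Prime 2) := ⟨Nat.prime_two⟩
        haveI := Fintype.ofFinite (GaloisField 2 2)
        have hc : Fintype.card (GaloisField 2 2) = 4 := by
          rw [← Nat.card_eq_fintype_card, GaloisField.card 2 2 two_ne_zero]; norm_num
        obtain ⟨e4⟩ := Cfsg.Agent.S0252.result hc
        obtain ⟨e5⟩ := Cfsg.Agent.S0253.result h5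
        obtain ⟨-, -, h3'⟩ := (Cfsg.Agent.S3192.result G).mpr
          ⟨2, GaloisField 2 2, inferInstance, inferInstance, le_rfl, by rw [hc]; norm_num,
            ⟨(e.trans e5).trans e4.symm⟩⟩
        omega
      · refine ⟨F, iF, iFt, hodd, ?_, ⟨e⟩⟩
        obtain ⟨k, hk⟩ := hodd
        omega
  · have := CfsgLib.ConjRankFour.five_le_suzuki h
    omega
  · have := CfsgLib.ConjRankFour.five_le_alternating_seven e
    omega
  · have := CfsgLib.ConjRankFour.five_le_psl_three_four hF e
    omega

end Cfsg.Agent.S3193
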