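import Cfsg.Statements.S3194
import Cfsg.Agent.Lib.ConjRankFour.Five.Main
import Cfsg.Agent.Lib.ConjRankFour.Counts.AltSeven
import Cfsg.Agent.S3193
import Cfsg.Agent.Lib.ConjRankFour.Counts.PSLTwo
-- import your own Cfsg.Agent.* helpers here

set_option autoImplicit false
open Cfsg

namespace Cfsg.Agent.S3194

universe u

open CfsgLib.ConjRankFour CfsgLib.ConjRankThree Subgroup in
/-- `A₇` has at least six orders of centralizers. -/
theorem six_le_alternating_seven {G : Type u} [Group G] [Finite G] (e : G ≃* alternatingGroup (Fin 7)) :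
    6 ≤ (orders G).ncard := by
  have h1 : orders G = Counts.values (alternatingGroup (Fin 7)) := by
    rw [← Counts.values_congr e]
    ext v
    exact ⟨fun ⟨x, hx, h⟩ => ⟨x, hx, h.symm⟩, fun ⟨x, hx, h⟩ => ⟨x, hx, h.symm⟩⟩
  rw [h1]
  refine le_trans (b := (↑({7, 5, 36, 24, 4, 9} : Finset ℕ) : Set ℕ).ncard) ?_ (Set.ncard_le_ncard ?_ Counts.values_finite)
  · rw [Set.ncard_coe_finset]; decide
  simp only [Finset.coe_insert, Finset.coe_singleton, Set.insert_subset_iff, Set.singleton_subset_iff]
  exact ⟨Counts.alt_witness c[0, 1, 2, 3, 4, 5, 6] 7 (by decide +kernel) (by decide +kernel) (by decide +kernel),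
    Counts.alt_witness c[0, 1, 2, 3, 4] 5 (by decide +kernel) (by decide +kernel) (by decide +kernel),
    Counts.alt_witness c[0, 1, 2] 36 (by decide +kernel) (by decide +kernel) (by decide +kernel),
    Counts.alt_witness (c[0, 1] * c[2, 3]) 24 (by decide +kernel) (by decide +kernel) (by decide +kernel),
    Counts.alt_witness (c[0, 1, 2, 3] * c[4, 5]) 4 (by decide +kernel) (by decide +kernel) (by decide +kernel),
    Counts.alt_witness (c[0, 1, 2] * c[3, 4, 5]) 9 (by decide +kernel) (by decide +kernel) (by decide +kernel)⟩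

/-- `PSL(2, q)` has at most four indices of centralizers. -/
theorem index_ncard_le_four_of_psl {G : Type u} [Group G] [Finite G] {F : Type} [Field F] [Fintype F]
    (h3 : 3 < Fintype.card F) (e : G ≃* Matrix.ProjectiveSpecialLinearGroup (Fin 2) F) :
    Set.ncard {m : ℕ | ∃ x : G, x ∉ Subgroup.center G ∧ m = (Subgroup.centralizer ({x} : Set G)).index} ≤ 4 := by
  rcases Nat.even_or_odd (Fintype.card F) with heven | hodd
  · exact (CfsgLib.ConjRankFour.Counts.psl_even heven h3 e).le.trans (by norm_num)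
  · by_cases h5 : Fintype.card F = 5
    · exact (CfsgLib.ConjRankFour.Counts.psl_five h5 e).le.trans (by norm_num)
    · obtain ⟨k, hk⟩ := hodd
      exact (Cfsg.Agent.S3193.rank_four_of_psl ⟨k, hk⟩ (by omega) e).2.2.le

/-- Simple groups of conjugate type rank five that are not three-headed. Let G be a non-abelian finite simple group and let I be the set of indices of the centralizers of the non-central elements of G. Suppose I has exactly five members, and that the number of members a of I that no other member of I divides is not three. Then G is isomorphic to a Suzuki group over the field with 2^(2n+1) elements for some n ≥ 1, or to PSL(3, 4). -/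
theorem result {G : Type*} [Group G] [Finite G]
    [IsSimpleGroup G] (hG : ¬ IsMulCommutative G)
    (h5 : Set.ncard {m : ℕ | ∃ x : G, x ∉ Subgroup.center G ∧ m = (Subgroup.centralizer ({x} : Set G)).index} = 5)
    (h3 : Set.ncard {a : ℕ | a ∈ {m : ℕ | ∃ x : G, x ∉ Subgroup.center G ∧ m = (Subgroup.centralizer ({x} : Set G)).index} ∧
      ∀ c ∈ {m : ℕ | ∃ x : G, x ∉ Subgroup.center G ∧ m = (Subgroup.centralizer ({x} : Set G)).index}, c ∣ a → c = a} ≠ 3) :
    (∃ (n : ℕ) (F : Type) (_ : Field F) (_ : Fintype F), 1 ≤ n ∧ Fintype.card F = 2 ^ (2 * n + 1) ∧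
        Nonempty (G ≃* ↥(Cfsg.Lie.Sz F (2 ^ (n + 1))))) ∨
      ∃ (F : Type) (_ : Field F) (_ : Fintype F), Fintype.card F = 4 ∧
        Nonempty (G ≃* Matrix.ProjectiveSpecialLinearGroup (Fin 3) F) := by
  have h5' : (CfsgLib.ConjRankThree.orders G).ncard = 5 := (CfsgLib.ConjRankFour.orders_ncard_eq hG).symm.trans h5
  have h3' : {v | CfsgLib.ConjRankFour.Head G v}.ncard ≠ 3 := fun e =>
    h3 ((CfsgLib.ConjRankFour.minimal_ncard_eq hG).trans e)
  have key : (∃ (F : Type) (_ : Field F) (_ : Fintype F), 3 < Fintype.card F ∧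
        Nonempty (G ≃* Matrix.ProjectiveSpecialLinearGroup (Fin 2) F)) ∨
      Cfsg.Lie.IsoSuzuki G ∨ Nonempty (G ≃* ↥(alternatingGroup (Fin 7))) ∨
      (∃ (F : Type) (_ : Field F) (_ : Fintype F), Fintype.card F = 4 ∧
        Nonempty (G ≃* Matrix.ProjectiveSpecialLinearGroup (Fin 3) F)) := by
    rcases CfsgLib.ConjRankFour.inv_or_good hG h5' h3' with ⟨m, hI⟩ | hgood
    · exact CfsgLib.ConjRankFour.classify hG hI
    · exact Cfsg.Agent.S3214.result hG hgood
  rcases key with ⟨F, iF, iFt, hq, ⟨e⟩⟩ | ⟨F, iF, iFt, m, hm, hF, he⟩ | ⟨⟨e⟩⟩ | h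
  · have := index_ncard_le_four_of_psl hq e
    omega
  · exact Or.inl ⟨m, F, iF, iFt, hm, hF, he⟩
  · have := six_le_alternating_seven e
    omega
  · exact Or.inr h

end Cfsg.Agent.S3194
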