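import Cfsg.Statements.S3195
import Mathlib
import Cfsg.Agent.S0200

set_option autoImplicit false
open Cfsg

namespace Cfsg.Agent.S3195

variable {G : Type*} [Group G]

theorem conj_zpow_inv {a x : G} (ha : a * a = 1) (h : a * x * a = x⁻¹) (i : ℤ) : a * x ^ i * a = (x ^ i)⁻¹ := by
  have hai : a⁻¹ = a := inv_eq_of_mul_eq_one_right ha
  have h1 : MulAut.conj a (x ^ i) = (x ^ i)⁻¹ := by
    rw [map_zpow, MulAut.conj_apply, hai, h, inv_zpow]
  rwa [MulAut.conj_apply, hai] at h1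

/-- an involution inverting an element `z` of odd order: `a * z` is conjugate to `a`. -/
theorem mul_isConj {a z : G} (ha : a * a = 1) (h : a * z * a = z⁻¹) (hz : Odd (orderOf z)) :
    ∃ g : G, g * a * g⁻¹ = a * z := by
  obtain ⟨m, hm⟩ := hz
  have hai : a⁻¹ = a := inv_eq_of_mul_eq_one_right ha
  set g := z ^ (-((m : ℤ) + 1))
  refine ⟨g, ?_⟩
  have e : g⁻¹ * g⁻¹ = z := by
    simp only [g]
    rw [zpow_neg, inv_inv, ← zpow_add, show ((m : ℤ) + 1) + ((m : ℤ) + 1) = ((2 * m + 1 : ℕ) : ℤ) + 1 by push_cast; ring,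
      zpow_add, zpow_natCast, ← hm, pow_orderOf_eq_one, zpow_one, one_mul]
  have h1 : g * a = a * g⁻¹ := by
    have := conj_zpow_inv ha h (-((m : ℤ) + 1))
    calc g * a = (a * a) * g * a := by rw [ha, one_mul]
      _ = a * (a * g * a) := by group
      _ = a * g⁻¹ := by rw [this]
  rw [h1, mul_assoc, e]

theorem inv_ne {x : G} (h1 : x ≠ 1) (ho : Odd (orderOf x)) : x⁻¹ ≠ x := by
  intro h
  have h2 : x ^ 2 = 1 := by rw [pow_two]; nth_rw 1 [← h]; exact inv_mul_cancel x
  have hd := orderOf_dvd_of_pow_eq_one h2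
  rcases (Nat.dvd_prime Nat.prime_two).1 hd with h3 | h3
  · exact h1 (orderOf_eq_one_iff.1 h3)
  · rw [h3] at ho; exact absurd ho (by decide)

theorem core [Finite G] (A : Subgroup G)
    (hyp : ∀ u ∈ A, u ≠ 1 → ∀ g : G, ∃ v ∈ A, v ≠ 1 ∧ Commute v (g * u * g⁻¹))
    (hA : ∀ u ∈ A, ∀ v ∈ A, u ≠ 1 → v ≠ 1 → u ≠ v → ∀ w ∈ A, w = 1 ∨ w = u ∨ w = v ∨ w = u * v)
    (a b : G) (ha : a ∈ A) (hb : b ∈ A) (ha1 : a ≠ 1) (hb1 : b ≠ 1) (hab : a ≠ b)
    (haa : a * a = 1) (hbb : b * b = 1) (hcomm : a * b = b * a)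
    (x y : G) (r : ℕ) (hr : r.Prime) (hxr : orderOf x = r) (hr2 : r ≠ 2) (hy1 : y ≠ 1) (hyo : Odd (orderOf y))
    (hax : a * x * a = x⁻¹) (hbx : Commute b x) (hay : Commute a y) (hby : b * y * b = y⁻¹) : False := by
  have hx1 : x ≠ 1 := by
    intro h; rw [h, orderOf_one] at hxr; exact hr.ne_one hxr.symm
  have hxo : Odd (orderOf x) := hxr ▸ hr.odd_of_ne_two hr2
  let c := a * b
  have hcc : c * c = 1 := by
    show a * b * (a * b) = 1
    nth_rw 2 [hcomm]
    rw [mul_assoc, ← mul_assoc b, hbb, one_mul, haa]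
  have hcx : c * x * c = x⁻¹ := by
    show a * b * x * (a * b) = x⁻¹
    rw [show a * b * x * (a * b) = a * (b * x) * (a * b) by group, hbx.eq,
      show a * (x * b) * (a * b) = a * x * (b * (a * b)) by group, hcomm,
      show b * (b * a) = a by rw [← mul_assoc, hbb, one_mul], hax]
  have hcy : c * y * c = y⁻¹ := by
    show a * b * y * (a * b) = y⁻¹
    rw [hcomm, show b * a * y * (b * a) = b * (a * y) * (b * a) by group, hay.eq,
      show b * (y * a) * (b * a) = b * y * (a * (b * a)) by group, ← hcomm,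
      show a * (a * b) = b by rw [← mul_assoc, haa, one_mul], hby]
  have hc : c ∈ A := mul_mem ha hb
  have hc1 : c ≠ 1 := by
    intro h
    exact hab (by rw [← inv_eq_of_mul_eq_one_right h, inv_eq_of_mul_eq_one_right haa])
  -- every `x^k`-conjugate of `A` meets the centraliser of `b * y`
  obtain ⟨g, hg⟩ := mul_isConj hbb hby hyo
  have hk : ∀ k : ℕ, Commute (x ^ k * a * (x ^ k)⁻¹) (b * y) ∨ Commute (x ^ k * c * (x ^ k)⁻¹) (b * y) := by
    intro k
    obtain ⟨v, hv, hv1, hvc⟩ := hyp b hb hb1 ((x ^ k)⁻¹ * g)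
    rw [show (x ^ k)⁻¹ * g * b * ((x ^ k)⁻¹ * g)⁻¹ = (x ^ k)⁻¹ * (g * b * g⁻¹) * x ^ k by group, hg] at hvc
    have h2 : Commute (x ^ k * v * (x ^ k)⁻¹) (b * y) := by
      have := hvc.map (MulAut.conj (x ^ k))
      simp only [MulAut.conj_apply] at this
      rwa [show x ^ k * ((x ^ k)⁻¹ * (b * y) * x ^ k) * (x ^ k)⁻¹ = b * y by group] at this
    rcases hA a ha b hb ha1 hb1 hab v hv with h | h | h | h
    · exact absurd h hv1
    · exact Or.inl (h ▸ h2)
    · exfalso
      rw [h, ← (hbx.pow_right k).eq, mul_inv_cancel_right] at h2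
      have h3 : b * y * b = y := by
        have h4 := h2.eq
        rw [← mul_assoc, hbb, one_mul] at h4
        exact h4.symm
      rw [hby] at h3
      exact inv_ne hy1 hyo h3
    · exact Or.inr (by show Commute (x ^ k * (a * b) * (x ^ k)⁻¹) (b * y); rw [← h]; exact h2)
  -- two of them have the same type
  have hxy : Commute x y := by
    obtain ⟨t, ht, htx, k, l, hkl, hl2, h1, h2⟩ : ∃ t : G, t * t = 1 ∧ t * x * t = x⁻¹ ∧
        ∃ k l : ℕ, k < l ∧ l ≤ 2 ∧ Commute (x ^ k * t * (x ^ k)⁻¹) (b * y) ∧ Commute (x ^ l * t * (x ^ l)⁻¹) (b * y) := by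
      rcases hk 0 with h0 | h0 <;> rcases hk 1 with h1 | h1 <;> rcases hk 2 with h2 | h2
      · exact ⟨a, haa, hax, 0, 1, by omega, by omega, h0, h1⟩
      · exact ⟨a, haa, hax, 0, 1, by omega, by omega, h0, h1⟩
      · exact ⟨a, haa, hax, 0, 2, by omega, by omega, h0, h2⟩
      · exact ⟨c, hcc, hcx, 1, 2, by omega, by omega, h1, h2⟩
      · exact ⟨a, haa, hax, 1, 2, by omega, by omega, h1, h2⟩
      · exact ⟨c, hcc, hcx, 0, 2, by omega, by omega, h0, h2⟩
      · exact ⟨c, hcc, hcx, 0, 1, by omega, by omega, h0, h1⟩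
      · exact ⟨c, hcc, hcx, 0, 1, by omega, by omega, h0, h1⟩
    have ht' : ∀ i : ℕ, x ^ i * t * (x ^ i)⁻¹ = x ^ (2 * i) * t := by
      intro i
      have h5 := conj_zpow_inv ht htx (i : ℤ)
      rw [zpow_natCast] at h5
      calc x ^ i * t * (x ^ i)⁻¹ = x ^ i * (t * t) * x ^ i * t := by rw [← h5]; group
        _ = x ^ (2 * i) * t := by rw [ht, mul_one, two_mul, pow_add]
    rw [ht'] at h1 h2
    have h3 : Commute (x ^ (2 * (l - k))) (b * y) := by
      have h4 := h2.mul_left h1.inv_left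
      rwa [mul_inv_rev, ← mul_assoc, mul_assoc (x ^ (2 * l)), inv_eq_of_mul_eq_one_right ht, ht, mul_one,
        ← pow_sub _ (by omega), ← Nat.mul_sub] at h4
    have hcop : Nat.Coprime (2 * (l - k)) (orderOf x) := by
      rw [hxr]
      refine Nat.Coprime.mul_left ((Nat.coprime_primes Nat.prime_two hr).2 (Ne.symm hr2)) ?_
      refine ((hr.coprime_iff_not_dvd).2 fun hd => ?_).symm
      have := Nat.le_of_dvd (by omega) hd
      have := hr.two_le
      omega
    obtain ⟨m, hm⟩ := exists_pow_eq_self_of_coprime hcop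
    have h5 : Commute x (b * y) := hm ▸ h3.pow_left m
    have h6 := (Commute.inv_right hbx.symm).mul_right h5
    rwa [inv_mul_cancel_left] at h6
  -- the conjugate `c * (x * y)` of `c`
  set z := x * y
  have hzo : Odd (orderOf z) := by
    have hd : orderOf z ∣ orderOf x * orderOf y := hxy.orderOf_mul_dvd_mul_orderOf
    exact Odd.of_dvd_nat (hxo.mul hyo) hd
  have hcz : c * z * c = z⁻¹ := by
    show c * (x * y) * c = (x * y)⁻¹
    rw [show c * (x * y) * c = c * x * (1 : G) * y * c by group, ← hcc,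
      show c * x * (c * c) * y * c = (c * x * c) * (c * y * c) by group, hcx, hcy, mul_inv_rev, hxy.inv_inv.eq]
  obtain ⟨g', hg'⟩ := mul_isConj hcc hcz hzo
  obtain ⟨v, hv, hv1, hvc⟩ := hyp c hc hc1 g'
  rw [hg'] at hvc
  have hvc' : Commute v c → Commute v z := fun h => by
    have := h.inv_right.mul_right hvc
    rwa [inv_mul_cancel_left] at this
  rcases hA a ha b hb ha1 hb1 hab v hv with h | h | h | h
  · exact hv1 h
  · subst h
    have h1 : Commute v x := by
      have h2 := (hvc' ((Commute.refl v).mul_right hcomm)).mul_right hay.inv_right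
      rwa [show z * y⁻¹ = x by show x * y * y⁻¹ = x; group] at h2
    rw [h1.eq, mul_assoc, haa, mul_one] at hax
    exact inv_ne hx1 hxo hax.symm
  · subst h
    have h1 : Commute v y := by
      have h2 := hbx.inv_right.mul_right (hvc' (Commute.mul_right hcomm.symm (Commute.refl v)))
      rwa [show x⁻¹ * z = y by show x⁻¹ * (x * y) = y; group] at h2
    rw [h1.eq, mul_assoc, hbb, mul_one] at hby
    exact inv_ne hy1 hyo hby.symm
  · subst h
    have h1 : Commute c z := hvc' (Commute.refl c)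
    rw [h1.eq, mul_assoc, hcc, mul_one] at hcz
    have hz1 : z = 1 := by
      by_contra hz
      exact inv_ne hz hzo hcz.symm
    have : x = y⁻¹ := eq_inv_of_mul_eq_one_left hz1
    rw [this] at hax hx1 hxo
    rw [hay.inv_right.eq, mul_assoc, haa, mul_one] at hax
    exact inv_ne hx1 hxo hax.symm


/-- Let A be a Klein four-subgroup of a finite group G. If every G-conjugate of every involution of A commutes with some involution of A (its centralizer meets A nontrivially), then A meets the largest normal 2-subgroup O₂(G) nontrivially. -/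
theorem result {G : Type*} [Group G] [Finite G]
    (A : Subgroup G) (hA : IsKleinFour ↥A)
    (h : ∀ a ∈ A, a ≠ 1 → ∀ g : G, A ⊓ Subgroup.centralizer ({g * a * g⁻¹} : Set G) ≠ ⊥) :
    A ⊓ Cfsg.pCore 2 G ≠ ⊥ := by
  classical
  by_contra hbot
  have hcard : Nat.card A = 4 := hA.card_four
  have hsq : ∀ u ∈ A, u * u = 1 := by
    intro u hu
    have h1 : (⟨u, hu⟩ : A) ^ 2 = 1 := by rw [← hA.exponent_two]; exact Monoid.pow_exponent_eq_one _
    simpa [pow_two] using congrArg Subtype.val h1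
  have hinvs : ∀ u ∈ A, u⁻¹ = u := fun u hu => inv_eq_of_mul_eq_one_right (hsq u hu)
  have hcomm : ∀ u ∈ A, ∀ v ∈ A, u * v = v * u := by
    intro u hu v hv
    have h1 := hinvs _ (mul_mem hu hv)
    rw [mul_inv_rev, hinvs u hu, hinvs v hv] at h1
    exact h1.symm
  have hA4 : ∀ u ∈ A, ∀ v ∈ A, u ≠ 1 → v ≠ 1 → u ≠ v → ∀ w ∈ A, w = 1 ∨ w = u ∨ w = v ∨ w = u * v := by
    intro u hu v hv hu1 hv1 huv w hw
    haveI := Fintype.ofFinite A
    have huv1 : u * v ≠ 1 := fun h => huv (by rw [← hinvs u hu, inv_eq_of_mul_eq_one_right h])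
    have huvu : u * v ≠ u := fun h => hv1 (mul_left_cancel (a := u) (by rw [h, mul_one]))
    have huvv : u * v ≠ v := fun h => hu1 (mul_right_cancel (b := v) (by rw [h, one_mul]))
    set S : Finset A := {1, ⟨u, hu⟩, ⟨v, hv⟩, ⟨u * v, mul_mem hu hv⟩}
    have hS : S = Finset.univ := by
      apply Finset.eq_univ_of_card
      rw [← Nat.card_eq_fintype_card, hcard]
      simp [S, Finset.card_insert_of_notMem, Subtype.ext_iff, Ne.symm hu1, Ne.symm hv1, Ne.symm huv1, huv,
        Ne.symm huvu, Ne.symm huvv]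
    have : (⟨w, hw⟩ : A) ∈ S := hS ▸ Finset.mem_univ _
    simpa [S, Subtype.ext_iff] using this
  have hyp : ∀ u ∈ A, u ≠ 1 → ∀ g : G, ∃ v ∈ A, v ≠ 1 ∧ Commute v (g * u * g⁻¹) := by
    intro u hu hu1 g
    obtain ⟨⟨v, hv⟩, hv1⟩ := Subgroup.ne_bot_iff_exists_ne_one.1 (h u hu hu1 g)
    exact ⟨v, hv.1, fun e => hv1 (Subtype.ext e), (Subgroup.mem_centralizer_iff.1 hv.2 _ rfl).symm⟩
  -- each involution inverts an element of odd prime order, centralised by another one
  have hinv : ∀ u ∈ A, u ≠ 1 → ∃ (x v : G) (r : ℕ), r.Prime ∧ r ≠ 2 ∧ orderOf x = r ∧ u * x * u = x⁻¹ ∧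
      v ∈ A ∧ v ≠ 1 ∧ v ≠ u ∧ Commute v x := by
    intro u hu hu1
    haveI : Fact (Nat.Prime 2) := ⟨Nat.prime_two⟩
    have ho : orderOf u = 2 := orderOf_eq_prime (by rw [pow_two]; exact hsq u hu) hu1
    obtain ⟨w, hw1, hwo, hwi⟩ := Cfsg.Agent.S0200.result u ho fun N hN hN2 huN => by
      have hle : N ≤ Cfsg.pCore 2 G := le_sSup ⟨hN, hN2⟩
      have : u ∈ A ⊓ Cfsg.pCore 2 G := ⟨hu, hle huN⟩
      rw [hbot, Subgroup.mem_bot] at this
      exact hu1 this
    rw [hinvs u hu] at hwi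
    set r := (orderOf w).minFac
    have hr : r.Prime := Nat.minFac_prime fun h => hw1 (orderOf_eq_one_iff.1 h)
    have hr2 : r ≠ 2 := fun h => by
      have h2 := Nat.minFac_dvd (orderOf w)
      rw [show (orderOf w).minFac = 2 from h] at h2
      exact Nat.not_even_iff_odd.2 hwo (even_iff_two_dvd.2 h2)
    set x := w ^ (orderOf w / r) with hx
    have hxr : orderOf x = r := orderOf_pow_orderOf_div (orderOf_pos w).ne' (Nat.minFac_dvd _)
    have hxi : u * x * u = x⁻¹ := by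
      have h5 := conj_zpow_inv (hsq u hu) hwi ((orderOf w / r : ℕ) : ℤ)
      rwa [zpow_natCast, ← hx] at h5
    have hxo : Odd (orderOf x) := hxr ▸ hr.odd_of_ne_two hr2
    have hx1 : x ≠ 1 := fun h => by rw [h, orderOf_one] at hxr; exact hr.ne_one hxr.symm
    obtain ⟨g, hg⟩ := mul_isConj (hsq u hu) hxi hxo
    obtain ⟨v, hv, hv1, hvc⟩ := hyp u hu hu1 g
    rw [hg] at hvc
    have hvx : Commute v x := by
      have h6 := (Commute.inv_right (hcomm v hv u hu : Commute v u)).mul_right hvc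
      rwa [inv_mul_cancel_left] at h6
    refine ⟨x, v, r, hr, hr2, hxr, hxi, hv, hv1, ?_, hvx⟩
    rintro rfl
    rw [hvx.eq, mul_assoc, hsq _ hv, mul_one] at hxi
    exact inv_ne hx1 hxo hxi.symm
  obtain ⟨u, hu1⟩ : ∃ u : A, u ≠ 1 := by
    haveI : Nontrivial A := Finite.one_lt_card_iff_nontrivial.1 (by omega)
    exact exists_ne 1
  have hu1' : (u : G) ≠ 1 := fun e => hu1 (Subtype.ext e)
  obtain ⟨x, v, r, hr, hr2, hxr, hxi, hv, hv1, hvu, hvx⟩ := hinv u u.2 hu1'
  obtain ⟨y, w, s, hs, hs2, hys, hyi, hw, hw1, hwv, hwy⟩ := hinv v hv hv1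
  have hy1 : y ≠ 1 := fun h => by rw [h, orderOf_one] at hys; exact hs.ne_one hys.symm
  have hyo : Odd (orderOf y) := hys ▸ hs.odd_of_ne_two hs2
  rcases hA4 u u.2 v hv hu1' hv1 (Ne.symm hvu) w hw with e | e | e | e
  · exact hw1 e
  · exact core A hyp hA4 u v u.2 hv hu1' hv1 (Ne.symm hvu) (hsq _ u.2) (hsq _ hv) (hcomm _ u.2 _ hv) x y r hr hxr hr2
      hy1 hyo hxi hvx (e ▸ hwy) hyi
  · exact hwv e
  · have hwi : w * x * w = x⁻¹ := by
      rw [e, show (u : G) * v * x * (u * v) = u * (v * x) * (u * v) by group, hvx.eq,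
        show (u : G) * (x * v) * (u * v) = u * x * (v * (u * v)) by group, hcomm _ u.2 _ hv,
        show v * (v * (u : G)) = u by rw [← mul_assoc, hsq _ hv, one_mul], hxi]
    exact core A hyp hA4 w v hw hv hw1 hv1 hwv (hsq _ hw) (hsq _ hv) (hcomm _ hw _ hv) x y r hr hxr hr2
      hy1 hyo hwi hvx hwy hyi

end Cfsg.Agent.S3195
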