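import Cfsg.Statements.S3196
import Mathlib

set_option autoImplicit false
open Cfsg

namespace Cfsg.Agent.S3196

section
variable {G : Type*} [Group G] {p : ℕ}

theorem zpowers_gen (hp : p.Prime) {X : Subgroup G} (hX : Nat.card X = p) {x : G} (hx : x ∈ X)
    (hx1 : x ≠ 1) : Subgroup.zpowers x = X := by
  have : Fact p.Prime := ⟨hp⟩
  have : Finite X := Nat.finite_of_card_ne_zero (hX ▸ hp.ne_zero)
  refine Subgroup.eq_of_le_of_card_ge (Subgroup.zpowers_le.mpr hx) ?_
  have ho : orderOf x = p := by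
    have h1 : orderOf x ∣ p := hX ▸ Subgroup.orderOf_dvd_natCard X hx
    exact (hp.eq_one_or_self_of_dvd _ h1).resolve_left (fun e => hx1 (orderOf_eq_one_iff.mp e))
  rw [Nat.card_zpowers, ho, hX]

theorem commute_of_pow (hp : p.Prime) {u a : G} (hu : u ^ p = 1) {j : ℕ} (hj : ¬ p ∣ j)
    (h : Commute (u ^ j) a) : Commute u a := by
  have hc : Nat.Coprime j (orderOf u) :=
    (Nat.Coprime.symm ((Nat.Prime.coprime_iff_not_dvd hp).mpr hj)).coprime_dvd_right
      (orderOf_dvd_of_pow_eq_one hu)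
  obtain ⟨m, hm⟩ := exists_pow_eq_self_of_coprime hc
  exact hm ▸ h.pow_left m

/-- A point-set closed as in the hypotheses has a point commuting with all others. -/
theorem exists_dominating [Finite G] (hp : p.Prime) (E : Set G) (hord : ∀ x ∈ E, orderOf x = p)
    (hconj : ∀ x ∈ E, ∀ g : G, g * x * g⁻¹ ∈ E)
    (hline : ∀ x ∈ E, ∀ y ∈ E, Commute x y → x ∉ Subgroup.zpowers y → ∀ i j : ℕ,
      x ^ i * y ^ j ≠ 1 → x ^ i * y ^ j ∈ E)
    (hnb : ∀ x ∈ E, ∀ y ∈ E, Commute x y → x ∉ Subgroup.zpowers y → ∀ w ∈ E,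
      ∃ i j : ℕ, x ^ i * y ^ j ≠ 1 ∧ Commute (x ^ i * y ^ j) w)
    (hex : ∃ x ∈ E, ∃ y ∈ E, Commute x y ∧ x ∉ Subgroup.zpowers y) :
    ∃ v ∈ E, ∀ w ∈ E, Commute v w := by
  have : Fact p.Prime := ⟨hp⟩
  have hpow : ∀ x ∈ E, x ^ p = 1 := fun x hx => by rw [← hord x hx, pow_orderOf_eq_one]
  have hne : ∀ x ∈ E, x ≠ 1 := fun x hx e => by
    have := hord x hx; rw [e, orderOf_one] at this; exact hp.ne_one this.symm
  obtain ⟨x₀, hx₀, y₀, hy₀, hc₀, hn₀⟩ := hex
  obtain ⟨a, haE, hmax⟩ := Set.exists_max_image E (fun a => {u ∈ E | Commute u a}.ncard)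
    (Set.toFinite _) ⟨x₀, hx₀⟩
  refine ⟨a, haE, ?_⟩
  by_contra hdom
  push Not at hdom
  obtain ⟨w, hwE, hw⟩ := hdom
  -- (*) no second point whose perp contains that of `a`
  have star : ∀ r ∈ E, r ∉ Subgroup.zpowers a → (∀ u ∈ E, Commute u a → Commute u r) → False := by
    intro r hr hra h
    have hcra : Commute r a := (h a haE (Commute.refl a)).symm
    obtain ⟨i, j, hne', hc⟩ := hnb r hr a haE hcra hra w hwE
    have hs := hline r hr a haE hcra hra i j hne'
    have hlt : {u ∈ E | Commute u a} ⊂ {u ∈ E | Commute u (r ^ i * a ^ j)} := by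
      refine ⟨fun u hu => ⟨hu.1, ((h u hu.1 hu.2).pow_right i).mul_right (hu.2.pow_right j)⟩,
        fun hle => hw ?_⟩
      exact ((hle ⟨hwE, hc.symm⟩).2).symm
    exact Nat.lt_irrefl _ ((Set.ncard_lt_ncard hlt).trans_le (hmax _ hs))
  -- the powers of `a`
  have hzp : ∀ u ∈ Subgroup.zpowers a, ∃ i : ℕ, u = a ^ i := fun u hu => by
    obtain ⟨i, hi⟩ := mem_powers_iff_mem_zpowers.mpr hu; exact ⟨i, hi.symm⟩
  -- a line at `a`
  obtain ⟨m, hmE, hma, hcm⟩ : ∃ m ∈ E, m ∉ Subgroup.zpowers a ∧ Commute m a := by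
    obtain ⟨i, j, hne', hc⟩ := hnb x₀ hx₀ y₀ hy₀ hc₀ hn₀ a haE
    have hs := hline x₀ hx₀ y₀ hy₀ hc₀ hn₀ i j hne'
    by_cases hsa : x₀ ^ i * y₀ ^ j ∈ Subgroup.zpowers a
    · have hca : ∀ u, Commute u (x₀ ^ i * y₀ ^ j) → Commute u a := fun u hu => by
        obtain ⟨k, hk⟩ := hzp _ hsa
        have hk' : ¬ p ∣ k := fun ⟨l, hl⟩ => hne' (by rw [hk, hl, pow_mul, hpow a haE, one_pow])
        exact (commute_of_pow hp (hpow a haE) hk' (hk ▸ hu.symm)).symm
      by_cases hx : x₀ ∈ Subgroup.zpowers a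
      · refine ⟨y₀, hy₀, fun hy => hn₀ ?_, hca _ ((hc₀.symm.pow_right i).mul_right ((Commute.refl y₀).pow_right j))⟩
        have ha' : Nat.card (Subgroup.zpowers a) = p := by rw [Nat.card_zpowers, hord a haE]
        rw [zpowers_gen hp ha' hy (hne _ hy₀)]; exact hx
      · exact ⟨x₀, hx₀, hx, hca _ (((Commute.refl x₀).pow_right i).mul_right (hc₀.pow_right j))⟩
    · exact ⟨_, hs, hsa, hc⟩
  -- the neighbour `z` of `w` on it
  obtain ⟨z, hzE, hza, hzca, hzw⟩ : ∃ z ∈ E, z ∉ Subgroup.zpowers a ∧ Commute z a ∧ Commute z w := by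
    obtain ⟨i, j, hne', hc⟩ := hnb m hmE a haE hcm hma w hwE
    refine ⟨_, hline m hmE a haE hcm hma i j hne', fun hs => hw ?_,
      (hcm.pow_left i).mul_left ((Commute.refl a).pow_left j), hc⟩
    obtain ⟨k, hk⟩ := hzp _ hs
    rw [hk] at hc hne'
    exact commute_of_pow hp (hpow a haE) (fun ⟨l, hl⟩ => hne' (by rw [hl, pow_mul, hpow a haE, one_pow])) hc
  have hzw' : z ∉ Subgroup.zpowers w := fun hz => by
    obtain ⟨k, hk⟩ := mem_powers_iff_mem_zpowers.mpr hz
    have hk' : ¬ p ∣ k := fun ⟨l, hl⟩ => hne z hzE (by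
      rw [← hk]; show w ^ k = 1
      rw [hl, pow_mul, hpow w hwE, one_pow])
    exact hw (commute_of_pow hp (hpow w hwE) hk' (show Commute (w ^ k) a by rw [show w ^ k = z from hk]; exact hzca)).symm
  set x := z * w ^ (p - 1) with hx
  have hwinv : w ^ (p - 1) = w⁻¹ := by
    refine eq_inv_of_mul_eq_one_left ?_
    rw [← pow_succ, Nat.sub_add_cancel hp.one_le, hpow w hwE]
  have hx1 : x ≠ 1 := fun e => hzw' (by
    rw [hx, hwinv, mul_inv_eq_one] at e; rw [e]; exact Subgroup.mem_zpowers w)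
  have hxE : x ∈ E := by
    have := hline z hzE w hwE hzw hzw' 1 (p - 1) (by rwa [pow_one])
    rwa [pow_one] at this
  set a' := x * a * x⁻¹ with ha'
  have ha'w : a' = w⁻¹ * a * w := by
    rw [ha', hx, hwinv, show z * w⁻¹ * a * (z * w⁻¹)⁻¹ = z * (w⁻¹ * a * w) * z⁻¹ by group]
    rw [(((hzw.inv_right).mul_right hzca).mul_right hzw).eq]; group
  have hxa : ¬ Commute a x := fun h => hw (by
    have h' : w = x⁻¹ * z := by
      have e : x = w⁻¹ * z := by rw [hx, hwinv, hzw.inv_right.eq]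
      rw [e, mul_inv_rev, inv_inv, mul_assoc, hzw.symm.eq, ← mul_assoc, inv_mul_cancel, one_mul]
    rw [h']; exact h.inv_right.mul_right hzca.symm)
  -- neighbours of `a` off the perp of `z`
  have hoff : ∀ u ∈ E, Commute u a → ¬ Commute u z → Commute u a' := by
    intro u hu hua huz
    obtain ⟨i, j, hne', hc⟩ := hnb z hzE w hwE hzw hzw' u hu
    have hj : ¬ p ∣ j := by
      rintro ⟨l, rfl⟩
      rw [pow_mul, hpow w hwE, one_pow, mul_one] at hc hne'
      exact huz (commute_of_pow hp (hpow z hzE)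
        (fun ⟨l', hl'⟩ => hne' (by rw [hl', pow_mul, hpow z hzE, one_pow])) hc).symm
    have hcop : Nat.Coprime j (orderOf w) := by
      rw [hord w hwE]; exact (Nat.Coprime.symm ((Nat.Prime.coprime_iff_not_dvd hp).mpr hj))
    obtain ⟨k, hk⟩ := exists_pow_eq_self_of_coprime hcop
    set k' := k * (p - 1)
    have ht : (z ^ i * w ^ j) ^ k' = z ^ (i * k') * w⁻¹ := by
      rw [(hzw.pow_pow i j).mul_pow, ← pow_mul z i, pow_mul (w ^ j) k (p - 1), hk, hwinv]
    have hc' : Commute (z ^ (i * k') * w⁻¹) u := ht ▸ hc.pow_left k'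
    have e : a' = (z ^ (i * k') * w⁻¹) * a * (z ^ (i * k') * w⁻¹)⁻¹ := by
      rw [show (z ^ (i * k') * w⁻¹) * a * (z ^ (i * k') * w⁻¹)⁻¹ =
          z ^ (i * k') * (w⁻¹ * a * w) * (z ^ (i * k'))⁻¹ by group, ha'w,
        ((((hzw.inv_right).mul_right hzca).mul_right hzw).pow_left (i * k')).eq]
      group
    rw [e]
    exact (hc'.symm.mul_right hua).mul_right hc'.symm.inv_right
  by_cases hex' : ∃ u ∈ E, Commute u a ∧ ¬ Commute u z
  swap
  · push Not at hex'
    exact star z hzE hza hex'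
  obtain ⟨u₀, hu₀, hu₀a, hu₀z⟩ := hex'
  have hu₀a' : u₀ ∉ Subgroup.zpowers a := fun h => by
    obtain ⟨k, rfl⟩ := hzp _ h
    exact hu₀z (hzca.symm.pow_left k)
  -- so `a` commutes with `a'`
  have haa' : Commute a a' := by
    have h1 := hoff u₀ hu₀ hu₀a hu₀z
    have hne' : u₀ ^ 1 * a ^ 1 ≠ 1 := fun e => hu₀a' (by
      rw [pow_one, pow_one] at e
      rw [eq_inv_of_mul_eq_one_left e]; exact inv_mem (Subgroup.mem_zpowers a))
    have hs := hline u₀ hu₀ a haE hu₀a hu₀a' 1 1 hne'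
    rw [pow_one, pow_one] at hs
    have h2 := hoff _ hs (hu₀a.mul_left (Commute.refl a)) (fun h => hu₀z (by
      have := h.mul_left hzca.symm.inv_left
      rwa [mul_inv_cancel_right] at this))
    have := h1.inv_left.mul_left h2
    rwa [inv_mul_cancel_left] at this
  have hperp : ∀ u ∈ E, Commute u a → Commute u a' := by
    intro u hu hua
    by_cases huz : Commute u z
    · by_cases hua' : u ∈ Subgroup.zpowers a
      · obtain ⟨k, rfl⟩ := hzp _ hua'; exact haa'.pow_left k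
      obtain ⟨i, j, hne', hc⟩ := hnb u hu a haE hua hua' x hxE
      have hi : ¬ p ∣ i := by
        rintro ⟨l, rfl⟩
        rw [pow_mul, hpow u hu, one_pow, one_mul] at hc hne'
        exact hxa (commute_of_pow hp (hpow a haE)
          (fun ⟨l', hl'⟩ => hne' (by rw [hl', pow_mul, hpow a haE, one_pow])) hc)
      have hq : Commute (u ^ i * a ^ j) a' := by
        exact ((hc.mul_right ((hua.pow_left i).mul_left ((Commute.refl a).pow_left j))).mul_right
          hc.inv_right)
      have h3 := hq.mul_left ((haa'.pow_left j).inv_left)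
      rw [mul_inv_cancel_right] at h3
      exact commute_of_pow hp (hpow u hu) hi h3
    · exact hoff u hu hua huz
  refine star a' (hconj a haE x) (fun h => hxa ?_) hperp
  -- a `p`-element normalising a group of order `p` centralises it
  obtain ⟨i, hi⟩ := hzp _ h
  have hn : ∀ n : ℕ, x ^ n * a * (x ^ n)⁻¹ = a ^ i ^ n := by
    intro n
    induction n with
    | zero => simp
    | succ n ih =>
      rw [pow_succ' i n, pow_mul, ← hi, ha', conj_pow, ← ih, pow_succ' x n]; group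
  have h1 := hn p
  rw [hpow x hxE, one_mul, inv_one, mul_one] at h1
  have h2 : i ^ p ≡ 1 [MOD p] := by
    have h' : i ^ p ≡ 1 [MOD orderOf a] :=
      pow_eq_pow_iff_modEq.mp (by rw [pow_one]; exact h1.symm)
    rwa [hord a haE] at h'
  have h3 : (i : ZMod p) = 1 := by
    have := (ZMod.natCast_eq_natCast_iff _ _ _).mpr h2
    push_cast at this
    rwa [ZMod.pow_card] at this
  have h4 : a ^ i = a := by
    conv_rhs => rw [← pow_one a]
    rw [pow_eq_pow_iff_modEq, hord a haE, ← ZMod.natCast_eq_natCast_iff, h3, Nat.cast_one]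
  have h5 : x * a * x⁻¹ = a := by rw [← ha', hi, h4]
  exact (mul_inv_eq_iff_eq_mul.mp h5).symm

end

/-- Let p be a prime and K a set of subgroups of order p of a finite group G, closed under conjugation, such that at least two distinct members of K commute elementwise, and whenever two distinct members X, Y of K commute: every subgroup of order p of the group XY they generate belongs to K, and every member W of K has centralizer meeting XY nontrivially. Then some member V of K commutes elementwise with every member of K and lies in O_p(G); in particular G is not simple. -/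
theorem result {G : Type*} [Group G] [Finite G]
    {p : ℕ} (hp : p.Prime) (K : Set (Subgroup G)) (hK : ∀ X ∈ K, Nat.card ↥X = p)
    (hKc : ∀ X ∈ K, ∀ g : G, X.map (MulAut.conj g).toMonoidHom ∈ K)
    (hex : ∃ X ∈ K, ∃ Y ∈ K, X ≠ Y ∧ ∀ x ∈ X, ∀ y ∈ Y, x * y = y * x)
    (ha : ∀ X ∈ K, ∀ Y ∈ K, X ≠ Y → (∀ x ∈ X, ∀ y ∈ Y, x * y = y * x) →
      ∀ Z : Subgroup G, Z ≤ X ⊔ Y → Nat.card ↥Z = p → Z ∈ K)
    (hb : ∀ X ∈ K, ∀ Y ∈ K, X ≠ Y → (∀ x ∈ X, ∀ y ∈ Y, x * y = y * x) →
      ∀ W ∈ K, (X ⊔ Y) ⊓ Subgroup.centralizer (W : Set G) ≠ ⊥) :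
    (∃ V ∈ K, (∀ W ∈ K, ∀ v ∈ V, ∀ w ∈ W, v * w = w * v) ∧ V ≤ Cfsg.pCore p G) ∧ ¬ IsSimpleGroup G := by
  classical
  have : Fact p.Prime := ⟨hp⟩
  let E : Set G := {x | x ≠ 1 ∧ Subgroup.zpowers x ∈ K}
  have hord : ∀ x ∈ E, orderOf x = p := fun x hx => by
    rw [← Nat.card_zpowers, hK _ hx.2]
  have hmemE : ∀ X ∈ K, ∀ x ∈ X, x ≠ 1 → x ∈ E := fun X hX x hx hx1 =>
    ⟨hx1, by rw [zpowers_gen hp (hK X hX) hx hx1]; exact hX⟩
  have hconj : ∀ x ∈ E, ∀ g : G, g * x * g⁻¹ ∈ E := fun x hx g =>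
    hmemE _ (hKc _ hx.2 g) _ ⟨x, Subgroup.mem_zpowers x, rfl⟩ (by simpa using hx.1)
  have hcomm : ∀ x y : G, Commute x y → ∀ x' ∈ Subgroup.zpowers x, ∀ y' ∈ Subgroup.zpowers y,
      x' * y' = y' * x' := by
    rintro x y h _ ⟨i, rfl⟩ _ ⟨j, rfl⟩
    exact (h.zpow_zpow i j).eq
  have hneq : ∀ x y : G, x ∉ Subgroup.zpowers y → Subgroup.zpowers x ≠ Subgroup.zpowers y :=
    fun x y h e => h (e ▸ Subgroup.mem_zpowers x)
  have hpowp : ∀ x ∈ E, x ^ p = 1 := fun x hx => by rw [← hord x hx, pow_orderOf_eq_one]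
  obtain ⟨v, hv, hdom⟩ := exists_dominating hp E hord hconj
    (fun x hx y hy hxy hne i j hne' => by
      have hcard : Nat.card (Subgroup.zpowers (x ^ i * y ^ j)) = p := by
        rw [Nat.card_zpowers]
        refine orderOf_eq_prime ?_ hne'
        rw [(hxy.pow_pow i j).mul_pow, ← pow_mul, ← pow_mul, mul_comm i, mul_comm j, pow_mul,
          pow_mul, hpowp x hx, hpowp y hy, one_pow, one_pow, one_mul]
      refine ⟨hne', ha _ hx.2 _ hy.2 (hneq x y hne) (hcomm x y hxy) _ ?_ hcard⟩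
      exact Subgroup.zpowers_le.mpr (Subgroup.mul_mem_sup (pow_mem (Subgroup.mem_zpowers x) i)
        (pow_mem (Subgroup.mem_zpowers y) j)))
    (fun x hx y hy hxy hne w hw => by
      obtain ⟨⟨t, ht⟩, ht1⟩ := Subgroup.ne_bot_iff_exists_ne_one.mp
        (hb _ hx.2 _ hy.2 (hneq x y hne) (hcomm x y hxy) _ hw.2)
      have hle : Subgroup.zpowers x ⊔ Subgroup.zpowers y ≤ Subgroup.closure {x, y} :=
        sup_le (Subgroup.zpowers_le.mpr (Subgroup.subset_closure (Or.inl rfl)))
          (Subgroup.zpowers_le.mpr (Subgroup.subset_closure (Or.inr rfl)))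
      have hmem : ∀ s ∈ Subgroup.closure ({x, y} : Set G), ∃ i j : ℕ, s = x ^ i * y ^ j := by
        intro s hs
        induction hs using Subgroup.closure_induction with
        | mem s hs =>
          rcases hs with rfl | rfl
          · exact ⟨1, 0, by simp⟩
          · exact ⟨0, 1, by simp⟩
        | one => exact ⟨0, 0, by simp⟩
        | mul s t _ _ hs' ht' =>
          obtain ⟨i, j, rfl⟩ := hs'
          obtain ⟨k, l, rfl⟩ := ht'
          refine ⟨i + k, j + l, ?_⟩
          rw [pow_add, pow_add, mul_assoc (x ^ i), ← mul_assoc (y ^ j),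
            (hxy.symm.pow_pow j k).eq]
          group
        | inv s _ hs' =>
          obtain ⟨i, j, rfl⟩ := hs'
          refine ⟨(p - 1) * i, (p - 1) * j, ?_⟩
          refine inv_eq_of_mul_eq_one_right ?_
          rw [mul_assoc (x ^ i), ← mul_assoc (y ^ j), (hxy.symm.pow_pow j ((p - 1) * i)).eq,
            mul_assoc, ← pow_add, ← mul_assoc, ← pow_add]
          have e : ∀ k, k + (p - 1) * k = p * k := fun k => by
            conv_rhs => rw [← Nat.sub_add_cancel hp.one_le, add_mul, one_mul]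
            exact add_comm _ _
          rw [e, e, pow_mul, pow_mul, hpowp x hx, hpowp y hy, one_pow, one_pow, one_mul]
      obtain ⟨i, j, e⟩ := hmem t (hle ht.1)
      refine ⟨i, j, ?_, ?_⟩
      · rw [← e]; exact fun h => ht1 (Subtype.ext h)
      · rw [← e]; exact (ht.2 w (Subgroup.mem_zpowers w)).symm)
    (by
      obtain ⟨X, hX, Y, hY, hne, hxy⟩ := hex
      have hX2 : 1 < Nat.card X := by rw [hK X hX]; exact hp.one_lt
      have hY2 : 1 < Nat.card Y := by rw [hK Y hY]; exact hp.one_lt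
      have := Finite.one_lt_card_iff_nontrivial.mp hX2
      have := Finite.one_lt_card_iff_nontrivial.mp hY2
      obtain ⟨⟨x, hx⟩, hx1⟩ := exists_ne (1 : X)
      obtain ⟨⟨y, hy⟩, hy1⟩ := exists_ne (1 : Y)
      have hx1' : x ≠ 1 := fun e => hx1 (Subtype.ext e)
      have hy1' : y ≠ 1 := fun e => hy1 (Subtype.ext e)
      refine ⟨x, hmemE X hX x hx hx1', y, hmemE Y hY y hy hy1', hxy x hx y hy, fun h => hne ?_⟩
      rw [zpowers_gen hp (hK Y hY) hy hy1'] at h
      rw [← zpowers_gen hp (hK X hX) hx hx1', zpowers_gen hp (hK Y hY) h hx1'])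
  -- `v` lies in a normal abelian `p`-subgroup
  set N := Subgroup.closure (Set.range fun g : G => g * v * g⁻¹) with hN
  have hNn : N.Normal := by
    refine ⟨fun n hn g => ?_⟩
    have h1 : N.map (MulAut.conj g).toMonoidHom ≤ N := by
      rw [hN, MonoidHom.map_closure, Subgroup.closure_le]
      rintro _ ⟨_, ⟨h, rfl⟩, rfl⟩
      exact Subgroup.subset_closure ⟨g * h, by simp [mul_assoc]⟩
    exact h1 ⟨n, hn, rfl⟩
  have hcN : ∀ n ∈ N, ∀ m ∈ N, Commute n m := by
    have h1 : ∀ n ∈ N, ∀ e ∈ E, Commute n e := by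
      intro n hn e he
      induction hn using Subgroup.closure_induction with
      | mem s hs =>
        obtain ⟨g, rfl⟩ := hs
        have := (hdom _ (hconj e he g⁻¹)).map (MulAut.conj g).toMonoidHom
        simpa [mul_assoc] using this
      | one => exact Commute.one_left e
      | mul s t _ _ hs ht => exact hs.mul_left ht
      | inv s _ hs => exact hs.inv_left
    intro n hn m hm
    induction hm using Subgroup.closure_induction with
    | mem s hs => obtain ⟨g, rfl⟩ := hs; exact h1 n hn _ (hconj v hv g)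
    | one => exact Commute.one_right n
    | mul s t _ _ hs ht => exact hs.mul_right ht
    | inv s _ hs => exact hs.inv_right
  have hNp : IsPGroup p N := by
    rintro ⟨n, hn⟩
    refine ⟨1, Subtype.ext ?_⟩
    rw [pow_one, SubgroupClass.coe_pow]
    show n ^ p = 1
    induction hn using Subgroup.closure_induction with
    | mem s hs => obtain ⟨g, rfl⟩ := hs; exact hpowp _ (hconj v hv g)
    | one => exact one_pow _
    | mul s t hs ht hs' ht' => rw [(hcN s hs t ht).mul_pow, hs', ht', one_mul]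
    | inv s _ hs' => rw [inv_pow, hs', inv_one]
  have hvN : v ∈ N := Subgroup.subset_closure ⟨1, by simp⟩
  refine ⟨⟨_, hv.2, ?_, ?_⟩, fun hs => ?_⟩
  · intro W hW a ha' b hb'
    by_cases hb1 : b = 1
    · simp [hb1]
    exact hcomm v b (hdom b (hmemE W hW b hb' hb1)) a ha' b (Subgroup.mem_zpowers b)
  · exact (Subgroup.zpowers_le.mpr hvN).trans (le_sSup ⟨hNn, hNp⟩)
  · have hbot : N ≠ ⊥ := fun e => hv.1 (Subgroup.mem_bot.mp (e ▸ hvN))
    have htop := (hs.eq_bot_or_eq_top_of_normal N hNn).resolve_left hbot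
    have hall : ∀ a b : G, Commute a b := fun a b =>
      hcN a (htop ▸ Subgroup.mem_top a) b (htop ▸ Subgroup.mem_top b)
    obtain ⟨X, hX, Y, hY, hne, -⟩ := hex
    have hXn : ∀ Z ∈ K, Z = (⊤ : Subgroup G) := by
      intro Z hZ
      have hZn : Z.Normal := ⟨fun n hn g => by rwa [(hall g n).eq, mul_inv_cancel_right]⟩
      refine (hs.eq_bot_or_eq_top_of_normal Z hZn).resolve_left fun e => ?_
      have := hK Z hZ
      rw [e, Subgroup.card_bot] at this
      exact hp.ne_one this.symm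
    exact hne ((hXn X hX).trans (hXn Y hY).symm)

end Cfsg.Agent.S3196
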