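import Cfsg.Statements.S3197
import Cfsg.Agent.Lib.A8Classes.CentB

set_option autoImplicit false
open Cfsg

namespace Cfsg.Agent.S3197

/-- Let G be a finite group whose Sylow 2-subgroups are isomorphic to those of the alternating group of degree 8, with exactly three conjugacy classes of involutions, and containing an elementary abelian subgroup A of order 16 whose normalizer N satisfies: A·O(N) is normal in N with quotient N/(A·O(N)) isomorphic to the alternating group of degree 5, O(N) being the largest normal subgroup of odd order of N. Then A·O(G) is a normal subgroup of G. -/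
theorem result {G : Type*} [Group G] [Finite G]
    (S : Sylow 2 G) (P : Sylow 2 ↥(alternatingGroup (Fin 8)))
    (hS : Nonempty (↥(S : Subgroup G) ≃* ↥(P : Subgroup ↥(alternatingGroup (Fin 8)))))
    (h3 : Nat.card {c : ConjClasses G // ∃ x ∈ c.carrier, orderOf x = 2} = 3)
    (A : Subgroup G) (hA : Cfsg.IsElementaryAbelian 2 A) (hA16 : Nat.card ↥A = 16)
    (N : Subgroup G) (hN : N = Subgroup.normalizer (A : Set G))
    (hNA : ∃ (_ : (A.subgroupOf N ⊔ Cfsg.oddCore ↥N).Normal),
      Nonempty (↥N ⧸ (A.subgroupOf N ⊔ Cfsg.oddCore ↥N) ≃* ↥(alternatingGroup (Fin 5)))) :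
    (A ⊔ Cfsg.oddCore G).Normal := by
  subst hN
  obtain ⟨hn, ⟨e⟩⟩ := hNA
  obtain ⟨M, hM⟩ := CfsgA8C.exists_model S P hS h3 A hA hA16 hn e
  subst hM
  have hctl := M.global
  have hcore : CfsgA8C.core (⊤ : Subgroup G) ≤ Cfsg.oddCore G := by
    haveI : (CfsgA8C.core (⊤ : Subgroup G)).Normal :=
      ⟨fun o ho g => CfsgA8C.core_conj_mem (Subgroup.mem_top g) ho⟩
    exact CfsgLib.le_oddCore (CfsgA8C.core_odd _)
  refine ⟨fun x hx g => ?_⟩
  obtain ⟨n, hn', o, ho, rfl⟩ := hctl g (Subgroup.mem_top _)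
  have ho' : o ∈ M.A ⊔ Cfsg.oddCore G := Subgroup.mem_sup_right (hcore ho)
  have h1 : o * x * o⁻¹ ∈ M.A ⊔ Cfsg.oddCore G := mul_mem (mul_mem ho' hx) (inv_mem ho')
  obtain ⟨a, ha, c, hc, h2⟩ := Subgroup.mem_sup_of_normal_right.mp h1
  rw [show n * o * x * (n * o)⁻¹ = n * (o * x * o⁻¹) * n⁻¹ by group, ← h2,
    show n * (a * c) * n⁻¹ = n * a * n⁻¹ * (n * c * n⁻¹) by group]
  exact mul_mem (Subgroup.mem_sup_left ((Subgroup.mem_normalizer_iff.mp hn' a).mp ha))
    (Subgroup.mem_sup_right ((inferInstance : (Cfsg.oddCore G).Normal).conj_mem c hc n))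

end Cfsg.Agent.S3197
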