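import Cfsg.Statements.S3199
import Cfsg.Agent.Lib.JTwoType.Unique
import Cfsg.Agent.Lib.JTwoType.InJTwo

set_option autoImplicit false
open Cfsg

namespace Cfsg.Agent.S3199

/-- Let G be a finite group with no normal subgroup of index 2 whose Sylow 2-subgroups are isomorphic to those of the Hall–Janko group J₂, and let z be an involution central in a Sylow 2-subgroup of G. Then the centralizer of z modulo its largest normal subgroup of odd order is isomorphic to the centralizer of a 2-central involution in J₂ or to the centralizer of a 2-central involution in the third Janko group J₃. -/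
theorem result {G : Type*} [Group G] [Finite G]
    (S : Sylow 2 G) (P : Sylow 2 Cfsg.Spor.J2) (hS : Nonempty (↥(S : Subgroup G) ≃* ↥(P : Subgroup Cfsg.Spor.J2)))
    (h2 : ∀ H : Subgroup G, H.Normal → H.index ≠ 2)
    (z : G) (hz : orderOf z = 2) (hzS : z ∈ (S : Subgroup G)) (hzc : ∀ s ∈ (S : Subgroup G), s * z = z * s) :
    (∃ (z' : Cfsg.Spor.J2) (Q : Sylow 2 Cfsg.Spor.J2), orderOf z' = 2 ∧ z' ∈ (Q : Subgroup Cfsg.Spor.J2) ∧
        (∀ s ∈ (Q : Subgroup Cfsg.Spor.J2), s * z' = z' * s) ∧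
        Nonempty ((↥(Subgroup.centralizer ({z} : Set G)) ⧸ Cfsg.oddCore ↥(Subgroup.centralizer ({z} : Set G))) ≃*
          ↥(Subgroup.centralizer ({z'} : Set Cfsg.Spor.J2)))) ∨
      (∃ (F : Type) (_ : Field F) (_ : Fintype F) (ω : F), Fintype.card F = 4 ∧ ω ^ 2 + ω + 1 = 0 ∧
        ∃ (z' : Cfsg.Spor.J3 F ω) (Q : Sylow 2 (Cfsg.Spor.J3 F ω)), orderOf z' = 2 ∧ z' ∈ (Q : Subgroup (Cfsg.Spor.J3 F ω)) ∧
          (∀ s ∈ (Q : Subgroup (Cfsg.Spor.J3 F ω)), s * z' = z' * s) ∧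
          Nonempty ((↥(Subgroup.centralizer ({z} : Set G)) ⧸ Cfsg.oddCore ↥(Subgroup.centralizer ({z} : Set G))) ≃*
            ↥(Subgroup.centralizer ({z'} : Set (Cfsg.Spor.J3 F ω))))) := by
  obtain ⟨e₁⟩ := CfsgJTwo.sylow_iso P
  obtain ⟨e₀⟩ := hS
  let D := CfsgJTwo.Emb.ofEquiv S (e₀.trans e₁)
  obtain rfl : z = D.ι CfsgJTwo.W.z := D.eq_z hz hzS hzc
  obtain ⟨hfin, D', hO'⟩ := CfsgJTwo.exists_J2
  obtain ⟨φ⟩ := CfsgJTwo.Ctx.nonempty_iso (D.ctx h2) (D'.ctx CfsgJTwo.J2_not_two)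
  refine Or.inl ⟨D'.ι CfsgJTwo.W.z, D'.T, ?_, D'.mem_T _, ?_,
    ⟨φ.trans ((QuotientGroup.quotientMulEquivOfEq hO').trans QuotientGroup.quotientBot)⟩⟩
  · exact orderOf_eq_prime (by rw [pow_two, ← map_mul, CfsgJTwo.W.z_sq, map_one]) (D'.ne_one CfsgJTwo.W.z_ne)
  · intro s hs
    obtain ⟨w, rfl⟩ := D'.exists_pre hs
    exact D'.comm_iff.mpr (CfsgJTwo.W.z_central w).symm

end Cfsg.Agent.S3199
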