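import Cfsg.Statements.S3200
import Mathlib
import Cfsg.Agent.Lib.SmallOrder
import Cfsg.Agent.Lib.HallSolvable
import Cfsg.Agent.Lib.PRegularClass

set_option autoImplicit false
open Cfsg
open scoped Pointwise

namespace Cfsg.Agent.S3200

theorem complement_of_odd {G : Type*} [Group G] [Finite G] (P : Sylow 2 G) (D : Subgroup G)
    (hodd : ¬ 2 ∣ Nat.card D) (hidx : ∃ k, D.index = 2 ^ k) : Subgroup.IsComplement' (P : Subgroup G) D := by
  haveI := Fact.mk Nat.prime_two
  obtain ⟨k, hk⟩ := hidx
  have h := D.card_mul_index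
  rw [hk] at h
  have hP : Nat.card P = 2 ^ k := by
    refine CfsgLib.SmallOrder.card_sylow_eq P (h ▸ dvd_mul_left _ _) fun hd => hodd ?_
    rw [← h, pow_succ, mul_comm (2 ^ k) 2] at hd
    exact Nat.dvd_of_mul_dvd_mul_right (show 0 < 2 ^ k by positivity) hd
  refine Subgroup.isComplement'_of_coprime ?_ ?_
  · show Nat.card P * _ = _
    rw [hP, mul_comm, h]
  · show Nat.Coprime (Nat.card P) _
    rw [hP]
    exact (Nat.prime_two.coprime_iff_not_dvd.mpr hodd).pow_left k

/-- Let H be a finite group in which a Sylow 2-subgroup has an abelian complement (an abelian subgroup meeting it trivially whose product with it is all of H). Then H is solvable, and every subgroup and every quotient group of H again has a Sylow 2-subgroup with an abelian complement. -/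
theorem result {H : Type*} [Group H] [Finite H]
    (S : Sylow 2 H) (C : Subgroup H) (hC : IsMulCommutative ↥C) (hSC : Subgroup.IsComplement' (S : Subgroup H) C) :
    Group.IsSolvable H ∧
    (∀ L : Subgroup H, ∃ (P : Sylow 2 ↥L) (D : Subgroup ↥L), IsMulCommutative ↥D ∧ Subgroup.IsComplement' (P : Subgroup ↥L) D) ∧
    (∀ (N : Subgroup H) [N.Normal], ∃ (P : Sylow 2 (H ⧸ N)) (D : Subgroup (H ⧸ N)),
      IsMulCommutative ↥D ∧ Subgroup.IsComplement' (P : Subgroup (H ⧸ N)) D) := by
  classical
  haveI := Fact.mk Nat.prime_two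
  obtain ⟨k, hk⟩ := S.2.exists_card_eq
  have hCi : C.index = 2 ^ k := hSC.index_eq_card.trans hk
  have hsol : Group.IsSolvable H := CfsgLib.isSolvable_of_abelian_primePow_index Nat.prime_two H C hC ⟨k, hCi⟩
  haveI := hsol
  have hCodd : ¬ 2 ∣ Nat.card C := by
    have h1 := hSC.symm.index_eq_card
    rw [← h1]; exact S.not_dvd_index
  have hHall : ∀ K : Subgroup H, ¬ 2 ∣ Nat.card K → IsMulCommutative K := by
    intro K hK
    have hG : Nat.card H = Nat.card C * C.index := C.card_mul_index.symm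
    have hmn : (Nat.card C).Coprime C.index := by
      rw [hCi]; exact ((Nat.prime_two.coprime_iff_not_dvd.mpr hCodd).symm).pow_right k
    have hKd : Nat.card K ∣ Nat.card C := by
      have h1 : Nat.card K ∣ Nat.card C * C.index := hG ▸ Subgroup.card_subgroup_dvd_card K
      refine Nat.Coprime.dvd_of_dvd_mul_right ?_ h1
      rw [hCi]; exact ((Nat.prime_two.coprime_iff_not_dvd.mpr hK).symm).pow_right k
    obtain ⟨g, hg⟩ := (CfsgLib.hall_main hG hmn).2 C K rfl hKd
    refine ⟨⟨fun a b => Subtype.ext ?_⟩⟩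
    have ha : MulAut.conj g • (a : H) ∈ C := hg (Subgroup.smul_mem_pointwise_smul _ _ _ a.2)
    have hb : MulAut.conj g • (b : H) ∈ C := hg (Subgroup.smul_mem_pointwise_smul _ _ _ b.2)
    have hcomm := congrArg Subtype.val (hC.is_comm.comm (⟨_, ha⟩ : C) ⟨_, hb⟩)
    simp only [Subgroup.coe_mul, MulAut.smul_def, ← map_mul] at hcomm
    exact (MulAut.conj g).injective hcomm
  refine ⟨hsol, fun L => ?_, fun N _ => ?_⟩
  · obtain ⟨P⟩ : Nonempty (Sylow 2 L) := inferInstance
    haveI : Group.IsSolvable L := inferInstance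
    obtain ⟨j, hj⟩ := P.2.exists_card_eq
    have h1 := (P : Subgroup L).index_mul_card
    rw [hj] at h1
    have hodd : ¬ 2 ∣ (P : Subgroup L).index := P.not_dvd_index
    obtain ⟨D, hD⟩ := (CfsgLib.hall_main (G := L) h1.symm ((Nat.prime_two.coprime_iff_not_dvd.mpr hodd).symm.pow_right j)).1
    refine ⟨P, D, ?_, ?_⟩
    · have := hHall (D.map L.subtype) (by rw [Subgroup.card_map_of_injective L.subtype_injective, hD]; exact hodd)
      refine ⟨⟨fun a b => ?_⟩⟩
      have h2 := congrArg Subtype.val (this.is_comm.comm (⟨_, Subgroup.mem_map_of_mem _ a.2⟩ : D.map L.subtype) ⟨_, Subgroup.mem_map_of_mem _ b.2⟩)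
      exact Subtype.ext (L.subtype_injective (by rw [Subgroup.coe_mul, map_mul, Subgroup.coe_mul, map_mul]; exact h2))
    · refine complement_of_odd P D (by rw [hD]; exact hodd) ⟨j, ?_⟩
      have h3 := D.card_mul_index
      rw [hD, ← h1] at h3
      exact Nat.eq_of_mul_eq_mul_left (Nat.pos_of_ne_zero Subgroup.index_ne_zero_of_finite) h3
  · haveI := hC
    obtain ⟨P⟩ : Nonempty (Sylow 2 (H ⧸ N)) := inferInstance
    refine ⟨P, C.map (QuotientGroup.mk' N), inferInstance, complement_of_odd P _ ?_ ?_⟩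
    · exact fun hd => hCodd (hd.trans (Subgroup.card_map_dvd _ _))
    · obtain ⟨j, -, hj⟩ := (Nat.dvd_prime_pow Nat.prime_two).mp (hCi ▸ Subgroup.index_map_dvd C (QuotientGroup.mk'_surjective N))
      exact ⟨j, hj⟩

end Cfsg.Agent.S3200
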