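import Cfsg.Statements.S3201
import Mathlib
import Cfsg.Agent.Lib.Frobenius.UniqueSubgroup
import Cfsg.Agent.Lib.QuatHom
import Cfsg.Agent.Lib.Elementary

set_option autoImplicit false
open Cfsg

namespace Cfsg.Agent.S3201


theorem quat_of_unique {S : Type*} [Group S] [Finite S] (hS : IsPGroup 2 S) (hna : ¬ IsMulCommutative S)
    (hu : ∃! x : S, orderOf x = 2) : ∃ n : ℕ, Nonempty (S ≃* QuaternionGroup (2 ^ n)) := by
  have : Fact (Nat.Prime 2) := ⟨Nat.prime_two⟩
  have hU : CfsgLib.Frob.UniqSub 2 S := by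
    intro H K hH hK
    obtain ⟨x, hx⟩ := (isCyclic_of_prime_card (α := H) hH).exists_generator
    obtain ⟨y, hy⟩ := (isCyclic_of_prime_card (α := K) hK).exists_generator
    have hxo : orderOf (x : S) = 2 := by rw [orderOf_submonoid, orderOf_eq_card_of_forall_mem_zpowers hx, hH]
    have hyo : orderOf (y : S) = 2 := by rw [orderOf_submonoid, orderOf_eq_card_of_forall_mem_zpowers hy, hK]
    have e := hu.unique hxo hyo
    rw [← Subgroup.eq_of_le_of_card_ge (Subgroup.zpowers_le.2 x.2) (by rw [hH, Nat.card_zpowers, hxo]),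
      ← Subgroup.eq_of_le_of_card_ge (Subgroup.zpowers_le.2 y.2) (by rw [hK, Nat.card_zpowers, hyo]), e]
  rcases CfsgLib.Frob.cyclic_or_quaternion_two hS hU with h | h
  · exact absurd (IsCyclic.isMulCommutative) hna
  · exact h

theorem mem_closure_ab {n : ℕ} [NeZero n] {T : Subgroup (QuaternionGroup n)} (h1 : QuaternionGroup.a 1 ∈ T)
    (h2 : QuaternionGroup.xa 0 ∈ T) : T = ⊤ := by
  haveI : NeZero (2 * n) := ⟨by have := NeZero.ne n; omega⟩
  rw [eq_top_iff]
  intro x _
  have ha : ∀ i : ZMod (2 * n), QuaternionGroup.a i ∈ T := fun i => by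
    have h := pow_mem h1 i.val
    rwa [QuaternionGroup.a_one_pow, ZMod.natCast_val, ZMod.cast_id] at h
  cases x with
  | a i => exact ha i
  | xa i =>
    have h := mul_mem h2 (ha i)
    rwa [QuaternionGroup.xa_mul_a, zero_add] at h

theorem quat_one_comm : ∀ p q : QuaternionGroup (2 ^ 0), p * q = q * p := by decide


/-- Let S be a finite 2-group whose centre Z(S) has n ≥ 2 distinct maximal subgroups C₁, …, Cₙ with trivial intersection such that each quotient S/Cᵢ is a non-abelian group with exactly one involution (a generalized quaternion group). Then S is the internal direct product of an elementary abelian subgroup and a non-abelian subgroup with exactly one involution. -/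
theorem result {S : Type*} [Group S] [Finite S]
    (hS : IsPGroup 2 S) (n : ℕ) (hn : 2 ≤ n) (C : Fin n → Subgroup ↥(Subgroup.center S))
    (hCmax : ∀ i, IsCoatom (C i)) (hCinj : Function.Injective C) (hCint : ⨅ i, C i = ⊥)
    (hCq : ∀ i, ∃ (_ : ((C i).map (Subgroup.center S).subtype).Normal),
      ¬ IsMulCommutative (S ⧸ (C i).map (Subgroup.center S).subtype) ∧
      ∃! x : S ⧸ (C i).map (Subgroup.center S).subtype, orderOf x = 2) :
    ∃ E Q : Subgroup S, Cfsg.IsInternalDirectProduct E Q ⊤ ∧ Cfsg.IsElementaryAbelian 2 E ∧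
      ¬ IsMulCommutative ↥Q ∧ ∃! x : ↥Q, orderOf x = 2 := by
  classical
  haveI : Fact (Nat.Prime 2) := ⟨Nat.prime_two⟩
  have h2Z : IsPGroup 2 (Subgroup.center S) := hS.to_subgroup _
  have hidx : ∀ i, (C i).index = 2 := fun i => (CfsgLib.index_coatom_pGroup h2Z (hCmax i)).2
  have hmul : ∀ i (u v : Subgroup.center S), u ∉ C i → v ∉ C i → u * v ∈ C i := fun i u v hu hv =>
    (Subgroup.mul_mem_iff_of_index_two (hidx i)).2 (iff_of_false hu hv)
  have hext : ∀ u v : Subgroup.center S, (∀ i, u ∈ C i ↔ v ∈ C i) → u = v := by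
    intro u v h
    have h1 : u⁻¹ * v ∈ ⨅ i, C i := Subgroup.mem_iInf.2 fun i =>
      (Subgroup.mul_mem_iff_of_index_two (hidx i)).2 (by rw [inv_mem_iff]; exact h i)
    rw [hCint, Subgroup.mem_bot, inv_mul_eq_one] at h1
    exact h1
  have hZ2 : ∀ z : Subgroup.center S, z * z = 1 := fun z => hext _ _ fun i =>
    iff_of_true ((Subgroup.mul_mem_iff_of_index_two (hidx i)).2 Iff.rfl) (one_mem _)
  -- square roots in `S \ Z` of central elements
  have hsqr : ∀ x : S, x ∉ Subgroup.center S → ∀ hx : x * x ∈ Subgroup.center S, ∀ i, (⟨x * x, hx⟩ : Subgroup.center S) ∉ C i := by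
    intro x hxZ hx i hmem
    obtain ⟨hN, -, hu⟩ := hCq i
    set K := (C i).map (Subgroup.center S).subtype
    haveI := hN
    have hlift : ∀ w : S, w ∈ K → w ∈ Subgroup.center S := by rintro w ⟨y, -, rfl⟩; exact y.2
    obtain ⟨z, hz⟩ : ∃ z : Subgroup.center S, z ∉ C i := by
      by_contra h
      exact (hCmax i).1 (eq_top_iff.2 fun z _ => by by_contra hz; exact h ⟨z, hz⟩)
    have ho1 : orderOf (QuotientGroup.mk' K x) = 2 := by
      refine orderOf_eq_prime ?_ fun h1 => hxZ (hlift x ((QuotientGroup.eq_one_iff x).1 h1))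
      rw [pow_two, ← map_mul]
      exact (QuotientGroup.eq_one_iff _).2 ⟨_, hmem, rfl⟩
    have ho2 : orderOf (QuotientGroup.mk' K (z : S)) = 2 := by
      refine orderOf_eq_prime ?_ fun h1 => ?_
      · rw [pow_two, ← map_mul, ← Subgroup.coe_mul, hZ2, Subgroup.coe_one, map_one]
      · obtain ⟨y, hy, hyz⟩ := (QuotientGroup.eq_one_iff (z : S)).1 h1
        exact hz ((Subtype.ext hyz : y = z) ▸ hy)
    have h1 := hu.unique ho1 ho2
    have h2 : (z : S)⁻¹ * x ∈ Subgroup.center S :=
      hlift _ ((QuotientGroup.eq_one_iff _).1 (show QuotientGroup.mk' K ((z : S)⁻¹ * x) = 1 by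
        rw [map_mul, map_inv, h1, inv_mul_cancel]))
    exact hxZ (by simpa using mul_mem z.2 h2)
  have hsame : ∀ x y : S, x ∉ Subgroup.center S → y ∉ Subgroup.center S → x * x ∈ Subgroup.center S →
      y * y ∈ Subgroup.center S → x * x = y * y := fun x y hx hy hxx hyy =>
    congrArg Subtype.val (hext ⟨x * x, hxx⟩ ⟨y * y, hyy⟩ fun i => iff_of_false (hsqr x hx hxx i) (hsqr y hy hyy i))
  -- work modulo one of the `C i`
  set j : Fin n := ⟨0, by omega⟩
  obtain ⟨hN, hna, hu⟩ := hCq j
  set K := (C j).map (Subgroup.center S).subtype with hK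
  haveI := hN
  obtain ⟨m, ⟨e⟩⟩ := quat_of_unique (hS.to_quotient K) hna hu
  have hm0 : m ≠ 0 := by
    rintro rfl
    refine hna ⟨⟨fun x y => ?_⟩⟩
    apply e.injective
    rw [map_mul, map_mul]
    generalize e x = p
    generalize e y = q
    revert p q
    exact quat_one_comm
  obtain ⟨k, rfl⟩ : ∃ k, m = k + 1 := ⟨m - 1, by omega⟩
  set N := 2 ^ (k + 1) with hNdef
  haveI : NeZero N := ⟨pow_ne_zero _ two_ne_zero⟩
  haveI : NeZero (2 * N) := ⟨by have := NeZero.ne N; omega⟩
  have hN2 : N = 2 ^ k + 2 ^ k := by rw [hNdef, pow_succ]; omega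
  let φ : S →* QuaternionGroup N := e.toMonoidHom.comp (QuotientGroup.mk' K)
  have hφ : Function.Surjective φ := e.surjective.comp (QuotientGroup.mk'_surjective K)
  have hker : ∀ {x}, φ x = 1 → x ∈ K := fun {x} hx => (QuotientGroup.eq_one_iff x).1 (e.map_eq_one_iff.1 hx)
  have hKZ : ∀ {x}, x ∈ K → x ∈ Subgroup.center S := by rintro _ ⟨y, -, rfl⟩; exact y.2
  have hcen : ∀ {x}, x ∈ Subgroup.center S → ∀ q, φ x * q = q * φ x := fun {x} hx q => by
    obtain ⟨y, rfl⟩ := hφ q
    rw [← map_mul, ← map_mul, Subgroup.mem_center_iff.1 hx y]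
  obtain ⟨z, hz⟩ : ∃ z : Subgroup.center S, z ∉ C j := by
    by_contra h
    exact (hCmax j).1 (eq_top_iff.2 fun z _ => by by_contra hz; exact h ⟨z, hz⟩)
  -- the central involution of the quotient comes from `Z`
  have hφz : φ (z : S) = QuaternionGroup.a (N : ZMod (2 * N)) := by
    have hne : (N : ZMod (2 * N)) ≠ 0 := by
      intro h
      rw [ZMod.natCast_eq_zero_iff] at h
      have := Nat.le_of_dvd (Nat.pos_of_ne_zero (NeZero.ne N)) h
      have := Nat.pos_of_ne_zero (NeZero.ne N)
      omega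
    have hφK : φ (z : S) ≠ 1 := fun h1 => by
      obtain ⟨y, hy, hyz⟩ := hker h1
      exact hz ((Subtype.ext hyz : y = z) ▸ hy)
    apply e.symm.injective
    show e.symm (e (QuotientGroup.mk' K (z : S))) = _
    rw [e.symm_apply_apply]
    refine hu.unique ?_ ?_
    · refine orderOf_eq_prime ?_ fun h1 => hφK ?_
      · rw [pow_two, ← map_mul, ← Subgroup.coe_mul, hZ2, Subgroup.coe_one, map_one]
      · show e (QuotientGroup.mk' K (z : S)) = 1
        rw [h1, map_one]
    · rw [show orderOf (e.symm (QuaternionGroup.a (N : ZMod (2 * N)))) = orderOf (QuaternionGroup.a (N : ZMod (2 * N))) from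
          orderOf_injective e.symm.toMonoidHom e.symm.injective _]
      refine orderOf_eq_prime ?_ fun h1 => hne (by rw [QuaternionGroup.one_def] at h1; exact QuaternionGroup.a.inj h1)
      rw [pow_two, QuaternionGroup.a_mul_a, ← Nat.cast_add, ← two_mul, ZMod.natCast_self, QuaternionGroup.one_def]
  have hinZ : ∀ x, φ x = QuaternionGroup.a (N : ZMod (2 * N)) → x ∈ Subgroup.center S := by
    intro x hx
    have h1 : (z : S)⁻¹ * x ∈ Subgroup.center S := hKZ (hker (by rw [map_mul, map_inv, hφz, hx, inv_mul_cancel]))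
    simpa using mul_mem z.2 h1
  obtain ⟨a, ha⟩ := hφ (QuaternionGroup.a 1)
  obtain ⟨b, hb⟩ := hφ (QuaternionGroup.xa 0)
  have hxaZ : ∀ x i, φ x = QuaternionGroup.xa i → x ∉ Subgroup.center S := by
    intro x i hx hxZ
    have h1 := hcen hxZ (QuaternionGroup.a 1)
    rw [hx, QuaternionGroup.xa_mul_a, QuaternionGroup.a_mul_xa, QuaternionGroup.xa.injEq] at h1
    have h3 : ((2 : ℕ) : ZMod (2 * N)) = 0 := by push_cast; linear_combination h1
    rw [ZMod.natCast_eq_zero_iff] at h3
    have := Nat.le_of_dvd (by norm_num) h3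
    have := hN2
    have := Nat.one_le_two_pow (n := k)
    omega
  -- the roots
  set a' := a ^ (2 ^ k) with ha'
  have hφa' : φ a' = QuaternionGroup.a ((2 ^ k : ℕ) : ZMod (2 * N)) := by
    rw [ha', map_pow, ha, QuaternionGroup.a_one_pow]
  have ha'a' : a' * a' ∈ Subgroup.center S := hinZ _ (by
    rw [map_mul, hφa', QuaternionGroup.a_mul_a, ← Nat.cast_add, ← hN2])
  have ha'Z : a' ∉ Subgroup.center S := by
    intro h
    have h1 : φ (a' * a') = 1 := by
      rw [show a' * a' = ((⟨a', h⟩ * ⟨a', h⟩ : Subgroup.center S) : S) from rfl, hZ2, Subgroup.coe_one, map_one]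
    rw [map_mul, hφa', QuaternionGroup.a_mul_a, ← Nat.cast_add, ← hN2, QuaternionGroup.one_def, QuaternionGroup.a.injEq,
      ZMod.natCast_eq_zero_iff] at h1
    have := Nat.le_of_dvd (Nat.pos_of_ne_zero (NeZero.ne N)) h1
    have := Nat.pos_of_ne_zero (NeZero.ne N)
    omega
  have hbb : b * b ∈ Subgroup.center S := hinZ _ (by rw [map_mul, hb, QuaternionGroup.xa_mul_xa, add_zero, sub_zero])
  have hφab : φ (a * b) = QuaternionGroup.xa (-1) := by rw [map_mul, ha, hb, QuaternionGroup.a_mul_xa, zero_sub]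
  have habab : a * b * (a * b) ∈ Subgroup.center S := hinZ _ (by
    rw [map_mul, hφab, QuaternionGroup.xa_mul_xa, add_sub_assoc, sub_self, add_zero])
  have hbZ := hxaZ b 0 hb
  have habZ := hxaZ (a * b) _ hφab
  have haN : a ^ N = b * b := by
    rw [hN2, pow_add]
    exact hsame a' b ha'Z hbZ ha'a' hbb
  have h2N : a ^ (2 * N) = 1 := by
    rw [two_mul, pow_add, haN]
    have h1 := congrArg Subtype.val (hZ2 ⟨b * b, hbb⟩)
    simpa using h1
  have hba : b * a * b⁻¹ = a⁻¹ := by
    have h1 : a * b * (a * b) = b * b := hsame _ b habZ hbZ habab hbb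
    have h2 : a * b * a = b := mul_right_cancel (b := b) (by rw [← h1]; group)
    calc b * a * b⁻¹ = a⁻¹ * (a * b * a) * b⁻¹ := by group
      _ = a⁻¹ := by rw [h2, mul_inv_cancel_right]
  let ψ := CfsgLib.Quat.hom (n := N) a b h2N haN.symm hba
  have hsec : ∀ q, φ (ψ q) = q := by
    have h1 : φ.comp ψ = MonoidHom.id _ := by
      have ht : (φ.comp ψ).eqLocus (MonoidHom.id _) = ⊤ := by
        refine mem_closure_ab ?_ ?_
        · show φ (CfsgLib.Quat.powMap a N 1) = QuaternionGroup.a 1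
          rw [← Int.cast_one, CfsgLib.Quat.powMap_intCast h2N, zpow_one, ha, Int.cast_one]
        · show φ (b * CfsgLib.Quat.powMap a N 0) = QuaternionGroup.xa 0
          rw [← Int.cast_zero, CfsgLib.Quat.powMap_intCast h2N, zpow_zero, mul_one, hb, Int.cast_zero]
      exact MonoidHom.ext fun q => (ht ▸ Subgroup.mem_top q : q ∈ (φ.comp ψ).eqLocus (MonoidHom.id _))
    exact fun q => DFunLike.congr_fun h1 q
  refine ⟨K, ψ.range, ⟨le_top, le_top, ?_, ?_, ?_⟩, ⟨⟨⟨?_⟩⟩, ?_⟩, ?_, ?_⟩
  · intro x hx y _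
    exact (Subgroup.mem_center_iff.1 (hKZ hx) y).symm
  · rw [eq_bot_iff]
    rintro _ ⟨hx, q, rfl⟩
    have h1 : φ (ψ q) = 1 := by
      show e (QuotientGroup.mk' K (ψ q)) = 1
      rw [show QuotientGroup.mk' K (ψ q) = 1 from (QuotientGroup.eq_one_iff _).2 hx, map_one]
    rw [hsec] at h1
    rw [h1, map_one]
    exact one_mem _
  · rw [eq_top_iff]
    intro x _
    have h1 : x * (ψ (φ x))⁻¹ ∈ K := hker (by rw [map_mul, map_inv, hsec, mul_inv_cancel])
    simpa using Subgroup.mul_mem_sup h1 (show ψ (φ x) ∈ ψ.range from ⟨_, rfl⟩)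
  · intro x y
    exact Subtype.ext (Subgroup.mem_center_iff.1 (hKZ x.2) y).symm
  · rintro _ ⟨y, -, rfl⟩
    rw [pow_two]
    exact congrArg Subtype.val (hZ2 y)
  · intro h
    refine hna ⟨⟨fun p q => e.injective ?_⟩⟩
    have h1 := congrArg Subtype.val (h.is_comm.comm (⟨ψ (e p), ⟨_, rfl⟩⟩ : ψ.range) ⟨ψ (e q), ⟨_, rfl⟩⟩)
    have h2 : φ (ψ (e p) * ψ (e q)) = φ (ψ (e q) * ψ (e p)) := congrArg φ h1
    simpa [hsec] using h2
  · have hinj : Function.Injective ψ := fun p q h => by rw [← hsec p, ← hsec q, h]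
    let E := (e.trans (MonoidHom.ofInjective hinj))
    refine existsUnique_of_exists_of_unique ⟨E hu.choose, ?_⟩ ?_
    · show orderOf (E hu.choose) = 2
      rw [show orderOf (E hu.choose) = orderOf hu.choose from orderOf_injective E.toMonoidHom E.injective _]
      exact hu.choose_spec.1
    · intro p q hp hq
      apply E.symm.injective
      refine hu.unique ?_ ?_
      · rw [show orderOf (E.symm p) = orderOf p from orderOf_injective E.symm.toMonoidHom E.symm.injective _]; exact hp
      · rw [show orderOf (E.symm q) = orderOf q from orderOf_injective E.symm.toMonoidHom E.symm.injective _]; exact hq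

end Cfsg.Agent.S3201
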