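import Cfsg.Statements.S3202
import Mathlib
import Cfsg.Agent.Lib.Frobenius.UniqueSubgroup

set_option autoImplicit false
open Cfsg

namespace Cfsg.Agent.S3202

open scoped commutatorElement

theorem quat_of_unique {S : Type*} [Group S] [Finite S] (hS : IsPGroup 2 S) (hna : ¬ IsMulCommutative S)
    (hu : ∃! x : S, orderOf x = 2) : ∃ n : ℕ, Nonempty (S ≃* QuaternionGroup (2 ^ n)) := by
  have : Fact (Nat.Prime 2) := ⟨Nat.prime_two⟩
  have hU : CfsgLib.Frob.UniqSub 2 S := by
    intro H K hH hK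
    obtain ⟨x, hx⟩ := (isCyclic_of_prime_card (α := H) hH).exists_generator
    obtain ⟨y, hy⟩ := (isCyclic_of_prime_card (α := K) hK).exists_generator
    have hxo : orderOf (x : S) = 2 := by rw [orderOf_submonoid, orderOf_eq_card_of_forall_mem_zpowers hx, hH]
    have hyo : orderOf (y : S) = 2 := by rw [orderOf_submonoid, orderOf_eq_card_of_forall_mem_zpowers hy, hK]
    have e := hu.unique hxo hyo
    rw [← Subgroup.eq_of_le_of_card_ge (Subgroup.zpowers_le.2 x.2) (by rw [hH, Nat.card_zpowers, hxo]),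
      ← Subgroup.eq_of_le_of_card_ge (Subgroup.zpowers_le.2 y.2) (by rw [hK, Nat.card_zpowers, hyo]), e]
  rcases CfsgLib.Frob.cyclic_or_quaternion_two hS hU with h | h
  · exact absurd (IsCyclic.isMulCommutative) hna
  · exact h

theorem mem_closure_ab {n : ℕ} [NeZero n] {T : Subgroup (QuaternionGroup n)} (h1 : QuaternionGroup.a 1 ∈ T)
    (h2 : QuaternionGroup.xa 0 ∈ T) : T = ⊤ := by
  haveI : NeZero (2 * n) := ⟨by have := NeZero.ne n; omega⟩
  rw [eq_top_iff]
  intro x _
  have ha : ∀ i : ZMod (2 * n), QuaternionGroup.a i ∈ T := fun i => by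
    have h := pow_mem h1 i.val
    rwa [QuaternionGroup.a_one_pow, ZMod.natCast_val, ZMod.cast_id] at h
  cases x with
  | a i => exact ha i
  | xa i =>
    have h := mul_mem h2 (ha i)
    rwa [QuaternionGroup.xa_mul_a, zero_add] at h


/-- Let S be a finite 2-group of 2-rank exactly 2 and D a maximal subgroup of the centre of S such that S/D is a non-abelian group with exactly one involution (a generalized quaternion group). Then S has a nontrivial cyclic characteristic subgroup. -/
theorem result {S : Type*} [Group S]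
    [Finite S] (hS : IsPGroup 2 S) (hr2 : Cfsg.PRankLE 2 2 S) (hr1 : ¬ Cfsg.PRankLE 2 1 S)
    (D : Subgroup ↥(Subgroup.center S)) (hD : IsCoatom D)
    (hq : ∃ (_ : (D.map (Subgroup.center S).subtype).Normal),
      ¬ IsMulCommutative (S ⧸ D.map (Subgroup.center S).subtype) ∧
      ∃! x : S ⧸ D.map (Subgroup.center S).subtype, orderOf x = 2) :
    ∃ C : Subgroup S, C ≠ ⊥ ∧ IsCyclic ↥C ∧ C.Characteristic := by
  classical
  haveI : Fact (Nat.Prime 2) := ⟨Nat.prime_two⟩
  obtain ⟨hN, hna, hu⟩ := hq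
  set K := D.map (Subgroup.center S).subtype with hK
  haveI := hN
  obtain ⟨n, ⟨e⟩⟩ := quat_of_unique (hS.to_quotient K) hna hu
  haveI : NeZero (2 ^ n) := ⟨pow_ne_zero _ two_ne_zero⟩
  let φ : S →* QuaternionGroup (2 ^ n) := e.toMonoidHom.comp (QuotientGroup.mk' K)
  have hφ : Function.Surjective φ := e.surjective.comp (QuotientGroup.mk'_surjective K)
  have hker : ∀ {x}, φ x = 1 → x ∈ Subgroup.center S := by
    intro x hx
    have h1 : x ∈ K := (QuotientGroup.eq_one_iff x).1 (e.map_eq_one_iff.1 hx)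
    obtain ⟨y, -, rfl⟩ := h1
    exact y.2
  obtain ⟨a, ha⟩ := hφ (QuaternionGroup.a 1)
  obtain ⟨b, hb⟩ := hφ (QuaternionGroup.xa 0)
  have hgen : ∀ T : Subgroup S, a ∈ T → b ∈ T → Subgroup.center S ≤ T → T = ⊤ := by
    intro T hTa hTb hTz
    have h1 := mem_closure_ab (T := T.map φ) ⟨a, hTa, ha⟩ ⟨b, hTb, hb⟩
    rw [eq_top_iff]
    intro x _
    obtain ⟨t, ht, htx⟩ := (h1 ▸ Subgroup.mem_top (φ x) : φ x ∈ T.map φ)
    have h2 : t⁻¹ * x ∈ T := hTz (hker (by rw [map_mul, map_inv, htx, inv_mul_cancel]))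
    simpa using mul_mem ht h2
  -- elements mapping into `⟨a 1⟩` commute with `a`
  have hcA : ∀ x i, φ x = QuaternionGroup.a i → Commute x a := by
    intro x i hx
    haveI : NeZero (2 * 2 ^ n) := ⟨by positivity⟩
    have hz : a ^ (-(i.val : ℤ)) * x ∈ Subgroup.center S := hker (by
      rw [map_mul, map_zpow, ha, hx, zpow_neg, zpow_natCast, QuaternionGroup.a_one_pow, ZMod.natCast_val,
        ZMod.cast_id, inv_mul_cancel])
    have h1 : Commute (a ^ (-(i.val : ℤ)) * x) a := (Subgroup.mem_center_iff.1 hz a).symm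
    have h2 := ((Commute.refl a).zpow_left (i.val : ℤ)).mul_left h1
    rwa [← mul_assoc, ← zpow_add, add_neg_cancel, zpow_zero, one_mul] at h2
  set u := b * a * b⁻¹ * a⁻¹ with hu'
  have hua : Commute u a := by
    refine hcA u (-2) ?_
    rw [hu', map_mul, map_mul, map_mul, map_inv, map_inv, ha, hb]
    show QuaternionGroup.xa 0 * QuaternionGroup.a 1 * QuaternionGroup.xa (((2 ^ n : ℕ) : ZMod (2 * 2 ^ n)) + 0) * QuaternionGroup.a (-1) = _
    rw [QuaternionGroup.xa_mul_a, QuaternionGroup.xa_mul_xa, QuaternionGroup.a_mul_a]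
    congr 1
    have h0 : ((2 ^ n : ℕ) : ZMod (2 * 2 ^ n)) + ((2 ^ n : ℕ) : ZMod (2 * 2 ^ n)) = 0 := by
      rw [← Nat.cast_add, ← two_mul]; exact ZMod.natCast_self _
    linear_combination h0
  have hb2 : Commute (b * b) a := by
    refine hcA _ ((2 ^ n : ℕ) : ZMod (2 * 2 ^ n)) ?_
    rw [map_mul, hb, QuaternionGroup.xa_mul_xa, add_zero, sub_zero]
  have hubu : b * u * b⁻¹ = u⁻¹ := by
    have h1 : b * b * a * (b * b)⁻¹ = a := by rw [hb2.eq, mul_inv_cancel_right]
    calc b * u * b⁻¹ = (b * b * a * (b * b)⁻¹) * (b * a * b⁻¹)⁻¹ := by rw [hu']; group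
      _ = u⁻¹ := by rw [h1, hu']; group
  set N := Subgroup.zpowers u
  haveI hNn : N.Normal := by
    rw [← Subgroup.normalizer_eq_top_iff]
    refine hgen _ ?_ ?_ fun z hz => ?_
    · rw [Subgroup.mem_normalizer_iff]
      intro h
      constructor
      · rintro ⟨k, rfl⟩
        exact ⟨k, by rw [← (hua.zpow_left k).eq, mul_inv_cancel_right]⟩
      · rintro ⟨k, hk⟩
        refine ⟨k, ?_⟩
        calc u ^ k = a⁻¹ * (u ^ k) * a := by rw [mul_assoc, (hua.zpow_left k).eq, inv_mul_cancel_left]
          _ = h := by rw [show u ^ k = a * h * a⁻¹ from hk]; group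
    · rw [Subgroup.mem_normalizer_iff]
      intro h
      have hk' : ∀ k : ℤ, b * u ^ k * b⁻¹ = u ^ (-k) := fun k => by
        rw [← conj_zpow, hubu, inv_zpow, zpow_neg]
      constructor
      · rintro ⟨k, rfl⟩
        exact ⟨-k, (hk' k).symm⟩
      · rintro ⟨k, hk⟩
        refine ⟨-k, ?_⟩
        have h5 : b * u ^ (-k) * b⁻¹ = b * h * b⁻¹ := by rw [hk' (-k), neg_neg]; exact hk
        exact mul_left_cancel (mul_right_cancel h5)
    · rw [Subgroup.mem_normalizer_iff]
      intro h
      rw [← Subgroup.mem_center_iff.1 hz h, mul_inv_cancel_right]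
  have hle : commutator S ≤ N := by
    let q := QuotientGroup.mk' N
    have hab : Commute (q b) (q a) := by
      have h1 : q u = 1 := (QuotientGroup.eq_one_iff u).2 (Subgroup.mem_zpowers u)
      rw [hu', map_mul, map_mul, map_mul, map_inv, map_inv, mul_inv_eq_one, mul_inv_eq_iff_eq_mul] at h1
      exact h1
    have hcz : ∀ z ∈ Subgroup.center S, ∀ y, Commute (q y) (q z) := fun z hz y =>
      (show Commute y z from Subgroup.mem_center_iff.1 hz y).map q
    have key : ∀ x y, Commute (q x) (q y) := by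
      have hA : (Subgroup.centralizer {q a}).comap q = ⊤ := hgen _
        (Subgroup.mem_comap.2 (Subgroup.mem_centralizer_singleton_iff.2 rfl))
        (Subgroup.mem_comap.2 (Subgroup.mem_centralizer_singleton_iff.2 hab.eq))
        (fun z hz => Subgroup.mem_comap.2 (Subgroup.mem_centralizer_singleton_iff.2 (hcz z hz a).symm.eq))
      have hB : (Subgroup.centralizer {q b}).comap q = ⊤ := hgen _
        (Subgroup.mem_comap.2 (Subgroup.mem_centralizer_singleton_iff.2 hab.symm.eq))
        (Subgroup.mem_comap.2 (Subgroup.mem_centralizer_singleton_iff.2 rfl))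
        (fun z hz => Subgroup.mem_comap.2 (Subgroup.mem_centralizer_singleton_iff.2 (hcz z hz b).symm.eq))
      intro x y
      have hX : (Subgroup.centralizer {q x}).comap q = ⊤ := hgen _
        (Subgroup.mem_comap.2 (Subgroup.mem_centralizer_singleton_iff.2
          (Subgroup.mem_centralizer_singleton_iff.1 (Subgroup.mem_comap.1 (hA ▸ Subgroup.mem_top x : x ∈ (Subgroup.centralizer {q a}).comap q))).symm))
        (Subgroup.mem_comap.2 (Subgroup.mem_centralizer_singleton_iff.2
          (Subgroup.mem_centralizer_singleton_iff.1 (Subgroup.mem_comap.1 (hB ▸ Subgroup.mem_top x : x ∈ (Subgroup.centralizer {q b}).comap q))).symm))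
        (fun z hz => Subgroup.mem_comap.2 (Subgroup.mem_centralizer_singleton_iff.2 (hcz z hz x).symm.eq))
      exact (Subgroup.mem_centralizer_singleton_iff.1
        (Subgroup.mem_comap.1 (hX ▸ Subgroup.mem_top y : y ∈ (Subgroup.centralizer {q x}).comap q))).symm
    rw [commutator_def, Subgroup.commutator_le]
    intro x _ y _
    rw [← QuotientGroup.eq_one_iff]
    show q ⁅x, y⁆ = 1
    rw [map_commutatorElement, commutatorElement_eq_one_iff_commute]
    exact key x y
  refine ⟨commutator S, fun h => hna ⟨⟨fun x y => ?_⟩⟩, Subgroup.isCyclic_of_le hle, inferInstance⟩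
  obtain ⟨x, rfl⟩ := QuotientGroup.mk'_surjective K x
  obtain ⟨y, rfl⟩ := QuotientGroup.mk'_surjective K y
  rw [← map_mul, ← map_mul]
  congr 1
  have h1 : ⁅x, y⁆ ∈ commutator S := Subgroup.commutator_mem_commutator (Subgroup.mem_top x) (Subgroup.mem_top y)
  rw [h, Subgroup.mem_bot] at h1
  exact commutatorElement_eq_one_iff_mul_comm.1 h1

end Cfsg.Agent.S3202
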