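import Cfsg.Statements.S3203
import Mathlib
import Cfsg.Agent.Lib.Local

set_option autoImplicit false
open Cfsg

namespace Cfsg.Agent.S3203



/-- Let S be a Sylow 2-subgroup of a finite group G having exactly two subgroups A ≠ B that are maximal among its elementary abelian subgroups, with S = AB. Then A and B are each weakly closed in S with respect to G, and the normalizer of S normalizes both A and B. -/
theorem result {G : Type*} [Group G] [Finite G] (S : Sylow 2 G)
    (A B : Subgroup ↥(S : Subgroup G)) (hAB : A ≠ B)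
    (hA : Cfsg.IsElementaryAbelian 2 A ∧ ∀ C : Subgroup ↥(S : Subgroup G), Cfsg.IsElementaryAbelian 2 C → A ≤ C → C = A)
    (hB : Cfsg.IsElementaryAbelian 2 B ∧ ∀ C : Subgroup ↥(S : Subgroup G), Cfsg.IsElementaryAbelian 2 C → B ≤ C → C = B)
    (honly : ∀ C : Subgroup ↥(S : Subgroup G), Cfsg.IsElementaryAbelian 2 C →
      (∀ D : Subgroup ↥(S : Subgroup G), Cfsg.IsElementaryAbelian 2 D → C ≤ D → D = C) → C = A ∨ C = B)
    (hprod : ∀ s : ↥(S : Subgroup G), ∃ a ∈ A, ∃ b ∈ B, a * b = s)
    (A' B' : Subgroup G) (hA' : A' = A.map (S : Subgroup G).subtype) (hB' : B' = B.map (S : Subgroup G).subtype) :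
    Cfsg.IsWeaklyClosed A' (S : Subgroup G) ∧ Cfsg.IsWeaklyClosed B' (S : Subgroup G) ∧
      Subgroup.normalizer ((S : Subgroup G) : Set G) ≤ Subgroup.normalizer (A' : Set G) ⊓ Subgroup.normalizer (B' : Set G) := by
  classical
  haveI : Fact (Nat.Prime 2) := ⟨Nat.prime_two⟩
  subst hA' hB'
  have elA : ∀ (H K : Subgroup ↥(S : Subgroup G)) (φ : ↥(S : Subgroup G) ≃* ↥(S : Subgroup G)), Cfsg.IsElementaryAbelian 2 H → K = H.map φ.toMonoidHom → Cfsg.IsElementaryAbelian 2 K := by
    rintro H K φ ⟨hc, he⟩ rfl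
    refine ⟨⟨⟨?_⟩⟩, ?_⟩
    · rintro ⟨_, a, ha, rfl⟩ ⟨_, b, hb, rfl⟩
      apply Subtype.ext
      show φ a * φ b = φ b * φ a
      rw [← map_mul, ← map_mul, show a * b = b * a from congrArg Subtype.val (hc.is_comm.comm (⟨a, ha⟩ : H) ⟨b, hb⟩)]
    · rintro _ ⟨a, ha, rfl⟩; show φ a ^ 2 = 1; rw [← map_pow, he a ha, map_one]
  -- automorphisms of S permute {A, B}
  have hperm : ∀ φ : ↥(S : Subgroup G) ≃* ↥(S : Subgroup G), A.map φ.toMonoidHom = A ∨ A.map φ.toMonoidHom = B := by
    intro φ
    refine honly _ (elA A _ φ hA.1 rfl) fun D hD hle => ?_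
    have h2 := hA.2 (D.map φ.symm.toMonoidHom) (elA D _ φ.symm hD rfl) (fun a ha => ⟨φ a, hle ⟨a, ha, rfl⟩, φ.symm_apply_apply a⟩)
    rw [← h2, Subgroup.map_map]
    simp
  have hABn : A.Normal ∧ B.Normal := by
    have hone : ∀ (A B : Subgroup ↥(S : Subgroup G)), A ≠ B → IsMulCommutative A → (∀ s, ∃ a ∈ A, ∃ b ∈ B, s = a * b ∨ s = b * a) →
        (∀ φ : ↥(S : Subgroup G) ≃* ↥(S : Subgroup G), A.map φ.toMonoidHom = A ∨ A.map φ.toMonoidHom = B) → A.Normal := by
      intro A B hne hAc hp hperm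
      have hconjA : ∀ a ∈ A, A.map (MulAut.conj a).toMonoidHom = A := fun a ha =>
        CfsgLib.Local.map_conj_eq_of_mem_normalizer (Subgroup.le_normalizer ha)
      have hconjB : ∀ b ∈ B, A.map (MulAut.conj b).toMonoidHom = A := fun b hb => by
        rcases hperm (MulAut.conj b) with h | h
        · exact h
        · exfalso
          apply hne
          have hbB : B.map (MulAut.conj b).toMonoidHom = B :=
            CfsgLib.Local.map_conj_eq_of_mem_normalizer (Subgroup.le_normalizer hb)
          exact Subgroup.map_injective (MulEquiv.injective _) (h.trans hbB.symm)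
      refine ⟨fun x hx s => ?_⟩
      have : A.map (MulAut.conj s).toMonoidHom = A := by
        obtain ⟨a, ha, b, hb, rfl | rfl⟩ := hp s
        · rw [← CfsgLib.Local.map_conj_mul, hconjB b hb, hconjA a ha]
        · rw [← CfsgLib.Local.map_conj_mul, hconjA a ha, hconjB b hb]
      rw [← this]; exact ⟨x, hx, rfl⟩
    refine ⟨hone A B hAB hA.1.1 (fun s => ?_) hperm, hone B A hAB.symm hB.1.1 (fun s => ?_) fun φ => ?_⟩
    · obtain ⟨a, ha, b, hb, e⟩ := hprod s; exact ⟨a, ha, b, hb, Or.inl e.symm⟩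
    · obtain ⟨a, ha, b, hb, e⟩ := hprod s; exact ⟨b, hb, a, ha, Or.inr e.symm⟩
    · refine (honly _ (elA B _ φ hB.1 rfl) fun D hD hle => ?_).symm
      have h2 := hB.2 (D.map φ.symm.toMonoidHom) (elA D _ φ.symm hD rfl) (fun a ha => ⟨φ a, hle ⟨a, ha, rfl⟩, φ.symm_apply_apply a⟩)
      rw [← h2, Subgroup.map_map]
      simp
  obtain ⟨hAn, hBn⟩ := hABn
  set j := (S : Subgroup G).subtype
  have hjinj : Function.Injective j := Subgroup.subtype_injective _
  -- N_G(S) fixes A and B
  have hN : ∀ g ∈ Subgroup.normalizer ((S : Subgroup G) : Set G), (A.map j).map (MulAut.conj g).toMonoidHom = A.map j ∧ (B.map j).map (MulAut.conj g).toMonoidHom = B.map j := by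
    intro g hg
    have hgS : (S : Subgroup G).map (MulAut.conj g).toMonoidHom = S := CfsgLib.Local.map_conj_eq_of_mem_normalizer hg
    let φ : ↥(S : Subgroup G) ≃* ↥(S : Subgroup G) := ((S : Subgroup G).equivMapOfInjective _ (MulEquiv.injective (MulAut.conj g))).trans (MulEquiv.subgroupCongr hgS)
    have hφ : ∀ K : Subgroup ↥(S : Subgroup G), (K.map j).map (MulAut.conj g).toMonoidHom = (K.map φ.toMonoidHom).map j := fun K => by
      rw [Subgroup.map_map, Subgroup.map_map]; rfl
    have hsw : A.map φ.toMonoidHom = A := by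
      rcases hperm φ with h | h
      · exact h
      exfalso
      -- g swaps; a 2-power of g would swap too, but lies in S
      have hB2 : B.map φ.toMonoidHom = A := by
        rcases (honly _ (elA B _ φ hB.1 rfl) fun D hD hle => by
          have h2 := hB.2 (D.map φ.symm.toMonoidHom) (elA D _ φ.symm hD rfl) (fun a ha => ⟨φ a, hle ⟨a, ha, rfl⟩, φ.symm_apply_apply a⟩)
          rw [← h2, Subgroup.map_map]
          simp) with h' | h'
        · exact h'
        · exact absurd (Subgroup.map_injective φ.injective (h.trans h'.symm)) hAB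
      set A₁ := A.map j; set B₁ := B.map j
      have hgA : A₁.map (MulAut.conj g).toMonoidHom = B₁ := by rw [hφ, h]
      have hgB : B₁.map (MulAut.conj g).toMonoidHom = A₁ := by rw [hφ, hB2]
      have hiter : ∀ n : ℕ, A₁.map (MulAut.conj (g ^ n)).toMonoidHom = if Even n then A₁ else B₁ := by
        intro n
        induction n with
        | zero =>
          rw [pow_zero, if_pos (by simp), show (MulAut.conj (1:G)).toMonoidHom = MonoidHom.id G from MonoidHom.ext fun x => by simp, Subgroup.map_id]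
        | succ k ih =>
          rw [pow_succ', ← CfsgLib.Local.map_conj_mul, ih]
          by_cases hk : Even k
          · rw [if_pos hk, if_neg (by simp [Nat.even_add_one, hk]), hgA]
          · rw [if_neg hk, if_pos (by simp [Nat.even_add_one, hk]), hgB]
      obtain ⟨k, m, hm, hord⟩ := Nat.exists_eq_two_pow_mul_odd (orderOf_pos g).ne'
      have hpm : g ^ m ∈ (S : Subgroup G) := by
        have hp : IsPGroup 2 (Subgroup.zpowers (g ^ m)) := by
          obtain ⟨e, he, hee⟩ := (Nat.dvd_prime_pow Nat.prime_two).mp (show orderOf (g ^ m) ∣ 2 ^ k by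
            rw [orderOf_dvd_iff_pow_eq_one, ← pow_mul, mul_comm, ← hord, pow_orderOf_eq_one])
          exact IsPGroup.of_card (n := e) (by rw [Nat.card_zpowers, hee])
        have hle := Subgroup.zpowers_le.mpr (pow_mem hg m)
        have hsup : IsPGroup 2 ↥(Subgroup.zpowers (g ^ m) ⊔ (S : Subgroup G)) := hp.to_sup_of_normal_right' S.2 hle
        rw [← S.is_maximal' hsup le_sup_right]
        exact Subgroup.mem_sup_left (Subgroup.mem_zpowers _)
      have h1 := hiter m
      rw [if_neg (Nat.not_even_iff_odd.mpr hm)] at h1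
      apply hAB
      apply Subgroup.map_injective hjinj
      show A₁ = B₁
      rw [← h1]
      symm
      apply CfsgLib.Local.map_conj_eq_of_mem_normalizer
      have : (A.map j) = A₁ := rfl
      have hsub : (S : Subgroup G) ≤ Subgroup.normalizer ((A₁ : Subgroup G) : Set G) := by
        refine (Subgroup.normal_subgroupOf_iff_le_normalizer (Subgroup.map_subtype_le A)).mp ?_
        rw [Subgroup.subgroupOf, Subgroup.comap_map_eq_self_of_injective hjinj]; exact hAn
      exact hsub hpm
    refine ⟨by rw [hφ, hsw], ?_⟩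
    have hBw : B.map φ.toMonoidHom = B := by
      rcases (honly _ (elA B _ φ hB.1 rfl) fun D hD hle => by
        have h2 := hB.2 (D.map φ.symm.toMonoidHom) (elA D _ φ.symm hD rfl) (fun a ha => ⟨φ a, hle ⟨a, ha, rfl⟩, φ.symm_apply_apply a⟩)
        rw [← h2, Subgroup.map_map]
        simp) with h' | h'
      · exact absurd (Subgroup.map_injective φ.injective (h'.trans hsw.symm)) hAB.symm
      · exact h'
    rw [hφ, hBw]
  have hwc : ∀ (A B : Subgroup ↥(S : Subgroup G)), A.Normal → B.Normal →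
      Cfsg.IsElementaryAbelian 2 A → Cfsg.IsElementaryAbelian 2 B →
      (∀ C, Cfsg.IsElementaryAbelian 2 C → A ≤ C → C = A) →
      (∀ C : Subgroup ↥(S : Subgroup G), Cfsg.IsElementaryAbelian 2 C → C ≤ A ∨ C ≤ B) →
      (∀ g ∈ Subgroup.normalizer ((S : Subgroup G) : Set G), (A.map j).map (MulAut.conj g).toMonoidHom = A.map j) →
      Cfsg.IsWeaklyClosed (A.map j) (S : Subgroup G) := by
    intro A B hAn hBn hAe hBe hAmax hcover hNA
    refine ⟨Subgroup.map_subtype_le _, fun g hg => ?_⟩
    set A₁ := A.map j; set B₁ := B.map j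
    set E := A₁.map (MulAut.conj g).toMonoidHom
    have hcardE : Nat.card E = Nat.card A₁ := Subgroup.card_map_of_injective (MulEquiv.injective _)
    have helem : ∀ (K : Subgroup ↥(S : Subgroup G)), Cfsg.IsElementaryAbelian 2 K → ∀ x ∈ K.map j, x ^ 2 = 1 ∧ ∀ y ∈ K.map j, x * y = y * x := by
      rintro K ⟨hc, he⟩ _ ⟨x, hx, rfl⟩
      refine ⟨by rw [← map_pow, he x hx, map_one], ?_⟩
      rintro _ ⟨y, hy, rfl⟩
      rw [← map_mul, ← map_mul, show x * y = y * x from congrArg Subtype.val (hc.is_comm.comm (⟨x, hx⟩ : K) ⟨y, hy⟩)]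
    have hEe : Cfsg.IsElementaryAbelian 2 (E.subgroupOf (S : Subgroup G)) := by
      refine ⟨⟨⟨fun a b => ?_⟩⟩, fun a ha => ?_⟩
      · apply Subtype.ext; apply Subtype.ext
        obtain ⟨x, hx, hxe⟩ := a.2; obtain ⟨y, hy, hye⟩ := b.2
        show ((a.1 : G)) * (b.1 : G) = (b.1 : G) * (a.1 : G)
        change (MulAut.conj g).toMonoidHom x = (a.1 : G) at hxe; change (MulAut.conj g).toMonoidHom y = (b.1 : G) at hye
        rw [← hxe, ← hye, ← map_mul, ← map_mul, (helem A hAe x hx).2 y hy]
      · obtain ⟨x, hx, hxe⟩ := ha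
        apply Subtype.ext
        change (MulAut.conj g).toMonoidHom x = (a : G) at hxe
        show (a : G) ^ 2 = 1
        rw [← hxe, ← map_pow, (helem A hAe x hx).1, map_one]
    have hEA : E ≤ A₁ ∨ E ≤ B₁ := by
      rcases hcover _ hEe with h | h
      · left; rw [← Subgroup.map_subgroupOf_eq_of_le hg]; exact Subgroup.map_mono h
      · right; rw [← Subgroup.map_subgroupOf_eq_of_le hg]; exact Subgroup.map_mono h
    rcases hEA with h | h
    · exact Subgroup.eq_of_le_of_card_ge h hcardE.ge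
    -- E ≤ B₁
    set F := B₁.map (MulAut.conj g⁻¹).toMonoidHom
    have hAF : A₁ ≤ F := fun a ha => ⟨g * a * g⁻¹, h ⟨a, ha, rfl⟩, by simp [mul_assoc]⟩
    have hAn' : (S : Subgroup G) ≤ Subgroup.normalizer ((A₁ : Subgroup G) : Set G) := by
      refine (Subgroup.normal_subgroupOf_iff_le_normalizer (Subgroup.map_subtype_le A)).mp ?_
      rw [Subgroup.subgroupOf, Subgroup.comap_map_eq_self_of_injective hjinj]; exact hAn
    have hF2 : IsPGroup 2 F := (CfsgLib.Local.isPGroup_of_le (Subgroup.map_subtype_le B) S.2).map _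
    have hFN : F ≤ Subgroup.normalizer ((A₁ : Subgroup G) : Set G) := by
      intro f hf
      refine CfsgLib.Local.mem_normalizer_of_map_conj_eq (Subgroup.eq_of_le_of_card_ge ?_ (le_of_eq (Subgroup.card_map_of_injective (MulEquiv.injective _)).symm))
      rintro _ ⟨a, ha, rfl⟩
      obtain ⟨y, hy, rfl⟩ := hf
      obtain ⟨z, hz, rfl⟩ := hAF ha
      simp only [MulEquiv.toMonoidHom_eq_coe, MonoidHom.coe_coe] at ha ⊢
      rw [MulAut.conj_apply, ← map_inv, ← map_mul, ← map_mul, (helem B hBe y hy).2 z hz, mul_inv_cancel_right]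
      exact ha
    obtain ⟨R, hR⟩ := (IsPGroup.of_equiv hF2 (Subgroup.subgroupOfEquivOfLe hFN).symm).exists_le_sylow
    obtain ⟨c, hc⟩ := MulAction.exists_smul_eq (Subgroup.normalizer ((A₁ : Subgroup G) : Set G)) R (S.subtype hAn')
    set F' := F.map (MulAut.conj (c:G)).toMonoidHom
    have hF'S : F' ≤ (S : Subgroup G) := by
      refine CfsgLib.Local.map_conj_le fun f hf => ?_
      have h1 : (⟨f, hFN hf⟩ : Subgroup.normalizer ((A₁ : Subgroup G) : Set G)) ∈ (R : Subgroup _) := hR (Subgroup.mem_subgroupOf.mpr hf)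
      have h2 : c * ⟨f, hFN hf⟩ * c⁻¹ ∈ ((S.subtype hAn' : Sylow 2 _) : Subgroup _) := by
        rw [← hc, Sylow.coe_subgroup_smul, Subgroup.mem_pointwise_smul_iff_inv_smul_mem]
        simpa [mul_assoc] using h1
      exact Subgroup.mem_subgroupOf.mp h2
    have hAF' : A₁ ≤ F' := by
      have := Subgroup.map_mono (f := (MulAut.conj (c:G)).toMonoidHom) hAF
      rwa [CfsgLib.Local.map_conj_eq_of_mem_normalizer c.2] at this
    have hF'e : F'.subgroupOf (S : Subgroup G) = A := by
      apply hAmax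
      · refine ⟨⟨⟨fun a b => ?_⟩⟩, fun a ha => ?_⟩
        · apply Subtype.ext; apply Subtype.ext
          obtain ⟨_, ⟨x, hx, rfl⟩, hxe⟩ := a.2; obtain ⟨_, ⟨y, hy, rfl⟩, hye⟩ := b.2
          show ((a.1 : G)) * (b.1 : G) = (b.1 : G) * (a.1 : G)
          simp only [Subgroup.coe_subtype] at hxe hye
          rw [← hxe, ← hye]
          simp only [MulEquiv.toMonoidHom_eq_coe, MonoidHom.coe_coe]
          rw [← map_mul, ← map_mul, ← map_mul, ← map_mul, (helem B hBe x hx).2 y hy]
        · obtain ⟨_, ⟨x, hx, rfl⟩, hxe⟩ := ha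
          apply Subtype.ext
          show (a : G) ^ 2 = 1
          simp only [Subgroup.coe_subtype] at hxe
          rw [← hxe]
          simp only [MulEquiv.toMonoidHom_eq_coe, MonoidHom.coe_coe]
          rw [← map_pow, ← map_pow, (helem B hBe x hx).1, map_one, map_one]
      · intro a ha; exact hAF' ⟨a, ha, rfl⟩
    have hcards : Nat.card B₁ = Nat.card A₁ := by
      have e : Nat.card F' = Nat.card B₁ :=
        (Subgroup.card_map_of_injective (MulEquiv.injective _)).trans (Subgroup.card_map_of_injective (MulEquiv.injective _))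
      rw [← e, ← Subgroup.map_subgroupOf_eq_of_le hF'S, hF'e]
    have hEB : E = B₁ := Subgroup.eq_of_le_of_card_ge h (by omega)
    -- Burnside
    have hBn' : (S : Subgroup G) ≤ Subgroup.normalizer ((B₁ : Subgroup G) : Set G) := by
      refine (Subgroup.normal_subgroupOf_iff_le_normalizer (Subgroup.map_subtype_le B)).mp ?_
      rw [Subgroup.subgroupOf, Subgroup.comap_map_eq_self_of_injective hjinj]; exact hBn
    set NB := Subgroup.normalizer ((B₁ : Subgroup G) : Set G)
    have hgSN : ((g • S : Sylow 2 G) : Subgroup G) ≤ NB := by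
      intro u hu
      rw [Sylow.coe_subgroup_smul, Subgroup.mem_pointwise_smul_iff_inv_smul_mem] at hu
      have hu' : g⁻¹ * u * g ∈ Subgroup.normalizer ((A₁ : Subgroup G) : Set G) := hAn' (by simpa [mul_assoc] using hu)
      apply CfsgLib.Local.mem_normalizer_of_map_conj_eq
      rw [← hEB, show E = A₁.map (MulAut.conj g).toMonoidHom from rfl, CfsgLib.Local.map_conj_mul,
        show u * g = g * (g⁻¹ * u * g) by group, ← CfsgLib.Local.map_conj_mul,
        CfsgLib.Local.map_conj_eq_of_mem_normalizer hu']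
    obtain ⟨c₂, hc₂⟩ := MulAction.exists_smul_eq NB ((g • S).subtype hgSN) (S.subtype hBn')
    rw [Sylow.smul_subtype] at hc₂
    have hn : (c₂ : G) * g ∈ Subgroup.normalizer ((S : Subgroup G) : Set G) := by
      have := congrArg (fun Q : Sylow 2 NB => (Q : Subgroup NB).map NB.subtype) hc₂
      simp only [Sylow.coe_subtype] at this
      rw [Subgroup.map_subgroupOf_eq_of_le, Subgroup.map_subgroupOf_eq_of_le hBn'] at this
      · refine Sylow.smul_eq_iff_mem_normalizer.mp ?_
        rw [mul_smul]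
        exact Sylow.ext this
      · intro u hu
        rw [Subgroup.smul_def, Sylow.coe_subgroup_smul, Subgroup.mem_pointwise_smul_iff_inv_smul_mem] at hu
        have := hgSN (show (c₂:G)⁻¹ * u * c₂ ∈ ((g • S : Sylow 2 G) : Subgroup G) by simpa [mul_assoc] using hu)
        have h2 := NB.mul_mem (NB.mul_mem c₂.2 this) (NB.inv_mem c₂.2)
        simpa [mul_assoc] using h2
    have h1 := hNA _ hn
    rw [← CfsgLib.Local.map_conj_mul] at h1
    change E.map _ = _ at h1
    rw [hEB, CfsgLib.Local.map_conj_eq_of_mem_normalizer c₂.2] at h1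
    exact hEB.trans h1
  have hcov : ∀ C : Subgroup ↥(S : Subgroup G), Cfsg.IsElementaryAbelian 2 C → C ≤ A ∨ C ≤ B := by
    intro C hC
    obtain ⟨M, ⟨hM, hCM⟩, hmax⟩ := Set.Finite.exists_maximal (s := {M : Subgroup ↥(S : Subgroup G) | Cfsg.IsElementaryAbelian 2 M ∧ C ≤ M}) (Set.toFinite _) ⟨C, hC, le_rfl⟩
    rcases honly M hM fun D hD hle => le_antisymm (hmax ⟨hD, hCM.trans hle⟩ hle) hle with e | e
    · exact Or.inl (e ▸ hCM)
    · exact Or.inr (e ▸ hCM)
  refine ⟨hwc A B hAn hBn hA.1 hB.1 hA.2 hcov (fun g hg => (hN g hg).1),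
    hwc B A hBn hAn hB.1 hA.1 hB.2 (fun C hC => (hcov C hC).symm) (fun g hg => (hN g hg).2), fun g hg => ?_⟩
  exact ⟨CfsgLib.Local.mem_normalizer_of_map_conj_eq (hN g hg).1, CfsgLib.Local.mem_normalizer_of_map_conj_eq (hN g hg).2⟩

end Cfsg.Agent.S3203
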