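import Cfsg.Statements.S3206
import Cfsg.Agent.Lib.JankoReeMult.Setup

set_option autoImplicit false
open Cfsg

namespace Cfsg.Agent.S3206

/-- Let G be a non-abelian finite simple group with abelian Sylow 2-subgroups, and let t be an involution of G whose centralizer is a maximal subgroup of G and is the direct product of the subgroup generated by t with a subgroup E having a normal subgroup isomorphic to PSL(2, q), q odd and greater than 3, with trivial centralizer in E. Then every finite perfect group having a central 2-subgroup with quotient isomorphic to G has that central subgroup trivial (G has no nontrivial perfect central extension by a 2-group), and every automorphism of G of 2-power order that fixes every element of some Sylow 2-subgroup of G is inner. -/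
theorem result {G : Type*} [Group G] [Finite G] [IsSimpleGroup G]
    (hG : ¬ IsMulCommutative G) (hab : ∀ S : Sylow 2 G, IsMulCommutative ↥(S : Subgroup G))
    (t : G) (ht : orderOf t = 2) (hmax : IsCoatom (Subgroup.centralizer ({t} : Set G)))
    (E : Subgroup G) (hE : Cfsg.IsInternalDirectProduct (Subgroup.zpowers t) E (Subgroup.centralizer ({t} : Set G)))
    {F : Type*} [Field F] [Fintype F] (hFo : Odd (Fintype.card F)) (hF3 : 3 < Fintype.card F)
    (N : Subgroup ↥E) [N.Normal] (hN : Nonempty (↥N ≃* Matrix.ProjectiveSpecialLinearGroup (Fin 2) F))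
    (hNc : Subgroup.centralizer (N : Set ↥E) = ⊥) :
    (∀ (L : Type) (_ : Group L) (_ : Finite L) (Z : Subgroup L) (_ : Z.Normal), commutator L = ⊤ → Z ≤ Subgroup.center L →
        IsPGroup 2 ↥Z → Nonempty (L ⧸ Z ≃* G) → Z = ⊥) ∧
    (∀ (φ : G ≃* G) (k : ℕ), φ ^ (2 ^ k) = 1 → (∃ S : Sylow 2 G, ∀ s ∈ (S : Subgroup G), φ s = s) →
        ∃ g : G, ∀ x : G, φ x = g * x * g⁻¹) := by
  classical
  haveI : Fact (Nat.Prime 2) := ⟨Nat.prime_two⟩
  obtain ⟨i⟩ := hN
  let i' : ↥(N.map E.subtype) ≃* Matrix.ProjectiveSpecialLinearGroup (Fin 2) F :=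
    (N.equivMapOfInjective E.subtype E.subtype_injective).symm.trans i
  let mkD : ∀ S : Sylow 2 G, t ∈ S → CfsgLib.JankoReeMult.Data G := fun S hS =>
    { t := t, ht := ht, S := S, tS := hS, N := N.map E.subtype
      NC := (Subgroup.map_subtype_le _).trans hE.2.1
      Nn := CfsgLib.JankoReeMult.normalizes ht hE
      cent := CfsgLib.JankoReeMult.cent_eq ht hE hNc
      ab := hab S }
  have hK : ∀ S hS, CfsgLib.JankoReeMult.Klein (mkD S hS) := fun S hS =>
    CfsgLib.JankoReeMult.klein_of_iso _ hFo hF3 i'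
  have hp : IsPGroup 2 (Subgroup.zpowers t) := IsPGroup.of_card (n := 1) (by rw [Nat.card_zpowers, ht, pow_one])
  obtain ⟨S₀, hS₀⟩ := hp.exists_le_sylow
  have htS₀ : t ∈ S₀ := hS₀ (Subgroup.mem_zpowers t)
  refine ⟨fun L _ _ Z _ hL hZc hZp ⟨e⟩ =>
    CfsgLib.JankoReeMult.no_cover (mkD S₀ htS₀) (hK S₀ htS₀) hG hL Z hZc hZp e, ?_⟩
  rintro φ k hk ⟨S, hS⟩
  obtain ⟨g, hg⟩ := MulAction.exists_smul_eq G S S₀
  let φ' : G ≃* G := MulAut.conj g * (φ : MulAut G) * (MulAut.conj g)⁻¹
  have hk' : φ' ^ (2 ^ k) = 1 := by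
    show (MulAut.conj g * (φ : MulAut G) * (MulAut.conj g)⁻¹) ^ (2 ^ k) = 1
    rw [conj_pow, hk, mul_one, mul_inv_cancel]
  have hφ' : ∀ x, φ' x = g * φ (g⁻¹ * x * g) * g⁻¹ := fun x => by
    show MulAut.conj g (φ ((MulAut.conj g)⁻¹ x)) = _
    rw [MulAut.conj_inv_apply, MulAut.conj_apply]
  have hfix : ∀ x ∈ (S₀ : Subgroup G), φ' x = x := by
    intro x hx
    rw [← hg, Sylow.coe_subgroup_smul] at hx
    obtain ⟨s, hs, rfl⟩ := hx
    show φ' (g * s * g⁻¹) = g * s * g⁻¹
    rw [hφ', show g⁻¹ * (g * s * g⁻¹) * g = s by group, hS s hs]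
  haveI : IsSimpleGroup (Matrix.ProjectiveSpecialLinearGroup (Fin 2) F) := CfsgLib.JankoReeMult.psl_simple hF3
  haveI : IsSimpleGroup N := i.isSimpleGroup_congr.mpr inferInstance
  have hna : ¬ IsMulCommutative N := fun hc => CfsgLib.JankoReeMult.psl_nonabelian hFo hF3 ⟨⟨fun a b => by
    obtain ⟨x, rfl⟩ := i.surjective a
    obtain ⟨y, rfl⟩ := i.surjective b
    rw [← map_mul, ← map_mul, hc.is_comm.comm x y]⟩⟩
  obtain ⟨g', hg'⟩ := CfsgLib.JankoReeMult.auto_inner_of (mkD S₀ htS₀) (hK S₀ htS₀) hG hmax φ' k hk' hfix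
    (CfsgLib.JankoReeMult.auto_preserves ht hE hNc hna φ' (hfix t htS₀))
  refine ⟨g⁻¹ * g' * g, fun x => ?_⟩
  have h := hg' (g * x * g⁻¹)
  rw [hφ', show g⁻¹ * (g * x * g⁻¹) * g = x by group] at h
  calc φ x = g⁻¹ * (g * φ x * g⁻¹) * g := by group
    _ = g⁻¹ * g' * g * x * (g⁻¹ * g' * g)⁻¹ := by rw [h]; group

end Cfsg.Agent.S3206
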