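import Cfsg.Statements.S3208
import Mathlib
import Cfsg.Agent.Lib.Local

set_option autoImplicit false
open Cfsg

namespace Cfsg.Agent.S3208



/-- Let j be an involution of a finite group G, H a subgroup of G, and T a Sylow 2-subgroup of H ∩ C_G(j) containing j such that ⟨j⟩ is a characteristic subgroup of T. Then T is a Sylow 2-subgroup of H. -/
theorem result {G : Type*} [Group G] [Finite G]
    (j : G) (hj : orderOf j = 2) (H T : Subgroup G) (hT : T ≤ H ⊓ Subgroup.centralizer ({j} : Set G)) (h2 : IsPGroup 2 ↥T)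
    (hSyl : ¬ 2 ∣ T.relIndex (H ⊓ Subgroup.centralizer ({j} : Set G))) (hjT : j ∈ T)
    (hchar : ((Subgroup.zpowers j).subgroupOf T).Characteristic) :
    ¬ 2 ∣ T.relIndex H := by
  by_contra hd
  set C := H ⊓ Subgroup.centralizer ({j} : Set G) with hC
  have hTH : T ≤ H := hT.trans inf_le_left
  haveI : Fact (Nat.Prime 2) := ⟨Nat.prime_two⟩
  obtain ⟨P, hP⟩ := (IsPGroup.of_equiv h2 (Subgroup.subgroupOfEquivOfLe hTH).symm).exists_le_sylow
  set R := (P : Subgroup H).map H.subtype with hRdef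
  have hTR : T ≤ R := fun a ha => Subgroup.mem_map.mpr ⟨⟨a, hTH ha⟩, hP (Subgroup.mem_subgroupOf.mpr ha), rfl⟩
  have hRH : R ≤ H := Subgroup.map_subtype_le _
  have hR2 : IsPGroup 2 R := P.2.map _
  have hne : T ≠ R := by
    intro e
    apply P.not_dvd_index
    have : (P : Subgroup H) = T.subgroupOf H := by
      rw [e, hRdef]; ext a; simp [Subgroup.mem_subgroupOf]
    rwa [this]
  haveI := hR2.isNilpotent
  obtain ⟨x, hx, hxn⟩ := SetLike.exists_of_lt ((normalizerCondition_of_isNilpotent (G := R)) (T.subgroupOf R)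
    (lt_top_iff_ne_top.mpr fun e => hne (le_antisymm hTR (Subgroup.subgroupOf_eq_top.mp e))))
  apply hxn
  rw [Subgroup.mem_subgroupOf]
  have hxT : ∀ a, a ∈ T ↔ (x:G) * a * (x:G)⁻¹ ∈ T := by
    intro a
    constructor
    · intro ha; exact Subgroup.mem_subgroupOf.mp ((Subgroup.mem_normalizer_iff.mp hx ⟨a, hTR ha⟩).mp ha)
    · intro ha
      have haR : a ∈ R := by
        have := R.mul_mem (R.mul_mem (R.inv_mem x.2) (hTR ha)) x.2
        simpa [mul_assoc] using this
      exact (Subgroup.mem_normalizer_iff.mp hx ⟨a, haR⟩).mpr ha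
  let φ : MulAut T :=
    { toFun := fun a => ⟨(x:G) * a * (x:G)⁻¹, (hxT a).mp a.2⟩
      invFun := fun a => ⟨(x:G)⁻¹ * a * x, (hxT _).mpr (by simp [mul_assoc])⟩
      left_inv := fun a => Subtype.ext (by simp [mul_assoc])
      right_inv := fun a => Subtype.ext (by simp [mul_assoc])
      map_mul' := fun a b => Subtype.ext (by simp [mul_assoc]) }
  have hxj : (x:G) * j * (x:G)⁻¹ = j := by
    have h1 : φ ⟨j, hjT⟩ ∈ (Subgroup.zpowers j).subgroupOf T :=
      (SetLike.ext_iff.mp (hchar.fixed φ) ⟨j, hjT⟩).mpr (Subgroup.mem_zpowers j)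
    obtain ⟨i, hi⟩ := mem_powers_iff_mem_zpowers.mpr (Subgroup.mem_subgroupOf.mp h1)
    change j ^ i = (x:G) * j * (x:G)⁻¹ at hi
    rw [← pow_mod_orderOf, hj] at hi
    rcases Nat.mod_two_eq_zero_or_one i with e | e <;> rw [e] at hi
    · exfalso
      rw [pow_zero, eq_comm, conj_eq_one_iff] at hi
      simp [hi] at hj
    · rw [← hi, pow_one]
  have hxC : (x:G) ∈ C := ⟨hRH x.2, Subgroup.mem_centralizer_singleton_iff.mpr (mul_inv_eq_iff_eq_mul.mp hxj)⟩
  by_contra hxT'
  apply hSyl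
  have hTD : T ≤ R ⊓ C := le_inf hTR hT
  rw [← Subgroup.relIndex_mul_relIndex T (R ⊓ C) C hTD inf_le_right]
  refine dvd_mul_of_dvd_left ?_ _
  obtain ⟨k, hk⟩ := (CfsgLib.Local.isPGroup_of_le (inf_le_left : R ⊓ C ≤ R) hR2).index (T.subgroupOf (R ⊓ C))
  rw [Subgroup.relIndex, hk]
  refine dvd_pow_self 2 ?_
  rintro rfl
  rw [pow_zero, Subgroup.index_eq_one, Subgroup.subgroupOf_eq_top] at hk
  exact hxT' (hk ⟨x.2, hxC⟩)

end Cfsg.Agent.S3208
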