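import Cfsg.Statements.S3209
import Mathlib
import Cfsg.Agent.Lib.SL2Centralizer

set_option autoImplicit false
open Cfsg

namespace Cfsg.Agent.S3209

open Matrix in
open CfsgLib.GL2Classes in
open CfsgLib.SL2Centralizer in
theorem exists_conj_trace_zero {F : Type*} [Field F] [Fintype F] (h2 : (2 : F) ≠ 0)
    {g h : Matrix.SpecialLinearGroup (Fin 2) F} (hg : g.1.trace = 0) (hh : h.1.trace = 0) :
    ∃ t : Matrix.SpecialLinearGroup (Fin 2) F, t * g = h * t := by
  classical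
  have key : ∀ g : Matrix.SpecialLinearGroup (Fin 2) F, g.1.trace = 0 → ∀ a : F, g.1 ≠ a • 1 := fun g hg =>
    not_scalar_of_trace (by rw [hg]; intro e; exact mul_ne_zero h2 h2 (by linear_combination -e))
  obtain ⟨P, hP⟩ := exists_conj_comp (key g hg)
  obtain ⟨R, hR⟩ := exists_conj_comp (key h hh)
  rw [hg, g.2] at hP
  rw [hh, h.2] at hR
  set T : Matrix (Fin 2) (Fin 2) F := R.1 * (P⁻¹).1 with hT
  have hTg : T * g.1 = h.1 * T := by
    rw [hT, ← Matrix.mul_assoc h.1, hR]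
    have : (P⁻¹).1 * g.1 = comp 0 1 * (P⁻¹).1 := by
      calc (P⁻¹).1 * g.1 = (P⁻¹).1 * (g.1 * P.1) * (P⁻¹).1 := by simp [Matrix.mul_assoc]
        _ = _ := by rw [hP]; simp [← Matrix.mul_assoc]
    rw [Matrix.mul_assoc, this, Matrix.mul_assoc R.1]
  have hdT : T.det ≠ 0 := ((Matrix.isUnit_iff_isUnit_det _).mp (R * P⁻¹).isUnit).ne_zero
  have hodd : Fintype.card F % 2 = 1 := by
    by_contra hne
    have he : ringChar F = 2 := FiniteField.even_card_iff_char_two.mpr (by omega)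
    exact h2 (by have := ringChar.Nat.cast_ringChar (R := F); rw [he] at this; exact_mod_cast this)
  obtain ⟨x, y, hxy⟩ := FiniteField.exists_root_sum_quadratic
    (f := (Polynomial.X ^ 2 : Polynomial F)) (g := Polynomial.X ^ 2 - Polynomial.C (T.det)⁻¹)
    (Polynomial.degree_X_pow 2) (Polynomial.degree_X_pow_sub_C (by norm_num) _) hodd
  simp at hxy
  refine ⟨⟨T * (x • (1 : Matrix (Fin 2) (Fin 2) F) + y • g.1), ?_⟩, Subtype.ext ?_⟩
  · rw [Matrix.det_mul, det_lin, hg,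
      show x * x + 0 * x * y + y * y = (T.det)⁻¹ by linear_combination hxy, mul_inv_cancel₀ hdT]
  · show T * (x • (1 : Matrix (Fin 2) (Fin 2) F) + y • g.1) * g.1 = h.1 * (T * (x • (1 : Matrix (Fin 2) (Fin 2) F) + y • g.1))
    rw [Matrix.mul_assoc, ← Matrix.mul_assoc h.1, ← hTg, Matrix.mul_assoc T g.1]
    congr 1
    simp [Matrix.add_mul, Matrix.mul_add]

theorem sl2_facts {G : Type*} [Group G] {F : Type*} [Field F] [Fintype F] (hF : Odd (Fintype.card F))
    (L : Subgroup G) (e : ↥L ≃* Matrix.SpecialLinearGroup (Fin 2) F) (j : G) (hj : orderOf j = 2) (hjL : j ∈ L) :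
    (∀ a ∈ L, a * a = 1 → a = 1 ∨ a = j) ∧ (∃ s ∈ L, s * s = j) ∧
      ∀ a ∈ L, ∀ b ∈ L, a * a = j → b * b = j → ∃ g ∈ L, g * a * g⁻¹ = b := by
  have h2 : (2 : F) ≠ 0 := CfsgLib.SL2Orders.two_ne_zero_of_odd hF
  have hjj : j * j = 1 := by rw [← sq, ← hj, pow_orderOf_eq_one]
  have hej : e ⟨j, hjL⟩ = -1 := by
    rcases CfsgLib.SL2Orders.eq_one_or_neg_one_of_sq h2 (e ⟨j, hjL⟩) (by
      rw [← map_mul, show (⟨j, hjL⟩ : ↥L) * ⟨j, hjL⟩ = 1 from Subtype.ext hjj, map_one]) with h | h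
    · rw [← map_one e] at h
      have : j = 1 := congrArg Subtype.val (e.injective h)
      rw [this, orderOf_one] at hj
      norm_num at hj
    · exact h
  refine ⟨fun a ha haa => ?_, ?_, fun a ha b hb haa hbb => ?_⟩
  · rcases CfsgLib.SL2Orders.eq_one_or_neg_one_of_sq h2 (e ⟨a, ha⟩) (by
      rw [← map_mul, show (⟨a, ha⟩ : ↥L) * ⟨a, ha⟩ = 1 from Subtype.ext haa, map_one]) with h | h
    · rw [← map_one e] at h; exact Or.inl (congrArg Subtype.val (e.injective h))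
    · rw [← hej] at h; exact Or.inr (congrArg Subtype.val (e.injective h))
  · let w : Matrix.SpecialLinearGroup (Fin 2) F := ⟨!![0, 1; -1, 0], by simp [Matrix.det_fin_two]⟩
    refine ⟨e.symm w, (e.symm w).2, ?_⟩
    have : w * w = -1 := Subtype.ext (by
      show !![(0 : F), 1; -1, 0] * !![0, 1; -1, 0] = -1
      ext i k; fin_cases i <;> fin_cases k <;> simp [Matrix.mul_apply, Fin.sum_univ_two])
    exact congrArg Subtype.val (show e.symm w * e.symm w = ⟨j, hjL⟩ from e.injective (by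
      rw [map_mul, e.apply_symm_apply, this, hej]))
  · have htr : ∀ a, ∀ ha : a ∈ L, a * a = j → ((e ⟨a, ha⟩).1 : Matrix (Fin 2) (Fin 2) F).trace = 0 := by
      intro a ha haa
      have h : e ⟨a, ha⟩ * e ⟨a, ha⟩ = -1 := by
        rw [← map_mul, ← hej]; exact congrArg e (Subtype.ext haa)
      have h' : ((e ⟨a, ha⟩).1 : Matrix (Fin 2) (Fin 2) F) * (e ⟨a, ha⟩).1 = -1 := congrArg Subtype.val h
      rw [CfsgLib.SL2Orders.sq_eq, sub_eq_iff_eq_add, neg_add_cancel] at h'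
      rcases smul_eq_zero.mp h' with h'' | h''
      · exact h''
      · rw [h'']; simp
    obtain ⟨t, ht⟩ := exists_conj_trace_zero h2 (htr a ha haa) (htr b hb hbb)
    refine ⟨e.symm t, (e.symm t).2, ?_⟩
    exact congrArg Subtype.val (show e.symm t * ⟨a, ha⟩ * (e.symm t)⁻¹ = ⟨b, hb⟩ from e.injective (by
      rw [map_mul, map_mul, map_inv, e.apply_symm_apply, ht, mul_inv_cancel_right]))

/-- Let L₁ ≅ SL₂(q₁) and L₂ ≅ SL₂(q₂), q₁ and q₂ odd, be elementwise-commuting subgroups of a finite group meeting in ⟨j⟩ for an involution j. Then L₁L₂ has exactly two conjugacy classes of involutions: the central involution j, and one further class (there is an involution x ≠ j in L₁L₂, and every involution of L₁L₂ other than j is conjugate to x by an element of L₁L₂). -/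
theorem result {G : Type*} [Group G] [Finite G]
    {F₁ : Type*} [Field F₁] [Fintype F₁] {F₂ : Type*} [Field F₂] [Fintype F₂]
    (hF₁ : Odd (Fintype.card F₁)) (hF₂ : Odd (Fintype.card F₂)) (L₁ L₂ : Subgroup G)
    (e₁ : ↥L₁ ≃* Matrix.SpecialLinearGroup (Fin 2) F₁) (e₂ : ↥L₂ ≃* Matrix.SpecialLinearGroup (Fin 2) F₂)
    (hc : ∀ x ∈ L₁, ∀ y ∈ L₂, x * y = y * x) (j : G) (hj : orderOf j = 2) (hm : L₁ ⊓ L₂ = Subgroup.zpowers j) :
    ∃ x ∈ L₁ ⊔ L₂, orderOf x = 2 ∧ x ≠ j ∧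
      ∀ y ∈ L₁ ⊔ L₂, orderOf y = 2 → y = j ∨ ∃ g ∈ L₁ ⊔ L₂, g * x * g⁻¹ = y := by
  have hjL : j ∈ L₁ ⊓ L₂ := hm.ge (Subgroup.mem_zpowers j)
  obtain ⟨hu1, ⟨s1, hs1, hs1j⟩, hc1⟩ := sl2_facts hF₁ L₁ e₁ j hj hjL.1
  obtain ⟨hu2, ⟨s2, hs2, hs2j⟩, hc2⟩ := sl2_facts hF₂ L₂ e₂ j hj hjL.2
  have hjj : j * j = 1 := by rw [← sq, ← hj, pow_orderOf_eq_one]
  have hj1 : j ≠ 1 := fun h => by rw [h, orderOf_one] at hj; norm_num at hj
  have hint : ∀ a, a ∈ L₁ → a ∈ L₂ → a * a = 1 := by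
    intro a h1 h2'
    obtain ⟨k, rfl⟩ := Subgroup.mem_zpowers_iff.mp (hm.le ⟨h1, h2'⟩)
    rw [← zpow_add, ← two_mul, zpow_mul, zpow_two, hjj, one_zpow]
  have hmulmul : ∀ a ∈ L₁, ∀ b ∈ L₂, a * b * (a * b) = a * a * (b * b) := by
    intro a ha b hb
    rw [show a * b * (a * b) = a * (b * a) * b by group, ← hc a ha b hb]
    group
  refine ⟨s1 * s2, mul_mem (Subgroup.mem_sup_left hs1) (Subgroup.mem_sup_right hs2), ?_, ?_, ?_⟩
  · refine orderOf_eq_prime (by rw [sq, hmulmul _ hs1 _ hs2, hs1j, hs2j, hjj]) fun h => hj1 ?_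
    rw [← hs1j]
    exact hint s1 hs1 (by rw [eq_inv_of_mul_eq_one_left h]; exact inv_mem hs2)
  · intro h
    apply hj1
    rw [← hs1j]
    exact hint s1 hs1 (by rw [show s1 = j * s2⁻¹ by rw [← h]; group]; exact mul_mem hjL.2 (inv_mem hs2))
  · intro y hy hy2
    let P : Subgroup G := (MonoidHom.noncommCoprod L₁.subtype L₂.subtype fun a b => hc a.1 a.2 b.1 b.2).range
    have hP : P = L₁ ⊔ L₂ := by
      show MonoidHom.range _ = _
      erw [MonoidHom.noncommCoprod_range]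
      rw [Subgroup.range_subtype, Subgroup.range_subtype]
    obtain ⟨⟨⟨a, ha⟩, ⟨b, hb⟩⟩, rfl⟩ := hP.ge hy
    have hy' : a * b * (a * b) = 1 := by
      rw [← sq]
      exact orderOf_dvd_iff_pow_eq_one.mp (by rw [show orderOf (a * b) = 2 from hy2])
    rw [hmulmul a ha b hb] at hy'
    have haa : a * a * (a * a) = 1 := hint _ (mul_mem ha ha) (by
      rw [eq_inv_of_mul_eq_one_left hy']; exact inv_mem (mul_mem hb hb))
    rcases hu1 _ (mul_mem ha ha) haa with h | h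
    · left
      rw [h, one_mul] at hy'
      show a * b = j
      have hne : a * b ≠ 1 := fun e => by
        have h' : orderOf (a * b) = 2 := hy2
        rw [e, orderOf_one] at h'
        norm_num at h'
      rcases hu1 a ha h with rfl | rfl <;> rcases hu2 b hb hy' with rfl | rfl
      · simp at hne
      · simp
      · simp
      · exact absurd hjj hne
    · right
      have hbj : b * b = j := by
        rw [h] at hy'
        exact (eq_inv_of_mul_eq_one_right hy').trans (inv_eq_of_mul_eq_one_right hjj)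
      obtain ⟨g1, hg1, e1⟩ := hc1 s1 hs1 a ha hs1j h
      obtain ⟨g2, hg2, e2'⟩ := hc2 s2 hs2 b hb hs2j hbj
      refine ⟨g1 * g2, mul_mem (Subgroup.mem_sup_left hg1) (Subgroup.mem_sup_right hg2), ?_⟩
      show _ = a * b
      rw [← e1, ← e2', show g1 * g2 * (s1 * s2) * (g1 * g2)⁻¹ = g1 * (g2 * s1) * s2 * g2⁻¹ * g1⁻¹ by group,
        ← hc s1 hs1 g2 hg2, show g1 * (s1 * g2) * s2 * g2⁻¹ * g1⁻¹ = g1 * s1 * ((g2 * s2 * g2⁻¹) * g1⁻¹) by group,
        ← hc g1⁻¹ (inv_mem hg1) _ (mul_mem (mul_mem hg2 hs2) (inv_mem hg2))]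
      group

end Cfsg.Agent.S3209
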