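import Cfsg.Statements.S3210
import Mathlib
import Cfsg.Agent.Lib.Dickson.Basic
import Cfsg.Agent.Lib.SL2Orders
import Cfsg.Agent.Lib.SLCard

set_option autoImplicit false
open Cfsg

namespace Cfsg.Agent.S3210

open Matrix Pointwise

variable {F : Type*} [Field F]

local notation "SL" => Matrix.SpecialLinearGroup (Fin 2) F

open CfsgLib.Dickson (up lo ext_entries mul_entry inv_entries)

/-- A noncentral element has conjugates with no common noncentral commuting element. -/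
theorem pm_of_commute_conj (h2 : (2 : F) ≠ 0) {x y : SL} (hy : ¬ (y = 1 ∨ y = -1)) (h0 : Commute x y)
    (h1 : Commute x (up 1 * y * (up 1)⁻¹)) (h1' : Commute x (lo 1 * y * (lo 1)⁻¹)) : x = 1 ∨ x = -1 := by
  obtain ⟨a, ha⟩ : ∃ a, y.1 0 0 - y.1 1 1 = a := ⟨_, rfl⟩
  obtain ⟨d, hd⟩ : ∃ d, x.1 0 0 - x.1 1 1 = d := ⟨_, rfl⟩
  obtain ⟨u00, u01, u10, u11⟩ := inv_entries (up (1 : F))
  obtain ⟨v00, v01, v10, v11⟩ := inv_entries (lo (1 : F))
  have key : ∀ z : SL, Commute x z → x.1 0 1 * z.1 1 0 = z.1 0 1 * x.1 1 0 ∧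
      x.1 0 1 * (z.1 0 0 - z.1 1 1) = z.1 0 1 * d ∧ x.1 1 0 * (z.1 0 0 - z.1 1 1) = z.1 1 0 * d := by
    intro z hz
    have e00 := congrArg (fun g : SL => g.1 0 0) hz.eq
    have e01 := congrArg (fun g : SL => g.1 0 1) hz.eq
    have e10 := congrArg (fun g : SL => g.1 1 0) hz.eq
    simp only [mul_entry] at e00 e01 e10
    rw [← hd]
    exact ⟨by linear_combination e00, by linear_combination -e01, by linear_combination e10⟩
  obtain ⟨a1, a2, a3⟩ := key y h0
  obtain ⟨b1, b2, b3⟩ := key _ h1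
  obtain ⟨c1, c2, c3⟩ := key _ h1'
  simp [mul_entry, u00, u01, u10, u11] at b1 b2 b3
  simp [mul_entry, v00, v01, v10, v11] at c1 c2 c3
  have hxx : x.1 0 1 = 0 ∧ x.1 1 0 = 0 ∧ d = 0 := by
    by_contra hne
    have kill : ∀ t : F, t * x.1 0 1 = 0 → t * x.1 1 0 = 0 → t * d = 0 → t = 0 := fun t e1 e2 e3 => by
      by_contra ht
      exact hne ⟨(mul_eq_zero.mp e1).resolve_left ht, (mul_eq_zero.mp e2).resolve_left ht,
        (mul_eq_zero.mp e3).resolve_left ht⟩
    have hc : y.1 1 0 = 0 := by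
      refine mul_self_eq_zero.mp (kill _ ?_ ?_ ?_) <;> refine (mul_eq_zero.mp ?_).resolve_left h2
      · grobner
      · grobner
      · grobner
    have hb : y.1 0 1 = 0 := by
      refine mul_self_eq_zero.mp (kill _ ?_ ?_ ?_) <;> refine (mul_eq_zero.mp ?_).resolve_left h2
      · grobner
      · grobner
      · grobner
    have ha0 : a = 0 := by
      refine mul_self_eq_zero.mp (kill _ ?_ ?_ ?_) <;> refine (mul_eq_zero.mp ?_).resolve_left h2
      · grobner
      · grobner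
      · grobner
    apply hy
    have hdet := y.2
    rw [Matrix.det_fin_two, hb, hc] at hdet
    have he : y.1 1 1 = y.1 0 0 := by linear_combination -ha - ha0
    rcases sq_eq_one_iff.mp (show y.1 0 0 ^ 2 = 1 by rw [he] at hdet; linear_combination hdet) with e | e
    · left; apply ext_entries <;> simp [hb, hc, he, e]
    · right; apply ext_entries <;> simp [hb, hc, he, e]
  obtain ⟨hb, hc, hd0⟩ := hxx
  have hdet := x.2
  rw [Matrix.det_fin_two, hb, hc] at hdet
  have he : x.1 1 1 = x.1 0 0 := by linear_combination -hd - hd0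
  rcases sq_eq_one_iff.mp (show x.1 0 0 ^ 2 = 1 by rw [he] at hdet; linear_combination hdet) with e | e
  · left; apply ext_entries <;> simp [hb, hc, he, e]
  · right; apply ext_entries <;> simp [hb, hc, he, e]

/-- An element that is central modulo the centre is central. -/
theorem pm_of_commutator (h2 : (2 : F) ≠ 0) {g : SL}
    (h : ∀ x : SL, g * x * g⁻¹ * x⁻¹ = 1 ∨ g * x * g⁻¹ * x⁻¹ = -1) : g = 1 ∨ g = -1 := by
  have key : ∀ x : SL, x.1.trace ≠ 0 → g * x = x * g := by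
    intro x hx
    rcases h x with e | e
    · exact (mul_inv_eq_iff_eq_mul.mp (mul_inv_eq_one.mp e))
    · exfalso
      have e1 : g * x * g⁻¹ = -x := by
        rw [mul_inv_eq_iff_eq_mul, neg_one_mul] at e
        exact e
      have e2 := congrArg (fun z : SL => z.1.trace) e1
      simp only [CfsgLib.Dickson.trace_conj, CfsgLib.Dickson.neg_one_trace] at e2
      exact hx ((mul_eq_zero.mp (show (2 : F) * x.1.trace = 0 by linear_combination e2)).resolve_left h2)
  have hu := key (up 1) (by simpa [Matrix.trace_fin_two, one_add_one_eq_two] using h2)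
  have hl := key (lo 1) (by simpa [Matrix.trace_fin_two, one_add_one_eq_two] using h2)
  have e00 := congrArg (fun z : SL => z.1 0 0) hu
  have e01 := congrArg (fun z : SL => z.1 0 1) hu
  have f00 := congrArg (fun z : SL => z.1 0 0) hl
  simp [mul_entry] at e00 e01 f00
  have hc : g.1 1 0 = 0 := e00
  have hb : g.1 0 1 = 0 := f00
  have he : g.1 1 1 = g.1 0 0 := by linear_combination -e01
  have hdet := g.2
  rw [Matrix.det_fin_two, hb, hc] at hdet
  rcases sq_eq_one_iff.mp (show g.1 0 0 ^ 2 = 1 by rw [he] at hdet; linear_combination hdet) with e | e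
  · left; apply ext_entries <;> simp [hb, hc, he, e]
  · right; apply ext_entries <;> simp [hb, hc, he, e]

omit [Field F] in
theorem two_ne [Field F] [Fintype F] (hF : Odd (Fintype.card F)) : (2 : F) ≠ 0 := by
  refine Ring.two_ne_zero fun h => ?_
  have := (FiniteField.even_card_iff_char_two (F := F)).mp h
  rw [Nat.odd_iff] at hF
  omega

/-- Of two commuting normal subgroups one consists of elements of square one. -/
theorem normal_pair (h2 : (2 : F) ≠ 0) (X Y : Subgroup SL) (hX : X.Normal) (hY : Y.Normal)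
    (hxy : ∀ x ∈ X, ∀ y ∈ Y, Commute x y) : (∀ x ∈ X, x ^ 2 = 1) ∨ ∀ y ∈ Y, y ^ 2 = 1 := by
  by_cases h : ∃ y ∈ Y, ¬ (y = 1 ∨ y = -1)
  · obtain ⟨y, hy, hne⟩ := h
    left
    intro x hx
    rcases pm_of_commute_conj h2 hne (hxy x hx y hy) (hxy x hx _ (hY.conj_mem y hy _))
      (hxy x hx _ (hY.conj_mem y hy _)) with rfl | rfl <;> simp
  · push Not at h
    right
    intro y hy
    rcases h y hy with rfl | rfl <;> simp

/-- An element of a copy of `SL₂` with all commutators of square one. -/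
theorem central_mem {G : Type*} [Group G] (hE : (2 : F) ≠ 0) (L : Subgroup G) (f : ↥L ≃* SL) (j : G)
    (hjL : j ∈ L) (hj1 : j ≠ 1) (hj2 : j * j = 1) (b : G) (hb : b ∈ L)
    (hall : ∀ l ∈ L, (b * l * b⁻¹ * l⁻¹) ^ 2 = 1) : b = 1 ∨ b = j := by
  have hone : ∀ z : SL, z * z = 1 → z = 1 ∨ z = -1 := fun z hz =>
    CfsgLib.SL2Orders.eq_one_or_neg_one_of_sq hE z hz
  have hfj : f ⟨j, hjL⟩ = -1 := by
    refine (hone _ ?_).resolve_left fun h => hj1 ?_
    · rw [← map_mul, show (⟨j, hjL⟩ : L) * ⟨j, hjL⟩ = 1 from Subtype.ext hj2, map_one]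
    · exact congrArg Subtype.val (f.injective (h.trans (map_one f).symm))
  have hb' : f ⟨b, hb⟩ = 1 ∨ f ⟨b, hb⟩ = -1 := by
    refine pm_of_commutator hE fun x => hone _ ?_
    obtain ⟨⟨l, hl⟩, rfl⟩ := f.surjective x
    rw [← map_inv, ← map_inv, ← map_mul, ← map_mul, ← map_mul, ← map_mul, ← pow_two,
      show ((⟨b, hb⟩ : L) * ⟨l, hl⟩ * (⟨b, hb⟩ : L)⁻¹ * (⟨l, hl⟩ : L)⁻¹) ^ 2 = 1 from Subtype.ext (hall l hl), map_one]
  rcases hb' with h | h
  · exact Or.inl (congrArg Subtype.val (f.injective (h.trans (map_one f).symm)))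
  · exact Or.inr (congrArg Subtype.val (f.injective (h.trans hfj.symm)))

/-- A copy of `SL₂` normalised by a central product of two copies lies in a factor. -/
theorem le_factor {G : Type*} [Group G] {F₁ : Type*} [Field F₁] {F₂ : Type*} [Field F₂]
    (h1 : (2 : F₁) ≠ 0) (h2 : (2 : F₂) ≠ 0) (hF : (2 : F) ≠ 0) (L₁ L₂ K : Subgroup G)
    (e₁ : ↥L₁ ≃* Matrix.SpecialLinearGroup (Fin 2) F₁) (e₂ : ↥L₂ ≃* Matrix.SpecialLinearGroup (Fin 2) F₂)
    (e : ↥K ≃* SL) (hc : ∀ x ∈ L₁, ∀ y ∈ L₂, x * y = y * x) (j : G) (hj1 : j ≠ 1) (hj2 : j * j = 1)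
    (hm : L₁ ⊓ L₂ = Subgroup.zpowers j) (hK : K ≤ L₁ ⊔ L₂)
    (hnorm : ∀ g ∈ L₁ ⊔ L₂, ∀ k ∈ K, g * k * g⁻¹ ∈ K) : K ≤ L₁ ∨ K ≤ L₂ := by
  have hjm : j ∈ L₁ ⊓ L₂ := hm ▸ Subgroup.mem_zpowers j
  have hdec : ∀ g ∈ L₁ ⊔ L₂, ∃ a ∈ L₁, ∃ b ∈ L₂, a * b = g := by
    intro g hg
    have hN : L₁ ≤ Subgroup.normalizer (L₂ : Set G) := by
      intro x hx
      rw [Subgroup.mem_normalizer_iff]
      intro z
      constructor
      · intro hz
        rwa [hc x hx z hz, mul_inv_cancel_right]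
      · intro hz
        have h := hc x⁻¹ (inv_mem hx) _ hz
        rw [← mul_assoc, ← mul_assoc, inv_mul_cancel, one_mul] at h
        have : z = x * z * x⁻¹ := by
          calc z = z * x⁻¹ * x := by group
            _ = _ := by rw [h]; group
        rwa [this]
    have h := Subgroup.coe_mul_of_left_le_normalizer_right L₁ L₂ hN
    rw [← SetLike.mem_coe, h] at hg
    obtain ⟨a, ha, b, hb, hab⟩ := Set.mem_mul.mp hg
    exact ⟨a, ha, b, hb, hab⟩
  have hnX : ∀ L : Subgroup G, (∀ g ∈ L₁ ⊔ L₂, ∀ l ∈ L, g * l * g⁻¹ ∈ L) →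
      ((L.subgroupOf K).map e.toMonoidHom).Normal := by
    intro L hL
    refine Subgroup.Normal.map ⟨fun z hz g => Subgroup.mem_subgroupOf.mpr ?_⟩ _ e.surjective
    exact hL g (hK g.2) z (Subgroup.mem_subgroupOf.mp hz)
  have hL1 : ∀ g ∈ L₁ ⊔ L₂, ∀ l ∈ L₁, g * l * g⁻¹ ∈ L₁ := by
    intro g hg l hl
    obtain ⟨a, ha, b, hb, rfl⟩ := hdec g hg
    rw [show a * b * l * (a * b)⁻¹ = a * (b * l * b⁻¹) * a⁻¹ by group, ← hc l hl b hb, mul_inv_cancel_right]
    exact mul_mem (mul_mem ha hl) (inv_mem ha)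
  have hL2 : ∀ g ∈ L₁ ⊔ L₂, ∀ l ∈ L₂, g * l * g⁻¹ ∈ L₂ := by
    intro g hg l hl
    obtain ⟨a, ha, b, hb, rfl⟩ := hdec g hg
    rw [show a * b * l * (a * b)⁻¹ = a * (b * l * b⁻¹) * a⁻¹ by group,
      hc a ha _ (mul_mem (mul_mem hb hl) (inv_mem hb)), mul_inv_cancel_right]
    exact mul_mem (mul_mem hb hl) (inv_mem hb)
  rcases normal_pair hF _ _ (hnX L₁ hL1) (hnX L₂ hL2) (by
      rintro _ ⟨x, hx, rfl⟩ _ ⟨y, hy, rfl⟩
      exact (show Commute x y from Subtype.ext (hc _ hx _ hy)).map e.toMonoidHom) with h | h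
  · right
    intro k hk
    obtain ⟨a, ha, b, hb, rfl⟩ := hdec k (hK hk)
    have hsmall : a = 1 ∨ a = j := by
      refine central_mem h1 L₁ e₁ j hjm.1 hj1 hj2 a ha fun l hl => ?_
      have hmem : a * l * a⁻¹ * l⁻¹ ∈ K := by
        have h := mul_mem hk (hnorm l (Subgroup.mem_sup_left hl) _ (inv_mem hk))
        rw [show a * b * (l * (a * b)⁻¹ * l⁻¹) = a * (b * l * b⁻¹) * a⁻¹ * l⁻¹ by group,
          ← hc l hl b hb, mul_inv_cancel_right] at h
        exact h
      have h' := h _ ⟨⟨_, hmem⟩, mul_mem (mul_mem (mul_mem ha hl) (inv_mem ha)) (inv_mem hl), rfl⟩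
      rw [← map_pow, ← map_one e.toMonoidHom] at h'
      exact congrArg Subtype.val (e.injective h')
    rcases hsmall with rfl | rfl
    · rwa [one_mul]
    · exact mul_mem hjm.2 hb
  · left
    intro k hk
    obtain ⟨a, ha, b, hb, rfl⟩ := hdec k (hK hk)
    have hsmall : b = 1 ∨ b = j := by
      refine central_mem h2 L₂ e₂ j hjm.2 hj1 hj2 b hb fun l hl => ?_
      have hmem : b * l * b⁻¹ * l⁻¹ ∈ K := by
        have h := mul_mem hk (hnorm l (Subgroup.mem_sup_right hl) _ (inv_mem hk))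
        rw [show a * b * (l * (a * b)⁻¹ * l⁻¹) = a * (b * l * b⁻¹) * a⁻¹ * l⁻¹ by group,
          hc a ha _ (mul_mem (mul_mem hb hl) (inv_mem hb)), mul_inv_cancel_right] at h
        exact h
      have h' := h _ ⟨⟨_, hmem⟩, mul_mem (mul_mem (mul_mem hb hl) (inv_mem hb)) (inv_mem hl), rfl⟩
      rw [← map_pow, ← map_one e.toMonoidHom] at h'
      exact congrArg Subtype.val (e.injective h')
    rcases hsmall with rfl | rfl
    · rwa [mul_one]
    · exact mul_mem ha hjm.1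


/-- Let G be a finite group with subgroups L₁ ≅ SL₂(q₁) and L₂ ≅ SL₂(q₂), q₁ and q₂ odd prime powers, which commute elementwise and meet in ⟨j⟩ for an involution j, and suppose L₁L₂ has index 2 in C_G(j). Then every element n of C_G(j) outside L₁L₂ either normalizes both L₁ and L₂, or conjugates L₁ onto L₂; in the second case q₁ = q₂ and there is an element n′ of C_G(j) outside L₁L₂ conjugating L₁ onto L₂ with n′² ∈ ⟨j⟩. -/
theorem result {G : Type*} [Group G] [Finite G]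
    {F₁ : Type*} [Field F₁] [Fintype F₁] {F₂ : Type*} [Field F₂] [Fintype F₂]
    (hF₁ : Odd (Fintype.card F₁)) (hF₂ : Odd (Fintype.card F₂)) (L₁ L₂ : Subgroup G)
    (e₁ : ↥L₁ ≃* Matrix.SpecialLinearGroup (Fin 2) F₁) (e₂ : ↥L₂ ≃* Matrix.SpecialLinearGroup (Fin 2) F₂)
    (hc : ∀ x ∈ L₁, ∀ y ∈ L₂, x * y = y * x) (j : G) (hj : orderOf j = 2) (hm : L₁ ⊓ L₂ = Subgroup.zpowers j)
    (hle : L₁ ⊔ L₂ ≤ Subgroup.centralizer ({j} : Set G)) (hi : (L₁ ⊔ L₂).relIndex (Subgroup.centralizer ({j} : Set G)) = 2) (n : G) (hn : n ∈ Subgroup.centralizer ({j} : Set G)) (hn' : n ∉ L₁ ⊔ L₂) :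
    (L₁.map (MulAut.conj n).toMonoidHom = L₁ ∧ L₂.map (MulAut.conj n).toMonoidHom = L₂) ∨
      (L₁.map (MulAut.conj n).toMonoidHom = L₂ ∧ Fintype.card F₁ = Fintype.card F₂ ∧
        ∃ n' ∈ Subgroup.centralizer ({j} : Set G), n' ∉ L₁ ⊔ L₂ ∧ L₁.map (MulAut.conj n').toMonoidHom = L₂ ∧ n' ^ 2 ∈ Subgroup.zpowers j) := by
  classical
  have hj1 : j ≠ 1 := fun e => by rw [e, orderOf_one] at hj; omega
  have hj2 : j * j = 1 := by rw [← pow_two]; exact orderOf_dvd_iff_pow_eq_one.mp (dvd_of_eq hj)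
  obtain ⟨C, hC⟩ : ∃ C, Subgroup.centralizer ({j} : Set G) = C := ⟨_, rfl⟩
  obtain ⟨M, hM⟩ : ∃ M, L₁ ⊔ L₂ = M := ⟨_, rfl⟩
  rw [hC] at hle hi hn ⊢
  rw [hM] at hle hi hn' ⊢
  have hMn : (M.subgroupOf C).Normal := Subgroup.normal_of_index_eq_two hi
  have hMconj : ∀ g ∈ C, ∀ m ∈ M, g * m * g⁻¹ ∈ M := fun g hg m hm' =>
    hMn.conj_mem ⟨m, hle hm'⟩ hm' ⟨g, hg⟩
  have hn2 : n * n ∈ M := by
    have := Subgroup.sq_mem_of_index_two hi ⟨n, hn⟩
    rw [pow_two] at this
    exact this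
  have hcard : ∀ H : Subgroup G, Nat.card ↥(H.map (MulAut.conj n).toMonoidHom) = Nat.card H := fun H =>
    Subgroup.card_map_of_injective (MulAut.conj n).injective
  have hnorm : ∀ g ∈ M, L₁.map (MulAut.conj g).toMonoidHom = L₁ ∧ L₂.map (MulAut.conj g).toMonoidHom = L₂ := by
    intro g hg
    rw [← hM] at hg
    have hle' : ∀ L L' : Subgroup G, (∀ x ∈ L', ∀ y ∈ L, x * y = y * x) →
        L ≤ Subgroup.normalizer (L : Set G) ∧ L' ≤ Subgroup.normalizer (L : Set G) := fun L L' h => by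
      refine ⟨Subgroup.le_normalizer, fun x hx => Subgroup.mem_normalizer_iff.mpr fun z => ⟨fun hz => ?_, fun hz => ?_⟩⟩
      · rwa [h x hx z hz, mul_inv_cancel_right]
      · have h' := h x⁻¹ (inv_mem hx) _ hz
        rw [← mul_assoc, ← mul_assoc, inv_mul_cancel, one_mul] at h'
        have : z = x * z * x⁻¹ := by
          calc z = z * x⁻¹ * x := by group
            _ = _ := by rw [h']; group
        rwa [this]
    have key : ∀ L : Subgroup G, g ∈ Subgroup.normalizer (L : Set G) →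
        L.map (MulAut.conj g).toMonoidHom = L := by
      intro L hL
      ext z
      constructor
      · rintro ⟨w, hw, rfl⟩
        exact (Subgroup.mem_normalizer_iff.mp hL w).mp hw
      · intro hz
        exact ⟨g⁻¹ * z * g, (Subgroup.mem_normalizer_iff''.mp hL z).mp hz, by simp [mul_assoc]⟩
    exact ⟨key L₁ ((sup_le (hle' L₁ L₂ fun x hx y hy => (hc y hy x hx).symm).1
        (hle' L₁ L₂ fun x hx y hy => (hc y hy x hx).symm).2) hg),
      key L₂ ((sup_le (hle' L₂ L₁ hc).2 (hle' L₂ L₁ hc).1) hg)⟩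
  have hfac : ∀ (L : Subgroup G), L ≤ M → (∀ g ∈ M, L.map (MulAut.conj g).toMonoidHom = L) →
      (L.map (MulAut.conj n).toMonoidHom ≤ M) ∧
      ∀ g ∈ M, ∀ k ∈ L.map (MulAut.conj n).toMonoidHom, g * k * g⁻¹ ∈ L.map (MulAut.conj n).toMonoidHom := by
    intro L hLM hL
    refine ⟨?_, ?_⟩
    · rintro _ ⟨l, hl, rfl⟩
      exact hMconj n hn l (hLM hl)
    · rintro g hg _ ⟨l, hl, rfl⟩
      obtain ⟨g', hg', rfl⟩ : ∃ g' ∈ M, n * g' * n⁻¹ = g :=
        ⟨n⁻¹ * g * n, by simpa using hMconj n⁻¹ (inv_mem hn) g hg, by group⟩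
      refine ⟨g' * l * g'⁻¹, ?_, by simp [mul_assoc]⟩
      exact (hL g' hg').le ⟨l, hl, rfl⟩
  have hL1M : L₁ ≤ M := hM ▸ le_sup_left
  have hL2M : L₂ ≤ M := hM ▸ le_sup_right
  obtain ⟨k1, k1'⟩ := hfac L₁ hL1M fun g hg => (hnorm g hg).1
  obtain ⟨k2, k2'⟩ := hfac L₂ hL2M fun g hg => (hnorm g hg).2
  have f1 := le_factor (two_ne hF₁) (two_ne hF₂) (two_ne hF₁) L₁ L₂ _ e₁ e₂
    ((L₁.equivMapOfInjective (MulAut.conj n).toMonoidHom (MulAut.conj n).injective).symm.trans e₁)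
    hc j hj1 hj2 hm (hM.symm ▸ k1) (hM.symm ▸ k1')
  have f2 := le_factor (two_ne hF₁) (two_ne hF₂) (two_ne hF₂) L₁ L₂ _ e₁ e₂
    ((L₂.equivMapOfInjective (MulAut.conj n).toMonoidHom (MulAut.conj n).injective).symm.trans e₂)
    hc j hj1 hj2 hm (hM.symm ▸ k2) (hM.symm ▸ k2')
  have hinj := Subgroup.map_injective (f := (MulAut.conj n).toMonoidHom) (MulAut.conj n).injective
  have heq : ∀ {A B : Subgroup G}, A.map (MulAut.conj n).toMonoidHom ≤ B → Nat.card B ≤ Nat.card A →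
      A.map (MulAut.conj n).toMonoidHom = B := fun h h' =>
    Subgroup.eq_of_le_of_card_ge h (by rwa [hcard])
  have hne : ¬ L₁ ≤ L₂ := by
    intro h
    rw [inf_eq_left.mpr h] at hm
    have hc1 : Nat.card L₁ = 2 := by rw [hm, Nat.card_zpowers, hj]
    obtain ⟨u, hu⟩ : ∃ u, u = e₁.symm (up 1) := ⟨_, rfl⟩
    have h2 : u ^ 2 = 1 := by rw [← hc1]; exact pow_card_eq_one'
    rw [hu, ← map_pow, MulEquiv.map_eq_one_iff, pow_two, CfsgLib.Dickson.up_mul] at h2
    have h3 := congrArg (fun g => g.1 0 1) h2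
    simp at h3
    exact two_ne hF₁ (by linear_combination h3)
  have hne' : ¬ L₂ ≤ L₁ := by
    intro h
    rw [inf_eq_right.mpr h] at hm
    have hc1 : Nat.card L₂ = 2 := by rw [hm, Nat.card_zpowers, hj]
    obtain ⟨u, hu⟩ : ∃ u, u = e₂.symm (up 1) := ⟨_, rfl⟩
    have h2 : u ^ 2 = 1 := by rw [← hc1]; exact pow_card_eq_one'
    rw [hu, ← map_pow, MulEquiv.map_eq_one_iff, pow_two, CfsgLib.Dickson.up_mul] at h2
    have h3 := congrArg (fun g => g.1 0 1) h2
    simp at h3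
    exact two_ne hF₂ (by linear_combination h3)
  have hnn : (L₁.map (MulAut.conj n).toMonoidHom).map (MulAut.conj n).toMonoidHom = L₁ ∧
      (L₂.map (MulAut.conj n).toMonoidHom).map (MulAut.conj n).toMonoidHom = L₂ := by
    have : ∀ L : Subgroup G, (L.map (MulAut.conj n).toMonoidHom).map (MulAut.conj n).toMonoidHom =
        L.map (MulAut.conj (n * n)).toMonoidHom := fun L => by
      rw [Subgroup.map_map]; congr 1; ext; simp [mul_assoc]
    rw [this, this]
    exact hnorm _ hn2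
  by_cases hswap : L₁.map (MulAut.conj n).toMonoidHom ≤ L₁
  · left
    refine ⟨heq hswap le_rfl, heq (f2.resolve_left fun h => hne' ?_) le_rfl⟩
    have h' := Subgroup.map_mono (f := (MulAut.conj n).toMonoidHom) h
    rw [hnn.2] at h'
    exact h'.trans hswap
  · right
    have h12 := f1.resolve_left hswap
    have hcl : Nat.card L₁ ≤ Nat.card L₂ := (hcard L₁).symm.le.trans (Subgroup.card_le_of_le h12)
    have h21 : L₂.map (MulAut.conj n).toMonoidHom ≤ L₁ := by
      refine f2.resolve_right fun h => hne ?_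
      have h' := Subgroup.map_mono (f := (MulAut.conj n).toMonoidHom) h12
      rw [hnn.1] at h'
      exact h'.trans h
    have hcl' : Nat.card L₂ ≤ Nat.card L₁ := (hcard L₂).symm.le.trans (Subgroup.card_le_of_le h21)
    have hmap := heq h12 hcl'
    refine ⟨hmap, ?_, ?_⟩
    · have h := (Nat.card_congr e₁.toEquiv).symm.trans ((le_antisymm hcl hcl').trans (Nat.card_congr e₂.toEquiv))
      rw [CfsgLib.SLCard.card_SL_two, CfsgLib.SLCard.card_SL_two] at h
      have mono : ∀ a b : ℕ, a < b → 1 ≤ a → a * (a ^ 2 - 1) < b * (b ^ 2 - 1) := fun a b hab ha => by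
        have h2 : a ^ 2 < b ^ 2 := Nat.pow_lt_pow_left hab (by norm_num)
        have h3 : 1 ≤ a ^ 2 := Nat.one_le_pow _ _ ha
        exact Nat.mul_lt_mul_of_lt_of_le hab (by omega) (by omega)
      have q1 := Fintype.one_lt_card (α := F₁)
      have q2 := Fintype.one_lt_card (α := F₂)
      rcases lt_trichotomy (Fintype.card F₁) (Fintype.card F₂) with h' | h' | h'
      · have := mono _ _ h' (by omega); omega
      · exact h'
      · have := mono _ _ h' (by omega); omega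
    · have hjC : ∀ x ∈ L₁, ∀ y ∈ L₂, Commute x y := fun x hx y hy => hc x hx y hy
      have hN : L₁ ≤ Subgroup.normalizer (L₂ : Set G) := by
        intro x hx
        rw [Subgroup.mem_normalizer_iff]
        intro z
        have hx' : ∀ w ∈ L₂, x * w * x⁻¹ = w := fun w hw => by rw [hc x hx w hw, mul_inv_cancel_right]
        refine ⟨fun hz => (hx' z hz).symm ▸ hz, fun hz => ?_⟩
        have h' := hc x⁻¹ (inv_mem hx) _ hz
        rw [← mul_assoc, ← mul_assoc, inv_mul_cancel, one_mul] at h'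
        have : z = x * z * x⁻¹ := by
          calc z = z * x⁻¹ * x := by group
            _ = _ := by rw [h']; group
        rwa [this]
      have hn2'' : n * n ∈ L₁ ⊔ L₂ := hM.symm ▸ hn2
      rw [← SetLike.mem_coe, Subgroup.coe_mul_of_left_le_normalizer_right L₁ L₂ hN] at hn2''
      obtain ⟨a, ha, b, hb, hab⟩ := Set.mem_mul.mp hn2''
      have hca : n * a * n⁻¹ ∈ L₂ := hmap ▸ ⟨a, ha, rfl⟩
      have hcb : n * b * n⁻¹ ∈ L₁ := h21 ⟨b, hb, rfl⟩
      have haM : a ∈ M := hL1M ha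
      refine ⟨a⁻¹ * n, mul_mem (inv_mem (hle haM)) hn, fun h => hn' ?_, ?_, ?_⟩
      · simpa using mul_mem haM h
      · have hn2' : L₁.map (MulAut.conj (a⁻¹ * n)).toMonoidHom =
            (L₁.map (MulAut.conj n).toMonoidHom).map (MulAut.conj a⁻¹).toMonoidHom := by
          rw [Subgroup.map_map]; congr 1; ext; simp [mul_assoc]
        rw [hn2', hmap, (hnorm _ (inv_mem haM)).2]
      · have e : (a⁻¹ * n) ^ 2 = (n * a * n⁻¹)⁻¹ * b := by
          calc (a⁻¹ * n) ^ 2 = a⁻¹ * ((n * a * n⁻¹)⁻¹ * (n * n)) := by rw [pow_two]; group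
            _ = a⁻¹ * ((n * a * n⁻¹)⁻¹ * a * b) := by rw [← hab]; group
            _ = a⁻¹ * (a * (n * a * n⁻¹)⁻¹ * b) := by rw [← hc a ha _ (inv_mem hca)]
            _ = _ := by group
        rw [e, ← hm]
        refine Subgroup.mem_inf.mpr ⟨?_, mul_mem (inv_mem hca) hb⟩
        have e2 : (n * a * n⁻¹)⁻¹ * b = a⁻¹ * (n * b * n⁻¹) := by
          have h3 : n * a * n⁻¹ * (n * b * n⁻¹) = a * b := by
            rw [show n * a * n⁻¹ * (n * b * n⁻¹) = n * (a * b) * n⁻¹ by group, hab]; group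
          calc (n * a * n⁻¹)⁻¹ * b = (n * a * n⁻¹)⁻¹ * (a⁻¹ * (a * b)) := by group
            _ = (n * a * n⁻¹)⁻¹ * a⁻¹ * (n * a * n⁻¹) * (n * b * n⁻¹) := by rw [← h3]; group
            _ = a⁻¹ * (n * a * n⁻¹)⁻¹ * (n * a * n⁻¹) * (n * b * n⁻¹) := by
              rw [hc a⁻¹ (inv_mem ha) _ (inv_mem hca)]
            _ = _ := by group
        show _ ∈ L₁
        rw [e2]
        exact mul_mem (inv_mem ha) hcb

end Cfsg.Agent.S3210
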