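import Cfsg.Statements.S3211
import Mathlib
import Cfsg.Agent.Lib.ZStar.Main
import Cfsg.Agent.Lib.SL2Centralizer

set_option autoImplicit false
open Cfsg

namespace Cfsg.Agent.S3211

open Matrix

section SL
variable {F : Type*} [Field F]

local notation "M2" => Matrix (Fin 2) (Fin 2) F
local notation "SL2" => Matrix.SpecialLinearGroup (Fin 2) F

theorem trace_eq_zero_of_sq {X : SL2} (h : X * X = -1) : X.1.trace = 0 := by
  have h1 : X.1 * X.1 = -1 := by simpa using congrArg Subtype.val h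
  rw [CfsgLib.SL2Orders.sq_eq X, sub_eq_iff_eq_add, neg_add_cancel] at h1
  by_contra ht
  have h3 : X.1 = 0 := (smul_eq_zero.1 h1).resolve_left ht
  have hd : X.1.det = 1 := X.2
  rw [h3, Matrix.det_zero] at hd
  exact zero_ne_one hd

theorem sq_of_trace_zero {X : SL2} (h : X.1.trace = 0) : X * X = -1 := by
  apply Subtype.ext
  show X.1 * X.1 = (-1 : SL2).1
  rw [CfsgLib.SL2Orders.sq_eq X, h, zero_smul, zero_sub]
  simp

/-- An element anticommuting with some element has square `-1`. -/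
theorem sq_of_anti (h2 : (2 : F) ≠ 0) {X W : SL2} (h : W * X = -X * W) : W * W = -1 := by
  refine sq_of_trace_zero ?_
  have h1 : W.1 * X.1 = -(X.1 * W.1) := by
    have := congrArg Subtype.val h
    simpa using this
  have hu : IsUnit X.1.det := by
    have hd : X.1.det = 1 := X.2
    rw [hd]; exact isUnit_one
  have h3 : W.1.trace = -W.1.trace := by
    calc W.1.trace = (W.1 * X.1 * (X.1)⁻¹).trace := by
          rw [Matrix.mul_assoc, Matrix.mul_nonsing_inv _ hu, Matrix.mul_one]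
      _ = -((X.1 * W.1) * (X.1)⁻¹).trace := by rw [h1, Matrix.neg_mul, Matrix.trace_neg]
      _ = -W.1.trace := by
          rw [Matrix.trace_mul_comm, ← Matrix.mul_assoc, Matrix.nonsing_inv_mul _ hu,
            Matrix.one_mul]
  have h4 : (2 : F) * W.1.trace = 0 := by linear_combination h3
  exact (mul_eq_zero.1 h4).resolve_left h2

open CfsgLib.GL2Classes (exists_conj_comp) in
/-- Elements of trace zero are conjugate in `SL₂` over a finite field. -/
theorem exists_conj_of_trace_zero [Fintype F] (h2 : (2 : F) ≠ 0) {g g' : SL2}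
    (hg : g.1.trace = 0) (hg' : g'.1.trace = 0) : ∃ h : SL2, h * g = g' * h := by
  classical
  have hne4 : ∀ {k : SL2}, k.1.trace = 0 → k.1.trace ^ 2 ≠ 4 := fun hk => by
    rw [hk]
    intro e
    exact mul_ne_zero h2 h2 (by linear_combination -e)
  obtain ⟨P, hP⟩ := exists_conj_comp (CfsgLib.SL2Centralizer.not_scalar_of_trace (hne4 hg))
  obtain ⟨R, hR⟩ := exists_conj_comp (CfsgLib.SL2Centralizer.not_scalar_of_trace (hne4 hg'))
  have hd : g.1.det = 1 := g.2
  have hd' : g'.1.det = 1 := g'.2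
  rw [hg, hd] at hP
  rw [hg', hd'] at hR
  set T : M2 := R.1 * (P⁻¹).1 with hT
  have hTg : T * g.1 = g'.1 * T := by
    rw [hT, ← Matrix.mul_assoc g'.1, hR]
    have : (P⁻¹).1 * g.1 = CfsgLib.GL2Classes.comp 0 1 * (P⁻¹).1 := by
      calc (P⁻¹).1 * g.1 = (P⁻¹).1 * (g.1 * P.1) * (P⁻¹).1 := by simp [Matrix.mul_assoc]
        _ = _ := by rw [hP]; simp [← Matrix.mul_assoc]
    rw [Matrix.mul_assoc, this, Matrix.mul_assoc R.1]
  have hdT : T.det ≠ 0 := ((Matrix.isUnit_iff_isUnit_det _).mp (R * P⁻¹).isUnit).ne_zero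
  have hodd : Fintype.card F % 2 = 1 := by
    by_contra hne
    have he : ringChar F = 2 := FiniteField.even_card_iff_char_two.mpr (by omega)
    exact h2 (by have := ringChar.Nat.cast_ringChar (R := F); rw [he] at this; exact_mod_cast this)
  obtain ⟨x, y, hxy⟩ := FiniteField.exists_root_sum_quadratic
    (f := (Polynomial.X ^ 2 : Polynomial F)) (g := Polynomial.X ^ 2 - Polynomial.C (T.det)⁻¹)
    (Polynomial.degree_X_pow 2) (Polynomial.degree_X_pow_sub_C (by norm_num) _) hodd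
  simp at hxy
  refine ⟨⟨T * (x • (1 : M2) + y • g.1), ?_⟩, Subtype.ext ?_⟩
  · rw [Matrix.det_mul, CfsgLib.SL2Centralizer.det_lin, hg,
      show x * x + 0 * x * y + y * y = (T.det)⁻¹ by linear_combination hxy, mul_inv_cancel₀ hdT]
  · show T * (x • (1 : M2) + y • g.1) * g.1 = g'.1 * (T * (x • (1 : M2) + y • g.1))
    rw [Matrix.mul_assoc, ← Matrix.mul_assoc g'.1, ← hTg, Matrix.mul_assoc T g.1]
    congr 1
    simp [Matrix.add_mul, Matrix.mul_add]

end SL

/-- The abstract situation: `L` has a central involution `z`, and facts about square roots of `z`. -/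
theorem core {G : Type*} [Group G] [Finite G] (L₁ L₂ : Subgroup G)
    (hc : ∀ x ∈ L₁, ∀ y ∈ L₂, x * y = y * x) (j : G) (hj : orderOf j = 2)
    (hm : L₁ ⊓ L₂ = Subgroup.zpowers j) (hle : L₁ ⊔ L₂ ≤ Subgroup.centralizer ({j} : Set G))
    (hi : (L₁ ⊔ L₂).relIndex (Subgroup.centralizer ({j} : Set G)) = 2) (n : G)
    (hn : n ∈ Subgroup.centralizer ({j} : Set G)) (hn2 : n ^ 2 = j)
    (hswap : L₁.map (MulAut.conj n).toMonoidHom = L₂)
    (hbig : ∃ a : ↥L₁, (a : G) ≠ 1 ∧ (a : G) ≠ j)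
    (h1 : ∀ x : ↥L₁, x * x = 1 → (x : G) = 1 ∨ (x : G) = j)
    (hA : ∀ x y : ↥L₁, (x : G) * x = j → (y : G) * y = j → ∃ a : ↥L₁, (a : G) * x * (a : G)⁻¹ = y)
    (hC : ∀ x : ↥L₁, (x : G) * x = j → ∃ w : ↥L₁, (w : G) * x * (w : G)⁻¹ = j * x)
    (hB : ∀ x w : ↥L₁, (w : G) * x * (w : G)⁻¹ = j * x → (w : G) * w = j) :
    IsIsolated j := by
  classical
  haveI := Fintype.ofFinite G
  set C := Subgroup.centralizer ({j} : Set G) with hCdef
  have hjj : j * j = 1 := by rw [← sq, ← hj]; exact pow_orderOf_eq_one j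
  have hj1 : j ≠ 1 := fun e => by rw [e, orderOf_one] at hj; norm_num at hj
  have hjinv : j⁻¹ = j := inv_eq_of_mul_eq_one_right hjj
  have hjL : j ∈ L₁ := (inf_le_left : L₁ ⊓ L₂ ≤ L₁) (hm ▸ Subgroup.mem_zpowers j)
  have hcomm : ∀ g ∈ C, g * j = j * g := fun g hg => Subgroup.mem_centralizer_singleton_iff.1 hg
  have hnj : n * j = j * n := hcomm n hn
  let jj : ↥L₁ := ⟨j, hjL⟩
  have jjj : jj * jj = 1 := Subtype.ext hjj
  have hjj_central : ∀ x : ↥L₁, x * jj = jj * x := fun x =>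
    Subtype.ext (hcomm x (hle (Subgroup.mem_sup_left x.2)))
  let β : ↥L₁ → ↥L₁ → G := fun x y => (x : G) * (n * y * n⁻¹)
  have hφ : ∀ y : ↥L₁, n * y * n⁻¹ ∈ L₂ := fun y => by
    rw [← hswap]; exact ⟨y, y.2, rfl⟩
  have hβmul : ∀ x y x' y', β x y * β x' y' = β (x * x') (y * y') := by
    intro x y x' y'
    have h := hc x' x'.2 _ (hφ y)
    show (x : G) * (n * y * n⁻¹) * (x' * (n * y' * n⁻¹)) = _
    calc (x : G) * (n * y * n⁻¹) * (x' * (n * y' * n⁻¹))
        = (x : G) * ((n * y * n⁻¹) * x') * (n * y' * n⁻¹) := by group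
      _ = (x : G) * (x' * (n * y * n⁻¹)) * (n * y' * n⁻¹) := by rw [h]
      _ = β (x * x') (y * y') := by simp only [β, Subgroup.coe_mul]; group
  have hβ1 : β 1 1 = 1 := by simp [β]
  have hβinv : ∀ x y, (β x y)⁻¹ = β x⁻¹ y⁻¹ := fun x y =>
    inv_eq_of_mul_eq_one_right (by rw [hβmul, mul_inv_cancel, mul_inv_cancel, hβ1])
  have hβj : β jj 1 = j := by simp [β, jj]
  have hβj' : β 1 jj = j := by
    show (1 : G) * (n * j * n⁻¹) = j
    rw [one_mul, hnj]; group
  have hker : ∀ x y, β x y = 1 → (x = 1 ∧ y = 1) ∨ (x = jj ∧ y = jj) := by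
    intro x y h
    have hx2 : (x : G) ∈ L₁ ⊓ L₂ := ⟨x.2, by
      have : (x : G) = n * (y⁻¹ : ↥L₁) * n⁻¹ := by
        rw [mul_eq_one_iff_eq_inv.1 (show (x : G) * (n * y * n⁻¹) = 1 from h), Subgroup.coe_inv]
        group
      rw [this]; exact hφ _⟩
    rw [hm, Subgroup.mem_zpowers_iff] at hx2
    obtain ⟨k, hk⟩ := hx2
    rw [← zpow_mod_orderOf, hj] at hk
    rcases Int.emod_two_eq_zero_or_one k with e | e <;> rw [Nat.cast_ofNat, e] at hk
    · rw [zpow_zero] at hk
      have hx : x = 1 := Subtype.ext hk.symm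
      subst hx
      refine Or.inl ⟨rfl, Subtype.ext ?_⟩
      have h' : n * (y : G) * n⁻¹ = 1 := by simpa [β] using h
      exact conj_eq_one_iff.1 h'
    · rw [zpow_one] at hk
      have hx : x = jj := Subtype.ext hk.symm
      subst hx
      refine Or.inr ⟨rfl, ?_⟩
      have h' : β 1 y = j := by
        calc β 1 y = β jj 1 * β jj y := by rw [hβmul, jjj, one_mul]
          _ = j := by rw [hβj, h, mul_one]
      refine Subtype.ext (?_ : (y : G) = j)
      have h'' : n * (y : G) * n⁻¹ = n * j * n⁻¹ := by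
        rw [show n * j * n⁻¹ = j by rw [hnj]; group]
        simpa [β] using h'
      exact conj_injective h''
  have heq : ∀ x y x' y', β x y = β x' y' →
      (x = x' ∧ y = y') ∨ (x = jj * x' ∧ y = jj * y') := by
    intro x y x' y' h
    have h' : β (x * x'⁻¹) (y * y'⁻¹) = 1 := by rw [← hβmul, ← hβinv, h, mul_inv_cancel]
    rcases hker _ _ h' with ⟨a, b⟩ | ⟨a, b⟩
    · exact Or.inl ⟨mul_inv_eq_one.1 a, mul_inv_eq_one.1 b⟩
    · exact Or.inr ⟨mul_inv_eq_iff_eq_mul.1 a, mul_inv_eq_iff_eq_mul.1 b⟩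
  have hβjsmul : ∀ x y, β (jj * x) (jj * y) = β x y := fun x y => by
    rw [← hβmul]
    conv_lhs => rw [show β jj jj = β jj 1 * β 1 jj by rw [hβmul, mul_one, one_mul], hβj, hβj', hjj,
      one_mul]
  have hjβ : ∀ x y, j * β x y = β (jj * x) y := fun x y => by rw [← hβj, hβmul, one_mul]
  have hnβ : ∀ x y, n * β x y * n⁻¹ = β y x := by
    intro x y
    have hnn : n * (n * (y : G) * n⁻¹) * n⁻¹ = y := by
      calc n * (n * (y : G) * n⁻¹) * n⁻¹ = n ^ 2 * y * (n ^ 2)⁻¹ := by rw [sq]; group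
        _ = y := by rw [hn2, ← hcomm y (hle (Subgroup.mem_sup_left y.2))]; group
    calc n * β x y * n⁻¹ = (n * (x : G) * n⁻¹) * (n * (n * (y : G) * n⁻¹) * n⁻¹) := by
          simp only [β]; group
      _ = (n * (x : G) * n⁻¹) * y := by rw [hnn]
      _ = β y x := (hc _ y.2 _ (hφ x)).symm
  have hsq : ∀ x y, (n * β x y) * (n * β x y) = j * β (y * x) (x * y) := by
    intro x y
    calc (n * β x y) * (n * β x y) = (n * β x y * n⁻¹) * n ^ 2 * β x y := by rw [sq]; group
      _ = β y x * β jj 1 * β x y := by rw [hnβ, hn2, hβj]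
      _ = j * β (y * x) (x * y) := by
        rw [hβmul, hβmul, hjβ, mul_one, hjj_central y, mul_assoc]
  let B : Subgroup G :=
    { carrier := {g | ∃ x y, g = β x y}
      one_mem' := ⟨1, 1, hβ1.symm⟩
      mul_mem' := by rintro _ _ ⟨x, y, rfl⟩ ⟨x', y', rfl⟩; exact ⟨_, _, hβmul x y x' y'⟩
      inv_mem' := by rintro _ ⟨x, y, rfl⟩; exact ⟨_, _, hβinv x y⟩ }
  have hBeq : L₁ ⊔ L₂ = B := by
    refine le_antisymm (sup_le ?_ ?_) ?_
    · intro x hx; exact ⟨⟨x, hx⟩, 1, by simp [β]⟩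
    · intro y hy
      rw [← hswap] at hy
      obtain ⟨x, hx, rfl⟩ := hy
      exact ⟨1, ⟨x, hx⟩, by simp [β]⟩
    · rintro _ ⟨x, y, rfl⟩
      exact mul_mem (Subgroup.mem_sup_left x.2) (Subgroup.mem_sup_right (hφ y))
  have hBC : B ≤ C := hBeq ▸ hle
  have hnB : n ∉ B := by
    rintro ⟨a, b, h⟩
    obtain ⟨z, hz1, hzj⟩ := hbig
    have e : β 1 z = β (a * z * a⁻¹) 1 := by
      have e1 : n * β z 1 * n⁻¹ = β 1 z := hnβ z 1
      rw [← e1, h, hβinv, hβmul, hβmul, mul_one, mul_inv_cancel]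
    rcases heq _ _ _ _ e with ⟨-, h'⟩ | ⟨-, h'⟩
    · exact hz1 (by rw [h']; rfl)
    · exact hzj (by rw [h', mul_one])
  have hCcases : ∀ g ∈ C, (∃ x y, g = β x y) ∨ ∃ x y, g = n * β x y := by
    intro g hg
    rw [hBeq] at hi
    by_cases hgB : g ∈ B
    · exact Or.inl hgB
    · right
      have h := (Subgroup.mul_mem_iff_of_index_two (H := B.subgroupOf C) hi
        (a := ⟨n⁻¹, inv_mem hn⟩) (b := ⟨g, hg⟩)).2
          (iff_of_false (fun h' => hnB (by simpa using inv_mem (show n⁻¹ ∈ B from h'))) hgB)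
      obtain ⟨x, y, hxy⟩ := (show n⁻¹ * g ∈ B from h)
      exact ⟨x, y, by rw [← hxy, mul_inv_cancel_left]⟩
  -- involutions of C
  have hout : ∀ x y, n * β x y * (n * β x y) ≠ 1 := by
    intro x y h
    rw [hsq, hjβ, ← hβ1] at h
    have hcen : x * y = 1 → y * x = 1 := fun h => mul_eq_one_comm.1 h
    rcases heq _ _ _ _ h with ⟨a, b⟩ | ⟨a, b⟩
    · rw [hcen b, mul_one] at a
      exact hj1 (congrArg Subtype.val a)
    · rw [mul_one] at a b
      have e : y * x = x⁻¹ * (x * y) * x := by group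
      rw [e, b, mul_assoc x⁻¹, ← hjj_central x, inv_mul_cancel_left, jjj] at a
      exact hj1 (congrArg Subtype.val a).symm
  have hinvo : ∀ v ∈ C, v * v = 1 → v = 1 ∨ v = j ∨
      ∃ x y : ↥L₁, v = β x y ∧ (x : G) * x = j ∧ (y : G) * y = j := by
    intro v hv hv2
    rcases hCcases v hv with ⟨x, y, rfl⟩ | ⟨x, y, rfl⟩
    · rw [hβmul, ← hβ1] at hv2
      rcases heq _ _ _ _ hv2 with ⟨a, b⟩ | ⟨a, b⟩
      · rcases h1 x a with ex | ex <;> rcases h1 y b with ey | ey
        · left; simp [β, ex, ey]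
        · right; left
          have : y = jj := Subtype.ext ey
          rw [show x = 1 from Subtype.ext ex, this]; exact hβj'
        · right; left
          rw [show x = jj from Subtype.ext ex, show y = 1 from Subtype.ext ey]; exact hβj
        · left
          rw [show x = jj from Subtype.ext ex, show y = jj from Subtype.ext ey]
          have := hβjsmul 1 1
          rwa [mul_one, hβ1] at this
      · refine Or.inr (Or.inr ⟨x, y, rfl, ?_, ?_⟩)
        · simpa [jj] using congrArg Subtype.val a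
        · simpa [jj] using congrArg Subtype.val b
    · exact absurd hv2 (hout x y)
  -- every such involution is conjugate in C to a diagonal one
  have hdiag : ∀ x₀ : ↥L₁, (x₀ : G) * x₀ = j → ∀ x y : ↥L₁, (x : G) * x = j → (y : G) * y = j →
      ∃ c ∈ C, c * β x y * c⁻¹ = β x₀ x₀ := by
    intro x₀ h0 x y hx hy
    obtain ⟨a, ha⟩ := hA x x₀ hx h0
    obtain ⟨b, hb⟩ := hA y x₀ hy h0
    refine ⟨β a b, hBC ⟨a, b, rfl⟩, ?_⟩
    rw [hβinv, hβmul, hβmul]
    congr 1 <;> exact Subtype.ext (by simpa using ‹_›)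
  intro g hg
  by_contra hne
  set v₀ := g * j * g⁻¹ with hv₀
  have hv₀2 : v₀ * v₀ = 1 := by
    rw [hv₀, show g * j * g⁻¹ * (g * j * g⁻¹) = g * (j * j) * g⁻¹ by group, hjj]; group
  have hv₀C : v₀ ∈ C := Subgroup.mem_centralizer_singleton_iff.2 hg.eq.symm
  have hv₀1 : v₀ ≠ 1 := fun e => hj1 (conj_eq_one_iff.1 e)
  obtain ⟨x₀, y₀, hxy, hx0, hy0⟩ : ∃ x y : ↥L₁, v₀ = β x y ∧ (x : G) * x = j ∧ (y : G) * y = j :=
    ((hinvo v₀ hv₀C hv₀2).resolve_left hv₀1).resolve_left hne
  obtain ⟨c₀, hc₀, hc₀u⟩ := hdiag x₀ hx0 x₀ y₀ hx0 hy0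
  rw [← hxy] at hc₀u
  set u := β x₀ x₀ with hu
  have huj : u ≠ j := by
    intro e
    have h' : c₀ * v₀ * c₀⁻¹ = c₀ * j * c₀⁻¹ := by
      rw [hc₀u, e, hcomm c₀ hc₀]; group
    exact hne (conj_injective h')
  have huC : u ∈ C := hBC ⟨x₀, x₀, rfl⟩
  have huu : u * u = 1 := by
    rw [← hc₀u, show c₀ * v₀ * c₀⁻¹ * (c₀ * v₀ * c₀⁻¹) = c₀ * (v₀ * v₀) * c₀⁻¹ by group, hv₀2]
    group
  -- an element exchanging j and u
  obtain ⟨t, ht1, ht2⟩ : ∃ t, t * u * t⁻¹ = j ∧ t * j * t⁻¹ = u := by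
    let h := (c₀ * g)⁻¹
    have hh : h * u * h⁻¹ = j := by
      rw [← hc₀u, hv₀]; simp only [h]; group
    set w := h * j * h⁻¹ with hw
    have hwC : w ∈ C := by
      rw [hCdef, Subgroup.mem_centralizer_singleton_iff]
      calc w * j = h * (j * u) * h⁻¹ := by rw [hw, ← hh]; group
        _ = h * (u * j) * h⁻¹ := by rw [hcomm u huC]
        _ = j * w := by rw [hw, ← hh]; group
    have hw2 : w * w = 1 := by
      rw [hw, show h * j * h⁻¹ * (h * j * h⁻¹) = h * (j * j) * h⁻¹ by group, hjj]; group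
    have hwj : w ≠ j := fun e => huj (conj_injective (hh.trans e.symm) : u = j)
    obtain ⟨x, y, hxy', hx, hy⟩ : ∃ x y : ↥L₁, w = β x y ∧ (x : G) * x = j ∧ (y : G) * y = j :=
      ((hinvo w hwC hw2).resolve_left (fun e => hj1 (conj_eq_one_iff.1 e))).resolve_left hwj
    obtain ⟨c, hcC, hcw⟩ := hdiag x₀ hx0 x y hx hy
    rw [← hxy'] at hcw
    refine ⟨c * h, ?_, ?_⟩
    · rw [show c * h * u * (c * h)⁻¹ = c * (h * u * h⁻¹) * c⁻¹ by group, hh, hcomm c hcC]; group
    · rw [hu, ← hcw, hw]; group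
  set P := C ⊓ Subgroup.centralizer ({u} : Set G) with hP
  have hPmem : ∀ a, a ∈ P ↔ a * j = j * a ∧ a * u = u * a := fun a => by
    rw [hP, Subgroup.mem_inf, hCdef, Subgroup.mem_centralizer_singleton_iff,
      Subgroup.mem_centralizer_singleton_iff]
  have hPt : ∀ a, a ∈ P → t * a * t⁻¹ ∈ P := by
    intro a ha
    rw [hPmem] at ha ⊢
    refine ⟨?_, ?_⟩
    · calc t * a * t⁻¹ * j = t * (a * u) * t⁻¹ := by rw [← ht1]; group
        _ = t * (u * a) * t⁻¹ := by rw [ha.2]
        _ = j * (t * a * t⁻¹) := by rw [← ht1]; group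
    · calc t * a * t⁻¹ * u = t * (a * j) * t⁻¹ := by rw [← ht2]; group
        _ = t * (j * a) * t⁻¹ := by rw [ha.1]
        _ = u * (t * a * t⁻¹) := by rw [← ht2]; group
  -- the involutions of P generate P ∩ B
  set I := Subgroup.closure {a | a ∈ P ∧ a * a = 1} with hI
  have hconju : ∀ x y : ↥L₁, β x y * u = u * β x y →
      ((x : G) * x₀ * (x : G)⁻¹ = x₀ ∧ (y : G) * x₀ * (y : G)⁻¹ = x₀) ∨
      ((x : G) * x₀ * (x : G)⁻¹ = j * x₀ ∧ (y : G) * x₀ * (y : G)⁻¹ = j * x₀) := by
    intro x y h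
    have h' : β (x * x₀ * x⁻¹) (y * x₀ * y⁻¹) = β x₀ x₀ := by
      rw [← hβmul, ← hβmul, ← hβinv, ← hu, h]; group
    rcases heq _ _ _ _ h' with ⟨a, b⟩ | ⟨a, b⟩
    · exact Or.inl ⟨congrArg Subtype.val a, congrArg Subtype.val b⟩
    · exact Or.inr ⟨congrArg Subtype.val a, congrArg Subtype.val b⟩
  have hmemI : ∀ x y : ↥L₁, (x : G) * x₀ * (x : G)⁻¹ = j * x₀ →
      (y : G) * x₀ * (y : G)⁻¹ = j * x₀ → β x y ∈ I := by
    intro x y hx hy
    refine Subgroup.subset_closure ⟨⟨hBC ⟨x, y, rfl⟩, ?_⟩, ?_⟩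
    · show β x y ∈ Subgroup.centralizer ({u} : Set G)
      rw [Subgroup.mem_centralizer_singleton_iff, hu, ← mul_inv_eq_iff_eq_mul,
        hβinv, hβmul, hβmul, ← hβjsmul x₀ x₀]
      congr 1
      · exact Subtype.ext (by simpa [jj] using hx)
      · exact Subtype.ext (by simpa [jj] using hy)
    · rw [hβmul, show x * x = jj from Subtype.ext (hB x₀ x hx),
        show y * y = jj from Subtype.ext (hB x₀ y hy)]
      simpa [hβ1] using hβjsmul 1 1
  have hIeq : ∀ a ∈ P, a ∈ I ↔ a ∈ B := by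
    intro a ha
    constructor
    · intro haI
      have : I ≤ B := (Subgroup.closure_le _).2 (by
        rintro b ⟨hb, hb2⟩
        rcases hCcases b hb.1 with h | ⟨x, y, rfl⟩
        · exact h
        · exact absurd hb2 (hout x y))
      exact this haI
    · rintro ⟨x, y, rfl⟩
      rcases hconju x y ((hPmem _).1 ha).2 with ⟨hx, hy⟩ | ⟨hx, hy⟩
      · obtain ⟨w, hw⟩ := hC x₀ hx0
        have key : β x y = (β w w)⁻¹ * β (w * x) (w * y) := by
          rw [hβinv, hβmul, inv_mul_cancel_left, inv_mul_cancel_left]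
        rw [key]
        refine mul_mem (inv_mem (hmemI w w hw hw)) (hmemI _ _ ?_ ?_)
        · push_cast
          rw [show (w : G) * x * x₀ * ((w : G) * x)⁻¹ = w * ((x : G) * x₀ * (x : G)⁻¹) * (w : G)⁻¹
            by group, hx, hw]
        · push_cast
          rw [show (w : G) * y * x₀ * ((w : G) * y)⁻¹ = w * ((y : G) * x₀ * (y : G)⁻¹) * (w : G)⁻¹
            by group, hy, hw]
      · exact hmemI x y hx hy
  have hIt : ∀ a ∈ I, t * a * t⁻¹ ∈ I := by
    have : I.map (MulAut.conj t).toMonoidHom ≤ I := by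
      rw [hI, MonoidHom.map_closure, Subgroup.closure_le]
      rintro _ ⟨a, ⟨ha, ha2⟩, rfl⟩
      refine Subgroup.subset_closure ⟨hPt a ha, ?_⟩
      simp only [MulEquiv.coe_toMonoidHom, MulAut.conj_apply]
      rw [show t * a * t⁻¹ * (t * a * t⁻¹) = t * (a * a) * t⁻¹ by group, ha2]; group
    exact fun a ha => this ⟨a, ha, rfl⟩
  have hIt' : ∀ a, t * a * t⁻¹ ∈ I → a ∈ I := by
    intro a ha
    let f : ↥I → ↥I := fun b => ⟨t * b * t⁻¹, hIt b b.2⟩
    obtain ⟨b, hb⟩ := (Finite.injective_iff_surjective (f := f)).1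
      (fun b c h => Subtype.ext (conj_injective (congrArg Subtype.val h :))) ⟨_, ha⟩
    exact (conj_injective (congrArg Subtype.val hb :) : (b : G) = a) ▸ b.2
  -- counting
  let S : G → Finset G := fun z => Finset.univ.filter fun a => a ∈ P ∧ a ∉ I ∧ a * a = z
  have hS : (S j).card ≤ (S u).card := by
    refine Finset.card_le_card_of_injOn (fun a => t * a * t⁻¹) ?_
      (fun a _ b _ h => conj_injective h)
    intro a ha
    simp only [S, Finset.coe_filter, Finset.mem_univ, true_and, Set.mem_setOf_eq] at ha ⊢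
    refine ⟨hPt a ha.1, fun h => ha.2.1 (hIt' a h), ?_⟩
    rw [show t * a * t⁻¹ * (t * a * t⁻¹) = t * (a * a) * t⁻¹ by group, ha.2.2, ht2]
  haveI := Fintype.ofFinite ↥L₁
  let A : G → Finset (↥L₁ × ↥L₁) := fun z => Finset.univ.filter fun p => n * β p.1 p.2 ∈ S z
  have hAcard : ∀ z, (A z).card = 2 * (S z).card := by
    intro z
    have hmaps : Set.MapsTo (fun p : ↥L₁ × ↥L₁ => n * β p.1 p.2) ↑(A z) ↑(S z) :=
      fun p hp => (Finset.mem_filter.1 hp).2
    rw [Finset.card_eq_sum_card_fiberwise hmaps,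
      Finset.sum_const_nat (m := 2), mul_comm]
    intro a ha
    have ha' : a ∈ P ∧ a ∉ I ∧ a * a = z := by simpa [S] using ha
    rcases hCcases a ha'.1.1 with ⟨x, y, rfl⟩ | ⟨x, y, rfl⟩
    · exact absurd ((hIeq _ ha'.1).2 ⟨x, y, rfl⟩) ha'.2.1
    rw [show (A z).filter (fun p => n * β p.1 p.2 = n * β x y) = {(x, y), (jj * x, jj * y)} from ?_]
    · refine Finset.card_pair fun e => hj1 ?_
      have := congrArg Prod.fst e
      exact congrArg Subtype.val (mul_eq_right.1 this.symm)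
    · ext ⟨p, q⟩
      simp only [Finset.mem_filter, Finset.mem_insert, Finset.mem_singleton, Prod.mk.injEq,
        mul_right_inj]
      constructor
      · rintro ⟨-, h⟩; exact heq _ _ _ _ h
      · rintro (⟨rfl, rfl⟩ | ⟨rfl, rfl⟩)
        · exact ⟨Finset.mem_filter.2 ⟨Finset.mem_univ _, ha⟩, rfl⟩
        · exact ⟨Finset.mem_filter.2 ⟨Finset.mem_univ _, by rw [hβjsmul]; exact ha⟩, hβjsmul x y⟩
  have hmemP : ∀ x y : ↥L₁, n * β x y ∈ P ↔ β (y * x₀ * y⁻¹) (x * x₀ * x⁻¹) = u := by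
    intro x y
    have e : n * β x y * u * (n * β x y)⁻¹ = β (y * x₀ * y⁻¹) (x * x₀ * x⁻¹) := by
      rw [hu, show n * β x y * β x₀ x₀ * (n * β x y)⁻¹
          = n * (β x y * β x₀ x₀ * (β x y)⁻¹) * n⁻¹ by group, hβinv, hβmul, hβmul, hnβ]
    rw [hPmem, ← e, mul_inv_eq_iff_eq_mul]
    exact and_iff_right (hcomm _ (mul_mem hn (hBC ⟨x, y, rfl⟩)))
  have hnot : ∀ x y : ↥L₁, n * β x y ∈ P → n * β x y ∉ I := fun x y h hI' =>
    hnB (by simpa using mul_mem ((hIeq _ h).1 hI') (B.inv_mem ⟨x, y, rfl⟩))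
  let Anti : Finset ↥L₁ := Finset.univ.filter fun x => (x : G) * x₀ * (x : G)⁻¹ = j * x₀
  let Nrm : Finset ↥L₁ := Finset.univ.filter fun x =>
    (x : G) * x₀ * (x : G)⁻¹ = x₀ ∨ (x : G) * x₀ * (x : G)⁻¹ = j * x₀
  have hlt : Anti.card < Nrm.card := by
    refine Finset.card_lt_card (Finset.ssubset_iff_of_subset ?_ |>.2 ⟨1, ?_, ?_⟩)
    · intro x hx; simp only [Anti, Nrm, Finset.mem_filter] at hx ⊢; exact ⟨hx.1, Or.inr hx.2⟩
    · simp [Nrm]
    · simp only [Anti, Finset.mem_filter, Finset.mem_univ, true_and, OneMemClass.coe_one, one_mul,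
        inv_one, mul_one]
      exact fun e => hj1 (mul_eq_right.1 e.symm)
  -- lower bound for square roots of j
  have hlow : 2 * Nrm.card ≤ (A j).card := by
    let s : Bool → ↥L₁ := fun b => if b then jj else 1
    have hs : ∀ b, s b * s b = 1 := fun b => by cases b <;> simp [s, jjj]
    calc 2 * Nrm.card = (Nrm ×ˢ (Finset.univ : Finset Bool)).card := by
          rw [Finset.card_product, Finset.card_univ, Fintype.card_bool, mul_comm]
      _ ≤ (A j).card := by
        refine Finset.card_le_card_of_injOn (fun p => (p.1, p.1⁻¹ * s p.2)) ?_ ?_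
        · rintro ⟨x, b⟩ hxb
          simp only [Finset.coe_product, Set.mem_prod, Finset.mem_coe, Nrm, Finset.mem_filter,
            Finset.mem_univ, true_and, and_true] at hxb
          have hsc : ∀ z : ↥L₁, z * s b = s b * z := fun z => by
            cases b <;> simp [s, hjj_central z]
          have hmem : n * β x (x⁻¹ * s b) ∈ P := by
            rw [hmemP, hu]
            have ey : x⁻¹ * s b * x₀ * (x⁻¹ * s b)⁻¹ = x⁻¹ * x₀ * x := by
              rw [_root_.mul_inv_rev, mul_assoc x⁻¹ (s b), ← hsc x₀]; group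
            rw [ey]
            rcases hxb with h | h
            · have h' : x * x₀ * x⁻¹ = x₀ := Subtype.ext h
              have h'' : x⁻¹ * x₀ * x = x₀ := by
                conv_lhs => rw [← h']
                group
              rw [h', h'']
            · have h' : x * x₀ * x⁻¹ = jj * x₀ := Subtype.ext h
              have h'' : x⁻¹ * x₀ * x = jj * x₀ := by
                calc x⁻¹ * x₀ * x = x⁻¹ * (jj * (jj * x₀)) * x := by
                      rw [← mul_assoc jj jj, jjj, one_mul]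
                  _ = x⁻¹ * jj * (x * x₀ * x⁻¹) * x := by rw [h']; group
                  _ = x⁻¹ * (jj * x) * x₀ := by group
                  _ = jj * x₀ := by rw [← hjj_central x]; group
              rw [h', h'']; exact hβjsmul _ _
          simp only [A, S, Finset.coe_filter, Finset.mem_univ, true_and, Set.mem_setOf_eq,
            Finset.mem_filter]
          refine ⟨hmem, hnot _ _ hmem, ?_⟩
          rw [hsq, mul_assoc, ← hsc x, inv_mul_cancel_left, mul_inv_cancel_left]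
          have hss : β (s b) (s b) = 1 := by
            cases b
            · exact hβ1
            · simpa [s, hβ1] using hβjsmul 1 1
          rw [hss, mul_one]
        · rintro ⟨x, b⟩ _ ⟨x', b'⟩ _ h
          simp only [Prod.mk.injEq] at h
          obtain ⟨rfl, h⟩ := h
          have h' := mul_left_cancel h
          cases b <;> cases b' <;> simp [s] at h' ⊢
          · exact hj1 (congrArg Subtype.val h').symm
          · exact hj1 (congrArg Subtype.val h')
  -- upper bound for square roots of u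
  have hup : (A u).card ≤ 2 * Anti.card := by
    calc (A u).card ≤ (Anti ×ˢ ({x₀, jj * x₀} : Finset ↥L₁)).card := by
          refine Finset.card_le_card_of_injOn (fun p => (p.1, p.1 * p.2)) ?_ ?_
          · rintro ⟨x, y⟩ hxy
            simp only [A, S, Finset.coe_filter, Finset.mem_univ, true_and, Set.mem_setOf_eq,
              Finset.mem_filter] at hxy
            obtain ⟨-, -, hsqu⟩ := hxy
            rw [hsq, hjβ, hu] at hsqu
            simp only [Finset.coe_product, Set.mem_prod, Finset.mem_coe, Anti, Finset.mem_filter,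
              Finset.mem_univ, true_and, Finset.mem_insert, Finset.mem_singleton]
            have e : y * x = x⁻¹ * (x * y) * x := by group
            rcases heq _ _ _ _ hsqu with ⟨a, b⟩ | ⟨a, b⟩
            · refine ⟨?_, Or.inl b⟩
              rw [e, b] at a
              have : x * x₀ * x⁻¹ = jj * x₀ := by
                calc x * x₀ * x⁻¹ = x * (jj * (x⁻¹ * x₀ * x)) * x⁻¹ := by rw [a]
                  _ = x * jj * x⁻¹ * x₀ := by group
                  _ = jj * x₀ := by rw [hjj_central x]; group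
              exact congrArg Subtype.val this
            · refine ⟨?_, Or.inr b⟩
              rw [e, b] at a
              have a' : x⁻¹ * (jj * x₀) * x = x₀ := mul_left_cancel a
              have : x * x₀ * x⁻¹ = jj * x₀ := by
                conv_lhs => rw [← a']
                group
              exact congrArg Subtype.val this
          · rintro ⟨x, y⟩ _ ⟨x', y'⟩ _ h
            simp only [Prod.mk.injEq] at h ⊢
            obtain ⟨rfl, h⟩ := h
            exact ⟨rfl, mul_left_cancel h⟩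
      _ ≤ 2 * Anti.card := by
          rw [Finset.card_product, mul_comm]
          exact Nat.mul_le_mul_right _ Finset.card_le_two
  rw [hAcard] at hlow hup
  omega

/-- Let G be a finite group with subgroups L₁ ≅ SL₂(q₁) and L₂ ≅ SL₂(q₂), q₁ and q₂ odd prime powers, which commute elementwise and meet in ⟨j⟩ for an involution j, and suppose L₁L₂ has index 2 in C_G(j). If some n ∈ C_G(j) with n² = j interchanges L₁ and L₂ under conjugation (so that C_G(j) = L₁L₂⟨n⟩), then G = C_G(j)O(G). -/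
theorem result {G : Type*} [Group G] [Finite G]
    {F₁ : Type*} [Field F₁] [Fintype F₁] {F₂ : Type*} [Field F₂] [Fintype F₂]
    (hF₁ : Odd (Fintype.card F₁)) (hF₂ : Odd (Fintype.card F₂)) (L₁ L₂ : Subgroup G)
    (e₁ : ↥L₁ ≃* Matrix.SpecialLinearGroup (Fin 2) F₁) (e₂ : ↥L₂ ≃* Matrix.SpecialLinearGroup (Fin 2) F₂)
    (hc : ∀ x ∈ L₁, ∀ y ∈ L₂, x * y = y * x) (j : G) (hj : orderOf j = 2) (hm : L₁ ⊓ L₂ = Subgroup.zpowers j)
    (hle : L₁ ⊔ L₂ ≤ Subgroup.centralizer ({j} : Set G)) (hi : (L₁ ⊔ L₂).relIndex (Subgroup.centralizer ({j} : Set G)) = 2) (n : G) (hn : n ∈ Subgroup.centralizer ({j} : Set G))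
    (hn2 : n ^ 2 = j) (hswap : L₁.map (MulAut.conj n).toMonoidHom = L₂) :
    Subgroup.centralizer ({j} : Set G) ⊔ Cfsg.oddCore G = ⊤ := by
  classical
  have h2 : (2 : F₁) ≠ 0 := CfsgLib.SL2Orders.two_ne_zero_of_odd hF₁
  have hjL : j ∈ L₁ := (inf_le_left : L₁ ⊓ L₂ ≤ L₁) (hm ▸ Subgroup.mem_zpowers j)
  have hj1 : j ≠ 1 := fun e => by rw [e, orderOf_one] at hj; norm_num at hj
  have hjj : j * j = 1 := by rw [← sq, ← hj]; exact pow_orderOf_eq_one j
  have hej : e₁ ⟨j, hjL⟩ = -1 := by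
    refine (CfsgLib.SL2Orders.eq_one_or_neg_one_of_sq h2 _ ?_).resolve_left ?_
    · rw [← map_mul, show (⟨j, hjL⟩ : ↥L₁) * ⟨j, hjL⟩ = 1 from Subtype.ext hjj, map_one]
    · intro h
      exact hj1 (congrArg Subtype.val (e₁.injective (h.trans (map_one e₁).symm)))
  have hsq : ∀ x : ↥L₁, (x : G) * x = j → e₁ x * e₁ x = -1 := fun x hx => by
    rw [← map_mul, ← hej]; exact congrArg e₁ (Subtype.ext hx)
  have hsq' : ∀ x : ↥L₁, e₁ x * e₁ x = -1 → (x : G) * x = j := fun x hx => by
    rw [← map_mul, ← hej] at hx; exact congrArg Subtype.val (e₁.injective hx)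
  have hanti : ∀ w x : ↥L₁, (w : G) * x * (w : G)⁻¹ = j * x → e₁ w * e₁ x = -e₁ x * e₁ w := by
    intro w x h
    have h' : w * x = ⟨j, hjL⟩ * x * w := Subtype.ext (mul_inv_eq_iff_eq_mul.1 h)
    rw [← map_mul, h', map_mul, map_mul, hej, neg_mul, one_mul]
  have hiso : IsIsolated j := by
    refine core L₁ L₂ hc j hj hm hle hi n hn hn2 hswap ?_ ?_ ?_ ?_ ?_
    · obtain ⟨a, ha⟩ : ∃ a : Matrix.SpecialLinearGroup (Fin 2) F₁, a.1 0 1 = 1 :=
        ⟨⟨!![1, 1; 0, 1], by simp [Matrix.det_fin_two]⟩, rfl⟩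
      refine ⟨e₁.symm a, fun h => ?_, fun h => ?_⟩
      · have : a = 1 := by
          rw [← e₁.apply_symm_apply a, show e₁.symm a = 1 from Subtype.ext h, map_one]
        rw [this] at ha
        simp at ha
      · have : a = -1 := by
          rw [← e₁.apply_symm_apply a, show e₁.symm a = ⟨j, hjL⟩ from Subtype.ext h, hej]
        rw [this] at ha
        simp at ha
    · intro x hx
      rcases CfsgLib.SL2Orders.eq_one_or_neg_one_of_sq h2 (e₁ x)
        (by rw [← map_mul, hx, map_one]) with h | h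
      · exact Or.inl (by rw [e₁.injective (h.trans (map_one e₁).symm)]; rfl)
      · exact Or.inr (congrArg Subtype.val (e₁.injective (h.trans hej.symm)))
    · intro x y hx hy
      obtain ⟨h, hh⟩ := exists_conj_of_trace_zero h2 (trace_eq_zero_of_sq (hsq x hx))
        (trace_eq_zero_of_sq (hsq y hy))
      refine ⟨e₁.symm h, mul_inv_eq_iff_eq_mul.2 ?_⟩
      have : e₁.symm h * x = y * e₁.symm h := e₁.injective (by
        rw [map_mul, map_mul, e₁.apply_symm_apply]; exact hh)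
      exact congrArg Subtype.val this
    · intro x hx
      obtain ⟨h, hh⟩ := CfsgLib.SL2Centralizer.exists_conj_neg h2 (trace_eq_zero_of_sq (hsq x hx))
      refine ⟨e₁.symm h, mul_inv_eq_iff_eq_mul.2 ?_⟩
      have : e₁.symm h * x = ⟨j, hjL⟩ * x * e₁.symm h := e₁.injective (by
        rw [map_mul, map_mul, map_mul, e₁.apply_symm_apply, hej, neg_mul, one_mul]; exact hh)
      exact congrArg Subtype.val this
    · intro x w h
      exact hsq' w (sq_of_anti h2 (hanti w x h))
  rw [eq_top_iff]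
  rintro g -
  have ho := CfsgLib.ZStar.inZStar hj hiso g
  set o := g * j * g⁻¹ * j⁻¹ with ho'
  have hjinv : j⁻¹ = j := inv_eq_of_mul_eq_one_right hjj
  have hoj : j * o * j⁻¹ = o⁻¹ := by
    rw [ho']
    simp only [_root_.mul_inv_rev, inv_inv, hjinv]
    calc j * (g * j * g⁻¹ * j) * j = j * (g * j * g⁻¹) * (j * j) := by group
      _ = j * (g * j⁻¹ * g⁻¹) := by rw [hjj, mul_one, hjinv]
      _ = _ := by simp only [hjinv, mul_assoc]
  obtain ⟨m, hm'⟩ : Odd (orderOf o) := by
    have h := (orderOf_dvd_natCard (⟨o, ho⟩ : ↥(oddCore G)))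
    rw [Subgroup.orderOf_mk] at h
    exact Odd.of_dvd_nat (CfsgLib.card_pPrimeCore_coprime (G := G) 2).odd_of_right h
  set k := o ^ (m + 1) with hk
  have hko : k * k = o := by
    rw [hk, ← pow_add, show m + 1 + (m + 1) = orderOf o + 1 by omega, pow_succ,
      pow_orderOf_eq_one, one_mul]
  have hkj : j * k * j⁻¹ = k⁻¹ := by rw [hk, ← conj_pow, hoj, inv_pow]
  have hkconj : k * j * k⁻¹ = g * j * g⁻¹ := by
    calc k * j * k⁻¹ = k * (j * k⁻¹ * j⁻¹) * j := by group
      _ = k * k * j := by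
          rw [show j * k⁻¹ * j⁻¹ = (j * k * j⁻¹)⁻¹ by group, hkj, inv_inv]
      _ = g * j * g⁻¹ := by rw [hko, ho']; group
  have hkO : k ∈ oddCore G := pow_mem ho _
  have hC' : k⁻¹ * g ∈ Subgroup.centralizer ({j} : Set G) := by
    rw [Subgroup.mem_centralizer_singleton_iff]
    calc k⁻¹ * g * j = k⁻¹ * (g * j * g⁻¹) * g := by group
      _ = j * (k⁻¹ * g) := by rw [← hkconj]; group
  have hmem : k * (k⁻¹ * g) ∈ Subgroup.centralizer ({j} : Set G) ⊔ oddCore G :=
    mul_mem (Subgroup.mem_sup_right hkO) (Subgroup.mem_sup_left hC')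
  rwa [mul_inv_cancel_left] at hmem

end Cfsg.Agent.S3211
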