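import Cfsg.Statements.S3213
import Mathlib

set_option autoImplicit false
open Cfsg

namespace Cfsg.Agent.S3213

open Matrix

abbrev Q5 := ZMod 5 × ZMod 5 × ZMod 5 × ZMod 5

def mul5 : Q5 → Q5 → Q5
  | (a, b, c, d), (a', b', c', d') => (a * a' + b * c', a * b' + b * d', c * a' + d * c', c * b' + d * d')

def adj5 : Q5 → Q5
  | (a, b, c, d) => (d, -b, -c, a)

def one5 : Q5 := (1, 0, 0, 1)

def gl5 : List Q5 := [(1, 1, 0, 1), (1, 0, 1, 1), (1, 2, 0, 1), (1, 0, 2, 1), (1, 3, 0, 1), (1, 4, 0, 1)]

def yy (x g : Q5) : Q5 := mul5 (mul5 x (mul5 (mul5 g x) (adj5 g))) (mul5 x (mul5 (mul5 g x) (adj5 g)))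

theorem det_gl5 : ∀ g ∈ gl5, g.1 * g.2.2.2 - g.2.1 * g.2.2.1 = 1 := by decide +kernel

theorem table5 : ∀ a b c d : ZMod 5, a * d - b * c = 1 → (a, b, c, d) ≠ one5 →
    mul5 (a, b, c, d) (mul5 (a, b, c, d) (a, b, c, d)) = one5 →
    ∃ g ∈ gl5, yy (a, b, c, d) g ≠ one5 ∧
      mul5 (yy (a, b, c, d) g) (mul5 (mul5 (yy (a, b, c, d) g) (yy (a, b, c, d) g))
        (mul5 (yy (a, b, c, d) g) (yy (a, b, c, d) g))) = one5 := by decide +kernel

def toQ (x : Matrix.SpecialLinearGroup (Fin 2) (ZMod 5)) : Q5 := (x.1 0 0, x.1 0 1, x.1 1 0, x.1 1 1)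

theorem toQ_mul (x y : Matrix.SpecialLinearGroup (Fin 2) (ZMod 5)) : toQ (x * y) = mul5 (toQ x) (toQ y) := by
  simp [toQ, mul5, Matrix.SpecialLinearGroup.coe_mul, Matrix.mul_apply, Fin.sum_univ_two]

theorem toQ_inv (x : Matrix.SpecialLinearGroup (Fin 2) (ZMod 5)) : toQ x⁻¹ = adj5 (toQ x) := by
  simp [toQ, adj5, Matrix.SpecialLinearGroup.coe_inv, Matrix.adjugate_fin_two]

theorem toQ_one : toQ 1 = one5 := by simp [toQ, one5]

theorem toQ_inj {x y : Matrix.SpecialLinearGroup (Fin 2) (ZMod 5)} (h : toQ x = toQ y) : x = y := by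
  simp only [toQ, Prod.mk.injEq] at h
  obtain ⟨h1, h2, h3, h4⟩ := h
  ext i j
  fin_cases i <;> fin_cases j <;> assumption

theorem exists_five {x : Matrix.SpecialLinearGroup (Fin 2) (ZMod 5)} (hx1 : x ≠ 1) (hx : x * (x * x) = 1) :
    ∃ g, (x * (g * x * g⁻¹)) ^ 2 ≠ 1 ∧ ((x * (g * x * g⁻¹)) ^ 2) ^ 5 = 1 := by
  have hdet : x.1 0 0 * x.1 1 1 - x.1 0 1 * x.1 1 0 = 1 := by rw [← Matrix.det_fin_two]; exact x.2
  obtain ⟨⟨a, b, c, d⟩, hg, h1, h5⟩ := table5 _ _ _ _ hdet
    (fun e => hx1 (toQ_inj (e.trans toQ_one.symm)))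
    (by show mul5 (toQ x) (mul5 (toQ x) (toQ x)) = one5; rw [← toQ_mul, ← toQ_mul, hx, toQ_one])
  have hgd : (!![a, b; c, d] : Matrix (Fin 2) (Fin 2) (ZMod 5)).det = 1 := by
    rw [Matrix.det_fin_two_of]; exact det_gl5 _ hg
  refine ⟨⟨_, hgd⟩, ?_⟩
  set g : Matrix.SpecialLinearGroup (Fin 2) (ZMod 5) := ⟨_, hgd⟩
  have hy : toQ ((x * (g * x * g⁻¹)) ^ 2) = yy (toQ x) (a, b, c, d) := by
    simp only [pow_two, toQ_mul, toQ_inv, yy]
    simp [g, toQ]
  refine ⟨fun e => h1 ?_, toQ_inj ?_⟩
  · rw [e, toQ_one] at hy; exact hy.symm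
  · set y := (x * (g * x * g⁻¹)) ^ 2
    rw [show y ^ 5 = y * ((y * y) * (y * y)) by simp [pow_succ, mul_assoc], toQ_mul, toQ_mul, toQ_mul, hy, toQ_one]
    exact h5

section
variable {F : Type*} [Field F] [Fintype F]

/-- In four dimensions over three elements, an element with `y ^ 5 = 1` fixing a plane is trivial. -/
theorem five_trivial (hF : Fintype.card F = 3) {V : Type*} [AddCommGroup V] [Module F V]
    [FiniteDimensional F V] (hV : Module.finrank F V = 4) (y : V →ₗ[F] V) (h5 : y ^ 5 = 1)
    (hfix : 2 ≤ Module.finrank F (LinearMap.ker (y - LinearMap.id))) : y = 1 := by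
  classical
  set T := y - LinearMap.id with hT
  set L := LinearMap.range T with hL
  have : Finite V := Module.finite_of_finite F
  have := Fintype.ofFinite L
  have hLd : Module.finrank F L ≤ 2 := by
    have h := LinearMap.finrank_range_add_finrank_ker T
    rw [hV] at h
    change Module.finrank F L + Module.finrank F (LinearMap.ker T) = 4 at h
    change 2 ≤ Module.finrank F (LinearMap.ker T) at hfix
    omega
  have hyL : ∀ v ∈ L, y v ∈ L := by
    rintro _ ⟨u, rfl⟩
    exact ⟨y u, by simp [hT, map_sub]⟩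
  have h5' : ∀ v, y (y (y (y (y v)))) = v := fun v => by
    have := LinearMap.congr_fun h5 v
    simpa [pow_succ] using this
  let σ : Equiv.Perm L :=
    { toFun := fun v => ⟨y v.1, hyL _ v.2⟩
      invFun := fun v => ⟨y (y (y (y v.1))), hyL _ (hyL _ (hyL _ (hyL _ v.2)))⟩
      left_inv := fun v => Subtype.ext (h5' v.1)
      right_inv := fun v => Subtype.ext (h5' v.1) }
  have hσ : σ ^ 5 ^ 1 = 1 := by
    ext v
    simp [pow_succ, σ, h5']
  have := Fact.mk (show Nat.Prime 5 by norm_num)
  have hmod := Equiv.Perm.card_compl_support_modEq hσ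
  let W : Submodule F L := (LinearMap.ker (y - LinearMap.id)).comap L.subtype
  have := Fintype.ofFinite W
  have hW : σ.supportᶜ.card = Nat.card W := by
    rw [Nat.card_eq_fintype_card]
    refine (Fintype.card_of_subtype _ fun v => ?_).symm
    simp [W, σ, Subtype.ext_iff, sub_eq_zero]
  rw [hW, ← Nat.card_eq_fintype_card, Module.natCard_eq_pow_finrank (K := F) (V := W),
    Module.natCard_eq_pow_finrank (K := F) (V := L), Nat.card_eq_fintype_card, hF] at hmod
  have hle : Module.finrank F W ≤ Module.finrank F L := Submodule.finrank_le W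
  have htop : W = ⊤ := by
    refine Submodule.eq_top_of_finrank_eq ?_
    interval_cases h1 : Module.finrank F L <;> interval_cases h2 : Module.finrank F W <;>
      first | rfl | simp [Nat.ModEq] at hmod
  have hTT : ∀ v, T (T v) = 0 := fun v => by
    have : (⟨T v, v, rfl⟩ : L) ∈ W := htop ▸ Submodule.mem_top
    exact LinearMap.mem_ker.mp this
  have h3 : (3 : F) = 0 := by
    have := FiniteField.cast_card_eq_zero F
    rw [hF] at this; exact_mod_cast this
  ext v
  have e1 : y v = v + T v := by simp [hT]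
  have e2 : y (T v) = T v := by
    have h := hTT v; rw [hT, LinearMap.sub_apply] at h; exact sub_eq_zero.mp h
  have h := h5' v
  simp only [e1, map_add, e2] at h
  have h30 : (3 : F) • T v = 0 := by rw [h3, zero_smul]
  show y v = v
  rw [e1]
  have h5z : (5 : F) • T v = 0 := by
    have h' : v + (5 : F) • T v = v := by
      refine Eq.trans ?_ h
      module
    exact add_eq_left.mp h'
  have h2z : (2 : F) • T v = 0 := by
    rw [show (2 : F) = 5 - 3 by norm_num, sub_smul, h5z, h30, sub_zero]
  have h1z : T v = 0 := by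
    rw [← one_smul F (T v), show (1 : F) = 3 - 2 by norm_num, sub_smul, h30, h2z, sub_zero]
  rw [h1z, add_zero]

end

/-- Let F be the field with 3 elements and K the field with 5 elements. For every injective homomorphism φ from SL₂(K) into the symplectic group Sp₄(F) (4 × 4 matrices g with g J gᵀ = J for the standard alternating matrix J) and every element x of order 3 of SL₂(K), the vectors of F⁴ fixed by φ(x) form a 2-dimensional subspace that is totally isotropic for the alternating form defined by J. -/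
theorem result {F : Type*} [Field F] [Fintype F] (hF : Fintype.card F = 3)
    {K : Type*} [Field K] [Fintype K] (hK : Fintype.card K = 5)
    (φ : Matrix.SpecialLinearGroup (Fin 2) K →* ↥(Matrix.symplecticGroup (Fin 2) F)) (hφ : Function.Injective φ)
    (x : Matrix.SpecialLinearGroup (Fin 2) K) (hx : orderOf x = 3) :
    Module.finrank F ↥(LinearMap.ker (Matrix.toLin' ((φ x : Matrix (Fin 2 ⊕ Fin 2) (Fin 2 ⊕ Fin 2) F)) - LinearMap.id)) = 2 ∧
      ∀ v w : Fin 2 ⊕ Fin 2 → F, (φ x : Matrix (Fin 2 ⊕ Fin 2) (Fin 2 ⊕ Fin 2) F).mulVec v = v →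
        (φ x : Matrix (Fin 2 ⊕ Fin 2) (Fin 2 ⊕ Fin 2) F).mulVec w = w →
          dotProduct v ((Matrix.J (Fin 2) F).mulVec w) = 0 := by
  classical
  have := Fact.mk (show Nat.Prime 5 by norm_num)
  let e : K ≃+* ZMod 5 := FiniteField.ringEquivOfCardEq (K := K) (K' := ZMod 5) (by rw [hK, ZMod.card])
  let eS : Matrix.SpecialLinearGroup (Fin 2) K →* Matrix.SpecialLinearGroup (Fin 2) (ZMod 5) :=
    Matrix.SpecialLinearGroup.map e.toRingHom
  have heS : Function.Bijective eS := by
    refine ⟨fun a b h => ?_, fun a => ⟨Matrix.SpecialLinearGroup.map e.symm.toRingHom a, ?_⟩⟩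
    · ext i j
      exact e.injective (congrArg (fun m : Matrix.SpecialLinearGroup (Fin 2) (ZMod 5) => m.1 i j) h)
    · ext i j; simp [eS]
  set M := fun g => Matrix.toLin' ((φ g : Matrix (Fin 2 ⊕ Fin 2) (Fin 2 ⊕ Fin 2) F)) with hM
  have hMmul : ∀ g h, M (g * h) = M g * M h := fun g h => by
    simp only [hM, map_mul, Submonoid.coe_mul, Matrix.toLin'_mul]; rfl
  have hM1 : M 1 = 1 := by simp only [hM, map_one, Submonoid.coe_one, Matrix.toLin'_one]; rfl
  have hMinj : ∀ g, M g = 1 → g = 1 := fun g hg => hφ (Subtype.ext (Matrix.toLin'.injective (by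
    rw [map_one, Submonoid.coe_one, Matrix.toLin'_one]; exact hg)))
  set T := M x - LinearMap.id with hT
  have hx3 : x * (x * x) = 1 := by
    have := pow_orderOf_eq_one x; rw [hx, pow_succ, pow_two, mul_assoc] at this; exact this
  have hx1 : x ≠ 1 := fun h => by simp [h] at hx
  have hfin : Module.finrank F (Fin 2 ⊕ Fin 2 → F) = 4 := by simp
  have h30 : (3 : F) = 0 := by
    have := FiniteField.cast_card_eq_zero F
    rw [hF] at this; exact_mod_cast this
  have hT3 : ∀ v, T (T (T v)) = 0 := fun v => by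
    have hh := LinearMap.congr_fun (show M x * (M x * M x) = 1 by rw [← hMmul, ← hMmul, hx3, hM1]) v
    simp only [Module.End.mul_apply, Module.End.one_apply] at hh
    simp only [hT, LinearMap.sub_apply, LinearMap.id_apply, map_sub]
    have h3v : (3 : F) • (M x (M x v) - M x v) = 0 := by rw [h30, zero_smul]
    have : M x (M x (M x v)) - M x (M x v) - (M x (M x v) - M x v) - (M x (M x v) - M x v - (M x v - v)) =
        M x (M x (M x v)) - v - (3 : F) • (M x (M x v) - M x v) := by module
    rw [this, hh, h3v, sub_self, sub_zero]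
  set k := Module.finrank F (LinearMap.ker T) with hk
  have hrk : Module.finrank F (LinearMap.range T) + k = 4 := by
    rw [hk, LinearMap.finrank_range_add_finrank_ker, hfin]
  -- at least two: `T ^ 3 = 0`
  have hk2 : 2 ≤ k := by
    by_contra hlt
    have hmap : ∀ W : Submodule F (Fin 2 ⊕ Fin 2 → F), Module.finrank F W ≤ Module.finrank F (W.map T) + k := by
      intro W
      have h := LinearMap.finrank_range_add_finrank_ker (T.domRestrict W)
      rw [LinearMap.range_domRestrict, LinearMap.ker_domRestrict] at h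
      have h2 : Module.finrank F (Submodule.comap W.subtype (LinearMap.ker T)) ≤ k := by
        rw [hk]
        exact LinearMap.finrank_le_finrank_of_injective (f := (W.subtype.restrict (p := Submodule.comap W.subtype (LinearMap.ker T)) (q := LinearMap.ker T) fun v hv => hv))
          (fun a b h => Subtype.ext (Subtype.ext (congrArg (fun w : LinearMap.ker T => (w : (Fin 2 ⊕ Fin 2 → F))) h)))
      omega
    have h1 := hmap (LinearMap.range T)
    have h2 := hmap ((LinearMap.range T).map T)
    have h3 : ((LinearMap.range T).map T).map T = ⊥ := by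
      rw [eq_bot_iff]
      rintro _ ⟨_, ⟨_, ⟨u, rfl⟩, rfl⟩, rfl⟩
      simp [hT3 u]
    rw [h3, finrank_bot] at h2
    omega
  -- not three: a transvection
  have hk3 : k ≤ 2 := by
    by_contra hlt
    have hy0 : eS x ≠ 1 := fun h => hx1 (heS.1 (h.trans (map_one eS).symm))
    obtain ⟨g', h1, h5⟩ := exists_five hy0 (by rw [← map_mul, ← map_mul, hx3, map_one])
    obtain ⟨g, rfl⟩ := heS.2 g'
    simp only [← map_inv, ← map_mul, ← map_pow] at h1 h5
    set y := (x * (g * x * g⁻¹)) ^ 2 with hy
    refine h1 ?_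
    rw [hMinj y ?_, map_one]
    refine five_trivial hF hfin (M y) ?_ ?_
    · have h5' : y ^ 5 = 1 := heS.1 (h5.trans (map_one eS).symm)
      rw [show y ^ 5 = y * (y * (y * (y * y))) by simp [pow_succ, mul_assoc]] at h5'
      rw [show (M y) ^ 5 = M y * (M y * (M y * (M y * M y))) by simp [pow_succ, mul_assoc],
        ← hMmul, ← hMmul, ← hMmul, ← hMmul, h5', hM1]
    · set W := LinearMap.ker T ⊓ (LinearMap.ker T).map (M g) with hW
      have hWle : W ≤ LinearMap.ker (M y - LinearMap.id) := by
        rintro v ⟨hv, u, hu, rfl⟩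
        have hu' : M x u = u := sub_eq_zero.mp (LinearMap.mem_ker.mp hu)
        have hv' : M x (M g u) = M g u := sub_eq_zero.mp (LinearMap.mem_ker.mp hv)
        have hgi : M g⁻¹ (M g u) = u := by
          rw [← Module.End.mul_apply, ← hMmul, inv_mul_cancel, hM1, Module.End.one_apply]
        have h1' : M (x * (g * x * g⁻¹)) (M g u) = M g u := by
          rw [hMmul, hMmul, hMmul]
          simp only [Module.End.mul_apply, hgi, hu', hv']
        rw [LinearMap.mem_ker, LinearMap.sub_apply, hy, pow_two, hMmul, Module.End.mul_apply, h1', h1',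
          LinearMap.id_apply, sub_self]
      have hMg : Function.Injective (M g) := fun a b h => by
        have := congrArg (M g⁻¹) h
        rwa [← Module.End.mul_apply, ← Module.End.mul_apply, ← hMmul, inv_mul_cancel, hM1] at this
      have e1 : Module.finrank F ((LinearMap.ker T).map (M g)) = k :=
        (Submodule.equivMapOfInjective _ hMg _).finrank_eq.symm
      have e2 := Submodule.finrank_sup_add_finrank_inf_eq (LinearMap.ker T) ((LinearMap.ker T).map (M g))
      have e3 := Submodule.finrank_le (LinearMap.ker T ⊔ (LinearMap.ker T).map (M g))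
      have e4 := Submodule.finrank_mono hWle
      rw [hW] at e4
      omega
  have hk' : k = 2 := le_antisymm hk3 hk2
  refine ⟨hk', ?_⟩
  -- the form
  set A := (φ x : Matrix (Fin 2 ⊕ Fin 2) (Fin 2 ⊕ Fin 2) F) with hA
  have hinv : Aᵀ * Matrix.J (Fin 2) F * A = Matrix.J (Fin 2) F := by
    have h := SymplecticGroup.transpose_mem (φ x).2
    rw [SymplecticGroup.mem_iff, Matrix.transpose_transpose] at h
    exact h
  let B : (Fin 2 ⊕ Fin 2 → F) → (Fin 2 ⊕ Fin 2 → F) → F := fun v w => v ⬝ᵥ (Matrix.J (Fin 2) F *ᵥ w)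
  have hAx : ∀ v, A *ᵥ v = v + T v := fun v => by simp [hT, hM, hA, Matrix.toLin'_apply]
  have hB : ∀ v w, B (v + T v) (w + T w) = B v w := fun v w => by
    show _ ⬝ᵥ _ = _
    rw [← hAx, ← hAx, Matrix.mulVec_mulVec, ← vecMul_transpose A v, ← dotProduct_mulVec,
      Matrix.mulVec_mulVec, ← Matrix.mul_assoc, hinv]
  have hBadd : ∀ u v w, B (u + v) w = B u w + B v w := fun u v w => add_dotProduct _ _ _
  have hBadd' : ∀ u v w, B u (v + w) = B u v + B u w := fun u v w => by
    show u ⬝ᵥ _ = _
    rw [Matrix.mulVec_add, dotProduct_add]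
  have hanti : ∀ v w, B v w = - B w v := fun v w => by
    show v ⬝ᵥ _ = -(w ⬝ᵥ _)
    rw [dotProduct_mulVec, ← mulVec_transpose, dotProduct_comm, Matrix.J_transpose, Matrix.neg_mulVec,
      dotProduct_neg]
  have halt : ∀ v, B v v = 0 := fun v => by
    have h := hanti v v
    have h2 : (2 : F) * B v v = 0 := by linear_combination h
    refine (mul_eq_zero.mp h2).resolve_left fun h2 => ?_
    exact one_ne_zero (α := F) (by linear_combination h30 - h2)
  have hperp : ∀ f, T f = 0 → ∀ u, B f (T u) = 0 := fun f hf u => by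
    have h := hB f u
    rw [hf, add_zero, hBadd'] at h
    exact add_eq_left.mp h
  have hnd : ∀ v, (∀ w, B v w = 0) → v = 0 := fun v hv => by
    have h0 : Matrix.vecMul v (Matrix.J (Fin 2) F) = 0 := funext fun i => by
      have := hv (Pi.single i 1)
      show _ = (0 : F)
      rw [← this]
      show _ = v ⬝ᵥ _
      rw [dotProduct_mulVec, dotProduct_single, mul_one]
    refine Matrix.vecMul_injective_iff_isUnit.mpr ?_ (h0.trans (Matrix.zero_vecMul _).symm)
    rw [Matrix.isUnit_iff_isUnit_det]; exact Matrix.isUnit_det_J _ _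
  set I := LinearMap.range T with hI
  have hI2 : Module.finrank F I = 2 := by omega
  have hskew : ∀ u w, B (T (T u)) w = - B (T u) (T w) := fun u w => by
    have h := hB (T u) w
    rw [hBadd, hBadd', hBadd', show B (T (T u)) (T w) = 0 by
      have h0 : T (T (T u)) = 0 := hT3 u
      exact hperp _ h0 w] at h
    linear_combination h
  have hTT : ∀ u, T (T u) = 0 := by
    by_contra hne
    push Not at hne
    obtain ⟨u₀, hu₀⟩ := hne
    set e := T (T u₀)
    have hd : Module.finrank F (I.map T) ≤ 1 := by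
      by_contra hd
      have hle : I.map T ≤ I := by rintro _ ⟨w, -, rfl⟩; exact ⟨w, rfl⟩
      have heq : I.map T = I := Submodule.eq_of_le_of_finrank_le hle (by omega)
      refine hu₀ (?_ : T (T u₀) = 0)
      have hm : T (T u₀) ∈ (I.map T).map T := by
        rw [heq]; exact ⟨T u₀, ⟨u₀, rfl⟩, rfl⟩
      obtain ⟨_, ⟨_, ⟨z, rfl⟩, rfl⟩, hz⟩ := hm
      rw [← hz, hT3]
    refine hu₀ (hnd e fun w => ?_)
    have he : e ∈ I.map T := ⟨T u₀, ⟨u₀, rfl⟩, rfl⟩
    have hspan : Submodule.span F {e} = I.map T :=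
      Submodule.eq_of_le_of_finrank_le (by rwa [Submodule.span_singleton_le_iff_mem])
        (by rw [finrank_span_singleton hu₀]; exact hd)
    have hm : T (T w) ∈ I.map T := ⟨T w, ⟨w, rfl⟩, rfl⟩
    rw [← hspan] at hm
    obtain ⟨c, hc⟩ := Submodule.mem_span_singleton.mp hm
    have h0 : B e u₀ = 0 := by
      show B (T (T u₀)) u₀ = 0
      rw [hskew, halt, neg_zero]
    show B (T (T u₀)) w = 0
    have e1 := hskew w u₀
    rw [hskew, hanti (T u₀), neg_neg, show B (T w) (T u₀) = -B (T (T w)) u₀ by rw [e1, neg_neg], ← hc]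
    show -((c • e) ⬝ᵥ _) = 0
    rw [smul_dotProduct]
    show -(c • B e u₀) = 0
    rw [h0, smul_zero, neg_zero]
  have hle : I ≤ LinearMap.ker T := by rintro _ ⟨u, rfl⟩; exact hTT u
  have heq : I = LinearMap.ker T := Submodule.eq_of_le_of_finrank_le hle (by omega)
  intro v w hv hw
  have hv0 : T v = 0 := by
    have := hAx v; rw [hA, hv] at this; exact left_eq_add.mp this
  have hw0 : T w = 0 := by
    have := hAx w; rw [hA, hw] at this; exact left_eq_add.mp this
  obtain ⟨u, rfl⟩ : w ∈ I := heq ▸ hw0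
  exact hperp v hv0 u

end Cfsg.Agent.S3213
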