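import Cfsg.Statements.S3215
import Mathlib
import Cfsg.Agent.Lib.Coprime
import Cfsg.Agent.Lib.PSolvable
import Cfsg.Agent.Lib.ZJ.Complement
import Cfsg.Agent.Lib.Frobenius.Complement
import Cfsg.Agent.Lib.Frobenius.UniqueSubgroup

set_option autoImplicit false
open Cfsg

namespace Cfsg.Agent.S3215

open scoped commutatorElement

section
variable {H : Type*} [Group H] [Finite H]

theorem odd_lift {Y : Subgroup H} [Y.Normal] (g : H ⧸ Y) (hg : Odd (orderOf g)) :
    ∃ w : H, QuotientGroup.mk' Y w = g ∧ Odd (orderOf w) := by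
  obtain ⟨u, rfl⟩ := QuotientGroup.mk'_surjective Y g
  obtain ⟨k, m, hm, hu⟩ := Nat.exists_eq_pow_mul_and_not_dvd (orderOf_pos u).ne' 2 (by norm_num)
  set π := QuotientGroup.mk' Y
  have hc : (2 ^ k).Coprime (orderOf (π u)) := Nat.Coprime.pow_left k (Nat.coprime_two_left.mpr hg)
  obtain ⟨c, hc'⟩ := exists_pow_eq_self_of_coprime hc
  refine ⟨u ^ (2 ^ k * c), by rw [map_pow, pow_mul]; exact hc', ?_⟩
  have h1 : orderOf (u ^ (2 ^ k * c)) ∣ m := by
    refine orderOf_dvd_of_pow_eq_one ?_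
    rw [← pow_mul, show 2 ^ k * c * m = 2 ^ k * m * c by ring, ← hu, pow_mul, pow_orderOf_eq_one, one_pow]
  exact Odd.of_dvd_nat (Nat.not_even_iff_odd.mp fun h => hm h.two_dvd) h1

theorem mem_complement {C : Type*} [Group C] [Finite C] (h : Cfsg.HasNormalPComplement 2 C) :
    ∃ M : Subgroup C, M.Normal ∧ Odd (Nat.card M) ∧ ∀ w : C, Odd (orderOf w) → w ∈ M := by
  have : Fact (Nat.Prime 2) := ⟨Nat.prime_two⟩
  obtain ⟨P, M, hM, hc⟩ := h
  refine ⟨M, hM, ?_, fun w hw => ?_⟩
  · rw [← hc.index_eq_card]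
    exact Nat.not_even_iff_odd.mp fun he => P.not_dvd_index he.two_dvd
  · obtain ⟨k, hk⟩ := P.2.exists_card_eq
    rw [← hc.symm.index_eq_card] at hk
    rw [← QuotientGroup.eq_one_iff, ← orderOf_eq_one_iff]
    refine Nat.dvd_one.mp ?_
    have h1 : orderOf (QuotientGroup.mk (s := M) w) ∣ orderOf w :=
      orderOf_map_dvd (QuotientGroup.mk' M) w
    have h2 : orderOf (QuotientGroup.mk (s := M) w) ∣ 2 ^ k := by
      rw [← hk]; exact orderOf_dvd_natCard _
    have hcop : Nat.Coprime (orderOf w) (2 ^ k) :=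
      Nat.Coprime.pow_right k (Nat.coprime_two_right.mpr hw)
    exact hcop ▸ Nat.dvd_gcd h1 h2

theorem zpowers_gen2 {A : Subgroup H} (hA : Nat.card A = 2) {a : H} (ha : a ∈ A)
    (hao : orderOf a = 2) : Subgroup.zpowers a = A :=
  Subgroup.eq_of_le_of_card_ge (Subgroup.zpowers_le.mpr ha) (by rw [Nat.card_zpowers, hao, hA])

end

/-- Let H be a finite solvable group with no nontrivial normal subgroup of odd order in which the centralizer of every involution has a normal 2-complement. Let X be a Hall 2'-subgroup of H (odd order, index a power of 2) and Y = O₂(H). Then no non-identity element of X commutes with a non-identity element of Y (so for X ≠ 1 the group XY is a Frobenius group with kernel Y), every Sylow subgroup of X is cyclic, XY is normal in H, and H/XY is a cyclic 2-group. -/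
theorem result {H : Type*} [Group H] [Finite H] (hsol : Group.IsSolvable H)
    (hO : Cfsg.oddCore H = ⊥)
    (hI : ∀ t : H, orderOf t = 2 → Cfsg.HasNormalPComplement 2 ↥(Subgroup.centralizer ({t} : Set H)))
    (X : Subgroup H) (hXodd : Odd (Nat.card X)) (hXidx : ∃ k : ℕ, X.index = 2 ^ k) :
    (∀ x ∈ X, x ≠ 1 → ∀ y ∈ Cfsg.pCore 2 H, y ≠ 1 → x * y ≠ y * x) ∧
      (∀ (p : ℕ) [Fact p.Prime] (P : Sylow p ↥X), IsCyclic ↥(P : Subgroup ↥X)) ∧
      (X ⊔ Cfsg.pCore 2 H).Normal ∧
      ∀ hN : (X ⊔ Cfsg.pCore 2 H).Normal, IsCyclic (H ⧸ (X ⊔ Cfsg.pCore 2 H)) ∧ IsPGroup 2 (H ⧸ (X ⊔ Cfsg.pCore 2 H)) := by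
  classical
  have h2 : Fact (Nat.Prime 2) := ⟨Nat.prime_two⟩
  set Y := Cfsg.pCore 2 H with hY
  have hYp : IsPGroup 2 Y := CfsgLib.isPGroup_pCore 2
  have hYn : Y.Normal := inferInstance
  have hfit : Cfsg.fittingSubgroup H = Y := CfsgLib.fitting_eq_pCore Nat.prime_two hO
  have hCY : Subgroup.centralizer (Y : Set H) ≤ Y := hfit ▸ CfsgLib.centralizer_fitting_le
  have hodd_bot : ∀ w ∈ Y, Odd (orderOf w) → w = 1 := by
    intro w hw ho
    obtain ⟨k, hk⟩ := IsPGroup.iff_orderOf.mp hYp ⟨w, hw⟩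
    rw [Subgroup.orderOf_mk] at hk
    rcases k with _ | k
    · exact orderOf_eq_one_iff.mp (by simpa using hk)
    · rw [hk] at ho; exact absurd ho (by simp [parity_simps])
  -- an odd element commuting with the involution `t` centralises `C_Y(t)`
  have hA : ∀ t w : H, orderOf t = 2 → Odd (orderOf w) → Commute w t → ∀ y ∈ Y, Commute y t → Commute w y := by
    intro t w ht hw hwt y hy hyt
    let C : Subgroup H := Subgroup.centralizer ({t} : Set H)
    obtain ⟨M, hMn, hMo, hM⟩ := mem_complement (C := C) (hI t ht)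
    let w' : C := ⟨w, Subgroup.mem_centralizer_singleton_iff.mpr hwt.eq⟩
    let y' : C := ⟨y, Subgroup.mem_centralizer_singleton_iff.mpr hyt.eq⟩
    have hw' : w' ∈ M := hM w' (by rw [← Subgroup.orderOf_coe]; exact hw)
    have h1 : w' * y' * w'⁻¹ * y'⁻¹ ∈ M := by
      rw [mul_assoc, mul_assoc]
      exact M.mul_mem hw' (by simpa [mul_assoc] using hMn.conj_mem _ (M.inv_mem hw') y')
    have h2 : w * y * w⁻¹ * y⁻¹ = 1 := by
      refine hodd_bot _ (Y.mul_mem (hYn.conj_mem y hy w) (Y.inv_mem hy)) ?_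
      exact Odd.of_dvd_nat hMo ((Subgroup.orderOf_coe (w' * y' * w'⁻¹ * y'⁻¹)) ▸
        Subgroup.orderOf_dvd_natCard M h1)
    exact mul_inv_eq_iff_eq_mul.mp (mul_inv_eq_one.mp h2)
  have hB : ∀ t w : H, t ∈ Y → orderOf t = 2 → Odd (orderOf w) → Commute w t → w = 1 := by
    intro t w htY ht hw hwt
    refine hodd_bot w (hCY ?_) hw
    refine CfsgLib.thompson_PxQ (p := 2) (P := Subgroup.zpowers t) (Q := Subgroup.zpowers w) ?_ ?_ ?_
      Y hYp ?_ ?_ ?_ (Subgroup.mem_zpowers w)
    · exact IsPGroup.of_card (n := 1) (by rw [Nat.card_zpowers, ht, pow_one])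
    · rw [Nat.card_zpowers]; exact Nat.coprime_two_right.mpr hw
    · rintro _ ⟨i, rfl⟩ _ ⟨j, rfl⟩
      exact (hwt.zpow_zpow j i).eq
    · rw [Subgroup.normalizer_eq_top]; exact le_top
    · rw [Subgroup.normalizer_eq_top]; exact le_top
    · rintro y ⟨hy, hyc⟩ _ ⟨j, rfl⟩
      exact ((hA t w ht hw hwt y hy (hyc t (Subgroup.mem_zpowers t)).symm).zpow_left j).eq
  have hC : ∀ w y : H, y ∈ Y → y ≠ 1 → Odd (orderOf w) → Commute w y → w = 1 := by
    intro w y hy hy1 hw hc
    obtain ⟨k, hk⟩ := IsPGroup.iff_orderOf.mp hYp ⟨y, hy⟩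
    rw [Subgroup.orderOf_mk] at hk
    have hd : 2 ∣ orderOf y := by
      rw [hk]
      exact dvd_pow_self 2 fun e => hy1 (orderOf_eq_one_iff.mp (by rw [hk, e, pow_zero]))
    exact hB _ w (pow_mem hy (orderOf y / 2)) (orderOf_pow_orderOf_div (orderOf_pos y).ne' hd) hw
      (hc.pow_right _)
  have hYbot : Y = ⊥ → ∀ g : H, g = 1 := fun e g => Subgroup.mem_bot.mp (e ▸ hCY (by
    intro y hy
    rw [e] at hy
    rw [Subgroup.mem_bot.mp hy, one_mul, mul_one]))
  have hD : ∀ t w : H, orderOf t = 2 → Odd (orderOf w) → Commute w t → w = 1 := by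
    intro t w ht hw hwt
    by_cases hY0 : Y = ⊥
    · exact hYbot hY0 w
    obtain ⟨y, hy, hy1⟩ : ∃ y ∈ Y ⊓ Subgroup.centralizer {t}, y ≠ 1 := by
      refine (Subgroup.bot_or_exists_ne_one _).resolve_left fun hbot => ?_
      obtain ⟨k, hk⟩ := hYp.exists_card_eq
      refine CfsgLib.Frob.not_dvd_card_of_fpf (p := 2) (by rw [Subgroup.normalizer_eq_top]; exact Subgroup.mem_top t) ht hbot ?_
      rw [hk]
      exact dvd_pow_self 2 fun e => hY0 (Subgroup.eq_bot_of_card_eq Y (by rw [hk, e, pow_zero]))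
    exact hC w y hy.1 hy1 hw (hA t w ht hw hwt y hy.1 (Subgroup.mem_centralizer_singleton_iff.mp hy.2))
  have hXo : ∀ x ∈ X, Odd (orderOf x) := fun x hx =>
    Odd.of_dvd_nat hXodd (Subgroup.orderOf_dvd_natCard X hx)
  -- odd `p`-subgroups are cyclic
  have hcyc : ∀ (p : ℕ), p.Prime → p ≠ 2 → ∀ A : Subgroup H, IsPGroup p A → IsCyclic A := by
    intro p hp hp2 A hA'
    have := Fact.mk hp
    by_cases hY0 : Y = ⊥
    · have : Subsingleton A := ⟨fun a b => Subtype.ext ((hYbot hY0 a).trans (hYbot hY0 b).symm)⟩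
      exact isCyclic_of_subsingleton
    set V := (Subgroup.center Y).map Y.subtype with hV
    have : IsMulCommutative V := inferInstance
    have hVY : V ≤ Y := Subgroup.map_subtype_le _
    have hV0 : V ≠ ⊥ := by
      have : Nontrivial Y := Y.nontrivial_iff_ne_bot.mpr hY0
      have := hYp.center_nontrivial
      rw [hV, Ne, Subgroup.map_eq_bot_iff_of_injective _ Y.subtype_injective]
      exact (Subgroup.nontrivial_iff_ne_bot _).mp this
    refine CfsgLib.Frob.isCyclic_of_uniq_odd hp2 hA' (CfsgLib.Frob.uniqSub_of_fpf hV0 ?_ ?_ hA')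
    · have hVn : V.Normal := inferInstance
      rw [Subgroup.normalizer_eq_top]; exact le_top
    · intro x hx hx1
      rw [Subgroup.eq_bot_iff_forall]
      rintro v ⟨hv, hvx⟩
      by_contra hv1
      obtain ⟨k, hk⟩ := IsPGroup.iff_orderOf.mp hA' ⟨x, hx⟩
      rw [Subgroup.orderOf_mk] at hk
      exact hx1 (hC x v (hVY hv) hv1 (hk ▸ (hp.odd_of_ne_two hp2).pow)
        (Subgroup.mem_centralizer_singleton_iff.mp hvx).symm)
  refine ⟨fun x hx hx1 y hy hy1 h => hx1 (hC x y hy hy1 (hXo x hx) h), fun p hpF P => ?_, ?_⟩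
  · by_cases hp2 : p = 2
    · subst hp2
      have : Subsingleton (P : Subgroup X) := by
        refine ⟨fun a b => ?_⟩
        have key : ∀ a : (P : Subgroup X), a = 1 := fun a => by
          obtain ⟨k, hk⟩ := IsPGroup.iff_orderOf.mp P.2 a
          have h1 : 2 ^ k ∣ Nat.card X := by
            rw [← hk, ← Subgroup.orderOf_coe]; exact orderOf_dvd_natCard _
          rcases k with _ | k
          · exact orderOf_eq_one_iff.mp (by simpa using hk)
          · exact absurd (Odd.of_dvd_nat hXodd h1) (by simp [parity_simps])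
        rw [key a, key b]
      exact isCyclic_of_subsingleton
    · have := hcyc p hpF.out hp2 _ (P.2.map X.subtype)
      exact ((P : Subgroup X).equivMapOfInjective X.subtype X.subtype_injective).isCyclic.mpr this
  -- the quotient by `Y`
  set π := QuotientGroup.mk' Y with hπ
  have hπs : Function.Surjective π := QuotientGroup.mk'_surjective Y
  have hsolQ : Group.IsSolvable (H ⧸ Y) := Group.isSolvable_of_surjective hπs
  set F := Cfsg.fittingSubgroup (H ⧸ Y) with hF
  have hCF : Subgroup.centralizer (F : Set (H ⧸ Y)) ≤ F := CfsgLib.centralizer_fitting_le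
  have hFodd : Odd (Nat.card F) := by
    have h1 : F ≤ Cfsg.pPrimeCore 2 (H ⧸ Y) := by
      refine CfsgLib.fittingSubgroup_le_iSup_pCore.trans (iSup_le fun q => ?_)
      rcases eq_or_ne 2 (q : ℕ) with e | e
      · rw [← e, CfsgLib.ZJ.pCore_quotient_pCore_eq_bot]; exact bot_le
      · exact CfsgLib.pCore_le_pPrimeCore_of_ne Nat.prime_two q.2 e
    exact Nat.coprime_two_right.mp
      ((CfsgLib.card_pPrimeCore_coprime (G := H ⧸ Y) 2).coprime_dvd_left (Subgroup.card_dvd_of_le h1))
  have hFn : F.Normal := inferInstance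
  -- an involution of the quotient centralises no element of odd order
  have hQ : ∀ a w : H ⧸ Y, orderOf a = 2 → Odd (orderOf w) → Commute w a → w = 1 := by
    intro a w ha hw hc
    obtain ⟨u, rfl, hu⟩ := odd_lift w hw
    obtain ⟨b, rfl⟩ := hπs a
    change Commute (π u) (π b) at hc
    set K := (Subgroup.zpowers (π b)).comap π with hK
    have hK2 : IsPGroup 2 K := IsPGroup.comap_of_ker_isPGroup
      (IsPGroup.of_card (n := 1) (by rw [Nat.card_zpowers, ha, pow_one])) π
      (by rw [hπ, QuotientGroup.ker_mk']; exact hYp)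
    have hYK : Y ≤ K := fun y hy => by
      show π y ∈ Subgroup.zpowers (π b)
      rw [show π y = 1 from (QuotientGroup.eq_one_iff y).mpr hy]; exact one_mem _
    have hAK : Subgroup.zpowers u ≤ Subgroup.normalizer (K : Set H) := by
      rw [Subgroup.zpowers_le, Subgroup.mem_normalizer_iff]
      intro x
      have hc' : ∀ z ∈ Subgroup.zpowers (π b), Commute (π u) z := by
        rintro _ ⟨i, rfl⟩; exact hc.zpow_right i
      show π x ∈ Subgroup.zpowers (π b) ↔ π (u * x * u⁻¹) ∈ Subgroup.zpowers (π b)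
      rw [map_mul, map_mul, map_inv]
      constructor
      · intro h; rwa [(hc' _ h).eq, mul_inv_cancel_right]
      · intro h
        have e := (hc' _ h).eq
        have e2 : π u * π x * (π u)⁻¹ = π x := mul_left_cancel (e.trans (by group))
        rwa [e2] at h
    obtain ⟨k, hk⟩ := hK2.exists_card_eq
    obtain ⟨c, ⟨hcK, hcc⟩, hcb⟩ := CfsgLib.coprime_fixed_quotient (A := Subgroup.zpowers u) (K := K) (N := Y)
      hAK (by rw [Nat.card_zpowers, hk]; exact Nat.Coprime.pow_right k (Nat.coprime_two_right.mpr hu))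
      (Or.inl inferInstance) hYK (by rw [Subgroup.normalizer_eq_top]; exact le_top)
      (by rw [Subgroup.normalizer_eq_top]; exact le_top) (k := b) (Subgroup.mem_zpowers (π b))
      (by
        rintro _ ⟨i, rfl⟩
        rw [← QuotientGroup.eq_one_iff]
        show π (u ^ i * b * (u ^ i)⁻¹ * b⁻¹) = 1
        rw [map_mul, map_mul, map_mul, map_inv, map_inv, map_zpow, (hc.zpow_left i).eq]
        group)
    have hc1 : c ≠ 1 := fun e => by
      rw [e, mul_one] at hcb
      rw [show π b = 1 from (QuotientGroup.eq_one_iff b).mpr (by simpa using Y.inv_mem hcb), orderOf_one] at ha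
      exact absurd ha (by norm_num)
    obtain ⟨j, hj⟩ := IsPGroup.iff_orderOf.mp hK2 ⟨c, hcK⟩
    rw [Subgroup.orderOf_mk] at hj
    have hd : 2 ∣ orderOf c := by
      rw [hj]; exact dvd_pow_self 2 fun e => hc1 (orderOf_eq_one_iff.mp (by rw [hj, e, pow_zero]))
    have := hD _ u (orderOf_pow_orderOf_div (orderOf_pos c).ne' hd) hu
      ((show Commute u c from hcc u (Subgroup.mem_zpowers u)).pow_right _)
    rw [this, map_one]
  have hFc : IsCyclic F := by
    have : Group.IsNilpotent F := CfsgLib.isNilpotent_fittingSubgroup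
    have : IsZGroup F := by
      refine ⟨fun q hq Q => ?_⟩
      have := Fact.mk hq
      by_cases hq2 : q = 2
      · subst hq2
        have : Subsingleton (Q : Subgroup F) := by
          refine ⟨fun a b => ?_⟩
          have key : ∀ a : (Q : Subgroup F), a = 1 := fun a => by
            obtain ⟨k, hk⟩ := IsPGroup.iff_orderOf.mp Q.2 a
            have h1 : 2 ^ k ∣ Nat.card F := by
              rw [← hk, ← Subgroup.orderOf_coe]; exact orderOf_dvd_natCard _
            rcases k with _ | k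
            · exact orderOf_eq_one_iff.mp (by simpa using hk)
            · exact absurd (Odd.of_dvd_nat hFodd h1) (by simp [parity_simps])
          rw [key a, key b]
        exact isCyclic_of_subsingleton
      · obtain ⟨R, hR⟩ := (Q.2.map F.subtype).exists_le_sylow
        obtain ⟨P₀⟩ : Nonempty (Sylow q H) := inferInstance
        have := hcyc q hq hq2 _ P₀.2
        let P₁ := P₀.mapSurjective hπs
        have hc1 : IsCyclic (P₁ : Subgroup (H ⧸ Y)) := by
          show IsCyclic ((P₀ : Subgroup H).map π)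
          exact isCyclic_of_surjective _ (π.subgroupMap_surjective _)
        have hc2 : IsCyclic (R : Subgroup (H ⧸ Y)) := (Sylow.equiv R P₁).isCyclic.mpr hc1
        have hc3 := Subgroup.isCyclic_of_le hR
        exact ((Q : Subgroup F).equivMapOfInjective F.subtype F.subtype_injective).isCyclic.mpr hc3
    infer_instance
  have hder : ∀ g k : H ⧸ Y, ⁅g, k⁆ ∈ F := by
    intro g k
    refine hCF ?_
    have h1 : MulAut.conjNormal (H := F) ⁅g, k⁆ = 1 := by
      rw [map_commutatorElement, commutatorElement_eq_one_iff_mul_comm]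
      exact (IsCyclic.mulAutMulEquiv F).injective (by rw [map_mul, map_mul, mul_comm])
    intro f hf
    have := congrArg (fun e : MulAut F => ((e ⟨f, hf⟩ : F) : H ⧸ Y)) h1
    simp only [MulAut.conjNormal_apply, MulAut.one_apply] at this
    exact (mul_inv_eq_iff_eq_mul.mp this).symm
  obtain ⟨k, hk⟩ := hXidx
  have hXbar : F ≤ X.map π := by
    have h1 : Nat.card (X.map π ⊔ F : Subgroup (H ⧸ Y)) ∣ Nat.card (X.map π) * Nat.card F :=
      CfsgLib.card_sup_dvd_mul _ _
    obtain ⟨j, -, hj⟩ := (Nat.dvd_prime_pow Nat.prime_two).mp (hk ▸ Subgroup.index_map_dvd X hπs)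
    have h3 := (X.map π).card_mul_index
    rw [hj] at h3
    have hodd2 : Odd (Nat.card (X.map π ⊔ F : Subgroup (H ⧸ Y))) :=
      Odd.of_dvd_nat ((Odd.of_dvd_nat hXodd (Subgroup.card_map_dvd X π)).mul hFodd) h1
    have h4 : Nat.card (X.map π ⊔ F : Subgroup (H ⧸ Y)) ∣ Nat.card (X.map π) * 2 ^ j :=
      h3 ▸ Subgroup.card_subgroup_dvd_card _
    have h5 := (Nat.Coprime.pow_right j (Nat.coprime_two_right.mpr hodd2)).dvd_of_dvd_mul_right h4
    have h6 := Subgroup.eq_of_le_of_card_ge (le_sup_left : X.map π ≤ X.map π ⊔ F) (Nat.le_of_dvd Nat.card_pos h5)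
    rw [h6]; exact le_sup_right
  have hXn : (X.map π).Normal := ⟨fun x hx g => by
    have := (X.map π).mul_mem (hXbar (hder g x)) hx
    simpa [commutatorElement_def, mul_assoc] using this⟩
  have hNn : (X ⊔ Y).Normal := by
    have : X ⊔ Y = (X.map π).comap π := by rw [Subgroup.comap_map_eq, hπ, QuotientGroup.ker_mk']
    rw [this]; exact hXn.comap π
  refine ⟨hNn, fun hN => ?_⟩
  have hPq : IsPGroup 2 (H ⧸ (X ⊔ Y)) := by
    obtain ⟨j, -, hj⟩ := (Nat.dvd_prime_pow Nat.prime_two).mp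
      (hk ▸ Subgroup.index_dvd_of_le (le_sup_left : X ≤ X ⊔ Y))
    exact IsPGroup.of_card (n := j) (by rw [← Subgroup.index_eq_card, hj])
  refine ⟨?_, hPq⟩
  obtain ⟨S⟩ : Nonempty (Sylow 2 (H ⧸ Y)) := inferInstance
  have hSF : ∀ s ∈ (S : Subgroup (H ⧸ Y)), s ∈ F → s = 1 := by
    intro s hs hsF
    obtain ⟨j, hj⟩ := IsPGroup.iff_orderOf.mp S.2 ⟨s, hs⟩
    rw [Subgroup.orderOf_mk] at hj
    have h1 : Odd (2 ^ j) := hj ▸ Odd.of_dvd_nat hFodd (Subgroup.orderOf_dvd_natCard F hsF)
    rcases j with _ | j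
    · exact orderOf_eq_one_iff.mp (by simpa using hj)
    · exact absurd h1 (by simp [parity_simps])
  have hScomm : IsMulCommutative (S : Subgroup (H ⧸ Y)) := ⟨⟨fun a b => by
    have hm : ⁅(a : H ⧸ Y), (b : H ⧸ Y)⁆ ∈ (S : Subgroup (H ⧸ Y)) :=
      (⁅a, b⁆ : (S : Subgroup (H ⧸ Y))).2
    exact Subtype.ext (commutatorElement_eq_one_iff_mul_comm.mp (hSF _ hm (hder _ _)))⟩⟩
  have hinv : ∀ s : H ⧸ Y, orderOf s = 2 → ∀ f ∈ F, s * f * s⁻¹ = f⁻¹ := by
    intro s hs f hf
    have hm := hFn.conj_mem f hf s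
    have hs2 : s * s = 1 := by rw [← pow_two, ← hs, pow_orderOf_eq_one]
    have hsi : s⁻¹ = s := inv_eq_of_mul_eq_one_right hs2
    have hcf : Commute (s * f * s⁻¹) f :=
      congrArg Subtype.val ((IsCyclic.commGroup (α := F)).mul_comm ⟨_, hm⟩ ⟨f, hf⟩)
    have h1 : Commute (s * f * s⁻¹ * f) s := by
      have e : s * (s * f * s⁻¹ * f) * s⁻¹ = s * f * s⁻¹ * f := by
        rw [hsi] at hcf ⊢
        calc s * (s * f * s * f) * s = (s * s) * f * (s * f * s) := by group
          _ = f * (s * f * s) := by rw [hs2, one_mul]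
          _ = s * f * s * f := hcf.eq.symm
      exact (mul_inv_eq_iff_eq_mul.mp e).symm
    exact eq_inv_of_mul_eq_one_left (hQ s _ hs
      (Odd.of_dvd_nat hFodd (Subgroup.orderOf_dvd_natCard F (F.mul_mem hm hf))) h1)
  have hS : IsCyclic (S : Subgroup (H ⧸ Y)) := by
    refine CfsgLib.Frob.UniqSub.cyclic_of_comm S.2 fun A B hA hB => ?_
    obtain ⟨⟨a, haA⟩, hao⟩ := exists_prime_orderOf_dvd_card' (G := A) 2 (by rw [hA])
    obtain ⟨⟨b, hbB⟩, hbo⟩ := exists_prime_orderOf_dvd_card' (G := B) 2 (by rw [hB])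
    rw [Subgroup.orderOf_mk] at hao hbo
    have hab : a = b := by
      have h1 : (a : H ⧸ Y) * b ∈ F := by
        refine hCF fun f hf => ?_
        have ea := hinv _ (by rw [Subgroup.orderOf_coe, hao]) f hf
        have eb := hinv _ (by rw [Subgroup.orderOf_coe, hbo]) f hf
        have ea' := hinv _ (by rw [Subgroup.orderOf_coe, hao]) f⁻¹ (F.inv_mem hf)
        rw [inv_inv] at ea'
        have e : (a : H ⧸ Y) * b * f * ((a : H ⧸ Y) * b)⁻¹ = f := by
          calc _ = (a : H ⧸ Y) * ((b : H ⧸ Y) * f * (b : H ⧸ Y)⁻¹) * (a : H ⧸ Y)⁻¹ := by group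
            _ = f := by rw [eb, ea']
        exact (mul_inv_eq_iff_eq_mul.mp e).symm
      have h2 := hSF _ (Subgroup.mul_mem _ a.2 b.2) h1
      have hb2 : (b : H ⧸ Y) * b = 1 := by
        have := congrArg (Subtype.val) (pow_orderOf_eq_one b)
        rwa [hbo, SubgroupClass.coe_pow, pow_two, Subgroup.coe_one] at this
      exact Subtype.ext ((eq_inv_of_mul_eq_one_left h2).trans (inv_eq_of_mul_eq_one_right hb2))
    rw [← zpowers_gen2 hA haA hao, ← zpowers_gen2 hB hbB hbo, hab]
  let ψ : H ⧸ Y →* H ⧸ (X ⊔ Y) := QuotientGroup.map Y _ (MonoidHom.id H) le_sup_right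
  have hψs : Function.Surjective ψ := fun x => by
    obtain ⟨g, rfl⟩ := QuotientGroup.mk_surjective x
    exact ⟨π g, rfl⟩
  have htop : (S : Subgroup (H ⧸ Y)).map ψ = ⊤ := by
    have hmax := (S.mapSurjective hψs).3 (Q := ⊤) (hPq.to_subgroup ⊤) le_top
    exact hmax.symm
  have hsur := ψ.subgroupMap_surjective (S : Subgroup (H ⧸ Y))
  have hc := isCyclic_of_surjective _ hsur
  rw [htop] at hc
  exact Subgroup.topEquiv.isCyclic.mp hc

end Cfsg.Agent.S3215
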