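import Cfsg.Statements.S3222
import Cfsg.Agent.Lib.TwoS4.Main
import Cfsg.Agent.Lib.CharTheory.Burnside

set_option autoImplicit false
open Cfsg

namespace Cfsg.Agent.S3222

open CfsgLib.TwoS4 in
/-- Let G be a finite group of even order such that (1) some involution t lying in the centre of a Sylow 2-subgroup of G has C_G(t) ≅ Z₂ × S₄, and (2) every Sylow 2-subgroup S of G satisfies C_G(S′) = S, where S′ is the derived subgroup of S. Then G = C_G(t) if G is solvable, and G ≅ S₆ otherwise. -/
theorem result {G : Type*} [Group G] [Finite G] (hev : Even (Nat.card G))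
    (t : G) (ht : orderOf t = 2) (T : Sylow 2 G) (htT : t ∈ (T : Subgroup G)) (htc : ∀ s ∈ (T : Subgroup G), s * t = t * s)
    (e : ↥(Subgroup.centralizer ({t} : Set G)) ≃* (Multiplicative (ZMod 2) × Equiv.Perm (Fin 4)))
    (h2 : ∀ S : Sylow 2 G, Subgroup.centralizer ((⁅(S : Subgroup G), (S : Subgroup G)⁆ : Subgroup G) : Set G) = (S : Subgroup G)) :
    (Group.IsSolvable G → Subgroup.centralizer ({t} : Set G) = ⊤) ∧
      (¬ Group.IsSolvable G → Nonempty (G ≃* Equiv.Perm (Fin 6))) := by
  haveI : Fact (Nat.Prime 2) := ⟨Nat.prime_two⟩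
  set C := Subgroup.centralizer ({t} : Set G) with hC
  let φ : CfsgLib.TwoS4.M →* G := C.subtype.comp e.symm.toMonoidHom
  have hinj : Function.Injective φ := C.subtype_injective.comp e.symm.injective
  have hφC : ∀ m, φ m * t = t * φ m := fun m => Subgroup.mem_centralizer_singleton_iff.mp (e.symm m).2
  have hsurj : ∀ x : G, x * t = t * x → ∃ m, φ m = x := fun x hx =>
    ⟨e ⟨x, Subgroup.mem_centralizer_singleton_iff.mpr hx⟩,
      congrArg Subtype.val (e.symm_apply_apply ⟨x, Subgroup.mem_centralizer_singleton_iff.mpr hx⟩)⟩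
  have ha : φ a0 = t := by
    obtain ⟨m, hm⟩ := hsurj t rfl
    have : m = a0 := center_M m (fun x => hinj (by rw [map_mul, map_mul, hm, hφC x]))
      (fun e1 => by rw [e1, map_one] at hm; rw [← hm, orderOf_one] at ht; omega)
    rw [← this, hm]
  have hT16 : Nat.card (T : Subgroup G) ≤ 16 := by
    have hle : (T : Subgroup G) ≤ C := fun s hs => Subgroup.mem_centralizer_singleton_iff.mpr (htc s hs)
    have hd := Subgroup.card_dvd_of_le hle
    rw [Nat.card_congr e.toEquiv, Nat.card_eq_fintype_card (α := CfsgLib.TwoS4.M), card_M] at hd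
    obtain ⟨k, hk⟩ := IsPGroup.iff_card.mp T.2
    rw [hk] at hd ⊢
    refine show 2 ^ k ≤ 2 ^ 4 from Nat.pow_le_pow_right (by norm_num) ?_
    by_contra hlt
    have := (pow_dvd_pow 2 (by omega : 5 ≤ k)).trans hd
    norm_num at this
  have hcard : Nat.card ↥(Tm.map φ) = 2 ^ 4 := by
    rw [Subgroup.card_map_of_injective hinj, Nat.card_congr (Equiv.subtypeEquivRight fun m => mem_Tm),
      Nat.card_eq_fintype_card, card_T]
    rfl
  obtain ⟨P, hP⟩ := (IsPGroup.of_card hcard).exists_le_sylow
  have hPeq : Tm.map φ = (P : Subgroup G) := by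
    refine Subgroup.eq_of_le_of_card_ge hP ?_
    rw [hcard]
    have e1 : Nat.card (P : Subgroup G) = Nat.card (T : Subgroup G) := by
      rw [P.card_eq_multiplicity, T.card_eq_multiplicity]
    rw [e1]
    exact hT16
  have hsyl : ∀ x : G, x ∈ (P : Subgroup G) ↔ ∃ m, InT m ∧ φ m = x := by
    intro x
    rw [← hPeq, Subgroup.mem_map]
    simp only [mem_Tm]
  have hcz : ∀ x : G, x * φ z0 = φ z0 * x → ∃ m, InT m ∧ φ m = x := by
    intro x hx
    rw [← hsyl, ← h2 P, Subgroup.mem_centralizer_iff]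
    have hle : ⁅(P : Subgroup G), (P : Subgroup G)⁆ ≤ Subgroup.zpowers (φ z0) := by
      rw [Subgroup.commutator_le]
      intro a ha' b hb
      obtain ⟨m, hm, rfl⟩ := (hsyl a).mp ha'
      obtain ⟨n, hn, rfl⟩ := (hsyl b).mp hb
      rw [commutatorElement_def, ← map_inv, ← map_inv, ← map_mul, ← map_mul, ← map_mul]
      rcases comm_T m n hm hn with c | c <;> rw [c]
      · rw [map_one]; exact one_mem _
      · exact Subgroup.mem_zpowers _
    intro y hy
    obtain ⟨k, rfl⟩ := Subgroup.mem_zpowers_iff.mp (hle hy)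
    exact ((show Commute x (φ z0) from hx).zpow_right k).eq.symm
  have h : Hyp t φ P := ⟨hinj, ha, hsurj, hcz, hsyl⟩
  rcases dichotomy h with hd | hψ
  · refine ⟨fun _ => hd, fun hns => absurd ?_ hns⟩
    refine CfsgLib.CharTheory.isSolvable_of_card_two_primes Nat.prime_two Nat.prime_three (a := 4) (b := 1) ?_
    have h48 := h.card_cent
    rw [hd, Subgroup.card_top] at h48
    rw [h48]
    rfl
  · refine ⟨fun hs => ?_, fun _ => hψ⟩
    obtain ⟨ψ⟩ := hψ
    haveI := hs
    refine absurd ?_ (Equiv.Perm.not_isSolvable (Fin 6) (by rw [Cardinal.mk_fin]; norm_num))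
    exact Group.isSolvable_of_surjective (f := ψ.toMonoidHom) ψ.surjective

end Cfsg.Agent.S3222
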