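import Cfsg.Statements.S3232
import Cfsg.Agent.S0814
import Cfsg.Agent.Lib.FiTwoType.Isolated
import Cfsg.Agent.Lib.FiTwoType.CaseA
import Cfsg.Agent.Lib.FiTwoType.CaseB

set_option autoImplicit false
set_option linter.style.haveILetI false
open Cfsg

namespace Cfsg.Agent.S3232

/-- Let G be a finite group with an involution z, H = C_G(z), such that J = O₂(H) is an (internal) direct product of a group of order 2 and an extraspecial group of order 2⁹, with derived subgroup J′ = ⟨z⟩, C_H(J) ≤ J and H/J ≅ Aut(PSp₄(3)). Then G = H·O(G); or some involution z₁ ∈ Z(J) outside ⟨z⟩ generates a normal subgroup of G and G has a subgroup G₀ of index 2 containing z₁ with G₀/⟨z₁⟩ ≅ U₆(2); or G is isomorphic to the Fischer group Fi₂₂. -/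
theorem result {G : Type*} [Group G] [Finite G] (z : G) (hz : orderOf z = 2)
    {F : Type*} [Field F] [Fintype F] (hF : Fintype.card F = 3) {K : Type*} [Field K] [Fintype K] (hK : Fintype.card K = 4)
    (A E : Subgroup ↥(Subgroup.centralizer ({z} : Set G))) (hAE : Cfsg.IsInternalDirectProduct A E (Cfsg.pCore 2 ↥(Subgroup.centralizer ({z} : Set G)))) (hA : Nat.card ↥A = 2)
    (hE : Cfsg.IsExtraspecial 2 ↥E) (hEc : Nat.card ↥E = 2 ^ 9)
    (zc : ↥(Subgroup.centralizer ({z} : Set G))) (hzc : (zc : G) = z) (hJ' : ⁅(Cfsg.pCore 2 ↥(Subgroup.centralizer ({z} : Set G))), (Cfsg.pCore 2 ↥(Subgroup.centralizer ({z} : Set G)))⁆ = Subgroup.zpowers zc)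
    (hCJ : Subgroup.centralizer ((Cfsg.pCore 2 ↥(Subgroup.centralizer ({z} : Set G))) : Set ↥(Subgroup.centralizer ({z} : Set G))) ≤ Cfsg.pCore 2 ↥(Subgroup.centralizer ({z} : Set G))) [hJn : (Cfsg.pCore 2 ↥(Subgroup.centralizer ({z} : Set G))).Normal]
    (e : (↥(Subgroup.centralizer ({z} : Set G)) ⧸ Cfsg.pCore 2 ↥(Subgroup.centralizer ({z} : Set G))) ≃* MulAut (Cfsg.PSp 2 F)) :
    Subgroup.centralizer ({z} : Set G) ⊔ Cfsg.oddCore G = ⊤ ∨
      (∃ z₁ : G, orderOf z₁ = 2 ∧ z₁ ∉ Subgroup.zpowers z ∧ (∃ h₁ : z₁ ∈ Subgroup.centralizer ({z} : Set G), (⟨z₁, h₁⟩ : ↥(Subgroup.centralizer ({z} : Set G))) ∈ Cfsg.pCore 2 ↥(Subgroup.centralizer ({z} : Set G)) ∧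
          ∀ j ∈ Cfsg.pCore 2 ↥(Subgroup.centralizer ({z} : Set G)), j * ⟨z₁, h₁⟩ = ⟨z₁, h₁⟩ * j) ∧ (Subgroup.zpowers z₁).Normal ∧
        ∃ (G₀ : Subgroup G) (hz₁ : z₁ ∈ G₀), G₀.index = 2 ∧
          ∃ hn : ((Subgroup.zpowers z₁).subgroupOf G₀).Normal,
            Nonempty ((↥G₀ ⧸ (Subgroup.zpowers z₁).subgroupOf G₀) ≃* Cfsg.PSU 6 K 2)) ∨
      Cfsg.Spor.IsoFi22 G := by
  classical
  let H := Subgroup.centralizer ({z} : Set G)
  let P := Cfsg.pCore 2 ↥H
  let J : Subgroup G := P.map H.subtype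
  have cz : ∀ h : ↥H, Commute (h : G) z := fun h => Subgroup.mem_centralizer_singleton_iff.mp h.2
  have mH : ∀ {h : G}, Commute h z → h ∈ H := fun hh => Subgroup.mem_centralizer_singleton_iff.mpr hh
  have memJ : ∀ h : ↥H, (h : G) ∈ J ↔ h ∈ P := fun h =>
    ⟨fun ⟨x, hx, e⟩ => by rw [show h = x from Subtype.ext e.symm]; exact hx, fun hh => ⟨h, hh, rfl⟩⟩
  have JH : ∀ j ∈ J, j ∈ H := fun j hj => Subgroup.map_subtype_le _ hj
  have zz : z * z = 1 := by rw [← pow_two, ← hz]; exact pow_orderOf_eq_one z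
  have z1 : z ≠ 1 := fun h => by rw [h, orderOf_one] at hz; norm_num at hz
  have zc2 : zc * zc = 1 := Subtype.ext (by show (zc : G) * zc = 1; rw [hzc, zz])
  have hzcP : zc ∈ P := by
    have := Subgroup.mem_zpowers zc
    rw [← hJ'] at this
    exact Subgroup.commutator_le_self P this
  have zpow_mem : ∀ x ∈ Subgroup.zpowers zc, x = 1 ∨ x = zc := by
    intro x hx
    obtain ⟨i, rfl⟩ := Subgroup.mem_zpowers_iff.mp hx
    rcases Int.even_or_odd i with ⟨m, rfl⟩ | ⟨m, rfl⟩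
    · exact Or.inl (by rw [← two_mul, zpow_mul, zpow_two, zc2, one_zpow])
    · exact Or.inr (by rw [zpow_add_one, zpow_mul, zpow_two, zc2, one_zpow, one_mul])
  obtain ⟨hAP, hEP, hAEc, hAEi, hAEs⟩ := hAE
  -- the factors
  let S : Subgroup ↥H :=
    { carrier := {h | ∃ a ∈ A, ∃ x ∈ E, h = a * x}
      one_mem' := ⟨1, one_mem A, 1, one_mem E, (one_mul 1).symm⟩
      mul_mem' := by
        rintro _ _ ⟨a, ha, x, hx, rfl⟩ ⟨b, hb, y, hy, rfl⟩
        refine ⟨a * b, mul_mem ha hb, x * y, mul_mem hx hy, ?_⟩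
        rw [mul_assoc, ← mul_assoc x, ← hAEc b hb x hx]; group
      inv_mem' := by
        rintro _ ⟨a, ha, x, hx, rfl⟩
        exact ⟨a⁻¹, inv_mem ha, x⁻¹, inv_mem hx, by rw [hAEc a ha x hx, mul_inv_rev]⟩ }
  have split : ∀ p ∈ P, ∃ a ∈ A, ∃ x ∈ E, p = a * x := fun p hp => by
    have hle : A ⊔ E ≤ S := sup_le (fun a ha => ⟨a, ha, 1, one_mem E, (mul_one a).symm⟩)
      fun x hx => ⟨1, one_mem A, x, hx, (one_mul x).symm⟩
    exact hle (hAEs.symm ▸ hp)
  haveI : Nontrivial ↥A := by rw [← Finite.one_lt_card_iff_nontrivial, hA]; norm_num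
  obtain ⟨⟨a0, ha0⟩, ha01⟩ := exists_ne (1 : ↥A)
  have a0' : a0 ≠ 1 := fun e => ha01 (Subtype.ext e)
  have memA : ∀ a ∈ A, a = 1 ∨ a = a0 := fun a ha => by
    by_contra h
    push Not at h
    obtain ⟨x, y, hxy, e⟩ := Nat.card_eq_two_iff.mp hA
    have m : ∀ w : ↥A, w = x ∨ w = y := fun w => by
      have := (e ▸ Set.mem_univ w : w ∈ ({x, y} : Set ↥A)); simpa using this
    rcases m 1 with h1 | h1 <;> rcases m ⟨a, ha⟩ with h2 | h2 <;> rcases m ⟨a0, ha0⟩ with h3 | h3
    all_goals first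
      | exact h.1 (congrArg Subtype.val (h2.trans h1.symm))
      | exact ha01 (h3.trans h1.symm)
      | exact h.2 (congrArg Subtype.val (h2.trans h3.symm))
  have a02 : a0 * a0 = 1 := (memA _ (mul_mem ha0 ha0)).resolve_right fun e => a0' (mul_eq_left.mp e)
  have disj : ∀ h ∈ A, h ∈ E → h = 1 := fun h h1 h2 => Subgroup.mem_bot.mp (hAEi ▸ ⟨h1, h2⟩)
  -- the derived group of the extraspecial factor
  obtain ⟨⟨hEp, hEf, hEd⟩, hEz⟩ := hE
  have commE : ∀ {x : ↥E}, x ∈ commutator ↥E → (x : ↥H) ∈ Subgroup.zpowers zc := fun {x} hx => by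
    rw [← hJ']
    have : (x : ↥H) ∈ (commutator ↥E).map E.subtype := ⟨x, hx, rfl⟩
    rw [Subgroup.map_subtype_commutator] at this
    exact Subgroup.commutator_mono hEP hEP this
  have hcE : ∀ x : ↥E, x ∈ Subgroup.center ↥E → (x : ↥H) = 1 ∨ (x : ↥H) = zc := fun x hx =>
    zpow_mem _ (commE (hEd.symm ▸ hx))
  have zcE : zc ∈ E := by
    haveI : Nontrivial ↥(Subgroup.center ↥E) := by rw [← Finite.one_lt_card_iff_nontrivial, hEz]; norm_num
    obtain ⟨⟨c, hc⟩, hc1⟩ := exists_ne (1 : ↥(Subgroup.center ↥E))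
    rcases hcE c hc with h | h
    · exact absurd (Subtype.ext (Subtype.ext h)) hc1
    · exact h ▸ c.2
  set d : G := (a0 : G) with hd
  have a0zc : a0 ≠ zc := fun e => a0' (disj a0 ha0 (e ▸ zcE))
  have dcomm : ∀ p ∈ P, Commute a0 p := fun p hp => by
    obtain ⟨a, ha, x, hx, rfl⟩ := split p hp
    refine Commute.mul_right ?_ (hAEc a0 ha0 x hx)
    rcases memA a ha with rfl | rfl
    exacts [Commute.one_right _, Commute.refl _]
  have hcardJ : Nat.card ↥J = 1024 := by
    have hbij : Function.Bijective (fun w : ↥A × ↥E => (⟨(w.1 : ↥H) * w.2, mul_mem (hAP w.1.2) (hEP w.2.2)⟩ : ↥P)) := by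
      refine ⟨?_, fun p => ?_⟩
      · rintro ⟨⟨a, ha⟩, ⟨x, hx⟩⟩ ⟨⟨b, hb⟩, ⟨y, hy⟩⟩ h
        have h' : a * x = b * y := congrArg Subtype.val h
        have e1 : b⁻¹ * a = y * x⁻¹ := by
          rw [eq_mul_inv_iff_mul_eq, mul_assoc, h', inv_mul_cancel_left]
        have e2 := disj _ (mul_mem (inv_mem hb) ha) (e1 ▸ mul_mem hy (inv_mem hx))
        have ea : a = b := (inv_mul_eq_one.mp e2).symm
        subst ea
        rw [mul_left_cancel_iff] at h'
        subst h'
        rfl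
      · obtain ⟨a, ha, x, hx, e⟩ := split p p.2
        exact ⟨(⟨a, ha⟩, ⟨x, hx⟩), Subtype.ext e.symm⟩
    show Nat.card ↥(P.map H.subtype) = 1024
    rw [← Nat.card_congr (P.equivMapOfInjective H.subtype H.subtype_injective).toEquiv,
      ← Nat.card_eq_of_bijective _ hbij, Nat.card_prod, hA, hEc]
    norm_num
  let π : ↥H →* ↥H ⧸ P := QuotientGroup.mk' P
  haveI : Finite (↥H ⧸ P) := Finite.of_surjective π (QuotientGroup.mk'_surjective P)
  haveI := CfsgLib.U42Act.psp_simple hF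
  have cPSp : Nat.card (Cfsg.PSp 2 F) = 25920 := CfsgLib.U42Act.card_psp hF
  haveI : Finite (Cfsg.PSp 2 F) := Nat.finite_of_card_ne_zero (by rw [cPSp]; norm_num)
  have cAut : Nat.card (MulAut (Cfsg.PSp 2 F)) = 51840 := by
    haveI : Fact (Nat.Prime 3) := ⟨Nat.prime_three⟩
    rw [Cfsg.Agent.S0814.result 3 1 le_rfl (by rw [hF]; norm_num) 2 le_rfl (fun _ => by norm_num), cPSp]
    norm_num
  have conjInj : Function.Injective (MulAut.conj : Cfsg.PSp 2 F →* MulAut (Cfsg.PSp 2 F)) := by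
    rw [← MonoidHom.ker_eq_bot_iff]
    rcases (MonoidHom.normal_ker (MulAut.conj : Cfsg.PSp 2 F →* MulAut (Cfsg.PSp 2 F))).eq_bot_or_eq_top with h | h
    · exact h
    · exfalso
      have hcomm : ∀ a b : Cfsg.PSp 2 F, a * b = b * a := fun a b => by
        have h1 := DFunLike.congr_fun (MonoidHom.mem_ker.mp (h ▸ Subgroup.mem_top a : a ∈ MulAut.conj.ker)) b
        simp only [MulAut.conj_apply, MulAut.one_apply] at h1
        exact mul_inv_eq_iff_eq_mul.mp h1
      letI : CommGroup (Cfsg.PSp 2 F) := { (inferInstance : Group (Cfsg.PSp 2 F)) with mul_comm := hcomm }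
      have hp := IsSimpleGroup.prime_card (α := Cfsg.PSp 2 F)
      rw [cPSp] at hp
      norm_num at hp
  let N : Subgroup (↥H ⧸ P) := (MulAut.conj : Cfsg.PSp 2 F →* MulAut (Cfsg.PSp 2 F)).range.comap e.toMonoidHom
  let eN : Cfsg.PSp 2 F ≃* ↥N := MulEquiv.ofBijective
    (MonoidHom.mk' (fun p => (⟨e.symm (MulAut.conj p), ⟨p, (e.apply_symm_apply _).symm⟩⟩ : ↥N))
      fun a b => Subtype.ext (by simp only [map_mul]; rfl))
    ⟨fun a b h => conjInj (e.symm.injective (congrArg Subtype.val h)), fun ⟨x, p, hp⟩ => ⟨p, Subtype.ext (by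
      show e.symm (MulAut.conj p) = x
      rw [hp]; exact e.symm_apply_apply x)⟩⟩
  have cN : Nat.card N = 25920 := (Nat.card_congr eN.toEquiv).symm.trans cPSp
  have hN : N.index = 2 := by
    have := N.index_mul_card
    rw [cN, Nat.card_congr e.toEquiv, cAut] at this
    omega
  have hcent : ∀ x : ↥H ⧸ P, (∀ n ∈ N, x * n = n * x) → x = 1 := by
    intro x hx
    apply e.injective
    rw [map_one]
    refine MulEquiv.ext fun p => conjInj ?_
    have h := congrArg e (hx _ (eN p).2)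
    simp only [map_mul] at h
    rw [show e ((eN p : ↥N) : ↥H ⧸ P) = MulAut.conj p from e.apply_symm_apply _] at h
    refine MulEquiv.ext fun q => ?_
    have h' := DFunLike.congr_fun h ((e x)⁻¹ q)
    simp only [MulAut.mul_apply, MulAut.conj_apply, map_mul, map_inv, MulAut.apply_inv_self] at h'
    simp only [MulAut.conj_apply, MulAut.one_apply]
    exact h'
  haveI : Nontrivial ↥N := eN.symm.toEquiv.nontrivial
  haveI hNs : IsSimpleGroup ↥N := IsSimpleGroup.isSimpleGroup_of_surjective eN.toMonoidHom eN.surjective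
  let B : CfsgLib.FiTwoType.Base G (↥H ⧸ P) :=
    { z := z
      d := d
      zz := zz
      dd := congrArg Subtype.val a02
      z1 := z1
      d1 := fun e => a0' (Subtype.ext e)
      dne := fun e => a0zc (Subtype.ext (e.trans hzc.symm))
      J := J
      zJ := hzc ▸ (memJ zc).mpr hzcP
      dJ := (memJ a0).mpr (hAP ha0)
      Jz := fun j hj => cz ⟨j, JH j hj⟩
      Jd := fun j hj => by
        obtain ⟨p, hp, rfl⟩ := hj
        exact (congrArg Subtype.val (dcomm p hp).eq.symm : (p : G) * a0 = a0 * p)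
      conjJ := fun h hh j hj => by
        obtain ⟨p, hp, rfl⟩ := hj
        exact ⟨⟨h, mH hh⟩ * p * ⟨h, mH hh⟩⁻¹, hJn.conj_mem p hp _, rfl⟩
      card := hcardJ
      centre := fun m hm hc => by
        obtain ⟨p, hp, rfl⟩ := hm
        obtain ⟨a, ha, x, hx, rfl⟩ := split p hp
        have hxc : ∀ q : ↥E, (q : ↥H) * x = x * q := fun q => by
          have h1 : a * x * q = q * (a * x) := Subtype.ext (hc _ ((memJ _).mpr (hEP q.2))).eq
          rw [← mul_assoc (q : ↥H), ← hAEc a ha q q.2, mul_assoc, mul_assoc] at h1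
          exact (mul_left_cancel h1).symm
        rcases hcE ⟨x, hx⟩ (Subgroup.mem_center_iff.mpr fun q => Subtype.ext (hxc q)) with h | h <;>
          rcases memA a ha with rfl | rfl <;> simp only at h <;> subst h
        · exact Or.inl (by simp)
        · exact Or.inr (Or.inr (Or.inl (by simp [hd])))
        · exact Or.inr (Or.inl (by simp [hzc]))
        · exact Or.inr (Or.inr (Or.inr (by simp [hd, hzc])))
      comm2 := fun a ha b hb => by
        obtain ⟨p, hp, rfl⟩ := ha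
        obtain ⟨q, hq, rfl⟩ := hb
        have hm : p * q * p⁻¹ * q⁻¹ ∈ Subgroup.zpowers zc := hJ' ▸ Subgroup.commutator_mem_commutator hp hq
        rcases zpow_mem _ hm with h | h
        · refine Or.inl (congrArg Subtype.val (?_ : p * q = q * p))
          rwa [mul_inv_eq_one, mul_inv_eq_iff_eq_mul] at h
        · right
          have h' : p * q = zc * (q * p) := by rw [← h]; group
          rw [← hzc]
          exact congrArg Subtype.val h'
      sq2 := fun j hj => by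
        obtain ⟨p, hp, rfl⟩ := hj
        obtain ⟨a, ha, x, hx, rfl⟩ := split p hp
        have ea : a * a = 1 := by rcases memA a ha with rfl | rfl; exacts [one_mul 1, a02]
        have e1 : a * x * (a * x) = x * x := by
          rw [(show Commute a x from hAEc a ha x hx).symm.mul_mul_mul_comm, ea, one_mul]
        have hx2 : (⟨x, hx⟩ : ↥E) * ⟨x, hx⟩ ∈ Subgroup.center ↥E := by
          rw [← hEf, ← pow_two]
          haveI : Fact (Nat.Prime 2) := ⟨Nat.prime_two⟩
          exact CfsgLib.pow_mem_frattini_pGroup hEp _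
        show ((a * x : ↥H) : G) * ((a * x : ↥H) : G) = 1 ∨ ((a * x : ↥H) : G) * ((a * x : ↥H) : G) = z
        rw [← Subgroup.coe_mul, e1]
        exact (hcE _ hx2).imp (fun h => congrArg Subtype.val h) fun h => (congrArg Subtype.val h).trans hzc
      selfcent := fun h hh hc => by
        have hm : (⟨h, mH hh⟩ : ↥H) ∈ P := hCJ (Subgroup.mem_centralizer_iff.mpr fun p hp =>
          Subtype.ext (hc _ ((memJ p).mpr hp)).eq.symm)
        exact (memJ ⟨h, mH hh⟩).mpr hm
      π := π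
      hπ := QuotientGroup.mk'_surjective P
      hk := fun h => (QuotientGroup.eq_one_iff h).trans (memJ h).symm
      N := N
      hN := hN
      Nsimple := hNs
      cardN := cN
      hcent := hcent }
  let K0 := GaloisField 2 2
  haveI : Fintype K0 := Fintype.ofFinite _
  have hK0 : Fintype.card K0 = 4 := by
    rw [← Nat.card_eq_fintype_card, GaloisField.card 2 2 (by norm_num)]; norm_num
  obtain ⟨t⟩ := CfsgLib.SUShort.psu_congr (FiniteField.ringEquivOfCardEq (K := K0) (K' := K) (hK0.trans hK.symm)) 6 2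
  -- the second or third case
  have finish : ∀ B' : CfsgLib.FiTwoType.Base G (↥H ⧸ P), B'.z = z → B'.J = J → B'.N = N → ¬ B'.Iso →
      (∃ z₁ : G, orderOf z₁ = 2 ∧ z₁ ∉ Subgroup.zpowers z ∧ (∃ h₁ : z₁ ∈ H, (⟨z₁, h₁⟩ : ↥H) ∈ P ∧
          ∀ j ∈ P, j * ⟨z₁, h₁⟩ = ⟨z₁, h₁⟩ * j) ∧ (Subgroup.zpowers z₁).Normal ∧
        ∃ (G₀ : Subgroup G) (hz₁ : z₁ ∈ G₀), G₀.index = 2 ∧
          ∃ hn : ((Subgroup.zpowers z₁).subgroupOf G₀).Normal,
            Nonempty ((↥G₀ ⧸ (Subgroup.zpowers z₁).subgroupOf G₀) ≃* Cfsg.PSU 6 K 2)) ∨ Cfsg.Spor.IsoFi22 G := by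
    intro B' hzB hJB hNB hI
    have eN' : Cfsg.PSp 2 F ≃* ↥B'.N := hNB ▸ eN
    rcases B'.caseA_or_B with hA' | hB'
    swap
    · exact Or.inr (B'.case_B (K := K0) hF hK0 eN' hB' hI)
    obtain ⟨hcen, G0, hi, hdG, ψ, hs, hk⟩ := B'.case_A (K := K0) hF hK0 eN' hA' hI
    have d2 : B'.d * B'.d = 1 := B'.dd
    refine Or.inl ⟨B'.d, orderOf_eq_prime (by rw [pow_two, d2]) B'.d1, fun h => ?_, ?_, ?_, G0, hdG, hi, ?_⟩
    · obtain ⟨i, hi'⟩ := Subgroup.mem_zpowers_iff.mp h
      rcases Int.even_or_odd i with ⟨m, rfl⟩ | ⟨m, rfl⟩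
      · rw [← two_mul, zpow_mul, zpow_two, zz, one_zpow] at hi'
        exact B'.d1 hi'.symm
      · rw [zpow_add_one, zpow_mul, zpow_two, zz, one_zpow, one_mul] at hi'
        exact B'.dne (hi'.symm.trans hzB.symm)
    · have hdJ : B'.d ∈ J := hJB ▸ B'.dJ
      refine ⟨JH _ hdJ, (memJ _).mp hdJ, fun j hj => Subtype.ext ?_⟩
      exact B'.Jd _ (hJB.symm ▸ (memJ j).mpr hj)
    · refine ⟨fun n hn g => ?_⟩
      obtain ⟨i, rfl⟩ := Subgroup.mem_zpowers_iff.mp hn
      rw [((hcen g).zpow_right i).eq, mul_inv_cancel_right]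
      exact hn
    · have hker : ψ.ker = (Subgroup.zpowers B'.d).subgroupOf G0 := by
        ext g
        rw [MonoidHom.mem_ker, hk, Subgroup.mem_subgroupOf, Subgroup.mem_zpowers_iff]
        constructor
        · rintro (k | k)
          exacts [⟨0, by rw [zpow_zero, k]⟩, ⟨1, by rw [zpow_one, k]⟩]
        · rintro ⟨n, hn⟩
          rw [← hn]
          rcases Int.even_or_odd n with ⟨m, rfl⟩ | ⟨m, rfl⟩
          · exact Or.inl (by rw [← two_mul, zpow_mul, zpow_two, d2, one_zpow])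
          · exact Or.inr (by rw [zpow_add_one, zpow_mul, zpow_two, d2, one_zpow, one_mul])
      haveI hn : ((Subgroup.zpowers B'.d).subgroupOf G0).Normal := hker ▸ ψ.normal_ker
      exact ⟨hn, ⟨((QuotientGroup.quotientMulEquivOfEq hker.symm).trans
        (QuotientGroup.quotientKerEquivOfSurjective ψ hs)).trans t⟩⟩
  by_cases hI : B.Iso
  · by_cases hI' : B.flip.Iso
    · exact Or.inl (CfsgLib.U6Chz.sup_core hz fun g hg => B.isolated hF eN hI hI' g hg.symm)
    · exact Or.inr (finish B.flip rfl rfl rfl hI')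
  · exact Or.inr (finish B rfl rfl rfl hI)

end Cfsg.Agent.S3232
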