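import Cfsg.Prelude.Def_Transfer
import Cfsg.Prelude.Def_CaseTheorems
import Cfsg.Prelude.Def_Classical
import Cfsg.Prelude.Def_TwoFusion
import Cfsg.Prelude.Def_Spor_Fi23
import Cfsg.Agent.Lib.FiThreeType.Aut
import Cfsg.Agent.Lib.FiThreeType.Fi23
import Cfsg.Agent.Lib.SUShort.Counts
import Cfsg.Agent.S0814

set_option autoImplicit false
set_option maxRecDepth 100000
set_option maxHeartbeats 800000
set_option linter.unusedVariables false
set_option linter.style.haveILetI false
open Cfsg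

namespace Cfsg.Agent.S3233

open scoped Classical in
/-- Let G be a finite group with an involution z, H = C_G(z), such that (i) J = O₂(H) is an (internal) direct product of a four-group and an extraspecial group of order 2⁹, with C_H(J) ≤ J, and (ii) H contains an element c of order 3 such that J⟨c⟩ is normal in H with H/J⟨c⟩ ≅ Aut(PSp₄(3)) and C_H(c)/⟨c, z⟩ ≅ PSp₄(3). Then G = H·O(G), or G is isomorphic to the Fischer group Fi₂₃, or G has a normal four-group V with G/V ≅ Aut(U₆(2)). -/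
theorem result {G : Type*} [Group G] [Finite G] (z : G) (hz : orderOf z = 2)
    {F : Type*} [Field F] [Fintype F] (hF : Fintype.card F = 3) {K : Type*} [Field K] [Fintype K] (hK : Fintype.card K = 4)
    (V E : Subgroup ↥(Subgroup.centralizer ({z} : Set G))) (hVE : Cfsg.IsInternalDirectProduct V E (Cfsg.pCore 2 ↥(Subgroup.centralizer ({z} : Set G)))) (hV : Nat.card ↥V = 4) (hV2 : ∀ v ∈ V, v ^ 2 = 1)
    (hE : Cfsg.IsExtraspecial 2 ↥E) (hEc : Nat.card ↥E = 2 ^ 9)
    (hCJ : Subgroup.centralizer ((Cfsg.pCore 2 ↥(Subgroup.centralizer ({z} : Set G))) : Set ↥(Subgroup.centralizer ({z} : Set G))) ≤ Cfsg.pCore 2 ↥(Subgroup.centralizer ({z} : Set G)))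
    (zc c : ↥(Subgroup.centralizer ({z} : Set G))) (hzc : (zc : G) = z) (hc : orderOf c = 3)
    [hJc : (Cfsg.pCore 2 ↥(Subgroup.centralizer ({z} : Set G)) ⊔ Subgroup.zpowers c).Normal] (e : (↥(Subgroup.centralizer ({z} : Set G)) ⧸ (Cfsg.pCore 2 ↥(Subgroup.centralizer ({z} : Set G)) ⊔ Subgroup.zpowers c)) ≃* MulAut (Cfsg.PSp 2 F))
    [hcz : ((Subgroup.zpowers c ⊔ Subgroup.zpowers zc).subgroupOf (Subgroup.centralizer ({c} : Set ↥(Subgroup.centralizer ({z} : Set G))))).Normal]
    (e' : (↥(Subgroup.centralizer ({c} : Set ↥(Subgroup.centralizer ({z} : Set G)))) ⧸ (Subgroup.zpowers c ⊔ Subgroup.zpowers zc).subgroupOf (Subgroup.centralizer ({c} : Set ↥(Subgroup.centralizer ({z} : Set G))))) ≃* Cfsg.PSp 2 F) :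
    Subgroup.centralizer ({z} : Set G) ⊔ Cfsg.oddCore G = ⊤ ∨ Cfsg.Spor.IsoFi23 G ∨
      (∃ (W : Subgroup G) (hW : W.Normal), Nat.card ↥W = 4 ∧ (∀ w ∈ W, w ^ 2 = 1) ∧
        Nonempty ((G ⧸ W) ≃* MulAut (Cfsg.PSU 6 K 2))) := by
  let H := Subgroup.centralizer ({z} : Set G)
  let P := Cfsg.pCore 2 ↥H
  let J : Subgroup G := P.map H.subtype
  haveI : Fact (Nat.Prime 2) := ⟨Nat.prime_two⟩
  have cz : ∀ h : ↥H, Commute (h : G) z := fun h => Subgroup.mem_centralizer_singleton_iff.mp h.2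
  have mH : ∀ {h : G}, Commute h z → h ∈ H := fun hh => Subgroup.mem_centralizer_singleton_iff.mpr hh
  have memJ : ∀ h : ↥H, (h : G) ∈ J ↔ h ∈ P := fun h =>
    ⟨fun ⟨x, hx, e⟩ => by rw [show h = x from Subtype.ext e.symm]; exact hx, fun hh => ⟨h, hh, rfl⟩⟩
  have JH : ∀ j ∈ J, j ∈ H := fun j hj => Subgroup.map_subtype_le _ hj
  have zz : z * z = 1 := by rw [← pow_two, ← hz]; exact pow_orderOf_eq_one z
  have z1 : z ≠ 1 := fun h => by rw [h, orderOf_one] at hz; norm_num at hz
  have zc2 : zc * zc = 1 := Subtype.ext (by show (zc : G) * zc = 1; rw [hzc, zz])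
  have zc1 : zc ≠ 1 := fun h => z1 (by rw [← hzc, h]; rfl)
  have zc_cent : ∀ h : ↥H, Commute h zc := fun h => Subtype.ext (by
    show (h : G) * zc = (zc : G) * h; rw [hzc]; exact (cz h).eq)
  have hzcP : zc ∈ P := hCJ (Subgroup.mem_centralizer_iff.mpr fun h _ => (zc_cent h).eq)
  have c3 : c * c * c = 1 := by
    have := pow_orderOf_eq_one c
    rw [hc, pow_succ, pow_two] at this
    exact this
  have c1 : c ≠ 1 := fun h => by rw [h, orderOf_one] at hc; norm_num at hc
  haveI hPn : P.Normal := by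
    rw [show P = Cfsg.pCore 2 ↥H from rfl]; infer_instance
  have hP2 : IsPGroup 2 ↥P := CfsgLib.isPGroup_pCore 2
  have cP : c ∉ P := fun h => by
    obtain ⟨k, hk⟩ := IsPGroup.iff_orderOf.mp hP2 ⟨c, h⟩
    rw [← Subgroup.orderOf_coe, hc] at hk
    have := (Nat.Prime.dvd_of_dvd_pow Nat.prime_three (hk ▸ dvd_rfl : 3 ∣ 2 ^ k))
    norm_num at this
  -- the simple group and its automorphism group
  haveI := CfsgLib.U42Act.psp_simple hF
  have cPSp : Nat.card (Cfsg.PSp 2 F) = 25920 := CfsgLib.U42Act.card_psp hF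
  haveI : Finite (Cfsg.PSp 2 F) := Nat.finite_of_card_ne_zero (by rw [cPSp]; norm_num)
  have cAut : Nat.card (MulAut (Cfsg.PSp 2 F)) = 51840 := by
    haveI : Fact (Nat.Prime 3) := ⟨Nat.prime_three⟩
    rw [Cfsg.Agent.S0814.result 3 1 le_rfl (by rw [hF]; norm_num) 2 le_rfl (fun _ => by norm_num), cPSp]
    norm_num
  -- the product decomposition
  obtain ⟨hVP, hEP, hVEc, hVEi, hVEs⟩ := hVE
  let Sp : Subgroup ↥H :=
    { carrier := {h | ∃ a ∈ V, ∃ x ∈ E, h = a * x}
      one_mem' := ⟨1, one_mem V, 1, one_mem E, (one_mul 1).symm⟩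
      mul_mem' := by
        rintro _ _ ⟨a, ha, x, hx, rfl⟩ ⟨b, hb, y, hy, rfl⟩
        refine ⟨a * b, mul_mem ha hb, x * y, mul_mem hx hy, ?_⟩
        rw [mul_assoc, ← mul_assoc x, ← hVEc b hb x hx]; group
      inv_mem' := by
        rintro _ ⟨a, ha, x, hx, rfl⟩
        exact ⟨a⁻¹, inv_mem ha, x⁻¹, inv_mem hx, by rw [hVEc a ha x hx, mul_inv_rev]⟩ }
  have split : ∀ p ∈ P, ∃ a ∈ V, ∃ x ∈ E, p = a * x := fun p hp => by
    have hle : V ⊔ E ≤ Sp := sup_le (fun a ha => ⟨a, ha, 1, one_mem E, (mul_one a).symm⟩)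
      fun x hx => ⟨1, one_mem V, x, hx, (one_mul x).symm⟩
    exact hle (hVEs.symm ▸ hp)
  have disj : ∀ h ∈ V, h ∈ E → h = 1 := fun h h1 h2 => Subgroup.mem_bot.mp (hVEi ▸ ⟨h1, h2⟩)
  have Vsq : ∀ v ∈ V, v * v = 1 := fun v hv => by rw [← pow_two]; exact hV2 v hv
  have Vab : ∀ a ∈ V, ∀ b ∈ V, a * b = b * a := fun a ha b hb => by
    have h := Vsq _ (mul_mem ha hb)
    calc a * b = a * (a * b * (a * b)) * b := by rw [h, mul_one]
      _ = (a * a) * (b * a) * (b * b) := by group
      _ = b * a := by rw [Vsq a ha, Vsq b hb, one_mul, mul_one]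
  obtain ⟨⟨hEp, hEf, hEd⟩, hEz⟩ := hE
  obtain ⟨e0, e01, hcE⟩ : ∃ e0 : ↥E, e0 ≠ 1 ∧ ∀ x ∈ Subgroup.center ↥E, x = 1 ∨ x = e0 := by
    obtain ⟨y, hy1, hy2⟩ := (Nat.card_eq_two_iff' (1 : ↥(Subgroup.center ↥E))).mp hEz
    refine ⟨y.1, fun e => hy1 (Subtype.ext e), fun x hx => ?_⟩
    by_cases h : x = 1
    · exact Or.inl h
    · exact Or.inr (congrArg Subtype.val (hy2 ⟨x, hx⟩ fun e => h (congrArg Subtype.val e)))
  have commP : ∀ p ∈ P, ∀ q ∈ P, p * q = q * p ∨ p * q = (e0 : ↥H) * (q * p) := by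
    intro p hp q hq
    obtain ⟨a, ha, x, hx, rfl⟩ := split p hp
    obtain ⟨b, hb, y, hy, rfl⟩ := split q hq
    have hm : (⟨x, hx⟩ : ↥E) * ⟨y, hy⟩ * ⟨x, hx⟩⁻¹ * ⟨y, hy⟩⁻¹ ∈ Subgroup.center ↥E := by
      rw [← hEd]
      exact Subgroup.commutator_mem_commutator (Subgroup.mem_top _) (Subgroup.mem_top _)
    have key : ∀ ζ : ↥H, x * y = ζ * (y * x) → ζ ∈ E → a * x * (b * y) = ζ * (b * y * (a * x)) := by
      intro ζ h hζ
      calc a * x * (b * y) = a * (x * b) * y := by group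
        _ = a * b * (x * y) := by rw [← hVEc b hb x hx]; group
        _ = a * b * ζ * (y * x) := by rw [h]; group
        _ = ζ * (b * a) * (y * x) := by
            rw [hVEc _ (mul_mem ha hb) ζ hζ, Vab a ha b hb]
        _ = ζ * (b * (a * y) * x) := by group
        _ = _ := by rw [hVEc a ha y hy]; group
    rcases hcE _ hm with h | h
    · left
      have h' := congrArg (fun t : ↥E => (t : ↥H)) h
      simp only [Subgroup.coe_mul, Subgroup.coe_inv, OneMemClass.coe_one] at h'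
      rw [mul_inv_eq_one, mul_inv_eq_iff_eq_mul] at h'
      rw [key 1 (by rw [h', one_mul]) (one_mem E), one_mul]
    · right
      refine key _ ?_ e0.2
      have h' := congrArg (fun t : ↥E => (t : ↥H)) h
      simp only [Subgroup.coe_mul, Subgroup.coe_inv] at h'
      rw [← h']; group
  -- fixed points of the element of order three
  have hCc : ∀ p ∈ P, Commute c p → p = 1 ∨ p = zc := by
    intro p hp hcp
    let C := Subgroup.centralizer ({c} : Set ↥H)
    let R := (Subgroup.zpowers c ⊔ Subgroup.zpowers zc).subgroupOf C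
    have hpC : p ∈ C := Subgroup.mem_centralizer_singleton_iff.mpr hcp.symm.eq
    let T := (P.subgroupOf C).map (QuotientGroup.mk' R)
    haveI hTn : T.Normal := (Subgroup.normal_subgroupOf (H := C) (N := P)).map _ (QuotientGroup.mk'_surjective _)
    let T' := T.map e'.toMonoidHom
    haveI : T'.Normal := hTn.map _ e'.surjective
    have hT' : IsPGroup 2 ↥T' := ((hP2.comap_subtype : IsPGroup 2 ↥(P.subgroupOf C)).map _).map _
    rcases (inferInstance : T'.Normal).eq_bot_or_eq_top with h | h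
    · have hm : e' (QuotientGroup.mk' R ⟨p, hpC⟩) ∈ T' := ⟨_, ⟨⟨p, hpC⟩, hp, rfl⟩, rfl⟩
      rw [h, Subgroup.mem_bot] at hm
      have hR : (⟨p, hpC⟩ : ↥C) ∈ R := (QuotientGroup.eq_one_iff _).mp (e'.injective (hm.trans (map_one e').symm))
      have hzn : (Subgroup.zpowers zc).Normal := ⟨fun n hn g => by
        obtain ⟨i, rfl⟩ := Subgroup.mem_zpowers_iff.mp hn
        rw [((zc_cent g).zpow_right i).eq, mul_inv_cancel_right]; exact hn⟩
      have hmem : p ∈ ((Subgroup.zpowers c ⊔ Subgroup.zpowers zc : Subgroup ↥H) : Set ↥H) := hR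
      rw [Subgroup.mul_normal] at hmem
      obtain ⟨u, hu, v, hv, huv⟩ := hmem
      have hv' : v = 1 ∨ v = zc := by
        obtain ⟨i, rfl⟩ := Subgroup.mem_zpowers_iff.mp hv
        rcases Int.even_or_odd i with ⟨m, rfl⟩ | ⟨m, rfl⟩
        · exact Or.inl (by rw [← two_mul, zpow_mul, zpow_two, zc2, one_zpow])
        · exact Or.inr (by rw [zpow_add_one, zpow_mul, zpow_two, zc2, one_zpow, one_mul])
      have hvP : v ∈ P := by rcases hv' with rfl | rfl; exacts [one_mem _, hzcP]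
      have huP : u ∈ P := by
        have := mul_mem hp (inv_mem hvP)
        rwa [← huv, mul_inv_cancel_right] at this
      have hu1 : u = 1 := by
        obtain ⟨i, hi⟩ := Subgroup.mem_zpowers_iff.mp hu
        by_contra hne
        have ho : orderOf u = 3 := by
          rcases (Nat.dvd_prime Nat.prime_three).mp (hc ▸ (orderOf_dvd_of_mem_zpowers hu) : orderOf u ∣ 3) with h | h
          · exact absurd (orderOf_eq_one_iff.mp h) hne
          · exact h
        obtain ⟨k, hk⟩ := IsPGroup.iff_orderOf.mp hP2 ⟨u, huP⟩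
        rw [← Subgroup.orderOf_coe, ho] at hk
        have := (Nat.Prime.dvd_of_dvd_pow Nat.prime_three (hk ▸ dvd_rfl : 3 ∣ 2 ^ k))
        norm_num at this
      rw [← huv, hu1]
      show (1 : ↥H) * v = 1 ∨ (1 : ↥H) * v = zc
      rw [one_mul]; exact hv'
    · exfalso
      obtain ⟨k, hk⟩ := IsPGroup.iff_card.mp hT'
      rw [h, Subgroup.card_top, cPSp] at hk
      have := Nat.Prime.dvd_of_dvd_pow Nat.prime_three (hk ▸ (by norm_num : 3 ∣ 25920))
      norm_num at this
  have he0 : (e0 : ↥H) = zc := by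
    have e0' : (e0 : ↥H) ≠ 1 := fun h => e01 (Subtype.ext h)
    obtain ⟨x, y, hxy⟩ : ∃ x y : ↥E, x * y ≠ y * x := by
      by_contra h
      push Not at h
      have : Subgroup.center ↥E = ⊤ := eq_top_iff.mpr fun x _ => Subgroup.mem_center_iff.mpr fun y => h y x
      rw [this, Subgroup.card_top, hEc] at hEz
      norm_num at hEz
    have hxy' : ¬ (x : ↥H) * y = y * x := fun h => hxy (Subtype.ext h)
    have h1 : (x : ↥H) * y = (e0 : ↥H) * (y * x) := (commP _ (hEP x.2) _ (hEP y.2)).resolve_left hxy'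
    have hcomm : Commute c (e0 : ↥H) := by
      have hx' := hPn.conj_mem _ (hEP x.2) c
      have hy' := hPn.conj_mem _ (hEP y.2) c
      rcases commP _ hx' _ hy' with h | h
      · refine absurd ?_ hxy'
        calc (x : ↥H) * y = c⁻¹ * (c * x * c⁻¹ * (c * y * c⁻¹)) * c := by group
          _ = _ := by rw [h]; group
      · have h2 : c * (e0 : ↥H) * c⁻¹ * (c * y * c⁻¹ * (c * x * c⁻¹)) = c * x * c⁻¹ * (c * y * c⁻¹) := by
          rw [show c * (x : ↥H) * c⁻¹ * (c * y * c⁻¹) = c * ((x : ↥H) * y) * c⁻¹ by group, h1]; group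
        rw [h] at h2
        exact mul_inv_eq_iff_eq_mul.mp (mul_right_cancel h2)
    exact (hCc _ (hEP e0.2) hcomm).resolve_left e0'
  have hcardP : Nat.card ↥P = 2048 := by
    have hbij : Function.Bijective (fun w : ↥V × ↥E => (⟨(w.1 : ↥H) * w.2, mul_mem (hVP w.1.2) (hEP w.2.2)⟩ : ↥P)) := by
      refine ⟨?_, fun p => ?_⟩
      · rintro ⟨⟨a, ha⟩, ⟨x, hx⟩⟩ ⟨⟨b, hb⟩, ⟨y, hy⟩⟩ h
        have h' : a * x = b * y := congrArg Subtype.val h
        have e1 : b⁻¹ * a = y * x⁻¹ := by
          rw [eq_mul_inv_iff_mul_eq, mul_assoc, h', inv_mul_cancel_left]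
        have e2 := disj _ (mul_mem (inv_mem hb) ha) (e1 ▸ mul_mem hy (inv_mem hx))
        have ea : a = b := (inv_mul_eq_one.mp e2).symm
        subst ea
        rw [mul_left_cancel_iff] at h'
        subst h'
        rfl
      · obtain ⟨a, ha, x, hx, e⟩ := split p p.2
        exact ⟨(⟨a, ha⟩, ⟨x, hx⟩), Subtype.ext e.symm⟩
    rw [← Nat.card_eq_of_bijective _ hbij, Nat.card_prod, hV, hEc]
    norm_num
  -- the centre of the core
  let Zp : Subgroup ↥H :=
    { carrier := {m | m ∈ P ∧ ∀ p ∈ P, Commute m p}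
      one_mem' := ⟨one_mem _, fun p _ => Commute.one_left p⟩
      mul_mem' := fun ha hb => ⟨mul_mem ha.1 hb.1, fun p hp => (ha.2 p hp).mul_left (hb.2 p hp)⟩
      inv_mem' := fun ha => ⟨inv_mem ha.1, fun p hp => (ha.2 p hp).inv_left⟩ }
  have memZ : ∀ {m}, m ∈ Zp ↔ m ∈ P ∧ ∀ p ∈ P, Commute m p := Iff.rfl
  have hzZ : zc ∈ Zp := memZ.mpr ⟨hzcP, fun p _ => (zc_cent p).symm⟩
  have hVZ : ∀ v ∈ V, v ∈ Zp := fun v hv => memZ.mpr ⟨hVP hv, fun p hp => by
    obtain ⟨a, ha, x, hx, rfl⟩ := split p hp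
    exact (show Commute v a from Vab v hv a ha).mul_right (hVEc v hv x hx)⟩
  have Zform : ∀ m ∈ Zp, ∃ v ∈ V, m = v ∨ m = v * zc := by
    intro m hm
    obtain ⟨hmP, hmc⟩ := memZ.mp hm
    obtain ⟨v, hv, x, hx, rfl⟩ := split m hmP
    have hxc : (⟨x, hx⟩ : ↥E) ∈ Subgroup.center ↥E := Subgroup.mem_center_iff.mpr fun y => Subtype.ext (by
      have h1 : v * x * (y : ↥H) = (y : ↥H) * (v * x) := (hmc _ (hEP y.2)).eq
      rw [← mul_assoc (y : ↥H), ← hVEc v hv y y.2, mul_assoc, mul_assoc] at h1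
      exact (mul_left_cancel h1).symm)
    rcases hcE _ hxc with h | h
    · exact ⟨v, hv, Or.inl (by rw [show x = 1 from congrArg Subtype.val h, mul_one])⟩
    · exact ⟨v, hv, Or.inr (by rw [show x = (e0 : ↥H) from congrArg Subtype.val h, he0])⟩
  have Zsq : ∀ m ∈ Zp, m * m = 1 := fun m hm => by
    obtain ⟨v, hv, e | e⟩ := Zform m hm <;> rw [e]
    · exact Vsq v hv
    · rw [(zc_cent v).symm.mul_mul_mul_comm, Vsq v hv, zc2, mul_one]
  have Zc : ∀ m ∈ Zp, c * m * c⁻¹ ∈ Zp := fun m hm => memZ.mpr ⟨hPn.conj_mem m hm.1 c, fun p hp => by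
    have hp' : c⁻¹ * p * c ∈ P := by simpa using hPn.conj_mem p hp c⁻¹
    have := (hm.2 _ hp').map (MulAut.conj c).toMonoidHom
    simpa [mul_assoc] using this⟩
  -- the four-group
  let δ : ↥Zp →* ↥H := MonoidHom.mk' (fun m => c * (m : ↥H) * c⁻¹ * (m : ↥H)⁻¹) fun a b => by
    show c * ((a : ↥H) * b) * c⁻¹ * ((a : ↥H) * b)⁻¹ = _
    have h1 : Commute (a : ↥H)⁻¹ (c * b * c⁻¹ * (b : ↥H)⁻¹) :=
      (a.2.2 _ (mul_mem (Zc _ b.2).1 (inv_mem b.2.1))).inv_left
    calc c * ((a : ↥H) * b) * c⁻¹ * ((a : ↥H) * b)⁻¹ =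
        c * a * c⁻¹ * ((c * b * c⁻¹ * (b : ↥H)⁻¹) * (a : ↥H)⁻¹) := by group
      _ = _ := by rw [← h1.eq]; group
  let WH := δ.range
  have WZ : ∀ u ∈ WH, u ∈ Zp := by
    rintro _ ⟨m, rfl⟩
    exact mul_mem (Zc _ m.2) (inv_mem m.2)
  have hzW : zc ∉ WH := by
    rintro ⟨⟨m, hm⟩, h⟩
    have h1 : c * m * c⁻¹ = zc * m := mul_inv_eq_iff_eq_mul.mp h
    have h3 : c * c * c * m * (c * c * c)⁻¹ = zc * m := by
      calc c * c * c * m * (c * c * c)⁻¹ = c * (c * (zc * m) * c⁻¹) * c⁻¹ := by rw [← h1]; group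
        _ = c * (zc * (zc * m)) * c⁻¹ := by
            rw [show c * (zc * m) * c⁻¹ = c * zc * c⁻¹ * (c * m * c⁻¹) by group, (zc_cent c).eq,
              mul_inv_cancel_right, h1]
        _ = c * m * c⁻¹ := by rw [← mul_assoc zc, zc2, one_mul]
        _ = zc * m := h1
    rw [c3, one_mul, inv_one, mul_one, eq_comm, mul_eq_right] at h3
    exact zc1 h3
  have cardZ : Nat.card ↥Zp = 8 := by
    haveI : Finite ↥V := Nat.finite_of_card_ne_zero (by rw [hV]; norm_num)
    have hb : Function.Bijective (fun p : ↥V × Bool =>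
        (⟨(p.1 : ↥H) * (if p.2 then zc else 1), mul_mem (hVZ _ p.1.2) (by split <;> [exact hzZ; exact one_mem _])⟩ : ↥Zp)) := by
      have hzV : zc ∉ V := fun h => zc1 (disj zc h (he0 ▸ e0.2))
      refine ⟨?_, fun m => ?_⟩
      · rintro ⟨a, p⟩ ⟨b, q⟩ h
        have h' : (a : ↥H) * (if p then zc else 1) = (b : ↥H) * (if q then zc else 1) := congrArg Subtype.val h
        cases p <;> cases q <;> simp only [Bool.false_eq_true, if_false, if_true, mul_one] at h'
        · rw [Subtype.ext h']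
        · exact absurd (by rw [h', inv_mul_cancel_left] : ((b : ↥H))⁻¹ * a = zc)
            fun h2 => hzV (h2 ▸ mul_mem (inv_mem b.2) a.2)
        · exact absurd (by rw [← h', inv_mul_cancel_left] : ((a : ↥H))⁻¹ * b = zc)
            fun h2 => hzV (h2 ▸ mul_mem (inv_mem a.2) b.2)
        · rw [Subtype.ext (mul_right_cancel h')]
      · obtain ⟨v, hv, e | e⟩ := Zform m m.2
        · exact ⟨(⟨v, hv⟩, false), Subtype.ext (by simp [e])⟩
        · exact ⟨(⟨v, hv⟩, true), Subtype.ext (by simp [e])⟩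
    rw [← Nat.card_eq_of_bijective _ hb, Nat.card_prod, hV, Nat.card_eq_fintype_card (α := Bool), Fintype.card_bool]
  have cardW : Nat.card ↥WH = 4 := by
    have hk : Nat.card ↥δ.ker = 2 := by
      refine (Nat.card_eq_two_iff' (1 : ↥δ.ker)).mpr ⟨⟨⟨zc, hzZ⟩, ?_⟩, ?_, ?_⟩
      · show c * zc * c⁻¹ * zc⁻¹ = 1
        rw [(zc_cent c).eq, mul_inv_cancel_right, mul_inv_cancel]
      · exact fun h => zc1 (congrArg (fun t : ↥δ.ker => ((t : ↥Zp) : ↥H)) h)
      · rintro ⟨⟨m, hm⟩, hk⟩ hne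
        rcases hCc m hm.1 (mul_inv_eq_iff_eq_mul.mp (mul_inv_eq_one.mp hk)) with h | h
        · exact absurd (Subtype.ext (Subtype.ext h)) hne
        · exact Subtype.ext (Subtype.ext h)
    have h1 := δ.ker.index_mul_card
    rw [Subgroup.index_ker, cardZ, hk] at h1
    show Nat.card ↥δ.range = 4
    omega
  have Zdec : ∀ m ∈ Zp, m ∈ WH ∨ m * zc ∈ WH := by
    intro m hm
    have hle : WH ≤ Zp := WZ
    have hi : (WH.subgroupOf Zp).index = 2 := by
      have h := (WH.subgroupOf Zp).index_mul_card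
      rw [Nat.card_congr (Subgroup.subgroupOfEquivOfLe hle).toEquiv, cardW, cardZ] at h
      omega
    by_cases h : m ∈ WH
    · exact Or.inl h
    · refine Or.inr ?_
      exact Subgroup.mem_subgroupOf.mp ((Subgroup.mul_mem_iff_of_index_two hi (a := ⟨m, hm⟩) (b := ⟨zc, hzZ⟩)).mpr
        (iff_of_false (fun h' => h (Subgroup.mem_subgroupOf.mp h')) fun h' => hzW (Subgroup.mem_subgroupOf.mp h')))
  -- the action on the element of order three
  let Mc := P ⊔ Subgroup.zpowers c
  have memM : ∀ h : ↥H, h ∈ Mc ↔ h ∈ P ∨ h * c ∈ P ∨ h * c * c ∈ P := by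
    intro h
    constructor
    · intro hm
      have hm' : h ∈ ((P ⊔ Subgroup.zpowers c : Subgroup ↥H) : Set ↥H) := hm
      rw [Subgroup.normal_mul] at hm'
      obtain ⟨p, hp, q, hq, rfl⟩ := hm'
      obtain ⟨i, hi⟩ := Subgroup.mem_zpowers_iff.mp hq
      have hq' : q = c ^ (i % 3) := by rw [← hi, ← zpow_mod_orderOf, hc]; rfl
      have h0 : 0 ≤ i % 3 := Int.emod_nonneg _ (by norm_num)
      have h3 : i % 3 < 3 := Int.emod_lt_of_pos _ (by norm_num)
      rcases (show i % 3 = 0 ∨ i % 3 = 1 ∨ i % 3 = 2 by omega) with e | e | e <;> rw [e] at hq'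
      · exact Or.inl (by rw [hq', zpow_zero]; simpa using hp)
      · refine Or.inr (Or.inr ?_)
        rw [hq', zpow_one]
        show p * c * c * c ∈ P
        rwa [show p * c * c * c = p * (c * c * c) by group, c3, mul_one]
      · refine Or.inr (Or.inl ?_)
        rw [hq']
        show p * c ^ (2 : ℤ) * c ∈ P
        rwa [zpow_two, show p * (c * c) * c = p * (c * c * c) by simp [mul_assoc], c3, mul_one]
    · have hcM : c ∈ Mc := Subgroup.mem_sup_right (Subgroup.mem_zpowers c)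
      rintro (hp | hp | hp)
      · exact Subgroup.mem_sup_left hp
      · have := mul_mem (Subgroup.mem_sup_left hp : h * c ∈ Mc) (inv_mem hcM)
        rwa [mul_inv_cancel_right] at this
      · have := mul_mem (mul_mem (Subgroup.mem_sup_left hp : h * c * c ∈ Mc) (inv_mem hcM)) (inv_mem hcM)
        rwa [mul_inv_cancel_right, mul_inv_cancel_right] at this
  have conj_c : ∀ h : ↥H, h * c * h⁻¹ * c ∈ P ∨ h * c * h⁻¹ * c * c ∈ P := by
    intro h
    have hm : h * c * h⁻¹ ∈ Mc := hJc.conj_mem c (Subgroup.mem_sup_right (Subgroup.mem_zpowers c)) h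
    refine ((memM _).mp hm).resolve_left fun hp => cP ?_
    simpa [mul_assoc] using hPn.conj_mem _ hp h⁻¹
  have conjW : ∀ h : ↥H, ∀ u ∈ WH, h * u * h⁻¹ ∈ WH := by
    rintro h _ ⟨⟨m, hm⟩, rfl⟩
    have hm' : h * m * h⁻¹ ∈ Zp := memZ.mpr ⟨hPn.conj_mem m hm.1 h, fun p hp => by
      have hp' : h⁻¹ * p * h ∈ P := by simpa using hPn.conj_mem p hp h⁻¹
      have := (hm.2 _ hp').map (MulAut.conj h).toMonoidHom
      simpa [mul_assoc] using this⟩
    set y := h * m * h⁻¹ with hy
    set d := h * c * h⁻¹ with hd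
    show h * (c * m * c⁻¹ * m⁻¹) * h⁻¹ ∈ WH
    rw [show h * (c * m * c⁻¹ * m⁻¹) * h⁻¹ = d * y * d⁻¹ * y⁻¹ by rw [hy, hd]; group]
    have fixi : ∀ i ∈ P, ∀ w ∈ Zp, i * w * i⁻¹ = w := fun i hi w hw => by
      rw [← ((memZ.mp hw).2 i hi).eq, mul_inv_cancel_right]
    rcases conj_c h with hp | hp
    · -- inverse
      have ed : d = d * c * (c * c) := by
        rw [show d * c * (c * c) = d * (c * c * c) by group, c3, mul_one]
      have h2 : d * y * d⁻¹ * y⁻¹ = c * (c * y * c⁻¹) * c⁻¹ * y⁻¹ := by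
        conv_lhs => rw [ed]
        rw [show d * c * (c * c) * y * (d * c * (c * c))⁻¹ = d * c * (c * (c * y * c⁻¹) * c⁻¹) * (d * c)⁻¹ by group,
          fixi _ hp _ (Zc _ (Zc _ hm'))]
      rw [h2, show c * (c * y * c⁻¹) * c⁻¹ * y⁻¹ =
        (c * (c * y * c⁻¹) * c⁻¹ * (c * y * c⁻¹)⁻¹) * (c * y * c⁻¹ * y⁻¹) by group]
      exact mul_mem ⟨⟨_, Zc _ hm'⟩, rfl⟩ ⟨⟨y, hm'⟩, rfl⟩
    · have ed : d = d * c * c * c := by rw [show d * c * c * c = d * (c * c * c) by group, c3, mul_one]
      have h2 : d * y * d⁻¹ * y⁻¹ = c * y * c⁻¹ * y⁻¹ := by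
        conv_lhs => rw [ed]
        rw [show d * c * c * c * y * (d * c * c * c)⁻¹ = d * c * c * (c * y * c⁻¹) * (d * c * c)⁻¹ by group,
          fixi _ hp _ (Zc _ hm')]
      rw [h2]
      exact ⟨⟨y, hm'⟩, rfl⟩
  -- the quotient
  let π : ↥H →* ↥H ⧸ Mc := QuotientGroup.mk' Mc
  have πs : Function.Surjective π := QuotientGroup.mk'_surjective Mc
  haveI : Finite (↥H ⧸ Mc) := Finite.of_surjective π πs
  have conjInj : Function.Injective (MulAut.conj : Cfsg.PSp 2 F →* MulAut (Cfsg.PSp 2 F)) := by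
    rw [← MonoidHom.ker_eq_bot_iff]
    rcases (MonoidHom.normal_ker (MulAut.conj : Cfsg.PSp 2 F →* MulAut (Cfsg.PSp 2 F))).eq_bot_or_eq_top with h | h
    · exact h
    · exfalso
      have hcomm : ∀ a b : Cfsg.PSp 2 F, a * b = b * a := fun a b => by
        have h1 := DFunLike.congr_fun (MonoidHom.mem_ker.mp (h ▸ Subgroup.mem_top a : a ∈ MulAut.conj.ker)) b
        simp only [MulAut.conj_apply, MulAut.one_apply] at h1
        exact mul_inv_eq_iff_eq_mul.mp h1
      letI : CommGroup (Cfsg.PSp 2 F) := { (inferInstance : Group (Cfsg.PSp 2 F)) with mul_comm := hcomm }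
      have hp := IsSimpleGroup.prime_card (α := Cfsg.PSp 2 F)
      rw [cPSp] at hp
      norm_num at hp
  let N : Subgroup (↥H ⧸ Mc) := (MulAut.conj : Cfsg.PSp 2 F →* MulAut (Cfsg.PSp 2 F)).range.comap e.toMonoidHom
  let eN : Cfsg.PSp 2 F ≃* ↥N := MulEquiv.ofBijective
    (MonoidHom.mk' (fun p => (⟨e.symm (MulAut.conj p), ⟨p, (e.apply_symm_apply _).symm⟩⟩ : ↥N))
      fun a b => Subtype.ext (by simp only [map_mul]; rfl))
    ⟨fun a b h => conjInj (e.symm.injective (congrArg Subtype.val h)), fun ⟨x, p, hp⟩ => ⟨p, Subtype.ext (by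
      show e.symm (MulAut.conj p) = x
      rw [hp]; exact e.symm_apply_apply x)⟩⟩
  have cN : Nat.card N = 25920 := (Nat.card_congr eN.toEquiv).symm.trans cPSp
  have hN : N.index = 2 := by
    have := N.index_mul_card
    rw [cN, Nat.card_congr e.toEquiv, cAut] at this
    omega
  have hcent : ∀ x : ↥H ⧸ Mc, (∀ n ∈ N, x * n = n * x) → x = 1 := by
    intro x hx
    apply e.injective
    rw [map_one]
    refine MulEquiv.ext fun p => conjInj ?_
    have h := congrArg e (hx _ (eN p).2)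
    simp only [map_mul] at h
    rw [show e ((eN p : ↥N) : ↥H ⧸ Mc) = MulAut.conj p from e.apply_symm_apply _] at h
    refine MulEquiv.ext fun q => ?_
    have h' := DFunLike.congr_fun h ((e x)⁻¹ q)
    simp only [MulAut.mul_apply, MulAut.conj_apply, map_mul, map_inv, MulAut.apply_inv_self] at h'
    simp only [MulAut.conj_apply, MulAut.one_apply]
    exact h'
  haveI : Nontrivial ↥N := eN.symm.toEquiv.nontrivial
  haveI hNs : IsSimpleGroup ↥N := IsSimpleGroup.isSimpleGroup_of_surjective eN.toMonoidHom eN.surjective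
  -- the image of the centraliser of the element of order three
  let C := Subgroup.centralizer ({c} : Set ↥H)
  have hker : (π.comp C.subtype).ker = (Subgroup.zpowers c ⊔ Subgroup.zpowers zc).subgroupOf C := by
    ext k
    rw [MonoidHom.mem_ker, Subgroup.mem_subgroupOf]
    show QuotientGroup.mk' Mc (k : ↥H) = 1 ↔ _
    rw [QuotientGroup.mk'_apply, QuotientGroup.eq_one_iff, memM]
    have kc : Commute (k : ↥H) c := Subgroup.mem_centralizer_singleton_iff.mp k.2
    have hcM : c ∈ Subgroup.zpowers c ⊔ Subgroup.zpowers zc := Subgroup.mem_sup_left (Subgroup.mem_zpowers c)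
    have hzM : zc ∈ Subgroup.zpowers c ⊔ Subgroup.zpowers zc := Subgroup.mem_sup_right (Subgroup.mem_zpowers zc)
    have inR : ∀ p ∈ P, Commute c p → p ∈ Subgroup.zpowers c ⊔ Subgroup.zpowers zc := fun p hp h => by
      rcases hCc p hp h with rfl | rfl
      exacts [one_mem _, hzM]
    constructor
    · rintro (hp | hp | hp)
      · exact inR _ hp kc.symm
      · have := mul_mem (inR _ hp (kc.symm.mul_right (Commute.refl c))) (inv_mem hcM)
        rwa [mul_inv_cancel_right] at this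
      · have := mul_mem (mul_mem (inR _ hp ((kc.symm.mul_right (Commute.refl c)).mul_right (Commute.refl c)))
          (inv_mem hcM)) (inv_mem hcM)
        rwa [mul_inv_cancel_right, mul_inv_cancel_right] at this
    · intro hm
      exact (memM _).mp ((sup_le (Subgroup.zpowers_le.mpr (Subgroup.mem_sup_right (Subgroup.mem_zpowers c)))
        (Subgroup.zpowers_le.mpr (Subgroup.mem_sup_left hzcP)) :
          Subgroup.zpowers c ⊔ Subgroup.zpowers zc ≤ Mc) hm)
  let I := (π.comp C.subtype).range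
  have cI : Nat.card I = 25920 := by
    show Nat.card ↥(π.comp C.subtype).range = 25920
    rw [← Subgroup.index_ker, hker, Subgroup.index, Nat.card_congr e'.toEquiv, cPSp]
  have hI : I.index = 2 := by
    have := I.index_mul_card
    rw [cI, Nat.card_congr e.toEquiv, cAut] at this
    omega
  have NI : I = N := by
    haveI : I.Normal := Subgroup.normal_of_index_eq_two hI
    refine (Subgroup.eq_of_le_of_card_ge ?_ (by rw [cI, cN])).symm
    rcases (inferInstance : (I.subgroupOf N).Normal).eq_bot_or_eq_top with h | h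
    · exfalso
      have h1 : (I.subgroupOf N).index ∣ 2 := hI ▸ Subgroup.relIndex_dvd_index_of_normal _ _
      rw [h, Subgroup.index_bot, cN] at h1
      norm_num at h1
    · exact Subgroup.subgroupOf_eq_top.mp h
  have outer : ∀ h : ↥H, π h ∉ N → h * c * h⁻¹ * c ∈ P := by
    intro h hn
    refine (conj_c h).resolve_right fun hp => hn ?_
    set d := h * c * h⁻¹ with hd
    have dM : d ∈ Mc := hJc.conj_mem c (Subgroup.mem_sup_right (Subgroup.mem_zpowers c)) h
    have od : orderOf d = 3 := by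
      rw [hd, show h * c * h⁻¹ = MulAut.conj h c from rfl, (MulAut.conj h).orderOf_eq, hc]
    haveI : Fact (Nat.Prime 3) := ⟨Nat.prime_three⟩
    have cM : Nat.card ↥Mc = 2048 * 3 := by
      haveI : Finite ↥H := inferInstance
      have hPM : P ≤ Mc := le_sup_left
      let A := P.subgroupOf Mc
      have hA : Nat.card A = 2048 := by rw [Nat.card_congr (Subgroup.subgroupOfEquivOfLe hPM).toEquiv, hcardP]
      have hq : A.index = 3 := by
        rw [Subgroup.index_eq_card]
        let q : Fin 3 → ↥Mc ⧸ A := fun i => QuotientGroup.mk ⟨c ^ (i : ℕ),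
          pow_mem (Subgroup.mem_sup_right (Subgroup.mem_zpowers c)) _⟩
        have hb : Function.Bijective q := by
          refine ⟨fun i j h => ?_, fun x => ?_⟩
          · have h0 : (QuotientGroup.mk (⟨c ^ (i : ℕ), pow_mem (Subgroup.mem_sup_right (Subgroup.mem_zpowers c)) _⟩ : ↥Mc) :
                ↥Mc ⧸ A) = QuotientGroup.mk ⟨c ^ (j : ℕ), pow_mem (Subgroup.mem_sup_right (Subgroup.mem_zpowers c)) _⟩ := h
            have h' : (c ^ (i : ℕ))⁻¹ * c ^ (j : ℕ) ∈ P := Subgroup.mem_subgroupOf.mp (QuotientGroup.eq.mp h0)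
            have k2 : c * c ∉ P := fun h2 => cP (by
              have := mul_mem h2 h2
              rwa [show c * c * (c * c) = c * (c * c * c) by simp [mul_assoc], c3, mul_one] at this)
            have n1 : c⁻¹ ∉ P := fun h2 => cP (inv_mem_iff.mp h2)
            have n2 : (c * c)⁻¹ ∉ P := fun h2 => k2 (inv_mem_iff.mp h2)
            fin_cases i <;> fin_cases j <;> first | rfl | (exfalso; simp [pow_succ, mul_assoc] at h') <;>
              first | exact cP h' | exact k2 h' | exact n1 h' | exact n2 (by simpa [mul_inv_rev] using h')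
          · obtain ⟨⟨m, hm⟩, rfl⟩ := QuotientGroup.mk_surjective x
            rcases (memM m).mp hm with hp | hp | hp
            · exact ⟨0, QuotientGroup.eq.mpr (show (c ^ ((0 : Fin 3) : ℕ))⁻¹ * m ∈ P by simpa using hp)⟩
            · refine ⟨2, QuotientGroup.eq.mpr (show (c ^ 2)⁻¹ * m ∈ P from ?_)⟩
              rw [pow_two, inv_eq_of_mul_eq_one_right c3]
              simpa [mul_assoc] using hPn.conj_mem _ hp c
            · refine ⟨1, QuotientGroup.eq.mpr (show (c ^ 1)⁻¹ * m ∈ P from ?_)⟩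
              rw [pow_one, inv_eq_of_mul_eq_one_right (show c * (c * c) = 1 by rw [← mul_assoc, c3])]
              simpa [mul_assoc] using hPn.conj_mem _ hp (c * c)
        rw [← Nat.card_eq_of_bijective q hb, Nat.card_fin]
      rw [← A.index_mul_card, hq, hA]
    let cM' : ↥Mc := ⟨c, Subgroup.mem_sup_right (Subgroup.mem_zpowers c)⟩
    let dM' : ↥Mc := ⟨d, dM⟩
    have syl : ∀ x : ↥Mc, orderOf x = 3 → ∃ Q : Sylow 3 ↥Mc, (Q : Subgroup ↥Mc) = Subgroup.zpowers x := fun x hx =>
      ⟨Sylow.ofCard (Subgroup.zpowers x) (by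
        rw [Nat.card_zpowers, hx, cM]
        rw [show (2048 * 3 : ℕ).factorization 3 = 1 by
          rw [Nat.factorization_mul (by norm_num) (by norm_num), Finsupp.add_apply,
            Nat.factorization_eq_zero_of_not_dvd (by norm_num), Nat.Prime.factorization_self Nat.prime_three]]
        norm_num), Sylow.coe_ofCard _ _⟩
    obtain ⟨Q1, hQ1⟩ := syl cM' (by rw [← Subgroup.orderOf_coe]; exact hc)
    obtain ⟨Q2, hQ2⟩ := syl dM' (by rw [← Subgroup.orderOf_coe]; exact od)
    obtain ⟨m, hm⟩ := MulAction.exists_smul_eq ↥Mc Q1 Q2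
    have hmem : dM' ∈ (Subgroup.zpowers cM').map (MulAut.conj m).toMonoidHom := by
      have h1 : dM' ∈ ((m • Q1 : Sylow 3 ↥Mc) : Subgroup ↥Mc) := by rw [hm, hQ2]; exact Subgroup.mem_zpowers _
      rw [Sylow.coe_subgroup_smul, hQ1] at h1
      exact h1
    obtain ⟨x, hx, ex⟩ := hmem
    obtain ⟨i, rfl⟩ := Subgroup.mem_zpowers_iff.mp hx
    have ed : d = (m : ↥H) * c ^ i * (m : ↥H)⁻¹ := by
      have := congrArg Subtype.val ex
      simpa [cM', dM'] using this.symm
    -- the element may be taken in the core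
    obtain ⟨p, hpP, k, hk, em⟩ : ∃ p ∈ P, ∃ k : ↥H, Commute k c ∧ (m : ↥H) = p * k := by
      rcases (memM _).mp m.2 with hp' | hp' | hp'
      · exact ⟨_, hp', 1, Commute.one_left c, (mul_one _).symm⟩
      · exact ⟨_, hp', c⁻¹, (Commute.refl c).inv_left, (mul_inv_cancel_right _ _).symm⟩
      · exact ⟨_, hp', c⁻¹ * c⁻¹, (Commute.refl c).inv_left.mul_left (Commute.refl c).inv_left, by group⟩
    have ed' : d = p * c ^ i * p⁻¹ := by
      rw [ed, em, show p * k * c ^ i * (p * k)⁻¹ = p * (k * c ^ i * k⁻¹) * p⁻¹ by group, (hk.zpow_right i).eq,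
        mul_inv_cancel_right]
    have hi : c ^ i = c := by
      have h0 : c ^ i * c * c ∈ P := by
        have h1 : p * (c ^ i * p⁻¹ * (c ^ i)⁻¹) ∈ P := mul_mem hpP (hPn.conj_mem _ (inv_mem hpP) _)
        have h2 : d * c * c = p * (c ^ i * p⁻¹ * (c ^ i)⁻¹) * (c ^ i * c * c) := by rw [ed']; simp [mul_assoc]
        rw [h2] at hp
        exact (Subgroup.mul_mem_cancel_left P h1).mp hp
      have h3 : i % 3 = 0 ∨ i % 3 = 1 ∨ i % 3 = 2 := by omega
      have e : c ^ i = c ^ (i % 3) := by rw [← zpow_mod_orderOf, hc]; rfl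
      rw [e] at h0 ⊢
      rcases h3 with e' | e' | e' <;> rw [e'] at h0 ⊢
      · exfalso
        rw [zpow_zero, one_mul] at h0
        have := inv_mem h0
        rw [inv_eq_of_mul_eq_one_right c3] at this
        exact cP this
      · exact zpow_one c
      · exfalso
        rw [zpow_two, show c * c * c * c = c * (c * c * c) by simp [mul_assoc], c3, mul_one] at h0
        exact cP h0
    rw [hi] at ed'
    have hC : p⁻¹ * h ∈ C := Subgroup.mem_centralizer_singleton_iff.mpr (mul_inv_eq_iff_eq_mul.mp (by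
      calc p⁻¹ * h * c * (p⁻¹ * h)⁻¹ = p⁻¹ * d * p := by rw [hd]; group
        _ = c := by rw [ed']; group))
    have : π h = π (p⁻¹ * h) := by
      rw [map_mul, map_inv, show π p = 1 from (QuotientGroup.eq_one_iff p).mpr (Subgroup.mem_sup_left hpP), inv_one,
        one_mul]
    rw [this, ← NI]
    exact ⟨⟨_, hC⟩, rfl⟩
  have memWH : ∀ h : ↥H, (h : G) ∈ WH.map H.subtype ↔ h ∈ WH := fun h =>
    ⟨fun ⟨x, hx, e⟩ => by rw [show h = x from Subtype.ext e.symm]; exact hx, fun hh => ⟨h, hh, rfl⟩⟩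
  let S : CfsgLib.FiThreeType.Setup G (↥H ⧸ Mc) :=
    { z := z
      zz := zz
      z1 := z1
      J := J
      zJ := hzc ▸ (memJ zc).mpr hzcP
      Jz := fun j hj => cz ⟨j, JH j hj⟩
      conjJ := fun h hh j hj => by
        obtain ⟨p, hp, rfl⟩ := hj
        exact ⟨⟨h, mH hh⟩ * p * ⟨h, mH hh⟩⁻¹, hPn.conj_mem p hp _, rfl⟩
      card := by
        show Nat.card ↥(P.map H.subtype) = 2048
        rw [← Nat.card_congr (P.equivMapOfInjective H.subtype H.subtype_injective).toEquiv, hcardP]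
      W := WH.map H.subtype
      cardW := by rw [← Nat.card_congr (WH.equivMapOfInjective H.subtype H.subtype_injective).toEquiv, cardW]
      Wsq := by
        rintro _ ⟨u, hu, rfl⟩
        exact congrArg Subtype.val (Zsq u (WZ u hu))
      WJ := Subgroup.map_mono fun u hu => (memZ.mp (WZ u hu)).1
      zW := fun h => hzW ((memWH zc).mp (hzc.symm ▸ h))
      Wc := by
        rintro _ ⟨u, hu, rfl⟩ _ ⟨p, hp, rfl⟩
        exact ((memZ.mp (WZ u hu)).2 p hp).map H.subtype
      conjW := fun h hh w hw => by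
        obtain ⟨u, hu, rfl⟩ := hw
        exact ⟨_, conjW ⟨h, mH hh⟩ u hu, rfl⟩
      centre := fun m hm hmc => by
        obtain ⟨p, hp, rfl⟩ := hm
        rcases Zdec p (memZ.mpr ⟨hp, fun q hq => Subtype.ext (hmc _ ((memJ q).mpr hq)).eq⟩) with h | h
        · exact Or.inl ⟨p, h, rfl⟩
        · exact Or.inr ⟨_, h, by rw [map_mul]; show (p : G) * (zc : G) = _; rw [hzc]; rfl⟩
      comm2 := fun a ha b hb => by
        obtain ⟨p, hp, rfl⟩ := ha
        obtain ⟨q, hq, rfl⟩ := hb
        rcases commP p hp q hq with h | h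
        · exact Or.inl (congrArg Subtype.val h)
        · right
          rw [he0] at h
          show (p : G) * q = z * ((q : G) * p)
          rw [← hzc]
          exact congrArg Subtype.val h
      sq2 := fun j hj => by
        obtain ⟨p, hp, rfl⟩ := hj
        obtain ⟨a, ha, x, hx, rfl⟩ := split p hp
        have e1 : a * x * (a * x) = x * x := by
          rw [(show Commute a x from hVEc a ha x hx).symm.mul_mul_mul_comm, Vsq a ha, one_mul]
        have hx2 : (⟨x, hx⟩ : ↥E) * ⟨x, hx⟩ ∈ Subgroup.center ↥E := by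
          rw [← hEf, ← pow_two]
          exact CfsgLib.pow_mem_frattini_pGroup hEp _
        show ((a * x : ↥H) : G) * ((a * x : ↥H) : G) = 1 ∨ ((a * x : ↥H) : G) * ((a * x : ↥H) : G) = z
        rw [← Subgroup.coe_mul, e1]
        exact (hcE _ hx2).imp (fun h => congrArg (fun t : ↥E => ((t : ↥H) : G)) h)
          fun h => (congrArg (fun t : ↥E => ((t : ↥H) : G)) h).trans ((congrArg Subtype.val he0).trans hzc)
      selfcent := fun h hh hcj => by
        have hm : (⟨h, mH hh⟩ : ↥H) ∈ P := hCJ (Subgroup.mem_centralizer_iff.mpr fun p hp =>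
          Subtype.ext (hcj _ ((memJ p).mpr hp)).eq.symm)
        exact (memJ ⟨h, mH hh⟩).mpr hm
      c := (c : G)
      cz := cz c
      c3 := congrArg Subtype.val c3
      cfix := fun j hj hcj => by
        obtain ⟨p, hp, rfl⟩ := hj
        exact (hCc p hp (Subtype.ext hcj.eq)).imp (fun h => congrArg Subtype.val h)
          fun h => (congrArg Subtype.val h).trans hzc
      π := π
      hπ := πs
      hk := fun h => by
        refine (QuotientGroup.eq_one_iff h).trans ((memM h).trans ?_)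
        exact or_congr (memJ h).symm (or_congr (memJ (h * c)).symm (memJ (h * c * c)).symm)
      N := N
      hN := hN
      Nsimple := hNs
      cardN := cN
      hcent := hcent
      lifts := fun x hx => by
        rw [← NI] at hx
        obtain ⟨k, hk⟩ := hx
        exact ⟨((k : ↥H) : G), (k : ↥H).2,
          (show Commute (k : ↥H) c from Subgroup.mem_centralizer_singleton_iff.mp k.2).map H.subtype, hk⟩
      outer := fun h hh hn => (memJ (⟨h, hh⟩ * c * ⟨h, hh⟩⁻¹ * c)).mpr (outer ⟨h, hh⟩ hn) }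
  have eN' : Cfsg.PSp 2 F ≃* ↥S.N := eN
  rcases S.fi23_or_iso hF eN' with h | hIz
  · exact Or.inr (Or.inl h)
  rcases S.global hF eN' hIz with h | ⟨hW, w, hw, w1, hn⟩
  · exact Or.inl h
  let K0 := GaloisField 2 2
  haveI : Fintype K0 := Fintype.ofFinite _
  have hK0 : Fintype.card K0 = 4 := by
    rw [← Nat.card_eq_fintype_card, GaloisField.card 2 2 (by norm_num)]; norm_num
  obtain ⟨t⟩ := CfsgLib.SUShort.psu_congr (FiniteField.ringEquivOfCardEq (K := K0) (K' := K) (hK0.trans hK.symm)) 6 2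
  haveI := hW
  obtain ⟨a⟩ := S.aut (K := K0) hF hK0 eN' hIz hw w1 hn
  exact Or.inr (Or.inr ⟨S.W, hW, S.cardW, fun v hv => by rw [pow_two]; exact S.Wsq v hv, ⟨a.trans (MulAut.congr t)⟩⟩)

end Cfsg.Agent.S3233
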