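import Cfsg.Statements.S3237
import Cfsg.Agent.Lib.AutL34Type.Whole
import Cfsg.Agent.Lib.AutL34Type.OnlyUCount
import Cfsg.Agent.Lib.AutL34Type.Setting
import Cfsg.Agent.Lib.AutL34Type.Cases

set_option autoImplicit false
open Cfsg

namespace Cfsg.Agent.S3237

/-- Let G be a finite group of even order with an involution z, H = C_G(z), such that H has a normal subgroup E of order 32 that is extraspecial and contains no elementary abelian subgroup of order 8 (the central product of a dihedral group of order 8 with a quaternion group), C_H(E) ≤ E, and H/E ≅ S₄. Then O(G) is abelian, and if G is not solvable then G is isomorphic to the automorphism group of PGL₃(4). -/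
theorem result {G : Type*} [Group G] [Finite G]
    (hev : Even (Nat.card G)) (z : G) (hz : orderOf z = 2)
    (E : Subgroup ↥(Subgroup.centralizer ({z} : Set G))) [hEn : E.Normal] (hE : Cfsg.IsExtraspecial 2 ↥E) (hE32 : Nat.card ↥E = 32)
    (hEminus : ∀ A : Subgroup ↥E, Cfsg.IsElementaryAbelian 2 A → Nat.card ↥A ≠ 8)
    (hCE : Subgroup.centralizer (E : Set ↥(Subgroup.centralizer ({z} : Set G))) ≤ E)
    (e : (↥(Subgroup.centralizer ({z} : Set G)) ⧸ E) ≃* Equiv.Perm (Fin 4)) {F : Type*} [Field F] [Fintype F] (hF : Fintype.card F = 4) :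
    IsMulCommutative ↥(Cfsg.oddCore G) ∧
      (¬ Group.IsSolvable G → Nonempty (G ≃* MulAut (GL (Fin 3) F ⧸ Subgroup.center (GL (Fin 3) F)))) := by
  refine ⟨CfsgAutL34.oddCore_comm z hz E hE32 hCE, fun hns => ?_⟩
  haveI := CfsgLib.BaseThree.solvable_perm4
  haveI : Fact (Nat.Prime 2) := ⟨Nat.prime_two⟩
  have hEs : Group.IsSolvable ↥E := by
    haveI := (IsPGroup.of_card (p := 2) (n := 5) (G := ↥E) (by rw [hE32]; rfl)).isNilpotent
    infer_instance
  have hCs : Group.IsSolvable ↥(Subgroup.centralizer ({z} : Set G)) :=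
    Group.isSolvable_of_ker_le_range E.subtype (e.toMonoidHom.comp (QuotientGroup.mk' E)) (by
      intro c hc
      rw [E.range_subtype]
      have : (QuotientGroup.mk' E c) = 1 := e.injective (hc.trans (map_one e).symm)
      exact (QuotientGroup.eq_one_iff c).1 this)
  obtain ⟨k, φ, B⟩ := CfsgAutL34.exists_base z hz E hE hE32 hEminus hCE e
  rcases B.cases with hiso | ⟨rfl, hsw | honly⟩
  · exact absurd (CfsgAutL34.solvable_of_isolated z hz E hE32 hCE e hiso) hns
  · obtain ⟨r, σ, γ, D⟩ := CfsgAutL34.exists_main B hsw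
    obtain ⟨Φ, -, -⟩ := D.exists_iso hF
    exact ⟨(Subgroup.topEquiv.symm.trans (MulEquiv.subgroupCongr D.genSub_eq_top.symm)).trans Φ⟩
  · exact absurd (honly.solvable hCs) hns

end Cfsg.Agent.S3237
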