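import Cfsg.Statements.S3240
import Cfsg.Agent.Lib.SuzSC.Endgame
import Cfsg.Agent.Lib.SuzSC.Identify

set_option autoImplicit false
open Cfsg

namespace Cfsg.Agent.S3240

/-- Call a subgroup A of a finite group G strongly self-centralizing if C_G(a) = A for every non-identity a ∈ A. Let G be a finite non-abelian simple group with three pairwise non-conjugate strongly self-centralizing subgroups A₁, A₂, A₃ with [N_G(A₁) : A₁] = 2, [N_G(A₂) : A₂] = [N_G(A₃) : A₃] = 4, |A₁| = n₁ ≥ 5, |A₂| = n₂ > 5, |A₃| = n₃ > 5, such that |G| ≤ 3 n₁² n₂² n₃² and the Sylow r-subgroups of G are abelian for every odd prime r not dividing n₁n₂n₃. Then G is isomorphic to a Suzuki group. -/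
theorem result {G : Type*} [Group G] [Finite G] [IsSimpleGroup G] (hG : ¬ IsMulCommutative G)
    (A₁ A₂ A₃ : Subgroup G)
    (hsc : ∀ A ∈ ({A₁, A₂, A₃} : Set (Subgroup G)), ∀ a ∈ A, a ≠ 1 → Subgroup.centralizer ({a} : Set G) = A)
    (hnc : ∀ g : G, A₁.map (MulAut.conj g).toMonoidHom ≠ A₂ ∧ A₁.map (MulAut.conj g).toMonoidHom ≠ A₃ ∧ A₂.map (MulAut.conj g).toMonoidHom ≠ A₃)
    (h₁ : A₁.relIndex (Subgroup.normalizer (A₁ : Set G)) = 2) (h₂ : A₂.relIndex (Subgroup.normalizer (A₂ : Set G)) = 4)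
    (h₃ : A₃.relIndex (Subgroup.normalizer (A₃ : Set G)) = 4)
    (hn₁ : 5 ≤ Nat.card ↥A₁) (hn₂ : 5 < Nat.card ↥A₂) (hn₃ : 5 < Nat.card ↥A₃)
    (hord : Nat.card G ≤ 3 * Nat.card ↥A₁ ^ 2 * Nat.card ↥A₂ ^ 2 * Nat.card ↥A₃ ^ 2)
    (hab : ∀ r : ℕ, r.Prime → r ≠ 2 → ¬ r ∣ Nat.card ↥A₁ * Nat.card ↥A₂ * Nat.card ↥A₃ →
      ∀ P : Sylow r G, IsMulCommutative ↥(P : Subgroup G)) :
    Cfsg.Lie.IsoSuzuki G := by
  classical
  letI : Fintype G := Fintype.ofFinite G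
  letI : Fintype ↥A₁ := Fintype.ofFinite _
  letI : Fintype ↥A₂ := Fintype.ofFinite _
  letI : Fintype ↥A₃ := Fintype.ofFinite _
  letI : Fintype (CfsgLib.SuzSC.NT A₁) := Fintype.ofFinite _
  letI : Fintype (CfsgLib.SuzSC.NT A₂) := Fintype.ofFinite _
  letI : Fintype (CfsgLib.SuzSC.NT A₃) := Fintype.ofFinite _
  have s₁ : CfsgLib.SuzSC.SC A₁ 2 := ⟨hsc A₁ (by simp), h₁, Or.inl rfl, hn₁⟩
  have s₂ : CfsgLib.SuzSC.SC A₂ 4 := ⟨hsc A₂ (by simp), h₂, Or.inr rfl, hn₂.le⟩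
  have s₃ : CfsgLib.SuzSC.SC A₃ 4 := ⟨hsc A₃ (by simp), h₃, Or.inr rfl, hn₃.le⟩
  have e₂ := s₂.card_classesOf
  have e₃ := s₃.card_classesOf
  have C : CfsgLib.SuzSC.Ctx A₁ A₂ A₃ := ⟨s₁, s₂, s₃, by omega, by omega, fun g => (hnc g).1, fun g => (hnc g).2.1,
    fun g => (hnc g).2.2, hord.trans (le_of_eq (by ring))⟩
  exact CfsgLib.SuzSC.suzuki_of_cit hG (fun t ht => C.isCIT hG t ht) s₁ s₂ s₃ (by omega) (by omega) hnc

end Cfsg.Agent.S3240
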