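import Cfsg.Statements.S3244
import Mathlib
import Cfsg.Agent.Lib.Basic
import Cfsg.Agent.Lib.Elementary
import Cfsg.Agent.Lib.CharTwoEarly
import Cfsg.Agent.Lib.ZStar.Main

set_option autoImplicit false
open Cfsg

namespace Cfsg.Agent.S3244

theorem normalizer_zpowers_of_two {G : Type*} [Group G] [Finite G] {u : G} (hu : orderOf u = 2) :
    Subgroup.normalizer ((Subgroup.zpowers u : Subgroup G) : Set G) = Subgroup.centralizer ({u} : Set G) := by
  ext g
  rw [Subgroup.mem_centralizer_singleton_iff]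
  have h2 : ∀ w, w ∈ Subgroup.zpowers u ↔ w = 1 ∨ w = u := fun w => by
    classical
    rw [mem_zpowers_iff_mem_range_orderOf, hu]
    simp [Finset.range_add_one, or_comm, eq_comm]
  constructor
  · intro hg
    rcases (h2 _).mp ((Subgroup.mem_normalizer_iff.mp hg u).mp (Subgroup.mem_zpowers u)) with h | h
    · exfalso
      rw [show u = 1 by simpa using h, orderOf_one] at hu
      norm_num at hu
    · exact mul_inv_eq_iff_eq_mul.mp h
  · intro hg
    refine Subgroup.mem_normalizer_iff.mpr fun w => ?_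
    rw [h2, h2, conj_eq_one_iff, mul_inv_eq_iff_eq_mul]
    refine or_congr Iff.rfl ⟨fun h => h ▸ hg, fun h => mul_left_cancel (h.trans hg.symm)⟩

theorem exists_ne_one_mem_center_of_normal {P : Type*} [Group P] [Finite P] (hP : IsPGroup 2 P) (N : Subgroup P)
    [N.Normal] (hN : N ≠ ⊥) : ∃ x, x ∈ N ⊓ Subgroup.center P ∧ x ≠ 1 := by
  haveI := Fact.mk Nat.prime_two
  haveI := hP.isNilpotent
  exact (Subgroup.bot_or_exists_ne_one _).resolve_left (CfsgLib.inf_center_ne_bot_of_nilpotent hN)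


/-- Say that a finite group G is of characteristic 2 type in the early sense when a Sylow 2-subgroup S of G has a self-centralizing normal subgroup of rank at least 3, S normalizes no nontrivial subgroup of odd order, and every 2-local subgroup of G is 2-constrained. If G is a non-abelian simple group of characteristic 2 type in this sense, then for some maximal 2-local subgroup M of G the centre of O₂(M) is not cyclic. -/
theorem result {G : Type*} [Group G] [Finite G] [IsSimpleGroup G]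
    (hG : ¬ IsMulCommutative G) (S : Sylow 2 G) (A : Subgroup G) (hA : Cfsg.IsSCN (S : Subgroup G) A) (hA3 : ¬ Cfsg.PRankLE 2 2 ↥A)
    (hinv : ∀ X : Subgroup G, Odd (Nat.card ↥X) → (S : Subgroup G) ≤ Subgroup.normalizer (X : Set G) → X = ⊥)
    (hcon : ∀ T : Subgroup G, IsPGroup 2 ↥T → T ≠ ⊥ → Cfsg.IsPConstrained 2 ↥(Subgroup.normalizer (T : Set G))) :
    ∃ M : Subgroup G, Cfsg.IsMaximalTwoLocal M ∧ ¬ IsCyclic ↥(Subgroup.center ↥(Cfsg.pCore 2 ↥M)) := by
  classical
  haveI := Fact.mk Nat.prime_two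
  by_contra hcyc
  push Not at hcyc
  have hcon' : ∀ t : G, orderOf t = 2 → IsPConstrained 2 ↥(Subgroup.centralizer ({t} : Set G)) := fun t ht => by
    have h1 := hcon (Subgroup.zpowers t) (IsPGroup.of_card (n := 1) (by rw [Nat.card_zpowers, ht, pow_one]))
      (fun e => by rw [Subgroup.zpowers_eq_bot.mp e, orderOf_one] at ht; norm_num at ht)
    rwa [normalizer_zpowers_of_two ht] at h1
  -- a normal elementary abelian subgroup
  obtain ⟨hAS, hSA, hAc⟩ := hA
  have hAab : ∀ a ∈ A, ∀ b ∈ A, a * b = b * a := fun a ha b hb => by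
    have := (hAc.symm ▸ ha : a ∈ (S : Subgroup G) ⊓ Subgroup.centralizer (A : Set G)).2
    exact (this b hb).symm
  let E : Subgroup G :=
    { carrier := {a | a ∈ A ∧ a * a = 1}
      one_mem' := ⟨one_mem A, one_mul 1⟩
      mul_mem' := fun {a b} ha hb => ⟨mul_mem ha.1 hb.1, by
        rw [mul_assoc a b, ← mul_assoc b a, hAab b hb.1 a ha.1, mul_assoc a b, hb.2, mul_one, ha.2]⟩
      inv_mem' := fun {a} ha => ⟨inv_mem ha.1, by rw [← mul_inv_rev, ha.2, inv_one]⟩ }
  have hEcard : 4 < Nat.card E := by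
    by_contra hle
    refine hA3 fun B hB hB2 => ?_
    have h1 : B.map A.subtype ≤ E := by
      rintro _ ⟨b, hb, rfl⟩
      exact ⟨b.2, by rw [← pow_two]; exact congrArg Subtype.val (hB2 b hb)⟩
    have := Subgroup.card_le_of_le h1
    rw [Subgroup.card_map_of_injective A.subtype_injective] at this
    omega
  have hES : E ≤ (S : Subgroup G) := fun a ha => hAS ha.1
  have hEn : ∀ s ∈ (S : Subgroup G), ∀ a ∈ E, s * a * s⁻¹ ∈ E := fun s hs a ha =>
    ⟨(Subgroup.mem_normalizer_iff.mp (hSA hs) a).mp ha.1, by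
      rw [show s * a * s⁻¹ * (s * a * s⁻¹) = s * (a * a) * s⁻¹ by group, ha.2, mul_one, mul_inv_cancel]⟩
  haveI : (E.subgroupOf (S : Subgroup G)).Normal := ⟨fun a ha s => hEn s s.2 a ha⟩
  have hE1 : E.subgroupOf (S : Subgroup G) ≠ ⊥ := fun e => by
    have := Nat.card_congr (Subgroup.subgroupOfEquivOfLe hES).toEquiv
    rw [e, Subgroup.card_bot] at this
    omega
  obtain ⟨zS, hzS, hzne⟩ := exists_ne_one_mem_center_of_normal S.isPGroup' (E.subgroupOf (S : Subgroup G)) hE1
  set z : G := (zS : G)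
  have hzE : z ∈ E := hzS.1
  have hz : orderOf z = 2 := orderOf_eq_prime (by rw [pow_two]; exact hzE.2) fun e => hzne (Subtype.ext e)
  have hzc : ∀ s ∈ (S : Subgroup G), s * z = z * s := fun s hs =>
    congrArg Subtype.val (Subgroup.mem_center_iff.mp hzS.2 ⟨s, hs⟩)
  have hcore := CfsgLib.CharTwoEarly.core_eq_bot hcon' S hinv hES hEn (fun a ha b hb => hAab a ha.1 b hb.1)
    (fun a ha => ha.2) hEcard hz hzE hzc
  have hgood : ∀ t : G, orderOf t = 2 → Subgroup.centralizer
      (pCore 2 (Subgroup.centralizer ({t} : Set G)) : Set (Subgroup.centralizer ({t} : Set G))) ≤ pCore 2 _ :=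
    fun t ht => CfsgLib.RadicalQuotient.centralizer_le (hcon' t ht)
      ((Subgroup.map_eq_bot_iff_of_injective _ (Subgroup.subtype_injective _)).mp (hcore t ht))
  -- conjugates of `z`
  let Z : Set G := {x | ∃ g : G, g * z * g⁻¹ = x}
  have hZo : ∀ x ∈ Z, orderOf x = 2 := by
    rintro _ ⟨g, rfl⟩
    exact (orderOf_injective (MulAut.conj g).toMonoidHom (MulAut.conj g).injective z).trans hz
  have hZsyl : ∀ T : Subgroup G, IsPGroup 2 T → ∃ w ∈ Z, ∀ s ∈ T, w * s = s * w := by
    intro T hT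
    obtain ⟨T', hT'⟩ := hT.exists_le_sylow
    obtain ⟨g, hg⟩ := MulAction.exists_smul_eq G S T'
    refine ⟨g * z * g⁻¹, ⟨g, rfl⟩, fun s hs => ?_⟩
    have h1 := hT' hs
    rw [← hg, Sylow.coe_subgroup_smul] at h1
    obtain ⟨r, hr, rfl⟩ := h1
    change g * z * g⁻¹ * (g * r * g⁻¹) = g * r * g⁻¹ * (g * z * g⁻¹)
    rw [show g * z * g⁻¹ * (g * r * g⁻¹) = g * (z * r) * g⁻¹ by group, ← hzc r hr]
    group
  -- the maximal local over a given local
  have hlocal : ∀ T : Subgroup G, IsPGroup 2 T → T ≠ ⊥ → ∃ x ∈ Z,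
      Subgroup.normalizer (T : Set G) ≤ Subgroup.centralizer ({x} : Set G) ∧
      ∀ P : Subgroup G, IsPGroup 2 P → P ≤ Subgroup.centralizer ({x} : Set G) →
        (∀ Q : Subgroup G, IsPGroup 2 Q → P ≤ Q → Q ≤ Subgroup.centralizer ({x} : Set G) → Q = P) →
        ∀ v : G, orderOf v = 2 → v ∈ Subgroup.centralizer ({x} : Set G) → (∀ s ∈ P, v * s = s * v) → v = x := by
    intro T hT hT1
    obtain ⟨M, ⟨hM, hNM⟩, hmax⟩ := Set.exists_max_image
      {M : Subgroup G | IsTwoLocal M ∧ Subgroup.normalizer (T : Set G) ≤ M} (fun M => Nat.card M) (Set.toFinite _)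
      ⟨_, ⟨T, hT, hT1, rfl⟩, le_rfl⟩
    have hMax : IsMaximalTwoLocal M := ⟨hM, fun N hN hle =>
      (Subgroup.eq_of_le_of_card_ge hle (hmax N ⟨hN, hNM.trans hle⟩)).symm⟩
    have hZcyc := hcyc M hMax
    set R := pCore 2 M with hR
    obtain ⟨T0, hT0, hT01, hM0⟩ := hM
    have hT0M : T0 ≤ M := hM0 ▸ Subgroup.le_normalizer
    haveI : (T0.subgroupOf M).Normal :=
      (Subgroup.normal_subgroupOf_iff_le_normalizer hT0M).mpr hM0.le
    have hT0R : T0.subgroupOf M ≤ R :=
      CfsgLib.le_pCore (hT0.of_equiv (Subgroup.subgroupOfEquivOfLe hT0M).symm)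
    have hR1 : R ≠ ⊥ := fun e => hT01 (by
      have := le_bot_iff.mp (e ▸ hT0R)
      rw [Subgroup.subgroupOf_eq_bot] at this
      exact (inf_eq_left.mpr hT0M).symm.trans (disjoint_iff.mp this))
    haveI : Nontrivial R := (Subgroup.nontrivial_iff_ne_bot R).mpr hR1
    haveI : Nontrivial (Subgroup.center R) := (CfsgLib.isPGroup_pCore 2).center_nontrivial
    obtain ⟨c, hc⟩ := exists_prime_orderOf_dvd_card' (G := Subgroup.center R) 2 (by
      obtain ⟨n, hn, hn'⟩ :=
        ((CfsgLib.isPGroup_pCore 2 (G := M)).to_subgroup (Subgroup.center R)).nontrivial_iff_card.1 inferInstance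
      rw [hn']; exact dvd_pow_self 2 hn.ne')
    set x : G := (((c : R) : M) : G) with hx
    have hxo : orderOf x = 2 := by rw [hx, Subgroup.orderOf_coe, Subgroup.orderOf_coe, Subgroup.orderOf_coe, hc]
    have huniq : ∀ d : Subgroup.center R, orderOf d = 2 → d = c := by
      intro d hd
      by_contra hne
      haveI := hZcyc
      haveI : Fintype (Subgroup.center R) := Fintype.ofFinite _
      have h3 := IsCyclic.card_pow_eq_one_le (α := Subgroup.center R) (n := 2) two_pos
      have h4 : ({1, c, d} : Finset (Subgroup.center R)) ⊆ Finset.univ.filter (fun u => u ^ 2 = 1) := by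
        intro u hu
        simp only [Finset.mem_insert, Finset.mem_singleton] at hu
        refine Finset.mem_filter.mpr ⟨Finset.mem_univ _, ?_⟩
        rcases hu with rfl | rfl | rfl
        · exact one_pow 2
        · rw [← hc]; exact pow_orderOf_eq_one _
        · rw [← hd]; exact pow_orderOf_eq_one _
      have hc1 : c ≠ 1 := fun e => by rw [e, orderOf_one] at hc; norm_num at hc
      have hd1 : d ≠ 1 := fun e => by rw [e, orderOf_one] at hd; norm_num at hd
      have h5 : ({1, c, d} : Finset (Subgroup.center R)).card = 3 :=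
        Finset.card_eq_three.mpr ⟨1, c, d, hc1.symm, hd1.symm, fun e => hne e.symm, rfl⟩
      have := Finset.card_le_card h4
      omega
    have hMx : M ≤ Subgroup.centralizer ({x} : Set G) := by
      intro m hm
      set m' : M := ⟨m, hm⟩
      have hmem : m' * ((c : R) : M) * m'⁻¹ ∈ R := (inferInstance : R.Normal).conj_mem _ (c : R).2 _
      have hcen : (⟨_, hmem⟩ : R) ∈ Subgroup.center R := Subgroup.mem_center_iff.mpr fun r => by
        have hr : m'⁻¹ * (r : M) * m'⁻¹⁻¹ ∈ R := (inferInstance : R.Normal).conj_mem _ r.2 _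
        have h1 : (⟨_, hr⟩ : R) * (c : R) = (c : R) * ⟨_, hr⟩ := Subgroup.mem_center_iff.mp c.2 _
        have h1' : m'⁻¹ * (r : M) * m'⁻¹⁻¹ * ((c : R) : M) = ((c : R) : M) * (m'⁻¹ * (r : M) * m'⁻¹⁻¹) :=
          congrArg Subtype.val h1
        refine Subtype.ext ?_
        change (r : M) * (m' * ((c : R) : M) * m'⁻¹) = m' * ((c : R) : M) * m'⁻¹ * r
        calc (r : M) * (m' * ((c : R) : M) * m'⁻¹) = m' * (m'⁻¹ * (r : M) * m'⁻¹⁻¹ * ((c : R) : M)) * m'⁻¹ := by group
          _ = m' * (((c : R) : M) * (m'⁻¹ * (r : M) * m'⁻¹⁻¹)) * m'⁻¹ := by rw [h1']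
          _ = m' * ((c : R) : M) * m'⁻¹ * r := by group
      have h2 := huniq ⟨_, hcen⟩ (by
        rw [← Subgroup.orderOf_coe, ← Subgroup.orderOf_coe]
        exact ((orderOf_injective (MulAut.conj m').toMonoidHom (MulAut.conj m').injective _).trans
          (Subgroup.orderOf_coe _)).trans ((Subgroup.orderOf_coe _).trans hc))
      have h3 : m * x * m⁻¹ = x := congrArg (fun d : Subgroup.center R => (((d : R) : M) : G)) h2
      exact Subgroup.mem_centralizer_singleton_iff.mpr (mul_inv_eq_iff_eq_mul.mp h3)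
    have hxT : IsPGroup 2 (Subgroup.zpowers x) := IsPGroup.of_card (n := 1) (by rw [Nat.card_zpowers, hxo, pow_one])
    have hMC : Subgroup.centralizer ({x} : Set G) = M :=
      hMax.2 _ ⟨Subgroup.zpowers x, hxT, fun e => by rw [Subgroup.zpowers_eq_bot.mp e, orderOf_one] at hxo; norm_num at hxo,
        (normalizer_zpowers_of_two hxo).symm⟩ hMx
    have hgx : Subgroup.centralizer (pCore 2 M : Set M) ≤ pCore 2 M := hMC ▸ hgood x hxo
    -- involutions commuting with a maximal subgroup of two-power order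
    have hkey : ∀ P : Subgroup G, IsPGroup 2 P → P ≤ Subgroup.centralizer ({x} : Set G) →
        (∀ Q : Subgroup G, IsPGroup 2 Q → P ≤ Q → Q ≤ Subgroup.centralizer ({x} : Set G) → Q = P) →
        ∀ v : G, orderOf v = 2 → v ∈ Subgroup.centralizer ({x} : Set G) → (∀ s ∈ P, v * s = s * v) → v = x := by
      rw [hMC]
      intro P hP hPle hPmax v hv hvC hvP
      have hRP : R.map M.subtype ≤ P := by
        have hn : P ≤ Subgroup.normalizer ((R.map M.subtype : Subgroup G) : Set G) := fun s hs => by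
          have hmem : ∀ s ∈ P, ∀ y ∈ R.map M.subtype, s * y * s⁻¹ ∈ R.map M.subtype := by
            rintro s hs _ ⟨y, hy, rfl⟩
            exact ⟨⟨s, hPle hs⟩ * y * ⟨s, hPle hs⟩⁻¹, (inferInstance : R.Normal).conj_mem y hy _, rfl⟩
          exact Subgroup.mem_normalizer_iff.mpr fun y => ⟨hmem s hs y, fun hy => by
            have := hmem _ (inv_mem hs) _ hy
            rwa [show s⁻¹ * (s * y * s⁻¹) * s⁻¹⁻¹ = y by group] at this⟩
        have h1 := hPmax (P ⊔ R.map M.subtype) (hP.to_sup_of_normal_right' ((CfsgLib.isPGroup_pCore 2).map _) hn)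
          le_sup_left (sup_le hPle (Subgroup.map_subtype_le _))
        exact le_sup_right.trans h1.le
      have hvR : (⟨v, hvC⟩ : M) ∈ R := hgx fun r hr => Subtype.ext (hvP _ (hRP ⟨r, hr, rfl⟩)).symm
      have h4 := huniq ⟨⟨_, hvR⟩, Subgroup.mem_center_iff.mpr fun r =>
        Subtype.ext (Subtype.ext (hvP _ (hRP ⟨_, r.2, rfl⟩)).symm)⟩ (by
          rw [← Subgroup.orderOf_coe, ← Subgroup.orderOf_coe, ← Subgroup.orderOf_coe]
          exact hv)
      exact congrArg (fun d : Subgroup.center R => (((d : R) : M) : G)) h4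
    refine ⟨x, ?_, hNM.trans hMC.ge, hkey⟩
    obtain ⟨P, ⟨hP, hPle⟩, hPmax⟩ := Set.exists_max_image
      {P : Subgroup G | IsPGroup 2 P ∧ P ≤ Subgroup.centralizer ({x} : Set G)} (fun P => Nat.card P) (Set.toFinite _)
      ⟨⊥, IsPGroup.of_bot, bot_le⟩
    have hPm : ∀ Q : Subgroup G, IsPGroup 2 Q → P ≤ Q → Q ≤ Subgroup.centralizer ({x} : Set G) → Q = P :=
      fun Q hQ hle hQle => (Subgroup.eq_of_le_of_card_ge hle (hPmax Q ⟨hQ, hQle⟩)).symm
    have hxP : x ∈ P := by
      have h1 := hPm (P ⊔ Subgroup.zpowers x) (hP.to_sup_of_normal_right' hxT (hPle.trans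
        (normalizer_zpowers_of_two hxo).ge)) le_sup_left (sup_le hPle (Subgroup.zpowers_le.mpr
          (Subgroup.mem_centralizer_singleton_iff.mpr rfl)))
      exact h1.le (Subgroup.mem_sup_right (Subgroup.mem_zpowers x))
    obtain ⟨w, hw, hwP⟩ := hZsyl P hP
    exact hkey P hP hPle hPm w (hZo w hw) (Subgroup.mem_centralizer_singleton_iff.mpr (hwP x hxP)) hwP ▸ hw
  -- a Sylow subgroup centralises only one involution of the class
  have huniqS : ∀ P : Sylow 2 G, ∀ a ∈ Z, ∀ b ∈ Z, (∀ s ∈ (P : Subgroup G), a * s = s * a) →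
      (∀ s ∈ (P : Subgroup G), b * s = s * b) → a = b := by
    intro P a ha b hb haP hbP
    have ho := hZo a ha
    have hin : ∀ c : G, orderOf c = 2 → (∀ s ∈ (P : Subgroup G), c * s = s * c) → c ∈ (P : Subgroup G) := by
      intro c hc hcP
      have hn : (P : Subgroup G) ≤ Subgroup.normalizer ((Subgroup.zpowers c : Subgroup G) : Set G) := by
        rw [normalizer_zpowers_of_two hc]
        exact fun s hs => Subgroup.mem_centralizer_singleton_iff.mpr (hcP s hs).symm
      have h1 := P.is_maximal' (P.isPGroup'.to_sup_of_normal_right'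
        (IsPGroup.of_card (n := 1) (by rw [Nat.card_zpowers, hc, pow_one])) hn) le_sup_left
      exact h1.le (Subgroup.mem_sup_right (Subgroup.mem_zpowers c))
    obtain ⟨x, hx, hNx, hkey⟩ := hlocal (Subgroup.zpowers a)
      (IsPGroup.of_card (n := 1) (by rw [Nat.card_zpowers, ho, pow_one]))
      (fun e => by rw [Subgroup.zpowers_eq_bot.mp e, orderOf_one] at ho; norm_num at ho)
    rw [normalizer_zpowers_of_two ho] at hNx
    have hPx : (P : Subgroup G) ≤ Subgroup.centralizer ({x} : Set G) := fun s hs =>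
      hNx (Subgroup.mem_centralizer_singleton_iff.mpr (haP s hs).symm)
    have hmx : ∀ Q : Subgroup G, IsPGroup 2 Q → (P : Subgroup G) ≤ Q → Q ≤ Subgroup.centralizer ({x} : Set G) →
        Q = (P : Subgroup G) := fun Q hQ hle _ => P.is_maximal' hQ hle
    rw [hkey _ P.isPGroup' hPx hmx a ho (hPx (hin a ho haP)) haP,
      hkey _ P.isPGroup' hPx hmx b (hZo b hb) (hPx (hin b (hZo b hb) hbP)) hbP]
  -- some distinct conjugates commute
  have hex : ∃ a ∈ Z, ∃ b ∈ Z, a ≠ b ∧ a * b = b * a := by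
    by_contra hno
    push Not at hno
    have hiso : IsIsolated z := fun g hg => by
      by_contra hne
      exact hno z ⟨1, by group⟩ (g * z * g⁻¹) ⟨g, rfl⟩ (Ne.symm hne) hg.eq
    have hin := CfsgLib.ZStar.inZStar hz hiso
    haveI : (pPrimeCore 2 G).Normal := inferInstance
    rcases (inferInstance : (pPrimeCore 2 G).Normal).eq_bot_or_eq_top with h | h
    · have hcen : ∀ g : G, g * z = z * g := fun g => by
        have := hin g
        rw [h, Subgroup.mem_bot, mul_inv_eq_one, mul_inv_eq_iff_eq_mul] at this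
        exact this
      have hn : (Subgroup.zpowers z).Normal := ⟨fun a ha g => by
        obtain ⟨i, rfl⟩ := Subgroup.mem_zpowers_iff.mp ha
        rw [((show Commute g z from hcen g).zpow_right i).eq, mul_inv_cancel_right]
        exact ha⟩
      rcases hn.eq_bot_or_eq_top with h' | h'
      · rw [Subgroup.zpowers_eq_bot.mp h', orderOf_one] at hz; norm_num at hz
      · refine hG ⟨⟨fun a b => ?_⟩⟩
        obtain ⟨i, rfl⟩ := Subgroup.mem_zpowers_iff.mp (h' ▸ Subgroup.mem_top a)
        exact ((show Commute b z from hcen b).zpow_right i).eq.symm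
    · have h1 := CfsgLib.card_pPrimeCore_coprime 2 (G := G)
      rw [h, Subgroup.card_top] at h1
      have h2 := hz ▸ orderOf_dvd_natCard z
      exact absurd (Nat.eq_one_of_dvd_coprimes h1 h2 dvd_rfl) (by norm_num)
  -- a pair with largest common 2-subgroup
  obtain ⟨a₀, ha₀, b₀, hb₀, hab₀, hcomm₀⟩ := hex
  obtain ⟨⟨a, b, T⟩, ⟨ha, hb, hab, hcomm, hT, hTa, hTb⟩, hmax⟩ := Set.exists_max_image
    {p : G × G × Subgroup G | p.1 ∈ Z ∧ p.2.1 ∈ Z ∧ p.1 ≠ p.2.1 ∧ p.1 * p.2.1 = p.2.1 * p.1 ∧ IsPGroup 2 p.2.2 ∧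
      (∀ s ∈ p.2.2, p.1 * s = s * p.1) ∧ ∀ s ∈ p.2.2, p.2.1 * s = s * p.2.1}
    (fun p => Nat.card p.2.2) (Set.toFinite _)
    ⟨⟨a₀, b₀, ⊥⟩, ha₀, hb₀, hab₀, hcomm₀, IsPGroup.of_bot, fun s hs => by rw [Subgroup.mem_bot.mp hs, mul_one, one_mul],
      fun s hs => by rw [Subgroup.mem_bot.mp hs, mul_one, one_mul]⟩
  dsimp only at ha hb hab hcomm hT hTa hTb hmax
  -- adjoining a commuting involution
  have hadd : ∀ c : G, orderOf c = 2 → c * a = a * c → c * b = b * c → (∀ s ∈ T, c * s = s * c) → c ∈ T := by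
    intro c hc hca hcb hcT
    have hn : T ≤ Subgroup.normalizer ((Subgroup.zpowers c : Subgroup G) : Set G) := by
      rw [normalizer_zpowers_of_two hc]
      exact fun s hs => Subgroup.mem_centralizer_singleton_iff.mpr (hcT s hs).symm
    have hcl : ∀ d : G, c * d = d * c → (∀ s ∈ T, d * s = s * d) → ∀ s ∈ T ⊔ Subgroup.zpowers c, d * s = s * d := by
      intro d hd hdT s hs
      have : T ⊔ Subgroup.zpowers c ≤ Subgroup.centralizer ({d} : Set G) := sup_le
        (fun r hr => Subgroup.mem_centralizer_singleton_iff.mpr (hdT r hr).symm)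
        (Subgroup.zpowers_le.mpr (Subgroup.mem_centralizer_singleton_iff.mpr hd))
      exact (Subgroup.mem_centralizer_singleton_iff.mp (this hs)).symm
    have h1 := hmax ⟨a, b, T ⊔ Subgroup.zpowers c⟩ ⟨ha, hb, hab, hcomm,
      hT.to_sup_of_normal_right' (IsPGroup.of_card (n := 1) (by rw [Nat.card_zpowers, hc, pow_one])) hn,
      hcl a hca hTa, hcl b hcb hTb⟩
    exact (Subgroup.eq_of_le_of_card_ge le_sup_left h1).symm.le (Subgroup.mem_sup_right (Subgroup.mem_zpowers c))
  have haT : a ∈ T := hadd a (hZo a ha) rfl hcomm (fun s hs => hTa s hs)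
  have hbT : b ∈ T := hadd b (hZo b hb) hcomm.symm rfl (fun s hs => hTb s hs)
  have hT1 : T ≠ ⊥ := fun e => by
    have := hZo a ha
    rw [e, Subgroup.mem_bot] at haT
    rw [haT, orderOf_one] at this
    norm_num at this
  obtain ⟨x, hx, hNx, -⟩ := hlocal T hT hT1
  -- the argument for either member
  have hfin : ∀ c d : G, c ∈ Z → d ∈ Z → c ≠ d → (∀ s ∈ T, c * s = s * c) → (∀ s ∈ T, d * s = s * d) → c ∈ T → x = c := by
    intro c d hc hd hcd hTc hTd hcT
    by_contra hxc
    obtain ⟨g, rfl⟩ := hc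
    set C := Subgroup.centralizer ({g * z * g⁻¹} : Set G)
    obtain ⟨P, ⟨hP, hPle, hTP⟩, hPmax⟩ := Set.exists_max_image
      {P : Subgroup G | IsPGroup 2 P ∧ P ≤ C ∧ T ≤ P} (fun P => Nat.card P) (Set.toFinite _)
      ⟨T, hT, fun s hs => Subgroup.mem_centralizer_singleton_iff.mpr (hTc s hs).symm, le_rfl⟩
    -- the centraliser contains a Sylow subgroup
    obtain ⟨P', hP'⟩ := hP.exists_le_sylow
    have hPeq : Nat.card P = Nat.card (P' : Subgroup G) := by
      obtain ⟨P₁, hP₁⟩ := (hP.of_equiv (Subgroup.subgroupOfEquivOfLe hPle).symm).exists_le_sylow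
      have hSC : (S : Subgroup G).map (MulAut.conj g).toMonoidHom ≤ C := by
        rintro _ ⟨s, hs, rfl⟩
        refine Subgroup.mem_centralizer_singleton_iff.mpr ?_
        change g * s * g⁻¹ * (g * z * g⁻¹) = g * z * g⁻¹ * (g * s * g⁻¹)
        rw [show g * s * g⁻¹ * (g * z * g⁻¹) = g * (s * z) * g⁻¹ by group, hzc s hs]
        group
      obtain ⟨P₂, hP₂⟩ := ((S.isPGroup'.map (MulAut.conj g).toMonoidHom).of_equiv
        (Subgroup.subgroupOfEquivOfLe hSC).symm).exists_le_sylow
      have h1 : Nat.card (S : Subgroup G) ≤ Nat.card (P₂ : Subgroup C) := by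
        refine le_trans (le_of_eq ?_) (Subgroup.card_le_of_le hP₂)
        rw [Nat.card_congr (Subgroup.subgroupOfEquivOfLe hSC).toEquiv,
          Subgroup.card_map_of_injective (MulAut.conj g).injective]
      have h2 : Nat.card P₁ = Nat.card P₂ := by rw [P₁.card_eq_multiplicity, P₂.card_eq_multiplicity]
      have h3 := hPmax ((P₁ : Subgroup C).map C.subtype) ⟨P₁.isPGroup'.map _, Subgroup.map_subtype_le _, fun s hs =>
        ⟨⟨s, hPle (hTP hs)⟩, hP₁ (hTP hs), rfl⟩⟩
      have h4 : Nat.card (S : Subgroup G) = Nat.card (P' : Subgroup G) := by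
        rw [S.card_eq_multiplicity, P'.card_eq_multiplicity]
      have h5 := Subgroup.card_le_of_le hP'
      rw [Subgroup.card_map_of_injective C.subtype_injective] at h3
      omega
    have hPS : P = (P' : Subgroup G) := Subgroup.eq_of_le_of_card_ge hP' hPeq.ge
    have hne : T ≠ P := fun e => hcd (huniqS P' _ ⟨g, rfl⟩ _ hd (fun s hs => hTc s (by rwa [e, hPS]))
      (fun s hs => hTd s (by rwa [e, hPS])))
    have hlt := CfsgLib.Transitivity.inf_normalizer_lt_qGroup hP hTP hne
    have hxN : ∀ s ∈ P ⊓ Subgroup.normalizer (T : Set G), x * s = s * x := fun s hs =>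
      (Subgroup.mem_centralizer_singleton_iff.mp (hNx hs.2)).symm
    have hxc' : g * z * g⁻¹ * x = x * (g * z * g⁻¹) := (hxN _ ⟨hTP hcT, Subgroup.le_normalizer hcT⟩).symm
    have h1 := hmax ⟨g * z * g⁻¹, x, P ⊓ Subgroup.normalizer (T : Set G)⟩ ⟨⟨g, rfl⟩, hx, fun e => hxc e.symm, hxc',
      hP.to_le inf_le_left, fun s hs => (Subgroup.mem_centralizer_singleton_iff.mp (hPle hs.1)).symm, hxN⟩
    dsimp only at h1
    exact absurd (Subgroup.eq_of_le_of_card_ge hlt.le h1) hlt.ne
  exact hab ((hfin a b ha hb hab hTa hTb haT).symm.trans (hfin b a hb ha (Ne.symm hab) hTb hTa hbT))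

end Cfsg.Agent.S3244
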