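import Cfsg.Statements.S3246
import Mathlib
import Cfsg.Agent.Lib.Basic
import Cfsg.Agent.Lib.Elementary
import Cfsg.Agent.Lib.PLocal.AllLocals
import Cfsg.Agent.Lib.SmallSimple.RadicalQuotient

set_option autoImplicit false
open Cfsg

namespace Cfsg.Agent.S3246

theorem exists_ne_one_mem_center_of_normal {P : Type*} [Group P] [Finite P] (hP : IsPGroup 2 P) (N : Subgroup P)
    [N.Normal] (hN : N ≠ ⊥) : ∃ x, x ∈ N ⊓ Subgroup.center P ∧ x ≠ 1 := by
  haveI := Fact.mk Nat.prime_two
  haveI := hP.isNilpotent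
  exact (Subgroup.bot_or_exists_ne_one _).resolve_left (CfsgLib.inf_center_ne_bot_of_nilpotent hN)

theorem oddCore_congr {X Y : Type*} [Group X] [Group Y] [Finite X] [Finite Y] (e : X ≃* Y) (h : oddCore X = ⊥) :
    oddCore Y = ⊥ := by
  refine eq_bot_iff.mpr fun y hy => ?_
  have : e.symm y ∈ oddCore X := CfsgLib.le_pPrimeCore (N := (oddCore Y).map e.symm.toMonoidHom)
    (hN := Subgroup.Normal.map inferInstance _ e.symm.surjective)
    (by rw [Subgroup.card_map_of_injective e.symm.injective]; exact CfsgLib.card_pPrimeCore_coprime 2) ⟨y, hy, rfl⟩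
  rw [h, Subgroup.mem_bot] at this
  rw [Subgroup.mem_bot, ← e.apply_symm_apply y, this, map_one]

theorem normalizer_subgroupOf {G : Type*} [Group G] {T M : Subgroup G} (hTM : T ≤ M) :
    Subgroup.normalizer ((T.subgroupOf M : Subgroup M) : Set M) = (Subgroup.normalizer (T : Set G)).subgroupOf M := by
  ext m
  rw [Subgroup.mem_subgroupOf, Subgroup.mem_normalizer_iff, Subgroup.mem_normalizer_iff]
  constructor
  · intro h t
    constructor
    · intro ht
      exact (h ⟨t, hTM ht⟩).1 ht
    · intro ht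
      have hmem : t ∈ M := by simpa [mul_assoc] using mul_mem (mul_mem (M.inv_mem m.2) (hTM ht)) m.2
      exact (h ⟨t, hmem⟩).2 ht
  · exact fun h t => h t

/-- The hypothesis passes to a local inside a good subgroup. -/
theorem local_of_le {G : Type*} [Group G] [Finite G] {M T : Subgroup G}
    (hc : IsPConstrained 2 M) (hT : IsPGroup 2 T) (hTM : Subgroup.normalizer (T : Set G) ≤ M) :
    IsPConstrained 2 ↥(Subgroup.normalizer (T : Set G)) ∧
      (oddCore M = ⊥ → oddCore ↥(Subgroup.normalizer (T : Set G)) = ⊥) := by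
  haveI := Fact.mk Nat.prime_two
  have hT' : T ≤ M := Subgroup.le_normalizer.trans hTM
  have hP := hT.of_equiv (Subgroup.subgroupOfEquivOfLe hT').symm
  have hc' := CfsgLib.Transitivity.centralizer_pCore_quotient_le hc
  let e := (MulEquiv.subgroupCongr (normalizer_subgroupOf hT')).trans (Subgroup.subgroupOfEquivOfLe hTM)
  refine ⟨CfsgLib.PLocal.isPConstrained_transport e
    (CfsgLib.PLocal.isPConstrained_normalizer_centralizer hc hP hc').1, fun hO => oddCore_congr e ?_⟩
  have h := CfsgLib.PLocal.pPrimeCore_normalizer hc' hP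
  change pPrimeCore 2 M = ⊥ at hO
  rw [hO, bot_inf_eq] at h
  exact (Subgroup.map_eq_bot_iff_of_injective _ (Subgroup.subtype_injective _)).mp h

theorem normalizer_zpowers_of_two {G : Type*} [Group G] [Finite G] {u : G} (hu : orderOf u = 2) :
    Subgroup.normalizer ((Subgroup.zpowers u : Subgroup G) : Set G) = Subgroup.centralizer ({u} : Set G) := by
  ext g
  rw [Subgroup.mem_centralizer_singleton_iff]
  have h2 : ∀ w, w ∈ Subgroup.zpowers u ↔ w = 1 ∨ w = u := fun w => by
    classical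
    rw [mem_zpowers_iff_mem_range_orderOf, hu]
    simp [Finset.range_add_one, or_comm, eq_comm]
  constructor
  · intro hg
    rcases (h2 _).mp ((Subgroup.mem_normalizer_iff.mp hg u).mp (Subgroup.mem_zpowers u)) with h | h
    · exfalso
      rw [show u = 1 by simpa using h, orderOf_one] at hu
      norm_num at hu
    · exact mul_inv_eq_iff_eq_mul.mp h
  · intro hg
    refine Subgroup.mem_normalizer_iff.mpr fun w => ?_
    rw [h2, h2, conj_eq_one_iff, mul_inv_eq_iff_eq_mul]
    refine or_congr Iff.rfl ⟨fun h => h ▸ hg, fun h => mul_left_cancel (h.trans hg.symm)⟩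

/-- An odd subgroup normalised by most of a Sylow subgroup has no fixed points under a good involution. -/
theorem fixed_trivial {G : Type*} [Group G] [Finite G] (S : Sylow 2 G) {X : Subgroup G} (hX : Odd (Nat.card X))
    (hSX : (S : Subgroup G) ≤ Subgroup.normalizer (X : Set G)) {u : G} {H : Subgroup G}
    (hH : H = Subgroup.centralizer ({u} : Set G))
    (hgood : Subgroup.centralizer (pCore 2 H : Set H) ≤ pCore 2 H)
    (hidx : Nat.card (S : Subgroup G) ≤ 2 * Nat.card ((S : Subgroup G) ⊓ H : Subgroup G)) :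
    ∀ y ∈ X, y ∈ H → y = 1 := by
  classical
  haveI := Fact.mk Nat.prime_two
  intro y hyX hyH
  set R : Subgroup G := (pCore 2 H).map H.subtype with hR
  have hRp : IsPGroup 2 R := (CfsgLib.isPGroup_pCore 2).map _
  have hRH : R ≤ H := Subgroup.map_subtype_le _
  have hnorm : H ≤ Subgroup.normalizer (R : Set G) := fun h hh => Subgroup.mem_normalizer_iff.mpr fun r => by
    constructor
    · rintro ⟨r, hr, rfl⟩
      exact ⟨⟨h, hh⟩ * r * ⟨h, hh⟩⁻¹, (inferInstance : (pCore 2 H).Normal).conj_mem r hr _, rfl⟩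
    · rintro ⟨r', hr', he⟩
      refine ⟨⟨h, hh⟩⁻¹ * r' * (⟨h, hh⟩⁻¹)⁻¹, (inferInstance : (pCore 2 H).Normal).conj_mem r' hr' _, ?_⟩
      simp only [Subgroup.subtype_apply] at he ⊢
      rw [Subgroup.coe_mul, Subgroup.coe_mul, he]
      simp only [Subgroup.coe_inv]
      group
  set S0 := (S : Subgroup G) ⊓ H
  have hS0p : IsPGroup 2 S0 := S.isPGroup'.to_le inf_le_left
  have hjoin : IsPGroup 2 (S0 ⊔ R : Subgroup G) := hS0p.to_sup_of_normal_right' hRp (inf_le_right.trans hnorm)
  obtain ⟨T, hT⟩ := hjoin.exists_le_sylow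
  have hcS : Nat.card (S0 ⊔ R : Subgroup G) ≤ Nat.card (S : Subgroup G) := by
    rw [S.card_eq_multiplicity, ← T.card_eq_multiplicity]
    exact Subgroup.card_le_of_le hT
  set W : Subgroup G := S0 ⊔ R
  have hi2 : S0.relIndex W ≤ 2 := by
    have h1 : Nat.card S0 * S0.relIndex W = Nat.card W := by
      rw [← Nat.card_congr (Subgroup.subgroupOfEquivOfLe (show S0 ≤ W from le_sup_left)).toEquiv]
      exact (S0.subgroupOf W).card_mul_index
    have h2 : 0 < Nat.card S0 := Nat.card_pos
    by_contra hc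
    have := Nat.mul_le_mul_left (Nat.card S0) (show 3 ≤ S0.relIndex W by omega)
    omega
  -- the elements of the radical in the Sylow subgroup commute with `y`
  have hodd : ∀ g : G, g ∈ X → g ∈ R → g = 1 := fun g hg hgR => by
    refine orderOf_eq_one_iff.mp (Nat.eq_one_of_dvd_coprimes ?_ (Subgroup.orderOf_dvd_natCard R hgR)
      (Subgroup.orderOf_dvd_natCard X hg))
    obtain ⟨k, hk⟩ := IsPGroup.iff_card.mp hRp
    rw [hk]
    exact Nat.Coprime.pow_left k ((Nat.prime_two.coprime_iff_not_dvd).mpr (by rwa [← even_iff_two_dvd, Nat.not_even_iff_odd]))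
  have hcomm : ∀ r ∈ R, r ∈ S0 → r * y = y * r := by
    intro r hr hr0
    have h1 : r * y * r⁻¹ * y⁻¹ ∈ X :=
      mul_mem ((Subgroup.mem_normalizer_iff.mp (hSX hr0.1) y).mp hyX) (inv_mem hyX)
    have h2 : r * y * r⁻¹ * y⁻¹ ∈ R := by
      rw [show r * y * r⁻¹ * y⁻¹ = r * (y * r⁻¹ * y⁻¹) by group]
      exact mul_mem hr ((Subgroup.mem_normalizer_iff.mp (hnorm hyH) _).mp (inv_mem hr))
    have h3 := hodd _ h1 h2
    rwa [mul_inv_eq_one, mul_inv_eq_iff_eq_mul] at h3
  have hall : ∀ r ∈ R, r * y = y * r := by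
    intro r hr
    have hy' : ∀ s ∈ R, y * s * y⁻¹ ∈ R := fun s hs => (Subgroup.mem_normalizer_iff.mp (hnorm hyH) s).mp hs
    by_cases hr0 : r ∈ S0
    · exact hcomm r hr hr0
    have hd : (y * r * y⁻¹)⁻¹ ∉ S0 := fun h => hr0 (by
      have h' : y * r * y⁻¹ ∈ S0 := by simpa using inv_mem h
      have h1 := hcomm _ (hy' r hr) h'
      have h2 : r = y * r * y⁻¹ := by
        refine mul_left_cancel (a := y) ?_
        calc y * r = y * r * y⁻¹ * y := by group
          _ = y * (y * r * y⁻¹) := h1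
      rwa [h2])
    set a := r⁻¹ * (y * r * y⁻¹) with ha
    have haR : a ∈ R := mul_mem (inv_mem hr) (hy' r hr)
    have ha0 : a ∈ S0 := by
      have hi : (S0.subgroupOf W).index = 2 := by
        have h0 := Subgroup.index_ne_zero_of_finite (H := S0.subgroupOf W)
        have h1 : (S0.subgroupOf W).index ≠ 1 := fun h => hr0 (by
          have := (Subgroup.index_eq_one.mp h).symm ▸ Subgroup.mem_top (⟨r, Subgroup.mem_sup_right hr⟩ : W)
          exact this)
        have h2 : (S0.subgroupOf W).index ≤ 2 := hi2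
        omega
      exact (Subgroup.mul_mem_iff_of_index_two hi (a := (⟨r⁻¹, Subgroup.mem_sup_right (inv_mem hr)⟩ : W))
        (b := ⟨y * r * y⁻¹, Subgroup.mem_sup_right (hy' r hr)⟩)).mpr
        (iff_of_false (fun h => hr0 (by simpa using inv_mem (show r⁻¹ ∈ S0 from h))) fun h => hd (inv_mem h))
    have hpow : ∀ k : ℕ, y ^ k * r * (y ^ k)⁻¹ = r * a ^ k := by
      intro k
      induction k with
      | zero => simp
      | succ k ih =>
        calc y ^ (k + 1) * r * (y ^ (k + 1))⁻¹ = y * (y ^ k * r * (y ^ k)⁻¹) * y⁻¹ := by rw [pow_succ']; group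
          _ = y * r * y⁻¹ * (y * a ^ k * y⁻¹) := by rw [ih]; group
          _ = r * a * a ^ k := by
            rw [show y * a ^ k * y⁻¹ = a ^ k from mul_inv_eq_iff_eq_mul.mpr
              ((show Commute y a from (hcomm a haR ha0).symm).pow_right k).eq, ha]
            group
          _ = r * a ^ (k + 1) := by rw [pow_succ', mul_assoc]
    have h1 := hpow (orderOf y)
    rw [pow_orderOf_eq_one, one_mul, inv_one, mul_one, left_eq_mul] at h1
    have ha1 : a = 1 := by
      refine orderOf_eq_one_iff.mp (Nat.eq_one_of_dvd_coprimes ?_ (Subgroup.orderOf_dvd_natCard R haR)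
        (orderOf_dvd_of_pow_eq_one h1))
      obtain ⟨k, hk⟩ := IsPGroup.iff_card.mp hRp
      rw [hk]
      exact Nat.Coprime.pow_left k ((Nat.prime_two.coprime_iff_not_dvd).mpr fun h => (Nat.not_even_iff_odd.mpr hX)
        (even_iff_two_dvd.mpr (h.trans (Subgroup.orderOf_dvd_natCard X hyX))))
    rw [ha, inv_mul_eq_one] at ha1
    exact (mul_inv_eq_iff_eq_mul.mp ha1.symm).symm
  have hyR : y ∈ R := by
    refine ⟨⟨y, hyH⟩, hgood fun r hr => Subtype.ext (hall r ⟨r, hr, rfl⟩), rfl⟩
  exact hodd y hyX hyR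


/-- Let G be a finite group whose Sylow 2-subgroup S has a self-centralizing normal subgroup of rank at least 3. Suppose that either every maximal 2-local subgroup of G is 2-constrained with no nontrivial normal subgroup of odd order, or the centralizer of every involution of G is 2-constrained with no nontrivial normal subgroup of odd order. Then S normalizes no nontrivial subgroup of G of odd order and every 2-local subgroup of G is 2-constrained. -/
theorem result {G : Type*} [Group G] [Finite G]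
    (S : Sylow 2 G) (A : Subgroup G) (hA : Cfsg.IsSCN (S : Subgroup G) A) (hA3 : ¬ Cfsg.PRankLE 2 2 ↥A)
    (h : (∀ M : Subgroup G, Cfsg.IsMaximalTwoLocal M → Cfsg.IsPConstrained 2 ↥M ∧ Cfsg.oddCore ↥M = ⊥) ∨
      (∀ t : G, orderOf t = 2 → Cfsg.IsPConstrained 2 ↥(Subgroup.centralizer ({t} : Set G)) ∧
        Cfsg.oddCore ↥(Subgroup.centralizer ({t} : Set G)) = ⊥)) :
    (∀ X : Subgroup G, Odd (Nat.card ↥X) → (S : Subgroup G) ≤ Subgroup.normalizer (X : Set G) → X = ⊥) ∧
      (∀ T : Subgroup G, IsPGroup 2 ↥T → T ≠ ⊥ → Cfsg.IsPConstrained 2 ↥(Subgroup.normalizer (T : Set G))) := by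
  classical
  haveI := Fact.mk Nat.prime_two
  -- every local is constrained
  have hloc : ∀ T : Subgroup G, IsPGroup 2 ↥T → T ≠ ⊥ → IsPConstrained 2 ↥(Subgroup.normalizer (T : Set G)) := by
    intro T hT hT1
    rcases h with h | h
    · obtain ⟨M, ⟨hM, hNM⟩, hmax⟩ := Set.exists_max_image
        {M : Subgroup G | IsTwoLocal M ∧ Subgroup.normalizer (T : Set G) ≤ M} (fun M => Nat.card M) (Set.toFinite _)
        ⟨_, ⟨T, hT, hT1, rfl⟩, le_rfl⟩
      exact (local_of_le (h M ⟨hM, fun N hN hle =>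
        (Subgroup.eq_of_le_of_card_ge hle (hmax N ⟨hN, hNM.trans hle⟩)).symm⟩).1 hT hNM).1
    · haveI : Nontrivial T := (Subgroup.nontrivial_iff_ne_bot T).2 hT1
      obtain ⟨w, hw⟩ := exists_prime_orderOf_dvd_card' (G := Subgroup.center T) 2 (by
        haveI : Nontrivial (Subgroup.center T) := hT.center_nontrivial
        obtain ⟨n, hn, hn'⟩ := (hT.to_subgroup (Subgroup.center T)).nontrivial_iff_card.1 inferInstance
        rw [hn']; exact dvd_pow_self 2 hn.ne')
      set x : G := ((w : T) : G) with hx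
      have hxo : orderOf x = 2 := by rw [hx, Subgroup.orderOf_coe, Subgroup.orderOf_coe, hw]
      set C := Subgroup.centralizer ({x} : Set G) with hC
      have hTC : T ≤ C := fun t ht => Subgroup.mem_centralizer_singleton_iff.2
        (congrArg Subtype.val (Subgroup.mem_center_iff.1 w.2 ⟨t, ht⟩))
      have hCC : Subgroup.centralizer (T : Set G) ≤ C := fun c hc =>
        Subgroup.mem_centralizer_singleton_iff.2 (hc x (w : T).2).symm
      have h1 := (CfsgLib.PLocal.isPConstrained_normalizer_centralizer (h x hxo).1 (P := T.subgroupOf C)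
        (hT.of_equiv (Subgroup.subgroupOfEquivOfLe hTC).symm)
        (CfsgLib.Transitivity.centralizer_pCore_quotient_le (h x hxo).1)).2
      have e : Subgroup.centralizer ((T.subgroupOf C : Subgroup C) : Set C) =
          (Subgroup.centralizer (T : Set G)).subgroupOf C := by
        ext c
        exact ⟨fun h t ht => congrArg Subtype.val (h ⟨t, hTC ht⟩ ht), fun h t ht => Subtype.ext (h t ht)⟩
      exact CfsgLib.PLocal.isPConstrained_normalizer_of_centralizer hT
        (CfsgLib.PLocal.isPConstrained_transport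
          ((MulEquiv.subgroupCongr e).trans (Subgroup.subgroupOfEquivOfLe hCC)) h1)
  refine ⟨fun X hX hSX => ?_, hloc⟩
  -- centralisers of involutions are self centralising on their radicals
  have hgood : ∀ t : G, orderOf t = 2 → Subgroup.centralizer
      (pCore 2 (Subgroup.centralizer ({t} : Set G)) : Set (Subgroup.centralizer ({t} : Set G))) ≤ pCore 2 _ := by
    intro t ht
    rcases h with h | h
    · have hT : IsPGroup 2 (Subgroup.zpowers t) := IsPGroup.of_card (n := 1) (by rw [Nat.card_zpowers, ht, pow_one])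
      have hT1 : Subgroup.zpowers t ≠ ⊥ := fun e => by
        rw [Subgroup.zpowers_eq_bot.mp e, orderOf_one] at ht; norm_num at ht
      obtain ⟨M, ⟨hM, hNM⟩, hmax⟩ := Set.exists_max_image
        {M : Subgroup G | IsTwoLocal M ∧ Subgroup.normalizer ((Subgroup.zpowers t : Subgroup G) : Set G) ≤ M}
        (fun M => Nat.card M) (Set.toFinite _) ⟨_, ⟨_, hT, hT1, rfl⟩, le_rfl⟩
      obtain ⟨hMc, hMO⟩ := h M ⟨hM, fun N hN hle =>
        (Subgroup.eq_of_le_of_card_ge hle (hmax N ⟨hN, hNM.trans hle⟩)).symm⟩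
      have h2 := local_of_le hMc hT hNM
      exact normalizer_zpowers_of_two ht ▸ CfsgLib.RadicalQuotient.centralizer_le h2.1 (h2.2 hMO)
    · exact CfsgLib.RadicalQuotient.centralizer_le (h t ht).1 (h t ht).2
  -- a normal four subgroup of the Sylow subgroup
  obtain ⟨hAS, hSA, hAc⟩ := hA
  have hAab : ∀ a ∈ A, ∀ b ∈ A, a * b = b * a := fun a ha b hb => by
    have := (hAc.symm ▸ ha : a ∈ (S : Subgroup G) ⊓ Subgroup.centralizer (A : Set G)).2
    exact (this b hb).symm
  let E : Subgroup G :=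
    { carrier := {a | a ∈ A ∧ a * a = 1}
      one_mem' := ⟨one_mem A, one_mul 1⟩
      mul_mem' := fun {a b} ha hb => ⟨mul_mem ha.1 hb.1, by
        rw [mul_assoc a b, ← mul_assoc b a, hAab b hb.1 a ha.1, mul_assoc a b, hb.2, mul_one, ha.2]⟩
      inv_mem' := fun {a} ha => ⟨inv_mem ha.1, by rw [← mul_inv_rev, ha.2, inv_one]⟩ }
  have hEcard : 2 < Nat.card E := by
    by_contra hle
    refine hA3 fun B hB hB2 => ?_
    have h1 : B.map A.subtype ≤ E := by
      rintro _ ⟨b, hb, rfl⟩
      exact ⟨b.2, by rw [← pow_two]; exact congrArg Subtype.val (hB2 b hb)⟩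
    have := Subgroup.card_le_of_le h1
    rw [Subgroup.card_map_of_injective A.subtype_injective] at this
    omega
  have hEn : ∀ s ∈ (S : Subgroup G), ∀ a ∈ E, s * a * s⁻¹ ∈ E := fun s hs a ha =>
    ⟨(Subgroup.mem_normalizer_iff.mp (hSA hs) a).mp ha.1, by
      rw [show s * a * s⁻¹ * (s * a * s⁻¹) = s * (a * a) * s⁻¹ by group, ha.2, mul_one, mul_inv_cancel]⟩
  set ES := E.subgroupOf (S : Subgroup G) with hES
  haveI : ES.Normal := ⟨fun a ha s => hEn s s.2 a ha⟩
  have hEcard' : Nat.card ES = Nat.card E :=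
    Nat.card_congr (Subgroup.subgroupOfEquivOfLe (show E ≤ (S : Subgroup G) from fun a ha => hAS ha.1)).toEquiv
  have hES1 : ES ≠ ⊥ := fun e => by rw [e, Subgroup.card_bot] at hEcard'; omega
  obtain ⟨zS, hzS, hzne⟩ := exists_ne_one_mem_center_of_normal S.isPGroup' ES hES1
  set Z := Subgroup.zpowers zS with hZ
  have hzc : ∀ s : (S : Subgroup G), s * zS = zS * s := fun s => Subgroup.mem_center_iff.mp hzS.2 s
  haveI : Z.Normal := ⟨fun a ha s => by
    obtain ⟨i, rfl⟩ := Subgroup.mem_zpowers_iff.mp ha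
    rw [((show Commute s zS from hzc s).zpow_right i).eq, mul_inv_cancel_right]
    exact ha⟩
  have hzo : orderOf zS = 2 := orderOf_eq_prime (Subtype.ext (by rw [pow_two]; exact hzS.1.2)) hzne
  have hEZ : ES.map (QuotientGroup.mk' Z) ≠ ⊥ := fun e => by
    rw [Subgroup.map_eq_bot_iff, QuotientGroup.ker_mk'] at e
    have := Subgroup.card_le_of_le e
    rw [hZ, Nat.card_zpowers, hzo] at this
    omega
  haveI : (ES.map (QuotientGroup.mk' Z)).Normal := Subgroup.Normal.map inferInstance _ (QuotientGroup.mk'_surjective Z)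
  obtain ⟨_, ⟨⟨uS, huS, rfl⟩, hcen⟩, hune⟩ :=
    exists_ne_one_mem_center_of_normal (S.isPGroup'.to_quotient Z) (ES.map (QuotientGroup.mk' Z)) hEZ
  have huZ : uS ∉ Z := fun h => hune ((QuotientGroup.eq_one_iff uS).mpr h)
  set z : G := (zS : G) with hz
  set u : G := (uS : G) with hu
  have hZmem : ∀ w, w ∈ Z ↔ w = 1 ∨ w = zS := fun w => by
    rw [hZ, mem_zpowers_iff_mem_range_orderOf, hzo]
    simp [Finset.range_add_one, or_comm, eq_comm]
  have hzu : z * u = u * z := (congrArg Subtype.val (hzc uS)).symm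
  have hcomm : ∀ s ∈ (S : Subgroup G), s * u * s⁻¹ = u ∨ s * u * s⁻¹ = u * z := by
    intro s hs
    have h1 := QuotientGroup.eq.mp (Subgroup.mem_center_iff.mp hcen (QuotientGroup.mk' Z ⟨s, hs⟩)).symm
    rcases (hZmem _).mp h1 with e | e
    · left
      have e' : (u * s)⁻¹ * (s * u) = 1 := congrArg Subtype.val e
      rw [inv_mul_eq_one] at e'
      rw [← e', mul_inv_cancel_right]
    · right
      have e' : (u * s)⁻¹ * (s * u) = z := congrArg Subtype.val e
      rw [inv_mul_eq_iff_eq_mul] at e'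
      rw [e', mul_assoc u s, show s * z = z * s from congrArg Subtype.val (hzc ⟨s, hs⟩)]
      group
  -- the three involutions have no fixed point
  have hfix : ∀ t : G, orderOf t = 2 → (∀ s ∈ (S : Subgroup G), s * t * s⁻¹ = t ∨ s * t * s⁻¹ = t * z) →
      ∀ y ∈ X, y * t = t * y → y = 1 := by
    intro t ht hst y hy hyt
    refine fixed_trivial S hX hSX rfl (hgood t ht) ?_ y hy (Subgroup.mem_centralizer_singleton_iff.mpr hyt)
    set S0 := (S : Subgroup G) ⊓ Subgroup.centralizer ({t} : Set G)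
    by_cases hall : (S : Subgroup G) ≤ S0
    · have := Subgroup.card_le_of_le hall
      omega
    obtain ⟨s₁, hs₁, hs₁'⟩ := SetLike.not_le_iff_exists.mp hall
    have hs₁t : s₁ * t * s₁⁻¹ = t * z := (hst s₁ hs₁).resolve_left fun e =>
      hs₁' ⟨hs₁, Subgroup.mem_centralizer_singleton_iff.mpr (mul_inv_eq_iff_eq_mul.mp e)⟩
    haveI : Fintype (S : Subgroup G) := Fintype.ofFinite _
    haveI : Fintype S0 := Fintype.ofFinite _
    rw [Nat.card_eq_fintype_card, Nat.card_eq_fintype_card]
    refine le_trans ?_ (le_of_eq (show Fintype.card (Bool × S0) = 2 * Fintype.card S0 by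
      rw [Fintype.card_prod, Fintype.card_bool]))
    refine Fintype.card_le_of_injective (fun s : (S : Subgroup G) =>
      if hs : (s : G) ∈ S0 then (true, (⟨s, hs⟩ : S0)) else (false, (⟨s₁⁻¹ * s, (S : Subgroup G).mul_mem ((S : Subgroup G).inv_mem hs₁) s.2, by
        have hst' : (s : G) * t * (s : G)⁻¹ = t * z := (hst s s.2).resolve_left fun e =>
          hs ⟨s.2, Subgroup.mem_centralizer_singleton_iff.mpr (mul_inv_eq_iff_eq_mul.mp e)⟩
        refine Subgroup.mem_centralizer_singleton_iff.mpr (mul_inv_eq_iff_eq_mul.mp ?_)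
        rw [show s₁⁻¹ * (s : G) * t * (s₁⁻¹ * (s : G))⁻¹ = s₁⁻¹ * ((s : G) * t * (s : G)⁻¹) * s₁ by group, hst',
          ← hs₁t]
        group⟩ : S0))) fun a b e => ?_
    dsimp only at e
    by_cases ha : (a : G) ∈ S0 <;> by_cases hb : (b : G) ∈ S0 <;> simp [ha, hb] at e
    · exact e
    · exact Subtype.ext (mul_left_cancel (congrArg Subtype.val e :))
  have hzo' : orderOf z = 2 := by rw [hz, Subgroup.orderOf_coe, hzo]
  have huu : u * u = 1 := huS.2
  have hu1 : u ≠ 1 := fun e => huZ ((hZmem uS).mpr (Or.inl (Subtype.ext e)))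
  have huz : u ≠ z := fun e => huZ ((hZmem uS).mpr (Or.inr (Subtype.ext e)))
  have hzz : z * z = 1 := by rw [← pow_two, ← hzo', pow_orderOf_eq_one]
  have hfu := hfix u (orderOf_eq_prime (by rw [pow_two, huu]) hu1) hcomm
  have hfuz := hfix (u * z) (orderOf_eq_prime (by rw [pow_two, mul_assoc, ← mul_assoc z u, hzu, mul_assoc u z z, hzz, mul_one, huu])
    fun e => huz (by rw [eq_inv_of_mul_eq_one_left e, inv_eq_of_mul_eq_one_right hzz])) fun s hs => by
      have hsz : s * z = z * s := congrArg Subtype.val (hzc ⟨s, hs⟩)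
      rw [show s * (u * z) * s⁻¹ = (s * u * s⁻¹) * (s * z * s⁻¹) by group, hsz, mul_inv_cancel_right]
      exact (hcomm s hs).imp (fun e => by rw [e]) fun e => by rw [e]
  have hfz := hfix z hzo' fun s hs => Or.inl (by
    rw [show s * z = z * s from congrArg Subtype.val (hzc ⟨s, hs⟩), mul_inv_cancel_right])
  -- each inverts
  have hinv : ∀ t ∈ (S : Subgroup G), t * t = 1 → (∀ y ∈ X, y * t = t * y → y = 1) → ∀ y ∈ X, t * y * t⁻¹ = y⁻¹ := by
    intro t ht htt hf y hy
    have htn := hSX ht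
    let f : X → X := fun x => ⟨(x : G)⁻¹ * (t * x * t⁻¹),
      mul_mem (inv_mem x.2) ((Subgroup.mem_normalizer_iff.mp htn x).mp x.2)⟩
    have hf1 : Function.Injective f := by
      intro a b e
      have e' : (a : G)⁻¹ * (t * a * t⁻¹) = (b : G)⁻¹ * (t * b * t⁻¹) := congrArg Subtype.val e
      refine Subtype.ext (mul_inv_eq_one.mp (hf _ (mul_mem a.2 (inv_mem b.2)) ?_))
      calc (a : G) * (b : G)⁻¹ * t = (a : G) * ((b : G)⁻¹ * (t * b * t⁻¹)) * t * (b : G)⁻¹ := by group
        _ = t * ((a : G) * (b : G)⁻¹) := by rw [← e']; group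
    obtain ⟨x, hx⟩ := (Finite.injective_iff_surjective.mp hf1) ⟨y, hy⟩
    have hx' : (x : G)⁻¹ * (t * x * t⁻¹) = y := congrArg Subtype.val hx
    have ht' : t⁻¹ = t := inv_eq_of_mul_eq_one_right htt
    rw [← hx', mul_inv_rev, inv_inv, show t * ((x : G)⁻¹ * (t * x * t⁻¹)) * t⁻¹ =
      (t * (x : G)⁻¹ * t) * (x : G) * (t⁻¹ * t⁻¹) by group, mul_inv_rev, mul_inv_rev, inv_inv, ht']
    rw [show t * t = 1 from htt]
    group
  refine eq_bot_iff.mpr fun y hy => ?_
  rw [Subgroup.mem_bot]
  refine hfuz y hy ?_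
  have h1 := hinv u uS.2 huu hfu y hy
  have h2 := hinv z zS.2 hzz hfz y hy
  have : u * (z * y * z⁻¹) * u⁻¹ = y := by
    rw [h2, show u * y⁻¹ * u⁻¹ = (u * y * u⁻¹)⁻¹ by group, h1, inv_inv]
  calc y * (u * z) = u * (z * y * z⁻¹) * u⁻¹ * (u * z) := by rw [this]
    _ = u * z * y := by group

end Cfsg.Agent.S3246
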