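import Cfsg.Statements.S3257
import Cfsg.Agent.S0205
import Cfsg.Agent.Lib.AfterFT.PairGen.Main

set_option autoImplicit false
open Cfsg

namespace Cfsg.Agent.S3257

/-- Let p be an odd prime and G a finite non-abelian group generated by a G-invariant set D of subgroups of order p such that any two distinct members of D generate a subgroup isomorphic to one fixed group of odd order. Then G/Z(G) is a Frobenius group of odd order. -/
theorem result {G : Type*} [Group G] [Finite G] (hG : ¬ IsMulCommutative G)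
    (p : ℕ) (hp : p.Prime) (hp2 : p ≠ 2) (D : Set (Subgroup G)) (hDp : ∀ A ∈ D, Nat.card ↥A = p)
    (hDinv : ∀ A ∈ D, ∀ g : G, A.map (MulAut.conj g).toMonoidHom ∈ D) (hDgen : sSup D = ⊤)
    {F : Type*} [Group F] [Finite F] (hF : Odd (Nat.card F)) (hpair : ∀ A ∈ D, ∀ B ∈ D, A ≠ B → Nonempty (↥(A ⊔ B) ≃* F)) :
    Odd (Nat.card (G ⧸ Subgroup.center G)) ∧ ∃ H : Subgroup (G ⧸ Subgroup.center G), Cfsg.IsFrobeniusComplement H := by
  exact CfsgLib.AfterFT.PairGen.pairwise_generating (fun _ _ _ h => Cfsg.Agent.S0205.result h) hG p hp hp2 D hDp hDinv hDgen hF hpair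

end Cfsg.Agent.S3257
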