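import Cfsg.Statements.S3260
import Cfsg.Agent.Lib.QuadFixed.ZJ
import Cfsg.Agent.Lib.Transitivity

set_option autoImplicit false
open Cfsg Subgroup

namespace Cfsg.Agent.S3260

/-- Let p ≥ 5 be a prime, G a finite p-constrained group with Sylow p-subgroup S, and A a group of automorphisms of G of order coprime to |G| whose fixed-point subgroup has no section isomorphic to PSL₂(p). Then G = O_{p'}(G) · N_G(Z(J(S))), where J(S) is the subgroup generated by the abelian subgroups of S of largest order. -/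
theorem result {G : Type*} [Group G] [Finite G] (p : ℕ) [hp : Fact p.Prime] (hp5 : 5 ≤ p)
    (hG : Cfsg.IsPConstrained p G) (S : Sylow p G) (A : Subgroup (MulAut G)) (hA : (Nat.card ↥A).Coprime (Nat.card G))
    (C : Subgroup G) (hC : ∀ g : G, g ∈ C ↔ ∀ a ∈ A, a g = g)
    {F : Type*} [Field F] [Fintype F] (hF : Fintype.card F = p)
    (hfix : ¬ Cfsg.Involves (Matrix.ProjectiveSpecialLinearGroup (Fin 2) F) ↥C) :
    Cfsg.pPrimeCore p G ⊔ Subgroup.normalizer (Cfsg.centerThompsonAOf (S : Subgroup G) : Set G) = ⊤ := by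
  classical
  by_cases hpd : p ∣ Nat.card G
  swap
  · have hS : (S : Subgroup G) = ⊥ := by
      rw [← Subgroup.card_eq_one]
      obtain ⟨k, hk⟩ := IsPGroup.iff_card.mp S.2
      rcases k with _ | k
      · simpa using hk
      · exact absurd ((dvd_pow_self p k.succ_ne_zero).trans (hk ▸ card_subgroup_dvd_card _)) hpd
    have hZ : Cfsg.centerThompsonAOf (S : Subgroup G) = ⊥ := by
      rw [← CfsgLib.ZJ.zj_zero, eq_bot_iff, ← hS]
      exact CfsgLib.ZJ.zj_le 0 _
    refine top_le_iff.mp (le_trans (fun g _ => ?_) le_sup_right)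
    rw [hZ, mem_normalizer_iff]
    intro x
    simp
  let φ : A →* MulAut G := A.subtype
  haveI : Finite A := Finite.of_injective (fun a => ((a : MulAut G) : G → G)) (fun a b h => Subtype.ext (MulEquiv.ext (congrFun h)))
  haveI : Finite (G ⋊[φ] A) := Finite.of_equiv _ SemidirectProduct.equivProd.symm
  set Y := G ⋊[φ] A
  let ι : G →* Y := SemidirectProduct.inl
  have hι : Function.Injective ι := SemidirectProduct.inl_injective
  set H : Subgroup Y := ι.range with hH
  haveI hHn : H.Normal := by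
    rw [hH, SemidirectProduct.range_inl_eq_ker_rightHom]; infer_instance
  set B : Subgroup Y := (SemidirectProduct.inr : A →* Y).range with hB
  have hcardH : Nat.card H = Nat.card G := (Nat.card_congr (MonoidHom.ofInjective hι).toEquiv).symm
  have hcardB : Nat.card B = Nat.card A :=
    (Nat.card_congr (MonoidHom.ofInjective SemidirectProduct.inr_injective).toEquiv).symm
  have hcop : (Nat.card B).Coprime (Nat.card H) := by rw [hcardH, hcardB]; exact hA
  have hpA : (Nat.card A).Coprime p := hA.coprime_dvd_right hpd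
  have hfree : CfsgLib.QuadFixed.FixedFree p H B := by
    intro K f hK hf
    have hmem : ∀ g : G, ι g ∈ K → g ∈ C := fun g hg => (hC g).mpr fun a ha => hι (by
      have h1 := (hK hg).2 (SemidirectProduct.inr (⟨a, ha⟩ : A)) ⟨_, rfl⟩
      have h2 : ι (φ ⟨a, ha⟩ g) = SemidirectProduct.inr (⟨a, ha⟩ : A) * ι g * SemidirectProduct.inr (⟨a, ha⟩ : A)⁻¹ :=
        SemidirectProduct.inl_aut _ _
      rw [h1, map_inv, mul_inv_cancel_right] at h2
      exact h2)
    let r : (K.comap ι).subgroupOf C →* K :=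
      (ι.comp (C.subtype.comp ((K.comap ι).subgroupOf C).subtype)).codRestrict K fun x => x.2
    refine hfix (CfsgLib.QuadFixed.involves_psl _ (f.comp r) (hf.comp fun k => ?_) hF)
    obtain ⟨g, hg⟩ := (hK k.2).1
    exact ⟨⟨⟨g, hmem g (hg ▸ k.2)⟩, show ι g ∈ K from hg ▸ k.2⟩, Subtype.ext hg⟩
  haveI : (pPrimeCore p G).Characteristic := CfsgLib.pPrimeCore_characteristic p
  set M : Subgroup Y := (pPrimeCore p G).map ι with hM
  haveI hMn : M.Normal := by
    refine ⟨fun m hm y => ?_⟩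
    obtain ⟨n, hn, rfl⟩ := hm
    obtain ⟨g, a⟩ := y
    refine ⟨g * φ a n * g⁻¹, ?_, ?_⟩
    · refine Subgroup.Normal.conj_mem inferInstance _ ?_ g
      rw [SetLike.mem_coe] at hn
      rwa [← Subgroup.characteristic_iff_comap_eq.mp (CfsgLib.pPrimeCore_characteristic (G := G) p) (φ a), mem_comap] at hn
    · rw [show (⟨g, a⟩ : Y) = ι g * SemidirectProduct.inr a from (SemidirectProduct.inl_left_mul_inr_right (⟨g, a⟩ : Y)).symm,
        map_mul, map_mul, map_inv, show ι (φ a n) = _ from SemidirectProduct.inl_aut a n, mul_inv_rev, map_inv]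
      simp only [mul_assoc]
      rfl
  have hMH : M ≤ H := by rintro _ ⟨n, -, rfl⟩; exact ⟨n, rfl⟩
  set π := QuotientGroup.mk' M with hπ
  have hπs : Function.Surjective π := QuotientGroup.mk'_surjective M
  haveI : (H.map π).Normal := hHn.map π hπs
  have hpG : ∀ g : Y ⧸ M, (∃ k, g ^ p ^ k = 1) → g ∈ H.map π := by
    intro g hg
    obtain ⟨k, hk⟩ := hg
    obtain ⟨y, rfl⟩ := hπs g
    refine ⟨y, ?_, rfl⟩
    rw [SetLike.mem_coe, hH, SemidirectProduct.range_inl_eq_ker_rightHom, MonoidHom.mem_ker]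
    have h1 : y ^ p ^ k ∈ H := hMH ((QuotientGroup.eq_one_iff _).mp (by rwa [← map_pow] at hk))
    rw [hH, SemidirectProduct.range_inl_eq_ker_rightHom, MonoidHom.mem_ker, map_pow] at h1
    exact orderOf_eq_one_iff.mp (Nat.eq_one_of_dvd_coprimes (hpA.pow_right k) (orderOf_dvd_natCard _)
      (orderOf_dvd_of_pow_eq_one h1))
  -- the quotient of `G`
  let j : G ⧸ pPrimeCore p G →* Y ⧸ M := QuotientGroup.map _ M ι (fun n hn => mem_map_of_mem ι hn)
  have hj : ∀ g : G, j g = π (ι g) := fun g => rfl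
  have hji : Function.Injective j := by
    rw [injective_iff_map_eq_one]
    intro q hq
    obtain ⟨g, rfl⟩ := QuotientGroup.mk_surjective q
    obtain ⟨n, hn, e⟩ := (QuotientGroup.eq_one_iff _).mp hq
    rw [QuotientGroup.eq_one_iff, ← hι e]
    exact hn
  have hjr : j.range = H.map π := by
    ext x
    constructor
    · rintro ⟨q, rfl⟩
      obtain ⟨g, rfl⟩ := QuotientGroup.mk_surjective q
      exact ⟨ι g, ⟨g, rfl⟩, rfl⟩
    · rintro ⟨_, ⟨g, rfl⟩, rfl⟩
      exact ⟨g, rfl⟩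
  set O := pCore p (Y ⧸ M) with hO
  have hOH : O ≤ H.map π := fun x hx => hpG x (CfsgLib.ZJ.exists_pow_eq_one_of_mem (CfsgLib.isPGroup_pCore p) hx)
  have hOj : (pCore p (G ⧸ pPrimeCore p G)).map j ≤ O := by
    haveI : ((pCore p (G ⧸ pPrimeCore p G)).map j).Normal := by
      refine ⟨fun x hx y => ?_⟩
      obtain ⟨q, hq, rfl⟩ := hx
      obtain ⟨y, rfl⟩ := hπs y
      obtain ⟨g, a⟩ := y
      obtain ⟨n, rfl⟩ := QuotientGroup.mk_surjective q
      let ψ := QuotientGroup.congr (pPrimeCore p G) (pPrimeCore p G) ((φ a).trans (MulAut.conj g))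
        (Subgroup.characteristic_iff_map_eq.mp inferInstance _)
      refine ⟨ψ n, ?_, ?_⟩
      · rw [SetLike.mem_coe, ← CfsgLib.pCore_map_equiv p ψ]
        exact mem_map_of_mem _ hq
      · show π (ι (g * φ a n * g⁻¹)) = π _ * π (ι n) * (π _)⁻¹
        rw [show (⟨g, a⟩ : Y) = ι g * SemidirectProduct.inr a from (SemidirectProduct.inl_left_mul_inr_right (⟨g, a⟩ : Y)).symm]
        have e1 : ι (φ a n) = SemidirectProduct.inr a * ι n * (SemidirectProduct.inr a)⁻¹ := by
          rw [← map_inv]; exact SemidirectProduct.inl_aut a n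
        simp only [map_mul, map_inv, e1, mul_inv_rev, mul_assoc]
        rfl
    exact CfsgLib.le_pCore ((CfsgLib.isPGroup_pCore p).map j)
  have hc : H.map π ⊓ centralizer (O : Set (Y ⧸ M)) ≤ O := by
    rintro x ⟨hx, hxc⟩
    rw [← hjr] at hx
    obtain ⟨q, rfl⟩ := hx
    refine hOj (mem_map_of_mem j (CfsgLib.Transitivity.centralizer_pCore_quotient_le hG ?_))
    intro z hz
    exact hji (by rw [map_mul, map_mul]; exact hxc _ (hOj (mem_map_of_mem j hz)))
  -- the Sylow subgroup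
  have hinj : Set.InjOn π (((S : Subgroup G).map ι : Subgroup Y) : Set Y) := by
    rintro _ ⟨a, ha, rfl⟩ _ ⟨b, hb, rfl⟩ h
    obtain ⟨n, hn, e⟩ : (ι a)⁻¹ * ι b ∈ M := QuotientGroup.eq.mp h
    obtain ⟨k, hk⟩ := S.2 ⟨a⁻¹ * b, mul_mem (inv_mem ha) hb⟩
    have e' : n = a⁻¹ * b := hι (by rw [e, map_mul, map_inv])
    have h1 : a⁻¹ * b = 1 := orderOf_eq_one_iff.mp (Nat.eq_one_of_dvd_coprimes
      ((CfsgLib.card_pPrimeCore_coprime (G := G) p).pow_right k) (e' ▸ orderOf_dvd_natCard _ hn)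
      (orderOf_dvd_of_pow_eq_one (congrArg Subtype.val hk)))
    rw [inv_mul_eq_one.mp h1]
  set S₁ := ((S : Subgroup G).map ι).map π with hS₁
  obtain ⟨T, hT⟩ := (((S.2).map ι).map π : IsPGroup p S₁).exists_le_sylow
  have hTS : (T : Subgroup (Y ⧸ M)) = S₁ := by
    refine le_antisymm ?_ hT
    intro t ht
    have htH := hpG t (CfsgLib.ZJ.exists_pow_eq_one_of_mem T.2 ht)
    rw [← hjr] at htH
    obtain ⟨q, rfl⟩ := htH
    set Sq : Sylow p (G ⧸ pPrimeCore p G) := S.mapSurjective (QuotientGroup.mk'_surjective (pPrimeCore p G))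
    have hle : (Sq : Subgroup (G ⧸ pPrimeCore p G)) ≤ (T : Subgroup (Y ⧸ M)).comap j := by
      rintro _ ⟨s, hs, rfl⟩
      exact hT ⟨ι s, mem_map_of_mem ι hs, rfl⟩
    have he := Sq.3 (T.2.comap_of_injective j hji) hle
    obtain ⟨s, hs, rfl⟩ : q ∈ (Sq : Subgroup (G ⧸ pPrimeCore p G)) := he ▸ ht
    exact ⟨ι s, mem_map_of_mem ι hs, rfl⟩
  have hn := CfsgLib.QuadFixed.zj_normal_fixed (X := Y ⧸ M) hp5 (Or.inl rfl) (H.map π) (B.map π)
    ((hcop.coprime_dvd_left (card_map_dvd _ π)).coprime_dvd_right (card_map_dvd _ π)) hpG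
    (CfsgLib.QuadFixed.fixedFree_quotient H B M hMH hcop hfree) hc T
  rw [hTS, hS₁, CfsgLib.ZJ.zj_map_of_injOn 0 π _ hinj, CfsgLib.ZJ.zj_map 0 hι, CfsgLib.ZJ.zj_zero] at hn
  set Z := Cfsg.centerThompsonAOf (S : Subgroup G) with hZdef
  have hZp : IsPGroup p Z := S.2.to_le (by
    rw [hZdef, ← CfsgLib.ZJ.zj_zero]; exact CfsgLib.ZJ.zj_le 0 _)
  refine CfsgLib.QuadFixed.sup_normalizer_eq_top_of_coprime (CfsgLib.card_pPrimeCore_coprime p) hZp ?_
  have hcm := (hn.comap π).comap ι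
  rw [comap_map_eq, QuotientGroup.ker_mk', hM, ← Subgroup.map_sup, comap_map_eq_self_of_injective hι] at hcm
  rwa [sup_comm] at hcm

end Cfsg.Agent.S3260
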