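import Cfsg.Statements.S3261
import Mathlib
import Cfsg.Agent.Lib.SmallSimple.Order360
import Cfsg.Agent.S0848
import Cfsg.Agent.S0495

set_option autoImplicit false
open Cfsg

namespace Cfsg.Agent.S3261

open CfsgLib.Order360

theorem d8_inv_gen : ∀ d : DihedralGroup 4, ∃ a b : DihedralGroup 4, a * a = 1 ∧ b * b = 1 ∧ d = a * b := by decide +kernel

theorem d8_four : ∃ a : DihedralGroup 4, a * a = 1 ∧ a ≠ 1 ∧ a ≠ DihedralGroup.r 2 := ⟨DihedralGroup.sr 0, by decide +kernel⟩

theorem index_two_of_even {A : Type*} [CommGroup A] [Finite A] (hd : 2 ∣ Nat.card A) :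
    ∃ H : Subgroup A, H.index = 2 := by
  haveI : Fact (Nat.Prime 2) := ⟨Nat.prime_two⟩
  obtain ⟨k, m, hm, hA⟩ := Nat.exists_eq_pow_mul_and_not_dvd (Nat.card_pos (α := A)).ne' 2 (by norm_num)
  let v : A →* A := powMonoidHom m
  obtain ⟨a, ha⟩ := exists_prime_orderOf_dvd_card' 2 hd
  have hva : v a ≠ 1 := fun e => hm (ha ▸ orderOf_dvd_of_pow_eq_one e)
  obtain ⟨n, hn⟩ := IsPGroup.iff_card.mp (show IsPGroup 2 v.range from fun x => ⟨k, by
    obtain ⟨b, hb⟩ := x.2
    refine Subtype.ext ?_
    rw [Subgroup.coe_pow, ← hb, Subgroup.coe_one]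
    change (b ^ m) ^ 2 ^ k = 1
    rw [← pow_mul, mul_comm, ← hA, pow_card_eq_one']⟩)
  have hn0 : n ≠ 0 := fun e => hva (by
    rw [e, pow_zero, Subgroup.card_eq_one] at hn
    exact Subgroup.mem_bot.mp (hn ▸ ⟨a, rfl⟩))
  obtain ⟨K, hK⟩ := Sylow.exists_subgroup_card_pow_prime (G := v.range) 2 (n := n - 1)
    (by rw [hn]; exact pow_dvd_pow 2 (Nat.sub_le n 1))
  refine ⟨K.comap v.rangeRestrict, ?_⟩
  rw [Subgroup.index_comap_of_surjective _ v.rangeRestrict_surjective]
  have h2 := K.card_mul_index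
  rw [hK, hn, show 2 ^ n = 2 ^ (n - 1) * 2 by rw [← pow_succ, Nat.sub_add_cancel (Nat.one_le_iff_ne_zero.mpr hn0)]]
    at h2
  exact mul_left_cancel₀ (pow_ne_zero _ two_ne_zero) h2

theorem inverts_odd {G : Type*} [Group G] [Finite G] (M : Subgroup G) (hM : M.Normal) {t : G} (ht : t * t = 1)
    (hC : ∀ m ∈ M, t * m = m * t → m = 1) : ∀ m ∈ M, t * m * t = m⁻¹ := by
  have hti : t⁻¹ = t := inv_eq_of_mul_eq_one_right ht
  have hmem : ∀ m ∈ M, m⁻¹ * (t * m * t⁻¹) ∈ M := fun m hm => mul_mem (inv_mem hm) (hM.conj_mem m hm t)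
  let f : M → M := fun m => ⟨(m : G)⁻¹ * (t * m * t⁻¹), hmem m m.2⟩
  have hf : Function.Injective f := by
    intro a b e
    have e' : (a : G)⁻¹ * (t * a * t⁻¹) = (b : G)⁻¹ * (t * b * t⁻¹) := congrArg Subtype.val e
    refine Subtype.ext (mul_inv_eq_one.mp (hC _ (mul_mem b.2 (inv_mem a.2)) ?_)).symm
    calc t * ((b : G) * (a : G)⁻¹) = (t * b * t⁻¹) * (t * a * t⁻¹)⁻¹ * t := by group
      _ = (b : G) * ((b : G)⁻¹ * (t * b * t⁻¹)) * ((a : G)⁻¹ * (t * a * t⁻¹))⁻¹ * (a : G)⁻¹ * t := by group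
      _ = (b : G) * (a : G)⁻¹ * t := by rw [e']; group
  intro m hm
  obtain ⟨⟨n, hn⟩, e⟩ := Finite.injective_iff_surjective.mp hf ⟨m, hm⟩
  have e' : n⁻¹ * (t * n * t⁻¹) = m := congrArg Subtype.val e
  rw [← e', hti]
  calc t * (n⁻¹ * (t * n * t)) * t = t * n⁻¹ * t * n * (t * t) := by group
    _ = (n⁻¹ * (t⁻¹ * n * t⁻¹))⁻¹ := by rw [ht]; group
    _ = _ := by rw [hti]

/-- Let α̃ be an involution of the alternating group A₆ that is a product of two disjoint transpositions (it lies in the centre of a Sylow 2-subgroup of A₆; its centralizer is dihedral of order 8). Let G be a finite group that has no subgroup of index 2 and contains an involution α, central in some Sylow 2-subgroup of G, with C_G(α) ≅ C_{A₆}(α̃). Then G is isomorphic to A₆ or to PSL₂(7). -/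
theorem result {G : Type*} [Group G] [Finite G]
    (hG : ∀ H : Subgroup G, H.index ≠ 2)
    (αt : ↥(alternatingGroup (Fin 6))) (hαt : orderOf αt = 2) (hsupp : (αt : Equiv.Perm (Fin 6)).support.card = 4)
    (α : G) (hα : orderOf α = 2) (S : Sylow 2 G) (hαS : α ∈ (S : Subgroup G)) (hαc : ∀ s ∈ (S : Subgroup G), s * α = α * s)
    (e : ↥(Subgroup.centralizer ({α} : Set G)) ≃* ↥(Subgroup.centralizer ({αt} : Set ↥(alternatingGroup (Fin 6))))) :
    Nonempty (G ≃* ↥(alternatingGroup (Fin 6))) ∨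
      (∃ (F : Type) (_ : Field F) (_ : Fintype F), Fintype.card F = 7 ∧ Nonempty (G ≃* Matrix.ProjectiveSpecialLinearGroup (Fin 2) F)) := by
  classical
  haveI := Fact.mk Nat.prime_two
  haveI : IsSimpleGroup (alternatingGroup (Fin 6)) := alternatingGroup.isSimpleGroup (by simp)
  have hA6 : Nat.card (alternatingGroup (Fin 6)) = 360 := by rw [nat_card_alternatingGroup, Nat.card_fin]; rfl
  obtain ⟨φA⟩ := centralizer_dihedral hA6 hαt
  let φ := e.trans φA
  set C := Subgroup.centralizer ({α} : Set G) with hCdef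
  have hC8 : Nat.card C = 8 := by rw [Nat.card_congr φ.toEquiv, Nat.card_eq_fintype_card]; rfl
  have hCS : C = (S : Subgroup G) :=
    S.3 (IsPGroup.of_card (n := 3) (by rw [hC8]; norm_num))
      (fun s hs => Subgroup.mem_centralizer_singleton_iff.mpr (hαc s hs))
  have hα1 : α ≠ 1 := fun e1 => by rw [e1, orderOf_one] at hα; omega
  let αC : C := ⟨α, Subgroup.mem_centralizer_singleton_iff.mpr rfl⟩
  have hαr : ∀ c : C, orderOf (c : G) = 2 → (∀ a : C, c * a = a * c) → φ c = DihedralGroup.r 2 := fun c hc hcc => by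
    rw [Subgroup.orderOf_coe] at hc
    refine d8_facts.1 _ (fun d => ?_) (by rw [← map_mul, ← pow_two, ← hc, pow_orderOf_eq_one, map_one]) (fun e1 => ?_)
    · rw [← φ.apply_symm_apply d, ← map_mul, ← map_mul, hcc]
    · rw [EmbeddingLike.map_eq_one_iff.mp e1, orderOf_one] at hc
      omega
  have hNS : Subgroup.normalizer ((S : Subgroup G) : Set G) ≤ (S : Subgroup G) := by
    intro g hg
    have hmem : g * α * g⁻¹ ∈ (S : Subgroup G) := (Subgroup.mem_normalizer_iff.mp hg α).mp hαS
    let c : C := ⟨g * α * g⁻¹, hCS ▸ hmem⟩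
    have hcc : ∀ a : C, c * a = a * c := fun a => Subtype.ext (by
      have ha : (a : G) ∈ (S : Subgroup G) := hCS ▸ a.2
      have := hαc _ ((Subgroup.mem_normalizer_iff.mp (inv_mem hg) a).mp ha)
      rw [inv_inv] at this
      change g * α * g⁻¹ * a = a * (g * α * g⁻¹)
      calc g * α * g⁻¹ * a = g * (α * (g⁻¹ * a * g)) * g⁻¹ := by group
        _ = g * (g⁻¹ * a * g * α) * g⁻¹ := by rw [this]
        _ = _ := by group)
    have h1 := hαr c (by
      change orderOf (MulAut.conj g α) = 2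
      rw [MulEquiv.orderOf_eq, hα]) hcc
    have h2 := hαr αC hα fun a => Subtype.ext (Subgroup.mem_centralizer_singleton_iff.mp a.2).symm
    rw [← hCS, hCdef, Subgroup.mem_centralizer_singleton_iff]
    exact mul_inv_eq_iff_eq_mul.mp (congrArg Subtype.val (φ.injective (h1.trans h2.symm)))
  have hfull : ∀ M : Subgroup G, M.Normal → (S : Subgroup G) ≤ M → M = ⊤ := fun M hM hSM => by
    haveI := hM
    have := Sylow.normalizer_sup_eq_top' S hSM
    exact (sup_eq_right.mpr (hNS.trans hSM)).symm.trans this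
  have hperf : commutator G = ⊤ := by
    refine hfull _ inferInstance fun s hs => ?_
    by_contra hs'
    have hd : 2 ∣ Nat.card (Abelianization G) := by
      have hq : (Abelianization.of s) ≠ 1 := fun e1 => hs' (Abelianization.ker_of G ▸ MonoidHom.mem_ker.mpr e1)
      obtain ⟨k, hk⟩ := S.isPGroup' ⟨s, hs⟩
      have hk' : s ^ 2 ^ k = 1 := congrArg Subtype.val hk
      obtain ⟨j, hj, e1⟩ := (Nat.dvd_prime_pow Nat.prime_two).mp
        (orderOf_dvd_of_pow_eq_one (show (Abelianization.of s) ^ 2 ^ k = 1 by rw [← map_pow, hk', map_one]))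
      rcases Nat.eq_zero_or_pos j with rfl | h0
      · exact absurd (orderOf_eq_one_iff.mp (by rw [e1, pow_zero])) hq
      · exact (dvd_pow_self 2 h0.ne').trans (e1 ▸ orderOf_dvd_natCard _)
    obtain ⟨K, hK⟩ := index_two_of_even hd
    exact hG (K.comap Abelianization.of) (by
      rw [Subgroup.index_comap_of_surjective _ (QuotientGroup.mk_surjective), hK])
  have h168 := Cfsg.Agent.S0848.result hperf α hα φ
  have hO : Cfsg.pResidual 2 G = ⊤ := by
    have hn : (Cfsg.pResidual 2 G).Normal := ⟨fun x hx g => by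
      have : (Cfsg.pResidual 2 G).map (MulAut.conj g).toMonoidHom ≤ Cfsg.pResidual 2 G := by
        rw [Cfsg.pResidual, MonoidHom.map_closure]
        refine (Subgroup.closure_le _).mpr ?_
        rintro _ ⟨y, hy, rfl⟩
        refine Subgroup.subset_closure ?_
        change Nat.Coprime (orderOf (MulAut.conj g y)) 2
        rw [MulEquiv.orderOf_eq]
        exact hy
      exact this ⟨x, hx, rfl⟩⟩
    have hp : IsPGroup 2 (G ⧸ Cfsg.pResidual 2 G) := by
      refine IsPGroup.of_card (Nat.eq_prime_pow_of_unique_prime_dvd (p := 2) (Nat.card_pos (α := G ⧸ Cfsg.pResidual 2 G)).ne' ?_)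
      · intro d hd hdd
        by_contra hd2
        haveI := Fact.mk hd
        obtain ⟨P⟩ : Nonempty (Sylow d G) := inferInstance
        have hle : (P : Subgroup G) ≤ Cfsg.pResidual 2 G := fun x hx => Subgroup.subset_closure (by
          obtain ⟨k, hk⟩ := P.isPGroup' ⟨x, hx⟩
          exact Nat.Coprime.coprime_dvd_left (orderOf_dvd_of_pow_eq_one (congrArg Subtype.val hk : x ^ d ^ k = 1))
            (Nat.Coprime.pow_left k ((Nat.coprime_primes hd Nat.prime_two).mpr hd2)))
        exact P.not_dvd_index ((Subgroup.index_eq_card (Cfsg.pResidual 2 G) ▸ hdd).trans (Subgroup.index_dvd_of_le hle))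
    by_contra hne
    haveI : Nontrivial (G ⧸ Cfsg.pResidual 2 G) := Finite.one_lt_card_iff_nontrivial.mp (by
      have h0 := Subgroup.index_ne_zero_of_finite (H := Cfsg.pResidual 2 G)
      have h1 : (Cfsg.pResidual 2 G).index ≠ 1 := fun e1 => hne (Subgroup.index_eq_one.mp e1)
      rw [← Subgroup.index_eq_card]; omega)
    haveI := hp.isNilpotent
    refine (IsSolvable.commutator_lt_top_of_nontrivial (G ⧸ Cfsg.pResidual 2 G)).ne ?_
    rw [commutator_def, ← Subgroup.map_top_of_surjective (QuotientGroup.mk' _) (QuotientGroup.mk'_surjective _),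
      ← Subgroup.map_commutator, ← commutator_def, hperf]
  let ψ : (S : Subgroup G) ≃* DihedralGroup 4 := (MulEquiv.subgroupCongr hCS.symm).trans φ
  have hconj := Cfsg.Agent.S0107.result S 2 le_rfl ⟨ψ⟩ hO
  haveI : Nontrivial G := ⟨⟨α, 1, hα1⟩⟩
  haveI : IsSimpleGroup G := ⟨fun M hM => by
    by_contra hMne
    push Not at hMne
    by_cases h2 : 2 ∣ Nat.card M
    · obtain ⟨⟨m, hm⟩, hm2⟩ := exists_prime_orderOf_dvd_card' 2 h2
      rw [Subgroup.orderOf_mk] at hm2
      refine hMne.2 (hfull M hM fun s hs => ?_)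
      obtain ⟨a, b, ha, hb, hab⟩ := d8_inv_gen (ψ ⟨s, hs⟩)
      have key : ∀ d : DihedralGroup 4, d * d = 1 → (ψ.symm d : G) ∈ M := fun d hd => by
        by_cases hd1 : d = 1
        · rw [hd1, map_one, OneMemClass.coe_one]; exact one_mem M
        obtain ⟨g, hg⟩ := hconj m (ψ.symm d) hm2 (by
          rw [Subgroup.orderOf_coe, MulEquiv.orderOf_eq]
          exact orderOf_eq_prime (by rw [pow_two]; exact hd) hd1)
        rw [← hg]
        exact hM.conj_mem m hm g
      have : s = (ψ.symm a : G) * ψ.symm b := by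
        rw [← Subgroup.coe_mul, ← map_mul, ← hab, MulEquiv.symm_apply_apply]
      rw [this]
      exact mul_mem (key a ha) (key b hb)
    · have hfree : ∀ t : G, orderOf t = 2 → ∀ m ∈ M, t * m = m * t → m = 1 := fun t ht m hm hcm => by
        obtain ⟨g, hg⟩ := hconj α t hα ht
        have hmem : g⁻¹ * m * g ∈ C := Subgroup.mem_centralizer_singleton_iff.mpr (by
          rw [← hg] at hcm
          calc g⁻¹ * m * g * α = g⁻¹ * (m * (g * α * g⁻¹)) * g := by group
            _ = g⁻¹ * (g * α * g⁻¹ * m) * g := by rw [hcm]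
            _ = α * (g⁻¹ * m * g) := by group)
        have d1 := Subgroup.orderOf_dvd_natCard C hmem
        rw [hC8, show g⁻¹ * m * g = MulAut.conj g⁻¹ m by rw [MulAut.conj_apply, inv_inv], MulEquiv.orderOf_eq] at d1
        have hc : Nat.Coprime 8 (Nat.card M) := Nat.Coprime.pow_left 3 (Nat.prime_two.coprime_iff_not_dvd.mpr h2)
        exact orderOf_eq_one_iff.mp (Nat.eq_one_of_dvd_coprimes hc d1 (Subgroup.orderOf_dvd_natCard M hm))
      obtain ⟨d, hd2, hd1, hdr⟩ := d8_four
      set t : G := ((φ.symm d : C) : G) with htdef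
      have hto : orderOf t = 2 := by
        rw [Subgroup.orderOf_coe, MulEquiv.orderOf_eq]
        exact orderOf_eq_prime (by rw [pow_two]; exact hd2) hd1
      have htα : t * α = α * t := Subgroup.mem_centralizer_singleton_iff.mp (φ.symm d).2
      have hα2 : α * α = 1 := by rw [← pow_two, ← hα, pow_orderOf_eq_one]
      have ht2 : t * t = 1 := by rw [← pow_two, ← hto, pow_orderOf_eq_one]
      have hαto : orderOf (α * t) = 2 := by
        refine orderOf_eq_prime ?_ fun e1 => hdr ?_
        · rw [pow_two]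
          calc α * t * (α * t) = α * (t * α) * t := by group
            _ = 1 := by rw [htα, ← mul_assoc α α t, hα2, one_mul, ht2]
        · have et : t = α := (eq_inv_of_mul_eq_one_right e1).trans (inv_eq_of_mul_eq_one_right hα2)
          rw [← φ.apply_symm_apply d]
          refine hαr _ (by rw [← htdef]; exact hto) fun a => Subtype.ext ?_
          change t * (a : G) = a * t
          rw [et]
          exact (Subgroup.mem_centralizer_singleton_iff.mp a.2).symm
      refine hMne.1 ((Subgroup.eq_bot_iff_forall M).mpr fun m hm => ?_)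
      have ht := inverts_odd M hM ht2 (hfree t hto)
      have i1 := ht m hm
      have i2 := inverts_odd M hM hα2 (hfree α hα) _ (inv_mem hm)
      have i3 := inverts_odd M hM (by rw [← pow_two, ← hαto, pow_orderOf_eq_one]) (hfree _ hαto) m hm
      have : α * t * m * (α * t) = m := by
        calc α * t * m * (α * t) = α * (t * m * t) * (t⁻¹ * (α * t)) := by group
          _ = α * m⁻¹ * α := by rw [i1, ← htα, inv_mul_cancel_left]
          _ = m := by rw [i2, inv_inv]
      rw [this] at i3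
      have hsq : m ^ 2 = 1 := by rw [pow_two]; nth_rw 2 [i3]; exact mul_inv_cancel m
      have hc2 : Nat.Coprime 2 (Nat.card M) := Nat.prime_two.coprime_iff_not_dvd.mpr h2
      exact orderOf_eq_one_iff.mp
        (Nat.eq_one_of_dvd_coprimes hc2 (orderOf_dvd_of_pow_eq_one hsq) (Subgroup.orderOf_dvd_natCard M hm))⟩
  rcases h168 with h | h
  · haveI : Fact (Nat.Prime 7) := ⟨by norm_num⟩
    exact Or.inr ⟨ZMod 7, inferInstance, inferInstance, ZMod.card 7, Cfsg.Agent.S0495.result h (ZMod.card 7)⟩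
  · exact Or.inl (iso_A6 h)

end Cfsg.Agent.S3261
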