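import Cfsg.Statements.S3265
import Cfsg.Agent.Lib.OddProd.Main
import Mathlib.Combinatorics.SimpleGraph.Diam
import Mathlib.GroupTheory.Perm.Cycle.Type

set_option autoImplicit false
open Cfsg

namespace Cfsg.Agent.S3265

/-- Let n ≥ 5 and let X be a conjugacy class of involutions of the symmetric group of degree n. The graph on X joining two distinct involutions whose product has odd order is connected and has diameter exactly 2. -/
theorem result (n : ℕ) (hn : 5 ≤ n) (t : Equiv.Perm (Fin n)) (ht : orderOf t = 2) :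
    (SimpleGraph.fromRel fun x y : {x : Equiv.Perm (Fin n) // IsConj t x} =>
        Odd (orderOf (x.1 * y.1))).Connected ∧
      (SimpleGraph.fromRel fun x y : {x : Equiv.Perm (Fin n) // IsConj t x} =>
        Odd (orderOf (x.1 * y.1))).diam = 2 := by
  classical
  set G := SimpleGraph.fromRel fun x y : {x : Equiv.Perm (Fin n) // IsConj t x} =>
    Odd (orderOf (x.1 * y.1)) with hG
  have tinv : ∀ x : Equiv.Perm (Fin n), IsConj t x → CfsgLib.OddProd.Inv x := by
    intro x hx v
    obtain ⟨c, rfl⟩ := isConj_iff.mp hx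
    have h2 : t * t = 1 := by rw [← sq, ← ht, pow_orderOf_eq_one]
    have : (c * t * c⁻¹) * (c * t * c⁻¹) = 1 := by
      rw [show c * t * c⁻¹ * (c * t * c⁻¹) = c * (t * t) * c⁻¹ by group, h2]; group
    exact DFunLike.congr_fun this v
  have card_conj : ∀ x : Equiv.Perm (Fin n), IsConj t x → x.support.card = t.support.card := by
    intro x hx
    obtain ⟨c, rfl⟩ := isConj_iff.mp hx
    exact Equiv.Perm.card_support_conj
  have conj_of : ∀ z : Equiv.Perm (Fin n), CfsgLib.OddProd.Inv z → z.support.card = t.support.card →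
      IsConj t z := by
    intro z hz hc
    refine Equiv.Perm.isConj_iff_cycleType_eq.mpr ?_
    haveI : Fact (Nat.Prime 2) := ⟨Nat.prime_two⟩
    have key : ∀ w : Equiv.Perm (Fin n), w ^ 2 = 1 → w.cycleType = Multiset.replicate (w.cycleType.card) 2 := by
      intro w hw
      refine Multiset.eq_replicate_card.mpr fun k hk => ?_
      have h1 := Equiv.Perm.dvd_of_mem_cycleType hk
      have h2 := Equiv.Perm.two_le_of_mem_cycleType hk
      have := Nat.le_of_dvd (by norm_num) (h1.trans (orderOf_dvd_of_pow_eq_one hw))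
      omega
    have ht2 : t ^ 2 = 1 := by rw [← ht, pow_orderOf_eq_one]
    have hz2 : z ^ 2 = 1 := by rw [sq]; exact Equiv.ext hz
    have e1 := Equiv.Perm.sum_cycleType t
    have e2 := Equiv.Perm.sum_cycleType z
    rw [key t ht2, Multiset.sum_replicate, smul_eq_mul] at e1
    rw [key z hz2, Multiset.sum_replicate, smul_eq_mul] at e2
    rw [key t ht2, key z hz2, show Multiset.card t.cycleType = Multiset.card z.cycleType by omega]
  have two : ∀ x y : {x : Equiv.Perm (Fin n) // IsConj t x}, ∃ p : G.Walk x y, p.length ≤ 2 := by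
    intro x y
    obtain ⟨z, z1, z2, z3, z4⟩ := CfsgLib.OddProd.exists_common (by simpa using hn) x.1 y.1 (tinv _ x.2)
      (tinv _ y.2) (by rw [card_conj _ x.2, card_conj _ y.2])
    let Z : {x : Equiv.Perm (Fin n) // IsConj t x} := ⟨z, conj_of z z1 (z2.trans (card_conj _ x.2))⟩
    have step : ∀ a b : {x : Equiv.Perm (Fin n) // IsConj t x}, Odd (orderOf (a.1 * b.1)) ∨
        Odd (orderOf (b.1 * a.1)) → ∃ p : G.Walk a b, p.length ≤ 1 := by
      intro a b hab
      by_cases e : a = b
      · subst e; exact ⟨SimpleGraph.Walk.nil, by simp⟩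
      · exact ⟨SimpleGraph.Walk.cons (show G.Adj a b from ⟨e, hab⟩) SimpleGraph.Walk.nil, by simp⟩
    obtain ⟨p, hp⟩ := step x Z (Or.inl z3)
    obtain ⟨q, hq⟩ := step Z y (Or.inr z4)
    exact ⟨p.append q, by rw [SimpleGraph.Walk.length_append]; omega⟩
  haveI : Nonempty {x : Equiv.Perm (Fin n) // IsConj t x} := ⟨⟨t, IsConj.refl t⟩⟩
  refine ⟨⟨fun x y => (two x y).choose.reachable⟩, ?_⟩
  obtain ⟨y, hy, hne, hcomm⟩ : ∃ y : Equiv.Perm (Fin n), IsConj t y ∧ y ≠ t ∧ Commute t y := by
    have hinv := tinv t (IsConj.refl t)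
    have h0 : t.support.Nonempty := Finset.nonempty_iff_ne_empty.mpr fun e => by
      rw [Equiv.Perm.support_eq_empty_iff] at e
      rw [e, orderOf_one] at ht
      exact absurd ht (by norm_num)
    obtain ⟨a, ha⟩ := h0
    rw [Equiv.Perm.mem_support] at ha
    set b := t a with hb
    obtain ⟨c, hca, hcb⟩ : ∃ c, c ≠ a ∧ c ≠ b := by
      obtain ⟨c, hc⟩ : (Finset.univ \ ({a, b} : Finset (Fin n))).Nonempty := Finset.card_pos.mp (by
        have := Finset.le_card_sdiff ({a, b} : Finset (Fin n)) Finset.univ
        have := Finset.card_le_two (a := a) (b := b)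
        rw [Finset.card_univ, Fintype.card_fin] at *
        omega)
      simp only [Finset.mem_sdiff, Finset.mem_univ, true_and, Finset.mem_insert, Finset.mem_singleton,
        not_or] at hc
      exact ⟨c, hc⟩
    by_cases hmove : ∃ c, c ≠ a ∧ c ≠ b ∧ t c ≠ c
    · obtain ⟨c, hca, hcb, htc⟩ := hmove
      set d := t c with hd
      have hda : d ≠ a := fun e => hcb (by rw [hb, ← e, hd, hinv])
      have hdb : d ≠ b := fun e => hca (t.injective (by rw [← hd, e]))
      have hba : t b = a := hinv a
      have hdc : t d = c := hinv c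
      refine ⟨Equiv.swap b c * t * (Equiv.swap b c)⁻¹, isConj_iff.mpr ⟨_, rfl⟩, fun e => ?_, ?_⟩
      · have := DFunLike.congr_fun e a
        simp only [Equiv.Perm.mul_apply, Equiv.swap_inv, ← hb] at this
        rw [Equiv.swap_apply_of_ne_of_ne ha.symm hca.symm, ← hb, Equiv.swap_apply_left] at this
        exact hcb this
      · have hout : ∀ v, v ≠ a → v ≠ b → v ≠ c → v ≠ d → t v ≠ a ∧ t v ≠ b ∧ t v ≠ c ∧ t v ≠ d := by
          intro v va vb vc vd
          refine ⟨fun e => vb ?_, fun e => va ?_, fun e => vd ?_, fun e => vc ?_⟩ <;> rw [← hinv v, e]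
          all_goals first | exact hb.symm | exact hba | exact hd.symm | exact hdc
        refine Equiv.ext fun v => ?_
        simp only [Equiv.Perm.mul_apply, Equiv.swap_inv]
        by_cases va : v = a
        · subst va
          simp [← hb, hdc, Equiv.swap_apply_def, hba, ha.symm, hca.symm, hda, hdb, hcb, htc, ← hd]
        by_cases vb : v = b
        · subst vb
          simp [← hb, hdc, Equiv.swap_apply_def, hba, ha.symm, hca.symm, hda, hdb, hcb, htc, ← hd, hda.symm, hdb.symm, ha, htc.symm, hcb.symm]
        by_cases vc : v = c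
        · subst vc
          simp [← hb, hdc, Equiv.swap_apply_def, hba, ha.symm, hca.symm, hda, hdb, hcb, htc, ← hd, hda.symm, hdb.symm, ha, htc.symm, hca]
        by_cases vd : v = d
        · subst vd
          simp [← hb, hdc, Equiv.swap_apply_def, hba, ha.symm, hca.symm, hda, hdb, hcb, htc, ← hd, hda.symm, hdb.symm, ha, htc.symm, hca]
        obtain ⟨o1, o2, o3, o4⟩ := hout v va vb vc vd
        obtain ⟨p1, p2, p3, p4⟩ := hout _ o1 o2 o3 o4
        simp [Equiv.swap_apply_of_ne_of_ne, vb, vc, o2, o3, p2, p3]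
    · push Not at hmove
      obtain ⟨d, hd1, hd2, hd3⟩ : ∃ d, d ≠ a ∧ d ≠ b ∧ d ≠ c := by
        obtain ⟨c', hc⟩ : (Finset.univ \ ({a, b, c} : Finset (Fin n))).Nonempty := Finset.card_pos.mp (by
          have := Finset.le_card_sdiff ({a, b, c} : Finset (Fin n)) Finset.univ
          have := Finset.card_le_three (a := a) (b := b) (c := c)
          rw [Finset.card_univ, Fintype.card_fin] at *
          omega)
        simp only [Finset.mem_sdiff, Finset.mem_univ, true_and, Finset.mem_insert, Finset.mem_singleton,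
          not_or] at hc
        exact ⟨c', hc⟩
      have hts : t = Equiv.swap a b := Equiv.ext fun v => by
        by_cases va : v = a
        · rw [va, Equiv.swap_apply_left, hb]
        by_cases vb : v = b
        · rw [vb, Equiv.swap_apply_right, hb, hinv]
        rw [Equiv.swap_apply_of_ne_of_ne va vb, hmove v va vb]
      refine ⟨Equiv.swap c d, ?_, fun e => ?_, ?_⟩
      · exact hts ▸ Equiv.Perm.isConj_swap ha.symm hd3.symm
      · have := DFunLike.congr_fun e c
        rw [Equiv.swap_apply_left, hmove c hca hcb] at this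
        exact hd3 this
      · rw [hts]
        exact (Equiv.Perm.disjoint_iff_disjoint_support.mpr (by
          rw [Equiv.Perm.support_swap ha.symm, Equiv.Perm.support_swap hd3.symm]
          simp [Finset.disjoint_left, hca.symm, hcb.symm, hd1.symm, hd2.symm])).commute
  have hnadj : ¬ G.Adj ⟨t, IsConj.refl t⟩ ⟨y, hy⟩ := by
    rintro ⟨-, h | h⟩
    all_goals
      have hto : orderOf (t * y) = 2 := by
        refine orderOf_eq_prime ?_ fun e => hne ?_
        · have h2 : t * t = 1 := Equiv.ext (tinv t (IsConj.refl t))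
          have h3 : y * y = 1 := Equiv.ext (tinv y hy)
          rw [sq, show t * y * (t * y) = t * (y * t) * y by group, ← hcomm.eq, ← mul_assoc, h2, one_mul, h3]
        · rw [← inv_eq_of_mul_eq_one_right e]
          exact inv_eq_of_mul_eq_one_right (Equiv.ext (tinv t (IsConj.refl t)))
      simp only [← hcomm.eq, hto] at h
      exact absurd h (by decide)
  have he : G.ediam = 2 := by
    apply le_antisymm
    · refine SimpleGraph.ediam_le_of_edist_le fun a b => ?_
      obtain ⟨p, hp⟩ := two a b
      exact p.edist_le.trans (by exact_mod_cast hp)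
    · refine le_trans ?_ (SimpleGraph.edist_le_ediam (u := (⟨t, IsConj.refl t⟩ : {x // IsConj t x})) (v := ⟨y, hy⟩))
      have h1 : (⟨t, IsConj.refl t⟩ : {x // IsConj t x}) ≠ ⟨y, hy⟩ := fun e => hne (congrArg Subtype.val e).symm
      by_contra hlt
      have h01 : G.edist ⟨t, IsConj.refl t⟩ ⟨y, hy⟩ ≤ 1 := Order.le_of_lt_add_one (not_le.mp hlt)
      rcases SimpleGraph.edist_le_one_iff_adj_or_eq.mp h01 with h | h
      exacts [hnadj h, h1 h]
  rw [SimpleGraph.diam, he]
  rfl

end Cfsg.Agent.S3265
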