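import Cfsg.Statements.S3266
import Mathlib
import Cfsg.Agent.Lib.DicksonFull.Solvabilizer

set_option autoImplicit false
open Cfsg

namespace Cfsg.Agent.S3266

open Matrix CfsgLib.DicksonFull
open CfsgLib.PSL2 (mk)

section Sphere

variable {F : Type*} [Field F] [Fintype F]

local notation "q" => Fintype.card F

theorem exists_circle (hq : q % 2 = 1) (e : F) : ∃ a b : F, a * a + b * b = e := by
  obtain ⟨a, b, h⟩ := FiniteField.exists_root_sum_quadratic (R := F) (f := Polynomial.X ^ 2)
    (g := Polynomial.X ^ 2 - Polynomial.C e) (by simp) (Polynomial.degree_X_pow_sub_C (by norm_num) e) hq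
  exact ⟨a, b, by simp at h; linear_combination h⟩

theorem two_ne (hq : q % 2 = 1) : (2 : F) ≠ 0 := by
  have := FiniteField.even_card_iff_char_two (F := F)
  refine Ring.two_ne_zero fun h => ?_
  have := this.mp h
  omega

variable (hq3 : Fintype.card F % 4 = 3)
include hq3

theorem not_square (a : F) : a * a ≠ -1 := fun h =>
  (FiniteField.isSquare_neg_one_iff.mp ⟨a, h.symm⟩) hq3

theorem neg_square {a : F} (h : ¬ IsSquare a) : IsSquare (-a) := by
  have h2 : ringChar F ≠ 2 := fun e => by
    have := (FiniteField.even_card_iff_char_two (F := F)).mp e; omega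
  have ha : a ≠ 0 := fun e => h (e ▸ IsSquare.zero)
  rw [FiniteField.isSquare_iff h2 (neg_ne_zero.mpr ha), neg_pow,
    (FiniteField.pow_dichotomy h2 ha).resolve_left fun e => h ((FiniteField.isSquare_iff h2 ha).mpr e),
    show (-1 : F) ^ (q / 2) = -1 from Odd.neg_one_pow (Nat.odd_iff.mpr (by omega)), neg_mul_neg, one_mul]

theorem circle_one : Nat.card {p : F × F // p.1 * p.1 + p.2 * p.2 = 1} = q + 1 := by
  have h4 : ((0 : F)) ^ 2 ≠ 4 := fun h => two_ne (F := F) (by omega)
    (mul_self_eq_zero.mp (show (2 : F) * 2 = 0 by linear_combination -h))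
  have h := CfsgLib.SL2Centralizer.card_conic (F := F) (t := 0) h4
  have : IsEmpty {s : F // s * s + (0 : F) * s + 1 = 0} :=
    ⟨fun s => not_square hq3 s.1 (by linear_combination s.2)⟩
  rw [Nat.card_of_isEmpty (α := {s : F // s * s + (0 : F) * s + 1 = 0}), add_zero] at h
  rw [← h]
  exact Nat.card_congr (Equiv.subtypeEquivRight fun p => by rw [zero_mul, zero_mul, add_zero])

theorem circle (e : F) (he : e ≠ 0) : Nat.card {p : F × F // p.1 * p.1 + p.2 * p.2 = e} = q + 1 := by
  obtain ⟨a, b, hab⟩ := exists_circle (F := F) (by omega) e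
  rw [← circle_one hq3]
  refine Nat.card_congr
    { toFun := fun p => ⟨((a * p.1.1 + b * p.1.2) / e, (a * p.1.2 - b * p.1.1) / e), by
        field_simp
        linear_combination (p.1.1 * p.1.1 + p.1.2 * p.1.2) * hab + e * p.2⟩
      invFun := fun p => ⟨(a * p.1.1 - b * p.1.2, a * p.1.2 + b * p.1.1), by
        linear_combination (p.1.1 * p.1.1 + p.1.2 * p.1.2) * hab + e * p.2⟩
      left_inv := fun p => by
        ext <;> simp <;> field_simp
        · linear_combination p.1.1 * hab
        · linear_combination p.1.2 * hab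
      right_inv := fun p => by
        ext <;> simp <;> field_simp
        · linear_combination p.1.1 * hab
        · linear_combination p.1.2 * hab }

omit hq3 in
/-- The unit sphere. -/
def sph (F : Type*) [Field F] : Set (F × F × F) := {v | v.1 * v.1 + (v.2.1 * v.2.1 + v.2.2 * v.2.2) = 1}

theorem fibre (P : F → Prop) (hP : ∀ a, P a → 1 - a * a ≠ 0) :
    Nat.card {v : F × F × F // v ∈ sph F ∧ P v.1} = Nat.card {a : F // P a} * (q + 1) := by
  classical
  refine (Nat.card_congr (β := Σ a : {a : F // P a}, {p : F × F // p.1 * p.1 + p.2 * p.2 = 1 - a.1 * a.1})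
    { toFun := fun v => ⟨⟨v.1.1, v.2.2⟩, ⟨v.1.2, by
        have h : v.1.1 * v.1.1 + (v.1.2.1 * v.1.2.1 + v.1.2.2 * v.1.2.2) = 1 := v.2.1
        linear_combination h⟩⟩
      invFun := fun z => ⟨(z.1.1, z.2.1), by
        refine ⟨?_, z.1.2⟩
        show _ = (1 : F)
        linear_combination z.2.2⟩
      left_inv := fun v => rfl
      right_inv := fun z => rfl }).trans ?_
  rw [Nat.card_sigma, Finset.sum_congr rfl fun a _ => circle hq3 _ (hP a.1 a.2), Finset.sum_const,
    Finset.card_univ, smul_eq_mul, ← Nat.card_eq_fintype_card]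

/-- Two unit vectors meeting in a non-split plane have a common split neighbour. -/
theorem key (hq4 : 4 ≤ q) {k l : F} (hkl : k * k + l * l = 1) (hl : l ≠ 0) :
    ∃ α β γ : F, α * α + (β * β + γ * γ) = 1 ∧ ¬ IsSquare (1 - α * α) ∧
      ¬ IsSquare (1 - (k * α + l * β) * (k * α + l * β)) := by
  classical
  have h2 : (2 : F) ≠ 0 := two_ne (by omega)
  obtain ⟨S, hS⟩ : ∃ S, sph F = S := ⟨_, rfl⟩
  obtain ⟨Nx, hNx⟩ : ∃ Nx : Set (F × F × F), {v | v ∈ sph F ∧ IsSquare (1 - v.1 * v.1)} = Nx := ⟨_, rfl⟩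
  obtain ⟨Ny, hNy⟩ : ∃ Ny : Set (F × F × F), {v | v ∈ sph F ∧
      IsSquare (1 - (k * v.1 + l * v.2.1) * (k * v.1 + l * v.2.1))} = Ny := ⟨_, rfl⟩
  have mS : ∀ v, v ∈ S ↔ v.1 * v.1 + (v.2.1 * v.2.1 + v.2.2 * v.2.2) = 1 := fun v => by rw [← hS]; rfl
  have mX : ∀ v, v ∈ Nx ↔ v ∈ sph F ∧ IsSquare (1 - v.1 * v.1) := fun v => by rw [← hNx]; rfl
  have mY : ∀ v, v ∈ Ny ↔ v ∈ sph F ∧ IsSquare (1 - (k * v.1 + l * v.2.1) * (k * v.1 + l * v.2.1)) :=
    fun v => by rw [← hNy]; rfl
  by_contra hcon
  have hsub : S ⊆ Nx ∪ Ny := fun v hv => by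
    by_contra hn
    rw [Set.mem_union, mX, mY, not_or] at hn
    have hv' : v ∈ sph F := hS ▸ hv
    exact hcon ⟨v.1, v.2.1, v.2.2, (mS v).mp hv, fun h => hn.1 ⟨hv', h⟩, fun h => hn.2 ⟨hv', h⟩⟩
  -- the two cones have the same size
  have hXY : Ny.ncard = Nx.ncard := by
    refine Set.ncard_congr (fun v _ => (k * v.1 + l * v.2.1, (-l * v.1 + k * v.2.1, v.2.2))) ?_ ?_ ?_
    · intro v hv
      rw [mY] at hv
      rw [mX]
      refine ⟨?_, hv.2⟩
      show _ = (1 : F)
      have h1 : v.1 * v.1 + (v.2.1 * v.2.1 + v.2.2 * v.2.2) = 1 := hv.1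
      linear_combination h1 + (v.1 * v.1 + v.2.1 * v.2.1) * hkl
    · rintro ⟨a, b, c⟩ ⟨a', b', c'⟩ _ _ h
      simp only [Prod.mk.injEq] at h
      obtain ⟨e1, e2, e3⟩ := h
      refine Prod.ext ?_ (Prod.ext ?_ e3) <;> simp only
      · linear_combination k * e1 - l * e2 - (a - a') * hkl
      · linear_combination l * e1 + k * e2 - (b - b') * hkl
    · rintro ⟨a, b, c⟩ hv
      rw [mX] at hv
      refine ⟨(k * a - l * b, (l * a + k * b, c)), ?_, ?_⟩
      · rw [mY]
        refine ⟨?_, ?_⟩
        · show _ = (1 : F)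
          have h1 : a * a + (b * b + c * c) = 1 := hv.1
          linear_combination h1 + (a * a + b * b) * hkl
        · simp only
          rw [show k * (k * a - l * b) + l * (l * a + k * b) = a by linear_combination a * hkl]
          exact hv.2
      · refine Prod.ext ?_ (Prod.ext ?_ rfl) <;> simp only
        · linear_combination a * hkl
        · linear_combination b * hkl
  -- sizes
  obtain ⟨E, hE⟩ : ∃ E : Set (F × F × F), {v | v ∈ sph F ∧ 1 - v.1 * v.1 = 0} = E := ⟨_, rfl⟩
  have hone : ∀ a : F, 1 - a * a = 0 ↔ a = 1 ∨ a = -1 := fun a => by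
    rw [← sq_eq_one_iff, sq, sub_eq_zero, eq_comm]
  have hEc : E.ncard = 2 := by
    have : E = {((1 : F), ((0 : F), (0 : F))), (-1, (0, 0))} := by
      rw [← hE]
      ext ⟨a, b, c⟩
      constructor
      · rintro ⟨h, h0⟩
        have h' : a * a + (b * b + c * c) = 1 := h
        have h0' : 1 - a * a = 0 := h0
        have hbc : b * b + c * c = 0 := by linear_combination h' + h0'
        have hb : b = 0 := by
          by_contra hb
          exact not_square hq3 (c / b) (by field_simp; linear_combination hbc)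
        subst hb
        have hc : c = 0 := mul_self_eq_zero.mp (by linear_combination hbc)
        subst hc
        rcases (hone a).mp h0 with rfl | rfl <;> simp
      · rintro (h | h) <;> simp only [Prod.mk.injEq, Set.mem_singleton_iff] at h <;>
          obtain ⟨rfl, rfl, rfl⟩ := h <;> exact ⟨by simp [sph], by simp⟩
    rw [this, Set.ncard_pair]
    intro h
    simp only [Prod.mk.injEq, and_self, and_true] at h
    exact h2 (by linear_combination h)
  obtain ⟨m, hm⟩ : ∃ m, Nat.card {a : F // IsSquare (1 - a * a) ∧ 1 - a * a ≠ 0} = m := ⟨_, rfl⟩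
  obtain ⟨n, hn⟩ : ∃ n, Nat.card {a : F // ¬ IsSquare (1 - a * a)} = n := ⟨_, rfl⟩
  have cX : Nx.ncard = 2 + m * (q + 1) := by
    have e : Nx = E ∪ {v | v ∈ sph F ∧ (IsSquare (1 - v.1 * v.1) ∧ 1 - v.1 * v.1 ≠ 0)} := by
      rw [← hE, ← hNx]
      ext v
      constructor
      · rintro ⟨h1, h2⟩
        by_cases h0 : 1 - v.1 * v.1 = 0
        · exact Or.inl ⟨h1, h0⟩
        · exact Or.inr ⟨h1, h2, h0⟩
      · rintro (⟨h1, h2⟩ | ⟨h1, h2, -⟩)
        · exact ⟨h1, h2 ▸ IsSquare.zero⟩
        · exact ⟨h1, h2⟩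
    rw [e, Set.ncard_union_eq, hEc, ← Nat.card_coe_set_eq, ← hm]
    · congr 1
      exact fibre hq3 (fun a => IsSquare (1 - a * a) ∧ 1 - a * a ≠ 0) fun a h => h.2
    · rw [← hE, Set.disjoint_left]
      exact fun v h1 h2 => h2.2.2 h1.2
  have cS : S.ncard = Nx.ncard + n * (q + 1) := by
    have e : S = Nx ∪ {v | v ∈ sph F ∧ ¬ IsSquare (1 - v.1 * v.1)} := by
      rw [← hS, ← hNx]
      ext v
      constructor
      · intro h
        by_cases h0 : IsSquare (1 - v.1 * v.1)
        · exact Or.inl ⟨h, h0⟩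
        · exact Or.inr ⟨h, h0⟩
      · rintro (⟨h, -⟩ | ⟨h, -⟩) <;> exact h
    rw [e, Set.ncard_union_eq, ← hn]
    · congr 1
      rw [← Nat.card_coe_set_eq]
      exact fibre hq3 (fun a => ¬ IsSquare (1 - a * a)) fun a h h0 => h (h0 ▸ IsSquare.zero)
    · rw [← hNx, Set.disjoint_left]
      exact fun v h1 h2 => h2.2 h1.2
  -- the numbers of squares and non-squares
  have hmn : 2 * m + 2 = q + 1 ∧ m + n + 2 = q := by
    refine ⟨?_, ?_⟩
    · rw [← circle_one hq3]
      obtain ⟨A, hA⟩ : ∃ A : Set (F × F), {p | p.1 * p.1 + p.2 * p.2 = 1 ∧ p.2 ≠ 0} = A := ⟨_, rfl⟩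
      have e : {p : F × F | p.1 * p.1 + p.2 * p.2 = 1} = {((1 : F), (0 : F)), (-1, 0)} ∪ A := by
        rw [← hA]
        ext ⟨a, b⟩
        simp only [Set.mem_ofPred_eq, Set.mem_union, Set.mem_insert_iff, Set.mem_singleton_iff, Prod.mk.injEq]
        constructor
        · intro h
          by_cases hb : b = 0
          · subst hb
            rcases (hone a).mp (by linear_combination -h) with e | e
            · exact Or.inl (Or.inl ⟨e, rfl⟩)
            · exact Or.inl (Or.inr ⟨e, rfl⟩)
          · exact Or.inr ⟨h, hb⟩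
        · rintro ((⟨rfl, rfl⟩ | ⟨rfl, rfl⟩) | ⟨h, -⟩)
          · ring
          · ring
          · exact h
      show _ = Nat.card ↥{p : F × F | p.1 * p.1 + p.2 * p.2 = 1}
      rw [Nat.card_coe_set_eq, e, Set.ncard_union_eq, Set.ncard_pair]
      · have : A.ncard = m * 2 := by
          have hpair : ∀ a : {a : F // IsSquare (1 - a * a) ∧ 1 - a * a ≠ 0},
              Nat.card {b : F // b * b = 1 - a.1 * a.1} = 2 := by
            rintro ⟨a, ⟨r, hr⟩, ha⟩
            have hr0 : r ≠ 0 := fun e => ha (by rw [hr, e, mul_zero])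
            have : {b : F | b * b = 1 - a * a} = {r, -r} := Set.ext fun b => by
              simp only [Set.mem_ofPred_eq, Set.mem_insert_iff, Set.mem_singleton_iff, hr]
              exact mul_self_eq_mul_self_iff
            show Nat.card ↥{b : F | b * b = 1 - a * a} = 2
            rw [this, Nat.card_coe_set_eq, Set.ncard_pair]
            intro h
            exact hr0 ((mul_eq_zero.mp (show (2 : F) * r = 0 by linear_combination h)).resolve_left h2)
          have hsig : Nat.card (Σ a : {a : F // IsSquare (1 - a * a) ∧ 1 - a * a ≠ 0},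
              {b : F // b * b = 1 - a.1 * a.1}) = m * 2 := by
            rw [Nat.card_sigma, Finset.sum_congr rfl fun a _ => hpair a, Finset.sum_const, Finset.card_univ,
              smul_eq_mul, ← Nat.card_eq_fintype_card, hm]
          rw [← hsig, ← Nat.card_coe_set_eq]
          have mA : ∀ p, p ∈ A ↔ p.1 * p.1 + p.2 * p.2 = 1 ∧ p.2 ≠ 0 := fun p => by rw [← hA]; rfl
          refine Nat.card_congr
            { toFun := fun p => ⟨⟨p.1.1, ⟨p.1.2, by linear_combination -((mA _).mp p.2).1⟩, fun h => ((mA _).mp p.2).2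
                (mul_self_eq_zero.mp (by linear_combination ((mA _).mp p.2).1 + h))⟩,
                ⟨p.1.2, by linear_combination ((mA _).mp p.2).1⟩⟩
              invFun := fun z => ⟨(z.1.1, z.2.1), (mA _).mpr ⟨by linear_combination z.2.2,
                fun h => z.1.2.2 (by have := z.2.2; simp only at h; rw [h, mul_zero] at this; exact this.symm)⟩⟩
              left_inv := fun p => rfl
              right_inv := fun z => rfl }
        omega
      · simp only [ne_eq, Prod.mk.injEq, and_true]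
        intro h
        exact h2 (by linear_combination h)
      · rw [← hA, Set.disjoint_left]
        rintro x (rfl | rfl) h <;> exact h.2 rfl
    · have e : (Set.univ : Set F) = ({1, -1} ∪ {a | IsSquare (1 - a * a) ∧ 1 - a * a ≠ 0}) ∪
          {a | ¬ IsSquare (1 - a * a)} := by
        ext a
        simp only [Set.mem_univ, Set.mem_union, Set.mem_insert_iff, Set.mem_singleton_iff,
          Set.mem_ofPred_eq, true_iff]
        by_cases h0 : 1 - a * a = 0
        · exact Or.inl (Or.inl ((hone a).mp h0))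
        · by_cases h1 : IsSquare (1 - a * a)
          · exact Or.inl (Or.inr ⟨h1, h0⟩)
          · exact Or.inr h1
      rw [← Nat.card_eq_fintype_card, ← Set.ncard_univ, e, Set.ncard_union_eq, Set.ncard_union_eq,
        Set.ncard_pair, ← hm, ← hn, ← Nat.card_coe_set_eq, ← Nat.card_coe_set_eq]
      · ring_nf
        rfl
      · intro h
        exact h2 (by linear_combination h)
      · rw [Set.disjoint_left]
        intro a ha h
        exact h.2 ((hone a).mpr ha)
      · rw [Set.disjoint_left]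
        rintro a (ha | ha) h
        · exact h (((hone a).mpr ha) ▸ IsSquare.zero)
        · exact h ha.1
  -- the common part of the two cones
  obtain ⟨C, hC⟩ : ∃ C : Set (F × F × F), {v | v ∈ sph F ∧ v.2.2 = 0} = C := ⟨_, rfl⟩
  have cC : C.ncard = q + 1 := by
    rw [← circle_one hq3, ← Nat.card_coe_set_eq, ← hC]
    refine Nat.card_congr
      { toFun := fun v => ⟨(v.1.1, v.1.2.1), by
          have h1 : v.1.1 * v.1.1 + (v.1.2.1 * v.1.2.1 + v.1.2.2 * v.1.2.2) = 1 := v.2.1
          have h2 : v.1.2.2 = 0 := v.2.2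
          rw [h2] at h1
          linear_combination h1⟩
        invFun := fun p => ⟨(p.1.1, (p.1.2, 0)), by
          show _ = (1 : F)
          linear_combination p.2, rfl⟩
        left_inv := fun v => Subtype.ext (Prod.ext rfl (Prod.ext rfl v.2.2.symm))
        right_inv := fun p => rfl }
  obtain ⟨a, b, c, habc, hX, hY, hc, hab⟩ : ∃ a b c : F, a * a + (b * b + c * c) = 1 ∧
      IsSquare (1 - a * a) ∧ IsSquare (1 - (k * a + l * b) * (k * a + l * b)) ∧ c ≠ 0 ∧ (a ≠ 0 ∨ b ≠ 0) := by
    have hll : IsSquare (1 - k * k) := ⟨l, by linear_combination -hkl⟩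
    have hkk : IsSquare (1 - l * l) := ⟨k, by linear_combination -hkl⟩
    by_cases hk : k = 0
    · subst hk
      obtain ⟨b, c, hbc, hb, hc⟩ : ∃ b c : F, b * b + c * c = 1 ∧ b ≠ 0 ∧ c ≠ 0 := by
        by_contra hno
        have hle : {p : F × F | p.1 * p.1 + p.2 * p.2 = 1} ⊆ {((1 : F), (0 : F)), (-1, 0), (0, 1), (0, -1)} := by
          rintro ⟨b, c⟩ (h : b * b + c * c = 1)
          simp only [Set.mem_insert_iff, Set.mem_singleton_iff, Prod.mk.injEq]
          by_cases hb : b = 0
          · subst hb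
            rcases (hone c).mp (by linear_combination -h) with e | e <;> simp [e]
          · have hc : c = 0 := by
              by_contra hc
              exact hno ⟨b, c, h, hb, hc⟩
            subst hc
            rcases (hone b).mp (by linear_combination -h) with e | e <;> simp [e]
        have h4 := Set.ncard_le_ncard hle
        rw [show ({p : F × F | p.1 * p.1 + p.2 * p.2 = 1}).ncard = q + 1 from
          (Nat.card_coe_set_eq _).symm.trans (circle_one hq3)] at h4
        have h5 : ({((1 : F), (0 : F)), (-1, 0), (0, 1), (0, -1)} : Set (F × F)).ncard ≤ 4 :=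
          (Set.ncard_insert_le _ _).trans (Nat.add_le_add_right ((Set.ncard_insert_le _ _).trans
            (Nat.add_le_add_right ((Set.ncard_insert_le _ _).trans (by rw [Set.ncard_singleton])) 1)) 1)
        omega
      refine ⟨0, b, c, by linear_combination hbc, by simp, ⟨c, ?_⟩, hc, Or.inr hb⟩
      have hl1 : l * l = 1 := by linear_combination hkl
      linear_combination -hbc - b * b * hl1
    · rcases (show (1 + 2 * k ≠ 0) ∨ (1 - 2 * k ≠ 0) by
        by_contra h
        rw [not_or, not_not, not_not] at h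
        exact h2 (by linear_combination h.1 + h.2)) with h0 | h0
      · by_cases hs : IsSquare (1 + 2 * k)
        · obtain ⟨r, hr⟩ := hs
          have hk1 : 1 - k ≠ 0 := fun e => hl (mul_self_eq_zero.mp (by linear_combination hkl + (1 + k) * e))
          refine ⟨k, k * (1 - k) / l, (1 - k) * r / l, ?_, hll, ?_, ?_, Or.inl hk⟩
          · field_simp
            linear_combination -(1 - k) ^ 2 * hr + (k * k - 1) * hkl
          · rw [show k * k + l * (k * (1 - k) / l) = k by field_simp; ring]
            exact hll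
          · exact div_ne_zero (mul_ne_zero hk1 fun e => h0 (by rw [hr, e, mul_zero])) hl
        · obtain ⟨r, hr⟩ := neg_square hq3 hs
          refine ⟨l, -1 - k, r, ?_, hkk, ?_, fun e => h0 (neg_eq_zero.mp (by rw [hr, e, mul_zero])), Or.inl hl⟩
          · linear_combination hkl - hr
          · rw [show k * l + l * (-1 - k) = -l by ring, neg_mul_neg]
            exact hkk
      · by_cases hs : IsSquare (1 - 2 * k)
        · obtain ⟨r, hr⟩ := hs
          have hk1 : 1 + k ≠ 0 := fun e => hl (mul_self_eq_zero.mp (by linear_combination hkl + (1 - k) * e))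
          refine ⟨k, -(k * (1 + k)) / l, (1 + k) * r / l, ?_, hll, ?_, ?_, Or.inl hk⟩
          · field_simp
            linear_combination -(1 + k) ^ 2 * hr + (k * k - 1) * hkl
          · rw [show k * k + l * (-(k * (1 + k)) / l) = -k by field_simp; ring, neg_mul_neg]
            exact hll
          · exact div_ne_zero (mul_ne_zero hk1 fun e => h0 (by rw [hr, e, mul_zero])) hl
        · obtain ⟨r, hr⟩ := neg_square hq3 hs
          refine ⟨l, 1 - k, r, ?_, hkk, ?_, fun e => h0 (neg_eq_zero.mp (by rw [hr, e, mul_zero])), Or.inl hl⟩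
          · linear_combination hkl - hr
          · rw [show k * l + l * (1 - k) = l by ring]
            exact hkk
  have hcom : insert (a, (b, c)) (C ∪ {((0 : F), ((0 : F), (1 : F))), (0, (0, -1))}) ⊆ Nx ∩ Ny := by
    rintro v (rfl | hv | rfl | rfl)
    · exact ⟨(mX _).mpr ⟨habc, hX⟩, (mY _).mpr ⟨habc, hY⟩⟩
    · rw [← hC] at hv
      obtain ⟨h, h0⟩ := hv
      have h1 : v.1 * v.1 + (v.2.1 * v.2.1 + v.2.2 * v.2.2) = 1 := h
      rw [show v.2.2 = 0 from h0] at h1
      exact ⟨(mX _).mpr ⟨h, v.2.1, by linear_combination -h1⟩,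
        (mY _).mpr ⟨h, -l * v.1 + k * v.2.1, by linear_combination -h1 - (v.1 * v.1 + v.2.1 * v.2.1) * hkl⟩⟩
    · exact ⟨(mX _).mpr ⟨by simp [sph], by simp⟩, (mY _).mpr ⟨by simp [sph], by simp⟩⟩
    · exact ⟨(mX _).mpr ⟨by simp [sph], by simp⟩, (mY _).mpr ⟨by simp [sph], by simp⟩⟩
  have h4 := Set.ncard_le_ncard hcom
  rw [Set.ncard_insert_of_notMem ?_, Set.ncard_union_eq, cC, Set.ncard_pair] at h4
  rotate_left
  · simp only [ne_eq, Prod.mk.injEq, true_and]
    intro h
    exact h2 (by linear_combination h)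
  · rw [← hC, Set.disjoint_left]
    rintro x ⟨-, h⟩ (rfl | rfl)
    · exact one_ne_zero h
    · exact neg_ne_zero.mpr one_ne_zero h
  · rw [← hC]
    rintro (h | h | h)
    · exact hc h.2
    · simp only [Prod.mk.injEq] at h
      rcases hab with h' | h'
      · exact h' h.1
      · exact h' h.2.1
    · simp only [Set.mem_singleton_iff, Prod.mk.injEq] at h
      rcases hab with h' | h'
      · exact h' h.1
      · exact h' h.2.1
  have h5 := Set.ncard_union_add_ncard_inter Nx Ny
  have h6 := Set.ncard_le_ncard hsub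
  rw [hXY] at h5
  obtain ⟨hm1, hn1⟩ := hmn
  have hm' : 2 * m * (q + 1) + 2 * (q + 1) = (q + 1) * (q + 1) := by rw [← add_mul, hm1]
  have hn' : m * (q + 1) + n * (q + 1) + 2 * (q + 1) = q * (q + 1) := by rw [← add_mul, ← add_mul, hn1]
  rw [Nat.add_mul q 1 (q + 1), one_mul] at hm'
  rw [mul_assoc] at hm'
  omega

end Sphere

section Graph

variable {F : Type*} [Field F] [Fintype F] (p : ℕ) [Fact p.Prime] [CharP F p]

local notation "SL" => Matrix.SpecialLinearGroup (Fin 2) F
local notation "PSL" => Matrix.ProjectiveSpecialLinearGroup (Fin 2) F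
local notation "q" => Fintype.card F

theorem trace_mul_zero (A B : SL) : (A * B).1.trace = (B * A).1.trace := by
  rw [Matrix.SpecialLinearGroup.coe_mul, Matrix.trace_mul_comm, ← Matrix.SpecialLinearGroup.coe_mul]

variable (hp : p ≠ 2)
include hp

theorem odd_card : q % 2 = 1 := by
  obtain ⟨n, hp', hn⟩ := FiniteField.card F p
  rw [hn]
  exact Nat.odd_iff.mp ((hp'.odd_of_ne_two hp).pow)

theorem involution_iff {g : SL} : (mk g ^ 2 = 1 ∧ mk g ≠ 1) ↔ g.1.trace = 0 := by
  have h2 := two_ne (F := F) (odd_card p hp)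
  constructor
  · rintro ⟨h, h1⟩
    rw [← map_pow, pow_two] at h
    rcases mk_eq_one h with e | e
    · rcases CfsgLib.SL2Orders.eq_one_or_neg_one_of_sq h2 g e with rfl | rfl
      · exact absurd (map_one _) h1
      · exact absurd (by rw [mk_neg, map_one]) h1
    · have h3 := congrArg Subtype.val e
      rw [Matrix.SpecialLinearGroup.coe_mul, CfsgLib.SL2Orders.sq_eq, Matrix.SpecialLinearGroup.coe_neg,
        Matrix.SpecialLinearGroup.coe_one, sub_eq_iff_eq_add, neg_add_cancel] at h3
      rcases smul_eq_zero.mp h3 with e' | e'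
      · exact e'
      · have := g.2
        rw [e'] at this
        simp at this
  · intro h
    refine ⟨?_, fun e => ?_⟩
    · have : g * g = -1 := Subtype.ext (by
        rw [Matrix.SpecialLinearGroup.coe_mul, CfsgLib.SL2Orders.sq_eq, h]; simp)
      rw [← map_pow, pow_two, this, mk_neg, map_one]
    · rcases mk_eq_one e with rfl | rfl <;>
        simp [Matrix.trace_fin_two] at h <;> exact h2 (by linear_combination h)

theorem conj_of_involutions {x y : PSL} (hx : x ^ 2 = 1 ∧ x ≠ 1) (hy : y ^ 2 = 1 ∧ y ≠ 1) : IsConj x y := by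
  obtain ⟨A, rfl⟩ := mk_surj x
  obtain ⟨B, rfl⟩ := mk_surj y
  rw [involution_iff p hp] at hx hy
  have h2 := two_ne (F := F) (odd_card p hp)
  refine (mk (F := F)).map_isConj (CfsgLib.PSL2Product.isConj_of_trace ?_ (hy.trans hx.symm))
  rw [hx]
  intro h
  exact h2 (mul_self_eq_zero.mp (by linear_combination -h))

theorem odd_of_trace {M : SL} (h : M.1.trace ^ 2 = 4) : Odd (orderOf (mk M)) :=
  Odd.of_dvd_nat ((Fact.out : p.Prime).odd_of_ne_two hp)
    (orderOf_dvd_of_pow_eq_one (pow_eq_one_of_trace_sq p h))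

theorem odd_of_split (hq3 : q % 4 = 3) {M : SL} (h : IsSquare (M.1.trace ^ 2 - 4)) :
    Odd (orderOf (mk M)) := by
  by_cases h4 : M.1.trace ^ 2 = 4
  · exact odd_of_trace p hp h4
  obtain ⟨r, hr⟩ := h
  have hs : SS p (mk M) := (ss_iff p).mpr h4
  have h2 := two_ne (F := F) (by omega)
  rcases card_torus (F := F) h4 with ⟨hno, -⟩ | ⟨-, hc⟩
  · refine absurd ⟨(-M.1.trace + r) / 2, ?_⟩ hno
    field_simp
    linear_combination -hr
  · have hg : Nat.gcd 2 (q - 1) = 2 := Nat.gcd_eq_left (by omega)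
    rw [hg] at hc
    have hodd : Odd (Nat.card (cT M)) := Nat.odd_iff.mpr (by omega)
    refine hodd.of_dvd_nat (Subgroup.orderOf_dvd_natCard _ ?_)
    exact mem_cT.mpr rfl

/-- Two involutions have a common neighbour or are adjacent. -/
theorem odd_case (hq : 4 ≤ q) {x y : PSL} (hx : x ^ 2 = 1 ∧ x ≠ 1) (hy : y ^ 2 = 1 ∧ y ≠ 1)
    (hno : ¬ Odd (orderOf (x * y))) :
    ∃ z : PSL, z ^ 2 = 1 ∧ z ≠ 1 ∧ Odd (orderOf (x * z)) ∧ Odd (orderOf (z * y)) := by
  obtain ⟨A, rfl⟩ := mk_surj x
  obtain ⟨B, rfl⟩ := mk_surj y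
  rw [involution_iff p hp] at hx hy
  have h2 := two_ne (F := F) (odd_card p hp)
  obtain ⟨W, hW⟩ : ∃ W : SL, W.1 = !![0, -1; 1, 0] := ⟨⟨_, by simp [Matrix.det_fin_two]⟩, rfl⟩
  obtain ⟨g, hg⟩ := isConj_iff.mp (CfsgLib.PSL2Product.isConj_of_trace (g := A) (h := W)
    (by rw [hx]; intro h; exact h2 (mul_self_eq_zero.mp (by linear_combination -h)))
    (by rw [hx, hW]; simp [Matrix.trace_fin_two]))
  obtain ⟨B', hB'⟩ : ∃ B', g * B * g⁻¹ = B' := ⟨_, rfl⟩
  have hBt : B'.1.trace = 0 := by rw [← hB', CfsgLib.Dickson.trace_conj, hy]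
  have hprod : W * B' = g * (A * B) * g⁻¹ := by rw [← hg, ← hB']; group
  obtain ⟨u, hu⟩ : ∃ u, B'.1 0 0 = u := ⟨_, rfl⟩
  obtain ⟨k, hk⟩ : ∃ k, (B'.1 1 0 - B'.1 0 1) / 2 = k := ⟨_, rfl⟩
  obtain ⟨v, hv⟩ : ∃ v, (B'.1 1 0 + B'.1 0 1) / 2 = v := ⟨_, rfl⟩
  have e10 : B'.1 1 0 = v + k := by rw [← hk, ← hv]; field_simp; ring
  have e01 : B'.1 0 1 = v - k := by rw [← hk, ← hv]; field_simp; ring
  have e11 : B'.1 1 1 = -u := by
    rw [Matrix.trace_fin_two, hu] at hBt
    linear_combination hBt
  have hdet : k * k - (u * u + v * v) = 1 := by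
    have := B'.2
    rw [Matrix.det_fin_two, hu, e10, e01, e11] at this
    linear_combination this
  have htrAB : (A * B).1.trace = -2 * k := by
    rw [← CfsgLib.Dickson.trace_conj g (A * B), ← hprod, Matrix.trace_fin_two]
    simp [CfsgLib.Dickson.mul_entry, hW, hu, e10, e01, e11]
    ring
  have hkk : k * k ≠ 1 := fun h => hno (by
    rw [← map_mul]
    exact odd_of_trace p hp (by rw [htrAB]; linear_combination (4 : F) * h))
  suffices ∃ Z : SL, Z.1.trace = 0 ∧ Odd (orderOf (mk (W * Z))) ∧ Odd (orderOf (mk (Z * B'))) by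
    obtain ⟨Z, hZ, h1, h2'⟩ := this
    obtain ⟨hz, hz1⟩ := (involution_iff p hp).mpr (show (g⁻¹ * Z * g).1.trace = 0 by
      rw [← CfsgLib.Dickson.trace_conj g (g⁻¹ * Z * g), show g * (g⁻¹ * Z * g) * g⁻¹ = Z by group, hZ])
    refine ⟨mk (g⁻¹ * Z * g), hz, hz1, ?_, ?_⟩
    · rwa [← map_mul, ← (MulAut.conj (mk g)).orderOf_eq, MulAut.conj_apply, ← map_inv, ← map_mul,
        ← map_mul, show g * (A * (g⁻¹ * Z * g)) * g⁻¹ = (g * A * g⁻¹) * Z by group, hg]
    · rwa [← map_mul, ← (MulAut.conj (mk g)).orderOf_eq, MulAut.conj_apply, ← map_inv, ← map_mul,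
        ← map_mul, show g * (g⁻¹ * Z * g * B) * g⁻¹ = Z * (g * B * g⁻¹) by group, hB']
  have hodd := odd_card (F := F) p hp
  rcases (show q % 4 = 1 ∨ q % 4 = 3 by omega) with hq1 | hq3
  · -- both products unipotent
    obtain ⟨i, hi⟩ := FiniteField.isSquare_neg_one_iff.mpr (show q % 4 ≠ 3 by omega)
    have hk1 : k + 1 ≠ 0 := fun e => hkk (by linear_combination (k - 1) * e)
    obtain ⟨μ, hμ⟩ : ∃ μ : F, -1 / (k + 1) = μ := ⟨_, rfl⟩
    have hμk : μ * (k + 1) = -1 := by rw [← hμ]; field_simp
    obtain ⟨Z, hZ⟩ : ∃ Z : SL, Z.1 = !![μ * u - i * μ * v, 1 + (μ * v + i * μ * u);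
        -1 + (μ * v + i * μ * u), -(μ * u - i * μ * v)] := by
      refine ⟨⟨_, ?_⟩, rfl⟩
      simp [Matrix.det_fin_two]
      linear_combination (μ * μ * (u * u + v * v)) * hi
    refine ⟨Z, by simp [Matrix.trace_fin_two, hZ], odd_of_trace p hp ?_, odd_of_trace p hp ?_⟩
    · rw [Matrix.trace_fin_two]; simp [CfsgLib.Dickson.mul_entry, hW, hZ]; ring
    · have : (Z * B').1.trace = -2 * k * (-1) + 2 * μ * (u * u + v * v) := by
        rw [Matrix.trace_fin_two]; simp [CfsgLib.Dickson.mul_entry, hZ, hu, e10, e01, e11]; ring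
      rw [this, show 2 * μ * (u * u + v * v) = 2 * (μ * (k + 1)) * (k - 1) by
        linear_combination (-2 * μ) * hdet, hμk]
      ring
  · obtain ⟨l, hl⟩ : IsSquare (1 - k * k) := by
      by_contra h
      obtain ⟨r, hr⟩ := neg_square hq3 h
      refine hno ?_
      rw [← map_mul]
      exact odd_of_split p hp hq3 ⟨2 * r, by rw [htrAB]; linear_combination (4 : F) * hr⟩
    have hl0 : l ≠ 0 := fun e => hkk (by rw [e] at hl; linear_combination -hl)
    obtain ⟨α, β, γ, hs, ha, hb⟩ := key hq3 hq (show k * k + l * l = 1 by linear_combination -hl) hl0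
    obtain ⟨Z, hZ⟩ : ∃ Z : SL, Z.1 = !![(β * u - γ * v) / l, -α + (β * v + γ * u) / l;
        α + (β * v + γ * u) / l, -((β * u - γ * v) / l)] := by
      refine ⟨⟨_, ?_⟩, rfl⟩
      simp [Matrix.det_fin_two]
      field_simp
      linear_combination (β * β + γ * γ) * (hdet + hl) + l * l * hs
    refine ⟨Z, by simp [Matrix.trace_fin_two, hZ], odd_of_split p hp hq3 ?_, odd_of_split p hp hq3 ?_⟩
    · obtain ⟨r, hr⟩ := neg_square hq3 ha
      refine ⟨2 * r, ?_⟩
      have : (W * Z).1.trace = -2 * α := by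
        rw [Matrix.trace_fin_two]; simp [CfsgLib.Dickson.mul_entry, hW, hZ]; ring
      rw [this]
      linear_combination (4 : F) * hr
    · obtain ⟨r, hr⟩ := neg_square hq3 hb
      refine ⟨2 * r, ?_⟩
      have : (Z * B').1.trace = -2 * (k * α + l * β) := by
        rw [Matrix.trace_fin_two]; simp [CfsgLib.Dickson.mul_entry, hZ, hu, e10, e01, e11]
        field_simp
        linear_combination (-2 * β) * (hdet + hl)
      rw [this]
      linear_combination (4 : F) * hr

omit hp

/-- In characteristic two the graph is the non-commuting graph. -/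
theorem even_case {x y : PSL} [hc : CharP F 2] (hx : orderOf x = 2) (hy : orderOf y = 2) (h : ¬ Commute x y) :
    Odd (orderOf (x * y)) := by
  haveI : Fact (Nat.Prime 2) := ⟨Nat.prime_two⟩
  have hxi : x⁻¹ = x := inv_eq_of_mul_eq_one_right (by rw [← pow_two]; exact orderOf_dvd_iff_pow_eq_one.mp (dvd_of_eq hx))
  have hyi : y⁻¹ = y := inv_eq_of_mul_eq_one_right (by rw [← pow_two]; exact orderOf_dvd_iff_pow_eq_one.mp (dvd_of_eq hy))
  have h1 : x * y ≠ 1 := fun e => h (by
    rw [← inv_eq_of_mul_eq_one_right e, hxi])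
  rcases (psl (F := F) 2).order_cases _ h1 with hs | hs
  · exact Nat.not_even_iff_odd.mp fun he => hs.2 he.two_dvd
  · refine absurd ?_ h
    have h4 : x * y * (x * y) = 1 := by rw [← pow_two]; exact orderOf_dvd_iff_pow_eq_one.mp (dvd_of_eq hs)
    have h5 := eq_inv_of_mul_eq_one_right h4
    rw [_root_.mul_inv_rev, hxi, hyi] at h5
    exact h5

end Graph

theorem diam_two {V : Type*} (G : SimpleGraph V)
    (hall : ∀ a b : V, a ≠ b → ¬ G.Adj a b → ∃ c, G.Adj a c ∧ G.Adj c b)
    (hne : ∃ a b : V, a ≠ b ∧ ¬ G.Adj a b) : G.Connected ∧ G.diam = 2 := by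
  have hle : ∀ a b : V, G.edist a b ≤ 2 := by
    intro a b
    by_cases e : a = b
    · subst e; simp
    by_cases h : G.Adj a b
    · exact (SimpleGraph.edist_le h.toWalk).trans (by simp)
    obtain ⟨c, h1, h2⟩ := hall a b e h
    exact (SimpleGraph.edist_le (SimpleGraph.Walk.cons h1 h2.toWalk)).trans (by simp)
  obtain ⟨a, b, hab, hna⟩ := hne
  haveI : Nonempty V := ⟨a⟩
  have hed : G.ediam = 2 := by
    refine le_antisymm (SimpleGraph.ediam_le_of_edist_le hle) ?_
    have h1 : G.edist a b ≤ G.ediam := SimpleGraph.edist_le_ediam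
    refine le_trans ?_ h1
    have h0 : G.edist a b ≠ 0 := fun h => hab (SimpleGraph.edist_eq_zero_iff.mp h)
    have h11 : G.edist a b ≠ 1 := fun h => hna (SimpleGraph.edist_eq_one_iff_adj.mp h)
    revert h0 h11
    generalize G.edist a b = d
    intro h0 h11
    induction d with
    | top => exact le_top
    | coe n =>
      norm_cast at h0 h11 ⊢
      omega
  refine ⟨SimpleGraph.connected_of_ediam_ne_top (by rw [hed]; exact ENat.natCast_ne_top 2), ?_⟩
  rw [SimpleGraph.diam, hed]
  rfl

/-- Let F be a finite field with at least 4 elements and let X be a conjugacy class of involutions of PSL(2, F). The graph on X joining two distinct involutions whose product has odd order is connected and has diameter exactly 2. -/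
theorem result {F : Type*} [Field F] [Fintype F] (hF : 4 ≤ Fintype.card F)
    (t : Matrix.ProjectiveSpecialLinearGroup (Fin 2) F) (ht : orderOf t = 2) :
    (SimpleGraph.fromRel fun x y : {x : Matrix.ProjectiveSpecialLinearGroup (Fin 2) F // IsConj t x} =>
        Odd (orderOf (x.1 * y.1))).Connected ∧
      (SimpleGraph.fromRel fun x y : {x : Matrix.ProjectiveSpecialLinearGroup (Fin 2) F // IsConj t x} =>
        Odd (orderOf (x.1 * y.1))).diam = 2 := by
  classical
  obtain ⟨p, hc⟩ := CharP.exists F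
  haveI := Fact.mk (CharP.char_is_prime F p)
  have hord : ∀ x, IsConj t x → orderOf x = 2 := fun x h => by
    obtain ⟨g, hg⟩ := isConj_iff.mp h
    rw [← hg, show g * t * g⁻¹ = MulAut.conj g t from rfl, (MulAut.conj g).orderOf_eq, ht]
  have hinv : ∀ x, IsConj t x → x ^ 2 = 1 ∧ x ≠ 1 := fun x h =>
    ⟨orderOf_dvd_iff_pow_eq_one.mp (dvd_of_eq (hord x h)), fun e => by
      have := hord x h; rw [e, orderOf_one] at this; omega⟩
  have hsymm : ∀ {x y : Matrix.ProjectiveSpecialLinearGroup (Fin 2) F}, IsConj t x → IsConj t y →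
      orderOf (y * x) = orderOf (x * y) := fun {x y} _ _ => by
    rw [← (MulAut.conj x).orderOf_eq, MulAut.conj_apply]
    group
  have hnodd : ∀ {x y : Matrix.ProjectiveSpecialLinearGroup (Fin 2) F}, IsConj t x → IsConj t y →
      x ≠ y → Commute x y → ¬ Odd (orderOf (x * y)) := fun {x y} hx hy hne h ho => by
    have hd : orderOf (x * y) ∣ 2 := orderOf_dvd_of_pow_eq_one (by
      rw [h.mul_pow, (hinv x hx).1, (hinv y hy).1, one_mul])
    rcases (Nat.dvd_prime Nat.prime_two).mp hd with e | e
    · refine hne ?_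
      have h1 := inv_eq_of_mul_eq_one_right (orderOf_eq_one_iff.mp e)
      rw [← h1, inv_eq_of_mul_eq_one_right (show x * x = 1 by rw [← pow_two]; exact (hinv x hx).1)]
    · rw [e] at ho; exact absurd ho (by decide)
  refine diam_two _ (fun a b hne hna => ?_) ?_
  · -- a common neighbour
    have hno : ¬ Odd (orderOf (a.1 * b.1)) := fun h => hna ⟨hne, Or.inl h⟩
    have mkAdj : ∀ (c d : {x : Matrix.ProjectiveSpecialLinearGroup (Fin 2) F // IsConj t x}),
        c.1 ≠ d.1 → Odd (orderOf (c.1 * d.1)) → (SimpleGraph.fromRel fun x y : {x : Matrix.ProjectiveSpecialLinearGroup (Fin 2) F // IsConj t x} =>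
        Odd (orderOf (x.1 * y.1))).Adj c d := fun c d h1 h2 => ⟨fun e => h1 (congrArg Subtype.val e), Or.inl h2⟩
    by_cases hp2 : p = 2
    · subst hp2
      have hcomm : Commute a.1 b.1 := by
        by_contra h
        exact hno (even_case (hord _ a.2) (hord _ b.2) h)
      obtain ⟨z, hz, hza⟩ : ∃ z, IsConj t z ∧ ¬ Commute z a.1 := by
        by_contra hall
        push Not at hall
        haveI : IsSimpleGroup (Matrix.ProjectiveSpecialLinearGroup (Fin 2) F) :=
          Matrix.ProjectiveSpecialLinearGroup.rank_two_simple (by rwa [Nat.card_eq_fintype_card])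
        have hle : Subgroup.normalClosure ({t} : Set (Matrix.ProjectiveSpecialLinearGroup (Fin 2) F)) ≤ cent a.1 := by
          rw [Subgroup.normalClosure, Subgroup.closure_le]
          intro w hw
          obtain ⟨s, hs, hsw⟩ := Group.mem_conjugatesOfSet_iff.mp hw
          rw [Set.mem_singleton_iff] at hs
          subst hs
          exact mem_cent.mpr (hall w hsw)
        rcases (Subgroup.normalClosure_normal (s := ({t} : Set (Matrix.ProjectiveSpecialLinearGroup (Fin 2) F)))).eq_bot_or_eq_top with e | e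
        · have : t ∈ Subgroup.normalClosure ({t} : Set (Matrix.ProjectiveSpecialLinearGroup (Fin 2) F)) :=
            Subgroup.subset_normalClosure rfl
          rw [e, Subgroup.mem_bot] at this
          exact (hinv t (IsConj.refl t)).2 this
        · rw [e, top_le_iff] at hle
          have h1 := card_cent 2 (hord _ a.2)
          rw [hle, Subgroup.card_top] at h1
          have h2 := card_psl (F := F)
          rw [h1] at h2
          have := Nat.eq_of_mul_eq_mul_left (show 0 < Fintype.card F by omega)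
            ((mul_comm _ _).trans h2)
          have hg := Nat.le_of_dvd (by norm_num) (Nat.gcd_dvd_left 2 (Fintype.card F - 1))
          have : 16 ≤ Fintype.card F ^ 2 := by nlinarith
          omega
      have hzb : ¬ Commute z b.1 := fun h => hza
        ((psl (F := F) 2).u_cen b.1 z a.1 (hord _ b.2) h hcomm).1
      exact ⟨⟨z, hz⟩, mkAdj _ _ (fun e => hza (e ▸ Commute.refl _)) (even_case (hord _ a.2) (hord _ hz) fun h => hza h.symm),
        mkAdj _ _ (fun e => hzb (e ▸ Commute.refl _)) (even_case (hord _ hz) (hord _ b.2) hzb)⟩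
    · obtain ⟨z, hz, hz1, h1, h2⟩ := odd_case p hp2 hF (hinv _ a.2) (hinv _ b.2) hno
      have hzc : IsConj t z := conj_of_involutions p hp2 (hinv t (IsConj.refl t)) ⟨hz, hz1⟩
      refine ⟨⟨z, hzc⟩, mkAdj _ _ (fun e => ?_) h1, mkAdj _ _ (fun e => ?_) h2⟩
      · exact hno (by rw [show a.1 = z from e]; exact h2)
      · exact hno (by rw [show b.1 = z from e.symm]; exact h1)
  · -- a commuting pair
    obtain ⟨y, hy, hty, hcomm⟩ : ∃ y, IsConj t y ∧ t ≠ y ∧ Commute t y := by
      by_cases hp2 : p = 2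
      · subst hp2
        obtain ⟨g, hgb, hgc⟩ : ∃ g, g ∈ bor t ∧ g ∉ cent t := by
          by_contra h
          push Not at h
          have hle := Nat.le_of_dvd Nat.card_pos (Subgroup.card_dvd_of_le (show bor t ≤ cent t from h))
          rw [card_cent 2 ht] at hle
          have hb := card_bor 2 ht
          have hg : Nat.gcd 2 (Fintype.card F - 1) ≤ 2 := Nat.le_of_dvd (by norm_num) (Nat.gcd_dvd_left _ _)
          have h3 : Fintype.card F * (Fintype.card F - 1) ≤ 2 * Fintype.card F := hb ▸ Nat.mul_le_mul hg hle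
          have h4 : Fintype.card F * 3 ≤ Fintype.card F * (Fintype.card F - 1) := Nat.mul_le_mul_left _ (by omega)
          omega
        refine ⟨g * t * g⁻¹, isConj_iff.mpr ⟨g, rfl⟩, fun e => hgc (mem_cent.mpr ?_),
          ((mem_bor (psl (F := F) 2) ht).mp hgb).symm⟩
        exact (mul_inv_eq_iff_eq_mul.mp e.symm)
      · have hts : SS p t := ⟨(hinv t (IsConj.refl t)).2, fun h => hp2 (by
          rw [ht] at h
          exact (Nat.prime_dvd_prime_iff_eq Fact.out Nat.prime_two).mp h)⟩
        obtain ⟨g, hgT, hg⟩ := exists_inverter p hts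
        have hti : t⁻¹ = t := inv_eq_of_mul_eq_one_right (by
          rw [← pow_two]; exact (hinv t (IsConj.refl t)).1)
        have hg2 := inverter_sq (psl (F := F) p) hts (by rw [hg]; exact inv_mem ((psl (F := F) p).mem_T t hts)) hgT
        rw [hti] at hg
        exact ⟨g, conj_of_involutions p hp2 (hinv t (IsConj.refl t)) ⟨hg2, fun e => hgT (e ▸ one_mem _)⟩,
          fun e => hgT (e ▸ (psl (F := F) p).mem_T t hts),
          (mul_inv_eq_iff_eq_mul.mp hg).symm⟩
    refine ⟨⟨t, IsConj.refl t⟩, ⟨y, hy⟩, fun e => hty (congrArg Subtype.val e), fun h => ?_⟩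
    rcases h.2 with h | h
    · exact hnodd (IsConj.refl t) hy hty hcomm h
    · exact hnodd hy (IsConj.refl t) (fun e => hty e.symm) hcomm.symm h

end Cfsg.Agent.S3266
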