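import Cfsg.Statements.S3269
import Mathlib
import Cfsg.Agent.Lib.ZStar.Main
import Cfsg.Agent.Lib.Basic

set_option autoImplicit false
open Cfsg

namespace Cfsg.Agent.S3269

/-- The only involution of a generalized quaternion group. -/
theorem invol_quaternion {m : ℕ} [NeZero m] (x : QuaternionGroup m) (hx : x * x = 1) :
    x = 1 ∨ x = QuaternionGroup.a (m : ZMod (2 * m)) := by
  cases x with
  | a i =>
    rw [QuaternionGroup.a_mul_a, ← QuaternionGroup.a_zero] at hx
    injection hx with hi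
    rw [← ZMod.natCast_zmod_val i, ← Nat.cast_add, ZMod.natCast_eq_zero_iff] at hi
    have hlt := ZMod.val_lt i
    obtain ⟨c, hc⟩ := hi
    have hc2 : c < 2 := by
      by_contra hcon
      have : 2 * m * 2 ≤ 2 * m * c := Nat.mul_le_mul_left _ (not_lt.mp hcon)
      omega
    interval_cases c
    · left
      rw [← QuaternionGroup.a_zero, ← ZMod.natCast_zmod_val i, show i.val = 0 by omega, Nat.cast_zero]
    · right
      rw [← ZMod.natCast_zmod_val i, show i.val = m by omega]
  | xa i =>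
    exfalso
    have h4 : orderOf (QuaternionGroup.xa i) ∣ 2 := orderOf_dvd_of_pow_eq_one (by rw [pow_two]; exact hx)
    rw [QuaternionGroup.orderOf_xa] at h4
    exact absurd (Nat.le_of_dvd (by norm_num) h4) (by norm_num)

/-- Let G be a finite group whose Sylow 2-subgroup S is an internal direct product Q × R with Q generalized quaternion (of order at least 8) and R a subgroup all of whose involutions are central in R. Then G is not simple. In particular no finite simple group has a Sylow 2-subgroup that is a direct product of one or more generalized quaternion groups. -/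
theorem result {G : Type*} [Group G] [Finite G]
    (S : Sylow 2 G) (Q R : Subgroup G) (hQR : Cfsg.IsInternalDirectProduct Q R (S : Subgroup G))
    (n : ℕ) (hn : 1 ≤ n) (eQ : ↥Q ≃* QuaternionGroup (2 ^ n))
    (hR : ∀ r ∈ R, orderOf r = 2 → ∀ s ∈ R, r * s = s * r) :
    ¬ IsSimpleGroup G := by
  intro hsimp
  classical
  haveI := hsimp
  haveI : Fact (Nat.Prime 2) := ⟨Nat.prime_two⟩
  haveI : NeZero (2 ^ n) := ⟨by positivity⟩
  obtain ⟨hQS, hRS, hcomm, hinf, hsup⟩ := hQR
  -- coordinates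
  have hdec : ∀ x ∈ (S : Subgroup G), ∃ q ∈ Q, ∃ r ∈ R, x = q * r := by
    intro x hx
    let T : Subgroup G :=
      { carrier := {x | ∃ q ∈ Q, ∃ r ∈ R, x = q * r}
        one_mem' := ⟨1, Q.one_mem, 1, R.one_mem, (one_mul 1).symm⟩
        mul_mem' := by
          rintro x y ⟨q, hq, r, hr, rfl⟩ ⟨q', hq', r', hr', rfl⟩
          refine ⟨q * q', mul_mem hq hq', r * r', mul_mem hr hr', ?_⟩
          have := hcomm q' hq' r hr
          calc q * r * (q' * r') = q * (r * q') * r' := by group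
            _ = q * (q' * r) * r' := by rw [this]
            _ = q * q' * (r * r') := by group
        inv_mem' := by
          rintro x ⟨q, hq, r, hr, rfl⟩
          refine ⟨q⁻¹, Q.inv_mem hq, r⁻¹, R.inv_mem hr, ?_⟩
          rw [mul_inv_rev]
          exact (hcomm q⁻¹ (Q.inv_mem hq) r⁻¹ (R.inv_mem hr)).symm }
    have hle : Q ⊔ R ≤ T := sup_le (fun q hq => ⟨q, hq, 1, R.one_mem, (mul_one q).symm⟩)
      (fun r hr => ⟨1, Q.one_mem, r, hr, (one_mul r).symm⟩)
    exact hle (hsup.symm ▸ hx)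
  have huniq : ∀ q ∈ Q, ∀ r ∈ R, ∀ q' ∈ Q, ∀ r' ∈ R, q * r = q' * r' → q = q' ∧ r = r' := by
    intro q hq r hr q' hq' r' hr' h
    have h1 : q'⁻¹ * q = r' * r⁻¹ := by
      rw [inv_mul_eq_iff_eq_mul, ← mul_assoc, ← h, mul_inv_cancel_right]
    have h2 : q'⁻¹ * q ∈ Q ⊓ R := ⟨mul_mem (Q.inv_mem hq') hq, h1 ▸ mul_mem hr' (R.inv_mem hr)⟩
    rw [hinf, Subgroup.mem_bot] at h2
    refine ⟨(inv_mul_eq_one.mp h2).symm, ?_⟩
    rw [h2] at h1
    exact (mul_inv_eq_one.mp h1.symm).symm
  let pr : ↥(S : Subgroup G) → Q := fun x => ⟨(hdec x.1 x.2).choose, (hdec x.1 x.2).choose_spec.1⟩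
  have hpr : ∀ x : (S : Subgroup G), ∀ q ∈ Q, ∀ r ∈ R, (x : G) = q * r → (pr x : G) = q := by
    intro x q hq r hr h
    obtain ⟨hq0, r0, hr0, h0⟩ := (hdec x.1 x.2).choose_spec
    exact (huniq _ hq0 _ hr0 q hq r hr (h0.symm.trans h)).1
  let π : ↥(S : Subgroup G) →* Q := MonoidHom.mk' pr (fun x y => Subtype.ext (by
    obtain ⟨q, hq, r, hr, hx⟩ := hdec x.1 x.2
    obtain ⟨q', hq', r', hr', hy⟩ := hdec y.1 y.2
    rw [Subgroup.coe_mul, hpr x q hq r hr hx, hpr y q' hq' r' hr' hy]
    refine hpr (x * y) _ (mul_mem hq hq') (r * r') (mul_mem hr hr') ?_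
    rw [Subgroup.coe_mul, hx, hy]
    calc q * r * (q' * r') = q * (r * q') * r' := by group
      _ = q * (q' * r) * r' := by rw [hcomm q' hq' r hr]
      _ = q * q' * (r * r') := by group))
  have hπQ : ∀ (q : G) (hq : q ∈ Q), π ⟨q, hQS hq⟩ = ⟨q, hq⟩ := fun q hq =>
    Subtype.ext (hpr _ q hq 1 R.one_mem (mul_one q).symm)
  have hπR : ∀ (r : G) (hr : r ∈ R), π ⟨r, hRS hr⟩ = 1 := fun r hr =>
    Subtype.ext (hpr _ 1 Q.one_mem r hr (one_mul r).symm)
  have hπker : ∀ x : (S : Subgroup G), π x = 1 → (x : G) ∈ R := by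
    intro x hx
    obtain ⟨q, hq, r, hr, h⟩ := hdec x.1 x.2
    have h' : q = 1 := (hpr x q hq r hr h).symm.trans (congrArg Subtype.val hx)
    rw [h, h', one_mul]; exact hr
  -- the involution of Q
  set z0 : Q := eQ.symm (QuaternionGroup.a ((2 ^ n : ℕ) : ZMod (2 * 2 ^ n))) with hz0
  have hz0ne : z0 ≠ 1 := by
    intro h
    rw [hz0, MulEquiv.map_eq_one_iff, ← QuaternionGroup.a_zero] at h
    injection h with hi
    rw [ZMod.natCast_eq_zero_iff] at hi
    have := Nat.le_of_dvd (Nat.two_pow_pos n) hi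
    have := Nat.two_pow_pos n
    omega
  have hz0sq : z0 * z0 = 1 := by
    rw [hz0, ← map_mul, QuaternionGroup.a_mul_a, ← Nat.cast_add, ← two_mul, ZMod.natCast_self,
      QuaternionGroup.a_zero, map_one]
  have hz0uniq : ∀ q : Q, q * q = 1 → q = 1 ∨ q = z0 := by
    intro q hq
    rcases invol_quaternion (eQ q) (by rw [← map_mul, hq, map_one]) with h | h
    · exact Or.inl ((MulEquiv.map_eq_one_iff eQ).mp h)
    · exact Or.inr (eQ.eq_symm_apply.mpr h)
  obtain ⟨a, b, hab⟩ : ∃ a b : Q, z0 = a * b * a⁻¹ * b⁻¹ := by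
    refine ⟨eQ.symm (QuaternionGroup.a ((2 ^ (n - 1) : ℕ) : ZMod (2 * 2 ^ n))), eQ.symm (QuaternionGroup.xa 0), ?_⟩
    rw [hz0, ← map_inv, ← map_inv, ← map_mul, ← map_mul, ← map_mul]
    congr 1
    rw [eq_mul_inv_iff_mul_eq, eq_mul_inv_iff_mul_eq, QuaternionGroup.a_mul_xa, QuaternionGroup.xa_mul_a,
      QuaternionGroup.a_mul_xa]
    congr 1
    have h2 : (((2 ^ n : ℕ)) : ZMod (2 * 2 ^ n)) = ((2 ^ (n - 1) : ℕ) : ZMod (2 * 2 ^ n)) + ((2 ^ (n - 1) : ℕ) : ZMod (2 * 2 ^ n)) := by
      rw [← Nat.cast_add]; congr 1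
      rw [← two_mul, ← pow_succ']; congr 1; omega
    rw [h2]; ring
  -- involutions of S are central
  have hzQ : ∀ q : Q, q * z0 = z0 * q := by
    intro q
    rcases hz0uniq (q * z0 * q⁻¹) (by rw [← pow_two, conj_pow, pow_two, hz0sq]; simp) with h | h
    · exact absurd (conj_eq_one_iff.mp h) hz0ne
    · exact mul_inv_eq_iff_eq_mul.mp h
  have hcentral : ∀ x ∈ (S : Subgroup G), x * x = 1 → ∀ y ∈ (S : Subgroup G), x * y = y * x := by
    intro x hx hxx y hy
    obtain ⟨q, hq, r, hr, rfl⟩ := hdec x hx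
    obtain ⟨q', hq', r', hr', rfl⟩ := hdec y hy
    have e : q * r * (q * r) = q * q * (r * r) := by
      calc q * r * (q * r) = q * (r * q) * r := by group
        _ = q * (q * r) * r := by rw [hcomm q hq r hr]
        _ = q * q * (r * r) := by group
    rw [e] at hxx
    obtain ⟨h1, h2⟩ := huniq _ (mul_mem hq hq) _ (mul_mem hr hr) 1 Q.one_mem 1 R.one_mem (by rw [hxx, mul_one])
    have hqc : q * q' = q' * q := by
      rcases hz0uniq ⟨q, hq⟩ (Subtype.ext h1) with h | h
      · rw [show q = 1 from congrArg Subtype.val h, one_mul, mul_one]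
      · rw [show q = (z0 : G) from congrArg Subtype.val h]
        exact (congrArg Subtype.val (hzQ ⟨q', hq'⟩)).symm
    have hrc : r * r' = r' * r := by
      by_cases hr1 : r = 1
      · rw [hr1, one_mul, mul_one]
      · exact hR r hr (orderOf_eq_prime (by rw [pow_two]; exact h2) hr1) r' hr'
    calc q * r * (q' * r') = q * (r * q') * r' := by group
      _ = q * (q' * r) * r' := by rw [hcomm q' hq' r hr]
      _ = (q * q') * (r * r') := by group
      _ = (q' * q) * (r' * r) := by rw [hqc, hrc]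
      _ = q' * (q * r') * r := by group
      _ = q' * (r' * q) * r := by rw [hcomm q hq r' hr']
      _ = q' * r' * (q * r) := by group
  -- conjugates of z0 under the normaliser
  set z : G := (z0 : G) with hz
  have hzS : z ∈ (S : Subgroup G) := hQS z0.2
  set NS := Subgroup.normalizer ((S : Subgroup G) : Set G) with hNS
  have hkey : ∀ g ∈ NS, ∀ h : g * z * g⁻¹ ∈ (S : Subgroup G), π ⟨g * z * g⁻¹, h⟩ = z0 → g * z * g⁻¹ = z := by
    intro g hg hmem hπz
    have hcj : ∀ x ∈ (S : Subgroup G), g * x * g⁻¹ ∈ (S : Subgroup G) := fun x hx =>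
      (Subgroup.mem_normalizer_iff.mp hg x).mp hx
    let ι : Q →* (S : Subgroup G) :=
      MonoidHom.mk' (fun q => ⟨g * q * g⁻¹, hcj _ (hQS q.2)⟩) (fun x y => Subtype.ext (by
        show g * ((x * y : Q) : G) * g⁻¹ = g * x * g⁻¹ * (g * y * g⁻¹)
        rw [Subgroup.coe_mul]; group))
    have hιz : π (ι z0) = z0 := hπz
    have hinj : Function.Injective (π.comp ι) := by
      rw [injective_iff_map_eq_one]
      intro x hx
      by_contra hne
      obtain ⟨k, hk, hk0⟩ : ∃ k : ℕ, x ^ k * x ^ k = 1 ∧ x ^ k ≠ 1 := by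
        have hev : 2 ∣ orderOf x := by
          obtain ⟨j, hj⟩ := (S.isPGroup'.to_le hQS) x
          obtain ⟨i, -, hi⟩ := (Nat.dvd_prime_pow Nat.prime_two).mp (orderOf_dvd_of_pow_eq_one hj)
          rw [hi]
          exact dvd_pow_self 2 (fun h => hne (orderOf_eq_one_iff.mp (by rw [hi, h, pow_zero])))
        obtain ⟨k, hk⟩ := hev
        have := orderOf_pos x
        exact ⟨k, by rw [← pow_add, ← two_mul, ← hk, pow_orderOf_eq_one],
          pow_ne_one_of_lt_orderOf (by omega) (by omega)⟩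
      rcases hz0uniq _ hk with h | h
      · exact hk0 h
      · apply hz0ne
        rw [← hιz, ← h, map_pow, map_pow]
        change (π (ι x)) ^ k = 1
        rw [show π (ι x) = 1 from hx, one_pow]
    have hbij : Function.Bijective (π.comp ι) := Finite.injective_iff_bijective.mp hinj
    -- the second component centralises R
    have hρ : ∀ (x : Q) (r : G), r ∈ R → Commute r ((π (ι x) : G)⁻¹ * (ι x : G)) := by
      intro x r hr
      obtain ⟨q1, hq1, r1, hr1, hd⟩ := hdec (g⁻¹ * r * g) (by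
        have := (Subgroup.mem_normalizer_iff.mp hg (g⁻¹ * r * g)).mpr
        exact this (by rw [show g * (g⁻¹ * r * g) * g⁻¹ = r by group]; exact hRS hr))
      have hr1S : g * r1 * g⁻¹ ∈ (S : Subgroup G) := hcj _ (hRS hr1)
      have hre : r = (ι ⟨q1, hq1⟩ : G) * (g * r1 * g⁻¹) := by
        show r = g * q1 * g⁻¹ * (g * r1 * g⁻¹)
        rw [show g * q1 * g⁻¹ * (g * r1 * g⁻¹) = g * (q1 * r1) * g⁻¹ by group, ← hd]; group
      have hc : ∀ y : Q, Commute (g * r1 * g⁻¹) (ι y : G) := fun y => by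
        have := congrArg (fun w => g * w * g⁻¹) (hcomm y y.2 r1 hr1)
        show g * r1 * g⁻¹ * (g * y * g⁻¹) = g * y * g⁻¹ * (g * r1 * g⁻¹)
        simpa [mul_assoc] using this.symm
      have hpc : ∀ y : Q, Commute (π ⟨g * r1 * g⁻¹, hr1S⟩) ((π.comp ι) y) := fun y =>
        (show Commute (⟨g * r1 * g⁻¹, hr1S⟩ : (S : Subgroup G)) (ι y) from Subtype.ext (hc y)).map π
      have hq1c : Commute (⟨q1, hq1⟩ : Q) x := by
        apply hinj
        rw [map_mul, map_mul]
        have h1 : (1 : Q) = π (ι ⟨q1, hq1⟩) * π ⟨g * r1 * g⁻¹, hr1S⟩ := by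
          rw [← map_mul, ← hπR r hr]
          exact congrArg π (Subtype.ext hre)
        have h2 : (π.comp ι) ⟨q1, hq1⟩ = (π ⟨g * r1 * g⁻¹, hr1S⟩)⁻¹ := eq_inv_of_mul_eq_one_left h1.symm
        rw [h2]
        exact (hpc x).inv_left.eq
      have h3 : Commute r (ι x : G) := by
        rw [hre]
        exact ((show Commute (ι ⟨q1, hq1⟩) (ι x) from hq1c.map ι).map (S : Subgroup G).subtype).mul_left (hc x)
      exact (show Commute r (π (ι x) : G) from (hcomm _ (π (ι x)).2 r hr).symm).inv_right.mul_right h3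
    -- so the commutator z0 has trivial second component
    have hρR : ∀ x : Q, (π (ι x) : G)⁻¹ * (ι x : G) ∈ R := fun x => by
      have := hπker ((⟨(π (ι x) : G), hQS (π (ι x)).2⟩ : (S : Subgroup G))⁻¹ * ι x)
        (by rw [map_mul, map_inv, hπQ _ (π (ι x)).2, Subtype.coe_eta, inv_mul_cancel])
      simpa using this
    let ρ : Q →* G := MonoidHom.mk' (fun x => (π (ι x) : G)⁻¹ * (ι x : G)) (fun x y => by
      have h := hcomm _ (Q.inv_mem (π (ι y)).2) _ (hρR x)
      calc (π (ι (x * y)) : G)⁻¹ * (ι (x * y) : G)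
          = (π (ι y) : G)⁻¹ * ((π (ι x) : G)⁻¹ * (ι x : G)) * (ι y : G) := by
            rw [map_mul, map_mul, Subgroup.coe_mul, Subgroup.coe_mul]; group
        _ = (π (ι x) : G)⁻¹ * (ι x : G) * (π (ι y) : G)⁻¹ * (ι y : G) := by rw [h]
        _ = _ := by group)
    have hρz : ρ z0 = 1 := by
      have hcm : Commute (ρ a) (ρ b) := hρ b (ρ a) (hρR a)
      rw [hab, map_mul, map_mul, map_mul, map_inv, map_inv, hcm.eq, mul_inv_cancel_right, mul_inv_cancel]
    have : (π (ι z0) : G) = (ι z0 : G) := inv_mul_eq_one.mp hρz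
    rw [hιz] at this
    exact this.symm
  -- the product of the orbit
  set Z : Subgroup G :=
    { carrier := {x | x ∈ (S : Subgroup G) ∧ x * x = 1}
      one_mem' := ⟨(S : Subgroup G).one_mem, one_mul 1⟩
      mul_mem' := by
        rintro x y ⟨hx, hxx⟩ ⟨hy, hyy⟩
        refine ⟨mul_mem hx hy, ?_⟩
        calc x * y * (x * y) = x * (y * x) * y := by group
          _ = x * (x * y) * y := by rw [hcentral x hx hxx y hy]
          _ = (x * x) * (y * y) := by group
          _ = 1 := by rw [hxx, hyy, one_mul]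
      inv_mem' := by
        rintro x ⟨hx, hxx⟩
        exact ⟨(S : Subgroup G).inv_mem hx, by rw [← mul_inv_rev, hxx, inv_one]⟩ } with hZ
  letI : CommGroup Z :=
    { (inferInstance : Group Z) with
      mul_comm := fun x y => Subtype.ext (hcentral x x.2.1 x.2.2 y y.2.1) }
  have hNZ : ∀ g ∈ NS, ∀ x ∈ Z, g * x * g⁻¹ ∈ Z := fun g hg x hx =>
    ⟨(Subgroup.mem_normalizer_iff.mp hg x).mp hx.1, by rw [← pow_two, conj_pow, pow_two, hx.2]; simp⟩
  haveI : Fintype Z := Fintype.ofFinite Z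
  have hzZ : z ∈ Z := ⟨hzS, congrArg Subtype.val hz0sq⟩
  set O : Finset Z := Finset.univ.filter fun x => ∃ g ∈ NS, g * z * g⁻¹ = (x : G) with hO
  set w : Z := ∏ x ∈ O, x with hw
  let πZ : Z →* Q := π.comp (Subgroup.inclusion (fun x hx => hx.1))
  have hπw : πZ w = z0 := by
    have hzO : (⟨z, hzZ⟩ : Z) ∈ O :=
      Finset.mem_filter.mpr ⟨Finset.mem_univ _, 1, NS.one_mem, by simp⟩
    have h1 : ∀ s : Finset Z, (∀ x ∈ s, πZ x = 1) → πZ (∏ x ∈ s, x) = 1 := by
      intro s
      induction s using Finset.induction with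
      | empty => intro _; rw [Finset.prod_empty, map_one]
      | insert x s hxs ih =>
        intro h
        rw [Finset.prod_insert hxs, map_mul, h x (Finset.mem_insert_self _ _),
          ih (fun y hy => h y (Finset.mem_insert_of_mem hy)), one_mul]
    rw [hw, ← Finset.mul_prod_erase _ _ hzO, map_mul, h1 _ ?_, mul_one]
    · exact hπQ z z0.2
    · intro x hx
      obtain ⟨hne, hxO⟩ := Finset.mem_erase.mp hx
      obtain ⟨g, hg, hgx⟩ := (Finset.mem_filter.mp hxO).2
      rcases hz0uniq (πZ x) (by rw [← map_mul, show x * x = 1 from Subtype.ext x.2.2, map_one]) with h | h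
      · exact h
      · exfalso
        have hm : g * z * g⁻¹ ∈ (S : Subgroup G) := hgx ▸ x.2.1
        have h' : π ⟨g * z * g⁻¹, hm⟩ = z0 := by rw [← h]; exact congrArg π (Subtype.ext hgx)
        exact hne (Subtype.ext (hgx.symm.trans (hkey g hg hm h')))
  have hwne : (w : G) ≠ 1 := fun h => hz0ne (by rw [← hπw, show w = 1 from Subtype.ext h, map_one])
  have hwo : orderOf (w : G) = 2 := orderOf_eq_prime (by rw [pow_two]; exact w.2.2) hwne
  have hfix : ∀ g ∈ NS, g * (w : G) * g⁻¹ = w := by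
    intro g hg
    let σ : Z →* Z := MonoidHom.mk' (fun x => ⟨g * x * g⁻¹, hNZ g hg x x.2⟩) (fun x y => Subtype.ext (by
      show g * ((x * y : Z) : G) * g⁻¹ = g * x * g⁻¹ * (g * y * g⁻¹)
      rw [Subgroup.coe_mul]; group))
    have : σ w = w := by
      rw [hw, map_prod]
      refine Finset.prod_nbij' (fun x => σ x) (fun x => ⟨g⁻¹ * x * g, by simpa using hNZ g⁻¹ (NS.inv_mem hg) x x.2⟩)
        ?_ ?_ ?_ ?_ (fun x _ => rfl)
      · intro x hx
        obtain ⟨h, hh, hhx⟩ := (Finset.mem_filter.mp hx).2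
        exact Finset.mem_filter.mpr ⟨Finset.mem_univ _, g * h, NS.mul_mem hg hh, by
          show _ = g * (x : G) * g⁻¹
          rw [← hhx]; group⟩
      · intro x hx
        obtain ⟨h, hh, hhx⟩ := (Finset.mem_filter.mp hx).2
        exact Finset.mem_filter.mpr ⟨Finset.mem_univ _, g⁻¹ * h, NS.mul_mem (NS.inv_mem hg) hh, by
          show _ = g⁻¹ * (x : G) * g
          rw [← hhx]; group⟩
      · intro x _; apply Subtype.ext; show g⁻¹ * (g * (x : G) * g⁻¹) * g = x; group
      · intro x _; apply Subtype.ext; show g * (g⁻¹ * (x : G) * g) * g⁻¹ = x; group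
    exact congrArg Subtype.val this
  have hiso : IsIsolated (w : G) := by
    refine CfsgLib.ZStar.isolated_of_sylow S hwo w.2.1 fun g hg => ?_
    have hg2 : g * (w : G) * g⁻¹ * (g * (w : G) * g⁻¹) = 1 := by
      rw [← pow_two, conj_pow, pow_two, w.2.2]; simp
    have hc1 : (w : G) ∈ Subgroup.centralizer ((S : Subgroup G) : Set G) := fun y hy =>
      (hcentral _ w.2.1 w.2.2 y hy).symm
    have hc2 : g⁻¹⁻¹ * (w : G) * g⁻¹ ∈ Subgroup.centralizer ((S : Subgroup G) : Set G) := by
      rw [inv_inv]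
      exact fun y hy => (hcentral _ hg hg2 y hy).symm
    obtain ⟨k, hk, hk'⟩ := Sylow.conj_eq_normalizer_conj_of_mem_centralizer S (w : G) g⁻¹ hc1 hc2
    rw [inv_inv] at hk'
    rw [hk']
    simpa using hfix k⁻¹ (Subgroup.inv_mem _ hk)
  have hQnc : ¬ ∀ x y : Q, x * y = y * x := by
    intro h
    apply hz0ne
    rw [hab, h a b]; group
  rcases Subgroup.Normal.eq_bot_or_eq_top (inferInstance : (Cfsg.pPrimeCore 2 G).Normal) with e | e
  · have hwc : (w : G) ∈ Subgroup.center G := by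
      rw [Subgroup.mem_center_iff]
      intro g
      have := CfsgLib.ZStar.commutator_mem hwo hiso g
      rw [e, Subgroup.mem_bot, mul_inv_eq_one, mul_inv_eq_iff_eq_mul] at this
      exact this.symm
    rcases Subgroup.Normal.eq_bot_or_eq_top (inferInstance : (Subgroup.center G).Normal) with e' | e'
    · exact hwne (Subgroup.mem_bot.mp (e' ▸ hwc))
    · exact hQnc fun x y => Subtype.ext
        ((Subgroup.mem_center_iff.mp (e'.symm ▸ Subgroup.mem_top (y : G)) (x : G)))
  · have hodd := CfsgLib.card_pPrimeCore_coprime (G := G) 2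
    rw [e, Subgroup.card_top] at hodd
    have h2 : 2 ∣ Nat.card G := hwo ▸ orderOf_dvd_natCard (w : G)
    exact Nat.prime_two.coprime_iff_not_dvd.mp hodd.symm h2

end Cfsg.Agent.S3269
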