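import Cfsg.Statements.S3272
import Cfsg.Agent.Lib.NoEightConstrained.Main
import Cfsg.Agent.Lib.NoEightConstrained.Extra.Steps
import Cfsg.Agent.Lib.NoEightConstrained.QuatResidual
import Cfsg.Agent.Lib.NoEightConstrained.Quat.Main

set_option autoImplicit false
open Cfsg

namespace Cfsg.Agent.S3272

/-- Let G be a non-abelian finite simple group with a Sylow 2-subgroup T that has no normal elementary abelian subgroup of order 8, and suppose that for every involution t of T whose centralizer in T has index at most 2 in T, the centralizer C_G(t) is 2-constrained. Then G is isomorphic to PSL(2, q) for some q, to the alternating group of degree 7, to PSL(3, 3), PSU(3, 3) or PSU(3, 4), or G is simple of the order of the smallest Mathieu group or of the second or third Janko group. -/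
theorem result {G : Type*} [Group G] [Finite G] [IsSimpleGroup G] (hG : ¬ IsMulCommutative G)
    (T : Sylow 2 G)
    (hT : ∀ E : Subgroup G, E ≤ (T : Subgroup G) → Cfsg.IsElementaryAbelian 2 E → Nat.card ↥E = 8 →
      ¬ (E.subgroupOf (T : Subgroup G)).Normal)
    (hC : ∀ t ∈ (T : Subgroup G), orderOf t = 2 →
      (Subgroup.centralizer ({t} : Set G) ⊓ (T : Subgroup G)).relIndex (T : Subgroup G) ≤ 2 →
        Cfsg.IsPConstrained 2 ↥(Subgroup.centralizer ({t} : Set G))) :
    (∃ (F : Type) (_ : Field F) (_ : Fintype F), Nonempty (G ≃* Matrix.ProjectiveSpecialLinearGroup (Fin 2) F)) ∨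
      Nonempty (G ≃* ↥(alternatingGroup (Fin 7))) ∨ Cfsg.IsM11 G ∨
      (∃ (F : Type) (_ : Field F) (_ : Fintype F), Fintype.card F = 3 ∧ Nonempty (G ≃* Matrix.ProjectiveSpecialLinearGroup (Fin 3) F)) ∨
      (∃ (F : Type) (_ : Field F) (_ : Fintype F), Fintype.card F = 9 ∧ Nonempty (G ≃* Cfsg.PSU 3 F 3)) ∨
      (∃ (F : Type) (_ : Field F) (_ : Fintype F), Fintype.card F = 16 ∧ Nonempty (G ≃* Cfsg.PSU 3 F 4)) ∨
      Cfsg.IsJ2 G ∨ Cfsg.IsJ3 G := by
  refine CfsgLib.NoEightRankTwo.assembly hG T hC fun h2 hconn =>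
    CfsgLib.NoEightConstrained.connected_false hG T hT hC ?_ (fun c Q v a b hQ h => c.extra_false Q hQ v a b h) h2 hconn
  intro c Q q r l hQ h
  obtain ⟨hn, hle, h8, hz, h4, hR⟩ := c.quat_residual hQ h
  exact c.quat_false _ hle hn h8 hz (fun x hx hx2 => h.pair.involution hx hx2) h4 hR

end Cfsg.Agent.S3272
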