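import Cfsg.Statements.S3276
import Mathlib

set_option autoImplicit false
open Cfsg

namespace Cfsg.Agent.S3276



/-- Let x and y be commuting, non-conjugate involutions of a finite group G, and suppose that for every involution u commuting with x, each conjugate of y that commutes with u also commutes with y. Then the normal closure of y is a proper, normal, elementary abelian 2-subgroup of G; and if y is the only involution of that normal closure commuting with x, it has order at most 4. -/
theorem result {G : Type*} [Group G] [Finite G] (x y : G) (hx : orderOf x = 2) (hy : orderOf y = 2)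
    (hxy : Commute x y) (hnc : ¬ IsConj x y)
    (hstar : ∀ u : G, orderOf u = 2 → Commute u x → ∀ g : G, Commute (g * y * g⁻¹) u → Commute (g * y * g⁻¹) y) :
    Subgroup.normalClosure ({y} : Set G) ≠ ⊤ ∧ Cfsg.IsElementaryAbelian 2 (Subgroup.normalClosure ({y} : Set G)) ∧
      ((∀ u ∈ Subgroup.normalClosure ({y} : Set G), orderOf u = 2 → Commute u x → u = y) →
        Nat.card ↥(Subgroup.normalClosure ({y} : Set G)) ≤ 4) := by
  classical
  have hsq : ∀ z : G, orderOf z = 2 → z * z = 1 := fun z hz => by
    rw [← pow_two, ← hz, pow_orderOf_eq_one]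
  have inv2 : ∀ z : G, orderOf z = 2 → z⁻¹ = z := fun z hz => inv_eq_of_mul_eq_one_right (hsq z hz)
  have hord : ∀ g, orderOf (g * y * g⁻¹) = 2 := fun g => by
    rw [← hy, ← MulAut.conj_apply]; exact orderOf_injective (MulAut.conj g).toMonoidHom (MulEquiv.injective _) y
  have key : ∀ g : G, Commute (g * y * g⁻¹) y := by
    intro g
    set v := g * y * g⁻¹ with hv
    have hv2 : orderOf v = 2 := hord g
    set r := x * v with hr
    have hx' : x * r * x⁻¹ = r⁻¹ := by
      simp only [hr, mul_inv_rev, inv2 x hx, inv2 v hv2]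
      rw [← mul_assoc x x v, hsq x hx, one_mul]
    have hne : ¬ Odd (orderOf r) := by
      rintro ⟨k, hk⟩
      apply hnc
      have hpow : r ^ (2*k+1) = 1 := by rw [← hk, pow_orderOf_eq_one]
      have hconj : x * r ^ k * x⁻¹ = (r ^ k)⁻¹ := by rw [← conj_pow, hx', inv_pow]
      have e1 : r ^ k * x * (r ^ k)⁻¹ = r ^ (2*k) * x := by
        calc r ^ k * x * (r ^ k)⁻¹ = r ^ k * x * (x * r ^ k * x⁻¹) := by rw [hconj]
          _ = r ^ k * r ^ k * x := by
            simp only [← mul_assoc]; rw [mul_assoc _ x x, hsq x hx, mul_one, inv2 x hx]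
          _ = _ := by rw [← pow_add, two_mul]
      have e2 : r ^ (2*k) = r⁻¹ := eq_inv_of_mul_eq_one_left (by rw [← pow_succ]; exact hpow)
      have e3 : r ^ k * x * (r ^ k)⁻¹ = v := by
        rw [e1, e2, hr, mul_inv_rev, mul_assoc, inv_mul_cancel, mul_one, inv2 v hv2]
      exact (isConj_iff.mpr ⟨r ^ k, e3⟩).trans (isConj_iff.mpr ⟨g, rfl⟩).symm
    obtain ⟨k, hk⟩ := Nat.not_odd_iff_even.mp hne
    have hk0 : k ≠ 0 := by rintro rfl; exact (orderOf_pos r).ne' hk
    set w := r ^ k with hw
    have hw2 : orderOf w = 2 := by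
      rw [hw, orderOf_pow' r hk0, hk, ← two_mul, Nat.gcd_eq_right (dvd_mul_left k 2),
        Nat.mul_div_cancel _ (Nat.pos_of_ne_zero hk0)]
    have hwx : Commute w x := by
      have h1 : x * w * x⁻¹ = w := by
        rw [hw, ← conj_pow, hx', inv_pow, ← hw, inv2 w hw2]
      exact (mul_inv_eq_iff_eq_mul.mp h1).symm
    have hwr : Commute w r := (Commute.refl r).pow_left k
    have hwv : Commute v w := by
      have : v = x * r := by rw [hr, ← mul_assoc, hsq x hx, one_mul]
      rw [this]; exact (hwx.mul_right hwr).symm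
    exact hstar w hw2 hwx g hwv
  have hall : ∀ g h : G, Commute (g * y * g⁻¹) (h * y * h⁻¹) := fun g h => by
    have := Commute.map (key (h⁻¹ * g)) (MulAut.conj h).toMonoidHom
    convert this using 1 <;> simp [mul_assoc]
  set N := Subgroup.normalClosure ({y} : Set G) with hN
  have hconjset : ∀ a ∈ Group.conjugatesOfSet ({y} : Set G), ∃ g, g * y * g⁻¹ = a := fun a ha => by
    obtain ⟨z, hz, hc⟩ := Group.mem_conjugatesOfSet_iff.mp ha
    rw [Set.mem_singleton_iff] at hz; subst hz
    exact isConj_iff.mp hc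
  have hcommN : ∀ a ∈ N, ∀ b ∈ N, Commute a b := by
    intro a ha b hb
    refine Subgroup.closure_induction₂ (p := fun a b _ _ => Commute a b) ?_ ?_ ?_ ?_ ?_ ?_ ?_ ha hb
    · intro a b ha hb
      obtain ⟨g, rfl⟩ := hconjset a ha
      obtain ⟨h, rfl⟩ := hconjset b hb
      exact hall g h
    · intros; exact Commute.one_left _
    · intros; exact Commute.one_right _
    · intro _ _ _ _ _ _ h1 h2; exact h1.mul_left h2
    · intro _ _ _ _ _ _ h1 h2; exact h1.mul_right h2
    · intro _ _ _ _ h; exact h.inv_left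
    · intro _ _ _ _ h; exact h.inv_right
  have hexpN : ∀ a ∈ N, a ^ 2 = 1 := by
    intro a ha
    induction ha using Subgroup.closure_induction with
    | mem a ha => obtain ⟨g, rfl⟩ := hconjset a ha; rw [← hord g, pow_orderOf_eq_one]
    | one => simp
    | mul a b ha hb iha ihb => rw [(hcommN a ha b hb).mul_pow, iha, ihb, one_mul]
    | inv a ha iha => rw [inv_pow, iha, inv_one]
  have hyN : y ∈ N := Subgroup.subset_normalClosure (Set.mem_singleton y)
  have hne : N ≠ ⊤ := by
    intro htop
    apply hnc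
    have hN' : N = Subgroup.zpowers y := by
      apply le_antisymm _ (by simpa using hyN)
      haveI : (Subgroup.zpowers y).Normal := ⟨fun n hn g => by
        rw [(hcommN g (htop ▸ Subgroup.mem_top g) n (htop ▸ Subgroup.mem_top n)).eq, mul_inv_cancel_right]
        exact hn⟩
      exact Subgroup.normalClosure_le_normal (by simp)
    have hxy' : x ∈ Subgroup.zpowers y := hN' ▸ htop ▸ Subgroup.mem_top x
    obtain ⟨i, hi⟩ := mem_powers_iff_mem_zpowers.mpr hxy'
    simp only at hi
    obtain ⟨n, hn, hxn⟩ : ∃ m, m < 2 ∧ y ^ m = x :=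
      ⟨i % 2, Nat.mod_lt i two_pos, by rw [← hy, pow_mod_orderOf]; exact hi⟩
    interval_cases n
    · rw [pow_zero] at hxn; subst hxn; simp at hx
    · rw [pow_one] at hxn; exact hxn ▸ IsConj.refl y
  refine ⟨hne, ⟨⟨⟨fun a b => Subtype.ext (hcommN a a.2 b b.2)⟩⟩, hexpN⟩, fun huniq => ?_⟩
  have hnorm : N.Normal := Subgroup.normalClosure_normal
  let f : N → G := fun a => x * a * x⁻¹ * (a:G)⁻¹
  have hfC : ∀ a : N, f a = 1 ∨ f a = y := by
    intro a
    by_cases h1 : f a = 1
    · exact Or.inl h1
    right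
    have hmem : f a ∈ N := N.mul_mem (hnorm.conj_mem _ a.2 x) (N.inv_mem a.2)
    refine huniq _ hmem (orderOf_eq_prime (hexpN _ hmem) h1) ?_
    have hc := hcommN _ (hnorm.conj_mem _ a.2 x) _ a.2
    have ha2 : (a:G)⁻¹ = a := inv_eq_of_mul_eq_one_right (by rw [← pow_two]; exact hexpN a a.2)
    show f a * x = x * f a
    simp only [f, ha2, inv2 x hx]
    rw [inv2 x hx] at hc
    calc x * (a:G) * x * a * x = (x * a * x * a) * x := rfl
      _ = (a * (x * a * x)) * x := by rw [hc.eq]
      _ = a * x * a := by simp only [mul_assoc, hsq x hx, mul_one]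
      _ = x * (x * a * x * a) := by simp only [← mul_assoc, hsq x hx, one_mul]
  have hfib : ∀ a b : N, f a = f b → (b:G)⁻¹ * a = 1 ∨ (b:G)⁻¹ * a = y := by
    intro a b hab
    by_cases h1 : (b:G)⁻¹ * a = 1
    · exact Or.inl h1
    right
    have hmem : (b:G)⁻¹ * a ∈ N := N.mul_mem (N.inv_mem b.2) a.2
    refine huniq _ hmem (orderOf_eq_prime (hexpN _ hmem) h1) ?_
    simp only [f] at hab
    have hA := hcommN _ a.2 _ (N.inv_mem b.2)
    have e : x * (b:G)⁻¹ * x⁻¹ * (x * a * x⁻¹) = (b:G)⁻¹ * a := by
      have hab' : x * (a:G) * x⁻¹ = x * b * x⁻¹ * ((b:G)⁻¹ * a) := by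
        rw [← mul_assoc, ← hab, inv_mul_cancel_right]
      rw [hab']; group
    have e' : x * ((b:G)⁻¹ * a) * x⁻¹ = (b:G)⁻¹ * a := Eq.trans (by group) e
    exact (mul_inv_eq_iff_eq_mul.mp e').symm
  calc Nat.card N ≤ Nat.card (Fin 2 × Fin 2) := by
        choose rep hrep using fun i : Fin 2 => show ∃ b : N, (∃ a : N, f a = if i = 0 then 1 else y) →
            f b = if i = 0 then 1 else y from by
          by_cases h : ∃ a : N, f a = if i = 0 then 1 else y
          · exact ⟨h.choose, fun _ => h.choose_spec⟩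
          · exact ⟨1, fun h' => absurd h' h⟩
        have hy1 : y ≠ 1 := by rintro rfl; simp at hy
        let i : N → Fin 2 := fun a => if f a = 1 then 0 else 1
        have hi : ∀ a, f (rep (i a)) = f a := fun a => by
          have e : f a = if i a = 0 then 1 else y := by
            rcases hfC a with h | h <;> simp [i, h, hy1]
          rw [hrep (i a) ⟨a, e⟩, e]
        refine Nat.card_le_card_of_injective
          (fun a : N => (i a, if ((rep (i a) : N) : G)⁻¹ * a = 1 then 0 else 1)) ?_
        intro a b hab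
        simp only [Prod.mk.injEq] at hab
        obtain ⟨h1, h2⟩ := hab
        have pa := hfib a (rep (i a)) (hi a).symm
        have pb := hfib b (rep (i b)) (hi b).symm
        rw [← h1] at pb h2
        apply Subtype.ext
        apply mul_left_cancel (a := ((rep (i a) : N) : G)⁻¹)
        rcases pa with pa | pa <;> rcases pb with pb | pb <;> simp [pa, pb, hy1] at h2 ⊢
    _ = 4 := by simp

end Cfsg.Agent.S3276
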