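import Mathlib
import Cfsg.Statements.S3279
import Cfsg.Agent.Lib.ZStar.Main
import Cfsg.Agent.Lib.Involutions

set_option autoImplicit false
open Cfsg

namespace Cfsg.Agent.S3279

open Subgroup

variable {G : Type*} [Group G] [Finite G]

theorem exists_common {u v : G} (hu : orderOf u = 2) (hv : orderOf v = 2) (h : ¬ IsConj u v) :
    ∃ i : G, orderOf i = 2 ∧ Commute i u ∧ Commute i v := by
  have su := CfsgLib.Involutions.mul_self_eq_one_of_orderOf hu
  have sv := CfsgLib.Involutions.mul_self_eq_one_of_orderOf hv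
  have heven : Even (orderOf (u * v)) := by
    rw [← Nat.not_odd_iff_even]
    intro ho
    obtain ⟨d, -, hd⟩ := CfsgLib.Involutions.exists_conj_eq_of_odd su sv ho
    exact h (isConj_iff.mpr ⟨d, hd⟩)
  obtain ⟨c1, c2⟩ := CfsgLib.Involutions.central_half su sv heven
  exact ⟨_, CfsgLib.Involutions.orderOf_half (x := u) (y := v) heven, c1, c2⟩

variable [IsSimpleGroup G]

theorem center_eq_bot (hnc : ¬ ∀ a b : G, a * b = b * a) : Subgroup.center G = ⊥ := by
  rcases Subgroup.Normal.eq_bot_or_eq_top (inferInstance : (Subgroup.center G).Normal) with e | e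
  · exact e
  · exact absurd (fun a b => ((Subgroup.mem_center_iff.mp (e ▸ Subgroup.mem_top a)) b).symm) hnc

theorem not_isolated (hnc : ¬ ∀ a b : G, a * b = b * a) {u : G} (hu : orderOf u = 2) :
    ∃ g : G, Commute u (g * u * g⁻¹) ∧ g * u * g⁻¹ ≠ u := by
  by_contra h
  push Not at h
  haveI : Fact (Nat.Prime 2) := ⟨Nat.prime_two⟩
  have hZ := CfsgLib.ZStar.commutator_mem hu h
  have hO : pPrimeCore 2 G = ⊥ := by
    rcases Subgroup.Normal.eq_bot_or_eq_top (inferInstance : (pPrimeCore 2 G).Normal) with e | e
    · exact e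
    · exfalso
      have hc := CfsgLib.card_pPrimeCore_coprime (G := G) 2
      rw [e, Subgroup.card_top] at hc
      exact (Nat.Prime.coprime_iff_not_dvd Nat.prime_two).mp hc.symm (hu ▸ orderOf_dvd_natCard u)
  have hu' : u ∈ Subgroup.center G := by
    rw [Subgroup.mem_center_iff]
    intro g
    have h1 := hZ g
    rw [hO, Subgroup.mem_bot, mul_inv_eq_one, mul_inv_eq_iff_eq_mul] at h1
    exact h1.symm
  rw [center_eq_bot hnc, Subgroup.mem_bot] at hu'
  rw [hu', orderOf_one] at hu
  norm_num at hu

theorem isConj_all (hnc : ¬ ∀ a b : G, a * b = b * a) (x : G) (hx : orderOf x = 2)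
    (h3 : Nat.card {u : ↥(Subgroup.centralizer ({x} : Set G)) // orderOf u = 2} ≤ 3) :
    ∀ y : G, orderOf y = 2 → IsConj x y := by
  classical
  haveI := Fintype.ofFinite G
  let I := Finset.univ.filter fun i : G => orderOf i = 2 ∧ Commute i x
  have hI : I.card ≤ 3 := by
    refine le_trans ?_ h3
    rw [← Nat.card_eq_finsetCard]
    refine Nat.card_le_card_of_injective (fun i : {i // i ∈ I} =>
      (⟨⟨i.1, Subgroup.mem_centralizer_singleton_iff.mpr ((Finset.mem_filter.mp i.2).2.2).eq⟩, by
        rw [Subgroup.orderOf_mk]; exact (Finset.mem_filter.mp i.2).2.1⟩ :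
        {u : ↥(Subgroup.centralizer ({x} : Set G)) // orderOf u = 2})) fun a b e => ?_
    exact Subtype.ext (congrArg (fun z => (z.1 : G)) e)
  obtain ⟨g, hcomm, hne⟩ := not_isolated hnc hx
  set x' := g * x * g⁻¹ with hx'
  have hxx' : IsConj x x' := isConj_iff.mpr ⟨g, rfl⟩
  have sx := CfsgLib.Involutions.mul_self_eq_one_of_orderOf hx
  have hx'o : orderOf x' = 2 := by rw [hx', CfsgLib.Involutions.orderOf_conj, hx]
  have sx' := CfsgLib.Involutions.mul_self_eq_one_of_orderOf hx'o
  set w := x * x' with hw
  have hw1 : w ≠ 1 := fun e => hne (by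
    rw [← inv_eq_of_mul_eq_one_right e, inv_eq_of_mul_eq_one_right sx])
  have hwo : orderOf w = 2 := by
    refine CfsgLib.Involutions.orderOf_eq_two_iff'.mpr ⟨?_, hw1⟩
    calc w * w = x * (x' * x) * x' := by rw [hw]; simp only [mul_assoc]
      _ = x * (x * x') * x' := by rw [hcomm.eq]
      _ = (x * x) * (x' * x') := by simp only [mul_assoc]
      _ = 1 := by rw [sx, sx', one_mul]
  have hwx : Commute w x := (Commute.refl x).mul_left hcomm.symm
  have hIeq : ∀ i : G, orderOf i = 2 → Commute i x → i = x ∨ i = x' ∨ i = w := by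
    intro i hi hc
    have hsub : ({x, x', w} : Finset G) ⊆ I := by
      intro j hj
      simp only [Finset.mem_insert, Finset.mem_singleton] at hj
      rcases hj with rfl | rfl | rfl
      · exact Finset.mem_filter.mpr ⟨Finset.mem_univ _, hx, Commute.refl _⟩
      · exact Finset.mem_filter.mpr ⟨Finset.mem_univ _, hx'o, hcomm.symm⟩
      · exact Finset.mem_filter.mpr ⟨Finset.mem_univ _, hwo, hwx⟩
    have hcard : ({x, x', w} : Finset G).card = 3 := by
      rw [Finset.card_insert_of_notMem, Finset.card_pair]
      · intro e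
        rw [hw] at e
        exact (show x ≠ 1 from fun e1 => by rw [e1, orderOf_one] at hx; norm_num at hx)
          (mul_eq_right.mp e.symm)
      · simp only [Finset.mem_insert, Finset.mem_singleton, not_or]
        refine ⟨hne.symm, fun e => ?_⟩
        rw [hw] at e
        exact (show x' ≠ 1 from fun e1 => by rw [e1, orderOf_one] at hx'o; norm_num at hx'o)
          (mul_eq_left.mp e.symm)
    have he := Finset.eq_of_subset_of_card_le hsub (by omega)
    have : i ∈ ({x, x', w} : Finset G) := he ▸ Finset.mem_filter.mpr ⟨Finset.mem_univ _, hi, hc⟩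
    simpa using this
  intro y hy
  by_contra hy'
  by_cases hwc : IsConj x w
  · -- all three are conjugate to `x`
    obtain ⟨i, hi, hix, hiy⟩ := exists_common hx hy hy'
    have hxi : IsConj x i := by
      rcases hIeq i hi hix with e | e | e <;> subst i
      · exact IsConj.refl x
      · exact hxx'
      · exact hwc
    obtain ⟨d, rfl⟩ := isConj_iff.mp hxi
    have hy2 : Commute (d⁻¹ * y * d) x := by
      have := (hiy.map (MulAut.conj d⁻¹).toMonoidHom).symm
      simpa [mul_assoc] using this
    have hyx : IsConj (d⁻¹ * y * d) y := isConj_iff.mpr ⟨d, by group⟩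
    have ho : orderOf (d⁻¹ * y * d) = 2 := by
      rw [← hy]; exact (CfsgLib.Involutions.orderOf_conj d⁻¹ y |>.trans rfl) ▸ by simp
    rcases hIeq _ ho hy2 with e | e | e <;> rw [e] at hyx
    · exact hy' hyx
    · exact hy' (hxx'.trans hyx)
    · exact hy' (hwc.trans hyx)
  · -- the conjugates of `w` commute pairwise
    have hI' : ∀ i : G, orderOf i = 2 → Commute i x' → IsConj x i ∨ i = w := by
      intro i hi hc
      by_contra hcon
      push Not at hcon
      have hbig : (({x', x, w, i} : Finset G)).card ≤ 3 := by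
        refine le_trans ?_ hI
        refine Finset.card_le_card_of_injOn (fun j => g⁻¹ * j * g) ?_ fun a _ b _ e => by simpa using e
        intro j hj
        have hj' : orderOf j = 2 ∧ Commute j x' := by
          simp only [Finset.coe_insert, Finset.coe_singleton, Set.mem_insert_iff,
            Set.mem_singleton_iff] at hj
          rcases hj with rfl | rfl | rfl | rfl
          · exact ⟨hx'o, Commute.refl _⟩
          · exact ⟨hx, hcomm⟩
          · exact ⟨hwo, hcomm.mul_left (Commute.refl x')⟩
          · exact ⟨hi, hc⟩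
        refine Finset.mem_filter.mpr ⟨Finset.mem_univ _, ?_, ?_⟩
        · have := CfsgLib.Involutions.orderOf_conj g⁻¹ j
          rw [inv_inv] at this
          rw [this, hj'.1]
        · have := hj'.2.map (MulAut.conj g⁻¹).toMonoidHom
          simpa [hx', mul_assoc] using this
      have h4 : (({x', x, w, i} : Finset G)).card = 4 := by
        rw [Finset.card_insert_of_notMem, Finset.card_insert_of_notMem, Finset.card_pair]
        · exact fun e => hcon.2 e.symm
        · simp only [Finset.mem_insert, Finset.mem_singleton, not_or]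
          exact ⟨fun e => hwc (e ▸ IsConj.refl x), fun e => hcon.1 (e ▸ IsConj.refl x)⟩
        · simp only [Finset.mem_insert, Finset.mem_singleton, not_or]
          exact ⟨hne, fun e => hwc (e ▸ hxx'), fun e => hcon.1 (e ▸ hxx')⟩
      omega
    have key : ∀ v : G, orderOf v = 2 → ¬ IsConj x v → Commute w v := by
      intro v hv hv'
      obtain ⟨i, hi, hix, hiv⟩ := exists_common hx hv hv'
      rcases hIeq i hi hix with e | e | e <;> subst i
      · rcases hIeq v hv hiv.symm with e | e | e
        · exact absurd (e ▸ IsConj.refl x) hv'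
        · exact absurd (e ▸ hxx') hv'
        · rw [e]
      · rcases hI' v hv hiv.symm with e | e
        · exact absurd e hv'
        · rw [e]
      · exact hiv
    have hcl : ∀ a ∈ Group.conjugatesOfSet ({w} : Set G), ∀ b ∈ Group.conjugatesOfSet ({w} : Set G),
        a * b = b * a := by
      intro a ha b hb
      simp only [Group.mem_conjugatesOfSet_iff, Set.mem_singleton_iff, exists_eq_left] at ha hb
      obtain ⟨c, rfl⟩ := isConj_iff.mp ha
      obtain ⟨e, rfl⟩ := isConj_iff.mp hb
      have hk := key ((c⁻¹ * e) * w * (c⁻¹ * e)⁻¹) (by rw [CfsgLib.Involutions.orderOf_conj, hwo])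
        (fun h => hwc (h.trans (isConj_iff.mpr ⟨c⁻¹ * e, rfl⟩).symm))
      have := hk.map (MulAut.conj c).toMonoidHom
      simpa [mul_assoc] using this.eq
    have htop : Subgroup.normalClosure ({w} : Set G) = ⊤ := by
      rcases Subgroup.Normal.eq_bot_or_eq_top (inferInstance : (Subgroup.normalClosure ({w} : Set G)).Normal)
        with e | e
      · exact absurd (Subgroup.mem_bot.mp (e ▸ Subgroup.subset_normalClosure (Set.mem_singleton w))) hw1
      · exact e
    haveI := Subgroup.isMulCommutative_closure hcl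
    refine hnc fun a b => ?_
    have hmem : ∀ a : G, a ∈ Subgroup.closure (Group.conjugatesOfSet ({w} : Set G)) := fun a => by
      show a ∈ Subgroup.normalClosure ({w} : Set G)
      rw [htop]; trivial
    exact congrArg Subtype.val
      ((IsMulCommutative.is_comm (M := ↥(Subgroup.closure (Group.conjugatesOfSet ({w} : Set G))))).comm
        ⟨a, hmem a⟩ ⟨b, hmem b⟩)

/-- Let G be a finite simple group and x an involution of G whose centralizer contains at most three involutions. Then C_G(x) contains a Sylow 2-subgroup of G, and all involutions of G are conjugate. -/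
theorem result {G : Type*} [Group G] [Finite G] [IsSimpleGroup G] (x : G) (hx : orderOf x = 2)
    (h3 : Nat.card {u : ↥(Subgroup.centralizer ({x} : Set G)) // orderOf u = 2} ≤ 3) :
    (∃ S : Sylow 2 G, (S : Subgroup G) ≤ Subgroup.centralizer ({x} : Set G)) ∧
      ∀ u v : G, orderOf u = 2 → orderOf v = 2 → IsConj u v := by
  haveI : Fact (Nat.Prime 2) := ⟨Nat.prime_two⟩
  by_cases hnc : ∀ a b : G, a * b = b * a
  · -- `G` abelian, hence of order two
    have hz : Subgroup.zpowers x = ⊤ := by
      have hn : (Subgroup.zpowers x).Normal :=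
        ⟨fun n hn g => by rwa [hnc g n, mul_inv_cancel_right]⟩
      rcases hn.eq_bot_or_eq_top with e | e
      · rw [Subgroup.zpowers_eq_bot] at e
        rw [e, orderOf_one] at hx; norm_num at hx
      · exact e
    have huniq : ∀ u : G, orderOf u = 2 → u = x := by
      intro u hu
      obtain ⟨k, hk⟩ := Subgroup.mem_zpowers_iff.mp (hz ▸ Subgroup.mem_top u)
      rcases Int.even_or_odd k with ⟨j, rfl⟩ | ⟨j, rfl⟩
      · rw [← two_mul, zpow_mul, zpow_two, CfsgLib.Involutions.mul_self_eq_one_of_orderOf hx,
          one_zpow] at hk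
        rw [← hk, orderOf_one] at hu; norm_num at hu
      · rw [zpow_add_one, zpow_mul, zpow_two, CfsgLib.Involutions.mul_self_eq_one_of_orderOf hx,
          one_zpow, one_mul] at hk
        exact hk.symm
    obtain ⟨S⟩ : Nonempty (Sylow 2 G) := inferInstance
    exact ⟨⟨S, fun s _ => Subgroup.mem_centralizer_singleton_iff.mpr (hnc s x)⟩,
      fun u v hu hv => by rw [huniq u hu, huniq v hv]⟩
  have hall := isConj_all hnc x hx h3
  refine ⟨?_, fun u v hu hv => (hall u hu).symm.trans (hall v hv)⟩
  obtain ⟨S⟩ : Nonempty (Sylow 2 G) := inferInstance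
  have hS : Nontrivial (S : Subgroup G) := by
    rw [← Finite.one_lt_card_iff_nontrivial]
    exact lt_of_lt_of_le (by norm_num) (Nat.le_of_dvd Nat.card_pos
      (Sylow.dvd_card_of_dvd_card S (hx ▸ orderOf_dvd_natCard x)))
  haveI : Nontrivial (Subgroup.center (S : Subgroup G)) := S.2.center_nontrivial
  obtain ⟨z, hz⟩ := exists_prime_orderOf_dvd_card' 2 (show 2 ∣ Nat.card (Subgroup.center (S : Subgroup G)) by
    obtain ⟨k, hk⟩ := (S.2.to_subgroup (Subgroup.center (S : Subgroup G))).exists_card_eq
    have h1 : 1 < Nat.card (Subgroup.center (S : Subgroup G)) := Finite.one_lt_card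
    rcases k with _ | k
    · omega
    · rw [hk]; exact dvd_pow_self 2 k.succ_ne_zero)
  have hzo : orderOf ((z : (S : Subgroup G)) : G) = 2 := by
    rw [Subgroup.orderOf_coe, Subgroup.orderOf_coe, hz]
  obtain ⟨d, hd⟩ := isConj_iff.mp ((hall _ hzo).symm)
  refine ⟨d • S, fun s hs => ?_⟩
  rw [Sylow.coe_subgroup_smul] at hs
  obtain ⟨s', hs', rfl⟩ := Subgroup.mem_map.mp hs
  rw [Subgroup.mem_centralizer_singleton_iff, ← hd]
  have hcs := congrArg Subtype.val (Subgroup.mem_center_iff.mp z.2 ⟨s', hs'⟩)
  show d * s' * d⁻¹ * _ = _ * (d * s' * d⁻¹)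
  calc d * s' * d⁻¹ * (d * ((z : (S : Subgroup G)) : G) * d⁻¹) = d * (s' * z.1.1) * d⁻¹ := by group
    _ = d * (z.1.1 * s') * d⁻¹ := by rw [show s' * z.1.1 = z.1.1 * s' from hcs]
    _ = _ := by group

end Cfsg.Agent.S3279
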