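import Cfsg.Statements.S3283
import Cfsg.Agent.Lib.SymThreeAltSix.Apply

set_option autoImplicit false
open Cfsg

namespace Cfsg.Agent.S3283

/-- Let G be a finite group with an involution z whose centralizer M has Q = O₂(M) extraspecial of order 2⁹ with C_M(Q) ≤ Q, and M/Q isomorphic to S₃ × A₆ or to S₃ × S₆. Then G is not simple. -/
theorem result {G : Type*} [Group G] [Finite G] (z : G) (hz : orderOf z = 2)
    (hQ : Cfsg.IsExtraspecial 2 ↥(Cfsg.pCore 2 ↥(Subgroup.centralizer ({z} : Set G)))) (hQ9 : Nat.card ↥(Cfsg.pCore 2 ↥(Subgroup.centralizer ({z} : Set G))) = 2 ^ 9)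
    (hCQ : Subgroup.centralizer ((Cfsg.pCore 2 ↥(Subgroup.centralizer ({z} : Set G))) : Set ↥(Subgroup.centralizer ({z} : Set G))) ≤ Cfsg.pCore 2 ↥(Subgroup.centralizer ({z} : Set G)))
    (hMQ : Nonempty (↥(Subgroup.centralizer ({z} : Set G)) ⧸ Cfsg.pCore 2 ↥(Subgroup.centralizer ({z} : Set G)) ≃* (Equiv.Perm (Fin 3) × ↥(alternatingGroup (Fin 6)))) ∨
      Nonempty (↥(Subgroup.centralizer ({z} : Set G)) ⧸ Cfsg.pCore 2 ↥(Subgroup.centralizer ({z} : Set G)) ≃* (Equiv.Perm (Fin 3) × Equiv.Perm (Fin 6)))) :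
    ¬ IsSimpleGroup G := by
  classical
  set M := Subgroup.centralizer ({z} : Set G) with hM
  set N := Cfsg.pCore 2 ↥M with hN
  have hcard : Nat.card ↥(CfsgLargeExtra.coreCent z) = 512 := by
    rw [CfsgLargeExtra.coreCent, Subgroup.card_map_of_injective (Subgroup.subtype_injective _)]
    exact hQ9.trans (by norm_num)
  have hE : Cfsg.IsExtraspecial 2 ↥(CfsgLargeExtra.coreCent z) :=
    CfsgSTS.extraspecial_congr (N.equivMapOfInjective M.subtype (Subgroup.subtype_injective _)) hQ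
  have hzM : z ∈ M := Subgroup.mem_centralizer_singleton_iff.mpr rfl
  have hzN : (⟨z, hzM⟩ : M) ∈ N := hCQ (Subgroup.mem_centralizer_iff.mpr fun q _ =>
    Subtype.ext (Subgroup.mem_centralizer_singleton_iff.mp q.2))
  have hC : Subgroup.centralizer ((CfsgLargeExtra.coreCent z : Subgroup G) : Set G) ≤ CfsgLargeExtra.coreCent z := by
    intro c hc
    rw [Subgroup.mem_centralizer_iff] at hc
    have hcM : c ∈ M := Subgroup.mem_centralizer_singleton_iff.mpr (hc z ⟨⟨z, hzM⟩, hzN, rfl⟩).symm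
    exact ⟨⟨c, hcM⟩, hCQ (Subgroup.mem_centralizer_iff.mpr fun q hq => Subtype.ext (hc q ⟨q, hq, rfl⟩)), rfl⟩
  have hes := CfsgLargeExtra.ES.of_setting CfsgLargeExtra.coreCent (fun _ => rfl) hz hE hC
  rcases hMQ with ⟨⟨e⟩⟩ | ⟨⟨e⟩⟩
  · refine (CfsgSTS.Cfg.ofHom hes hcard N rfl
      ((MonoidHom.prodMap (MonoidHom.id _) (alternatingGroup (Fin 6)).subtype).comp
        (e.toMonoidHom.comp (QuotientGroup.mk' N))) ?_ ?_).not_simple
    · rw [MonoidHom.ker_comp_of_injective _ _ ?_, MonoidHom.ker_comp_of_injective _ _ e.injective, QuotientGroup.ker_mk']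
      intro a b h
      exact Prod.ext (congrArg Prod.fst h :) (Subtype.ext (congrArg Prod.snd h :))
    · intro w hw
      obtain ⟨a, ha⟩ := (e.surjective.comp (QuotientGroup.mk'_surjective N))
        (w.1, ⟨w.2, Equiv.Perm.mem_alternatingGroup.mpr (CfsgSTS.psi_eq_one.mp hw).2⟩)
      let f : Equiv.Perm (Fin 3) × ↥(alternatingGroup (Fin 6)) → Equiv.Perm (Fin 3) × Equiv.Perm (Fin 6) :=
        fun p => (p.1, p.2.1)
      exact ⟨a, congrArg f ha⟩
  · refine (CfsgSTS.Cfg.ofHom hes hcard N rfl (e.toMonoidHom.comp (QuotientGroup.mk' N)) ?_ ?_).not_simple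
    · rw [MonoidHom.ker_comp_of_injective _ _ e.injective, QuotientGroup.ker_mk']
    · intro w _
      exact (e.surjective.comp (QuotientGroup.mk'_surjective N)) w

end Cfsg.Agent.S3283
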