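import Cfsg.Statements.S3284
import Cfsg.Agent.Lib.SymThreeAltSix.Apply

set_option autoImplicit false
open Cfsg

namespace Cfsg.Agent.S3284

/-- There is no non-abelian finite simple group with an involution z whose centralizer M has generalized Fitting subgroup Q = F*(M) extraspecial of order 2⁹ and M/Q isomorphic to the subgroup of S₃ × S₆ consisting of the pairs of permutations with equal sign (a group (3 × A₆)·2 in which an involution outside 3 × A₆ induces S₃ on the first factor and S₆ on the second). -/
theorem result {G : Type*} [Group G] [Finite G] [IsSimpleGroup G] (hG : ¬ IsMulCommutative G) (z : G) (hz : orderOf z = 2)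
    [hn : (Cfsg.generalizedFittingSubgroup ↥(Subgroup.centralizer ({z} : Set G))).Normal]
    (hQ : Cfsg.IsExtraspecial 2 ↥(Cfsg.generalizedFittingSubgroup ↥(Subgroup.centralizer ({z} : Set G)))) (hQ9 : Nat.card ↥(Cfsg.generalizedFittingSubgroup ↥(Subgroup.centralizer ({z} : Set G))) = 2 ^ 9)
    (e : (↥(Subgroup.centralizer ({z} : Set G)) ⧸ Cfsg.generalizedFittingSubgroup ↥(Subgroup.centralizer ({z} : Set G))) ≃*
      ↥(MonoidHom.ker (Equiv.Perm.sign.comp (MonoidHom.fst (Equiv.Perm (Fin 3)) (Equiv.Perm (Fin 6))) *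
          Equiv.Perm.sign.comp (MonoidHom.snd (Equiv.Perm (Fin 3)) (Equiv.Perm (Fin 6)))))) :
    False := by
  classical
  set M := Subgroup.centralizer ({z} : Set G) with hM
  set N := Cfsg.generalizedFittingSubgroup ↥M with hN
  have hcard : Nat.card ↥(N.map M.subtype) = 512 := by
    rw [Subgroup.card_map_of_injective (Subgroup.subtype_injective _)]
    exact hQ9.trans (by norm_num)
  have hes := (CfsgLargeExtra.ES.of_fitting z hz hM _ rfl
    (CfsgSTS.extraspecial_congr (N.equivMapOfInjective M.subtype (Subgroup.subtype_injective _)) hQ)).1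
  refine (CfsgSTS.Cfg.ofHom hes hcard N rfl
    ((Subgroup.subtype _).comp (e.toMonoidHom.comp (QuotientGroup.mk' N))) ?_ ?_).not_simple ‹IsSimpleGroup G›
  · rw [MonoidHom.ker_comp_of_injective _ _ (Subgroup.subtype_injective _),
      MonoidHom.ker_comp_of_injective _ _ e.injective, QuotientGroup.ker_mk']
  · intro w hw
    obtain ⟨h1, h2⟩ := CfsgSTS.psi_eq_one.mp hw
    obtain ⟨a, ha⟩ := (e.surjective.comp (QuotientGroup.mk'_surjective N))
      ⟨w, by simp [MonoidHom.mem_ker, h1, h2]⟩
    exact ⟨a, congrArg Subtype.val ha⟩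

end Cfsg.Agent.S3284
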