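import Cfsg.Statements.S3285
import Cfsg.Agent.Lib.InvTimesAlt.Main
-- import your own Cfsg.Agent.* helpers here

set_option autoImplicit false
open Cfsg

namespace Cfsg.Agent.S3285

/-- Let G be a finite non-solvable group with no normal subgroup of index 2, and J an involution lying in the centre of a Sylow 2-subgroup of G whose centralizer is the internal direct product of ⟨J⟩ with a subgroup isomorphic to the alternating group of degree m. Then either m = 4 and G is isomorphic to the automorphism group PΓL(2, 8) of PSL(2, 8), or m = 5 and G is isomorphic to the first Janko group. -/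
theorem result {G : Type*} [Group G] [Finite G] (hns : ¬ Group.IsSolvable G) (h2 : ∀ N : Subgroup G, N.Normal → N.index ≠ 2)
    (J : G) (hJ : Cfsg.IsTwoCentralInvolution J) (m : ℕ) (T : Subgroup G)
    (hT : Nonempty (↥T ≃* ↥(alternatingGroup (Fin m))))
    (hd : Cfsg.IsInternalDirectProduct (Subgroup.zpowers J) T (Subgroup.centralizer ({J} : Set G))) :
    (m = 4 ∧ ∃ (F : Type) (_ : Field F) (_ : Fintype F), Fintype.card F = 8 ∧
        Nonempty (G ≃* MulAut (Matrix.ProjectiveSpecialLinearGroup (Fin 2) F))) ∨
      (m = 5 ∧ Cfsg.Spor.IsoJ1 G) := by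
  classical
  haveI : Fact (Nat.Prime 2) := ⟨Nat.prime_two⟩
  have h := CfsgLib.InvTimesAlt.times_of hJ hd
  obtain ⟨e⟩ := hT
  obtain ⟨P, hP, hPC⟩ := h.central
  have hcard : Nat.card ↥T = Nat.card ↥(alternatingGroup (Fin m)) := Nat.card_congr e.toEquiv
  rcases h.degree h2 e with rfl | rfl
  · have h12 : Nat.card ↥T = 12 := by
      rw [hcard, nat_card_alternatingGroup, Nat.card_eq_fintype_card, Fintype.card_fin]; rfl
    have hs : CfsgLib.InvTimesAlt.Small J T P :=
      { toTimes := h, memS := hP, leS := hPC, facts := CfsgLib.InvTimesAlt.facts_four.of_equiv e,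
        cardT := Or.inl h12, transfer := h.exists_conj h2 }
    have hc4 : ∀ a b : ↥(alternatingGroup (Fin 4)), a * a = 1 → b * b = 1 → a * b = b * a := by decide +kernel
    refine Or.inl ⟨rfl, hs.four hns h12 fun a b ha hb => e.injective ?_⟩
    rw [map_mul, map_mul, hc4 (e a) (e b) (by rw [← map_mul, ha, map_one]) (by rw [← map_mul, hb, map_one])]
  · have h60 : Nat.card ↥T = 60 := by
      rw [hcard, nat_card_alternatingGroup, Nat.card_eq_fintype_card, Fintype.card_fin]; rfl
    have hs : CfsgLib.InvTimesAlt.Small J T P :=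
      { toTimes := h, memS := hP, leS := hPC, facts := CfsgLib.InvTimesAlt.facts_five.of_equiv e,
        cardT := Or.inr h60, transfer := h.exists_conj h2 }
    exact Or.inr ⟨rfl, hs.five hns e⟩

end Cfsg.Agent.S3285
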