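import Cfsg.Statements.S3286
import Cfsg.Agent.Lib.QS3.Zero.Simple
import Cfsg.Agent.Lib.ZStar.Main
-- import your own Cfsg.Agent.* helpers here

set_option autoImplicit false
open Cfsg

namespace Cfsg.Agent.S3286

/-- Let G be a non-abelian finite simple group containing an involution whose centralizer is isomorphic to the centralizer, in the Mathieu group M₁₂, of an involution lying in the centre of a Sylow 2-subgroup of M₁₂. Then G is isomorphic to M₁₂. -/
theorem result {G : Type*} [Group G] [Finite G] [IsSimpleGroup G] (hG : ¬ IsMulCommutative G)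
    (u : ↥Cfsg.Spor.M12) (hu : Cfsg.IsTwoCentralInvolution u)
    (t : G) (ht : orderOf t = 2) (e : ↥(Subgroup.centralizer ({t} : Set G)) ≃* ↥(Subgroup.centralizer ({u} : Set ↥Cfsg.Spor.M12))) :
    Cfsg.Spor.IsoM12 G := by
  classical
  have D0 := CfsgQS3.Zero.m12_dat
  obtain ⟨c, hc⟩ := CfsgQS3.Zero.two_central_conj u hu
  set z := CfsgQS3.Zero.m12Code 24
  -- the centralisers as isomorphic groups
  have hmap : (Subgroup.centralizer ({u} : Set ↥Cfsg.Spor.M12)).map (MulAut.conj c).toMonoidHom =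
      Subgroup.centralizer ({z} : Set ↥Cfsg.Spor.M12) := by
    ext x
    simp only [Subgroup.mem_map, Subgroup.mem_centralizer_singleton_iff, MulEquiv.coe_toMonoidHom, MulAut.conj_apply]
    constructor
    · rintro ⟨y, hy, rfl⟩
      rw [← hc]
      calc c * y * c⁻¹ * (c * u * c⁻¹) = c * (y * u) * c⁻¹ := by group
        _ = _ := by rw [hy]; group
    · intro hx
      refine ⟨c⁻¹ * x * c, ?_, by group⟩
      calc c⁻¹ * x * c * u = c⁻¹ * (x * (c * u * c⁻¹)) * c := by group
        _ = _ := by rw [hc, hx, ← hc]; group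
  let f := e.trans (((MulAut.conj c).subgroupMap _).trans (MulEquiv.subgroupCongr hmap))
  have hmem : ∀ n < 192, CfsgQS3.Zero.m12Code n ∈ Subgroup.centralizer ({z} : Set ↥Cfsg.Spor.M12) := fun n hn =>
    Subgroup.mem_centralizer_singleton_iff.2 (D0.comm_s hn)
  let φ : ℕ → G := fun n => if hn : n < 192 then ((f.symm ⟨_, hmem n hn⟩ : _) : G) else 1
  have hφ : ∀ n (hn : n < 192), φ n = ((f.symm ⟨_, hmem n hn⟩ : _) : G) := fun n hn => dif_pos hn
  have ht1 : t ≠ 1 := fun h => by rw [h, orderOf_one] at ht; omega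
  have D : CfsgQS3.Dat t 0 φ := by
    refine ⟨by norm_num, fun x hx y hy => ?_, fun x hx y hy h => ?_, fun g => ⟨fun hg => ?_, ?_⟩, ?_⟩
    · rw [hφ x hx, hφ y hy, hφ _ (D0.lt_mul hx hy), ← Subgroup.coe_mul, ← map_mul]
      exact congrArg (fun w => ((f.symm w : _) : G)) (Subtype.ext (D0.mul x hx y hy))
    · rw [hφ x hx, hφ y hy] at h
      exact D0.inj x hx y hy (congrArg Subtype.val (f.symm.injective (Subtype.ext h)))
    · have hm : g ∈ Subgroup.centralizer ({t} : Set G) := Subgroup.mem_centralizer_singleton_iff.2 hg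
      obtain ⟨n, hn, e1⟩ := (D0.cent _).1 (Subgroup.mem_centralizer_singleton_iff.1 (f ⟨g, hm⟩).2)
      refine ⟨n, hn, ?_⟩
      rw [hφ n hn, show (⟨_, hmem n hn⟩ : ↥(Subgroup.centralizer ({z} : Set ↥Cfsg.Spor.M12))) = f ⟨g, hm⟩ from
        Subtype.ext e1, MulEquiv.symm_apply_apply]
    · rintro ⟨n, hn, rfl⟩
      rw [hφ n hn]
      exact Subgroup.mem_centralizer_singleton_iff.1 (f.symm _).2
    · have htm : t ∈ Subgroup.centralizer ({t} : Set G) := Subgroup.mem_centralizer_singleton_iff.2 rfl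
      obtain ⟨n, hn, e1⟩ := (D0.cent _).1 (Subgroup.mem_centralizer_singleton_iff.1 (f ⟨t, htm⟩).2)
      have h := CfsgQS3.all_codes CfsgQS3.Zero.center_codes hn
      simp only [Bool.or_eq_true, beq_iff_eq, List.any_eq_true, bne_iff_ne, ne_eq] at h
      rcases h with (h | h) | ⟨x, hx, hne⟩
      · exfalso
        rw [h, D0.one] at e1
        have : f ⟨t, htm⟩ = 1 := Subtype.ext e1.symm
        exact ht1 (congrArg Subtype.val ((map_eq_one_iff f f.injective).1 this))
      · rw [hφ 24 (by norm_num), show (⟨_, hmem 24 (by norm_num)⟩ :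
          ↥(Subgroup.centralizer ({z} : Set ↥Cfsg.Spor.M12))) = f ⟨t, htm⟩ from Subtype.ext (h ▸ e1),
          MulEquiv.symm_apply_apply]
      · exfalso
        have hx' := List.mem_range.1 hx
        refine hne ((D0.commute_iff hx' hn).1 ?_)
        have hm := (f.symm ⟨_, hmem x hx'⟩).2
        have hcomm : f.symm ⟨_, hmem x hx'⟩ * ⟨t, htm⟩ = ⟨t, htm⟩ * f.symm ⟨_, hmem x hx'⟩ :=
          Subtype.ext (Subgroup.mem_centralizer_singleton_iff.1 hm)
        have h2 := congrArg f hcomm
        rw [map_mul, map_mul, MulEquiv.apply_symm_apply] at h2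
        rw [e1]
        exact congrArg Subtype.val h2
  -- a conjugate of `t` commuting with it
  obtain ⟨g, hg1, hg2⟩ : ∃ g : G, Commute t (g * t * g⁻¹) ∧ g * t * g⁻¹ ≠ t := by
    by_contra hno
    push Not at hno
    have hiso : IsIsolated t := hno
    rcases Subgroup.Normal.eq_bot_or_eq_top (inferInstance : (pPrimeCore 2 G).Normal) with hb | hb
    · refine hG ?_
      have hcen : ∀ g : G, t * g = g * t := fun g => by
        have := CfsgLib.ZStar.commutator_mem ht hiso g
        rw [hb, Subgroup.mem_bot, mul_inv_eq_one, mul_inv_eq_iff_eq_mul] at this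
        exact this
      have htc : t ∈ Subgroup.center G := Subgroup.mem_center_iff.2 fun g => (hcen g).symm
      rcases (inferInstance : (Subgroup.center G).Normal).eq_bot_or_eq_top with hc' | hc'
      · exact absurd (Subgroup.mem_bot.1 (hc' ▸ htc)) ht1
      · exact ⟨⟨fun a b => (Subgroup.mem_center_iff.1 (hc' ▸ Subgroup.mem_top a) b).symm⟩⟩
    · have h1 := CfsgLib.card_pPrimeCore_coprime (G := G) 2
      rw [hb, Subgroup.card_top] at h1
      have h2 : 2 ∣ Nat.card G := ht ▸ orderOf_dvd_natCard t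
      exact absurd (Nat.eq_one_of_dvd_coprimes h1 h2 dvd_rfl) (by norm_num)
  obtain ⟨n, hn, h6, hU, h24⟩ := D.exists_inU_six hg1.symm.eq hg2
  obtain ⟨R, hR, hk, hUR⟩ := D.exists_row hn h6 hU h24
  have h54 : CfsgQS3.InU t φ 54 := by
    have hr : R = CfsgQS3.row0 := by
      simp only [CfsgQS3.rows, List.mem_cons, List.not_mem_nil, or_false] at hR
      rcases hR with rfl | rfl | rfl | rfl | rfl | rfl | rfl | rfl <;>
        simp_all [CfsgQS3.row0, CfsgQS3.row1, CfsgQS3.row2, CfsgQS3.row3, CfsgQS3.row4, CfsgQS3.row5, CfsgQS3.row6,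
          CfsgQS3.row7]
    subst hr
    exact hUR
  rcases D.zero_case h54 with ⟨N, hN, hNc, -, hN8, -⟩ | h
  · exfalso
    rcases hN.eq_bot_or_eq_top with hb | hb
    · rw [hb, Subgroup.card_bot] at hN8; omega
    · subst hb
      exact hG ⟨⟨fun a b => congrArg Subtype.val (hNc.is_comm.comm ⟨a, Subgroup.mem_top a⟩ ⟨b, Subgroup.mem_top b⟩)⟩⟩
  · exact h

end Cfsg.Agent.S3286
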