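import Cfsg.Statements.S3289
import Cfsg.Agent.Lib.Closed3289.FourCase
import Cfsg.Agent.Lib.Closed3289.RankOne
-- import your own Cfsg.Agent.* helpers here

set_option autoImplicit false
set_option linter.style.haveILetI false
open Cfsg

namespace Cfsg.Agent.S3289

/-- Let T be a Sylow 2-subgroup of a finite group G and S a nontrivial subgroup of T strongly closed in T with respect to G. Suppose a proper subgroup H of G contains the centralizer of every non-identity element of S and the normalizer of the subgroup generated by the involutions of S. Then, writing X for the normal closure of S, the subgroup H ∩ X is strongly embedded in X, and S equals T ∩ X or the subgroup generated by the involutions of T ∩ X; if moreover S has 2-rank 1, then S = T ∩ X. -/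
theorem result {G : Type*} [Group G] [Finite G] (T : Sylow 2 G) (S : Subgroup G) (hS : S ≠ ⊥)
    (hsc : Cfsg.IsStronglyClosed S (T : Subgroup G)) (H : Subgroup G) (hH : H ≠ ⊤)
    (hC : ∀ s ∈ S, s ≠ 1 → Subgroup.centralizer ({s} : Set G) ≤ H)
    (hN : Subgroup.normalizer ((Cfsg.omegaOne 2 S : Subgroup G) : Set G) ≤ H) :
    Cfsg.IsStronglyEmbedded ((H ⊓ Subgroup.normalClosure (S : Set G)).subgroupOf (Subgroup.normalClosure (S : Set G))) ∧
      (S = (T : Subgroup G) ⊓ Subgroup.normalClosure (S : Set G) ∨ S = Cfsg.omegaOne 2 ((T : Subgroup G) ⊓ Subgroup.normalClosure (S : Set G))) ∧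
      (Cfsg.PRankLE 2 1 ↥S → S = (T : Subgroup G) ⊓ Subgroup.normalClosure (S : Set G)) := by
  haveI : Fact (Nat.Prime 2) := ⟨Nat.prime_two⟩
  have h : CfsgLib.Closed3289.Hyp T S H := ⟨hS, hsc, hH, hC, hN⟩
  by_cases hfour : ∃ y ∈ S, ∃ z ∈ S, CfsgLib.Bender.TwoClosed.IsInv y ∧ CfsgLib.Bender.TwoClosed.IsInv z ∧
      y ≠ z ∧ y * z = z * y
  · obtain ⟨hin, hcases⟩ := CfsgLib.Closed3289.four_case h hfour
    refine ⟨CfsgLib.Closed3289.stronglyEmbedded h hin, hcases, fun hrank => ?_⟩
    obtain ⟨y, hy, z, hz, hyi, hzi, hne, hcomm⟩ := hfour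
    exfalso
    let y' : S := ⟨y, hy⟩
    let z' : S := ⟨z, hz⟩
    let A : Subgroup S := Subgroup.closure {y', z'}
    have hpair : ∀ a ∈ ({y', z'} : Set S), ∀ b ∈ ({y', z'} : Set S), a * b = b * a := by
      have h1 : y' * z' = z' * y' := Subtype.ext hcomm
      rintro a (rfl | rfl) b (rfl | rfl)
      exacts [rfl, h1, h1.symm, rfl]
    haveI hAc : IsMulCommutative A := Subgroup.isMulCommutative_closure hpair
    have hexp : ∀ a ∈ A, a ^ 2 = 1 := by
      intro a ha
      induction ha using Subgroup.closure_induction with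
      | mem b hb =>
        rw [pow_two]
        rcases hb with rfl | rfl
        · exact Subtype.ext hyi.2
        · exact Subtype.ext hzi.2
      | one => exact one_pow 2
      | mul b c hb hc eb ec =>
        have hbc : Commute b c := congrArg Subtype.val (hAc.1.1 ⟨b, hb⟩ ⟨c, hc⟩)
        rw [hbc.mul_pow, eb, ec, one_mul]
      | inv b hb eb => rw [inv_pow, eb, inv_one]
    have hsub : ({1, y', z'} : Set S) ⊆ (A : Set S) := by
      rintro a (rfl | rfl | rfl)
      exacts [one_mem A, Subgroup.subset_closure (Or.inl rfl), Subgroup.subset_closure (Or.inr rfl)]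
    have h3 : ({1, y', z'} : Set S).ncard = 3 := Set.ncard_eq_three.mpr
      ⟨1, y', z', fun e => hyi.1 (congrArg Subtype.val e).symm, fun e => hzi.1 (congrArg Subtype.val e).symm,
        fun e => hne (congrArg Subtype.val e), rfl⟩
    have h4 := (h3.symm.le.trans (Set.ncard_le_ncard hsub)).trans (hrank A hAc hexp)
    norm_num at h4
  · obtain ⟨z, hz, hzi, hzT⟩ := CfsgLib.Closed3289.exists_central h
    have hone : CfsgLib.Closed3289.One T S z :=
      ⟨hsc, hz, CfsgLib.Bender.Assembly.orderOf_two hzi, fun x hx hx2 => by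
        by_contra hne
        exact hfour ⟨x, hx, z, hz, CfsgLib.Bender.Assembly.isInv_of_orderOf hx2, hzi, hne, hzT x (hsc.1 hx)⟩⟩
    have hle := hone.sylow_closure_le
    have heq : S = (T : Subgroup G) ⊓ Subgroup.normalClosure (S : Set G) :=
      le_antisymm (le_inf hsc.1 Subgroup.le_normalClosure) hle
    exact ⟨CfsgLib.Closed3289.stronglyEmbedded h fun x hx _ => hle hx, Or.inl heq, fun _ => heq⟩

end Cfsg.Agent.S3289
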