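import Cfsg.Statements.S3294
import Mathlib
import Cfsg.Agent.Lib.PSolvable
import Cfsg.Agent.Lib.PComplement
import Cfsg.Agent.Lib.Basic
import Cfsg.Agent.S3116

set_option autoImplicit false
open Cfsg

namespace Cfsg.Agent.S3294

theorem gen_quaternion_normal_aut {m : ℕ} (hm : 8 ≤ m) (h2 : ∃ k, m = 2 ^ k)
    (B : Subgroup (QuaternionGroup m)) [B.Normal] : IsPGroup 2 (MulAut B) := by
  classical
  haveI : NeZero m := ⟨by omega⟩
  obtain ⟨k, rfl⟩ := h2
  have hcardQ : Nat.card (QuaternionGroup (2 ^ k)) = 2 ^ (k + 2) := by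
    rw [Nat.card_eq_fintype_card, QuaternionGroup.card]; ring
  have hBp : IsPGroup 2 B := (IsPGroup.of_card hcardQ).to_subgroup B
  obtain ⟨f, hf⟩ := hBp.exists_card_eq
  set Z : Subgroup (QuaternionGroup (2 ^ k)) := Subgroup.zpowers (QuaternionGroup.a 1) with hZ
  have hZi : Z.index = 2 := by
    have h := Z.card_mul_index
    rw [hZ, Nat.card_zpowers, QuaternionGroup.orderOf_a_one, hcardQ, pow_add] at h
    exact Nat.eq_of_mul_eq_mul_left (Nat.two_pow_pos k) (by rw [hZ]; nlinarith)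
  have haZ : ∀ j : ZMod (2 * 2 ^ k), QuaternionGroup.a j ∈ Z := by
    intro j
    refine Subgroup.mem_zpowers_iff.mpr ⟨(j.val : ℤ), ?_⟩
    rw [zpow_natCast, QuaternionGroup.a_one_pow, ZMod.natCast_zmod_val]
  by_cases hBZ : B ≤ Z
  · haveI : IsCyclic B := isCyclic_of_injective (Subgroup.inclusion hBZ) (Subgroup.inclusion_injective hBZ)
    rcases Nat.eq_zero_or_pos f with h0 | h0
    · haveI : Subsingleton B := Nat.card_eq_one_iff_unique.mp (by rw [hf, h0, pow_zero]) |>.1
      intro α; exact ⟨0, MulEquiv.ext fun x => Subsingleton.elim _ _⟩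
    · refine IsPGroup.of_card (n := f - 1) ?_
      rw [IsCyclic.card_mulAut, hf, Nat.totient_prime_pow Nat.prime_two h0]
      simp
  · obtain ⟨g, hgB, hgZ⟩ := SetLike.not_le_iff_exists.mp hBZ
    obtain ⟨i, rfl⟩ : ∃ i, g = QuaternionGroup.xa i := by
      cases g with
      | a j => exact absurd (haZ j) hgZ
      | xa i => exact ⟨i, rfl⟩
    have ha2 : QuaternionGroup.a (2 : ZMod (2 * 2 ^ k)) ∈ B := by
      have hc := ‹B.Normal›.conj_mem _ hgB (QuaternionGroup.a 1)
      have := B.inv_mem (B.mul_mem (B.inv_mem hgB) hc)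
      have hinv : ∀ x y : QuaternionGroup (2 ^ k), x * y = 1 → x⁻¹ = y := fun x y h => inv_eq_of_mul_eq_one_right h
      have h0 : ((2 ^ k : ℕ) : ZMod (2 * 2 ^ k)) + ((2 ^ k : ℕ) : ZMod (2 * 2 ^ k)) = 0 := by
        rw [← Nat.cast_add, ← two_mul]; exact ZMod.natCast_self _
      rw [hinv (QuaternionGroup.a 1) (QuaternionGroup.a (-1)) (by rw [QuaternionGroup.a_mul_a, add_neg_cancel, QuaternionGroup.a_zero]),
        hinv (QuaternionGroup.xa i) (QuaternionGroup.xa (((2 ^ k : ℕ) : ZMod (2 * 2 ^ k)) + i))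
          (by rw [QuaternionGroup.xa_mul_xa, show ((2 ^ k : ℕ) : ZMod (2 * 2 ^ k)) + (((2 ^ k : ℕ) : ZMod (2 * 2 ^ k)) + i) - i = 0 by rw [← add_assoc, h0]; ring, QuaternionGroup.a_zero]),
        QuaternionGroup.a_mul_xa, QuaternionGroup.xa_mul_a, QuaternionGroup.xa_mul_xa] at this
      rw [hinv _ (QuaternionGroup.a 2)] at this
      · exact this
      · rw [QuaternionGroup.a_mul_a, ← QuaternionGroup.a_zero]; congr 1; linear_combination (0 : ZMod (2 * 2 ^ k)) * h0
    set C := Z.subgroupOf B with hC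
    haveI : IsCyclic C :=
      isCyclic_of_injective ((Subgroup.inclusion (le_refl Z)).comp
        (((B.subtype).comp C.subtype).codRestrict Z fun x => x.2))
        (fun x y h => by
          have := congrArg Subtype.val h
          exact Subtype.ext (Subtype.ext this))
    obtain ⟨x, hx⟩ := IsCyclic.exists_generator (α := C)
    have hxC : Subgroup.zpowers (x : B) = C := by
      refine le_antisymm ((Subgroup.zpowers_le).mpr x.2) fun y hy => ?_
      obtain ⟨t, ht⟩ := Subgroup.mem_zpowers_iff.mp (hx ⟨y, hy⟩)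
      exact Subgroup.mem_zpowers_iff.mpr ⟨t, by simpa using congrArg Subtype.val ht⟩
    have hCi : C.index = 2 := by
      have h1 : C.index ∣ 2 := by
        haveI : Z.Normal := Subgroup.normal_of_index_eq_two hZi
        exact (Subgroup.relIndex_dvd_index_of_normal Z B).trans (dvd_of_eq hZi)
      rcases (Nat.dvd_prime Nat.prime_two).mp h1 with h | h
      · exfalso
        rw [Subgroup.index_eq_one] at h
        have : (⟨_, hgB⟩ : B) ∈ C := h ▸ Subgroup.mem_top _
        exact hgZ this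
      · exact h
    obtain ⟨e, he⟩ : ∃ e, orderOf (x : B) = 2 ^ e := by
      obtain ⟨e, -, he⟩ := (Nat.dvd_prime_pow Nat.prime_two).mp (hf ▸ orderOf_dvd_natCard (x : B))
      exact ⟨e, he⟩
    have he3 : 3 ≤ e := by
      have h1 : (⟨_, ha2⟩ : B) ∈ Subgroup.zpowers (x : B) := by
        rw [hxC]; exact (haZ 2 : _ ∈ Z)
      have h2 := Subgroup.orderOf_dvd_natCard _ h1
      rw [Nat.card_zpowers, he, Subgroup.orderOf_mk] at h2
      have h3 : orderOf (QuaternionGroup.a (2 : ZMod (2 * 2 ^ k))) = 2 ^ k := by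
        have h4 : (QuaternionGroup.a (1 : ZMod (2 * 2 ^ k))) ^ 2 = QuaternionGroup.a 2 := by
          rw [QuaternionGroup.a_one_pow]; norm_num
        rw [← h4, orderOf_pow, QuaternionGroup.orderOf_a_one, Nat.gcd_mul_right_left]
        simp
      rw [h3] at h2
      have := (Nat.pow_dvd_pow_iff_le_right (by norm_num : 1 < 2)).mp h2
      have : 2 ^ 3 ≤ 2 ^ k := hm
      have := (Nat.pow_le_pow_iff_right (by norm_num : 1 < 2)).mp this
      omega
    refine Cfsg.Agent.S3116.aut_two_group (x : B) e he ?_ fun y hy => ?_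
    · rw [← C.card_mul_index, hCi, ← hxC, Nat.card_zpowers, he, pow_succ]
    · obtain ⟨y, hyB⟩ := y
      rw [hxC] at hy
      cases y with
      | a j => exact absurd (haZ j) hy
      | xa j =>
        rw [Subgroup.orderOf_mk, QuaternionGroup.orderOf_xa]
        intro h
        have : 2 ^ 3 ≤ 2 ^ e := Nat.pow_le_pow_right (by norm_num) he3
        omega

/-- A finite solvable group whose Sylow 2-subgroups are generalized quaternion of order at least 32 has a normal 2-complement. -/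
theorem result {G : Type*} [Group G] [Finite G] (hsol : Group.IsSolvable G) (T : Sylow 2 G) (n : ℕ) (hn : 3 ≤ n) (hT : Nonempty ((T : Subgroup G) ≃* QuaternionGroup (2 ^ n))) : Cfsg.HasNormalPComplement 2 G := by
  haveI := hsol
  haveI : Fact (Nat.Prime 2) := ⟨Nat.prime_two⟩
  set N := Cfsg.pPrimeCore 2 G with hN
  have hbot := CfsgLib.pPrimeCore_quotient_eq_bot (G := G) 2
  set A := Cfsg.pCore 2 (G ⧸ N) with hA
  have hCA := CfsgLib.centralizer_pCore_le Nat.prime_two hbot
  let T' : Sylow 2 (G ⧸ N) := T.mapSurjective (QuotientGroup.mk'_surjective N)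
  have hAT : A ≤ (T' : Subgroup (G ⧸ N)) := CfsgLib.pCore_le_sylow T'
  let f : T →* G ⧸ N := (QuotientGroup.mk' N).comp (T : Subgroup G).subtype
  have hfi : Function.Injective f := by
    rw [injective_iff_map_eq_one]
    rintro ⟨t, ht⟩ h
    have htN : t ∈ N := (QuotientGroup.eq_one_iff t).mp h
    obtain ⟨j, hj⟩ := T.isPGroup' ⟨t, ht⟩
    have h1 : orderOf t ∣ 2 ^ j := orderOf_dvd_of_pow_eq_one (by simpa using congrArg Subtype.val hj)
    have h2 := Subgroup.orderOf_dvd_natCard N htN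
    have h3 := Nat.dvd_gcd h2 h1
    have h4 : (Nat.card N).Coprime (2 ^ j) := (CfsgLib.card_pPrimeCore_coprime 2).pow_right j
    rw [h4.gcd_eq_one, Nat.dvd_one] at h3
    exact Subtype.ext (orderOf_eq_one_iff.mp h3)
  have hrange : f.range = (T' : Subgroup (G ⧸ N)) := by
    rw [MonoidHom.range_eq_map, ← Subgroup.map_map, ← MonoidHom.range_eq_map, Subgroup.range_subtype]
    rfl
  obtain ⟨φ⟩ := hT
  let ψ : (T' : Subgroup (G ⧸ N)) ≃* QuaternionGroup (2 ^ n) :=
    ((MulEquiv.subgroupCongr hrange.symm).trans (MonoidHom.ofInjective hfi).symm).trans φ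
  haveI hAn : A.Normal := Cfsg.pCore_normal 2 (G ⧸ N)
  let A' : Subgroup (T' : Subgroup (G ⧸ N)) := A.subgroupOf T'
  haveI : (A'.map ψ.toMonoidHom).Normal := (hAn.subgroupOf _).map _ ψ.surjective
  have hm8 : 8 ≤ 2 ^ n := by
    calc 8 = 2 ^ 3 := rfl
      _ ≤ 2 ^ n := Nat.pow_le_pow_right (by norm_num) hn
  have hAut : IsPGroup 2 (MulAut A) :=
    (gen_quaternion_normal_aut hm8 ⟨n, rfl⟩ (A'.map ψ.toMonoidHom)).of_equiv
      (MulAut.congr (((A'.equivMapOfInjective ψ.toMonoidHom ψ.injective).symm).trans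
        (Subgroup.subgroupOfEquivOfLe hAT)))
  have hQ : IsPGroup 2 (G ⧸ N) := by
    intro q
    obtain ⟨j, hj⟩ := hAut (MulAut.conjNormal q)
    rw [← map_pow] at hj
    have hc : q ^ 2 ^ j ∈ Subgroup.centralizer (A : Set (G ⧸ N)) := by
      intro a ha
      have := congrArg (fun α : MulAut A => ((α ⟨a, ha⟩ : A) : G ⧸ N)) hj
      simp only [MulAut.conjNormal_apply, MulAut.one_apply] at this
      calc a * q ^ 2 ^ j = (q ^ 2 ^ j * a * (q ^ 2 ^ j)⁻¹) * q ^ 2 ^ j := by rw [this]
        _ = q ^ 2 ^ j * a := by group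
    obtain ⟨i, hi⟩ := CfsgLib.isPGroup_pCore 2 ⟨_, hCA hc⟩
    refine ⟨j + i, ?_⟩
    rw [pow_add, pow_mul]
    exact congrArg Subtype.val hi
  exact (CfsgLib.hasNormalPComplement_iff).mpr hQ

end Cfsg.Agent.S3294
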