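import Cfsg.Statements.S3299
import Mathlib
import Cfsg.Agent.Lib.Basic
import Cfsg.Agent.Lib.ExtraTransfer

set_option autoImplicit false
open Cfsg

namespace Cfsg.Agent.S3299



/-- Let G be a finite group with no nontrivial 2-group quotient (O^2(G) = G), z an involution of G with H = C_G(z), and suppose E = O_2(H) is extraspecial with C_G(E) ≤ E and of order 2^(2n+1) with n ≥ 2. Then E is contained in every normal subgroup of H of index 2. -/
theorem result {G : Type*} [Group G] [Finite G] (hres : Cfsg.pResidual 2 G = ⊤) (z : G) (hz : orderOf z = 2)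
    (E : Subgroup G) (hE : E = (Cfsg.pCore 2 ↥(Subgroup.centralizer ({z} : Set G))).map (Subgroup.centralizer ({z} : Set G)).subtype)
    (hext : Cfsg.IsExtraspecial 2 ↥E) (hcent : Subgroup.centralizer (E : Set G) ≤ E) (n : ℕ) (hn : 2 ≤ n) (hcard : Nat.card ↥E = 2 ^ (2 * n + 1))
    (K : Subgroup G) (hKH : K ≤ Subgroup.centralizer ({z} : Set G))
    (hKn : ∀ h ∈ Subgroup.centralizer ({z} : Set G), K.map (MulAut.conj h).toMonoidHom = K)
    (hKi : K.relIndex (Subgroup.centralizer ({z} : Set G)) = 2) : E ≤ K := by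
----
  classical
  set C := Subgroup.centralizer ({z} : Set G) with hC
  obtain ⟨z', hx⟩ := CfsgLib.ExtraTwo.ofExtraspecial hext
  have hEC : E ≤ C := by
    rw [hE]; exact Subgroup.map_subtype_le _
  have hzC : z ∈ C := Subgroup.mem_centralizer_singleton_iff.mpr rfl
  have hzE : z ∈ E := by
    rw [hE]
    refine ⟨⟨z, hzC⟩, ?_, rfl⟩
    haveI : (Subgroup.zpowers (⟨z, hzC⟩ : C)).Normal := by
      constructor
      intro c hc g
      obtain ⟨k, rfl⟩ := Subgroup.mem_zpowers_iff.mp hc
      have h : Commute g (⟨z, hzC⟩ : C) := Subtype.ext (Subgroup.mem_centralizer_singleton_iff.mp g.2)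
      rw [(h.zpow_right k).eq, mul_inv_cancel_right]
      exact hc
    exact CfsgLib.le_pCore (IsPGroup.of_card (n := 1) (by rw [Nat.card_zpowers, Subgroup.orderOf_mk, hz, pow_one]))
      (Subgroup.mem_zpowers _)
  have hzz : ((z' : E) : G) = z := by
    have hmem : (⟨z, hzE⟩ : E) ∈ Subgroup.center E := Subgroup.mem_center_iff.mpr fun g =>
      Subtype.ext (Subgroup.mem_centralizer_singleton_iff.mp (hEC g.2))
    rcases (hx.center_iff _).mp hmem with h | h
    · exfalso
      have : z = 1 := congrArg Subtype.val h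
      rw [this, orderOf_one] at hz
      norm_num at hz
    · exact (congrArg Subtype.val h).symm
  have hcard5 : 2 ^ 5 ≤ Nat.card E := hcard ▸ Nat.pow_le_pow_right (by norm_num) (by omega)
  have hbase : ∀ g : G, (∀ e ∈ E, g⁻¹ * e * g ∈ C) → g ∈ C := by
    intro g hg
    have h1 : g * z * g⁻¹ ∈ Subgroup.centralizer (E : Set G) := by
      refine Subgroup.mem_centralizer_iff.mpr fun e he => ?_
      have h := Subgroup.mem_centralizer_singleton_iff.mp (hg e he)
      calc e * (g * z * g⁻¹) = g * ((g⁻¹ * e * g) * z) * g⁻¹ := by group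
        _ = g * (z * (g⁻¹ * e * g)) * g⁻¹ := by rw [h]
        _ = g * z * g⁻¹ * e := by group
    have h2 : g * z * g⁻¹ ∈ E := hcent h1
    have h3 : (⟨_, h2⟩ : E) ∈ Subgroup.center E := Subgroup.mem_center_iff.mpr fun b =>
      Subtype.ext (Subgroup.mem_centralizer_iff.mp h1 b b.2)
    rcases (hx.center_iff _).mp h3 with h | h
    · exfalso
      have : z = 1 := by
        have h' : g * z * g⁻¹ = 1 := congrArg Subtype.val h
        simpa using h'
      rw [this, orderOf_one] at hz
      norm_num at hz
    · have h' : g * z * g⁻¹ = z := (congrArg Subtype.val h).trans hzz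
      exact Subgroup.mem_centralizer_singleton_iff.mpr (mul_inv_eq_iff_eq_mul.mp h')
  -- the character of the subgroup of index two
  let K' := K.subgroupOf C
  have hK' : K'.index = 2 := hKi
  let χ : C →* Multiplicative (ZMod 2) := MonoidHom.mk'
    (fun c => if c ∈ K' then 1 else Multiplicative.ofAdd 1) fun a b => by
      have := Subgroup.mul_mem_iff_of_index_two hK' (a := a) (b := b)
      by_cases ha : a ∈ K' <;> by_cases hb : b ∈ K'
      · rw [if_pos ha, if_pos hb, if_pos (this.mpr (iff_of_true ha hb))]; rfl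
      · rw [if_pos ha, if_neg hb, if_neg fun h => hb ((this.mp h).mp ha)]; rfl
      · rw [if_neg ha, if_pos hb, if_neg fun h => ha ((this.mp h).mpr hb)]; rfl
      · rw [if_neg ha, if_neg hb, if_pos (this.mpr (iff_of_false ha hb))]; rfl
  have hA : ∀ a : Multiplicative (ZMod 2), a * a = 1 := by decide
  have htr : ∀ g, MonoidHom.transfer χ g = 1 := by
    have hle : Cfsg.pResidual 2 G ≤ (MonoidHom.transfer χ).ker := by
      rw [Cfsg.pResidual, Subgroup.closure_le]
      intro g hg
      refine orderOf_eq_one_iff.mp (Nat.eq_one_of_dvd_coprimes hg (orderOf_map_dvd _ g) ?_)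
      exact orderOf_dvd_of_pow_eq_one (by rw [pow_two, hA])
    intro g
    exact hle (hres ▸ Subgroup.mem_top g)
  intro e he
  have h := CfsgLib.ExtraTransfer.eq_one_of_transfer hA χ htr hx hcard5 hEC hbase ⟨e, he⟩
  by_contra hK
  change (if (⟨e, hEC he⟩ : C) ∈ K' then (1 : Multiplicative (ZMod 2)) else Multiplicative.ofAdd 1) = 1 at h
  rw [if_neg (show ¬ (⟨e, hEC he⟩ : C) ∈ K' from hK)] at h
  exact absurd h (by decide)

end Cfsg.Agent.S3299
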