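import Cfsg.Statements.S3300
import Mathlib
import Cfsg.Agent.Lib.Basic
import Cfsg.Agent.Lib.ExtraspecialTwo
import Cfsg.Agent.Lib.ExtraTransferTwo

set_option autoImplicit false
open Cfsg
open scoped commutatorElement

namespace Cfsg.Agent.S3300



/-- Let G be a finite group with no nontrivial 2-group quotient (O^2(G) = G), z an involution of G with H = C_G(z), and suppose E = O_2(H) is extraspecial with C_G(E) ≤ E and of order 2^(2n+1) with n ≥ 3. If H has a normal subgroup of index 2, then z is conjugate in G to an element of E other than z. -/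
theorem result {G : Type*} [Group G] [Finite G] (hres : Cfsg.pResidual 2 G = ⊤) (z : G) (hz : orderOf z = 2)
    (E : Subgroup G) (hE : E = (Cfsg.pCore 2 ↥(Subgroup.centralizer ({z} : Set G))).map (Subgroup.centralizer ({z} : Set G)).subtype)
    (hext : Cfsg.IsExtraspecial 2 ↥E) (hcent : Subgroup.centralizer (E : Set G) ≤ E) (n : ℕ) (hn : 3 ≤ n) (hcard : Nat.card ↥E = 2 ^ (2 * n + 1))
    (K : Subgroup G) (hKH : K ≤ Subgroup.centralizer ({z} : Set G))
    (hKn : ∀ h ∈ Subgroup.centralizer ({z} : Set G), K.map (MulAut.conj h).toMonoidHom = K)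
    (hKi : K.relIndex (Subgroup.centralizer ({z} : Set G)) = 2) :
    ∃ g : G, g * z * g⁻¹ ∈ E ∧ g * z * g⁻¹ ≠ z := by
----
  classical
  set C := Subgroup.centralizer ({z} : Set G) with hC
  obtain ⟨z', hx⟩ := CfsgLib.ExtraTwo.ofExtraspecial hext
  have hEC : E ≤ C := by
    rw [hE]; exact Subgroup.map_subtype_le _
  have hzC : z ∈ C := Subgroup.mem_centralizer_singleton_iff.mpr rfl
  have hzE : z ∈ E := by
    rw [hE]
    refine ⟨⟨z, hzC⟩, ?_, rfl⟩
    haveI : (Subgroup.zpowers (⟨z, hzC⟩ : C)).Normal := by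
      constructor
      intro c hc g
      obtain ⟨k, rfl⟩ := Subgroup.mem_zpowers_iff.mp hc
      have h : Commute g (⟨z, hzC⟩ : C) := Subtype.ext (Subgroup.mem_centralizer_singleton_iff.mp g.2)
      rw [(h.zpow_right k).eq, mul_inv_cancel_right]
      exact hc
    exact CfsgLib.le_pCore (IsPGroup.of_card (n := 1) (by rw [Nat.card_zpowers, Subgroup.orderOf_mk, hz, pow_one]))
      (Subgroup.mem_zpowers _)
  have hzz : ((z' : E) : G) = z := by
    have hmem : (⟨z, hzE⟩ : E) ∈ Subgroup.center E := Subgroup.mem_center_iff.mpr fun g =>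
      Subtype.ext (Subgroup.mem_centralizer_singleton_iff.mp (hEC g.2))
    rcases (hx.center_iff _).mp hmem with h | h
    · exfalso
      have : z = 1 := congrArg Subtype.val h
      rw [this, orderOf_one] at hz
      norm_num at hz
    · exact (congrArg Subtype.val h).symm
  have hcard7 : 2 ^ 7 ≤ Nat.card E := hcard ▸ Nat.pow_le_pow_right (by norm_num) (by omega)
  have hbase : ∀ g : G, (∀ e ∈ E, g⁻¹ * e * g ∈ C) → g ∈ C := by
    intro g hg
    have h1 : g * z * g⁻¹ ∈ Subgroup.centralizer (E : Set G) := by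
      refine Subgroup.mem_centralizer_iff.mpr fun e he => ?_
      have h := Subgroup.mem_centralizer_singleton_iff.mp (hg e he)
      calc e * (g * z * g⁻¹) = g * ((g⁻¹ * e * g) * z) * g⁻¹ := by group
        _ = g * (z * (g⁻¹ * e * g)) * g⁻¹ := by rw [h]
        _ = g * z * g⁻¹ * e := by group
    have h2 : g * z * g⁻¹ ∈ E := hcent h1
    have h3 : (⟨_, h2⟩ : E) ∈ Subgroup.center E := Subgroup.mem_center_iff.mpr fun b =>
      Subtype.ext (Subgroup.mem_centralizer_iff.mp h1 b b.2)
    rcases (hx.center_iff _).mp h3 with h | h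
    · exfalso
      have : z = 1 := by
        have h' : g * z * g⁻¹ = 1 := congrArg Subtype.val h
        simpa using h'
      rw [this, orderOf_one] at hz
      norm_num at hz
    · have h' : g * z * g⁻¹ = z := (congrArg Subtype.val h).trans hzz
      exact Subgroup.mem_centralizer_singleton_iff.mpr (mul_inv_eq_iff_eq_mul.mp h')
  -- the character of the subgroup of index two
  let K' := K.subgroupOf C
  have hK' : K'.index = 2 := hKi
  let χ : C →* Multiplicative (ZMod 2) := MonoidHom.mk'
    (fun c => if c ∈ K' then 1 else Multiplicative.ofAdd 1) fun a b => by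
      have := Subgroup.mul_mem_iff_of_index_two hK' (a := a) (b := b)
      by_cases ha : a ∈ K' <;> by_cases hb : b ∈ K'
      · rw [if_pos ha, if_pos hb, if_pos (this.mpr (iff_of_true ha hb))]; rfl
      · rw [if_pos ha, if_neg hb, if_neg fun h => hb ((this.mp h).mp ha)]; rfl
      · rw [if_neg ha, if_pos hb, if_neg fun h => ha ((this.mp h).mpr hb)]; rfl
      · rw [if_neg ha, if_neg hb, if_pos (this.mpr (iff_of_false ha hb))]; rfl
  have hA : ∀ a : Multiplicative (ZMod 2), a * a = 1 := by decide
  have htr : ∀ g, MonoidHom.transfer χ g = 1 := by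
    have hle : Cfsg.pResidual 2 G ≤ (MonoidHom.transfer χ).ker := by
      rw [Cfsg.pResidual, Subgroup.closure_le]
      intro g hg
      refine orderOf_eq_one_iff.mp (Nat.eq_one_of_dvd_coprimes hg (orderOf_map_dvd _ g) ?_)
      exact orderOf_dvd_of_pow_eq_one (by rw [pow_two, hA])
    intro g
    exact hle (hres ▸ Subgroup.mem_top g)
  by_contra hno
  push Not at hno
  haveI := Fact.mk Nat.prime_two
  haveI : Fintype (G ⧸ C) := Fintype.ofFinite _
  -- `C` normalises `E`
  have hnorm : ∀ g ∈ C, ∀ e ∈ E, g * e * g⁻¹ ∈ E := by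
    intro g hg e he
    rw [hE] at he ⊢
    obtain ⟨e, he, rfl⟩ := he
    exact ⟨⟨g, hg⟩ * e * ⟨g, hg⟩⁻¹, Subgroup.Normal.conj_mem inferInstance e he ⟨g, hg⟩, rfl⟩
  -- an outer involution of the centralizer centralises a subgroup of index at least four of `E`
  have hindex : ∀ w : G, w ∈ C → w * w = 1 → w ∉ E →
      ((Subgroup.centralizer ({w} : Set G)).subgroupOf E).index ≠ 1 ∧
      ((Subgroup.centralizer ({w} : Set G)).subgroupOf E).index ≠ 2 := by
    intro w hwC hww hwE
    have hwi : w⁻¹ = w := inv_eq_of_mul_eq_one_right hww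
    set Mw : Subgroup E := (Subgroup.centralizer ({w} : Set G)).subgroupOf E with hMw
    have hmemM : ∀ k : E, k ∈ Mw ↔ (k : G) * w = w * k := fun k => by
      rw [hMw, Subgroup.mem_subgroupOf, Subgroup.mem_centralizer_singleton_iff]
    have hcentral : (∀ k : E, k ∈ Mw) → False := fun h => hwE (hcent (Subgroup.mem_centralizer_iff.mpr fun b hb =>
      (hmemM ⟨b, hb⟩).mp (h _)))
    refine ⟨fun h1 => hcentral fun k => (Subgroup.index_eq_one.mp h1).symm ▸ Subgroup.mem_top k, fun h2 => ?_⟩
    let σ : E →* E := MonoidHom.mk' (fun k => (⟨w * k * w⁻¹, hnorm w hwC k k.2⟩ : E)) fun k l => Subtype.ext (by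
      change w * ((k : G) * l) * w⁻¹ = w * k * w⁻¹ * (w * l * w⁻¹); group)
    have hσM : ∀ k : E, σ k = k ↔ k ∈ Mw := fun k => by
      rw [hmemM, ← Subtype.coe_inj]
      change w * (k : G) * w⁻¹ = k ↔ _
      rw [mul_inv_eq_iff_eq_mul, eq_comm]
    have hσσ : ∀ k, σ (σ k) = k := fun k => Subtype.ext (by
      change w * (w * (k : G) * w⁻¹) * w⁻¹ = k
      rw [hwi, ← mul_assoc, ← mul_assoc, hww, one_mul, mul_assoc, hww, mul_one])
    obtain ⟨e0, he0⟩ : ∃ e0 : E, e0 ∉ Mw := by
      by_contra hall
      push Not at hall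
      exact hcentral hall
    have hzM : z' ∈ Mw := by
      rw [hmemM, hzz]
      exact (Subgroup.mem_centralizer_singleton_iff.mp hwC).symm
    have hMn : Mw.Normal := Subgroup.normal_of_index_eq_two h2
    set m : E := e0⁻¹ * σ e0 with hm
    have hσe0 : σ e0 = e0 * m := by rw [hm, mul_inv_cancel_left]
    have hmM : m ∈ Mw := by
      refine (Subgroup.mul_mem_iff_of_index_two h2).mpr (iff_of_false (fun h => he0 (inv_mem_iff.mp h)) fun h => ?_)
      have := (hσM _).mpr h
      rw [hσσ] at this
      exact he0 (this ▸ h)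
    have hm2 : m * m = 1 := by
      have := hσσ e0
      rw [hσe0, map_mul, hσe0, (hσM m).mpr hmM, mul_assoc, mul_eq_left] at this
      exact this
    have hmMc : ∀ k ∈ Mw, m * k = k * m := by
      intro k hk
      have h1 := (hσM _).mpr (hMn.conj_mem k hk e0)
      rw [map_mul, map_mul, map_inv, (hσM k).mpr hk, hσe0] at h1
      calc m * k = e0⁻¹ * (e0 * m * k * (e0 * m)⁻¹) * e0 * m := by group
        _ = e0⁻¹ * (e0 * k * e0⁻¹) * e0 * m := by rw [h1]
        _ = k * m := by group
    have hme0 : m * e0 = e0 * m := by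
      have he : e0 * e0 ∈ Mw := by
        rcases hx.sq e0 with h | h <;> rw [h]
        exacts [one_mem _, hzM]
      have h1 := (hσM _).mpr he
      rw [map_mul, hσe0, mul_assoc, mul_right_inj] at h1
      calc m * e0 = m * (e0 * m) * m⁻¹ := by group
        _ = e0 * m := by rw [h1, inv_eq_of_mul_eq_one_right hm2]
    have hmc : m ∈ Subgroup.center E := by
      refine Subgroup.mem_center_iff.mpr fun k => ?_
      by_cases hk : k ∈ Mw
      · exact (hmMc k hk).symm
      · have hk' : e0⁻¹ * k ∈ Mw :=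
          (Subgroup.mul_mem_iff_of_index_two h2).mpr (iff_of_false (fun h => he0 (inv_mem_iff.mp h)) hk)
        have h1 : Commute m (e0 * (e0⁻¹ * k)) := (show Commute m e0 from hme0).mul_right (hmMc _ hk')
        rw [mul_inv_cancel_left] at h1
        exact h1.eq.symm
    rcases (hx.center_iff m).mp hmc with h | h
    · rw [hm, inv_mul_eq_one] at h
      exact he0 ((hσM e0).mp h.symm)
    · -- correct `w` by an element centralising the subgroup of index two
      have hc4 := hx.card_mul_card_centralizer (A := Mw) hzM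
      rw [← Mw.card_mul_index, h2, mul_assoc] at hc4
      have hc4' := Nat.eq_of_mul_eq_mul_left Nat.card_pos hc4
      obtain ⟨u, hu, hu'⟩ : ∃ u ∈ Subgroup.centralizer (Mw : Set E), u ∉ Subgroup.center E := by
        by_contra hall
        push Not at hall
        have := Subgroup.card_le_of_le hall
        rw [hc4', hx.card_center] at this
        omega
      have hue : ⁅u, e0⁆ = z' := (hx.comm_cases u e0).resolve_left fun h' => hu' (by
        refine Subgroup.mem_center_iff.mpr fun k => ?_
        by_cases hk : k ∈ Mw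
        · exact Subgroup.mem_centralizer_iff.mp hu k hk
        · have hk' : e0⁻¹ * k ∈ Mw :=
            (Subgroup.mul_mem_iff_of_index_two h2).mpr (iff_of_false (fun h => he0 (inv_mem_iff.mp h)) hk)
          have h1 : Commute u (e0 * (e0⁻¹ * k)) := (commutatorElement_eq_one_iff_commute.mp h').mul_right
            (Subgroup.mem_centralizer_iff.mp hu _ hk').symm
          rw [mul_inv_cancel_left] at h1
          exact h1.eq.symm)
      refine hwE ?_
      have huw : ∀ k : E, u * σ k * u⁻¹ = k := by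
        have hMfix : ∀ k ∈ Mw, u * σ k * u⁻¹ = k := fun k hk => by
          rw [(hσM k).mpr hk, mul_inv_eq_iff_eq_mul]
          exact (Subgroup.mem_centralizer_iff.mp hu k hk).symm
        have he0fix : u * σ e0 * u⁻¹ = e0 := by
          rw [hσe0, h]
          calc u * (e0 * z') * u⁻¹ = ⁅u, e0⁆ * e0 * (u * z' * u⁻¹) := by rw [commutatorElement_def]; group
            _ = z' * e0 * z' := by rw [hue, (hx.z_comm u).eq, mul_inv_cancel_right]
            _ = e0 := by rw [← (hx.z_comm e0).eq, mul_assoc, hx.zz, mul_one]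
        intro k
        by_cases hk : k ∈ Mw
        · exact hMfix k hk
        · have hk' : e0⁻¹ * k ∈ Mw :=
            (Subgroup.mul_mem_iff_of_index_two h2).mpr (iff_of_false (fun h => he0 (inv_mem_iff.mp h)) hk)
          calc u * σ k * u⁻¹ = (u * σ e0 * u⁻¹) * (u * σ (e0⁻¹ * k) * u⁻¹) := by rw [map_mul, map_inv]; group
            _ = k := by rw [he0fix, hMfix _ hk', mul_inv_cancel_left]
      have h1 : (u : G) * w ∈ Subgroup.centralizer (E : Set G) := by
        refine Subgroup.mem_centralizer_iff.mpr fun b hb => ?_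
        have h2 : (u : G) * (w * b * w⁻¹) * (u : G)⁻¹ = b := congrArg Subtype.val (huw ⟨b, hb⟩)
        conv_lhs => rw [← h2]
        group
      have := E.mul_mem (E.inv_mem u.2) (hcent h1)
      rwa [inv_mul_cancel_left] at this
  -- a Sylow subgroup of the centralizer
  obtain ⟨S, hS⟩ := (show IsPGroup 2 (E.subgroupOf C) from
    IsPGroup.of_equiv hext.1.1 (Subgroup.subgroupOfEquivOfLe hEC).symm).exists_le_sylow
  let P : Subgroup G := (S : Subgroup C).map C.subtype
  have hPC : P ≤ C := Subgroup.map_subtype_le _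
  have hEP : E ≤ P := fun e he => ⟨⟨e, hEC he⟩, hS he, rfl⟩
  haveI hEn : (E.subgroupOf P).Normal := ⟨fun k hk g => hnorm g (hPC g.2) k hk⟩
  have hnil : Group.IsNilpotent P := (S.isPGroup'.map C.subtype).isNilpotent
  let c : P → G ⧸ C → Multiplicative (ZMod 2) := fun g q => CfsgLib.TransferOrbit.cval χ (g : G) q
  have hc : ∀ g h x, c (g * h) x = c g (h • x) * c h x := fun g h x => CfsgLib.TransferOrbit.cval_mul χ g h x
  have hzP : z ∈ P := hEP hzE
  have hzz2 : (⟨z, hzP⟩ : P) * ⟨z, hzP⟩ = 1 := Subtype.ext (by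
    change z * z = 1
    rw [← pow_two, ← hz, pow_orderOf_eq_one])
  have hstab : ∀ (h x : G), h • (x : G ⧸ C) = x ↔ x⁻¹ * h * x ∈ C := fun h x => by
    rw [show h • (x : G ⧸ C) = ((h * x : G) : G ⧸ C) from rfl, eq_comm, QuotientGroup.eq, mul_assoc]
  have hq₀ : ∀ g : P, g • ((1 : G) : G ⧸ C) = ((1 : G) : G ⧸ C) := fun g =>
    (hstab g 1).mpr (by rw [inv_one, one_mul, mul_one]; exact hPC g.2)
  have hcase : ∀ q : G ⧸ C, q ≠ ((1 : G) : G ⧸ C) → (⟨z, hzP⟩ : P) • q ≠ q ∨
      ∀ M : Subgroup P, (∀ x, x ∈ M ↔ x ∈ E.subgroupOf P ∧ x • q = q) →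
        (8 * Nat.card M ≤ Nat.card (E.subgroupOf P) ∨
          (4 * Nat.card M ≤ Nat.card (E.subgroupOf P) ∧ c ⟨z, hzP⟩ q = 1)) ∨
        (2 * Nat.card M ≤ Nat.card (E.subgroupOf P) ∧ ∀ m ∈ M, c m q = 1) := by
    suffices H : ∀ q : G ⧸ C, q ≠ ((1 : G) : G ⧸ C) → (⟨z, hzP⟩ : P) • q ≠ q ∨
      ∀ M : Subgroup P, (∀ x, x ∈ M ↔ x ∈ E.subgroupOf P ∧ x • q = q) →
        8 * Nat.card M ≤ Nat.card (E.subgroupOf P) ∨
          (4 * Nat.card M ≤ Nat.card (E.subgroupOf P) ∧ c ⟨z, hzP⟩ q = 1) from
      fun q hq => (H q hq).imp_right fun h M hM => Or.inl (h M hM)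
    intro q hq
    refine or_iff_not_imp_left.mpr fun hzq M hM => ?_
    push Not at hzq
    obtain ⟨x, rfl⟩ := QuotientGroup.mk_surjective q
    set w := x * z * x⁻¹ with hw
    have hfix : ∀ g : G, g • (x : G ⧸ C) = x ↔ g * w = w * g := fun g => by
      rw [hstab, Subgroup.mem_centralizer_singleton_iff, hw]
      constructor
      · intro h
        calc g * (x * z * x⁻¹) = x * (x⁻¹ * g * x * z) * x⁻¹ := by group
          _ = x * (z * (x⁻¹ * g * x)) * x⁻¹ := by rw [h]
          _ = x * z * x⁻¹ * g := by group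
      · intro h
        calc x⁻¹ * g * x * z = x⁻¹ * (g * (x * z * x⁻¹)) * x := by group
          _ = x⁻¹ * (x * z * x⁻¹ * g) * x := by rw [h]
          _ = z * (x⁻¹ * g * x) := by group
    have hwC : w ∈ C := Subgroup.mem_centralizer_singleton_iff.mpr ((hfix z).mp hzq).symm
    have hwE : w ∉ E := fun h => by
      refine hq (QuotientGroup.eq.mpr ?_)
      rw [mul_one, inv_mem_iff, Subgroup.mem_centralizer_singleton_iff]
      exact mul_inv_eq_iff_eq_mul.mp (hno x h)
    obtain ⟨hi1, hi2⟩ := hindex w hwC (by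
      rw [hw, show x * z * x⁻¹ * (x * z * x⁻¹) = x * (z * z) * x⁻¹ by group, ← pow_two, ← hz, pow_orderOf_eq_one]
      simp) hwE
    set Mw := (Subgroup.centralizer ({w} : Set G)).subgroupOf E
    have hcardM : Nat.card M = Nat.card Mw := by
      refine Nat.card_congr ⟨fun g => ⟨⟨(g : P), ((hM g).mp g.2).1⟩, ?_⟩, fun k => ⟨⟨(k : E), hEP (k : E).2⟩, ?_⟩,
        fun g => rfl, fun k => rfl⟩
      · exact Subgroup.mem_centralizer_singleton_iff.mpr ((hfix _).mp ((hM g).mp g.2).2)
      · exact (hM _).mpr ⟨(k : E).2, (hfix _).mpr (Subgroup.mem_centralizer_singleton_iff.mp k.2)⟩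
    have hcardE : Nat.card (E.subgroupOf P) = Nat.card E := Nat.card_congr (Subgroup.subgroupOfEquivOfLe hEP).toEquiv
    rw [hcardM, hcardE, ← Mw.card_mul_index, mul_comm 8, mul_comm 4]
    obtain ⟨i, -, hi⟩ := (Nat.dvd_prime_pow Nat.prime_two).mp (hcard ▸ Mw.index_dvd_card)
    rcases Nat.lt_or_ge i 3 with hlt | hge
    · right
      have hi4 : Mw.index = 4 := by
        interval_cases i
        · exact absurd hi hi1
        · exact absurd hi hi2
        · exact hi
      refine ⟨by rw [hi4], ?_⟩
      -- the subgroup fixing the point is not abelian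
      obtain ⟨u, hu, v, hv, huv⟩ : ∃ u ∈ Mw, ∃ v ∈ Mw, ¬ u * v = v * u := by
        by_contra hall
        push Not at hall
        have hle : Mw ≤ Subgroup.centralizer (Mw : Set E) := fun u hu =>
          Subgroup.mem_centralizer_iff.mpr fun v hv => hall v hv u hu
        have hzM : z' ∈ Mw := by
          change (z' : G) ∈ Subgroup.centralizer ({w} : Set G)
          rw [hzz]
          exact Subgroup.mem_centralizer_singleton_iff.mpr ((hfix z).mp hzq)
        have hc4 := hx.card_mul_card_centralizer (A := Mw) hzM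
        have h1 := Subgroup.card_le_of_le hle
        have h2 := Mw.card_mul_index
        rw [hi4] at h2
        nlinarith
      have hst : ∀ k : E, k ∈ Mw → ((k : E) : G) • (x : G ⧸ C) = x := fun k hk =>
        (hfix _).mpr (Subgroup.mem_centralizer_singleton_iff.mp hk)
      have hz' : u * v = z' * (v * u) := by
        rw [← (hx.comm_cases u v).resolve_left fun h => huv (commutatorElement_eq_one_iff_commute.mp h).eq,
          commutatorElement_def]
        group
      have hz'' : (⟨(u : G), hEP u.2⟩ : P) * ⟨(v : G), hEP v.2⟩ =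
          ⟨z, hzP⟩ * (⟨(v : G), hEP v.2⟩ * ⟨(u : G), hEP u.2⟩) := Subtype.ext (by
        change (u : G) * v = z * ((v : G) * u)
        rw [← hzz]
        exact congrArg Subtype.val hz')
      have hu' : (⟨(u : G), hEP u.2⟩ : P) • (x : G ⧸ C) = x := hst u hu
      have hv' : (⟨(v : G), hEP v.2⟩ : P) • (x : G ⧸ C) = x := hst v hv
      have h1 := congrArg (fun g => c g (x : G ⧸ C)) hz''
      simp only [hc, mul_smul, hu', hv'] at h1
      rw [mul_comm (c ⟨(u : G), _⟩ _)] at h1
      exact mul_eq_right.mp h1.symm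
    · left
      rw [hi]
      exact Nat.mul_le_mul_left _ (le_trans (by norm_num : 8 ≤ 2 ^ 3) (Nat.pow_le_pow_right (by norm_num) hge))
  have hkill : ∀ g : P, χ ⟨g, hPC g.2⟩ = 1 := by
    intro g
    have horb : ∀ q, q ≠ ((1 : G) : G ⧸ C) → ∀ g : P, ∏ x ∈ CfsgLib.TransferOrbit.orb (⊤ : Subgroup P) q, c g x = 1 :=
      fun q hq g => CfsgLib.ExtraTransfer.orbit_eq_one hc hnil hA (E.subgroupOf P) (z := ⟨z, hzP⟩) hzE
        (fun g => Subtype.ext (Subgroup.mem_centralizer_singleton_iff.mp (hPC g.2))) hzz2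
        (fun k hk => by
          rcases hx.sq ⟨k, hk⟩ with h | h
          · exact Or.inl (Subtype.ext (congrArg (fun b : E => (b : G)) h))
          · exact Or.inr (Subtype.ext ((congrArg (fun b : E => (b : G)) h).trans hzz)))
        (fun a ha b hb => by
          rcases hx.comm_cases ⟨(b : G), hb⟩⁻¹ ⟨(a : G), ha⟩⁻¹ with h | h
          · refine Or.inl (Subtype.ext ?_)
            have h' := congrArg (fun k : E => (k : G)) h
            simpa [commutatorElement_def] using h'
          · refine Or.inr (Subtype.ext ?_)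
            have h' := congrArg (fun k : E => (k : G)) h
            simp only [commutatorElement_def, hzz] at h'
            simpa using h')
        q (hcase q hq) g
    have htot := htr (g : G)
    rw [CfsgLib.TransferOrbit.transfer_eq_prod,
      show ∏ q : G ⧸ C, CfsgLib.TransferOrbit.cval χ (g : G) q = c g ((1 : G) : G ⧸ C) from
        CfsgLib.TransferOrbit.prod_univ_eq hc ((1 : G) : G ⧸ C) hq₀ horb g] at htot
    have hm : (1 : G)⁻¹ * (g : G) * 1 ∈ C := by rw [inv_one, one_mul, mul_one]; exact hPC g.2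
    change CfsgLib.TransferOrbit.cval χ (g : G) _ = 1 at htot
    have h := CfsgLib.TransferOrbit.cval_eq χ (g := (g : G)) (x := (1 : G)) (hq₀ g) hm
    have h' := h.symm.trans htot
    simpa only [inv_one, one_mul, mul_one] using h'
  -- so the Sylow subgroup lies in the subgroup of index two
  have hSK : (S : Subgroup C) ≤ K' := by
    intro s hs
    by_contra hK
    have h := hkill ⟨(s : G), ⟨s, hs, rfl⟩⟩
    change (if (⟨(s : G), _⟩ : C) ∈ K' then (1 : Multiplicative (ZMod 2)) else Multiplicative.ofAdd 1) = 1 at h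
    rw [if_neg (show ¬ (⟨(s : G), _⟩ : C) ∈ K' from hK)] at h
    exact one_ne_zero (ofAdd_eq_one.mp h)
  have h2 := (Subgroup.index_dvd_of_le hSK).trans (dvd_refl _)
  rw [hK'] at h2
  exact S.not_dvd_index h2

end Cfsg.Agent.S3300
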