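import Cfsg.Statements.S3301
import Mathlib
import Cfsg.Agent.Lib.Basic
import Cfsg.Agent.Lib.ExtraspecialTwo
import Cfsg.Agent.Lib.ExtraTransferTwo
import Cfsg.Agent.Lib.ExtraOuter

set_option autoImplicit false
open Cfsg
open scoped commutatorElement

namespace Cfsg.Agent.S3301

/-- Let G be a finite group with no nontrivial 2-group quotient (O^2(G) = G), z an involution of G with H = C_G(z), and suppose E = O_2(H) is extraspecial with C_G(E) ≤ E. Then the Sylow 2-subgroups of H/[H, H] are elementary abelian: every element of 2-power order of the abelianization of H has order at most 2. -/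
theorem result {G : Type*} [Group G] [Finite G] (hres : Cfsg.pResidual 2 G = ⊤) (z : G) (hz : orderOf z = 2)
    (E : Subgroup G) (hE : E = (Cfsg.pCore 2 ↥(Subgroup.centralizer ({z} : Set G))).map (Subgroup.centralizer ({z} : Set G)).subtype)
    (hext : Cfsg.IsExtraspecial 2 ↥E) (hcent : Subgroup.centralizer (E : Set G) ≤ E) :
    ∀ q : Abelianization ↥(Subgroup.centralizer ({z} : Set G)), (∃ k : ℕ, orderOf q = 2 ^ k) → q ^ 2 = 1 := by
  classical
  set C := Subgroup.centralizer ({z} : Set G) with hC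
  obtain ⟨z', hx⟩ := CfsgLib.ExtraTwo.ofExtraspecial hext
  have hEC : E ≤ C := by
    rw [hE]; exact Subgroup.map_subtype_le _
  have hzC : z ∈ C := Subgroup.mem_centralizer_singleton_iff.mpr rfl
  have hzE : z ∈ E := by
    rw [hE]
    refine ⟨⟨z, hzC⟩, ?_, rfl⟩
    haveI : (Subgroup.zpowers (⟨z, hzC⟩ : C)).Normal := by
      constructor
      intro c hc g
      obtain ⟨k, rfl⟩ := Subgroup.mem_zpowers_iff.mp hc
      have h : Commute g (⟨z, hzC⟩ : C) := Subtype.ext (Subgroup.mem_centralizer_singleton_iff.mp g.2)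
      rw [(h.zpow_right k).eq, mul_inv_cancel_right]
      exact hc
    exact CfsgLib.le_pCore (IsPGroup.of_card (n := 1) (by rw [Nat.card_zpowers, Subgroup.orderOf_mk, hz, pow_one]))
      (Subgroup.mem_zpowers _)
  have hzz : ((z' : E) : G) = z := by
    have hmem : (⟨z, hzE⟩ : E) ∈ Subgroup.center E := Subgroup.mem_center_iff.mpr fun g =>
      Subtype.ext (Subgroup.mem_centralizer_singleton_iff.mp (hEC g.2))
    rcases (hx.center_iff _).mp hmem with h | h
    · exfalso
      have : z = 1 := congrArg Subtype.val h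
      rw [this, orderOf_one] at hz
      norm_num at hz
    · exact (congrArg Subtype.val h).symm
  have hbase : ∀ g : G, (∀ e ∈ E, g⁻¹ * e * g ∈ C) → g ∈ C := by
    intro g hg
    have h1 : g * z * g⁻¹ ∈ Subgroup.centralizer (E : Set G) := by
      refine Subgroup.mem_centralizer_iff.mpr fun e he => ?_
      have h := Subgroup.mem_centralizer_singleton_iff.mp (hg e he)
      calc e * (g * z * g⁻¹) = g * ((g⁻¹ * e * g) * z) * g⁻¹ := by group
        _ = g * (z * (g⁻¹ * e * g)) * g⁻¹ := by rw [h]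
        _ = g * z * g⁻¹ * e := by group
    have h2 : g * z * g⁻¹ ∈ E := hcent h1
    have h3 : (⟨_, h2⟩ : E) ∈ Subgroup.center E := Subgroup.mem_center_iff.mpr fun b =>
      Subtype.ext (Subgroup.mem_centralizer_iff.mp h1 b b.2)
    rcases (hx.center_iff _).mp h3 with h | h
    · exfalso
      have : z = 1 := by
        have h' : g * z * g⁻¹ = 1 := congrArg Subtype.val h
        simpa using h'
      rw [this, orderOf_one] at hz
      norm_num at hz
    · have h' : g * z * g⁻¹ = z := (congrArg Subtype.val h).trans hzz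
      exact Subgroup.mem_centralizer_singleton_iff.mpr (mul_inv_eq_iff_eq_mul.mp h')
  -- the quotient of the abelianisation by squares and elements squaring to one
  intro q₁ hq₁
  by_contra hq2
  let K₀ : Subgroup (Abelianization C) :=
    (powMonoidHom 2 : Abelianization C →* Abelianization C).range ⊔
      (powMonoidHom 2 : Abelianization C →* Abelianization C).ker
  let χ : C →* Abelianization C ⧸ K₀ := (QuotientGroup.mk' K₀).comp Abelianization.of
  have hA : ∀ a : Abelianization C ⧸ K₀, a * a = 1 := fun a => by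
    obtain ⟨b, rfl⟩ := QuotientGroup.mk_surjective a
    rw [← QuotientGroup.mk_mul, QuotientGroup.eq_one_iff]
    exact Subgroup.mem_sup_left ⟨b, by rw [powMonoidHom_apply, pow_two]⟩
  have hχ1 : ∀ y : C, Abelianization.of (y * y) = 1 → χ y = 1 := fun y hy => by
    refine (QuotientGroup.eq_one_iff _).mpr (Subgroup.mem_sup_right ?_)
    rw [MonoidHom.mem_ker, powMonoidHom_apply, pow_two, ← map_mul, hy]
  have hne : ∀ y : Abelianization C, y ∈ K₀ → ∃ a b, a ^ 2 = 1 ∧ y = b ^ 2 * a := by
    intro y hy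
    obtain ⟨b, ⟨c', hc'⟩, a, ha, e⟩ := Subgroup.mem_sup.mp hy
    exact ⟨a, c', ha, by rw [← e, ← hc']; rfl⟩
  obtain ⟨r₁, hr₁⟩ : ∃ y : Abelianization C, y ∉ K₀ := by
    by_contra hall
    push Not at hall
    have hsq : ∀ y : Abelianization C, ∀ k : ℕ, ∃ r, y ^ 2 = r ^ (2 ^ (k + 1)) := by
      intro y k
      induction k with
      | zero => exact ⟨y, rfl⟩
      | succ k ih =>
        obtain ⟨r, hr⟩ := ih
        obtain ⟨a, b, ha, rfl⟩ := hne r (hall r)
        refine ⟨b, ?_⟩
        rw [hr, mul_pow, ← pow_mul, show 2 * 2 ^ (k + 1) = 2 ^ (k + 1 + 1) by ring,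
          show a ^ 2 ^ (k + 1) = 1 by rw [pow_succ', pow_mul, ha, one_pow], mul_one]
    obtain ⟨k, hk⟩ := hq₁
    refine hq2 ?_
    -- the order of `r` has odd cofactor
    obtain ⟨r, hr⟩ := hsq q₁ (orderOf q₁ * Nat.card (Abelianization C))
    have hpos : 0 < Nat.card (Abelianization C) := Nat.card_pos
    obtain ⟨j, m, hm, hjm⟩ := Nat.exists_eq_pow_mul_and_not_dvd hpos.ne' 2 (by norm_num)
    have hm1 : (q₁ ^ 2) ^ m = 1 := by
      rw [hr, ← pow_mul]
      refine pow_eq_one_iff_modEq.mpr ?_ |>.trans rfl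
      refine Nat.modEq_zero_iff_dvd.mpr ((orderOf_dvd_natCard r).trans ?_)
      rw [hjm]
      refine mul_dvd_mul_right (pow_dvd_pow 2 ?_) m
      have h1 : j < 2 ^ j := Nat.lt_two_pow_self
      have h2 : 2 ^ j ≤ Nat.card (Abelianization C) := Nat.le_of_dvd hpos ⟨m, hjm⟩
      have h3 := Nat.le_mul_of_pos_left (Nat.card (Abelianization C)) (orderOf_pos q₁)
      have h4 := congrArg (orderOf q₁ * ·) hjm
      omega
    have hord : orderOf (q₁ ^ 2) ∣ 2 ^ k := hk ▸ orderOf_pow_dvd 2
    refine orderOf_eq_one_iff.mp (Nat.eq_one_of_dvd_coprimes ?_ hord (orderOf_dvd_of_pow_eq_one hm1))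
    exact Nat.Coprime.pow_left k ((Nat.prime_two.coprime_iff_not_dvd).mpr hm)
  have htr : ∀ g, MonoidHom.transfer χ g = 1 := by
    have hle : Cfsg.pResidual 2 G ≤ (MonoidHom.transfer χ).ker := by
      rw [Cfsg.pResidual, Subgroup.closure_le]
      intro g hg
      refine orderOf_eq_one_iff.mp (Nat.eq_one_of_dvd_coprimes hg (orderOf_map_dvd _ g) ?_)
      exact orderOf_dvd_of_pow_eq_one (by rw [pow_two, hA])
    intro g
    exact hle (hres ▸ Subgroup.mem_top g)
  haveI := Fact.mk Nat.prime_two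
  haveI : Fintype (G ⧸ C) := Fintype.ofFinite _
  -- `C` normalises `E`
  have hnorm : ∀ g ∈ C, ∀ e ∈ E, g * e * g⁻¹ ∈ E := by
    intro g hg e he
    rw [hE] at he ⊢
    obtain ⟨e, he, rfl⟩ := he
    exact ⟨⟨g, hg⟩ * e * ⟨g, hg⟩⁻¹, Subgroup.Normal.conj_mem inferInstance e he ⟨g, hg⟩, rfl⟩
  -- a Sylow subgroup of the centralizer
  obtain ⟨S, hS⟩ := (show IsPGroup 2 (E.subgroupOf C) from
    IsPGroup.of_equiv hext.1.1 (Subgroup.subgroupOfEquivOfLe hEC).symm).exists_le_sylow
  let P : Subgroup G := (S : Subgroup C).map C.subtype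
  have hPC : P ≤ C := Subgroup.map_subtype_le _
  have hEP : E ≤ P := fun e he => ⟨⟨e, hEC he⟩, hS he, rfl⟩
  haveI hEn : (E.subgroupOf P).Normal := ⟨fun k hk g => hnorm g (hPC g.2) k hk⟩
  have hnil : Group.IsNilpotent P := (S.isPGroup'.map C.subtype).isNilpotent
  let c : P → G ⧸ C → Abelianization C ⧸ K₀ := fun g q => CfsgLib.TransferOrbit.cval χ (g : G) q
  have hc : ∀ g h x, c (g * h) x = c g (h • x) * c h x := fun g h x => CfsgLib.TransferOrbit.cval_mul χ g h x
  have hzP : z ∈ P := hEP hzE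
  have hzz2 : (⟨z, hzP⟩ : P) * ⟨z, hzP⟩ = 1 := Subtype.ext (by
    change z * z = 1
    rw [← pow_two, ← hz, pow_orderOf_eq_one])
  have hstab : ∀ (h x : G), h • (x : G ⧸ C) = x ↔ x⁻¹ * h * x ∈ C := fun h x => by
    rw [show h • (x : G ⧸ C) = ((h * x : G) : G ⧸ C) from rfl, eq_comm, QuotientGroup.eq, mul_assoc]
  have hq₀ : ∀ g : P, g • ((1 : G) : G ⧸ C) = ((1 : G) : G ⧸ C) := fun g =>
    (hstab g 1).mpr (by rw [inv_one, one_mul, mul_one]; exact hPC g.2)
  have hcase : ∀ q : G ⧸ C, q ≠ ((1 : G) : G ⧸ C) → (⟨z, hzP⟩ : P) • q ≠ q ∨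
      ∀ M : Subgroup P, (∀ x, x ∈ M ↔ x ∈ E.subgroupOf P ∧ x • q = q) →
        (8 * Nat.card M ≤ Nat.card (E.subgroupOf P) ∨
          (4 * Nat.card M ≤ Nat.card (E.subgroupOf P) ∧ c ⟨z, hzP⟩ q = 1)) ∨
        (2 * Nat.card M ≤ Nat.card (E.subgroupOf P) ∧ ∀ m ∈ M, c m q = 1) := by
    intro q hq
    refine or_iff_not_imp_left.mpr fun hzq M hM => ?_
    push Not at hzq
    obtain ⟨x, rfl⟩ := QuotientGroup.mk_surjective q
    set w := x * z * x⁻¹ with hw
    have hfix : ∀ g : G, g • (x : G ⧸ C) = x ↔ g * w = w * g := fun g => by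
      rw [hstab, Subgroup.mem_centralizer_singleton_iff, hw]
      constructor
      · intro h
        calc g * (x * z * x⁻¹) = x * (x⁻¹ * g * x * z) * x⁻¹ := by group
          _ = x * (z * (x⁻¹ * g * x)) * x⁻¹ := by rw [h]
          _ = x * z * x⁻¹ * g := by group
      · intro h
        calc x⁻¹ * g * x * z = x⁻¹ * (g * (x * z * x⁻¹)) * x := by group
          _ = x⁻¹ * (x * z * x⁻¹ * g) * x := by rw [h]
          _ = z * (x⁻¹ * g * x) := by group
    have hwC : w ∈ C := Subgroup.mem_centralizer_singleton_iff.mpr ((hfix z).mp hzq).symm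
    have hwz : w * z = z * w := ((hfix z).mp hzq).symm
    have hzc : ∀ g : G, g • (x : G ⧸ C) = x → x⁻¹ * g * x ∈ C := fun g h => (hstab g x).mp h
    set Mw := (Subgroup.centralizer ({w} : Set G)).subgroupOf E with hMw
    have hmemM : ∀ k : E, k ∈ Mw ↔ (k : G) • (x : G ⧸ C) = x := fun k => by
      rw [hMw, Subgroup.mem_subgroupOf, Subgroup.mem_centralizer_singleton_iff, hfix]
    have hcardM : Nat.card M = Nat.card Mw := by
      refine Nat.card_congr ⟨fun g => ⟨⟨(g : P), ((hM g).mp g.2).1⟩, ?_⟩, fun k => ⟨⟨(k : E), hEP (k : E).2⟩, ?_⟩,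
        fun g => rfl, fun k => rfl⟩
      · exact (hmemM _).mpr ((hM g).mp g.2).2
      · exact (hM _).mpr ⟨(k : E).2, (hmemM k).mp k.2⟩
    have hcardE : Nat.card (E.subgroupOf P) = Nat.card E := Nat.card_congr (Subgroup.subgroupOfEquivOfLe hEP).toEquiv
    have hMi := Mw.card_mul_index
    rw [hcardM, hcardE]
    have hi1 : Mw.index ≠ 1 := fun h => by
      refine hq (QuotientGroup.eq.mpr ?_)
      rw [mul_one, inv_mem_iff]
      exact hbase x fun e he => hzc e ((hmemM ⟨e, he⟩).mp ((Subgroup.index_eq_one.mp h).symm ▸ Subgroup.mem_top _))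
    obtain ⟨i, -, hi⟩ := (Nat.dvd_prime_pow Nat.prime_two).mp
      ((IsPGroup.iff_card.mp hext.1.1).choose_spec ▸ Mw.index_dvd_card)
    have hi2 : 2 ≤ Mw.index := by
      have := Subgroup.index_ne_zero_of_finite (H := Mw)
      omega
    have hcval : ∀ (g : P) (h : (g : G) • (x : G ⧸ C) = x), c g (x : G ⧸ C) = χ ⟨_, hzc g h⟩ := fun g h =>
      CfsgLib.TransferOrbit.cval_eq χ (g := (g : G)) (x := x) h (hzc g h)
    -- the conjugate of the central involution
    set z₁ : C := ⟨_, hzc z hzq⟩ with hz₁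
    have hz₁2 : z₁ * z₁ = 1 := Subtype.ext (by
      change x⁻¹ * z * x * (x⁻¹ * z * x) = 1
      rw [show x⁻¹ * z * x * (x⁻¹ * z * x) = x⁻¹ * (z * z) * x by group,
        show z * z = 1 from congrArg Subtype.val hzz2]
      group)
    have hczq : c ⟨z, hzP⟩ (x : G ⧸ C) = 1 := by
      rw [hcval ⟨z, hzP⟩ hzq]
      exact hχ1 z₁ (by rw [hz₁2, map_one])
    by_cases hof : Abelianization.of z₁ = 1
    · -- every element of the stabiliser is killed
      refine Or.inr ⟨?_, fun m hm => ?_⟩
      · rw [← hMi, mul_comm]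
        exact Nat.mul_le_mul_left _ hi2
      obtain ⟨hmE, hmq⟩ := (hM m).mp hm
      rw [hcval m hmq]
      refine hχ1 _ ?_
      have hsq : (m : G) * m = 1 ∨ (m : G) * m = z := (hx.sq ⟨m, hmE⟩).imp (fun h => congrArg Subtype.val h)
        fun h => (congrArg Subtype.val h).trans hzz
      rcases hsq with h | h
      · refine (congrArg Abelianization.of (Subtype.ext ?_)).trans (map_one _)
        change x⁻¹ * (m : G) * x * (x⁻¹ * m * x) = 1
        rw [show x⁻¹ * (m : G) * x * (x⁻¹ * m * x) = x⁻¹ * (m * m) * x by group, h]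
        group
      · refine (congrArg Abelianization.of (Subtype.ext ?_)).trans hof
        change x⁻¹ * (m : G) * x * (x⁻¹ * m * x) = x⁻¹ * z * x
        rw [show x⁻¹ * (m : G) * x * (x⁻¹ * m * x) = x⁻¹ * (m * m) * x by group, h]
    -- otherwise the stabiliser is abelian
    have habel : ∀ u ∈ Mw, ∀ v ∈ Mw, u * v = v * u := by
      intro u hu v hv
      by_contra huv
      refine hof ?_
      have h := (hx.comm_cases u v).resolve_left fun h => huv (commutatorElement_eq_one_iff_commute.mp h).eq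
      have hu' : x⁻¹ * (u : G) * x ∈ C := hzc _ ((hmemM u).mp hu)
      have hv' : x⁻¹ * (v : G) * x ∈ C := hzc _ ((hmemM v).mp hv)
      have e : z₁ = ⁅(⟨_, hu'⟩ : C), (⟨_, hv'⟩ : C)⁆ := by
        refine Subtype.ext ?_
        change x⁻¹ * z * x = _
        rw [← hzz, ← h]
        simp only [commutatorElement_def, Subgroup.coe_mul, Subgroup.coe_inv]
        group
      rw [e, map_commutatorElement]
      exact commutatorElement_eq_one_iff_commute.mpr (Commute.all _ _)
    by_cases hi4 : Mw.index = 2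
    · -- the stabiliser of index two is then elementary abelian
      refine Or.inr ⟨by rw [← hMi, hi4, mul_comm], fun m hm => ?_⟩
      obtain ⟨hmE, hmq⟩ := (hM m).mp hm
      rw [hcval m hmq]
      refine hχ1 _ ?_
      set k : E := ⟨m, hmE⟩ with hk
      have hkM : k ∈ Mw := (hmemM k).mpr hmq
      rcases hx.sq k with h | h
      · refine (congrArg Abelianization.of (Subtype.ext ?_)).trans (map_one _)
        change x⁻¹ * (m : G) * x * (x⁻¹ * m * x) = 1
        rw [show x⁻¹ * (m : G) * x * (x⁻¹ * m * x) = x⁻¹ * (m * m) * x by group,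
          show (m : G) * m = 1 from congrArg Subtype.val h]
        group
      exfalso
      have hww : w * w = 1 := by
        rw [hw, show x * z * x⁻¹ * (x * z * x⁻¹) = x * (z * z) * x⁻¹ by group,
          show z * z = 1 from congrArg Subtype.val hzz2]
        group
      have hwE : w ∈ E := hx.mem_of_index_two hcent (fun e he => hnorm w hwC e he) (by rw [hzz]; exact hwz) hww hi4
      have hzM : z' ∈ Mw := (hmemM z').mpr (by rw [hzz]; exact hzq)
      have hwM : (⟨w, hwE⟩ : E) ∈ Mw := by
        rw [hMw, Subgroup.mem_subgroupOf, Subgroup.mem_centralizer_singleton_iff]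
      have hc4 := hx.card_mul_card_centralizer (A := Mw) hzM
      have hle := Subgroup.card_le_of_le (show Mw ≤ Subgroup.centralizer (Mw : Set E) from fun u hu =>
        Subgroup.mem_centralizer_iff.mpr fun v hv => habel v hv u hu)
      rw [← hMi, hi4, mul_assoc] at hc4
      have hc4' := Nat.eq_of_mul_eq_mul_left Nat.card_pos hc4
      have hz1 : (z : G) ≠ 1 := fun e => by rw [e, orderOf_one] at hz; norm_num at hz
      have hw1 : w ≠ 1 := fun e => hz1 (by rwa [hw, conj_eq_one_iff] at e)
      have hwz' : w ≠ z := fun e => by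
        refine hq (QuotientGroup.eq.mpr ?_)
        rw [mul_one, inv_mem_iff, Subgroup.mem_centralizer_singleton_iff]
        exact mul_inv_eq_iff_eq_mul.mp e
      have hk4 : orderOf k = 2 ^ (1 + 1) :=
        orderOf_eq_prime_pow (by rw [pow_one, pow_two, h]; exact hx.ne) (hx.pow_four k)
      have heq : Subgroup.zpowers k = Mw := Subgroup.eq_of_le_of_card_ge (Subgroup.zpowers_le.mpr hkM) (by
        rw [Nat.card_zpowers, hk4]
        omega)
      rw [← heq, mem_zpowers_iff_mem_range_orderOf, hk4, Finset.mem_image] at hwM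
      obtain ⟨j, hj, e⟩ := hwM
      have e' : (k : G) ^ j = w := by simpa using congrArg Subtype.val e
      have hkk : (k : G) * k = z := (congrArg Subtype.val h).trans hzz
      have hj4 : j < 4 := by simpa using hj
      interval_cases j
      · exact hw1 (by rw [← e', pow_zero])
      · exact hz1 (by rw [← hkk]; rw [pow_one] at e'; rw [e', hww])
      · exact hwz' (by rw [← e', pow_two, hkk])
      · refine hz1 ?_
        have h6 : (k : G) ^ 3 * (k : G) ^ 3 = 1 := by rw [e', hww]
        rwa [← pow_add, show 3 + 3 = 2 + (2 + 2) from rfl, pow_add, pow_add, pow_two, hkk,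
          show z * z = 1 from congrArg Subtype.val hzz2, mul_one] at h6
    refine Or.inl (Or.inr ⟨?_, hczq⟩)
    rw [← hMi, mul_comm]
    refine Nat.mul_le_mul_left _ ?_
    rw [hi] at hi4 hi2 ⊢
    rcases Nat.lt_or_ge i 2 with hlt | hge
    · obtain rfl | rfl : i = 0 ∨ i = 1 := by omega
      · rw [pow_zero] at hi2; omega
      · exact absurd (pow_one 2) hi4
    · exact le_trans (by norm_num : 4 ≤ 2 ^ 2) (Nat.pow_le_pow_right (by norm_num) hge)
  have hkill : ∀ g : P, χ ⟨g, hPC g.2⟩ = 1 := by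
    intro g
    have horb : ∀ q, q ≠ ((1 : G) : G ⧸ C) → ∀ g : P, ∏ x ∈ CfsgLib.TransferOrbit.orb (⊤ : Subgroup P) q, c g x = 1 :=
      fun q hq g => CfsgLib.ExtraTransfer.orbit_eq_one hc hnil hA (E.subgroupOf P) (z := ⟨z, hzP⟩) hzE
        (fun g => Subtype.ext (Subgroup.mem_centralizer_singleton_iff.mp (hPC g.2))) hzz2
        (fun k hk => by
          rcases hx.sq ⟨k, hk⟩ with h | h
          · exact Or.inl (Subtype.ext (congrArg (fun b : E => (b : G)) h))
          · exact Or.inr (Subtype.ext ((congrArg (fun b : E => (b : G)) h).trans hzz)))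
        (fun a ha b hb => by
          rcases hx.comm_cases ⟨(b : G), hb⟩⁻¹ ⟨(a : G), ha⟩⁻¹ with h | h
          · refine Or.inl (Subtype.ext ?_)
            have h' := congrArg (fun k : E => (k : G)) h
            simpa [commutatorElement_def] using h'
          · refine Or.inr (Subtype.ext ?_)
            have h' := congrArg (fun k : E => (k : G)) h
            simp only [commutatorElement_def, hzz] at h'
            simpa using h')
        q (hcase q hq) g
    have htot := htr (g : G)
    rw [CfsgLib.TransferOrbit.transfer_eq_prod,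
      show ∏ q : G ⧸ C, CfsgLib.TransferOrbit.cval χ (g : G) q = c g ((1 : G) : G ⧸ C) from
        CfsgLib.TransferOrbit.prod_univ_eq hc ((1 : G) : G ⧸ C) hq₀ horb g] at htot
    have hm : (1 : G)⁻¹ * (g : G) * 1 ∈ C := by rw [inv_one, one_mul, mul_one]; exact hPC g.2
    change CfsgLib.TransferOrbit.cval χ (g : G) _ = 1 at htot
    have h := CfsgLib.TransferOrbit.cval_eq χ (g := (g : G)) (x := (1 : G)) (hq₀ g) hm
    have h' := h.symm.trans htot
    simpa only [inv_one, one_mul, mul_one] using h'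
  -- so the quotient has odd order and squares to one
  have hcard : Nat.card χ.range ∣ (S : Subgroup C).index := by
    rw [← Subgroup.index_ker χ]
    exact Subgroup.index_dvd_of_le fun s hs => hkill ⟨(s : G), ⟨s, hs, rfl⟩⟩
  obtain ⟨y, rfl⟩ := (QuotientGroup.mk_surjective : Function.Surjective (Abelianization.of (G := C))) r₁
  have hodd : ¬ 2 ∣ Nat.card χ.range := fun h => S.not_dvd_index (h.trans hcard)
  have h1 : (⟨χ y, y, rfl⟩ : χ.range) = 1 := by
    refine orderOf_eq_one_iff.mp (Nat.eq_one_of_dvd_coprimes ((Nat.prime_two.coprime_iff_not_dvd).mpr hodd)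
      (orderOf_dvd_of_pow_eq_one (Subtype.ext ?_)) (orderOf_dvd_natCard _))
    change χ y ^ 2 = 1
    rw [pow_two, hA]
  exact hr₁ ((QuotientGroup.eq_one_iff _).mp (congrArg Subtype.val h1))

end Cfsg.Agent.S3301
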