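import Cfsg.Statements.S3304
import Cfsg.Agent.Lib.BinaryOctahedralTame
import Cfsg.Agent.Lib.PSolvable
import Cfsg.Agent.S3742
-- import your own Cfsg.Agent.* helpers here

set_option autoImplicit false
open Cfsg

namespace Cfsg.Agent.S3304

/-- Let G be a finite solvable group in which the intersection of any two distinct Sylow 2-subgroups has 2-rank at most 1 (contains no Klein four-group). Write Q = G/O(G), O(G) the largest normal subgroup of odd order. Then Q has a normal Sylow 2-subgroup; or Q is isomorphic to GL(2,3); or Q has order 48, centre of order 2 with central quotient isomorphic to the symmetric group of degree 4, and generalized quaternion Sylow 2-subgroups of order 16 (the binary octahedral group). The last two are the two representation groups of the symmetric group of degree 4. -/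
theorem result {G : Type*} [Group G] [Finite G] (hs : Group.IsSolvable G)
    (hI : ∀ S T : Sylow 2 G, S ≠ T → Cfsg.PRankLE 2 1 ↥((S : Subgroup G) ⊓ (T : Subgroup G))) :
    (∃ P : Sylow 2 (G ⧸ Cfsg.oddCore G), (P : Subgroup (G ⧸ Cfsg.oddCore G)).Normal) ∨
    Nonempty ((G ⧸ Cfsg.oddCore G) ≃* GL (Fin 2) (ZMod 3)) ∨
    (Nat.card (G ⧸ Cfsg.oddCore G) = 48 ∧ Nat.card ↥(Subgroup.center (G ⧸ Cfsg.oddCore G)) = 2 ∧
      Nonempty ((G ⧸ Cfsg.oddCore G) ⧸ Subgroup.center (G ⧸ Cfsg.oddCore G) ≃* Equiv.Perm (Fin 4)) ∧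
      ∀ P : Sylow 2 (G ⧸ Cfsg.oddCore G), Nonempty (↥(P : Subgroup (G ⧸ Cfsg.oddCore G)) ≃* QuaternionGroup 4)) := by
  classical
  haveI : Fact (Nat.Prime 2) := ⟨Nat.prime_two⟩
  haveI : Group.IsSolvable G := hs
  set O := Cfsg.oddCore G with hOdef
  haveI : O.Normal := by rw [hOdef]; infer_instance
  let π : G →* G ⧸ O := QuotientGroup.mk' O
  have hπs : Function.Surjective π := QuotientGroup.mk'_surjective O
  have hQO : Cfsg.oddCore (G ⧸ O) = ⊥ := CfsgLib.pPrimeCore_quotient_eq_bot 2
  haveI : Group.IsSolvable (G ⧸ O) := solvable_of_surjective hπs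
  have hOodd : (Nat.card O).Coprime 2 := by
    rw [hOdef]; exact CfsgLib.card_pPrimeCore_coprime 2
  have hinj : ∀ (S : Sylow 2 G) (a b : G), a ∈ (S : Subgroup G) → b ∈ (S : Subgroup G) → π a = π b → a = b := by
    intro S a b ha hb h
    have h1 : a⁻¹ * b ∈ O := QuotientGroup.eq.mp h
    obtain ⟨k, hk⟩ := IsPGroup.iff_orderOf.mp S.2 ⟨_, mul_mem (inv_mem ha) hb⟩
    rw [Subgroup.orderOf_mk] at hk
    refine inv_mul_eq_one.mp (orderOf_eq_one_iff.mp ?_)
    exact Nat.eq_one_of_dvd_coprimes (hOodd.pow_right k) (Subgroup.orderOf_dvd_natCard O h1) hk.dvd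
  -- tame intersections in the quotient
  have hIQ : ∀ S T : Sylow 2 (G ⧸ O), S ≠ T →
      Cfsg.PRankLE 2 1 ↥((S : Subgroup (G ⧸ O)) ⊓ (T : Subgroup (G ⧸ O))) := by
    intro S₁ T₁ hne A hAc hA2
    obtain ⟨S, rfl⟩ := Sylow.mapSurjective_surjective hπs 2 S₁
    obtain ⟨T, rfl⟩ := Sylow.mapSurjective_surjective hπs 2 T₁
    set K : Subgroup G := ((T : Subgroup G).map π).comap π with hK
    have hTK : (T : Subgroup G) ≤ K := Subgroup.le_comap_map π _
    set D : Subgroup G := (S : Subgroup G) ⊓ K with hD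
    have hDp : IsPGroup 2 (D.subgroupOf K) :=
      (S.2.to_le (inf_le_left : D ≤ S)).comap_of_injective K.subtype K.subtype_injective
    obtain ⟨T₂, hT₂⟩ := hDp.exists_le_sylow
    obtain ⟨k, hk⟩ := MulAction.exists_smul_eq K (T.subtype hTK) T₂
    set T' : Sylow 2 G := (k : G) • T with hT'
    have hconj : ∀ a : G, a ∈ (T' : Subgroup G) ↔ (k : G)⁻¹ * a * k ∈ (T : Subgroup G) := fun a => by
      rw [hT', Sylow.coe_subgroup_smul, Subgroup.mem_pointwise_smul_iff_inv_smul_mem, ← map_inv]
      simp [MulAut.smul_def]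
    have hDT : D ≤ T' := fun a ha => by
      have h1 : (⟨a, ha.2⟩ : K) ∈ (T₂ : Subgroup K) := hT₂ ha
      rw [← hk, Sylow.coe_subgroup_smul, Subgroup.mem_pointwise_smul_iff_inv_smul_mem, ← map_inv,
        MulAut.smul_def, MulAut.conj_apply, inv_inv, Sylow.coe_subtype, Subgroup.mem_subgroupOf] at h1
      rw [hconj]
      simpa using h1
    have hST : S ≠ T' := by
      intro h
      refine hne (Sylow.ext ?_)
      rw [Sylow.coe_mapSurjective, Sylow.coe_mapSurjective]
      refine Subgroup.eq_of_le_of_card_ge ?_ ?_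
      · rintro _ ⟨a, ha, rfl⟩
        have h1 : a ∈ (T' : Subgroup G) := h ▸ ha
        rw [hconj] at h1
        obtain ⟨u, hu, hku⟩ := k.2
        have h2 : π ((k : G)⁻¹ * a * k) ∈ (T : Subgroup G).map π := Subgroup.mem_map_of_mem π h1
        have h3 : π (k : G) ∈ (T : Subgroup G).map π := k.2
        have := mul_mem (mul_mem h3 h2) (inv_mem h3)
        rwa [map_mul, map_mul, map_inv, ← mul_assoc, ← mul_assoc, mul_inv_cancel, one_mul, mul_inv_cancel_right]
          at this
      · have e := (Sylow.mapSurjective hπs S).card_eq_multiplicity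
        have e' := (Sylow.mapSurjective hπs T).card_eq_multiplicity
        rw [Sylow.coe_mapSurjective] at e e'
        rw [e, e']
    -- lift the elementary abelian subgroup
    set A₁ : Subgroup (G ⧸ O) := A.map (Subgroup.subtype _) with hA₁
    have hA₁le : A₁ ≤ (S : Subgroup G).map π ⊓ (T : Subgroup G).map π := by
      rintro _ ⟨a, -, rfl⟩; exact a.2
    set B : Subgroup G := A₁.comap π ⊓ (S : Subgroup G) with hB
    have hBT : B ≤ (S : Subgroup G) ⊓ (T' : Subgroup G) := fun b hb =>
      ⟨hb.2, hDT ⟨hb.2, (hA₁le hb.1).2⟩⟩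
    have hBmap : B.map π = A₁ := by
      refine le_antisymm (by rintro _ ⟨b, hb, rfl⟩; exact hb.1) fun a ha => ?_
      obtain ⟨s, hs, rfl⟩ := (hA₁le ha).1
      exact ⟨s, ⟨ha, hs⟩, rfl⟩
    have hcardB : Nat.card B = Nat.card A := by
      have hA₁c : Nat.card A₁ = Nat.card A := Subgroup.card_map_of_injective (Subgroup.subtype_injective _)
      rw [← hA₁c, ← hBmap]
      refine Nat.card_congr (Equiv.ofBijective (fun b => ⟨π b, b, b.2, rfl⟩) ⟨fun a b h => ?_, ?_⟩)
      · exact Subtype.ext (hinj S a b a.2.2 b.2.2 (congrArg Subtype.val h))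
      · rintro ⟨_, b, hb, rfl⟩; exact ⟨⟨b, hb⟩, rfl⟩
    have hback : ∀ b ∈ B, ∃ a ∈ A, (a : G ⧸ O) = π b := fun b hb => hb.1
    have h2 := hI S T' hST (B.subgroupOf _) ?_ ?_
    · rwa [Nat.card_congr (Subgroup.subgroupOfEquivOfLe hBT).toEquiv, hcardB] at h2
    · refine ⟨⟨fun a b => Subtype.ext (Subtype.ext ?_)⟩⟩
      obtain ⟨x, hx, ex⟩ := hback _ a.2
      obtain ⟨y, hy, ey⟩ := hback _ b.2
      refine hinj S _ _ (mul_mem (hBT a.2).1 (hBT b.2).1) (mul_mem (hBT b.2).1 (hBT a.2).1) ?_
      simp only [Subgroup.coe_mul, map_mul]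
      rw [Subgroup.coe_subtype] at ex ey
      rw [← ex, ← ey]
      have := congrArg (fun z : A => ((z : ↥((Sylow.mapSurjective hπs S : Subgroup (G ⧸ O)) ⊓
        (Sylow.mapSurjective hπs T : Subgroup (G ⧸ O)))) : G ⧸ O)) (hAc.is_comm.comm ⟨x, hx⟩ ⟨y, hy⟩)
      simpa only [Subgroup.coe_mul] using this
    · intro a ha
      obtain ⟨x, hx, ex⟩ := hback _ ha
      refine Subtype.ext (hinj S _ _ (pow_mem a.2.1 2) (one_mem _) ?_)
      simp only [SubgroupClass.coe_pow, OneMemClass.coe_one, map_one, map_pow]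
      rw [Subgroup.coe_subtype] at ex
      rw [← ex]
      exact congrArg Subtype.val (hA2 x hx)
  -- the structure of the quotient
  by_cases hnorm : ∃ P : Sylow 2 (G ⧸ O), (P : Subgroup (G ⧸ O)).Normal
  · exact Or.inl hnorm
  refine Or.inr ?_
  have hnorm' : ∀ P : Sylow 2 (G ⧸ O), ¬ (P : Subgroup (G ⧸ O)).Normal := fun P h => hnorm ⟨P, h⟩
  set P := Cfsg.pCore 2 (G ⧸ O) with hPdef
  have hPp : IsPGroup 2 P := CfsgLib.isPGroup_pCore 2
  haveI hPn : P.Normal := by rw [hPdef]; infer_instance
  have hCP : Subgroup.centralizer (P : Set (G ⧸ O)) ≤ P := CfsgLib.centralizer_pCore_le Nat.prime_two hQO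
  obtain ⟨S₀⟩ := (inferInstance : Nonempty (Sylow 2 (G ⧸ O)))
  obtain ⟨T₀, hne₀⟩ : ∃ T₀ : Sylow 2 (G ⧸ O), S₀ ≠ T₀ := by
    by_contra hall
    push Not at hall
    haveI : Subsingleton (Sylow 2 (G ⧸ O)) := ⟨fun a b => (hall a).symm.trans (hall b)⟩
    exact hnorm' S₀ inferInstance
  have hPle : P ≤ (S₀ : Subgroup (G ⧸ O)) ⊓ (T₀ : Subgroup (G ⧸ O)) :=
    le_inf (hPp.le_sylow_of_normal S₀) (hPp.le_sylow_of_normal T₀)
  have hu : CfsgLib.Frob.UniqSub 2 P := by
    intro H K hH hK
    haveI : Nontrivial P := by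
      by_contra h
      rw [not_nontrivial_iff_subsingleton] at h
      have := Subgroup.card_le_card_group H
      rw [hH, Nat.card_of_subsingleton (1 : P)] at this
      omega
    haveI := hPp.center_nontrivial
    obtain ⟨z, hz⟩ := exists_prime_orderOf_dvd_card' (G := Subgroup.center P) 2 (by
      obtain ⟨j, hj⟩ := (hPp.to_subgroup (Subgroup.center P)).exists_card_eq
      rw [hj]
      exact dvd_pow_self 2 (fun h0 => by
        rw [h0, pow_zero] at hj
        exact absurd hj (ne_of_gt Finite.one_lt_card)))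
    have key : ∀ H : Subgroup P, Nat.card H = 2 → H = Subgroup.zpowers (z : P) := by
      intro H hH
      set E := H ⊔ Subgroup.zpowers (z : P) with hE
      have hz2 : (z : P) ^ 2 = 1 := by rw [← hz, ← SubmonoidClass.coe_pow, pow_orderOf_eq_one]; rfl
      have hEle : Nat.card E ≤ 2 ^ 1 := by
        have hcomm : ∀ a ∈ E, a ^ 2 = 1 := by
          intro a ha
          haveI hzn : (Subgroup.zpowers (z : P)).Normal := ⟨fun w hw u => by
            obtain ⟨i, rfl⟩ := hw
            rw [Subgroup.mem_center_iff.mp (Subgroup.zpow_mem _ z.2 i) u, mul_inv_cancel_right]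
            exact Subgroup.zpow_mem _ (Subgroup.mem_zpowers _) i⟩
          rw [hE, Subgroup.mem_sup_of_normal_right] at ha
          obtain ⟨b, hb, c, hc, rfl⟩ := ha
          obtain ⟨i, rfl⟩ := hc
          have hcom : Commute b ((z : P) ^ i) :=
            (Subgroup.mem_center_iff.mp (Subgroup.zpow_mem _ z.2 i) b).symm |>.symm
          rw [hcom.mul_pow, ← zpow_natCast ((z : P) ^ i), ← zpow_mul, mul_comm, zpow_mul, zpow_natCast, hz2, one_zpow,
            mul_one]
          have : (⟨b, hb⟩ : H) ^ 2 = 1 := hH ▸ pow_card_eq_one'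
          exact congrArg Subtype.val this
        set ι : P →* ↥((S₀ : Subgroup (G ⧸ O)) ⊓ (T₀ : Subgroup (G ⧸ O))) := Subgroup.inclusion hPle with hι
        have := hIQ S₀ T₀ hne₀ (E.map ι) ⟨⟨?_⟩⟩ ?_
        · rwa [Subgroup.card_map_of_injective (Subgroup.inclusion_injective hPle)] at this
        · rintro ⟨_, a, ha, rfl⟩ ⟨_, b, hb, rfl⟩
          refine Subtype.ext ?_
          show ι a * ι b = ι b * ι a
          have h' : ∀ c ∈ E, c⁻¹ = c := fun c hc => inv_eq_of_mul_eq_one_right (by rw [← pow_two]; exact hcomm c hc)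
          rw [← map_mul, ← map_mul, ← h' _ (mul_mem ha hb), mul_inv_rev, h' a ha, h' b hb]
        · rintro _ ⟨a, ha, rfl⟩
          rw [← map_pow, hcomm a ha, map_one]
      have h1 : H = E := Subgroup.eq_of_le_of_card_ge le_sup_left (by rw [hH]; simpa using hEle)
      exact (Subgroup.eq_of_le_of_card_ge (h1.symm ▸ le_sup_right : Subgroup.zpowers (z : P) ≤ H)
        (by rw [hH, Nat.card_zpowers, Subgroup.orderOf_coe, hz])).symm
    exact (key H hH).trans (key K hK).symm
  have hnotP : ∀ g : G ⧸ O, g ≠ 1 → Odd (orderOf g) → g ∉ Subgroup.centralizer (P : Set (G ⧸ O)) := by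
    intro g hg hgo hc
    obtain ⟨k, hk⟩ := IsPGroup.iff_orderOf.mp hPp ⟨g, hCP hc⟩
    rw [Subgroup.orderOf_mk] at hk
    rcases k with _ | k
    · exact hg (orderOf_eq_one_iff.mp (by rw [hk, pow_zero]))
    · rw [hk] at hgo
      exact absurd hgo (by rw [Nat.not_odd_iff_even]; exact (Even.pow_of_ne_zero even_two k.succ_ne_zero))
  have hPnorm : ∀ g : G ⧸ O, g ∈ Subgroup.normalizer (P : Set (G ⧸ O)) := fun g => by
    rw [Subgroup.normalizer_eq_top_iff.mpr hPn]; trivial
  obtain ⟨g₀, hg₀, hg₀o⟩ : ∃ g : G ⧸ O, g ≠ 1 ∧ Odd (orderOf g) := by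
    by_contra hnone
    push Not at hnone
    refine hnorm' S₀ ?_
    have : (S₀ : Subgroup (G ⧸ O)) = ⊤ := by
      refine Subgroup.index_eq_one.mp ?_
      by_contra hidx1
      obtain ⟨p, hp, hpd⟩ := Nat.exists_prime_and_dvd hidx1
      haveI : Fact p.Prime := ⟨hp⟩
      obtain ⟨g, hg⟩ := exists_prime_orderOf_dvd_card' (G := G ⧸ O) p (hpd.trans (Subgroup.index_dvd_card _))
      have hp2 : p ≠ 2 := fun h => S₀.not_dvd_index (h ▸ hpd)
      have := hnone g (fun h => hp.ne_one (by rw [← hg, h, orderOf_one]))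
      rw [hg] at this
      exact this (hp.odd_of_ne_two hp2)
    rw [this]; infer_instance
  obtain ⟨e⟩ := CfsgLib.QuatSection.q8_of_moved hPp hu (hPnorm g₀) (hnotP g₀ hg₀ hg₀o) hg₀o
  -- the action on the quaternion group
  let φ : (G ⧸ O) →* MulAut P := MulAut.conjNormal
  have hP8 : Nat.card P = 8 := by rw [Nat.card_congr e.toEquiv, CfsgLib.Quat.nat_card]
  have hZ2 : Nat.card (Subgroup.center P) = 2 := by
    have h1 := (Subgroup.center P).card_mul_index
    rw [CfsgLib.LocalFusion.q8_center_index e, hP8] at h1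
    omega
  have hker : φ.ker = (Subgroup.center P).map P.subtype := by
    have hkerle : φ.ker ≤ (Subgroup.center P).map P.subtype := by
      intro a ha
      have hc : a ∈ Subgroup.centralizer (P : Set (G ⧸ O)) := Subgroup.mem_centralizer_iff.mpr fun q hq => by
        have := congrArg (fun ψ : MulAut P => ((ψ ⟨q, hq⟩ : P) : G ⧸ O)) (MonoidHom.mem_ker.mp ha)
        simp only [φ, MulAut.conjNormal_apply, MulAut.one_apply] at this
        exact (mul_inv_eq_iff_eq_mul.mp this).symm
      exact ⟨⟨a, hCP hc⟩, Subgroup.mem_center_iff.mpr fun q =>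
        Subtype.ext (Subgroup.mem_centralizer_iff.mp hc q q.2), rfl⟩
    refine le_antisymm hkerle ?_
    rintro _ ⟨z, hz, rfl⟩
    rw [MonoidHom.mem_ker]
    refine MulEquiv.ext fun q => Subtype.ext ?_
    simp only [φ, MulAut.conjNormal_apply, MulAut.one_apply]
    have := congrArg Subtype.val (Subgroup.mem_center_iff.mp hz q)
    exact mul_inv_eq_iff_eq_mul.mpr this.symm
  have hk2 : Nat.card φ.ker = 2 := by
    rw [hker, Subgroup.card_map_of_injective P.subtype_injective, hZ2]
  obtain ⟨eA⟩ := Cfsg.Agent.S3742.result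
  have hA24 : Nat.card (MulAut P) = 24 := by
    rw [Nat.card_congr (MulAut.congr e).toEquiv, Nat.card_congr eA.toEquiv, Nat.card_perm, Nat.card_eq_fintype_card,
      Fintype.card_fin]
    rfl
  have hr : Nat.card φ.range ∣ 24 := hA24 ▸ Subgroup.card_subgroup_dvd_card φ.range
  have hQc : Nat.card (G ⧸ O) = 2 * Nat.card φ.range := by
    rw [← φ.ker.card_mul_index, Subgroup.index_ker, hk2]
  have h8 : 8 ∣ Nat.card (G ⧸ O) := hP8 ▸ Subgroup.card_subgroup_dvd_card P
  have hrange : Nat.card φ.range = 24 := by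
    have hle := Nat.le_of_dvd (by norm_num) hr
    rw [hQc] at h8
    have h4 : 4 ∣ Nat.card φ.range := by omega
    have hS₀ : ∀ j, Nat.card (G ⧸ O) = 8 * j → Odd j → False := by
      intro j hj hjo
      have h1 := (S₀ : Subgroup (G ⧸ O)).card_mul_index
      obtain ⟨i, hi⟩ := S₀.2.exists_card_eq
      rw [hi, hj] at h1
      have h2 : i ≤ 3 := by
        by_contra hi3
        push Not at hi3
        obtain ⟨c, hc⟩ := pow_dvd_pow 2 hi3
        have : 8 * (2 * c * (S₀ : Subgroup (G ⧸ O)).index) = 8 * j := by rw [← h1, hc]; ring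
        have h' := Nat.eq_of_mul_eq_mul_left (by norm_num) this
        rw [← h'] at hjo
        exact Nat.not_even_iff_odd.mpr hjo ⟨c * (S₀ : Subgroup (G ⧸ O)).index, by ring⟩
      have h3 : P = (S₀ : Subgroup (G ⧸ O)) := Subgroup.eq_of_le_of_card_ge (hPle.trans inf_le_left) (by
        rw [hi, hP8]; exact (Nat.pow_le_pow_right two_pos h2).trans (by norm_num))
      exact hnorm' S₀ (h3 ▸ hPn)
    obtain ⟨t, ht⟩ := h4
    have ht' : t ∣ 6 := (Nat.mul_dvd_mul_iff_left (show 0 < 4 by norm_num)).mp (by rw [← ht]; exact hr)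
    have := Nat.le_of_dvd (by norm_num) ht'
    have hodd : ∀ j, t = j → Odd j → False := fun j hj hjo =>
      hS₀ j (by rw [hQc, ht, hj]; ring) hjo
    rcases Nat.even_or_odd t with hev | hod
    · obtain ⟨u, hu'⟩ := hev
      interval_cases t <;> first | omega | skip
      all_goals exfalso
      all_goals norm_num at ht'
      all_goals (
        have hcard16 : Nat.card (G ⧸ O) = 16 := by omega
        have htop : (S₀ : Subgroup (G ⧸ O)) = ⊤ := by
          rw [← Subgroup.card_eq_iff_eq_top, S₀.card_eq_multiplicity, hcard16,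
            show (16 : ℕ) = 2 ^ 4 by norm_num, Nat.Prime.factorization_pow Nat.prime_two, Finsupp.single_eq_same]
        exact hnorm' S₀ (htop.symm ▸ inferInstance))
    · exact (hodd t rfl hod).elim
  have hQ48 : Nat.card (G ⧸ O) = 48 := by omega
  have hrt : φ.range = ⊤ := (Subgroup.card_eq_iff_eq_top _).mp (by rw [hrange, hA24])
  let ψ : (G ⧸ O) →* Equiv.Perm (Fin 4) := ((MulAut.congr e).trans eA).toMonoidHom.comp φ
  have hψs : Function.Surjective ψ := ((MulAut.congr e).trans eA).surjective.comp (MonoidHom.range_eq_top.mp hrt)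
  have hψk : ψ.ker = φ.ker := by
    ext a
    rw [MonoidHom.mem_ker, MonoidHom.mem_ker]
    exact ((MulAut.congr e).trans eA).map_eq_one_iff
  have hcen : Subgroup.center (G ⧸ O) = ψ.ker := by
    refine le_antisymm (fun a ha => ?_) (fun a ha => ?_)
    · rw [MonoidHom.mem_ker]
      refine (show ∀ u : Equiv.Perm (Fin 4), (∀ v, v * u = u * v) → u = 1 by decide) _ fun v => ?_
      obtain ⟨b, rfl⟩ := hψs v
      rw [← map_mul, ← map_mul, Subgroup.mem_center_iff.mp ha b]
    · refine Subgroup.mem_center_iff.mpr fun b => ?_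
      have hsub : Nat.card (ψ.ker : Subgroup (G ⧸ O)) = 2 := by rw [hψk, hk2]
      have hb : b * a * b⁻¹ ∈ ψ.ker := (inferInstance : ψ.ker.Normal).conj_mem a ha b
      by_cases ha1 : a = 1
      · rw [ha1, mul_one, one_mul]
      · haveI : Finite ψ.ker := inferInstance
        obtain ⟨u, hu1, hu2⟩ := (Nat.card_eq_two_iff' (1 : ψ.ker)).mp hsub
        have e1 := hu2 ⟨a, ha⟩ (fun h => ha1 (congrArg Subtype.val h))
        have e2 := hu2 ⟨_, hb⟩ (fun h => ha1 (conj_eq_one_iff.mp (congrArg Subtype.val h)))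
        exact mul_inv_eq_iff_eq_mul.mp (congrArg Subtype.val (e2.trans e1.symm))
  by_cases hinv : ∃ t : G ⧸ O, t * t = 1 ∧ t ∉ P
  · obtain ⟨t, ht, htP⟩ := hinv
    refine Or.inl ?_
    haveI : Fact (Nat.Prime 3) := ⟨Nat.prime_three⟩
    obtain ⟨g, hg3⟩ := exists_prime_orderOf_dvd_card' (G := G ⧸ O) 3 (by rw [hQ48]; norm_num)
    have hgo : Odd (orderOf g) := by rw [hg3]; decide
    have hg1 : g ≠ 1 := fun h => by rw [h, orderOf_one] at hg3; omega
    obtain ⟨f, hf, -, hrot⟩ := CfsgLib.QuatSection.exists_param e (hPnorm g) (hnotP g hg1 hgo) hgo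
    obtain ⟨θ, hθ⟩ := CfsgLib.DihedralCore.exists_sl23 hf (g := g) (by rw [← hg3, pow_orderOf_eq_one]) hrot
    have hcardU : Nat.card θ.range = 24 := by
      rw [← Nat.card_congr (MonoidHom.ofInjective hθ).toEquiv,
        ← Nat.card_congr (Equiv.ofBijective _ CfsgLib.QuatSection.slMap_bijective), Nat.card_prod,
        CfsgLib.Quat.nat_card, Nat.card_zmod]
    have hidx : θ.range.index = 2 := by
      have h1 := θ.range.card_mul_index
      rw [hcardU, hQ48] at h1
      omega
    haveI : θ.range.Normal := Subgroup.normal_of_index_eq_two hidx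
    -- the subgroup contains P
    have hPU : P ≤ θ.range := by
      by_contra hnle
      set I : Subgroup P := θ.range.subgroupOf P with hI'
      have hne' : I ≠ ⊥ := by
        intro hb
        have h1 := I.card_mul_index
        rw [hb, Subgroup.card_bot, one_mul] at h1
        have h2 : I.index ∣ θ.range.index := Subgroup.relIndex_dvd_index_of_normal θ.range P
        rw [hidx, hb, h1, hP8] at h2
        norm_num at h2
      have h1 := Subgroup.relIndex_dvd_index_of_normal θ.range P
      rw [hidx] at h1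
      rcases (Nat.dvd_prime Nat.prime_two).mp h1 with h2 | h2
      · exact hnle (Subgroup.relIndex_eq_one.mp h2)
      · -- the odd element would fix a subgroup of index two
        have hgU : g ∈ θ.range := by
          have hg2 : g ^ 2 ∈ θ.range := by
            rw [pow_two, Subgroup.mul_mem_iff_of_index_two hidx]
          have h3 : g ^ 3 = 1 := by rw [← hg3, pow_orderOf_eq_one]
          have : (g ^ 2)⁻¹ = g := inv_eq_of_mul_eq_one_right (by rw [← pow_succ, h3])
          exact this ▸ inv_mem hg2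
        set C : Subgroup (G ⧸ O) := θ.range ⊓ P with hC
        have hC4 : Nat.card C = 4 := by
          have h5 := I.card_mul_index
          rw [show I.index = 2 from h2, hP8] at h5
          rw [← Nat.card_congr (Subgroup.subgroupOfEquivOfLe (inf_le_right : C ≤ P)).toEquiv]
          have : C.subgroupOf P = I := Subgroup.inf_subgroupOf_right _ _
          rw [this]
          omega
        haveI : C.Normal := inferInstance
        obtain ⟨c, hc, hcc⟩ : ∃ c ∈ C, c * c ≠ 1 := by
          by_contra hall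
          push Not at hall
          have hsub : ∀ q : QuaternionGroup 2, q * q = 1 → q = 1 ∨ q = QuaternionGroup.a 2 := by decide
          have : Nat.card C ≤ 2 := by
            refine (Nat.card_le_card_of_injective (β := {q : QuaternionGroup 2 // q = 1 ∨ q = QuaternionGroup.a 2})
              (fun c : C => ⟨e ⟨c, c.2.2⟩, hsub _ (by
                rw [← map_mul, ← map_one e]; exact congrArg e (Subtype.ext (hall c c.2)))⟩) ?_).trans ?_
            · intro a b h
              have := e.injective (congrArg Subtype.val h)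
              exact Subtype.ext (congrArg Subtype.val this :)
            · rw [Nat.card_eq_fintype_card]; decide
          omega
        have hcC : Subgroup.zpowers c = C := by
          refine Subgroup.eq_of_le_of_card_ge (Subgroup.zpowers_le.mpr hc) ?_
          rw [hC4, Nat.card_zpowers]
          have hd : orderOf c ∣ 2 ^ 2 := by
            have := Subgroup.orderOf_dvd_natCard C hc
            rwa [hC4] at this
          obtain ⟨i, hi, hci⟩ := (Nat.dvd_prime_pow Nat.prime_two).mp hd
          interval_cases i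
          · exact absurd (by rw [orderOf_eq_one_iff.mp (hci.trans (pow_zero 2))]; simp) hcc
          · exact absurd (by rw [← pow_two, ← show orderOf c = 2 by simpa using hci, pow_orderOf_eq_one]) hcc
          · rw [hci]; norm_num
        haveI : IsCyclic C := by rw [← hcC]; infer_instance
        have hnC : g ∈ Subgroup.normalizer (C : Set (G ⧸ O)) := by
          rw [Subgroup.normalizer_eq_top_iff.mpr inferInstance]; trivial
        have hfix := CfsgLib.LocalFusion.fix_cyclic (hPp.to_le inf_le_right) hnC hgo c hc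
        exact (CfsgLib.LocalFusion.q8_moves e (hPnorm g) (hnotP g hg1 hgo) hgo hc.2 hcc).1 hfix
    have htU : t ∉ θ.range := by
      rintro ⟨s, hs⟩
      obtain ⟨z, hz⟩ := exists_prime_orderOf_dvd_card' (G := P) 2 (by rw [hP8]; norm_num)
      obtain ⟨s', hs'⟩ := hPU z.2
      have hs1 : s ≠ 1 := fun h => htP (by rw [← hs, h, map_one]; exact one_mem _)
      have hzne : (z : G ⧸ O) ≠ 1 := fun h => by
        rw [Subtype.ext h (a1 := z) (a2 := 1), orderOf_one] at hz; omega
      have hs'1 : s' ≠ 1 := fun h => hzne (by rw [← hs', h, map_one])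
      have hz2 : (z : G ⧸ O) * z = 1 := by
        rw [← pow_two, ← hz, ← SubmonoidClass.coe_pow, pow_orderOf_eq_one]; rfl
      have e1 := CfsgLib.GLTwoThreeExt.invol_unique s (hθ (by rw [map_mul, map_one, hs]; exact ht)) hs1
      have e2 := CfsgLib.GLTwoThreeExt.invol_unique s' (hθ (by rw [map_mul, map_one, hs']; exact hz2)) hs'1
      exact htP (by rw [← hs, e1, ← e2, hs']; exact z.2)
    obtain ⟨eG⟩ := CfsgLib.GLTwoThreeExt.nonempty_equiv θ hθ hidx ht htU (fun c hc => hPU (hCP (by
      refine Subgroup.mem_centralizer_iff.mpr fun q hq => ?_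
      obtain ⟨s', hs'⟩ := hPU hq
      rw [← hs']
      exact (hc s').symm)))
    exact ⟨eG.symm⟩
  · refine Or.inr ⟨hQ48, by rw [hcen, hψk, hk2], ⟨(QuotientGroup.quotientMulEquivOfEq hcen).trans
      (QuotientGroup.quotientKerEquivOfSurjective ψ hψs)⟩, fun R => ?_⟩
    push Not at hinv
    have hR16 : Nat.card (R : Subgroup (G ⧸ O)) = 16 := by
      rw [R.card_eq_multiplicity, hQ48, show (48 : ℕ) = 2 ^ 4 * 3 by norm_num, Nat.factorization_mul (by norm_num)
        (by norm_num), Finsupp.add_apply, Nat.Prime.factorization_pow Nat.prime_two, Finsupp.single_eq_same,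
        Nat.factorization_eq_zero_of_not_dvd (show ¬ 2 ∣ 3 by norm_num)]
      norm_num
    have hPR : P ≤ R := hPp.le_sylow_of_normal R
    have huR : CfsgLib.Frob.UniqSub 2 R := by
      intro H K hH hK
      have hto : ∀ H : Subgroup R, Nat.card H = 2 → H ≤ P.subgroupOf R := fun H hH a ha => by
        refine hinv (a : G ⧸ O) ?_
        have : (⟨a, ha⟩ : H) ^ 2 = 1 := by
          have h' := pow_card_eq_one' (x := (⟨a, ha⟩ : H))
          rwa [hH] at h'
        rw [← pow_two]
        exact congrArg Subtype.val (congrArg Subtype.val this)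
      let eP := Subgroup.subgroupOfEquivOfLe hPR
      have h := CfsgLib.QuatSection.uniqSub_of_equiv eP hu (H.subgroupOf _) (K.subgroupOf _)
        (by rw [Nat.card_congr (Subgroup.subgroupOfEquivOfLe (hto H hH)).toEquiv, hH])
        (by rw [Nat.card_congr (Subgroup.subgroupOfEquivOfLe (hto K hK)).toEquiv, hK])
      rw [← Subgroup.map_subgroupOf_eq_of_le (hto H hH), h, Subgroup.map_subgroupOf_eq_of_le (hto K hK)]
    rcases CfsgLib.Frob.cyclic_or_quaternion_two R.2 huR with hc | ⟨k, ⟨ek⟩⟩
    · exfalso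
      haveI : IsCyclic (R : Subgroup (G ⧸ O)) := hc
      haveI hcP : IsCyclic P := isCyclic_of_injective _ (Subgroup.inclusion_injective hPR)
      letI := hcP.commGroup
      obtain ⟨a, b, hab⟩ : ∃ a b : QuaternionGroup 2, a * b ≠ b * a := by decide
      exact hab (e.symm.injective (by rw [map_mul, map_mul, mul_comm]))
    · have h := Nat.card_congr ek.toEquiv
      rw [hR16, CfsgLib.Quat.nat_card] at h
      have h4 : (4 : ℕ) = 2 ^ k := by omega
      rw [h4]
      exact ⟨ek⟩

end Cfsg.Agent.S3304
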