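import Cfsg.Statements.S3310
import Cfsg.Agent.Lib.RankInt.Main

set_option autoImplicit false
open Cfsg

namespace Cfsg.Agent.S3310

/-- Let G be a finite nonsolvable group; write O(G) for its largest normal subgroup of odd order and O₂(G) for its largest normal 2-subgroup. Suppose that every intersection of two distinct Sylow 2-subgroups of G has 2-rank at most 1, that some two distinct Sylow 2-subgroups of G/O(G) have a non-cyclic intersection, and that no Sylow 2-subgroup of G is a quaternion group, ordinary or generalized (of order 2^k ≥ 8). Then either (a) O₂(G) is a quaternion group, ordinary or generalized (of order 2^k ≥ 8), and G has a normal subgroup G₁ of odd index containing O₂(G)O(G) with G₁/O₂(G)O(G) isomorphic to PSL(2,2ⁿ) (n ≥ 2), a Suzuki group over the field with 2^(2m+1) elements (m ≥ 1), or PSU(3,2ⁿ) (n ≥ 2); or (b) G has a normal subgroup G₁ containing O(G), of index odd or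 twice an odd number, with G₁/O(G) isomorphic to the central product of two copies of SL(2,5) with amalgamated centres. -/
theorem result {G : Type*} [Group G] [Finite G] (hns : ¬ Group.IsSolvable G)
    (hI : ∀ S T : Sylow 2 G, S ≠ T → Cfsg.PRankLE 2 1 ↥((S : Subgroup G) ⊓ (T : Subgroup G)))
    (hnC : ∃ S T : Sylow 2 (G ⧸ Cfsg.oddCore G), S ≠ T ∧
      ¬ IsCyclic ↥((S : Subgroup (G ⧸ Cfsg.oddCore G)) ⊓ (T : Subgroup (G ⧸ Cfsg.oddCore G))))
    (hnQ : ∀ S : Sylow 2 G, ∀ n : ℕ, IsEmpty (↥(S : Subgroup G) ≃* QuaternionGroup (2 ^ (n + 1)))) :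
    (∃ (G₁ : Subgroup G) (_ : G₁.Normal) (_ : ((Cfsg.pCore 2 G ⊔ Cfsg.oddCore G).subgroupOf G₁).Normal),
      Odd G₁.index ∧ Cfsg.pCore 2 G ⊔ Cfsg.oddCore G ≤ G₁ ∧
      (∃ n : ℕ, Nonempty (↥(Cfsg.pCore 2 G) ≃* QuaternionGroup (2 ^ (n + 1)))) ∧
      ((∃ (n : ℕ) (F : Type) (_ : Field F) (_ : Fintype F), 2 ≤ n ∧ Fintype.card F = 2 ^ n ∧
          Nonempty (↥G₁ ⧸ (Cfsg.pCore 2 G ⊔ Cfsg.oddCore G).subgroupOf G₁ ≃* Matrix.ProjectiveSpecialLinearGroup (Fin 2) F)) ∨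
       (∃ (m : ℕ) (F : Type) (_ : Field F) (_ : Fintype F), 1 ≤ m ∧ Fintype.card F = 2 ^ (2 * m + 1) ∧
          Nonempty (↥G₁ ⧸ (Cfsg.pCore 2 G ⊔ Cfsg.oddCore G).subgroupOf G₁ ≃* ↥(Cfsg.Lie.Sz F (2 ^ (m + 1))))) ∨
       (∃ (n : ℕ) (F : Type) (_ : Field F) (_ : Fintype F), 2 ≤ n ∧ Fintype.card F = 4 ^ n ∧
          Nonempty (↥G₁ ⧸ (Cfsg.pCore 2 G ⊔ Cfsg.oddCore G).subgroupOf G₁ ≃* Cfsg.PSU 3 F (2 ^ n))))) ∨
    (∃ (G₁ : Subgroup G) (_ : G₁.Normal) (_ : ((Cfsg.oddCore G).subgroupOf G₁).Normal),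
      (Odd G₁.index ∨ ∃ k : ℕ, Odd k ∧ G₁.index = 2 * k) ∧ Cfsg.oddCore G ≤ G₁ ∧
      ∃ (Z : Subgroup (Matrix.SpecialLinearGroup (Fin 2) (ZMod 5) × Matrix.SpecialLinearGroup (Fin 2) (ZMod 5))) (_ : Z.Normal),
        Z = Subgroup.zpowers ((-1 : Matrix.SpecialLinearGroup (Fin 2) (ZMod 5)), (-1 : Matrix.SpecialLinearGroup (Fin 2) (ZMod 5))) ∧
        Nonempty (↥G₁ ⧸ (Cfsg.oddCore G).subgroupOf G₁ ≃*
          (Matrix.SpecialLinearGroup (Fin 2) (ZMod 5) × Matrix.SpecialLinearGroup (Fin 2) (ZMod 5)) ⧸ Z)) := by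
  classical
  haveI : Fact (Nat.Prime 2) := ⟨Nat.prime_two⟩
  have hOodd : Odd (Nat.card (Cfsg.oddCore G)) := Nat.coprime_two_right.mp (CfsgLib.card_pPrimeCore_coprime 2)
  set mk := QuotientGroup.mk' (Cfsg.oddCore G)
  have hmk : Function.Surjective mk := QuotientGroup.mk'_surjective _
  have hmk1 : ∀ {g : G}, mk g = 1 ↔ g ∈ Cfsg.oddCore G := fun {g} => QuotientGroup.eq_one_iff g
  have hker : ∀ (S : Sylow 2 G) {a : G}, a ∈ (S : Subgroup G) → mk a = 1 → a = 1 := fun S a ha e =>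
    CfsgLib.CyclicInt.eq_one_of_two_group_odd hOodd (hmk1.mp e) ha
  have hinj : ∀ (S : Sylow 2 G) {a b : G}, a ∈ (S : Subgroup G) → b ∈ (S : Subgroup G) → mk a = mk b → a = b :=
    fun S a b ha hb e => inv_mul_eq_one.mp (hker S (mul_mem (inv_mem ha) hb)
      (by rw [map_mul, map_inv, e, inv_mul_cancel]))
  have hRI : CfsgLib.RankInt.RI G := CfsgLib.RankInt.ri_of_rank hI
  have hns' : ¬ Group.IsSolvable (G ⧸ Cfsg.oddCore G) := fun hs => hns <| by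
    haveI := hs
    haveI : Group.IsSolvable (Cfsg.oddCore G) := Cfsg.Agent.S0205.result hOodd
    exact solvable_of_ker_le_range (Cfsg.oddCore G).subtype mk (by
      rw [QuotientGroup.ker_mk', Subgroup.range_subtype])
  have hnQ' : ∀ S : Sylow 2 (G ⧸ Cfsg.oddCore G), ∀ n : ℕ,
      IsEmpty (↥(S : Subgroup (G ⧸ Cfsg.oddCore G)) ≃* QuaternionGroup (2 ^ (n + 1))) := by
    intro S' n
    obtain ⟨S, rfl⟩ := Sylow.mapSurjective_surjective hmk 2 S'
    refine ⟨fun e => (hnQ S n).false ((MulEquiv.ofBijective (mk.subgroupMap (S : Subgroup G))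
      ⟨fun a b he => Subtype.ext (hinj S a.2 b.2 (congrArg Subtype.val he)),
        mk.subgroupMap_surjective _⟩).trans e)⟩
  rcases CfsgLib.RankInt.main (hRI.quot_odd (Cfsg.oddCore G) hOodd) hns' (CfsgLib.pPrimeCore_quotient_eq_bot 2)
    hnC hnQ' with hA | hB
  · obtain ⟨⟨k, ⟨eR⟩⟩, ⟨SQ, x, y, w, hx, hy, hw, hxy, hxw, hyw, hwxy, hxS, hyS, hwS, cxy, cxw, cyw⟩,
      G1', hn', hodd, hle, L, iL, π, hπs, hπk, htgt⟩ := hA
    obtain ⟨S, rfl⟩ := Sylow.mapSurjective_surjective hmk 2 SQ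
    obtain ⟨a, ha, rfl⟩ := hxS
    obtain ⟨b, hb, rfl⟩ := hyS
    obtain ⟨c, hc, rfl⟩ := hwS
    have hinv : ∀ {v : G}, v ∈ (S : Subgroup G) → CfsgLib.CyclicInt.Inv2 (mk v) → CfsgLib.CyclicInt.Inv2 v :=
      fun {v} hv hi => ⟨fun e => hi.1 (by rw [e, map_one]), hker S (mul_mem hv hv) (by rw [map_mul, hi.2])⟩
    have hlift : ∀ {v v' : G}, v ∈ (S : Subgroup G) → v' ∈ (S : Subgroup G) → mk v * mk v' = mk v' * mk v →
        v * v' = v' * v := fun hv hv' e => hinj S (mul_mem hv hv') (mul_mem hv' hv) (by rw [map_mul, map_mul, e])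
    have hSO : ∀ v ∈ Cfsg.oddCore G, ∀ p ∈ (S : Subgroup G), v * p = p * v := fun v hv p hp =>
      hRI.commute_of_eight (Cfsg.oddCore G) hOodd (hinv ha hx) (hinv hb hy) (hinv hc hw)
        (fun e => hxy (congrArg mk e)) (fun e => hxw (congrArg mk e)) (fun e => hyw (congrArg mk e))
        (fun e => hwxy (by rw [← map_mul, ← e])) ha hb hc (hlift ha hb cxy) (hlift ha hc cxw) (hlift hb hc cyw) hv hp
    have hTwo : ∀ p : G, CfsgLib.CyclicInt.Two p → ∀ v ∈ Cfsg.oddCore G, v * p = p * v := by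
      intro p hp v hv
      obtain ⟨P, hP⟩ := hp.exists_sylow
      obtain ⟨g, hg⟩ := MulAction.exists_smul_eq G P S
      have h1 := hSO (g * v * g⁻¹) ((inferInstance : (Cfsg.oddCore G).Normal).conj_mem v hv g) (g * p * g⁻¹)
        (hg ▸ CfsgLib.CyclicInt.conj_mem_smul_sylow hP)
      rw [conj_mul, conj_mul] at h1
      exact mul_left_cancel (mul_right_cancel h1)
    -- the 2-core
    set R' : Subgroup G := (Cfsg.pCore 2 (G ⧸ Cfsg.oddCore G)).comap mk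
    haveI hR0 : ((S : Subgroup G) ⊓ R').Normal := ⟨fun p hp g => by
      have hc' : g * p * g⁻¹ ∈ R' := (inferInstance : R'.Normal).conj_mem p hp.2 g
      obtain ⟨s, hs, hse⟩ : mk (g * p * g⁻¹) ∈ (S : Subgroup G).map mk :=
        CfsgLib.pCore_le_sylow (S.mapSurjective hmk) hc'
      have ht : CfsgLib.CyclicInt.Two (g * p * g⁻¹) := (CfsgLib.CyclicInt.two_of_mem hp.1).conj g
      have ho : s⁻¹ * (g * p * g⁻¹) ∈ Cfsg.oddCore G :=
        hmk1.mp (by rw [map_mul, map_inv, hse, inv_mul_cancel])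
      have hcomm : Commute (g * p * g⁻¹) (s⁻¹ * (g * p * g⁻¹)) := (hTwo _ ht _ ho).symm
      have hs2 : CfsgLib.CyclicInt.Two s⁻¹ := CfsgLib.CyclicInt.two_of_mem ((S : Subgroup G).inv_mem hs)
      have hcomm' : Commute s⁻¹ (g * p * g⁻¹) := by
        have h3 : Commute (s⁻¹ * (g * p * g⁻¹) * (g * p * g⁻¹)⁻¹) (g * p * g⁻¹) :=
          hcomm.symm.mul_left (Commute.refl _).inv_left
        rwa [mul_inv_cancel_right] at h3
      obtain ⟨i, hi⟩ := hs2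
      obtain ⟨j, hj⟩ := ht
      have hpow : (s⁻¹ * (g * p * g⁻¹)) ^ 2 ^ (i + j) = 1 := by
        rw [hcomm'.mul_pow, pow_add, pow_mul, hi, one_pow, one_mul, mul_comm (2 ^ i) (2 ^ j), pow_mul, hj, one_pow]
      obtain ⟨U, hU⟩ := CfsgLib.CyclicInt.Two.exists_sylow (⟨i + j, hpow⟩ : CfsgLib.CyclicInt.Two _)
      have he := CfsgLib.CyclicInt.eq_one_of_two_group_odd hOodd ho hU
      rw [inv_mul_eq_one] at he
      exact ⟨he ▸ hs, hc'⟩⟩
    have hR0le : (S : Subgroup G) ⊓ R' ≤ Cfsg.pCore 2 G := CfsgLib.le_pCore (S.2.to_le inf_le_left)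
    have hmap : (Cfsg.pCore 2 G).map mk = Cfsg.pCore 2 (G ⧸ Cfsg.oddCore G) := by
      refine le_antisymm ?_ fun q hq => ?_
      · haveI := (inferInstance : (Cfsg.pCore 2 G).Normal).map mk hmk
        exact CfsgLib.le_pCore ((CfsgLib.isPGroup_pCore 2).map mk)
      · obtain ⟨s, hs, rfl⟩ : q ∈ (S : Subgroup G).map mk := CfsgLib.pCore_le_sylow (S.mapSurjective hmk) hq
        exact ⟨s, hR0le ⟨hs, hq⟩, rfl⟩
    have hjoin : Cfsg.pCore 2 G ⊔ Cfsg.oddCore G = R' := by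
      show _ = (Cfsg.pCore 2 (G ⧸ Cfsg.oddCore G)).comap mk
      rw [← hmap, Subgroup.comap_map_eq, QuotientGroup.ker_mk']
    let eP : ↥(Cfsg.pCore 2 G) ≃* ↥(Cfsg.pCore 2 (G ⧸ Cfsg.oddCore G)) :=
      (MulEquiv.ofBijective (mk.subgroupMap (Cfsg.pCore 2 G))
        ⟨fun u v he => Subtype.ext (hinj S (CfsgLib.pCore_le_sylow S u.2) (CfsgLib.pCore_le_sylow S v.2)
          (congrArg Subtype.val he)), mk.subgroupMap_surjective _⟩).trans (MulEquiv.subgroupCongr hmap)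
    haveI := hn'
    let G1 : Subgroup G := G1'.comap mk
    have hG1le : Cfsg.pCore 2 G ⊔ Cfsg.oddCore G ≤ G1 := hjoin ▸ Subgroup.comap_mono hle
    haveI hN : ((Cfsg.pCore 2 G ⊔ Cfsg.oddCore G).subgroupOf G1).Normal := inferInstance
    let ψ : ↥G1 →* L := π.comp (mk.subgroupComap G1')
    have hψs : Function.Surjective ψ := hπs.comp fun q => by
      obtain ⟨g, hg⟩ := hmk q
      exact ⟨⟨g, by show mk g ∈ G1'; rw [hg]; exact q.2⟩, Subtype.ext hg⟩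
    have hψk : ψ.ker = (Cfsg.pCore 2 G ⊔ Cfsg.oddCore G).subgroupOf G1 := by
      ext g
      rw [MonoidHom.mem_ker, Subgroup.mem_subgroupOf, hjoin]
      exact hπk _
    let eQ : ↥G1 ⧸ (Cfsg.pCore 2 G ⊔ Cfsg.oddCore G).subgroupOf G1 ≃* L :=
      (QuotientGroup.quotientMulEquivOfEq hψk.symm).trans (QuotientGroup.quotientKerEquivOfSurjective ψ hψs)
    refine Or.inl ⟨G1, inferInstance, hN, ?_, hG1le, ⟨k, ⟨eP.trans eR⟩⟩, ?_⟩
    · rw [Subgroup.index_comap_of_surjective _ hmk]; exact hodd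
    rcases htgt with ⟨F, i1, i2, ⟨n, hn, hF⟩, ⟨e⟩⟩ | ⟨F, i1, i2, m, hm, hF, ⟨e⟩⟩ | ⟨F, i1, i2, n, hn, hF, ⟨e⟩⟩
    · exact Or.inl ⟨n, F, i1, i2, hn, hF, ⟨eQ.trans e⟩⟩
    · exact Or.inr (Or.inl ⟨m, F, i1, i2, hm, hF, ⟨eQ.trans e⟩⟩)
    · refine Or.inr (Or.inr ⟨n, F, i1, i2, hn, ?_, ⟨eQ.trans e⟩⟩)
      rw [hF, ← pow_mul, mul_comm, pow_mul]
      norm_num
  · obtain ⟨G1', hn', hidx, Z, hZ, hZe, ⟨e⟩⟩ := hB
    haveI := hn'
    let G1 : Subgroup G := G1'.comap mk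
    have hle : Cfsg.oddCore G ≤ G1 := fun v hv => by
      show mk v ∈ G1'
      rw [hmk1.mpr hv]; exact one_mem _
    haveI hN : ((Cfsg.oddCore G).subgroupOf G1).Normal := inferInstance
    let ψ : ↥G1 →* ↥G1' := mk.subgroupComap G1'
    have hψs : Function.Surjective ψ := fun q => by
      obtain ⟨g, hg⟩ := hmk q
      exact ⟨⟨g, by show mk g ∈ G1'; rw [hg]; exact q.2⟩, Subtype.ext hg⟩
    have hψk : ψ.ker = (Cfsg.oddCore G).subgroupOf G1 := by
      ext g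
      rw [MonoidHom.mem_ker, Subgroup.mem_subgroupOf]
      exact ⟨fun e => hmk1.mp (congrArg Subtype.val e), fun e => Subtype.ext (hmk1.mpr e)⟩
    refine Or.inr ⟨G1, inferInstance, hN, ?_, hle, Z, hZ, hZe,
      ⟨((QuotientGroup.quotientMulEquivOfEq hψk.symm).trans
        (QuotientGroup.quotientKerEquivOfSurjective ψ hψs)).trans e⟩⟩
    rw [Subgroup.index_comap_of_surjective _ hmk]
    exact hidx

end Cfsg.Agent.S3310
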