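import Cfsg.Statements.S3311
import Cfsg.Agent.Lib.NormalRankTwo.Main
-- import your own Cfsg.Agent.* helpers here

set_option autoImplicit false
open Cfsg

namespace Cfsg.Agent.S3311

/-- Let G be a non-abelian finite simple group with Sylow 2-subgroup T. Suppose every normal abelian subgroup of T is generated by two elements, some normal abelian subgroup of T is not cyclic (so the normal rank of T is exactly 2), and the normalizer N_G(T) is not contained in T·C_G(T). Then T has order 4, 64 or 128. -/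
theorem result {G : Type*} [Group G] [Finite G]
    [IsSimpleGroup G] (hna : ¬ IsMulCommutative G) (T : Sylow 2 G)
    (hd2 : ∀ A : Subgroup ↥T, A.Normal → IsMulCommutative ↥A → ∃ a b : ↥T, Subgroup.closure {a, b} = A)
    (hd2' : ∃ A : Subgroup ↥T, A.Normal ∧ IsMulCommutative ↥A ∧ ¬ IsCyclic ↥A)
    (hN : ¬ Subgroup.normalizer ((T : Subgroup G) : Set G) ≤ (T : Subgroup G) ⊔ Subgroup.centralizer ((T : Subgroup G) : Set G)) :
    Nat.card ↥T = 4 ∨ Nat.card ↥T = 64 ∨ Nat.card ↥T = 128 := by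
  classical
  haveI := Fact.mk Nat.prime_two
  have hns : ¬ Group.IsSolvable G := fun h =>
    hna ⟨⟨fun a b => IsSimpleGroup.comm_iff_isSolvable.mpr h a b⟩⟩
  obtain ⟨a, haT, ha, t, ht, hat⟩ := CfsgLib.NormalRankTwo.exists_odd_moving T hN
  have hrk : ∀ A : Subgroup G, A ≤ T → (T : Subgroup G) ≤ Subgroup.normalizer (A : Set G) →
      (∀ x ∈ A, ∀ y ∈ A, x * y = y * x) → (∀ x ∈ A, x * x = 1) → Nat.card ↥A ≤ 4 := by
    intro A hAT hn hab hsq
    haveI : (A.subgroupOf T).Normal := ⟨fun x hx g => (Subgroup.mem_normalizer_iff.1 (hn g.2) _).1 hx⟩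
    have hAc : IsMulCommutative ↥(A.subgroupOf (T : Subgroup G)) :=
      ⟨⟨fun x y => Subtype.ext (Subtype.ext (hab _ x.2 _ y.2))⟩⟩
    obtain ⟨p, q, hpq⟩ := hd2 _ inferInstance hAc
    have hp : (p : G) ∈ A := (hpq ▸ Subgroup.subset_closure (by simp) : p ∈ A.subgroupOf T)
    have hq : (q : G) ∈ A := (hpq ▸ Subgroup.subset_closure (by simp) : q ∈ A.subgroupOf T)
    have hall : ∀ x ∈ A.subgroupOf T, ∃ i j : ZMod 2, (x : G) = (p : G) ^ i.val * (q : G) ^ j.val := by
      intro x hx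
      rw [← hpq] at hx
      induction hx using Subgroup.closure_induction with
      | mem x hx =>
        rcases hx with rfl | rfl
        · exact ⟨1, 0, by simp [ZMod.val_one]⟩
        · exact ⟨0, 1, by simp [ZMod.val_one]⟩
      | one => exact ⟨0, 0, by simp⟩
      | mul x y _ _ hx hy =>
        obtain ⟨i, j, e⟩ := hx
        obtain ⟨k, l, e'⟩ := hy
        refine ⟨i + k, j + l, ?_⟩
        have hpow : ∀ u : G, u * u = 1 → ∀ m n : ZMod 2, u ^ (m + n).val = u ^ m.val * u ^ n.val := by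
          intro u hu m n
          rw [ZMod.val_add, ← pow_add, ← pow_mod_orderOf u (_ % 2), ← pow_mod_orderOf u (_ + _),
            Nat.mod_mod_of_dvd _ (orderOf_dvd_of_pow_eq_one (by rw [pow_two]; exact hu))]
        rw [Subgroup.coe_mul, e, e', hpow _ (hsq _ hp), hpow _ (hsq _ hq)]
        have c : Commute ((q : G) ^ j.val) ((p : G) ^ k.val) := (show Commute (q : G) p from hab _ hq _ hp).pow_pow _ _
        rw [mul_assoc, ← mul_assoc ((q : G) ^ j.val), c.eq]
        simp [mul_assoc]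
      | inv x _ hx =>
        obtain ⟨i, j, e⟩ := hx
        refine ⟨i, j, ?_⟩
        rw [Subgroup.coe_inv]
        have hxA : (x : G) ∈ A := by rw [e]; exact mul_mem (pow_mem hp _) (pow_mem hq _)
        rw [inv_eq_of_mul_eq_one_left (hsq _ hxA), e]
    have hs : Function.Surjective (fun ij : ZMod 2 × ZMod 2 => (⟨(p : G) ^ ij.1.val * (q : G) ^ ij.2.val,
        mul_mem (pow_mem hp _) (pow_mem hq _)⟩ : ↥A)) := fun x => by
      obtain ⟨i, j, e⟩ := hall ⟨x, hAT x.2⟩ x.2
      exact ⟨(i, j), Subtype.ext e.symm⟩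
    simpa using Nat.card_le_card_of_surjective _ hs
  by_cases h2 : Cfsg.PRankLE 2 2 G
  · letI : Fintype (GaloisField 2 4) := Fintype.ofFinite _
    have h16 : Fintype.card (GaloisField 2 4) = 16 := by
      rw [← Nat.card_eq_fintype_card, GaloisField.card 2 4 (by norm_num)]
      norm_num
    obtain ⟨P⟩ : Nonempty (Sylow 2 (Cfsg.PSU 3 (GaloisField 2 4) 4)) := inferInstance
    have hnoaut : ¬ IsPGroup 2 (MulAut ↥(T : Subgroup G)) := fun hA => by
      let α := (T : Subgroup G).normalizerMonoidHom ⟨a, haT⟩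
      obtain ⟨k, hk⟩ := hA α
      have h1 : orderOf α = 1 := Nat.eq_one_of_dvd_coprimes
        (Nat.Coprime.pow_right k (Nat.coprime_two_right.2 ha))
        ((orderOf_map_dvd _ _).trans (by rw [Subgroup.orderOf_mk])) (orderOf_dvd_of_pow_eq_one hk)
      refine hat ?_
      have := congrArg (fun f : MulAut ↥(T : Subgroup G) => ((f ⟨t, ht⟩ : ↥(T : Subgroup G)) : G))
        (orderOf_eq_one_iff.1 h1)
      exact this
    rcases Cfsg.Agent.S0516.result hna h2 T h16 P with ⟨n, hn, ⟨e⟩⟩ | hQD | hW | ⟨⟨e⟩⟩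
    · by_cases hn2 : n = 2
      · left
        exact (Nat.card_congr e.toEquiv).trans (by rw [DihedralGroup.nat_card, hn2])
      · refine absurd (Cfsg.Agent.S3116.result T.2 (Or.inl ⟨n, ?_, ⟨e⟩⟩)) hnoaut
        obtain ⟨k, hk⟩ := IsPGroup.iff_card.1 T.2
        have h := Nat.card_congr e.toEquiv
        rw [DihedralGroup.nat_card] at h
        have h' : 2 ^ k = 2 * n := hk ▸ h
        rcases k with _ | _ | _ | k
        · omega
        · omega
        · omega
        · rw [pow_succ, pow_succ, pow_succ] at h'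
          have : 0 < 2 ^ k := by positivity
          omega
    · exact absurd (Cfsg.Agent.S3116.result T.2 (Or.inr hQD)) hnoaut
    · exact absurd (CfsgLib.RankTwoSimple.isPGroup_mulAut_wreathed hW) hnoaut
    · exact Or.inr (Or.inl ((Nat.card_congr e.toEquiv).trans (CfsgLib.UnitaryFour.main h16 P).1))
  obtain ⟨s, hsT, hNC⟩ := CfsgLib.NormalRankTwo.exists_ctx T hrk haT ha ht hat
  have hbig : CfsgLib.NormalRankTwo.Big s := by
    unfold Cfsg.PRankLE at h2
    push Not at h2
    obtain ⟨E, hEc, hEs, hE4⟩ := h2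
    have hEp : IsPGroup 2 ↥E := fun x => ⟨1, Subtype.ext (by simpa using hEs x x.2)⟩
    obtain ⟨n, hn⟩ := IsPGroup.iff_card.1 hEp
    have hn3 : 3 ≤ n := by
      by_contra h
      have := Nat.pow_le_pow_right (by norm_num : 2 > 0) (show n ≤ 2 by omega)
      omega
    obtain ⟨E', hE'⟩ := Sylow.exists_subgroup_card_pow_prime (G := ↥E) 2 (n := 3)
      (by rw [hn]; exact pow_dvd_pow 2 hn3)
    obtain ⟨R, hR⟩ := hEp.exists_le_sylow
    obtain ⟨g, hg⟩ := MulAction.exists_smul_eq G R T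
    refine ⟨(E'.map E.subtype).map (MulAut.conj g).toMonoidHom, ?_, ?_, ?_, ?_⟩
    · rw [hsT, ← hg]
      rintro _ ⟨_, ⟨x, -, rfl⟩, rfl⟩
      exact ⟨x, hR x.2, by simp⟩
    · rintro _ ⟨_, ⟨x, -, rfl⟩, rfl⟩ _ ⟨_, ⟨y, -, rfl⟩, rfl⟩
      rw [← map_mul, ← map_mul, ← map_mul, ← map_mul, mul_comm' x y]
    · rintro _ ⟨_, ⟨x, -, rfl⟩, rfl⟩
      rw [← map_mul, ← pow_two]
      exact (congrArg _ (hEs x x.2)).trans (map_one _)
    · rw [Subgroup.card_map_of_injective (MulEquiv.injective _),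
        Subgroup.card_map_of_injective E.subtype_injective, hE']
      norm_num
  right
  show Nat.card ↥(T : Subgroup G) = 64 ∨ Nat.card ↥(T : Subgroup G) = 128
  rw [← hsT]
  exact CfsgLib.NormalRankTwo.card_of_big hns s T hsT.symm hbig hNC

end Cfsg.Agent.S3311
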