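import Cfsg.Statements.S3313
import Mathlib
import Cfsg.Agent.S0213
import Cfsg.Agent.Lib.Basic
import Cfsg.Agent.Lib.Components

set_option autoImplicit false
set_option linter.style.haveILetI false
open Cfsg

namespace Cfsg.Agent.S3313

local notation "A5" => alternatingGroup (Fin 5)

theorem a5_inv : Nat.card {x : A5 // x ^ 2 = 1 ∧ x ≠ 1} = 15 := by
  rw [Nat.card_eq_fintype_card, Fintype.card_subtype]; decide +kernel

theorem a5_pairs :
    Nat.card {p : A5 × A5 // (p.1 ^ 2 = 1 ∧ p.1 ≠ 1) ∧ (p.2 ^ 2 = 1 ∧ p.2 ≠ 1) ∧ p.2 ≠ p.1 ∧ p.1 * p.2 = p.2 * p.1} = 30 := by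
  rw [Nat.card_eq_fintype_card, Fintype.card_subtype]; decide +kernel

theorem a5_odd :
    Nat.card {p : A5 × A5 // (p.1 ^ 2 = 1 ∧ p.1 ≠ 1) ∧ p.2 ^ 2 = 1 ∧ (p.1 * p.2) ^ 15 = 1} = 195 := by
  rw [Nat.card_eq_fintype_card, Fintype.card_subtype]; decide +kernel

theorem a5_order : ∀ g : A5, g ^ 2 = 1 ∨ g ^ 3 = 1 ∨ g ^ 5 = 1 := by decide +kernel

theorem a5_has_inv : ∃ g : A5, g ^ 2 = 1 ∧ g ≠ 1 := by decide +kernel
theorem a5_has_five : ∃ g : A5, g ^ 5 = 1 ∧ g ≠ 1 := by decide +kernel

theorem class_mul {G : Type*} [Group G] [Finite G] (x : G) :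
    Nat.card {w : G // IsConj x w} * Nat.card (Subgroup.centralizer ({x} : Set G)) = Nat.card G := by
  have h1 : Nat.card {w : G // IsConj x w} = Nat.card (MulAction.orbit (ConjAct G) x) :=
    Nat.card_congr (Equiv.subtypeEquivRight fun w => by rw [ConjAct.mem_orbit_conjAct]; exact ⟨IsConj.symm, IsConj.symm⟩)
  have h2 : Nat.card (Subgroup.centralizer ({x} : Set G)) = Nat.card (MulAction.stabilizer (ConjAct G) x) := by
    rw [ConjAct.stabilizer_eq_centralizer]
    exact Nat.card_congr ((ConjAct.toConjAct (G := G)).toEquiv.subtypeEquiv fun g => Iff.rfl)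
  rw [h1, h2, Nat.card_coe_set_eq, ← MulAction.index_stabilizer, Subgroup.index_mul_card]
  rfl

theorem fiber_count {G Y : Type*} [Group G] [Finite G] [Finite Y] (z : G) (R : G → Y → Prop) (c : G → Y ≃ Y)
    (hR : ∀ g x y, R x y ↔ R (g * x * g⁻¹) (c g y)) :
    Nat.card {p : G × Y // IsConj z p.1 ∧ R p.1 p.2} = Nat.card {w : G // IsConj z w} * Nat.card {y : Y // R z y} := by
  classical
  haveI := Fintype.ofFinite {w : G // IsConj z w}
  have e : {p : G × Y // IsConj z p.1 ∧ R p.1 p.2} ≃ Σ w : {w : G // IsConj z w}, {y : Y // R w.1 y} :=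
    { toFun := fun p => ⟨⟨p.1.1, p.2.1⟩, ⟨p.1.2, p.2.2⟩⟩
      invFun := fun s => ⟨(s.1.1, s.2.1), s.1.2, s.2.2⟩
      left_inv := fun p => rfl
      right_inv := fun s => rfl }
  have hfib : ∀ w : {w : G // IsConj z w}, Nat.card {y : Y // R w.1 y} = Nat.card {y : Y // R z y} := by
    intro w
    obtain ⟨g, hg⟩ := isConj_iff.1 w.2
    exact (Nat.card_congr ((c g).subtypeEquiv fun y => hg ▸ hR g z y)).symm
  rw [Nat.card_congr e, Nat.card_sigma, Finset.sum_congr rfl fun w _ => hfib w,
    Finset.sum_const, Finset.card_univ, smul_eq_mul, Nat.card_eq_fintype_card (α := {w : G // IsConj z w})]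

/-- The number of square roots of one in an extraspecial group of order 32. -/
theorem sqrt_one_count {Q : Type*} [Group Q] [Finite Q] (h32 : Nat.card Q = 32) (z : Q) (hz : z ≠ 1)
    (hz2 : z * z = 1) (hcen : ∀ x, x ∈ Subgroup.center Q ↔ x = 1 ∨ x = z)
    (hsq : ∀ x : Q, x * x = 1 ∨ x * x = z) (hcom : ∀ x y : Q, y * x = x * y ∨ y * x = z * (x * y)) :
    Nat.card {x : Q // x * x = 1} = 12 ∨ Nat.card {x : Q // x * x = 1} = 20 := by
  classical
  haveI := Fintype.ofFinite Q
  have hzc : ∀ x, z * x = x * z := fun x => ((Subgroup.mem_center_iff.1 ((hcen z).2 (Or.inr rfl))) x).symm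
  let s : Q → ℤ := fun x => if x * x = 1 then 1 else -1
  let c : Q → Q → ℤ := fun d x => if x * d = d * x then 1 else -1
  have hid : ∀ x d, s (x * d) = s x * (s d * c d x) := by
    intro x d
    have e : x * d * (x * d) = if x * d = d * x then (x * x) * (d * d) else z * ((x * x) * (d * d)) := by
      split_ifs with h
      · rw [mul_assoc, ← mul_assoc d, ← h]; group
      · have h' := (hcom x d).resolve_left (fun e => h e.symm)
        calc x * d * (x * d) = x * (d * x) * d := by group
          _ = x * (z * (x * d)) * d := by rw [h']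
          _ = (x * z) * x * d * d := by group
          _ = _ := by rw [← hzc]; group
    simp only [s, c, e]
    rcases hsq x with hx | hx <;> rcases hsq d with hd | hd <;> by_cases h : x * d = d * x <;>
      simp [hx, hd, h, hz2, hz]
  have hone : s 1 = 1 := by simp [s]
  have hzs : s z = 1 := by simp [s, hz2]
  have hc : ∀ d, ∑ x, c d x = if d = 1 ∨ d = z then 32 else 0 := by
    intro d
    split_ifs with h
    · have : ∀ x, c d x = 1 := fun x => if_pos ((Subgroup.mem_center_iff.1 ((hcen d).2 h)) x)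
      rw [Finset.sum_congr rfl fun x _ => this x, Finset.sum_const, Finset.card_univ, ← Nat.card_eq_fintype_card, h32]
      rfl
    · obtain ⟨y, hy⟩ : ∃ y, ¬ y * d = d * y := by
        by_contra hh
        push Not at hh
        exact h ((hcen d).1 (Subgroup.mem_center_iff.2 hh))
      have hflip : ∀ x, c d (x * y) = - c d x := by
        intro x
        have hy' := (hcom d y).resolve_left hy
        simp only [c]
        have e : x * y * d = z * (x * d) * y := by
          rw [mul_assoc, hy', ← mul_assoc x, ← hzc, mul_assoc, mul_assoc, mul_assoc]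
        by_cases hx : x * d = d * x
        · rw [if_pos hx, if_neg]
          rw [e, hx, mul_assoc, mul_assoc]
          exact fun h => hz (mul_eq_right.1 h)
        · rw [if_neg hx, neg_neg, if_pos]
          rw [e, (hcom d x).resolve_left hx, ← mul_assoc z z, hz2, one_mul, mul_assoc]
      have h2 : ∑ x, c d x = ∑ x, c d (x * y) := (Equiv.sum_comp (Equiv.mulRight y) (c d)).symm
      rw [Finset.sum_congr rfl fun x _ => hflip x, Finset.sum_neg_distrib] at h2
      omega
  have hS : (∑ x, s x) * (∑ x, s x) = 64 := by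
    rw [Finset.sum_mul]
    have : ∀ x, s x * ∑ y, s y = ∑ d, s d * c d x := fun x => by
      rw [← Equiv.sum_comp (Equiv.mulLeft x) s, Finset.mul_sum]
      refine Finset.sum_congr rfl fun d _ => ?_
      show s x * s (x * d) = _
      rw [hid, ← mul_assoc]
      have : s x * s x = 1 := by simp only [s]; split_ifs <;> rfl
      rw [this, one_mul]
    rw [Finset.sum_congr rfl fun x _ => this x, Finset.sum_comm,
      Finset.sum_congr rfl fun d _ => (Finset.mul_sum Finset.univ (c d) (s d)).symm,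
      Finset.sum_congr rfl fun d _ => by rw [hc d]]
    rw [← Finset.sum_subset (Finset.subset_univ ({1, z} : Finset Q)) fun d _ hd => by simp at hd; simp [hd],
      Finset.sum_pair hz.symm, hone, hzs]
    simp
  have hsum : ∑ x, s x = 2 * (Nat.card {x : Q // x * x = 1} : ℤ) - 32 := by
    have : ∀ x, s x = 2 * (if x * x = 1 then (1 : ℤ) else 0) - 1 := fun x => by simp only [s]; split_ifs <;> rfl
    rw [Finset.sum_congr rfl fun x _ => this x, Finset.sum_sub_distrib, ← Finset.mul_sum, Finset.sum_boole,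
      Finset.sum_const, Finset.card_univ, ← Nat.card_eq_fintype_card, h32, Nat.card_eq_fintype_card (α := {x : Q // x * x = 1}),
      Fintype.card_subtype]
    rfl
  rw [hsum] at hS
  rcases mul_self_eq_mul_self_iff.1 (hS.trans (by norm_num : (64 : ℤ) = 8 * 8)) with h | h
  · right; omega
  · left; omega

set_option maxHeartbeats 1000000 in
/-- The order of a simple group with the involution pattern of the Hall–Janko group. Let G be a non-abelian finite simple group with exactly two conjugacy classes of involutions, represented by z and t, such that: F*(C_G(z)) is an extraspecial 2-group; Q = O₂(C_G(z)) has order 32 and C_G(z) is the semidirect product of Q by a subgroup isomorphic to A₅; every involution of Q is conjugate to z and every other involution of C_G(z) is conjugate to t; C_G(t) is an internal direct product V × B with V a four-group containing t and B ≅ A₅; every involution of B is conjugate to z and every other involution of C_G(t) is conjugate to t. Then |G| = 604800.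 -/
theorem result {G : Type*} [Group G] [Finite G]
    [IsSimpleGroup G] (hna : ¬ IsMulCommutative G) (z t : G) (hz : orderOf z = 2) (ht : orderOf t = 2)
    (hzt : ¬ IsConj z t) (hcl : ∀ x : G, orderOf x = 2 → IsConj x z ∨ IsConj x t)
    (hex : Cfsg.IsExtraspecial 2 ↥(Cfsg.generalizedFittingSubgroup ↥(Subgroup.centralizer ({z} : Set G))))
    (hQ : Nat.card ↥(Cfsg.pCore 2 ↥(Subgroup.centralizer ({z} : Set G))) = 32)
    (K : Subgroup G) (hK : Nonempty (↥K ≃* alternatingGroup (Fin 5)))
    (hKC : K ⊔ (Cfsg.pCore 2 ↥(Subgroup.centralizer ({z} : Set G))).map (Subgroup.centralizer ({z} : Set G)).subtype = Subgroup.centralizer ({z} : Set G))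
    (hKQ : K ⊓ (Cfsg.pCore 2 ↥(Subgroup.centralizer ({z} : Set G))).map (Subgroup.centralizer ({z} : Set G)).subtype = ⊥)
    (hQz : ∀ x ∈ (Cfsg.pCore 2 ↥(Subgroup.centralizer ({z} : Set G))).map (Subgroup.centralizer ({z} : Set G)).subtype, orderOf x = 2 → IsConj x z)
    (hCz : ∀ x ∈ Subgroup.centralizer ({z} : Set G), orderOf x = 2 →
      x ∉ (Cfsg.pCore 2 ↥(Subgroup.centralizer ({z} : Set G))).map (Subgroup.centralizer ({z} : Set G)).subtype → IsConj x t)
    (V B : Subgroup G) (hVB : Cfsg.IsInternalDirectProduct V B (Subgroup.centralizer ({t} : Set G)))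
    (hV : Nat.card ↥V = 4) (hV2 : ∀ v ∈ V, v ^ 2 = 1) (htV : t ∈ V) (hB : Nonempty (↥B ≃* alternatingGroup (Fin 5)))
    (hBz : ∀ x ∈ B, orderOf x = 2 → IsConj x z)
    (hCt : ∀ x ∈ Subgroup.centralizer ({t} : Set G), orderOf x = 2 → x ∉ B → IsConj x t) :
    Nat.card G = 604800 := by
  classical
  obtain ⟨eK⟩ := hK
  obtain ⟨eB⟩ := hB
  obtain ⟨hVC, hBC, hVBc, hVBi, hVBs⟩ := hVB
  set C := Subgroup.centralizer ({z} : Set G) with hCdef
  set P := Cfsg.pCore 2 ↥C with hP
  set Q := P.map C.subtype with hQdef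
  have hA5 : Nat.card A5 = 60 := by rw [Nat.card_eq_fintype_card]; decide +kernel
  have hord2 : ∀ {x : G}, orderOf x = 2 ↔ x * x = 1 ∧ x ≠ 1 := fun {x} => by
    rw [orderOf_eq_prime_iff, sq]
  have hconj2 : ∀ {x w : G}, orderOf x = 2 → IsConj x w → orderOf w = 2 := fun {x w} hx h => by
    obtain ⟨g, rfl⟩ := isConj_iff.1 h
    rw [CfsgLib.Involutions.orderOf_conj, hx]
  have hzz : z * z = 1 := (hord2.1 hz).1
  have hmemC : ∀ x, x ∈ C ↔ x * z = z * x := fun x => Subgroup.mem_centralizer_singleton_iff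
  have hQC : Q ≤ C := Subgroup.map_subtype_le _
  have hPeq : Cfsg.generalizedFittingSubgroup ↥C = P := by
    refine le_antisymm ?_ (le_trans (CfsgLib.pCore_le_fittingSubgroup Nat.prime_two) le_sup_right)
    haveI : (Cfsg.generalizedFittingSubgroup ↥C).Normal := CfsgLib.generalizedFittingSubgroup_normal
    exact CfsgLib.le_pCore hex.1.1
  rw [hPeq] at hex
  obtain ⟨⟨hP2, -, hcomP⟩, hcenP⟩ := hex
  -- transfer to `Q`
  let eQ : P ≃* Q := P.equivMapOfInjective C.subtype C.subtype_injective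
  have hcenQ : Nat.card (Subgroup.center Q) = 2 := by
    rw [← hcenP]
    exact (Nat.card_congr (eQ.toEquiv.subtypeEquiv fun x => by
      show x ∈ Subgroup.center P ↔ eQ x ∈ Subgroup.center Q
      simp only [Subgroup.mem_center_iff]
      exact ⟨fun h y => by rw [← eQ.apply_symm_apply y, ← map_mul, ← map_mul, h],
        fun h y => eQ.injective (by rw [map_mul, map_mul]; exact h _)⟩)).symm
  have hcomQ : ∀ a b : Q, a * b * a⁻¹ * b⁻¹ ∈ Subgroup.center Q := by
    intro a b
    have h : eQ.symm (a * b * a⁻¹ * b⁻¹) ∈ Subgroup.center P := by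
      rw [← hcomP, map_mul, map_mul, map_mul, map_inv, map_inv]
      exact Subgroup.commutator_mem_commutator (Subgroup.mem_top _) (Subgroup.mem_top _)
    rw [Subgroup.mem_center_iff] at h ⊢
    intro y
    have h' := h (eQ.symm y)
    rw [← map_mul, ← map_mul] at h'
    exact eQ.symm.injective h'
  have hQ32 : Nat.card Q = 32 := by rw [← Nat.card_congr eQ.toEquiv, hQ]
  -- `z` lies in `Q`
  have hzC : z ∈ C := (hmemC z).2 rfl
  have hzQ : z ∈ Q := by
    have hc : (⟨z, hzC⟩ : C) ∈ Subgroup.center C := Subgroup.mem_center_iff.2 fun g => Subtype.ext ((hmemC g.1).1 g.2)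
    haveI : (Subgroup.zpowers (⟨z, hzC⟩ : C)).Normal := ⟨fun w hw g => by
      have := Subgroup.zpowers_le.2 hc hw
      rwa [Subgroup.mem_center_iff.1 this g, mul_inv_cancel_right]⟩
    have h2 : IsPGroup 2 (Subgroup.zpowers (⟨z, hzC⟩ : C)) := IsPGroup.of_card (n := 1) (by
      rw [Nat.card_zpowers, Subgroup.orderOf_mk, hz, pow_one])
    exact ⟨_, CfsgLib.le_pCore h2 (Subgroup.mem_zpowers _), rfl⟩
  set z' : Q := ⟨z, hzQ⟩ with hz'
  have hz'1 : z' ≠ 1 := fun e => (hord2.1 hz).2 (congrArg Subtype.val e)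
  have hz'2 : z' * z' = 1 := Subtype.ext hzz
  have hcenz : ∀ x : Q, x ∈ Subgroup.center Q ↔ x = 1 ∨ x = z' := by
    intro x
    have hz'c : z' ∈ Subgroup.center Q := Subgroup.mem_center_iff.2 fun g => Subtype.ext ((hmemC g.1).1 (hQC g.2))
    constructor
    · intro hx
      obtain ⟨u, v, huv, huniv⟩ := Nat.card_eq_two_iff.1 hcenQ
      have hall : ∀ y : Subgroup.center Q, y = u ∨ y = v := fun y => by
        have := Set.mem_univ y; rw [← huniv] at this; simpa using this
      by_contra hne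
      push Not at hne
      have n1 : (⟨x, hx⟩ : Subgroup.center Q) ≠ 1 := fun e => hne.1 (congrArg Subtype.val e)
      have n2 : (⟨x, hx⟩ : Subgroup.center Q) ≠ ⟨z', hz'c⟩ := fun e => hne.2 (congrArg Subtype.val e)
      have n3 : (⟨z', hz'c⟩ : Subgroup.center Q) ≠ 1 := fun e => hz'1 (congrArg Subtype.val e)
      rcases hall ⟨x, hx⟩ with a | a <;> rcases hall ⟨z', hz'c⟩ with b | b <;> rcases hall 1 with c | c <;>
        first | exact n2 (a.trans b.symm) | exact n1 (a.trans c.symm) | exact n3 (b.trans c.symm)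
    · rintro (rfl | rfl)
      exacts [one_mem _, hz'c]
  have hcom : ∀ x y : Q, y * x = x * y ∨ y * x = z' * (x * y) := by
    intro x y
    rcases (hcenz _).1 (hcomQ y x) with h | h
    · left; rwa [mul_inv_eq_one, mul_inv_eq_iff_eq_mul] at h
    · right; rw [← h]; group
  have hsq : ∀ x : Q, x * x = 1 ∨ x * x = z' := by
    intro x
    refine (hcenz _).1 (Subgroup.mem_center_iff.2 fun y => ?_)
    rcases hcom x y with h | h
    · rw [← mul_assoc, h, mul_assoc, h, mul_assoc]
    · have hzx : z' * x = x * z' :=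
        ((Subgroup.mem_center_iff.1 ((hcenz z').2 (Or.inr rfl))) x).symm
      calc y * (x * x) = (y * x) * x := by group
        _ = z' * (x * y) * x := by rw [h]
        _ = z' * x * (y * x) := by group
        _ = z' * x * (z' * (x * y)) := by rw [h]
        _ = z' * (x * z') * (x * y) := by group
        _ = (z' * z') * (x * x * y) := by rw [← hzx]; group
        _ = x * x * y := by rw [hz'2, one_mul]
  -- conjugation inside `C`
  haveI : P.Normal := by rw [hP]; infer_instance
  have hQn : ∀ g ∈ C, ∀ x ∈ Q, g * x * g⁻¹ ∈ Q := by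
    rintro g hg _ ⟨p, hp, rfl⟩
    exact ⟨⟨g, hg⟩ * p * (⟨g, hg⟩ : C)⁻¹, ‹P.Normal›.conj_mem p hp _, rfl⟩
  have hKC' : K ≤ C := hKC ▸ le_sup_left
  have hinK : ∀ g ∈ K, g ∈ Q → g = 1 := fun g h1 h2 => (Subgroup.mem_bot (G := G)).1 (hKQ ▸ Subgroup.mem_inf.2 ⟨h1, h2⟩)
  haveI : IsSimpleGroup A5 := alternatingGroup.isSimpleGroup (by simp)
  haveI : IsSimpleGroup K := by
    haveI : Nontrivial K := eK.toEquiv.nontrivial
    exact IsSimpleGroup.isSimpleGroup_of_surjective eK.symm.toMonoidHom eK.symm.surjective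
  -- cardinalities
  have hCt240 : Nat.card (Subgroup.centralizer ({t} : Set G)) = 240 := by
    have e : ↥V × ↥B ≃ Subgroup.centralizer ({t} : Set G) := Equiv.ofBijective
      (fun p => ⟨p.1.1 * p.2.1, mul_mem (hVC p.1.2) (hBC p.2.2)⟩) ⟨fun p q h => by
        have h' : p.1.1 * p.2.1 = q.1.1 * q.2.1 := congrArg Subtype.val h
        have h3 : q.1.1⁻¹ * p.1.1 = q.2.1 * p.2.1⁻¹ := by
          rw [eq_mul_inv_iff_mul_eq, mul_assoc, h', inv_mul_cancel_left]
        have h4 : q.1.1⁻¹ * p.1.1 ∈ V ⊓ B :=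
          ⟨V.mul_mem (V.inv_mem q.1.2) p.1.2, h3 ▸ B.mul_mem q.2.2 (B.inv_mem p.2.2)⟩
        rw [hVBi, Subgroup.mem_bot] at h4
        rw [h4, eq_comm, mul_inv_eq_one] at h3
        exact Prod.ext (Subtype.ext (inv_mul_eq_one.1 h4).symm) (Subtype.ext h3.symm), fun w => by
        have hw : w.1 ∈ V ⊔ B := hVBs.symm ▸ w.2
        have hcl' : w.1 ∈ Subgroup.closure ((V : Set G) ∪ B) := by
          rwa [Subgroup.closure_union, Subgroup.closure_eq, Subgroup.closure_eq]
        suffices ∀ g : G, g ∈ Subgroup.closure ((V : Set G) ∪ B) → ∃ a ∈ V, ∃ b ∈ B, a * b = g by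
          obtain ⟨a, ha, b, hb, e⟩ := this _ hcl'
          exact ⟨(⟨a, ha⟩, ⟨b, hb⟩), Subtype.ext e⟩
        intro g hg
        induction hg using Subgroup.closure_induction with
        | mem g hg =>
          rcases hg with hg | hg
          · exact ⟨g, hg, 1, B.one_mem, mul_one g⟩
          · exact ⟨1, V.one_mem, g, hg, one_mul g⟩
        | one => exact ⟨1, V.one_mem, 1, B.one_mem, mul_one 1⟩
        | mul g g' _ _ ih ih' =>
          obtain ⟨a, ha, b, hb, rfl⟩ := ih
          obtain ⟨a', ha', b', hb', rfl⟩ := ih'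
          refine ⟨a * a', V.mul_mem ha ha', b * b', B.mul_mem hb hb', ?_⟩
          rw [mul_assoc, mul_assoc, ← mul_assoc a', hVBc a' ha' b hb, mul_assoc]
        | inv g _ ih =>
          obtain ⟨a, ha, b, hb, rfl⟩ := ih
          exact ⟨a⁻¹, V.inv_mem ha, b⁻¹, B.inv_mem hb, by rw [mul_inv_rev, hVBc a⁻¹ (V.inv_mem ha) b⁻¹ (B.inv_mem hb)]⟩⟩
    rw [← Nat.card_congr e, Nat.card_prod, hV, Nat.card_congr eB.toEquiv, hA5]
  have hdec : ∀ w ∈ Subgroup.centralizer ({t} : Set G), ∃ a ∈ V, ∃ b ∈ B, a * b = w := by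
    intro w hw
    have hcl' : w ∈ Subgroup.closure ((V : Set G) ∪ B) := by
      rw [Subgroup.closure_union, Subgroup.closure_eq, Subgroup.closure_eq, hVBs]; exact hw
    induction hcl' using Subgroup.closure_induction with
    | mem g hg =>
      rcases hg with hg | hg
      · exact ⟨g, hg, 1, B.one_mem, mul_one g⟩
      · exact ⟨1, V.one_mem, g, hg, one_mul g⟩
    | one => exact ⟨1, V.one_mem, 1, B.one_mem, mul_one 1⟩
    | mul g g' hg hg' ih ih' =>
      have e1 : V ⊔ B = Subgroup.closure ((V : Set G) ∪ B) := by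
        rw [Subgroup.closure_union, Subgroup.closure_eq, Subgroup.closure_eq]
      obtain ⟨a, ha, b, hb, rfl⟩ := ih (hVBs ▸ e1.symm ▸ hg)
      obtain ⟨a', ha', b', hb', rfl⟩ := ih' (hVBs ▸ e1.symm ▸ hg')
      refine ⟨a * a', V.mul_mem ha ha', b * b', B.mul_mem hb hb', ?_⟩
      rw [mul_assoc, mul_assoc, ← mul_assoc a', hVBc a' ha' b hb, mul_assoc]
    | inv g hg ih =>
      have e1 : V ⊔ B = Subgroup.closure ((V : Set G) ∪ B) := by
        rw [Subgroup.closure_union, Subgroup.closure_eq, Subgroup.closure_eq]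
      obtain ⟨a, ha, b, hb, rfl⟩ := ih (hVBs ▸ e1.symm ▸ hg)
      exact ⟨a⁻¹, V.inv_mem ha, b⁻¹, B.inv_mem hb, by rw [mul_inv_rev, hVBc a⁻¹ (V.inv_mem ha) b⁻¹ (B.inv_mem hb)]⟩
  have hC1920 : Nat.card C = 1920 := by
    have hnorm : K ≤ Subgroup.normalizer (Q : Set G) := fun g hg => by
      rw [Subgroup.mem_normalizer_iff]
      refine fun x => ⟨fun hx => hQn g (hKC' hg) x hx, fun hx => ?_⟩
      have := hQn g⁻¹ (C.inv_mem (hKC' hg)) _ hx
      simpa [mul_assoc] using this
    have e : ↥K × ↥Q ≃ C := Equiv.ofBijective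
      (fun p => ⟨p.1.1 * p.2.1, mul_mem (hKC' p.1.2) (hQC p.2.2)⟩) ⟨fun p q h => by
        have h' : p.1.1 * p.2.1 = q.1.1 * q.2.1 := congrArg Subtype.val h
        have h3 : q.1.1⁻¹ * p.1.1 = q.2.1 * p.2.1⁻¹ := by
          rw [eq_mul_inv_iff_mul_eq, mul_assoc, h', inv_mul_cancel_left]
        have h4 : q.1.1⁻¹ * p.1.1 = 1 :=
          hinK _ (K.mul_mem (K.inv_mem q.1.2) p.1.2) (h3 ▸ Q.mul_mem q.2.2 (Q.inv_mem p.2.2))
        rw [h4, eq_comm, mul_inv_eq_one] at h3
        exact Prod.ext (Subtype.ext (inv_mul_eq_one.1 h4).symm) (Subtype.ext h3.symm), fun w => by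
        have hw : w.1 ∈ ((K ⊔ Q : Subgroup G) : Set G) := hKC.symm ▸ w.2
        rw [Subgroup.coe_mul_of_left_le_normalizer_right K Q hnorm] at hw
        obtain ⟨a, ha, b, hb, hab⟩ := Set.mem_mul.1 hw
        exact ⟨(⟨a, ha⟩, ⟨b, hb⟩), Subtype.ext hab⟩⟩
    rw [← Nat.card_congr e, Nat.card_prod, hQ32, Nat.card_congr eK.toEquiv, hA5]
  have hkz := class_mul z
  have hkt := class_mul t
  rw [← hCdef, hC1920] at hkz
  rw [hCt240] at hkt
  set kz := Nat.card {w : G // IsConj z w}
  set kt := Nat.card {w : G // IsConj t w}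
  have hkz0 : 0 < kz := by
    haveI : Nonempty {w : G // IsConj z w} := ⟨⟨z, IsConj.refl z⟩⟩
    exact Nat.card_pos
  -- fusion in the centralizers
  have hzQ' : ∀ w, IsConj z w → w * z = z * w → w ∈ Q := fun w hw hc => by
    by_contra h
    exact hzt ((hw.trans (hCz w ((hmemC w).2 hc) (hconj2 hz hw) h)))
  have hQz' : ∀ w ∈ Q, orderOf w = 2 → IsConj z w := fun w hw h2 => (hQz w hw h2).symm
  have hzB : ∀ w, IsConj z w → w * t = t * w → w ∈ B := fun w hw hc => by
    by_contra h
    exact hzt (hw.trans (hCt w (Subgroup.mem_centralizer_singleton_iff.2 hc) (hconj2 hz hw) h))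
  have hBt : ∀ b ∈ B, b * t = t * b := fun b hb => Subgroup.mem_centralizer_singleton_iff.1 (hBC hb)
  have eBinv : ∀ b : B, ((b : G) * b = 1 ∧ (b : G) ≠ 1) ↔ (eB b ^ 2 = 1 ∧ eB b ≠ 1) := fun b => by
    rw [← map_pow, EmbeddingLike.map_eq_one_iff, EmbeddingLike.map_ne_one_iff, sq]
    exact and_congr ⟨fun h => Subtype.ext h, fun h => congrArg Subtype.val h⟩
      (not_congr ⟨fun h => Subtype.ext h, fun h => congrArg Subtype.val h⟩)
  -- involutions of `B`
  have hnB : Nat.card {w : G // IsConj z w ∧ w * t = t * w} = 15 := by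
    rw [← a5_inv]
    refine Nat.card_congr
      { toFun := fun w => ⟨eB ⟨w.1, hzB _ w.2.1 w.2.2⟩, (eBinv _).1 (hord2.1 (hconj2 hz w.2.1))⟩
        invFun := fun x => ⟨((eB.symm x.1 : B) : G), (hBz _ (eB.symm x.1).2 (hord2.2 ((eBinv _).2 (by
          rw [eB.apply_symm_apply]; exact x.2)))).symm, hBt _ (eB.symm x.1).2⟩
        left_inv := fun w => by simp
        right_inv := fun x => by simp }
  -- the number of `t`-class involutions of `C`
  have hN : Nat.card {w : G // IsConj t w ∧ w * z = z * w} = 120 := by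
    let c : G → G ≃ G := fun g => (MulAut.conj g).toEquiv
    have hc : ∀ g x, c g x = g * x * g⁻¹ := fun g x => rfl
    have h1 := fiber_count z (fun x y => IsConj t y ∧ y * x = x * y) c fun g x y => by
      rw [hc]
      refine and_congr ⟨fun h => h.trans (isConj_iff.2 ⟨g, rfl⟩), fun h => h.trans (isConj_iff.2 ⟨g, rfl⟩).symm⟩ ?_
      show _ ↔ (MulAut.conj g) y * (MulAut.conj g) x = (MulAut.conj g) x * (MulAut.conj g) y
      rw [← map_mul, ← map_mul, (MulAut.conj g).injective.eq_iff]
    have h2 := fiber_count t (fun x y => IsConj z y ∧ y * x = x * y) c fun g x y => by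
      rw [hc]
      refine and_congr ⟨fun h => h.trans (isConj_iff.2 ⟨g, rfl⟩), fun h => h.trans (isConj_iff.2 ⟨g, rfl⟩).symm⟩ ?_
      show _ ↔ (MulAut.conj g) y * (MulAut.conj g) x = (MulAut.conj g) x * (MulAut.conj g) y
      rw [← map_mul, ← map_mul, (MulAut.conj g).injective.eq_iff]
    have h3 : Nat.card {p : G × G // IsConj z p.1 ∧ IsConj t p.2 ∧ p.2 * p.1 = p.1 * p.2} =
        Nat.card {p : G × G // IsConj t p.1 ∧ IsConj z p.2 ∧ p.2 * p.1 = p.1 * p.2} :=
      Nat.card_congr ((Equiv.prodComm G G).subtypeEquiv fun p =>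
        ⟨fun ⟨a, b, c⟩ => ⟨b, a, c.symm⟩, fun ⟨a, b, c⟩ => ⟨b, a, c.symm⟩⟩)
    rw [h1, h2, hnB] at h3
    exact Nat.eq_of_mul_eq_mul_left hkz0 (h3.trans (by linarith only [hkz, hkt]))
  -- commuting triples
  have hM : Nat.card {q : G × G // IsConj z q.1 ∧ q.1 ≠ z ∧ IsConj t q.2 ∧
      q.1 * z = z * q.1 ∧ q.2 * z = z * q.2 ∧ q.1 * q.2 = q.2 * q.1} = 240 := by
    let c : G → (G × G) ≃ (G × G) := fun g => Equiv.prodCongr (MulAut.conj g).toEquiv (MulAut.conj g).toEquiv
    have hc : ∀ g q, c g q = (g * q.1 * g⁻¹, g * q.2 * g⁻¹) := fun g q => rfl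
    have hcc : ∀ g a b : G, (g * a * g⁻¹) * (g * b * g⁻¹) = (g * b * g⁻¹) * (g * a * g⁻¹) ↔ a * b = b * a := by
      intro g a b
      show (MulAut.conj g) a * (MulAut.conj g) b = (MulAut.conj g) b * (MulAut.conj g) a ↔ _
      rw [← map_mul, ← map_mul, (MulAut.conj g).injective.eq_iff]
    have hcj : ∀ g w x : G, IsConj w x ↔ IsConj w (g * x * g⁻¹) := fun g w x =>
      ⟨fun h => h.trans (isConj_iff.2 ⟨g, rfl⟩), fun h => h.trans (isConj_iff.2 ⟨g, rfl⟩).symm⟩
    have h1 := fiber_count z (fun x q => IsConj z q.1 ∧ q.1 ≠ x ∧ IsConj t q.2 ∧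
      q.1 * x = x * q.1 ∧ q.2 * x = x * q.2 ∧ q.1 * q.2 = q.2 * q.1) c fun g x q => by
      rw [hc]
      exact and_congr (hcj g _ _) (and_congr (by rw [ne_eq, ne_eq, mul_left_inj, mul_right_inj])
        (and_congr (hcj g _ _) (and_congr (hcc g _ _).symm (and_congr (hcc g _ _).symm (hcc g _ _).symm))))
    have h2 := fiber_count t (fun y q => IsConj z q.1 ∧ IsConj z q.2 ∧ q.2 ≠ q.1 ∧
      q.1 * y = y * q.1 ∧ q.2 * y = y * q.2 ∧ q.1 * q.2 = q.2 * q.1) c fun g x q => by
      rw [hc]
      exact and_congr (hcj g _ _) (and_congr (hcj g _ _) (and_congr (by rw [ne_eq, ne_eq, mul_left_inj, mul_right_inj])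
        (and_congr (hcc g _ _).symm (and_congr (hcc g _ _).symm (hcc g _ _).symm))))
    have h3 : Nat.card {p : G × (G × G) // IsConj z p.1 ∧ IsConj z p.2.1 ∧ p.2.1 ≠ p.1 ∧ IsConj t p.2.2 ∧
        p.2.1 * p.1 = p.1 * p.2.1 ∧ p.2.2 * p.1 = p.1 * p.2.2 ∧ p.2.1 * p.2.2 = p.2.2 * p.2.1} =
      Nat.card {p : G × (G × G) // IsConj t p.1 ∧ IsConj z p.2.1 ∧ IsConj z p.2.2 ∧ p.2.2 ≠ p.2.1 ∧
        p.2.1 * p.1 = p.1 * p.2.1 ∧ p.2.2 * p.1 = p.1 * p.2.2 ∧ p.2.1 * p.2.2 = p.2.2 * p.2.1} :=
      Nat.card_congr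
        { toFun := fun p => ⟨(p.1.2.2, (p.1.1, p.1.2.1)), p.2.2.2.2.1, p.2.1, p.2.2.1, p.2.2.2.1,
            p.2.2.2.2.2.2.1.symm, p.2.2.2.2.2.2.2, p.2.2.2.2.2.1.symm⟩
          invFun := fun p => ⟨(p.1.2.1, (p.1.2.2, p.1.1)), p.2.2.1, p.2.2.2.1, p.2.2.2.2.1, p.2.1,
            p.2.2.2.2.2.2.2.symm, p.2.2.2.2.2.1.symm, p.2.2.2.2.2.2.1⟩
          left_inv := fun p => rfl
          right_inv := fun p => rfl }
    rw [h1, h2] at h3
    have h4 : Nat.card {q : G × G // IsConj z q.1 ∧ IsConj z q.2 ∧ q.2 ≠ q.1 ∧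
      q.1 * t = t * q.1 ∧ q.2 * t = t * q.2 ∧ q.1 * q.2 = q.2 * q.1} = 30 := by
      rw [← a5_pairs]
      refine Nat.card_congr
        { toFun := fun q => ⟨(eB ⟨q.1.1, hzB _ q.2.1 q.2.2.2.2.1⟩, eB ⟨q.1.2, hzB _ q.2.2.1 q.2.2.2.2.2.1⟩),
            (eBinv _).1 (hord2.1 (hconj2 hz q.2.1)), (eBinv _).1 (hord2.1 (hconj2 hz q.2.2.1)),
            fun e => q.2.2.2.1 (congrArg Subtype.val (eB.injective e)),
            by rw [← map_mul, ← map_mul]; exact congrArg eB (Subtype.ext q.2.2.2.2.2.2)⟩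
          invFun := fun x => ⟨(((eB.symm x.1.1 : B) : G), ((eB.symm x.1.2 : B) : G)),
            (hBz _ (eB.symm x.1.1).2 (hord2.2 ((eBinv _).2 (by rw [eB.apply_symm_apply]; exact x.2.1)))).symm,
            (hBz _ (eB.symm x.1.2).2 (hord2.2 ((eBinv _).2 (by rw [eB.apply_symm_apply]; exact x.2.2.1)))).symm,
            fun e => x.2.2.2.1 (eB.symm.injective (Subtype.ext e)),
            hBt _ (eB.symm x.1.1).2, hBt _ (eB.symm x.1.2).2,
            by rw [← Subgroup.coe_mul, ← Subgroup.coe_mul, ← map_mul, ← map_mul, x.2.2.2.2]⟩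
          left_inv := fun q => by simp
          right_inv := fun x => by simp }
    rw [h4] at h3
    exact Nat.eq_of_mul_eq_mul_left hkz0 (h3.trans (by linarith only [hkz, hkt]))
  -- elements of order five act without fixed points
  have hfix : ∀ k ∈ K, k ^ 5 = 1 → k ≠ 1 → ∀ x : Q, (∃ c ∈ Subgroup.center Q, k * (x : G) * k⁻¹ = x * (c : G)) →
      x ∈ Subgroup.center Q := by
    intro k hkK hk5 hk1 x ⟨c, hc, hxc⟩
    have hcC : ∀ n : ℕ, k ^ n * (x : G) * (k ^ n)⁻¹ = x * ((c : G)) ^ n := by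
      intro n
      induction n with
      | zero => simp
      | succ n ih =>
        have hkc : k * (c : G) * k⁻¹ = c := by
          rcases (hcenz c).1 hc with rfl | rfl
          · simp
          · rw [mul_inv_eq_iff_eq_mul]; exact (hmemC k).1 (hKC' hkK)
        rw [pow_succ' k, show k * k ^ n * (x : G) * (k * k ^ n)⁻¹ = k * (k ^ n * x * (k ^ n)⁻¹) * k⁻¹ by group, ih,
          show k * ((x : G) * (c : G) ^ n) * k⁻¹ = (k * x * k⁻¹) * (k * (c : G) ^ n * k⁻¹) by group, ← conj_pow, hxc,
          hkc, mul_assoc, ← pow_succ']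
    have hxk : k * (x : G) = x * k := by
      have h5 := hcC 5
      rw [hk5, inv_one, one_mul, mul_one, left_eq_mul] at h5
      rcases (hcenz c).1 hc with rfl | rfl
      · simpa [mul_inv_eq_iff_eq_mul] using hxc
      · exfalso
        rw [show z'.1 = z from rfl, show (5 : ℕ) = 2 + 2 + 1 by rfl, pow_succ, pow_add, sq, hzz, one_mul, one_mul] at h5
        exact (hord2.1 hz).2 h5
    by_contra hx
    -- `k` would centralize `Q`
    let σ : Equiv.Perm Q :=
      { toFun := fun y => ⟨k * y * k⁻¹, hQn k (hKC' hkK) _ y.2⟩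
        invFun := fun y => ⟨k⁻¹ * y * k⁻¹⁻¹, hQn k⁻¹ (C.inv_mem (hKC' hkK)) _ y.2⟩
        left_inv := fun y => Subtype.ext (by simp [mul_assoc])
        right_inv := fun y => Subtype.ext (by simp [mul_assoc]) }
    let W : Subgroup Q := (Subgroup.centralizer ({k} : Set G)).subgroupOf Q
    have hW : ∀ y : Q, y ∈ W ↔ σ y = y := fun y => by
      rw [Subgroup.mem_subgroupOf, Subgroup.mem_centralizer_singleton_iff, Subtype.ext_iff]
      show _ ↔ k * (y : G) * k⁻¹ = y
      rw [mul_inv_eq_iff_eq_mul, eq_comm]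
    have hpow : ∀ (n : ℕ) (y : Q), ((σ ^ n) y : G) = k ^ n * y * (k ^ n)⁻¹ := by
      intro n y
      induction n with
      | zero => simp
      | succ n ih =>
        rw [pow_succ', Equiv.Perm.mul_apply]
        show k * ((σ ^ n) y : G) * k⁻¹ = _
        rw [ih, pow_succ']; group
    haveI := Fintype.ofFinite Q
    have hmov : 5 ∣ σ.support.card := by
      have h5 : σ ^ 5 = 1 := Equiv.ext fun y => Subtype.ext (by rw [hpow, hk5]; simp)
      rcases eq_or_ne σ 1 with h | h
      · simp [h]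
      haveI : Fact (Nat.Prime 5) := ⟨by norm_num⟩
      have ho := orderOf_eq_prime h5 h
      obtain ⟨n, hn⟩ := Equiv.Perm.cycleType_prime_order (σ := σ) (by rw [ho]; norm_num)
      rw [← Equiv.Perm.sum_cycleType, hn, Multiset.sum_replicate, ho]
      exact Dvd.intro_left _ rfl
    have hWcard : σ.support.card + Nat.card W = 32 := by
      rw [← hQ32, Nat.card_eq_fintype_card (α := Q), show Nat.card W = σ.supportᶜ.card by
        rw [Nat.card_eq_fintype_card, ← Fintype.card_coe]
        exact Fintype.card_congr (Equiv.subtypeEquivRight fun y => by simp [hW y]), Finset.card_add_card_compl]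
    have hW3 : 2 < Nat.card W := by
      have hsub : ({1, z', x} : Finset Q) ⊆ σ.supportᶜ := by
        intro y hy
        simp only [Finset.mem_insert, Finset.mem_singleton] at hy
        simp only [Finset.mem_compl, Equiv.Perm.mem_support, not_not, ← hW]
        rcases hy with rfl | rfl | rfl
        · exact one_mem _
        · exact Subgroup.mem_subgroupOf.2 (Subgroup.mem_centralizer_singleton_iff.2 ((hmemC k).1 (hKC' hkK)).symm)
        · exact Subgroup.mem_subgroupOf.2 (Subgroup.mem_centralizer_singleton_iff.2 hxk.symm)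
      have h3 : ({1, z', x} : Finset Q).card = 3 := by
        rw [Finset.card_insert_of_notMem, Finset.card_pair]
        · exact fun e => hx ((hcenz x).2 (Or.inr e.symm))
        · simp only [Finset.mem_insert, Finset.mem_singleton, not_or]
          exact ⟨hz'1.symm, fun e => hx ((hcenz x).2 (Or.inl e.symm))⟩
      have := Finset.card_le_card hsub
      have hc' := Finset.card_add_card_compl σ.support
      rw [← Nat.card_eq_fintype_card, hQ32] at hc'
      omega
    have hWd : Nat.card W ∣ 2 ^ 5 := by rw [show 2 ^ 5 = Nat.card Q by rw [hQ32]; norm_num]; exact W.card_subgroup_dvd_card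
    have hW32 : Nat.card W = 32 := by
      obtain ⟨i, hi, hi'⟩ := (Nat.dvd_prime_pow Nat.prime_two).1 hWd
      rw [hi'] at hW3 hWcard ⊢
      interval_cases i <;> omega
    have hall : ∀ y : Q, k * (y : G) = y * k := fun y => by
      have : y ∈ W := (Subgroup.eq_top_of_card_eq W (hW32.trans hQ32.symm)).symm ▸ Subgroup.mem_top y
      exact (Subgroup.mem_centralizer_singleton_iff.1 (Subgroup.mem_subgroupOf.1 this)).symm
    -- so `K` centralizes `Q`
    let N : Subgroup K := (Subgroup.centralizer (Q : Set G)).subgroupOf K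
    have hNn : N.Normal := ⟨fun w hw g => by
      rw [Subgroup.mem_subgroupOf, Subgroup.mem_centralizer_iff] at hw ⊢
      intro y hy
      have h1 := hw _ (hQn (g : G)⁻¹ (C.inv_mem (hKC' g.2)) y hy)
      simp only [Subgroup.coe_mul, Subgroup.coe_inv]
      calc y * ((g : G) * w * (g : G)⁻¹) = g * ((g : G)⁻¹ * y * ((g : G)⁻¹)⁻¹ * w) * (g : G)⁻¹ := by group
        _ = g * (w * ((g : G)⁻¹ * y * ((g : G)⁻¹)⁻¹)) * (g : G)⁻¹ := by rw [h1]
        _ = _ := by group⟩
    have hNt : N = ⊤ := hNn.eq_bot_or_eq_top.resolve_left fun e => hk1 (by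
      have : (⟨k, hkK⟩ : K) ∈ N := by
        rw [Subgroup.mem_subgroupOf, Subgroup.mem_centralizer_iff]
        exact fun y hy => (hall ⟨y, hy⟩).symm
      rw [e, Subgroup.mem_bot] at this
      exact congrArg Subtype.val this)
    obtain ⟨g, hg2, hg1⟩ := a5_has_inv
    set v : K := eK.symm g with hvdef
    have hv2 : orderOf (v : G) = 2 := hord2.2 ⟨by
      rw [← Subgroup.coe_mul, hvdef, ← map_mul, ← sq, hg2, map_one]; rfl, fun e => hg1 (by
      have : v = 1 := Subtype.ext e
      rwa [hvdef, EmbeddingLike.map_eq_one_iff] at this)⟩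
    have hvQ : (v : G) ∉ Q := fun h => (hord2.1 hv2).2 (hinK _ v.2 h)
    have hvt := hCz _ (hKC' v.2) hv2 hvQ
    obtain ⟨g', hg'⟩ := isConj_iff.1 hvt
    have hle : Q ≤ Subgroup.centralizer ({(v : G)} : Set G) := fun y hy => by
      rw [Subgroup.mem_centralizer_singleton_iff]
      have : v ∈ N := hNt ▸ Subgroup.mem_top v
      exact (Subgroup.mem_centralizer_iff.1 (Subgroup.mem_subgroupOf.1 this)) y hy
    have hd := Subgroup.card_dvd_of_le hle
    have hcv : Nat.card (Subgroup.centralizer ({(v : G)} : Set G)) = 240 := by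
      have h1 := class_mul (v : G)
      have h2 : Nat.card {w : G // IsConj (v : G) w} = kt :=
        Nat.card_congr (Equiv.subtypeEquivRight fun w => ⟨hvt.symm.trans, hvt.trans⟩)
      rw [h2, ← hkt] at h1
      refine Nat.eq_of_mul_eq_mul_left (Nat.pos_of_ne_zero fun h => ?_) h1
      rw [h, zero_mul] at hkt
      exact Nat.card_pos.ne hkt
    rw [hcv, hQ32] at hd
    norm_num at hd
  obtain ⟨g5, hg5, hg5'⟩ := a5_has_five
  set k : G := ((eK.symm g5 : K) : G) with hkdef
  have hkK : k ∈ K := (eK.symm g5).2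
  have hk5 : k ^ 5 = 1 := by rw [hkdef, ← Subgroup.coe_pow, ← map_pow, hg5, map_one]; rfl
  have hk1 : k ≠ 1 := fun e => hg5' (by
    have : eK.symm g5 = 1 := Subtype.ext e
    rwa [EmbeddingLike.map_eq_one_iff] at this)
  -- the conjugation of `Q` by a power of `k`
  let κ : ℕ → Q →* Q := fun i => MonoidHom.mk' (fun y => ⟨k ^ i * y * (k ^ i)⁻¹,
    hQn _ (hKC' (K.pow_mem hkK i)) _ y.2⟩) fun a b => Subtype.ext (by simp [mul_assoc])
  have hκ : ∀ i (y : Q), (κ i y : G) = k ^ i * y * (k ^ i)⁻¹ := fun i y => rfl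
  have hκadd : ∀ i j (y : Q), κ i (κ j y) = κ (i + j) y := fun i j y => Subtype.ext (by
    rw [hκ, hκ, hκ, pow_add]; group)
  have hκ5 : ∀ i y, κ (i + 5) y = κ i y := fun i y => Subtype.ext (by rw [hκ, hκ, pow_add, hk5, mul_one])
  have hκcen : ∀ i (c : Q), c ∈ Subgroup.center Q → κ i c = c := fun i c hc => by
    rcases (hcenz c).1 hc with rfl | rfl
    · exact map_one _
    · refine Subtype.ext ?_
      rw [hκ, mul_inv_eq_iff_eq_mul]
      exact (hmemC _).1 (hKC' (K.pow_mem hkK i))
  letI : CommGroup (Q ⧸ Subgroup.center Q) := { (inferInstance : Group (Q ⧸ Subgroup.center Q)) with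
    mul_comm := fun a b => by
      obtain ⟨a, rfl⟩ := QuotientGroup.mk_surjective a
      obtain ⟨b, rfl⟩ := QuotientGroup.mk_surjective b
      rw [← QuotientGroup.mk_mul, ← QuotientGroup.mk_mul, QuotientGroup.eq, hcenz]
      rcases hcom b a with h | h
      · left; rw [inv_mul_eq_one]; exact h
      · right
        rw [inv_mul_eq_iff_eq_mul, h, Subgroup.mem_center_iff.1 ((hcenz z').2 (Or.inr rfl)),
          ← mul_assoc, hz'2, one_mul] }
  -- orbits of involutions
  have horb : ∀ u : Q, u ∉ Subgroup.center Q → ∀ i j : Fin 5, (QuotientGroup.mk (κ i u) : Q ⧸ Subgroup.center Q) =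
      QuotientGroup.mk (κ j u) → i = j := by
    intro u hu
    suffices ∀ i j : Fin 5, (i : ℕ) < j → (QuotientGroup.mk (κ i u) : Q ⧸ Subgroup.center Q) ≠
        QuotientGroup.mk (κ j u) by
      intro i j h
      rcases lt_trichotomy (i : ℕ) j with h' | h' | h'
      · exact absurd h (this i j h')
      · exact Fin.ext h'
      · exact absurd h.symm (this j i h')
    intro i j hij h
    rw [QuotientGroup.eq] at h
    refine hu (hfix (k ^ ((j : ℕ) - i)) (K.pow_mem hkK _) (by rw [← pow_mul, mul_comm, pow_mul, hk5, one_pow]) ?_ u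
      ⟨(κ i u)⁻¹ * κ j u, h, ?_⟩)
    · refine pow_ne_one_of_lt_orderOf (by omega) ?_
      haveI : Fact (Nat.Prime 5) := ⟨by norm_num⟩
      rw [orderOf_eq_prime hk5 hk1]
      omega
    · have e : κ i (κ ((j : ℕ) - i) u) = κ i (u * ((κ i u)⁻¹ * κ j u)) := by
        rw [map_mul, hκcen _ _ h, mul_inv_cancel_left, hκadd]
        congr 2
        omega
      have hinj : Function.Injective (κ i) := fun a b e => Subtype.ext (by
        have := congrArg Subtype.val e
        rw [hκ, hκ] at this
        exact mul_left_cancel (mul_right_cancel this))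
      exact congrArg Subtype.val (hinj e)
  -- eleven involutions in `Q`
  set nI := Nat.card {w : G // IsConj z w ∧ w * z = z * w} with hnI
  have hsqrt : Nat.card {x : Q // x * x = 1} = nI + 1 := by
    rw [hnI, ← Finite.card_option]
    refine Nat.card_congr (Equiv.symm (Equiv.ofBijective
      (fun o => o.elim ⟨(1 : Q), one_mul 1⟩ fun w => ⟨⟨w.1, hzQ' _ w.2.1 w.2.2⟩,
        Subtype.ext (hord2.1 (hconj2 hz w.2.1)).1⟩) ⟨?_, ?_⟩))
    · rintro (_ | a) (_ | b) e <;> simp [Subtype.ext_iff] at e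
      · rfl
      · exact absurd e.symm (hord2.1 (hconj2 hz b.2.1)).2
      · exact absurd e (hord2.1 (hconj2 hz a.2.1)).2
      · exact congrArg some (Subtype.ext e)
    · rintro ⟨⟨x, hx⟩, h⟩
      by_cases h1 : x = 1
      · exact ⟨none, by simp [Subtype.ext_iff, h1]⟩
      · exact ⟨some ⟨x, hQz' x hx (hord2.2 ⟨congrArg Subtype.val h, h1⟩), (hmemC x).1 (hQC hx)⟩, rfl⟩
  let I := {x : Q // x * x = 1 ∧ x ∉ Subgroup.center Q}
  have hIcard : Nat.card I + 2 = Nat.card {x : Q // x * x = 1} := by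
    haveI := Fintype.ofFinite Q
    rw [Nat.card_eq_fintype_card, Nat.card_eq_fintype_card, Fintype.card_subtype, Fintype.card_subtype]
    have : (Finset.univ.filter fun x : Q => x * x = 1) =
        (Finset.univ.filter fun x : Q => x * x = 1 ∧ x ∉ Subgroup.center Q) ∪ {1, z'} := by
      ext x
      simp only [Finset.mem_filter, Finset.mem_univ, true_and, Finset.mem_union, Finset.mem_insert,
        Finset.mem_singleton, hcenz]
      constructor
      · intro h; tauto
      · rintro (⟨h, -⟩ | rfl | rfl)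
        exacts [h, one_mul 1, hz'2]
    rw [this, Finset.card_union_of_disjoint, Finset.card_pair hz'1.symm]
    rw [Finset.disjoint_left]
    intro x hx hx'
    simp only [Finset.mem_filter, Finset.mem_univ, true_and, hcenz] at hx
    simp only [Finset.mem_insert, Finset.mem_singleton] at hx'
    exact hx.2 hx'
  have h5I : 5 ∣ Nat.card I := by
    let σ : Equiv.Perm I :=
      { toFun := fun x => ⟨κ 1 x.1, by rw [← map_mul, x.2.1, map_one], fun h => x.2.2 (by
          have h' := hκcen 4 _ h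
          rw [hκadd, show 4 + 1 = 0 + 5 by rfl, hκ5] at h'
          have e0 : κ 0 x.1 = x.1 := Subtype.ext (by rw [hκ]; simp)
          rwa [← e0, h'])⟩
        invFun := fun x => ⟨κ 4 x.1, by rw [← map_mul, x.2.1, map_one], fun h => x.2.2 (by
          have h' := hκcen 1 _ h
          rw [hκadd, show 1 + 4 = 0 + 5 by rfl, hκ5] at h'
          have e0 : κ 0 x.1 = x.1 := Subtype.ext (by rw [hκ]; simp)
          rwa [← e0, h'])⟩
        left_inv := fun x => Subtype.ext (by
          show κ 4 (κ 1 x.1) = x.1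
          rw [hκadd, show 4 + 1 = 0 + 5 by rfl, hκ5]
          exact Subtype.ext (by rw [hκ]; simp))
        right_inv := fun x => Subtype.ext (by
          show κ 1 (κ 4 x.1) = x.1
          rw [hκadd, show 1 + 4 = 0 + 5 by rfl, hκ5]
          exact Subtype.ext (by rw [hκ]; simp)) }
    haveI := Fintype.ofFinite I
    have hnf : σ.support = Finset.univ := by
      refine Finset.eq_univ_iff_forall.2 fun x => Equiv.Perm.mem_support.2 fun h => ?_
      exact x.2.2 (hfix k hkK hk5 hk1 x.1 ⟨1, one_mem _, by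
        have h' : ((κ 1 x.1 : Q) : G) = x.1 := congrArg (fun y : I => ((y.1 : Q) : G)) h
        rw [hκ, pow_one] at h'
        rw [h']; simp⟩)
    have hpow : ∀ n (x : I), ((σ ^ n) x).1 = κ n x.1 := by
      intro n x
      induction n with
      | zero => exact Subtype.ext (by rw [hκ]; simp)
      | succ n ih =>
        rw [pow_succ', Equiv.Perm.mul_apply]
        show κ 1 ((σ ^ n) x).1 = _
        rw [ih, hκadd, Nat.add_comm]
    have h5 : σ ^ 5 = 1 := Equiv.ext fun x => Subtype.ext (by
      rw [hpow, show 5 = 0 + 5 by rfl, hκ5]; exact Subtype.ext (by rw [hκ]; simp))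
    rw [Nat.card_eq_fintype_card, ← Finset.card_univ, ← hnf]
    rcases eq_or_ne σ 1 with h | h
    · simp [h]
    haveI : Fact (Nat.Prime 5) := ⟨by norm_num⟩
    have ho := orderOf_eq_prime h5 h
    obtain ⟨n, hn⟩ := Equiv.Perm.cycleType_prime_order (σ := σ) (by rw [ho]; norm_num)
    rw [← Equiv.Perm.sum_cycleType, hn, Multiset.sum_replicate, ho]
    exact Dvd.intro_left _ rfl
  have hI10 : Nat.card I = 10 := by
    rcases sqrt_one_count hQ32 z' hz'1 hz'2 hcenz hsq hcom with h | h <;> omega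
  have hnI11 : nI = 11 := by omega
  -- no elementary abelian subgroup of order eight in `Q`
  have hno8 : ∀ u w : Q, u * u = 1 → w * w = 1 → u * w = w * u → u ∉ Subgroup.center Q → w ∉ Subgroup.center Q →
      u * w ∉ Subgroup.center Q → False := by
    intro u w hu hw huw huc hwc huwc
    let o : Fin 5 → Q ⧸ Subgroup.center Q := fun i => QuotientGroup.mk (κ i u)
    have hoi : Function.Injective o := fun i j h => horb u huc i j h
    have hcover : ∀ x : Q, x * x = 1 → x ∉ Subgroup.center Q → ∃ i, o i = QuotientGroup.mk x := by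
      have hκI : ∀ (i : Fin 5) (c : Subgroup.center Q), κ i u * c.1 * (κ i u * c.1) = 1 ∧
          κ i u * c.1 ∉ Subgroup.center Q := by
        intro i c
        constructor
        · have hc2 : (c.1 : Q) * c.1 = 1 := by
            rcases (hcenz c.1).1 c.2 with h | h <;> rw [h]
            exacts [one_mul 1, hz'2]
          rw [mul_assoc, ← mul_assoc c.1, ← Subgroup.mem_center_iff.1 c.2 (κ i u), mul_assoc, hc2, mul_one,
            ← map_mul, hu, map_one]
        · intro h
          have h' : κ i u ∈ Subgroup.center Q := (Subgroup.mul_mem_cancel_right _ c.2).1 h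
          have h2 := hκcen (5 - i) _ h'
          rw [hκadd, show 5 - (i : ℕ) + i = 0 + 5 by omega, hκ5] at h2
          have e0 : κ 0 u = u := Subtype.ext (by rw [hκ]; simp)
          exact huc (by rw [← e0, h2]; exact h')
      have hb : Function.Bijective (fun p : Fin 5 × Subgroup.center Q => (⟨κ p.1 u * p.2.1, hκI p.1 p.2⟩ : I)) := by
        rw [Nat.bijective_iff_injective_and_card]
        refine ⟨fun p q h => ?_, by rw [Nat.card_prod, Nat.card_fin, hcenQ, hI10]⟩
        have h' : κ p.1 u * p.2.1 = κ q.1 u * q.2.1 := congrArg Subtype.val h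
        have h1 : o p.1 = o q.1 := by
          have := congrArg (fun y : Q => (QuotientGroup.mk y : Q ⧸ Subgroup.center Q)) h'
          simp only [QuotientGroup.mk_mul, (QuotientGroup.eq_one_iff _).2 p.2.2, (QuotientGroup.eq_one_iff _).2 q.2.2,
            mul_one] at this
          exact this
        have h2 := hoi h1
        rw [h2] at h'
        exact Prod.ext h2 (Subtype.ext (mul_left_cancel h'))
      intro x hx hxc
      obtain ⟨p, hp⟩ := hb.2 ⟨x, hx, hxc⟩
      refine ⟨p.1, ?_⟩
      rw [← show κ p.1 u * p.2.1 = x from congrArg Subtype.val hp, QuotientGroup.mk_mul,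
        (QuotientGroup.eq_one_iff _).2 p.2.2, mul_one]
    have ho0 : o 0 = QuotientGroup.mk u := congrArg _ (Subtype.ext (by rw [hκ]; simp))
    obtain ⟨i, hi⟩ := hcover w hw hwc
    obtain ⟨j, hj⟩ := hcover (u * w) (by rw [mul_assoc, ← mul_assoc w, ← huw, mul_assoc u, hw, mul_one, hu]) huwc
    have hrel : o 0 * o i = o j := by rw [ho0, hi, hj, QuotientGroup.mk_mul]
    have hi0 : i ≠ 0 := fun e => by
      rw [e, ho0, QuotientGroup.eq] at hi
      exact huwc (by rwa [inv_eq_of_mul_eq_one_right hu] at hi)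
    have hj0 : j ≠ 0 := fun e => by
      subst e
      rw [mul_eq_left, hi, QuotientGroup.eq_one_iff] at hrel
      exact hwc hrel
    have hij : i ≠ j := fun e => by
      subst e
      rw [mul_eq_right, ho0, QuotientGroup.eq_one_iff] at hrel
      exact huc hrel
    have hexp : ∀ y : Q ⧸ Subgroup.center Q, y * y = 1 := fun y => by
      obtain ⟨y, rfl⟩ := QuotientGroup.mk_surjective y
      rw [← QuotientGroup.mk_mul, QuotientGroup.eq_one_iff]
      exact (hcenz _).2 (hsq y)
    have hprod : ∏ l, o l = 1 := by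
      set q : Q := κ 0 u * κ 1 u * κ 2 u * κ 3 u * κ 4 u with hq
      have hP : ∏ l, o l = QuotientGroup.mk q := by
        rw [Fin.prod_univ_five, hq]; rfl
      rw [hP, QuotientGroup.eq_one_iff]
      refine hfix k hkK hk5 hk1 q ⟨q⁻¹ * κ 1 q, ?_, ?_⟩
      · rw [← QuotientGroup.eq, hq]
        simp only [map_mul, hκadd, QuotientGroup.mk_mul]
        rw [show κ (1 + 4) u = κ 0 u from hκ5 0 u]
        simp only [show (1 + 0 : ℕ) = 1 from rfl, show (1 + 1 : ℕ) = 2 from rfl, show (1 + 2 : ℕ) = 3 from rfl,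
          show (1 + 3 : ℕ) = 4 from rfl]
        generalize (QuotientGroup.mk (κ 0 u) : Q ⧸ Subgroup.center Q) = a0
        generalize (QuotientGroup.mk (κ 1 u) : Q ⧸ Subgroup.center Q) = a1
        generalize (QuotientGroup.mk (κ 2 u) : Q ⧸ Subgroup.center Q) = a2
        generalize (QuotientGroup.mk (κ 3 u) : Q ⧸ Subgroup.center Q) = a3
        generalize (QuotientGroup.mk (κ 4 u) : Q ⧸ Subgroup.center Q) = a4
        rw [mul_comm (a1 * a2 * a3 * a4) a0]
        simp only [mul_assoc]
      · show k * ((q : Q) : G) * k⁻¹ = (q : G) * ((q : G)⁻¹ * ((κ 1 q : Q) : G))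
        rw [mul_inv_cancel_left, hκ, pow_one]
    have h3 : ({0, i, j} : Finset (Fin 5)).card = 3 := by
      rw [Finset.card_insert_of_notMem (by simp [hi0.symm, hj0.symm]), Finset.card_pair hij]
    have h2 : ({0, i, j} : Finset (Fin 5))ᶜ.card = 2 := by rw [Finset.card_compl, h3]; rfl
    obtain ⟨a, b, hab, hcompl⟩ := Finset.card_eq_two.1 h2
    rw [← Finset.prod_mul_prod_compl ({0, i, j} : Finset (Fin 5)), hcompl,
      Finset.prod_insert (by simp [hi0.symm, hj0.symm]), Finset.prod_pair hij, Finset.prod_pair hab,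
      ← mul_assoc (o 0) (o i) (o j), hrel, hexp, one_mul] at hprod
    exact hab (hoi ((eq_inv_of_mul_eq_one_left hprod).trans (inv_eq_of_mul_eq_one_right (hexp _))))
  -- the pairs for `t`
  have hat : Nat.card {p : G × G // IsConj z p.1 ∧ IsConj t p.2 ∧ t ∈ Subgroup.zpowers (p.1 * p.2)} = 195 := by
    rw [← a5_odd]
    have key : ∀ u v : G, IsConj z u → IsConj t v → t ∈ Subgroup.zpowers (u * v) →
        u ∈ B ∧ ∃ b ∈ B, v = t * b ∧ b * b = 1 ∧ (u * b) ^ 15 = 1 := by
      intro u v hu hv hmem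
      obtain ⟨n, hn⟩ := Subgroup.mem_zpowers_iff.1 hmem
      have hu1 := (hord2.1 (hconj2 hz hu)).1
      have hv1 := (hord2.1 (hconj2 ht hv)).1
      have hut : u * t = t * u := by
        have e : u * (u * v) * u⁻¹ = (u * v)⁻¹ := by
          rw [mul_inv_rev, inv_eq_of_mul_eq_one_right hv1, inv_eq_of_mul_eq_one_right hu1, ← mul_assoc, hu1, one_mul]
        have e2 : u * t * u⁻¹ = t⁻¹ := by rw [← hn, ← conj_zpow, e, inv_zpow]
        rwa [inv_eq_of_mul_eq_one_right (hord2.1 ht).1, mul_inv_eq_iff_eq_mul] at e2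
      have hvt : v * t = t * v := by
        have e : (u * v) * t = t * (u * v) := by rw [← hn]; exact ((Commute.refl (u * v)).zpow_right n).eq
        rw [← mul_assoc, ← hut, mul_assoc, mul_assoc] at e
        exact mul_left_cancel e
      have huB := hzB u hu hut
      obtain ⟨a, ha, b, hb, rfl⟩ := hdec v (Subgroup.mem_centralizer_singleton_iff.2 hvt)
      have hc : Commute a (u * b) := hVBc a ha _ (B.mul_mem huB hb)
      have e : u * (a * b) = a * (u * b) := by rw [← mul_assoc, ← hVBc a ha u huB, mul_assoc]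
      rw [e, hc.mul_zpow] at hn
      have h1 : (u * b) ^ n = 1 ∧ a ^ n = t := by
        have h2 : (u * b) ^ n = (a ^ n)⁻¹ * t := by rw [← hn, inv_mul_cancel_left]
        have h3 : (u * b) ^ n ∈ V ⊓ B :=
          ⟨h2 ▸ V.mul_mem (V.inv_mem (V.zpow_mem ha n)) htV, B.zpow_mem (B.mul_mem huB hb) n⟩
        rw [hVBi, Subgroup.mem_bot] at h3
        exact ⟨h3, by rwa [h3, mul_one] at hn⟩
      have ha2 : a * a = 1 := by rw [← sq]; exact hV2 a ha
      obtain ⟨m, rfl | rfl⟩ := Int.even_or_odd' n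
      · exfalso
        obtain ⟨-, h1⟩ := h1
        rw [zpow_mul, zpow_two, ha2, one_zpow] at h1
        exact (hord2.1 ht).2 h1.symm
      obtain ⟨h1, h1a⟩ := h1
      rw [zpow_add, zpow_mul, zpow_two, ha2, one_zpow, zpow_one, one_mul] at h1a
      subst h1a
      refine ⟨huB, b, hb, rfl, ?_, ?_⟩
      · have : a * b * (a * b) = (a * a) * (b * b) :=
          Commute.mul_mul_mul_comm (show Commute b a from (hVBc a ha b hb).symm) a b
        rwa [this, ha2, one_mul] at hv1
      · obtain ⟨g, hg⟩ : ∃ g, g = eB ⟨u * b, B.mul_mem huB hb⟩ := ⟨_, rfl⟩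
        have hgn : g ^ (2 * m + 1) = 1 := by
          rw [hg, ← map_zpow, show (⟨u * b, B.mul_mem huB hb⟩ : B) ^ (2 * m + 1) = 1 from Subtype.ext (by simpa using h1),
            map_one]
        have hg15 : g ^ 15 = 1 := by
          rcases a5_order g with h | h | h
          · rw [zpow_add, zpow_mul, zpow_ofNat, h, one_zpow, one_mul, zpow_one] at hgn
            rw [hgn, one_pow]
          · rw [show 15 = 3 * 5 by rfl, pow_mul, h, one_pow]
          · rw [show 15 = 5 * 3 by rfl, pow_mul, h, one_pow]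
        rw [hg, ← map_pow, EmbeddingLike.map_eq_one_iff] at hg15
        simpa using congrArg Subtype.val hg15
    choose! hu b hb hv hb2 h15 using key
    refine Nat.card_congr
      { toFun := fun p => ⟨(eB ⟨p.1.1, hu _ _ p.2.1 p.2.2.1 p.2.2.2⟩,
            eB ⟨b p.1.1 p.1.2, hb _ _ p.2.1 p.2.2.1 p.2.2.2⟩), (eBinv _).1 (hord2.1 (hconj2 hz p.2.1)),
            by rw [← map_pow, EmbeddingLike.map_eq_one_iff, sq]; exact Subtype.ext (hb2 _ _ p.2.1 p.2.2.1 p.2.2.2),
            by rw [← map_mul, ← map_pow, EmbeddingLike.map_eq_one_iff]; exact Subtype.ext (by simpa using h15 _ _ p.2.1 p.2.2.1 p.2.2.2)⟩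
        invFun := fun x => ⟨(((eB.symm x.1.1 : B) : G), t * ((eB.symm x.1.2 : B) : G)),
          (hBz _ (eB.symm x.1.1).2 (hord2.2 ((eBinv _).2 (by rw [eB.apply_symm_apply]; exact x.2.1)))).symm, ?_, ?_⟩
        left_inv := ?_
        right_inv := ?_ }
    · set b' := eB.symm x.1.2 with hb'
      have hb2 : (b' : G) * b' = 1 := by
        rw [← Subgroup.coe_mul, hb', ← map_mul, ← sq, x.2.2.1, map_one]; rfl
      have htb : t * (b' : G) * (t * b') = 1 := by
        rw [mul_assoc, ← mul_assoc (b' : G), hBt _ b'.2, mul_assoc t, hb2, mul_one]; exact (hord2.1 ht).1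
      have hnB : t * (b' : G) ∉ B := fun h => by
        have : t ∈ V ⊓ B := ⟨htV, (Subgroup.mul_mem_cancel_right B b'.2).1 h⟩
        rw [hVBi, Subgroup.mem_bot] at this
        exact (hord2.1 ht).2 this
      refine (hCt _ (mul_mem (hVC htV) (hBC b'.2)) (hord2.2 ⟨htb, fun e => hnB (e ▸ B.one_mem)⟩) hnB).symm
    · set u' := eB.symm x.1.1
      set b' := eB.symm x.1.2
      refine Subgroup.mem_zpowers_iff.2 ⟨15, ?_⟩
      have hc : Commute t ((u' : G) * b') := (hBt _ (B.mul_mem u'.2 b'.2)).symm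
      show ((u' : G) * (t * b')) ^ (15 : ℤ) = t
      rw [← mul_assoc, hBt _ u'.2, mul_assoc, zpow_ofNat, hc.mul_pow]
      have h15' : ((u' : G) * b') ^ 15 = 1 := by
        rw [← Subgroup.coe_mul, ← Subgroup.coe_pow, ← map_mul, ← map_pow, x.2.2.2, map_one]; rfl
      rw [h15', mul_one, show (15 : ℕ) = 2 * 7 + 1 by rfl, pow_succ, pow_mul, sq, (hord2.1 ht).1, one_pow, one_mul]
    · intro p
      refine Subtype.ext (Prod.ext (by simp) ?_)
      simp only [MulEquiv.symm_apply_apply]
      exact (hv _ _ p.2.1 p.2.2.1 p.2.2.2).symm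
    · intro x
      refine Subtype.ext (Prod.ext (by simp) ?_)
      apply eB.symm.injective
      rw [eB.symm_apply_apply]
      apply Subtype.ext
      set u' := eB.symm x.1.1
      set b' := eB.symm x.1.2
      have hpf := hv (u' : G) (t * b')
      dsimp only
      refine mul_left_cancel (a := t) (hpf ?_ ?_ ?_).symm
      all_goals first
        | exact (hBz _ u'.2 (hord2.2 ((eBinv _).2 (by rw [eB.apply_symm_apply]; exact x.2.1)))).symm
        | skip
      · have hb2 : (b' : G) * b' = 1 := by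
          rw [← Subgroup.coe_mul, ← map_mul, ← sq, x.2.2.1, map_one]; rfl
        have htb : t * (b' : G) * (t * b') = 1 := by
          rw [mul_assoc, ← mul_assoc (b' : G), hBt _ b'.2, mul_assoc t, hb2, mul_one]; exact (hord2.1 ht).1
        have hnB : t * (b' : G) ∉ B := fun h => by
          have : t ∈ V ⊓ B := ⟨htV, (Subgroup.mul_mem_cancel_right B b'.2).1 h⟩
          rw [hVBi, Subgroup.mem_bot] at this
          exact (hord2.1 ht).2 this
        exact (hCt _ (mul_mem (hVC htV) (hBC b'.2)) (hord2.2 ⟨htb, fun e => hnB (e ▸ B.one_mem)⟩) hnB).symm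
      · refine Subgroup.mem_zpowers_iff.2 ⟨15, ?_⟩
        have hc : Commute t ((u' : G) * b') := (hBt _ (B.mul_mem u'.2 b'.2)).symm
        rw [← mul_assoc, hBt _ u'.2, mul_assoc, zpow_ofNat, hc.mul_pow]
        have h15' : ((u' : G) * b') ^ 15 = 1 := by
          rw [← Subgroup.coe_mul, ← Subgroup.coe_pow, ← map_mul, ← map_pow, x.2.2.2, map_one]; rfl
        rw [h15', mul_one, show (15 : ℕ) = 2 * 7 + 1 by rfl, pow_succ, pow_mul, sq, (hord2.1 ht).1, one_pow, one_mul]
  -- the pairs for `z`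
  have haz : Nat.card {p : G × G // IsConj z p.1 ∧ IsConj t p.2 ∧ z ∈ Subgroup.zpowers (p.1 * p.2)} = 960 := by
    have hiff : ∀ u v : G, IsConj z u → IsConj t v → (z ∈ Subgroup.zpowers (u * v) ↔
        u * z = z * u ∧ v * z = z * v ∧ u * v ≠ v * u) := by
      intro u v hu hv
      have hu1 := (hord2.1 (hconj2 hz hu)).1
      have hv1 := (hord2.1 (hconj2 ht hv)).1
      constructor
      · intro hmem
        obtain ⟨n, hn⟩ := Subgroup.mem_zpowers_iff.1 hmem
        have huz : u * z = z * u := by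
          have e : u * (u * v) * u⁻¹ = (u * v)⁻¹ := by
            rw [mul_inv_rev, inv_eq_of_mul_eq_one_right hv1, inv_eq_of_mul_eq_one_right hu1, ← mul_assoc, hu1, one_mul]
          have e2 : u * z * u⁻¹ = z⁻¹ := by rw [← hn, ← conj_zpow, e, inv_zpow]
          rwa [inv_eq_of_mul_eq_one_right hzz, mul_inv_eq_iff_eq_mul] at e2
        have hvz : v * z = z * v := by
          have e : (u * v) * z = z * (u * v) := by rw [← hn]; exact ((Commute.refl (u * v)).zpow_right n).eq
          rw [← mul_assoc, ← huz, mul_assoc, mul_assoc] at e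
          exact mul_left_cancel e
        refine ⟨huz, hvz, fun huv => ?_⟩
        have h2 : u * v * (u * v) = 1 := by
          rw [mul_assoc, ← mul_assoc v, ← huv, mul_assoc u v v, hv1, mul_one, hu1]
        have hzuv : u * v = z := by
          obtain ⟨m, rfl | rfl⟩ := Int.even_or_odd' n
          · rw [zpow_mul, zpow_two, h2, one_zpow] at hn
            exact absurd hn.symm (hord2.1 hz).2
          · rwa [zpow_add, zpow_mul, zpow_two, h2, one_zpow, zpow_one, one_mul] at hn
        have hvQ : v ∈ Q := by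
          rw [show v = u⁻¹ * z by rw [← hzuv, inv_mul_cancel_left]]
          exact Q.mul_mem (Q.inv_mem (hzQ' u hu huz)) hzQ
        exact hzt ((hQz' v hvQ (hconj2 ht hv)).trans hv.symm)
      · rintro ⟨huz, hvz, huv⟩
        have huQ := hzQ' u hu huz
        have hu'Q : v * u * v⁻¹ ∈ Q := hQn v ((hmemC v).2 hvz) u huQ
        let U : Q := ⟨u, huQ⟩
        let U' : Q := ⟨v * u * v⁻¹, hu'Q⟩
        have hU : U * U = 1 := Subtype.ext hu1
        have hU' : U' * U' = 1 := Subtype.ext (show v * u * v⁻¹ * (v * u * v⁻¹) = 1 by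
          rw [show v * u * v⁻¹ * (v * u * v⁻¹) = v * (u * u) * v⁻¹ by group, hu1]; group)
        have hw : ((U * U' : Q) : G) = (u * v) ^ 2 := by
          show u * (v * u * v⁻¹) = _
          rw [inv_eq_of_mul_eq_one_right hv1, sq]; group
        have hUc : U ∉ Subgroup.center Q := fun h => by
          rcases (hcenz U).1 h with e | e
          · exact (hord2.1 (hconj2 hz hu)).2 (congrArg Subtype.val e)
          · have : u = z := congrArg Subtype.val e
            exact huv (by rw [this, hvz])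
        have hU'U : U' ≠ U := fun e => huv (by
          have : v * u * v⁻¹ = u := congrArg Subtype.val e
          rw [mul_inv_eq_iff_eq_mul] at this
          exact this.symm)
        have h4 : U * U' = z' ∨ U * U' * (U * U') = z' := by
          by_cases hc : U * U' = U' * U
          · left
            have h11 : U * U' * (U * U') = 1 := by
              rw [mul_assoc, ← mul_assoc U', ← hc, mul_assoc U U' U', hU', mul_one, hU]
            by_contra hne
            have hne1 : U * U' ≠ 1 := fun e => hU'U (by rw [eq_inv_of_mul_eq_one_right e, inv_eq_of_mul_eq_one_right hU])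
            refine hno8 U (U * U') hU h11 (by rw [← mul_assoc, hU, one_mul, mul_assoc, ← hc, ← mul_assoc, hU, one_mul])
              hUc (fun h => ((hcenz _).1 h).elim hne1 hne) ?_
            rw [← mul_assoc, hU, one_mul]
            intro h
            rcases (hcenz U').1 h with e | e
            · have : v * u * v⁻¹ = 1 := congrArg Subtype.val e
              rw [conj_eq_one_iff] at this
              exact (hord2.1 (hconj2 hz hu)).2 this
            · have : v * u * v⁻¹ = z := congrArg Subtype.val e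
              rw [mul_inv_eq_iff_eq_mul, ← hvz] at this
              exact hUc ((hcenz U).2 (Or.inr (Subtype.ext (mul_left_cancel this))))
          · right
            have h' := (hcom U U').resolve_left (fun e => hc e.symm)
            calc U * U' * (U * U') = U * (U' * U) * U' := by group
              _ = U * (z' * (U * U')) * U' := by rw [h']
              _ = (U * z') * (U * (U' * U')) := by group
              _ = (z' * U) * (U * (U' * U')) := by rw [Subgroup.mem_center_iff.1 ((hcenz z').2 (Or.inr rfl)) U]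
              _ = z' := by rw [hU', mul_one, mul_assoc, hU, mul_one]
        rcases h4 with h4 | h4
        · refine Subgroup.mem_zpowers_iff.2 ⟨2, ?_⟩
          rw [zpow_ofNat, ← hw, h4]
        · refine Subgroup.mem_zpowers_iff.2 ⟨4, ?_⟩
          rw [zpow_ofNat, show (4 : ℕ) = 2 * 2 by rfl, pow_mul, ← hw, sq, ← Subgroup.coe_mul, h4]
    let S := {p : G × G // IsConj z p.1 ∧ IsConj t p.2 ∧ p.1 * z = z * p.1 ∧ p.2 * z = z * p.2}
    have hS : Nat.card S = 11 * 120 := by
      rw [← hnI11, ← hN, hnI, ← Nat.card_prod]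
      exact Nat.card_congr
        { toFun := fun p => (⟨p.1.1, p.2.1, p.2.2.2.1⟩, ⟨p.1.2, p.2.2.1, p.2.2.2.2⟩)
          invFun := fun q => ⟨(q.1.1, q.2.1), q.1.2.1, q.2.2.1, q.1.2.2, q.2.2.2⟩
          left_inv := fun p => rfl
          right_inv := fun q => rfl }
    have hsplit : Nat.card {p : S // p.1.1 * p.1.2 = p.1.2 * p.1.1} = 120 + 240 := by
      rw [← hN, ← hM, ← Nat.card_sum]
      refine Nat.card_congr
        { toFun := fun p => if h : p.1.1.1 = z then Sum.inl ⟨p.1.1.2, p.1.2.2.1, p.1.2.2.2.2⟩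
            else Sum.inr ⟨p.1.1, p.1.2.1, h, p.1.2.2.1, p.1.2.2.2.1, p.1.2.2.2.2, p.2⟩
          invFun := fun s => s.elim (fun w => ⟨⟨(z, w.1), IsConj.refl z, w.2.1, rfl, w.2.2⟩, w.2.2.symm⟩)
            (fun q => ⟨⟨q.1, q.2.1, q.2.2.2.1, q.2.2.2.2.1, q.2.2.2.2.2.1⟩, q.2.2.2.2.2.2⟩)
          left_inv := ?_
          right_inv := ?_ }
      · intro p
        dsimp only
        split_ifs with h
        · exact Subtype.ext (Subtype.ext (Prod.ext h.symm rfl))
        · rfl
      · rintro (w | q)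
        · simp
        · simp [q.2.2.1]
    have hsum : Nat.card {p : S // p.1.1 * p.1.2 = p.1.2 * p.1.1} + Nat.card {p : S // ¬ p.1.1 * p.1.2 = p.1.2 * p.1.1} =
        Nat.card S := by
      rw [← Nat.card_sum]
      exact Nat.card_congr (Equiv.sumCompl _)
    have heq : Nat.card {p : G × G // IsConj z p.1 ∧ IsConj t p.2 ∧ z ∈ Subgroup.zpowers (p.1 * p.2)} =
        Nat.card {p : S // ¬ p.1.1 * p.1.2 = p.1.2 * p.1.1} :=
      Nat.card_congr
        { toFun := fun p => ⟨⟨p.1, p.2.1, p.2.2.1, ((hiff _ _ p.2.1 p.2.2.1).1 p.2.2.2).1,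
            ((hiff _ _ p.2.1 p.2.2.1).1 p.2.2.2).2.1⟩, ((hiff _ _ p.2.1 p.2.2.1).1 p.2.2.2).2.2⟩
          invFun := fun s => ⟨s.1.1, s.1.2.1, s.1.2.2.1,
            (hiff _ _ s.1.2.1 s.1.2.2.1).2 ⟨s.1.2.2.2.1, s.1.2.2.2.2, s.2⟩⟩
          left_inv := fun p => rfl
          right_inv := fun s => rfl }
    omega
  have key := Cfsg.Agent.S0213.result z t hz ht hzt fun w hw =>
    (hcl w hw).imp IsConj.symm IsConj.symm
  rw [haz, hat, hCt240, ← hCdef, hC1920] at key
  rw [key]

end Cfsg.Agent.S3313
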