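import Cfsg.Statements.S3315
import Cfsg.Agent.Lib.UnitaryInvolutionCoords
-- import your own Cfsg.Agent.* helpers here

set_option autoImplicit false
open Cfsg

namespace Cfsg.Agent.S3315

/-- Let S be a Sylow 2-subgroup of SU₃(2ⁿ), n ≥ 2 (realised over the field with 4ⁿ elements). If a finite 2-group R contains a subgroup S' of index 2 isomorphic to S, then the centre of S' is contained in the centre of R. -/
theorem result {R : Type*} [Group R] [Finite R]
    (hR : IsPGroup 2 R) (n : ℕ) (hn : 2 ≤ n) {F : Type*} [Field F] [Fintype F] (hF : Fintype.card F = 4 ^ n)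
    (P : Sylow 2 ↥(Cfsg.SU 3 F (2 ^ n))) (S' : Subgroup R) (hS : Nonempty (↥S' ≃* ↥(P : Subgroup ↥(Cfsg.SU 3 F (2 ^ n)))))
    (hidx : S'.index = 2) :
    (Subgroup.center ↥S').map S'.subtype ≤ Subgroup.center R := by
  classical
  haveI : Fact (Nat.Prime 2) := ⟨Nat.prime_two⟩
  have hF' : Fintype.card F = (2 ^ n) ^ 2 := by rw [hF, ← pow_mul, mul_comm, pow_mul]; norm_num
  let π := QuotientGroup.mk' (Subgroup.center ↥(Cfsg.SU 3 F (2 ^ n)))
  have hπs : Function.Surjective π := QuotientGroup.mk'_surjective _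
  let U : Sylow 2 (Cfsg.PSU 3 F (2 ^ n)) := P.mapSurjective hπs
  -- the centre has odd order
  have hodd : (Nat.card (Subgroup.center ↥(Cfsg.SU 3 F (2 ^ n)))).Coprime 2 := by
    rw [Cfsg.Agent.S0280.center_card hF' 3 (by norm_num)]
    exact Nat.Coprime.coprime_dvd_left (Nat.gcd_dvd_left _ _) (by norm_num)
  have hinjP : Function.Injective (π.comp (P : Subgroup ↥(Cfsg.SU 3 F (2 ^ n))).subtype) := by
    intro a b h
    have h1 : (a : ↥(Cfsg.SU 3 F (2 ^ n)))⁻¹ * b ∈ Subgroup.center _ := QuotientGroup.eq.mp h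
    obtain ⟨k, hk⟩ := IsPGroup.iff_orderOf.mp P.2 (a⁻¹ * b)
    have h2 : a⁻¹ * b = 1 := by
      rw [← orderOf_eq_one_iff]
      refine Nat.eq_one_of_dvd_coprimes (hodd.pow_right k) ?_ hk.dvd
      rw [← Subgroup.orderOf_coe]
      exact Subgroup.orderOf_dvd_natCard _ h1
    exact inv_mul_eq_one.mp h2
  have hrng : (π.comp (P : Subgroup ↥(Cfsg.SU 3 F (2 ^ n))).subtype).range = (U : Subgroup (Cfsg.PSU 3 F (2 ^ n))) := by
    rw [MonoidHom.range_comp, Subgroup.range_subtype]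
    rfl
  let eP : ↥(P : Subgroup ↥(Cfsg.SU 3 F (2 ^ n))) ≃* ↥(U : Subgroup (Cfsg.PSU 3 F (2 ^ n))) :=
    (MonoidHom.ofInjective hinjP).trans (MulEquiv.subgroupCongr hrng)
  obtain ⟨σ, κ, hchar, hσ, hinv, hmoved, htr, hinj, hmul, hrange⟩ :=
    CfsgLib.UnitaryInvolution.exists_coords hn hF' U
  haveI := hchar
  obtain ⟨e₀⟩ := hS
  let e : ↥S' ≃* ↥(U : Subgroup (Cfsg.PSU 3 F (2 ^ n))) := e₀.trans eP
  haveI : S'.Normal := Subgroup.normal_of_index_eq_two hidx
  rintro _ ⟨z, hz, rfl⟩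
  refine Subgroup.mem_center_iff.mpr fun r => ?_
  suffices h : MulAut.conjNormal r z = z by
    exact mul_inv_eq_iff_eq_mul.mp (congrArg Subtype.val h)
  by_cases hr : r ∈ S'
  · refine Subtype.ext ?_
    show r * (z : R) * r⁻¹ = z
    exact mul_inv_eq_iff_eq_mul.mpr (congrArg Subtype.val (Subgroup.mem_center_iff.mp hz ⟨r, hr⟩))
  · have hrr : r * r ∈ S' := Subgroup.mul_self_mem_of_index_two hidx r
    let α : MulAut ↥(U : Subgroup (Cfsg.PSU 3 F (2 ^ n))) := MulAut.congr e (MulAut.conjNormal r)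
    have hα : ∀ u : ↥S', α (e u) = e (MulAut.conjNormal r u) := fun u => by simp [α, MulAut.congr]
    have hαα : ∀ x, α (α x) = e ⟨r * r, hrr⟩ * x * (e ⟨r * r, hrr⟩)⁻¹ := fun x => by
      obtain ⟨u, rfl⟩ := e.surjective x
      rw [hα, hα, ← map_inv, ← map_mul, ← map_mul]
      refine congrArg e (Subtype.ext ?_)
      simp only [MulAut.conjNormal_apply, Subgroup.coe_mul, Subgroup.coe_inv, mul_inv_rev, mul_assoc]
    have hze : e z ∈ Subgroup.center ↥(U : Subgroup (Cfsg.PSU 3 F (2 ^ n))) := Subgroup.mem_center_iff.mpr fun u => by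
      obtain ⟨v, rfl⟩ := e.surjective u
      rw [← map_mul, ← map_mul, Subgroup.mem_center_iff.mp hz v]
    have := CfsgLib.UnitaryInvolution.central_of_index_two (W := ↥(U : Subgroup (Cfsg.PSU 3 F (2 ^ n)))) σ (2 ^ n) hF' hσ hinv hmoved htr κ hinj hmul hrange
      α _ hαα (e z) hze
    rw [hα] at this
    exact e.injective this

end Cfsg.Agent.S3315
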