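import Cfsg.Statements.S3330
import Cfsg.Agent.Lib.S8ThreeLocal.AMain
import Cfsg.Agent.Lib.S8ThreeLocal.BMain

set_option autoImplicit false
open Cfsg

namespace Cfsg.Agent.S3330

/-- A 3-local characterization of the symmetric group of degree 8, with one exceptional configuration. Let G be a finite group whose Sylow 3-subgroup D is elementary abelian of order 9, generated by y and z, and suppose: (i) C_G(D) has order 18, N_G(D)/D is isomorphic to the direct product of a dihedral group of order 8 and a group of order 2, and N_G(D)/C_G(D) is dihedral of order 8; (ii) D is normal in C_G(y), C_G(y) has order 36 with every square lying in D, D is normal in N_G(⟨y⟩), and N_G(⟨y⟩) has order 72 with every square lying in D; (iii) C_G(z) is isomorphic to the direct product of a cyclic group of order 3 and Sym(5), and N_G(⟨z⟩) is isomorphic to Sym(3) × Sym(5). Then either G is isomorphic to the symmetric group of degree 8, or the generalized Fitting subgroup of G is a minimal normal subgroup isomorphic to Alt(5) × Alt(5) of index 4 with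 every square of G lying in it. -/
theorem result {G : Type*} [Group G] [Finite G]
    (P : Sylow 3 G) (D : Subgroup G) (hDP : D = P) (y z : G) (hgen : Subgroup.closure {y, z} = D)
    (hcomm : IsMulCommutative D) (hcard : Nat.card D = 9) (hexp : ∀ a ∈ D, a ^ 3 = 1)
    (hC : Nat.card (Subgroup.centralizer (D : Set G)) = 18)
    (eN : Subgroup.normalizer (D : Set G) ⧸ D.subgroupOf (Subgroup.normalizer (D : Set G)) ≃* DihedralGroup 4 × Multiplicative (ZMod 2))
    [hcn : ((Subgroup.centralizer (D : Set G)).subgroupOf (Subgroup.normalizer (D : Set G))).Normal]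
    (eNC : Subgroup.normalizer (D : Set G) ⧸ (Subgroup.centralizer (D : Set G)).subgroupOf (Subgroup.normalizer (D : Set G)) ≃* DihedralGroup 4)
    (hyn : (D.subgroupOf (Subgroup.centralizer ({y} : Set G))).Normal)
    (hycard : Nat.card (Subgroup.centralizer ({y} : Set G)) = 36)
    (hysq : ∀ g ∈ Subgroup.centralizer ({y} : Set G), g ^ 2 ∈ D)
    (Ny : Subgroup G) (hNy : Ny = Subgroup.normalizer (Subgroup.zpowers y : Set G))
    (hyNn : (D.subgroupOf Ny).Normal) (hyNcard : Nat.card Ny = 72) (hyNsq : ∀ g ∈ Ny, g ^ 2 ∈ D)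
    (eC : Subgroup.centralizer ({z} : Set G) ≃* Multiplicative (ZMod 3) × Equiv.Perm (Fin 5))
    (eL : Subgroup.normalizer (Subgroup.zpowers z : Set G) ≃* Equiv.Perm (Fin 3) × Equiv.Perm (Fin 5)) :
    Nonempty (G ≃* Equiv.Perm (Fin 8)) ∨
      ∃ N : Subgroup G, N.Normal ∧ Cfsg.generalizedFittingSubgroup G = N ∧
        Nonempty (N ≃* alternatingGroup (Fin 5) × alternatingGroup (Fin 5)) ∧
        (∀ K : Subgroup G, K.Normal → K ≤ N → K = ⊥ ∨ K = N) ∧
        N.index = 4 ∧ ∀ g : G, g ^ 2 ∈ N := by
  have hyD : y ∈ D := hgen ▸ Subgroup.subset_closure (Set.mem_insert _ _)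
  have hzD : z ∈ D := hgen ▸ Subgroup.subset_closure (Set.mem_insert_of_mem _ rfl)
  have hND : 72 < Nat.card (Subgroup.normalizer (D : Set G)) := by
    rw [Subgroup.card_eq_card_quotient_mul_card_subgroup (D.subgroupOf (Subgroup.normalizer (D : Set G))),
      Nat.card_congr eN.toEquiv, Nat.card_congr (Subgroup.subgroupOfEquivOfLe Subgroup.le_normalizer).toEquiv,
      hcard, Nat.card_prod, DihedralGroup.nat_card, Nat.card_congr Multiplicative.toAdd, Nat.card_zmod]
    norm_num
  have h8 : ∀ g ∈ Subgroup.normalizer (D : Set G), g ^ 8 ∈ Subgroup.centralizer (D : Set G) := by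
    intro g hg
    have h := pow_card_eq_one' (x := ((⟨g, hg⟩ : Subgroup.normalizer (D : Set G)) :
      Subgroup.normalizer (D : Set G) ⧸ (Subgroup.centralizer (D : Set G)).subgroupOf
        (Subgroup.normalizer (D : Set G))))
    rw [Nat.card_congr eNC.toEquiv, DihedralGroup.nat_card, ← QuotientGroup.mk_pow,
      QuotientGroup.eq_one_iff] at h
    exact h
  have hnd : ¬ 27 ∣ Nat.card G := by
    intro h27
    haveI : Fact (Nat.Prime 3) := ⟨Nat.prime_three⟩
    have hP : Nat.card (P : Subgroup G) = 9 := by rw [← hDP]; exact hcard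
    have hi := (P : Subgroup G).card_mul_index
    rw [hP] at hi
    rw [← hi] at h27
    exact Sylow.not_dvd_index P ((Nat.mul_dvd_mul_iff_left (by norm_num : 0 < 9)).1
      (show 9 * 3 ∣ 9 * (P : Subgroup G).index from h27))
  have hzcard : Nat.card (Subgroup.centralizer ({z} : Set G)) = 360 := by
    rw [Nat.card_congr eC.toEquiv, Nat.card_prod, Nat.card_congr Multiplicative.toAdd, Nat.card_zmod,
      Nat.card_perm, Nat.card_fin]
    rfl
  obtain ⟨L⟩ := CfsgLib.S8ThreeLocal.exists_data hyD hzD hcomm hcard hexp hND h8 hnd hycard hysq hzcard eL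
  rcases L.σ_t with hA | hB
  · exact Or.inl (L.caseA_equiv hA)
  · exact Or.inr (L.exists_BCase hB).conclusion

end Cfsg.Agent.S3330
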