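import Cfsg.Statements.S3335
import Mathlib
import Mathlib

set_option autoImplicit false
open Cfsg

namespace Cfsg.Agent.S3335

open scoped Pointwise

variable {X : Type*} [Group X]

theorem three_cyc {α : Type*} [DecidableEq α] {a b c : α} (h1 : a ≠ b) (h2 : b ≠ c) (h3 : a ≠ c) :
    (Equiv.swap a b * Equiv.swap b c) ^ 3 = 1 := by
  rw [pow_three']
  ext x
  by_cases hxa : x = a
  · subst hxa; simp [Equiv.swap_apply_def, h1, h2, h3, Ne.symm h1, Ne.symm h2, Ne.symm h3]
  by_cases hxb : x = b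
  · subst hxb; simp [Equiv.swap_apply_def, h1, h2, h3, Ne.symm h1, Ne.symm h2, Ne.symm h3]
  by_cases hxc : x = c
  · subst hxc; simp [Equiv.swap_apply_def, h1, h2, h3, Ne.symm h1, Ne.symm h2, Ne.symm h3]
  simp [Equiv.swap_apply_def, hxa, hxb, hxc]

theorem two_disj {α : Type*} [DecidableEq α] {a b c d : α} (h1 : a ≠ c) (h2 : a ≠ d) (h3 : b ≠ c) (h4 : b ≠ d) :
    (Equiv.swap a b * Equiv.swap c d) ^ 2 = 1 := by
  have hc : Equiv.swap a b * Equiv.swap c d = Equiv.swap c d * Equiv.swap a b := by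
    rw [Equiv.mul_swap_eq_swap_mul, Equiv.swap_apply_of_ne_of_ne (Ne.symm h1) (Ne.symm h3),
      Equiv.swap_apply_of_ne_of_ne (Ne.symm h2) (Ne.symm h4)]
  rw [(show Commute _ _ from hc).mul_pow, pow_two, pow_two, Equiv.swap_mul_self, Equiv.swap_mul_self, one_mul]

/-- The relations of the presentation among the first `N` generators. -/
structure Rel (t : ℕ → X) (N : ℕ) : Prop where
  cube : 0 < N → t 0 * t 0 * t 0 = 1
  sq : ∀ i, 1 ≤ i → i < N → t i * t i = 1
  braid : ∀ i, i + 1 < N → (t i * t (i + 1)) ^ 3 = 1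
  far : ∀ i j, i + 1 < j → j < N → (t i * t j) ^ 2 = 1

/-- The descending words. -/
def u (t : ℕ → X) (m : ℕ) : ℕ → X
  | 0 => 1
  | j + 1 => u t m j * t (m - j)

variable {t : ℕ → X} {N m : ℕ}

theorem far_comm (h : Rel t N) {i l : ℕ} (hi : 1 ≤ i) (hl : i + 1 < l) (hlN : l < N) : t l * t i = t i * t l := by
  have e := h.far i l hl hlN
  rw [pow_two] at e
  calc t l * t i = t i * t i * (t l * t i) * (t l * t l) := by
        rw [h.sq i hi (by omega), h.sq l (by omega) hlN, one_mul, mul_one]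
    _ = t i * (t i * t l * (t i * t l)) * t l := by group
    _ = t i * t l := by rw [e, mul_one]

theorem far_zero (h : Rel t N) {l : ℕ} (hl : 2 ≤ l) (hlN : l < N) :
    t l * t 0 = (t 0)⁻¹ * t l ∧ t l * (t 0)⁻¹ = t 0 * t l := by
  have e := h.far 0 l (by omega) hlN
  rw [pow_two] at e
  have h1 : t l * t 0 = (t 0)⁻¹ * t l := by
    calc t l * t 0 = (t 0)⁻¹ * (t 0 * t l * (t 0 * t l)) * (t l)⁻¹ := by group
      _ = (t 0)⁻¹ * (t l)⁻¹ := by rw [e, mul_one]
      _ = _ := by rw [inv_eq_of_mul_eq_one_right (h.sq l (by omega) hlN)]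
  refine ⟨h1, ?_⟩
  calc t l * (t 0)⁻¹ = t 0 * ((t 0)⁻¹ * t l) * (t 0)⁻¹ := by group
    _ = t 0 * t l := by rw [← h1]; group

theorem absorb (h : Rel t N) (hm : m < N) {Y : Subgroup X} (hY : ∀ i, i < m → t i ∈ Y) :
    ∀ j, ∀ i, i + j < m → (∃ y ∈ Y, u t m j * t i = y * u t m j) ∧
      ∃ y ∈ Y, u t m j * (t i)⁻¹ = y * u t m j := by
  intro j
  induction j with
  | zero =>
    intro i hi
    exact ⟨⟨t i, hY i (by omega), by simp [u]⟩, ⟨(t i)⁻¹, inv_mem (hY i (by omega)), by simp [u]⟩⟩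
  | succ j ih =>
    intro i hi
    obtain ⟨⟨y, hy, e⟩, ⟨y', hy', e'⟩⟩ := ih i (by omega)
    rcases Nat.eq_zero_or_pos i with rfl | hi1
    · obtain ⟨f1, f2⟩ := far_zero h (l := m - j) (by omega) (by omega)
      exact ⟨⟨y', hy', by rw [u, mul_assoc, f1, ← mul_assoc, e', mul_assoc]⟩,
        ⟨y, hy, by rw [u, mul_assoc, f2, ← mul_assoc, e, mul_assoc]⟩⟩
    · have f := far_comm h hi1 (show i + 1 < m - j by omega) (by omega)
      have f' : (t i)⁻¹ = t i := inv_eq_of_mul_eq_one_right (h.sq i hi1 (by omega))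
      exact ⟨⟨y, hy, by rw [u, mul_assoc, f, ← mul_assoc, e, mul_assoc]⟩,
        ⟨y, hy, by rw [f', u, mul_assoc, f, ← mul_assoc, e, mul_assoc]⟩⟩

theorem absorb_high (h : Rel t N) (hm : m < N) {Y : Subgroup X} (hY : ∀ i, i < m → t i ∈ Y) :
    ∀ j, j ≤ m → ∀ i, i ≤ m → m + 2 ≤ i + j → ∃ y ∈ Y, u t m j * t i = y * u t m j := by
  intro j
  induction j with
  | zero => intro _ i hi h2; omega
  | succ j ih =>
    intro hj i hi h2
    by_cases hlast : m + 2 ≤ i + j
    · obtain ⟨y, hy, e⟩ := ih (by omega) i hi hlast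
      have f := far_comm h (i := m - j) (l := i) (by omega) (by omega) (by omega)
      exact ⟨y, hy, by rw [u, mul_assoc, ← f, ← mul_assoc, e, mul_assoc]⟩
    · obtain ⟨a, rfl⟩ : ∃ a, j = a + 1 := ⟨j - 1, by omega⟩
      obtain ⟨y, hy, e⟩ := (absorb h hm hY a (m - (a + 1)) (by omega)).1
      refine ⟨y, hy, ?_⟩
      obtain rfl : i = m - a := by omega
      have hl : m - a = m - (a + 1) + 1 := by omega
      have hb := h.braid (m - (a + 1)) (by omega)
      rw [← hl, pow_three'] at hb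
      have s1 := inv_eq_of_mul_eq_one_right (h.sq (m - a) (by omega) (by omega))
      have s2 := inv_eq_of_mul_eq_one_right (h.sq (m - (a + 1)) (by omega) (by omega))
      have hbr : t (m - a) * t (m - (a + 1)) * t (m - a) =
          t (m - (a + 1)) * t (m - a) * t (m - (a + 1)) := by
        obtain ⟨A, hA⟩ : ∃ A, t (m - (a + 1)) = A := ⟨_, rfl⟩
        obtain ⟨B, hB⟩ : ∃ B, t (m - a) = B := ⟨_, rfl⟩
        rw [hA, hB] at hb ⊢
        rw [hA] at s2
        rw [hB] at s1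
        calc B * A * B = A⁻¹ * (A * B * (A * B) * (A * B)) * B⁻¹ * A⁻¹ := by group
          _ = A * B * A := by rw [hb, s1, s2, mul_one]
      calc u t m (a + 1 + 1) * t (m - a) = u t m a * (t (m - a) * t (m - (a + 1)) * t (m - a)) := by
            simp only [u, mul_assoc]
        _ = u t m a * t (m - (a + 1)) * (t (m - a) * t (m - (a + 1))) := by rw [hbr]; simp only [mul_assoc]
        _ = y * u t m (a + 1 + 1) := by rw [e]; simp only [u, mul_assoc]

/-- Coset enumeration along the generators. -/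
theorem enum (h : Rel t N) (hm : m < N) :
    ∀ g ∈ Subgroup.closure (t '' Set.Iio (m + 1)), ∃ y ∈ Subgroup.closure (t '' Set.Iio m),
      (∃ j, j ≤ m + 1 ∧ g = y * u t m j) ∨ g = y * (u t m (m + 1) * t 0) := by
  obtain ⟨Y, hY'⟩ : ∃ Y, Subgroup.closure (t '' Set.Iio m) = Y := ⟨_, rfl⟩
  rw [hY']
  have hY : ∀ i, i < m → t i ∈ Y := fun i hi => hY' ▸ Subgroup.subset_closure ⟨i, hi, rfl⟩
  obtain ⟨P, hP⟩ : ∃ P : X → Prop, P = fun g => ∃ y ∈ Y,
      (∃ j, j ≤ m + 1 ∧ g = y * u t m j) ∨ g = y * (u t m (m + 1) * t 0) := ⟨_, rfl⟩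
  have left : ∀ g, P g → ∀ y ∈ Y, P (y * g) := by
    rw [hP]
    rintro g ⟨z, hz, ⟨j, hj, rfl⟩ | rfl⟩ y hy
    · exact ⟨y * z, mul_mem hy hz, Or.inl ⟨j, hj, (mul_assoc _ _ _).symm⟩⟩
    · exact ⟨y * z, mul_mem hy hz, Or.inr (mul_assoc _ _ _).symm⟩
  have rep : ∀ j, j ≤ m + 1 → P (u t m j) := fun j hj => by
    rw [hP]; exact ⟨1, one_mem _, Or.inl ⟨j, hj, (one_mul _).symm⟩⟩
  have rep' : P (u t m (m + 1) * t 0) := by rw [hP]; exact ⟨1, one_mem _, Or.inr (one_mul _).symm⟩
  have hc : t 0 * t 0 * t 0 = 1 := h.cube (by omega)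
  have hB : u t m (m + 1) * t 0 = u t m m * (t 0)⁻¹ := by
    rw [u, Nat.sub_self, mul_assoc, inv_eq_of_mul_eq_one_left (a := t 0 * t 0) hc]
  have hA : u t m (m + 1) = u t m m * t 0 := by rw [u, Nat.sub_self]
  have step : ∀ i, i ≤ m → ∀ g, P g → P (g * t i) := by
    intro i hi g hg
    rw [hP] at hg
    obtain ⟨y, hy, ⟨j, hj, rfl⟩ | rfl⟩ := hg <;> rw [mul_assoc] <;> refine left _ ?_ y hy
    · rcases (show i + j < m ∨ i + j = m ∨ (i + j = m + 1 ∧ 1 ≤ i) ∨ (m + 2 ≤ i + j ∧ j ≤ m) ∨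
          (i = 0 ∧ j = m + 1) ∨ (i = 1 ∧ j = m + 1) ∨ (2 ≤ i ∧ j = m + 1) by omega) with
        h1 | h1 | ⟨h1, h1'⟩ | ⟨h1, h1'⟩ | ⟨rfl, rfl⟩ | ⟨rfl, rfl⟩ | ⟨h1, rfl⟩
      · obtain ⟨z, hz, e⟩ := (absorb h hm hY j i h1).1
        rw [e]; exact left _ (rep j hj) z hz
      · have : u t m (j + 1) = u t m j * t i := by rw [u, show m - j = i by omega]
        rw [← this]; exact rep _ (by omega)
      · obtain ⟨a, rfl⟩ : ∃ a, j = a + 1 := ⟨j - 1, by omega⟩
        rw [u, show m - a = i by omega, mul_assoc, h.sq i h1' (by omega), mul_one]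
        exact rep _ (by omega)
      · obtain ⟨z, hz, e⟩ := absorb_high h hm hY j h1' i hi h1
        rw [e]; exact left _ (rep j hj) z hz
      · exact rep'
      · obtain ⟨a, rfl⟩ : ∃ a, m = a + 1 := ⟨m - 1, by omega⟩
        obtain ⟨z, hz, e⟩ := (absorb h hm hY a 0 (by omega)).2
        have hb := h.braid 0 (by omega)
        rw [pow_three'] at hb
        have s1 := inv_eq_of_mul_eq_one_right (h.sq 1 le_rfl (by omega))
        have hbr : t 1 * t 0 * t 1 = (t 0)⁻¹ * t 1 * (t 0)⁻¹ := by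
          calc t 1 * t 0 * t 1 = (t 0)⁻¹ * (t 0 * t 1 * (t 0 * t 1) * (t 0 * t 1)) * (t 1)⁻¹ * (t 0)⁻¹ := by group
            _ = _ := by rw [hb, s1, mul_one]
        have e' : u t (a + 1) (a + 1 + 1) * t 1 = z * (u t (a + 1) (a + 1 + 1) * t 0) := by
          rw [hB, hA, u, show a + 1 - a = 1 by omega, mul_assoc (u t (a + 1) a), mul_assoc (u t (a + 1) a), hbr,
            ← mul_assoc, ← mul_assoc, e]
          simp only [mul_assoc]
        rw [e']
        exact left _ rep' z hz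
      · obtain ⟨z, hz, e⟩ := absorb_high h hm hY m le_rfl i hi (by omega)
        obtain ⟨f1, f2⟩ := far_zero h h1 (by omega)
        rw [hA, mul_assoc, show t 0 * t i = t i * (t 0)⁻¹ from f2.symm, ← mul_assoc, e, mul_assoc, ← hB]
        exact left _ rep' z hz
    · rcases (show i = 0 ∨ i = 1 ∨ 2 ≤ i by omega) with rfl | rfl | h1
      · rw [hA, show u t m m * t 0 * t 0 * t 0 = u t m m * (t 0 * t 0 * t 0) by simp only [mul_assoc], hc, mul_one]
        exact rep _ (by omega)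
      · obtain ⟨a, rfl⟩ : ∃ a, m = a + 1 := ⟨m - 1, by omega⟩
        obtain ⟨z, hz, e⟩ := (absorb h hm hY a 0 (by omega)).1
        have hb := h.braid 0 (by omega)
        rw [pow_three'] at hb
        have s1 := inv_eq_of_mul_eq_one_right (h.sq 1 le_rfl (by omega))
        have hbr : t 1 * (t 0)⁻¹ * t 1 = t 0 * t 1 * t 0 := by
          have hbr' : t 1 * t 0 * t 1 = (t 0)⁻¹ * t 1 * (t 0)⁻¹ := by
            calc t 1 * t 0 * t 1 = (t 0)⁻¹ * (t 0 * t 1 * (t 0 * t 1) * (t 0 * t 1)) * (t 1)⁻¹ * (t 0)⁻¹ := by group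
              _ = _ := by rw [hb, s1, mul_one]
          have := congrArg (fun w => w⁻¹) hbr'
          simpa only [_root_.mul_inv_rev, inv_inv, s1, mul_assoc] using this
        have e' : u t (a + 1) (a + 1 + 1) * t 0 * t 1 = z * u t (a + 1) (a + 1 + 1) := by
          rw [hB, hA, u, show a + 1 - a = 1 by omega, mul_assoc (u t (a + 1) a), mul_assoc (u t (a + 1) a), hbr,
            ← mul_assoc, ← mul_assoc, e]
          simp only [mul_assoc]
        rw [e']
        exact left _ (rep _ le_rfl) z hz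
      · obtain ⟨z, hz, e⟩ := absorb_high h hm hY m le_rfl i hi (by omega)
        obtain ⟨f1, f2⟩ := far_zero h h1 (by omega)
        rw [hB, mul_assoc, ← f1, ← mul_assoc, e, mul_assoc, ← hA]
        exact left _ (rep _ le_rfl) z hz
  intro g hg
  have hmain : P g := by
    induction hg using Subgroup.closure_induction_right with
    | one => exact rep 0 (by omega)
    | mul_right x hx y hy ih =>
      obtain ⟨i, hi, rfl⟩ := hy
      exact step i (Nat.lt_succ_iff.mp hi) x ih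
    | mul_inv_cancel x hx y hy ih =>
      obtain ⟨i, hi, rfl⟩ := hy
      have hi' : i ≤ m := Nat.lt_succ_iff.mp hi
      rcases Nat.eq_zero_or_pos i with rfl | h1
      · rw [inv_eq_of_mul_eq_one_left (a := t 0 * t 0) hc, ← mul_assoc]
        exact step 0 hi' _ (step 0 hi' x ih)
      · rw [inv_eq_of_mul_eq_one_right (h.sq i h1 (by omega))]
        exact step i hi' x ih
  rw [hP] at hmain
  exact hmain

/-- The group on the first `m` generators is no larger than `A_{m+2}`. -/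
theorem bound (h : Rel t N) : ∀ m, m ≤ N →
    Finite ↥(Subgroup.closure (t '' Set.Iio m)) ∧
      2 * Nat.card ↥(Subgroup.closure (t '' Set.Iio m)) ≤ (m + 2).factorial := by
  intro m
  induction m with
  | zero =>
    intro _
    have : Subgroup.closure (t '' Set.Iio 0) = (⊥ : Subgroup X) := by simp
    rw [this]
    exact ⟨inferInstance, by simp⟩
  | succ m ih =>
    intro hm
    obtain ⟨hfin, hle⟩ := ih (by omega)
    have := hfin
    have hmono : Subgroup.closure (t '' Set.Iio m) ≤ Subgroup.closure (t '' Set.Iio (m + 1)) :=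
      Subgroup.closure_mono (Set.image_mono (Set.Iio_subset_Iio (by omega)))
    have hu : ∀ j, j ≤ m + 1 → u t m j ∈ Subgroup.closure (t '' Set.Iio (m + 1)) := by
      intro j
      induction j with
      | zero => intro _; exact one_mem _
      | succ j ihj =>
        intro hj
        exact mul_mem (ihj (by omega)) (Subgroup.subset_closure ⟨m - j, Nat.lt_succ_iff.mpr (by omega), rfl⟩)
    let f : Fin (m + 3) × Subgroup.closure (t '' Set.Iio m) → Subgroup.closure (t '' Set.Iio (m + 1)) :=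
      fun z => ⟨(z.2 : X) * if hj : z.1.val ≤ m + 1 then u t m z.1.val else u t m (m + 1) * t 0, by
        refine mul_mem (hmono z.2.2) ?_
        split_ifs with hj
        · exact hu _ hj
        · exact mul_mem (hu _ le_rfl) (Subgroup.subset_closure ⟨0, Nat.succ_pos m, rfl⟩)⟩
    have hf : Function.Surjective f := by
      rintro ⟨g, hg⟩
      obtain ⟨y, hy, ⟨j, hj, rfl⟩ | rfl⟩ := enum h (by omega) g hg
      · exact ⟨(⟨j, by omega⟩, ⟨y, hy⟩), Subtype.ext (by simp [f, hj])⟩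
      · exact ⟨(⟨m + 2, by omega⟩, ⟨y, hy⟩), Subtype.ext (by simp [f])⟩
    refine ⟨Finite.of_surjective f hf, ?_⟩
    have := Nat.card_le_card_of_surjective f hf
    rw [Nat.card_prod, Nat.card_fin] at this
    rw [show m + 1 + 2 = (m + 2) + 1 from rfl, Nat.factorial_succ]
    nlinarith


/-- A presentation of the alternating group of degree n ≥ 3 on generators x_1, …, x_{n−2} (indexed here by 0, …, n−3): the first generator cubes to 1, every other generator squares to 1, the product of two consecutive generators has order dividing 3, and the product of two generators at distance at least 2 has order dividing 2. The group so presented is isomorphic to the alternating group of degree n. -/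
theorem result (n : ℕ) (hn : 3 ≤ n) :
    Nonempty (PresentedGroup
      ({g : FreeGroup (Fin (n - 2)) | ∃ i : Fin (n - 2), i.val = 0 ∧ g = FreeGroup.of i ^ 3} ∪
       {g | ∃ i : Fin (n - 2), 1 ≤ i.val ∧ g = FreeGroup.of i ^ 2} ∪
       {g | ∃ i j : Fin (n - 2), j.val = i.val + 1 ∧ g = (FreeGroup.of i * FreeGroup.of j) ^ 3} ∪
       {g | ∃ i j : Fin (n - 2), i.val + 1 < j.val ∧ g = (FreeGroup.of i * FreeGroup.of j) ^ 2})
      ≃* alternatingGroup (Fin n)) := by
  classical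
  obtain ⟨k, rfl⟩ : ∃ k, n = k + 3 := ⟨n - 3, by omega⟩
  obtain ⟨R, hR⟩ : ∃ R : Set (FreeGroup (Fin (k + 3 - 2))), R = {g : FreeGroup (Fin (k + 3 - 2)) | ∃ i : Fin (k + 3 - 2), i.val = 0 ∧ g = FreeGroup.of i ^ 3} ∪
       {g | ∃ i : Fin (k + 3 - 2), 1 ≤ i.val ∧ g = FreeGroup.of i ^ 2} ∪
       {g | ∃ i j : Fin (k + 3 - 2), j.val = i.val + 1 ∧ g = (FreeGroup.of i * FreeGroup.of j) ^ 3} ∪
       {g | ∃ i j : Fin (k + 3 - 2), i.val + 1 < j.val ∧ g = (FreeGroup.of i * FreeGroup.of j) ^ 2} := ⟨_, rfl⟩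
  rw [← hR]
  -- the permutations
  have hf : ∀ a : ℕ, a < k + 3 - 2 → a + 2 < k + 3 := fun a h => by omega
  obtain ⟨τ, hτ⟩ : ∃ τ : Equiv.Perm (Fin (k + 3)), τ = Equiv.swap 0 ⟨1, by omega⟩ := ⟨_, rfl⟩
  have hττ : τ * τ = 1 := by rw [hτ]; exact Equiv.swap_mul_self _ _
  obtain ⟨S, hS⟩ : ∃ S : Fin (k + 3 - 2) → Equiv.Perm (Fin (k + 3)),
      ∀ i, S i = Equiv.swap ⟨i.val + 1, by omega⟩ ⟨i.val + 2, hf _ i.2⟩ := ⟨_, fun _ => rfl⟩
  obtain ⟨s, hs'⟩ : ∃ s : Fin (k + 3 - 2) → Equiv.Perm (Fin (k + 3)), ∀ i, s i = τ * S i := ⟨_, fun _ => rfl⟩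
  have hs : ∀ i, s i ∈ alternatingGroup (Fin (k + 3)) := by
    intro i
    rw [Equiv.Perm.mem_alternatingGroup, hs', hS, hτ, map_mul, Equiv.Perm.sign_swap (by simp [Fin.ext_iff]),
      Equiv.Perm.sign_swap (by simp [Fin.ext_iff])]
    simp
  have hSS : ∀ i, S i * S i = 1 := fun i => by rw [hS]; exact Equiv.swap_mul_self _ _
  have hprod : ∀ i j, s i * s j = Equiv.swap (τ ⟨i.val + 1, by omega⟩) (τ ⟨i.val + 2, hf _ i.2⟩) * S j := by
    intro i j
    rw [hs', hs', hS i, Equiv.mul_swap_eq_swap_mul τ, mul_assoc, ← mul_assoc τ τ, hττ, one_mul]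
  have hfix : ∀ (a : ℕ) (ha : a < k + 3), 2 ≤ a → τ ⟨a, ha⟩ = ⟨a, ha⟩ := fun a ha h => by
    rw [hτ]; exact Equiv.swap_apply_of_ne_of_ne (by simp [Fin.ext_iff]; omega) (by simp [Fin.ext_iff]; omega)
  have hlow : ∀ (a : ℕ) (ha : a < k + 3), 1 ≤ a → (τ ⟨a, ha⟩).val ≤ a := fun a ha h => by
    rcases (show a = 1 ∨ 2 ≤ a by omega) with rfl | h2
    · rw [hτ]; simp
    · rw [hfix a ha h2]
  have hrel : ∀ r ∈ R, FreeGroup.lift s r = 1 := by
    rw [hR]
    rintro r (((⟨i, hi, rfl⟩ | ⟨i, hi, rfl⟩) | ⟨i, j, hij, rfl⟩) | ⟨i, j, hij, rfl⟩) <;>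
      simp only [map_pow, map_mul, FreeGroup.lift_apply_of]
    · rw [hs', hτ, hS, show (⟨i.val + 1, by omega⟩ : Fin (k + 3)) = ⟨1, by omega⟩ from Fin.ext (by simp [hi])]
      exact three_cyc (by simp [Fin.ext_iff]) (by simp [Fin.ext_iff]; try omega) (by simp [Fin.ext_iff])
    · rw [hs', pow_two, hS, ← mul_assoc, mul_assoc τ _ τ,
        show Equiv.swap (⟨i.val + 1, by omega⟩ : Fin (k + 3)) ⟨i.val + 2, hf _ i.2⟩ * τ =
          τ * Equiv.swap (⟨i.val + 1, by omega⟩ : Fin (k + 3)) ⟨i.val + 2, hf _ i.2⟩ by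
          rw [Equiv.mul_swap_eq_swap_mul τ, hfix _ _ (by omega), hfix _ _ (by omega)],
        ← mul_assoc τ τ, hττ, one_mul, ← hS, hSS]
    · rw [hprod, hS, hfix (i.val + 2) _ (by omega),
        show (⟨j.val + 1, by omega⟩ : Fin (k + 3)) = ⟨i.val + 2, hf _ i.2⟩ from Fin.ext (by simp [hij])]
      have hl := hlow (i.val + 1) (by omega) (by omega)
      exact three_cyc (by intro e; have := congrArg Fin.val e; simp at this; omega)
        (by simp [Fin.ext_iff]; omega) (by intro e; have := congrArg Fin.val e; simp at this; omega)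
    · rw [hprod, hS, hfix (i.val + 2) _ (by omega)]
      have hl := hlow (i.val + 1) (by omega) (by omega)
      exact two_disj (by intro e; have := congrArg Fin.val e; simp at this; omega)
        (by intro e; have := congrArg Fin.val e; simp at this; omega) (by simp [Fin.ext_iff]; omega)
        (by simp [Fin.ext_iff]; omega)
  obtain ⟨φ, hφ⟩ : ∃ φ : PresentedGroup R →* Equiv.Perm (Fin (k + 3)), ∀ i, φ (PresentedGroup.of i) = s i :=
    ⟨PresentedGroup.toGroup hrel, fun i => PresentedGroup.toGroup.of hrel⟩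
  have hle : φ.range ≤ alternatingGroup (Fin (k + 3)) := by
    rw [MonoidHom.range_eq_map, ← PresentedGroup.closure_range_of, MonoidHom.map_closure, Subgroup.closure_le]
    rintro _ ⟨_, ⟨i, rfl⟩, rfl⟩
    exact hφ i ▸ hs i
  -- the bound
  let t : ℕ → PresentedGroup R := fun i => if h : i < k + 3 - 2 then PresentedGroup.of ⟨i, h⟩ else 1
  have hrelt : ∀ r ∈ R, PresentedGroup.mk R r = 1 := fun r hr => PresentedGroup.one_of_mem hr
  have hRel : Rel t (k + 1) := by
    refine ⟨fun _ => ?_, fun i h1 h2 => ?_, fun i h1 => ?_, fun i j h1 h2 => ?_⟩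
    · simp only [t, dif_pos (show 0 < k + 3 - 2 by omega)]
      rw [← pow_three']
      exact hrelt _ (hR ▸ Or.inl (Or.inl (Or.inl ⟨⟨0, by omega⟩, rfl, rfl⟩)))
    · simp only [t, dif_pos (show i < k + 3 - 2 by omega)]
      rw [← pow_two]
      exact hrelt _ (hR ▸ Or.inl (Or.inl (Or.inr ⟨⟨i, by omega⟩, h1, rfl⟩)))
    · simp only [t, dif_pos (show i < k + 3 - 2 by omega), dif_pos (show i + 1 < k + 3 - 2 by omega)]
      exact hrelt _ (hR ▸ Or.inl (Or.inr ⟨⟨i, by omega⟩, ⟨i + 1, by omega⟩, rfl, rfl⟩))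
    · simp only [t, dif_pos (show i < k + 3 - 2 by omega), dif_pos (show j < k + 3 - 2 by omega)]
      exact hrelt _ (hR ▸ Or.inr ⟨⟨i, by omega⟩, ⟨j, by omega⟩, h1, rfl⟩)
  obtain ⟨hfin, hcard⟩ := bound hRel (k + 1) le_rfl
  have htop : Subgroup.closure (t '' Set.Iio (k + 1)) = ⊤ := by
    rw [eq_top_iff, ← PresentedGroup.closure_range_of]
    refine Subgroup.closure_mono ?_
    rintro _ ⟨i, rfl⟩
    refine ⟨i.val, ?_, ?_⟩
    · show i.val < k + 1
      omega
    · simp only [t, dif_pos i.2]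
  rw [htop] at hfin hcard
  have hfin' : Finite (PresentedGroup R) := Finite.of_equiv _ Subgroup.topEquiv.toEquiv
  rw [Subgroup.card_top] at hcard
  -- surjectivity
  have hsR : ∀ i, s i ∈ φ.range := fun i => ⟨_, hφ i⟩
  have hsr : ∀ i : Fin (k + 3 - 2), τ * s i * τ⁻¹ ∈ φ.range := by
    intro i
    have : τ * s i * τ⁻¹ = (s i)⁻¹ := by
      rw [hs', _root_.mul_inv_rev, inv_eq_of_mul_eq_one_right hττ, inv_eq_of_mul_eq_one_right (hSS i),
        ← mul_assoc τ τ, hττ, one_mul]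
    rw [this]; exact inv_mem (hsR i)
  have hN : Subgroup.zpowers τ ≤ Subgroup.normalizer (φ.range : Set (Equiv.Perm (Fin (k + 3)))) := by
    rw [Subgroup.zpowers_le]
    have hm : ∀ z ∈ φ.range, τ * z * τ⁻¹ ∈ φ.range := by
      have : φ.range.map (MulAut.conj τ).toMonoidHom ≤ φ.range := by
        conv_lhs => rw [MonoidHom.range_eq_map, ← PresentedGroup.closure_range_of, MonoidHom.map_closure,
          MonoidHom.map_closure]
        rw [Subgroup.closure_le]
        rintro _ ⟨_, ⟨_, ⟨i, rfl⟩, rfl⟩, rfl⟩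
        rw [hφ]
        exact hsr i
      exact fun z hz => this ⟨z, hz, rfl⟩
    refine Subgroup.mem_normalizer_iff.mpr fun z => ⟨hm z, fun hz => ?_⟩
    have := hm _ hz
    rwa [inv_eq_of_mul_eq_one_right hττ, ← mul_assoc, ← mul_assoc, hττ, one_mul, mul_assoc, hττ, mul_one] at this
  have hK : Subgroup.zpowers τ ⊔ φ.range = ⊤ := by
    have hmem : ∀ i : Fin (k + 2), Equiv.swap i.castSucc i.succ ∈ Subgroup.zpowers τ ⊔ φ.range := by
      intro i
      have hτm : τ ∈ Subgroup.zpowers τ ⊔ φ.range := Subgroup.mem_sup_left (Subgroup.mem_zpowers τ)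
      obtain ⟨a, ha⟩ := i
      rcases (show a = 0 ∨ a = 1 ∨ 2 ≤ a by omega) with rfl | rfl | h2
      · rw [show Equiv.swap (Fin.castSucc ⟨0, ha⟩) (Fin.succ ⟨0, ha⟩) = τ from hτ.symm]
        exact hτm
      · have e : Equiv.swap (Fin.castSucc ⟨1, ha⟩) (Fin.succ ⟨1, ha⟩) = τ * s ⟨0, by omega⟩ := by
          rw [hs', ← mul_assoc, hττ, one_mul, hS]
          rfl
        rw [e]; exact mul_mem hτm (Subgroup.mem_sup_right (hsR _))
      · have e : Equiv.swap (Fin.castSucc ⟨a, ha⟩) (Fin.succ ⟨a, ha⟩) = τ * s ⟨a - 1, by omega⟩ := by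
          rw [hs', ← mul_assoc, hττ, one_mul, hS]
          congr 1 <;> ext <;> simp <;> omega
        rw [e]; exact mul_mem hτm (Subgroup.mem_sup_right (hsR _))
    rw [eq_top_iff]
    intro g _
    have h := Equiv.Perm.mclosure_swap_castSucc_succ (k + 2)
    have hg : g ∈ Submonoid.closure (Set.range fun i : Fin (k + 2) ↦ Equiv.swap i.castSucc i.succ) := by
      rw [h]; trivial
    exact (Submonoid.closure_le (S := (Subgroup.zpowers τ ⊔ φ.range).toSubmonoid)).mpr
      (by rintro _ ⟨i, rfl⟩; exact hmem i) hg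
  have hmul := Subgroup.coe_mul_of_left_le_normalizer_right (Subgroup.zpowers τ) φ.range hN
  rw [hK] at hmul
  have h2 : Nat.card (Equiv.Perm (Fin (k + 3))) ≤ 2 * Nat.card φ.range := by
    let f : Subgroup.zpowers τ × φ.range → Equiv.Perm (Fin (k + 3)) := fun z => (z.1 : Equiv.Perm (Fin (k + 3))) * (z.2 : Equiv.Perm (Fin (k + 3)))
    have hfs : Function.Surjective f := fun g => by
      have : g ∈ (Subgroup.zpowers τ : Set (Equiv.Perm (Fin (k + 3)))) * (φ.range : Set (Equiv.Perm (Fin (k + 3)))) := by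
        rw [← hmul]; exact Subgroup.mem_top g
      obtain ⟨a, ha, b, hb, e⟩ := Set.mem_mul.mp this
      exact ⟨(⟨a, ha⟩, ⟨b, hb⟩), e⟩
    refine (Nat.card_le_card_of_surjective f hfs).trans ?_
    rw [Nat.card_prod, Nat.card_zpowers]
    exact Nat.mul_le_mul_right _ (Nat.le_of_dvd (by norm_num) (orderOf_dvd_of_pow_eq_one (by rw [pow_two]; exact hττ)))
  have hA := two_mul_nat_card_alternatingGroup (α := Fin (k + 3))
  rw [Nat.card_perm, Nat.card_fin] at hA h2
  have heq : φ.range = alternatingGroup (Fin (k + 3)) := Subgroup.eq_of_le_of_card_ge hle (by omega)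
  let ψ : PresentedGroup R →* alternatingGroup (Fin (k + 3)) :=
    φ.codRestrict _ fun x => hle ⟨x, rfl⟩
  have hψ : Function.Surjective ψ := fun a => by
    obtain ⟨x, hx⟩ : (a : Equiv.Perm (Fin (k + 3))) ∈ φ.range := by rw [heq]; exact a.2
    exact ⟨x, Subtype.ext hx⟩
  refine ⟨MulEquiv.ofBijective ψ ((Nat.bijective_iff_surjective_and_card ψ).mpr ⟨hψ, ?_⟩)⟩
  have := Nat.card_le_card_of_surjective ψ hψ
  rw [heq] at h2
  have hcard' : 2 * Nat.card (PresentedGroup R) ≤ (k + 3).factorial := hcard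
  omega

end Cfsg.Agent.S3335
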