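import Cfsg.Statements.S3339
import Cfsg.Agent.Lib.A9Three.CentS

set_option autoImplicit false
open Cfsg

namespace Cfsg.Agent.S3339

/-- A 3-local characterization of the alternating group of degree 9. Let G be a finite group and J ≤ G an elementary abelian subgroup of order 27 whose normalizer H = N_G(J) is isomorphic to the normalizer, in the alternating group of degree 9, of the subgroup generated by three disjoint 3-cycles. If O_{3'}(C_G(x)) = 1 for every element x of order 3 in H, then either G = H or G is isomorphic to the alternating group of degree 9. -/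
theorem result {G : Type*} [Group G] [Finite G]
    (J : Subgroup G) (hJcomm : IsMulCommutative J) (hJexp : ∀ a ∈ J, a ^ 3 = 1) (hJcard : Nat.card J = 27)
    (H : Subgroup G) (hH : H = Subgroup.normalizer (J : Set G))
    (J₀ : Subgroup (Equiv.Perm (Fin 9)))
    (hJ₀ : J₀ = Subgroup.closure {Equiv.swap (0 : Fin 9) 1 * Equiv.swap 1 2, Equiv.swap (3 : Fin 9) 4 * Equiv.swap 4 5, Equiv.swap (6 : Fin 9) 7 * Equiv.swap 7 8})
    (eH : H ≃* ↥(alternatingGroup (Fin 9) ⊓ Subgroup.normalizer (J₀ : Set (Equiv.Perm (Fin 9)))))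
    (hcores : ∀ x ∈ H, orderOf x = 3 → Cfsg.pPrimeCore 3 (Subgroup.centralizer ({x} : Set G)) = ⊥) :
    H = ⊤ ∨ Nonempty (G ≃* alternatingGroup (Fin 9)) := by
  have hJ9 : J₀ = CfsgLib.A9Local.J9 := hJ₀
  have hrange : CfsgLib.A9Local.theta.range =
      alternatingGroup (Fin 9) ⊓ Subgroup.normalizer (J₀ : Set (Equiv.Perm (Fin 9))) := by
    rw [hJ9]; exact CfsgLib.A9Local.theta_range_eq
  let θ : CfsgLib.A9Local.HM →*
      ↥(alternatingGroup (Fin 9) ⊓ Subgroup.normalizer (J₀ : Set (Equiv.Perm (Fin 9)))) :=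
    CfsgLib.A9Local.theta.codRestrict _ fun h => hrange ▸ ⟨h, rfl⟩
  have hθi : Function.Injective θ := fun a b h =>
    (injective_iff_map_eq_one CfsgLib.A9Local.theta).mpr CfsgLib.A9Local.theta_ker (congrArg Subtype.val h)
  have hθs : Function.Surjective θ := fun y => by
    obtain ⟨h, hh⟩ : (y : Equiv.Perm (Fin 9)) ∈ CfsgLib.A9Local.theta.range := by
      rw [hrange]; exact y.2
    exact ⟨h, Subtype.ext hh⟩
  let ι : CfsgLib.A9Local.HM →* G := H.subtype.comp (eH.symm.toMonoidHom.comp θ)
  have hιi : Function.Injective ι := H.subtype_injective.comp (eH.symm.injective.comp hθi)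
  have hιr : ι.range = H := by
    refine le_antisymm (by rintro _ ⟨h, rfl⟩; exact (eH.symm (θ h)).2) fun g hg => ?_
    obtain ⟨h, hh⟩ := hθs (eH ⟨g, hg⟩)
    refine ⟨h, ?_⟩
    show ((eH.symm (θ h) : H) : G) = g
    rw [hh, MulEquiv.symm_apply_apply]
  have hJH : J ≤ ι.range := hιr ▸ hH ▸ Subgroup.le_normalizer
  have hJ : J = CfsgLib.A9Local.transl.map ι := CfsgLib.A9Local.comap_eq_transl hιi hJH
    (fun a ha b hb => congrArg Subtype.val (hJcomm.is_comm.comm (⟨a, ha⟩ : J) ⟨b, hb⟩)) hJcard
  let L : CfsgLib.A9Three.Loc G :=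
    { ι := ι
      inj := hιi
      norm := by rw [← hJ, ← hH, hιr]
      cores := fun k h0 h1 => by
        have h3 : k ^ 3 = 1 := by
          obtain ⟨v, g⟩ := k
          obtain rfl : g = 0 := h0
          exact (by decide +kernel : ∀ v : CfsgLib.A9Local.Vec, (⟨v, 0⟩ : CfsgLib.A9Local.HM) ^ 3 = 1) v
        haveI := Fact.mk Nat.prime_three
        refine hcores (ι k) (hιr ▸ ⟨k, rfl⟩) ?_
        rw [orderOf_injective ι hιi]
        exact orderOf_eq_prime h3 h1 }
  rcases L.top_or_alt with h | h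
  · left
    rw [← hιr]; exact h
  · exact Or.inr h

end Cfsg.Agent.S3339
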