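import Cfsg.Statements.S3342
import Cfsg.Agent.Lib.PSp43Real.CaseZero
import Cfsg.Agent.Lib.PSp43Real.CaseOne
import Cfsg.Agent.Lib.PSp43Real.CaseTwo
import Cfsg.Agent.Lib.PSp43Real.Aut.Final
import Cfsg.Agent.Lib.PSp43Real.Sp.Close
import Cfsg.Agent.Lib.SpecU42.PSp

set_option autoImplicit false
open Cfsg
open scoped commutatorElement

namespace Cfsg.Agent.S3342

/-- Let G be a finite group and a ∈ G an element of order 3 whose centralizer C has O₃(C) extraspecial of order 27 and exponent 3 with C/O₃(C) isomorphic to SL(2,3), and suppose some elementary abelian J ≤ C of order 27 normalizes no non-trivial subgroup of G of order prime to 3. If a is not conjugate to its inverse, then G has a normal subgroup of index 3 or G is isomorphic to PSp(4,3). If a is conjugate to its inverse, then ⟨a⟩ is normal in G, or G is isomorphic to the full automorphism group of PSp(4,3), or G is isomorphic to Sp(6,2). -/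
theorem result {G : Type*} [Group G] [Finite G]
    (a : G) (ha : orderOf a = 3) (C : Subgroup G) (hC : C = Subgroup.centralizer ({a} : Set G))
    (hR : Cfsg.IsExtraspecial 3 (Cfsg.pCore 3 C)) (hRcard : Nat.card (Cfsg.pCore 3 C) = 27)
    (hRexp : ∀ r ∈ Cfsg.pCore 3 C, r ^ 3 = 1)
    (e : C ⧸ Cfsg.pCore 3 C ≃* Matrix.SpecialLinearGroup (Fin 2) (ZMod 3))
    (J : Subgroup G) (hJC : J ≤ C) (hJcomm : IsMulCommutative J) (hJexp : ∀ j ∈ J, j ^ 3 = 1) (hJcard : Nat.card J = 27)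
    (hJsig : ∀ K : Subgroup G, (Nat.card K).Coprime 3 → (∀ j ∈ J, K.map (MulAut.conj j).toMonoidHom = K) → K = ⊥)
    (F : Type*) [Field F] [Fintype F] (hF : Fintype.card F = 3)
    (F₂ : Type*) [Field F₂] [Fintype F₂] (hF₂ : Fintype.card F₂ = 2) :
    ((∀ g : G, g * a * g⁻¹ ≠ a⁻¹) →
      (∃ N : Subgroup G, N.Normal ∧ N.index = 3) ∨ Nonempty (G ≃* Cfsg.PSp 2 F)) ∧
    ((∃ g : G, g * a * g⁻¹ = a⁻¹) →
      Subgroup.normalizer (Subgroup.zpowers a : Set G) = ⊤ ∨ Nonempty (G ≃* MulAut (Cfsg.PSp 2 F)) ∨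
        Nonempty (G ≃* Matrix.symplecticGroup (Fin 3) F₂)) := by
  classical
  subst hC
  haveI : Fact (Nat.Prime 3) := ⟨Nat.prime_three⟩
  obtain ⟨⟨-, -, hcomm⟩, hZ⟩ := hR
  set C := Subgroup.centralizer ({a} : Set G) with hCdef
  have ha3 : a ^ 3 = 1 := ha ▸ pow_orderOf_eq_one a
  have haC : a ∈ C := Subgroup.mem_centralizer_singleton_iff.2 rfl
  have ha1 : (⟨a, haC⟩ : C) ≠ 1 := fun h => by
    have : a = 1 := congrArg Subtype.val h
    rw [this, orderOf_one] at ha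
    exact absurd ha (by norm_num)
  have hcent : ∀ x : C, (⟨a, haC⟩ : C) * x = x * ⟨a, haC⟩ := fun x =>
    Subtype.ext (Subgroup.mem_centralizer_singleton_iff.1 x.2).symm
  -- the element lies in the core
  have haR : (⟨a, haC⟩ : C) ∈ Cfsg.pCore 3 C := by
    let Z := Subgroup.zpowers (⟨a, haC⟩ : C)
    have hn : Z.Normal := ⟨fun y hy g => by
      obtain ⟨k, rfl⟩ := Subgroup.mem_zpowers_iff.mp hy
      rw [((show Commute g (⟨a, haC⟩ : C) from (hcent g).symm).zpow_right k).eq, mul_inv_cancel_right]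
      exact Subgroup.zpow_mem_zpowers _ k⟩
    have hp : IsPGroup 3 Z := IsPGroup.of_card (n := 1) (by
      rw [Nat.card_zpowers, pow_one, ← Subgroup.orderOf_coe]; exact ha)
    exact (le_sSup ⟨hn, hp⟩ : Z ≤ Cfsg.pCore 3 C) (Subgroup.mem_zpowers _)
  haveI hRn : (Cfsg.pCore 3 C).Normal := Subgroup.sSup_normal _ fun _ h => h.1
  -- the centre of the core
  have hZa : ∀ r : Cfsg.pCore 3 C, r ∈ Subgroup.center (Cfsg.pCore 3 C) → ((r : C) : G) ∈ Subgroup.zpowers a := by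
    intro r hr
    have hca : (⟨_, haR⟩ : Cfsg.pCore 3 C) ∈ Subgroup.center (Cfsg.pCore 3 C) :=
      Subgroup.mem_center_iff.2 fun s => Subtype.ext (hcent (s : C)).symm
    have heq : Subgroup.zpowers (⟨_, haR⟩ : Cfsg.pCore 3 C) = Subgroup.center (Cfsg.pCore 3 C) :=
      Subgroup.eq_of_le_of_card_ge (Subgroup.zpowers_le.2 hca) (by
        rw [hZ, Nat.card_zpowers, orderOf_eq_prime (p := 3) (Subtype.ext (hRexp _ haR))
          fun h => ha1 (congrArg Subtype.val h)])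
    obtain ⟨k, hk⟩ := Subgroup.mem_zpowers_iff.1 (heq.symm ▸ hr : r ∈ Subgroup.zpowers (⟨_, haR⟩ : Cfsg.pCore 3 C))
    exact Subgroup.mem_zpowers_iff.2 ⟨k, by rw [← hk]; simp⟩
  obtain ⟨π, hπ, hπs⟩ : ∃ π : C →* Matrix.SpecialLinearGroup (Fin 2) (ZMod 3),
      (∀ x, π x = 1 ↔ x ∈ Cfsg.pCore 3 C) ∧ Function.Surjective π :=
    ⟨e.toMonoidHom.comp (QuotientGroup.mk' (Cfsg.pCore 3 C)), fun x => by simp,
      e.surjective.comp (QuotientGroup.mk'_surjective _)⟩
  let S : CfsgPSp43Real.Setup G :=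
    { a := a
      cube := ha3
      ne := fun h => ha1 (Subtype.ext h)
      π := π
      surj := hπs
      kerCard := by
        rw [← hRcard, show π.ker = Cfsg.pCore 3 C from Subgroup.ext fun x => hπ x]
      kerExp := fun x hx => hRexp x ((hπ x).1 hx)
      kerA := (hπ _).2 haR
      kerCent := fun x hx h => hZa ⟨x, (hπ x).1 hx⟩ (Subgroup.mem_center_iff.2 fun y =>
        Subtype.ext (h y ((hπ _).2 y.2)).symm)
      kerComm := fun x y hx hy => hZa ⁅(⟨x, (hπ x).1 hx⟩ : Cfsg.pCore 3 C), ⟨y, (hπ y).1 hy⟩⁆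
        (hcomm ▸ Subgroup.commutator_mem_commutator (Subgroup.mem_top _) (Subgroup.mem_top _))
      J := J
      J_comm := fun i hi j hj => congrArg Subtype.val (hJcomm.is_comm.comm (⟨i, hi⟩ : J) ⟨j, hj⟩)
      J_exp := hJexp
      J_card := hJcard
      J_le := hJC
      sig := hJsig }
  obtain ⟨Fr, hFr⟩ := S.exists_frame
  have hFa : Fr.D.a = a := by rw [hFr]
  have hk : Fr.k = 0 ∨ Fr.k = 1 ∨ Fr.k = 2 ∨ Fr.k = 3 := by
    generalize Fr.k = k
    decide +revert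
  obtain ⟨φ⟩ : Nonempty (CfsgLib.Heis43.K3 ≃+* F) := ⟨ZMod.ringEquivOfPrime F Nat.prime_three hF⟩
  refine ⟨fun hnr => ?_, fun hr => ?_⟩
  · have hk' : ¬ (Fr.k = 1 ∨ Fr.k = 3) := fun h => by
      obtain ⟨g, hg⟩ := Fr.real_iff.2 h
      exact hnr g (hFa ▸ hg)
    rcases hk with h | h | h | h
    · exact Or.inl (Fr.exists_index_three h)
    · exact absurd (Or.inl h) hk'
    · obtain ⟨eG⟩ := Fr.case_two h
      exact Or.inr ⟨eG.trans (CfsgLib.SpecU42.pspCongr 2 φ)⟩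
    · exact absurd (Or.inr h) hk'
  · rcases Fr.real_iff.1 (hFa.symm ▸ hr) with h | h
    · exact Or.inl (hFa ▸ Fr.case_one h)
    let F3 : CfsgPSp43Real.Frame3 G := { toFrame := Fr, k3 := h }
    rcases F3.dichotomy with hg | ⟨⟨D⟩⟩
    · obtain ⟨eG⟩ := F3.case_good hg
      exact Or.inr (Or.inl ⟨eG.trans (MulAut.congr (CfsgLib.SpecU42.pspCongr 2 φ))⟩)
    · obtain ⟨eG⟩ := F3.case_six D
      obtain ⟨ψ⟩ : Nonempty (CfsgLib.StemSylow.SpSix.F2 ≃+* F₂) := ⟨ZMod.ringEquivOfPrime F₂ Nat.prime_two hF₂⟩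
      exact Or.inr (Or.inr ⟨eG.trans (((MulEquiv.subgroupCongr CfsgPSp43Real.SpM.range_ρ).symm.trans
        (MonoidHom.ofInjective CfsgPSp43Real.SpM.ρ_inj).symm).trans (CfsgLib.SpecU42.spCongr 3 ψ))⟩)

end Cfsg.Agent.S3342
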