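import Cfsg.Statements.S3345
import Cfsg.Agent.S3300
import Cfsg.Agent.Lib.Components
import Cfsg.Agent.Lib.OEightCent.Frame

set_option autoImplicit false
open Cfsg

namespace Cfsg.Agent.S3345

/-- A normal subgroup of `C` is, in the group, stable under `C`. -/
theorem map_conj_eq {G : Type*} [Group G] {C : Subgroup G} (N : Subgroup ↥C) (hN : N.Normal) (h : G) (hh : h ∈ C) :
    (N.map C.subtype).map (MulAut.conj h).toMonoidHom = N.map C.subtype := by
  have key : ∀ (h : G), h ∈ C → ∀ y ∈ N.map C.subtype, h * y * h⁻¹ ∈ N.map C.subtype := by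
    rintro h hh _ ⟨y, hy, rfl⟩
    exact Subgroup.mem_map.mpr ⟨⟨h, hh⟩ * y * ⟨h, hh⟩⁻¹, hN.conj_mem y hy _, rfl⟩
  ext y
  constructor
  · rintro ⟨z, hz, rfl⟩
    exact key h hh z hz
  · intro hy
    have h2 := key h⁻¹ (inv_mem hh) y hy
    rw [inv_inv] at h2
    refine Subgroup.mem_map.mpr ⟨_, h2, ?_⟩
    simp [mul_assoc]

/-- The kernel of a surjection to a group of order two has relative index two. -/
theorem relIndex_ker {G A : Type*} [Group G] [Group A] {C : Subgroup G} (f : ↥C →* A) (hf : Function.Surjective f)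
    (hA : Nat.card A = 2) : (f.ker.map C.subtype).relIndex C = 2 := by
  rw [Subgroup.relIndex, Subgroup.subgroupOf, Subgroup.comap_map_eq_self_of_injective (Subgroup.subtype_injective _),
    Subgroup.index_ker, MonoidHom.range_eq_top.mpr hf, Subgroup.card_top, hA]

/-- Being extraspecial passes along isomorphisms. -/
theorem extraspecial_equiv {X : Type*} {Y : Type*} [Group X] [Group Y] {p : ℕ} (e : X ≃* Y)
    (h : Cfsg.IsExtraspecial p X) : Cfsg.IsExtraspecial p Y := by
  obtain ⟨⟨hp, hf, hd⟩, hc⟩ := h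
  have hcen : (Subgroup.center X).map e.toMonoidHom = Subgroup.center Y := by
    ext y
    rw [Subgroup.mem_map_equiv, Subgroup.mem_center_iff, Subgroup.mem_center_iff]
    constructor
    · intro hh z
      apply e.symm.injective
      rw [map_mul, map_mul]
      exact hh _
    · intro hh z
      apply e.injective
      simp only [map_mul, MulEquiv.apply_symm_apply]
      exact hh _
  have hfr : (frattini X).map e.toMonoidHom = frattini Y := by
    refine le_antisymm (Subgroup.map_le_iff_le_comap.mpr (frattini_le_comap_frattini_of_surjective e.surjective))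
      fun y hy => ?_
    rw [Subgroup.mem_map_equiv]
    exact frattini_le_comap_frattini_of_surjective (φ := e.symm.toMonoidHom) e.symm.surjective hy
  refine ⟨⟨hp.of_equiv e, ?_, ?_⟩, ?_⟩
  · rw [← hfr, hf, hcen]
  · rw [← hcen, ← hd, _root_.commutator_def, _root_.commutator_def, Subgroup.map_commutator,
      Subgroup.map_top_of_surjective e.toMonoidHom e.surjective]
  · rw [← hcen, Subgroup.card_map_of_injective (f := e.toMonoidHom) e.injective, hc]

/-- Let G be a finite group with O^2(G) = G and an involution t with centralizer C such that F*(C) is extraspecial of order 2^9, C/O₂(C) is isomorphic to Sym(3) × Sym(3) × Sym(3), and C_G(O₂(C)) ≤ O₂(C). Then either the image of t is central in G/O_{2'}(G), or G is isomorphic to Ω⁺(8,2), the commutator subgroup of the isometry group of the hyperbolic quadratic form in dimension 8 over the field with 2 elements. -/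
theorem result {G : Type*} [Group G] [Finite G]
    (hG : Cfsg.pResidual 2 G = ⊤) (t : G) (ht : orderOf t = 2)
    (C : Subgroup G) (hC : C = Subgroup.centralizer ({t} : Set G))
    (hF : Cfsg.IsExtraspecial 2 (Cfsg.generalizedFittingSubgroup C))
    (hFcard : Nat.card (Cfsg.generalizedFittingSubgroup C) = 2 ^ 9)
    (e : C ⧸ Cfsg.pCore 2 C ≃* Equiv.Perm (Fin 3) × Equiv.Perm (Fin 3) × Equiv.Perm (Fin 3))
    (hcc : Subgroup.centralizer (((Cfsg.pCore 2 C).map C.subtype : Subgroup G) : Set G) ≤ (Cfsg.pCore 2 C).map C.subtype) :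
    (∀ g : G, g * t * g⁻¹ * t⁻¹ ∈ Cfsg.oddCore G) ∨
      Nonempty (G ≃* Cfsg.Omega (ZMod 2) (Cfsg.quadFormPlus 4 (ZMod 2))) := by
  classical
  right
  subst hC
  have := Fact.mk Nat.prime_two
  set C := Subgroup.centralizer ({t} : Set G) with hCdef
  have hEQ : Cfsg.pCore 2 ↥C = Cfsg.generalizedFittingSubgroup ↥C := by
    refine le_antisymm ((CfsgLib.pCore_le_fittingSubgroup Nat.prime_two).trans
      CfsgLib.fittingSubgroup_le_generalized) ?_
    haveI : (Cfsg.generalizedFittingSubgroup ↥C).Normal := inferInstance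
    exact CfsgLib.le_pCore (IsPGroup.of_card hFcard)
  set E : Subgroup G := (Cfsg.pCore 2 ↥C).map C.subtype with hEdef
  have hext : Cfsg.IsExtraspecial 2 ↥(Cfsg.pCore 2 ↥C) := by rw [hEQ]; exact hF
  have hext' : Cfsg.IsExtraspecial 2 ↥E :=
    extraspecial_equiv (Subgroup.equivMapOfInjective _ _ (Subgroup.subtype_injective _)) hext
  have hcard : Nat.card ↥E = 512 := by
    rw [hEdef, Subgroup.card_map_of_injective (Subgroup.subtype_injective _), hEQ, hFcard]; norm_num
  have hEC : E ≤ C := Subgroup.map_subtype_le _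
  have hmem : ∀ c : ↥C, (c : G) ∈ E ↔ c ∈ Cfsg.pCore 2 ↥C := fun c =>
    ⟨fun ⟨d, hd, hdc⟩ => (Subtype.ext hdc : d = c) ▸ hd, fun h => ⟨c, h, rfl⟩⟩
  -- the centre of the core
  obtain ⟨z, hz⟩ := CfsgLib.ExtraTwo.ofExtraspecial hext'
  have htE : t ∈ E := hcc (Subgroup.mem_centralizer_iff.mpr fun q hq =>
    Subgroup.mem_centralizer_singleton_iff.mp (hEC hq))
  have ht1 : t ≠ 1 := by rintro rfl; simp at ht
  have hzt : (z : G) = t := by
    have : (⟨t, htE⟩ : ↥E) ∈ Subgroup.center ↥E := Subgroup.mem_center_iff.mpr fun q =>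
      Subtype.ext (Subgroup.mem_centralizer_singleton_iff.mp (hEC q.2))
    rcases (hz.center_iff _).mp this with h | h
    · exact absurd (congrArg Subtype.val h) ht1
    · exact (congrArg Subtype.val h).symm
  have hes : CfsgLargeExtra.ES E t := by
    refine ⟨htE, ht1, fun q hq => Subgroup.mem_centralizer_singleton_iff.mp (hEC hq), fun q hq => ?_, fun c hc => ?_,
      fun c hc q hq => ?_⟩
    · rcases hz.sq ⟨q, hq⟩ with h | h
      · exact Or.inl (congrArg Subtype.val h)
      · exact Or.inr ((congrArg Subtype.val h).trans hzt)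
    · have hcE : c ∈ E := hcc (Subgroup.mem_centralizer_iff.mpr fun q hq => (hc q hq).symm)
      rcases (hz.center_iff ⟨c, hcE⟩).mp (Subgroup.mem_center_iff.mpr fun q => Subtype.ext (hc q q.2).symm) with h | h
      · exact Or.inl (congrArg Subtype.val h)
      · exact Or.inr ((congrArg Subtype.val h).trans hzt)
    · obtain ⟨d, hd, rfl⟩ := hq
      exact ⟨_, (inferInstance : (Cfsg.pCore 2 ↥C).Normal).conj_mem d hd
        ⟨c, Subgroup.mem_centralizer_singleton_iff.mpr hc⟩, rfl⟩
  let φ : ↥C →* CfsgLib.O8C.Q3 := e.toMonoidHom.comp (QuotientGroup.mk' (Cfsg.pCore 2 ↥C))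
  let π : G → CfsgLib.O8C.Q3 := fun c => if h : c ∈ C then φ ⟨c, h⟩ else 1
  have hπ : ∀ c : ↥C, π c = φ c := fun c => dif_pos c.2
  have hker : ∀ c : ↥C, φ c = 1 ↔ (c : G) ∈ E := fun c => by
    rw [hmem]
    show e (QuotientGroup.mk c) = 1 ↔ _
    rw [← map_one e, e.injective.eq_iff]
    exact QuotientGroup.eq_one_iff c
  have hsurj : Function.Surjective φ := e.surjective.comp (QuotientGroup.mk'_surjective _)
  have h8 : CfsgLib.O8C.Cent8 t E π := by
    refine ⟨hes, hcard, fun a b ha hb => ?_, fun c hc => ?_, fun q => ?_⟩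
    · have ha' : a ∈ C := Subgroup.mem_centralizer_singleton_iff.mpr ha
      have hb' : b ∈ C := Subgroup.mem_centralizer_singleton_iff.mpr hb
      rw [show π (a * b) = φ ⟨a * b, mul_mem ha' hb'⟩ from dif_pos _, show π a = φ ⟨a, ha'⟩ from dif_pos _,
        show π b = φ ⟨b, hb'⟩ from dif_pos _, ← map_mul]
      rfl
    · have hc' : c ∈ C := Subgroup.mem_centralizer_singleton_iff.mpr hc
      rw [show π c = φ ⟨c, hc'⟩ from dif_pos _]
      exact hker _
    · obtain ⟨c, rfl⟩ := hsurj q
      exact ⟨c, Subgroup.mem_centralizer_singleton_iff.mp c.2, hπ c⟩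
  -- a second conjugate of the centre
  obtain ⟨sgn, hsgn⟩ : ∃ f : ↥C →* ℤˣ, Function.Surjective f := by
    refine ⟨Equiv.Perm.sign.comp ((MonoidHom.fst _ _).comp φ), fun u => ?_⟩
    rcases Int.units_eq_one_or u with rfl | rfl
    · exact ⟨1, map_one _⟩
    · obtain ⟨c, hc⟩ := hsurj (Equiv.swap 0 1, 1, 1)
      refine ⟨c, ?_⟩
      show Equiv.Perm.sign (φ c).1 = -1
      rw [hc]
      exact Equiv.Perm.sign_swap (by decide)
  obtain ⟨g, hg, hgne⟩ := Cfsg.Agent.S3300.result hG t ht E hEdef hext'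
    hcc 4 (by norm_num) (by rw [hcard]; norm_num) (sgn.ker.map C.subtype) (Subgroup.map_subtype_le _)
    (fun h hh => map_conj_eq _ sgn.normal_ker h hh)
    (relIndex_ker sgn hsgn (Nat.card_eq_fintype_card.trans Fintype.card_units_int))
  obtain ⟨π', D⟩ := CfsgLib.O8C.exists_std ({ toCent8 := h8, hs := hg, hne := hgne } : CfsgLib.O8C.Pair8 t E π g)
  obtain ⟨g', x, a, L⟩ := D.exists_lift
  obtain ⟨a', n, S⟩ := L.exists_swap
  exact S.frame.omega_iso

end Cfsg.Agent.S3345
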