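import Cfsg.Statements.S3349
import Mathlib
-- import your own Cfsg.Agent.* helpers here

set_option autoImplicit false
open Cfsg

namespace Cfsg.Agent.S3349

/-- Let Q be a finite extraspecial p-group and α an automorphism of Q fixing every element of some maximal abelian subgroup of Q. Then the order of α is a power of p. -/
theorem result {Q : Type*} [Group Q] [Finite Q]
    (p : ℕ) [Fact p.Prime] (hQ : Cfsg.IsExtraspecial p Q) (α : MulAut Q)
    (A : Subgroup Q) (hA : IsMulCommutative A) (hmax : ∀ B : Subgroup Q, A ≤ B → IsMulCommutative B → B = A)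
    (hfix : ∀ a ∈ A, α a = a) :
    ∃ k : ℕ, orderOf α = p ^ k := by
  exact by
    obtain ⟨⟨hp, hfr, hcomm⟩, -⟩ := hQ
    have hAc : ∀ a ∈ A, ∀ b ∈ A, a * b = b * a := fun a ha b hb =>
      congrArg Subtype.val (hA.is_comm.comm ⟨a, ha⟩ ⟨b, hb⟩)
    have hself : ∀ g : Q, (∀ a ∈ A, g * a = a * g) → g ∈ A := by
      intro g hg
      set B := Subgroup.closure (insert g (A : Set Q)) with hB
      have hBc : IsMulCommutative B := Subgroup.isMulCommutative_closure (by
        rintro x (rfl | hx) y (rfl | hy)
        · rfl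
        · exact hg y hy
        · exact (hg x hx).symm
        · exact hAc x hx y hy)
      have := hmax B (fun x hx => Subgroup.subset_closure (Or.inr hx)) hBc
      exact this ▸ Subgroup.subset_closure (Or.inl rfl)
    have hZA : Subgroup.center Q ≤ A := fun z hz => hself z fun a _ => (Subgroup.mem_center_iff.1 hz a).symm
    have hd : ∀ q : Q, q⁻¹ * α q ∈ A := by
      intro q
      refine hself _ fun a ha => ?_
      have hc : q * a * q⁻¹ ∈ A := by
        have : q * a * q⁻¹ * a⁻¹ ∈ A := hZA (hcomm ▸ by
          rw [commutator_eq_closure]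
          exact Subgroup.subset_closure ⟨q, a, rfl⟩)
        have := A.mul_mem this ha
        rwa [inv_mul_cancel_right] at this
      have h1 : α q * a * (α q)⁻¹ = q * a * q⁻¹ := by
        conv_rhs => rw [← hfix _ hc]
        rw [map_mul, map_mul, map_inv, hfix a ha]
      calc q⁻¹ * α q * a = q⁻¹ * (α q * a * (α q)⁻¹) * α q := by group
        _ = a * (q⁻¹ * α q) := by rw [h1]; group
    have hpow : ∀ (n : ℕ) (q : Q), (α ^ n) q = q * (q⁻¹ * α q) ^ n := by
      intro n
      induction n with
      | zero => intro q; simp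
      | succ n ih =>
        intro q
        rw [pow_succ', MulAut.mul_apply, ih, map_mul, map_pow, hfix _ (hd q), pow_succ', ← mul_assoc,
          mul_inv_cancel_left]
    obtain ⟨k, hk⟩ := hp.exists_card_eq
    have h1 : α ^ (p ^ k) = 1 := by
      apply MulEquiv.ext
      intro q
      rw [hpow, ← hk, pow_card_eq_one', mul_one, MulAut.one_apply]
    obtain ⟨j, -, hj⟩ := (Nat.dvd_prime_pow (Fact.out : p.Prime)).1 (orderOf_dvd_of_pow_eq_one h1)
    exact ⟨j, hj⟩

end Cfsg.Agent.S3349
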