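import Cfsg.Statements.S3356
import Mathlib
import Cfsg.Agent.Lib.Basic

set_option autoImplicit false
open Cfsg

namespace Cfsg.Agent.S3356

open MulAction in
/-- If all stabilizers have the same order, every orbit has the same size, which divides the degree. -/
theorem index_dvd {K X : Type*} [Group K] [Finite K] [MulAction K X] [Finite X] {c : ℕ}
    (h : ∀ x : X, Nat.card (stabilizer K x) = c) : Nat.card K ∣ Nat.card X * c := by
  classical
  haveI := Fintype.ofFinite (orbitRel.Quotient K X)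
  rw [Nat.card_congr (selfEquivSigmaOrbits' K X), Nat.card_sigma, Finset.sum_mul]
  refine Finset.dvd_sum fun q _ => ?_
  induction q using Quotient.inductionOn' with
  | h x =>
    rw [← h x, orbitRel.Quotient.orbit_mk, Nat.card_coe_set_eq, ← index_stabilizer, Subgroup.index_mul_card]

/-- The conjugation action of `K` on an invariant set. -/
def conjAction {G : Type*} [Group G] (K : Subgroup G) (Y : Set G) (hY : ∀ k ∈ K, ∀ y ∈ Y, k * y * k⁻¹ ∈ Y) :
    MulAction K Y where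
  smul k y := ⟨(k : G) * y * (k : G)⁻¹, hY k k.2 y y.2⟩
  one_smul y := Subtype.ext (show ((1 : K) : G) * y * ((1 : K) : G)⁻¹ = y by simp)
  mul_smul k l y := Subtype.ext (show ((k * l : K) : G) * y * ((k * l : K) : G)⁻¹ =
    (k : G) * ((l : G) * y * (l : G)⁻¹) * (k : G)⁻¹ by rw [Subgroup.coe_mul]; group)

theorem conj_stab {G : Type*} [Group G] (K : Subgroup G) (Y : Set G) (hY : ∀ k ∈ K, ∀ y ∈ Y, k * y * k⁻¹ ∈ Y) (y : Y) :
    Nat.card (@MulAction.stabilizer K Y _ (conjAction K Y hY) y) = Nat.card ↥(K ⊓ Subgroup.centralizer {(y : G)}) :=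
  Nat.card_congr
    { toFun := fun k => ⟨(k.1 : G), k.1.2, Subgroup.mem_centralizer_singleton_iff.mpr
        (mul_inv_eq_iff_eq_mul.mp (congrArg Subtype.val k.2))⟩
      invFun := fun k => ⟨⟨k.1, k.2.1⟩, Subtype.ext (mul_inv_eq_iff_eq_mul.mpr (Subgroup.mem_centralizer_singleton_iff.mp k.2.2))⟩
      left_inv := fun _ => rfl
      right_inv := fun _ => rfl }

section Auto

variable {G : Type*} [Group G] [Finite G] {N H : Subgroup G} {s : ℕ}

theorem coprime_card (hs : ∀ x ∈ N, x ≠ 1 → s * Nat.card ↥(H ⊓ Subgroup.centralizer {x}) = Nat.card H)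
    {W : Subgroup G} (hWN : W ≤ N) (hW : ∀ h ∈ H, ∀ w ∈ W, h * w * h⁻¹ ∈ W) : Nat.Coprime s (Nat.card W) := by
  classical
  let Y : Set G := (W : Set G) \ {1}
  have hY : ∀ k ∈ H, ∀ y ∈ Y, k * y * k⁻¹ ∈ Y := fun k hk y hy => ⟨hW k hk y hy.1, fun e => hy.2 (by
    rw [Set.mem_singleton_iff] at e ⊢; exact conj_eq_one_iff.mp e)⟩
  letI := conjAction H Y hY
  rcases isEmpty_or_nonempty Y with he | ⟨⟨y₀⟩⟩
  · have : Nat.card W = 1 := by
      rw [Subgroup.card_eq_one, eq_bot_iff]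
      intro w hw
      by_contra h
      exact he.false ⟨w, hw, h⟩
    rw [this]; exact Nat.coprime_one_right s
  have hst : ∀ y : Y, Nat.card (MulAction.stabilizer H y) = Nat.card ↥(H ⊓ Subgroup.centralizer {(y₀ : G)}) := by
    intro y
    rw [conj_stab H Y hY y]
    have h1 := hs y (hWN y.2.1) y.2.2
    have h2 := hs y₀ (hWN y₀.2.1) y₀.2.2
    refine Nat.eq_of_mul_eq_mul_left (Nat.pos_of_ne_zero fun e => ?_) (h1.trans h2.symm)
    rw [e, zero_mul] at h2
    exact Nat.card_pos.ne' h2.symm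
  have h1 := index_dvd hst
  rw [← hs y₀ (hWN y₀.2.1) y₀.2.2] at h1
  have h2 : s ∣ Nat.card Y := Nat.dvd_of_mul_dvd_mul_right Nat.card_pos h1
  have h3 : Nat.card Y + 1 = Nat.card W := by
    rw [Nat.card_coe_set_eq, Set.ncard_diff_singleton_add_one (Subgroup.one_mem W) (Set.toFinite _), ← Nat.card_coe_set_eq]
    rfl
  rw [← h3]
  obtain ⟨k, hk⟩ := h2
  rw [hk]
  simp

/-- A subset of `N` whose size is coprime to `s` and that is permuted by the conjugation of `H`:
the elements that move one point into it fix all its points. -/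
theorem fix_block (hs : ∀ x ∈ N, x ≠ 1 → s * Nat.card ↥(H ⊓ Subgroup.centralizer {x}) = Nat.card H)
    (Y : Set G) (hYN : ∀ y ∈ Y, y ∈ N ∧ y ≠ 1) (K : Subgroup G) (hKH : K ≤ H)
    (hYK : ∀ k ∈ K, ∀ y ∈ Y, k * y * k⁻¹ ∈ Y) (hK : ∀ y ∈ Y, H ⊓ Subgroup.centralizer {y} ≤ K)
    (hco : Nat.Coprime s (Nat.card Y)) : ∀ y ∈ Y, K ≤ Subgroup.centralizer {y} := by
  classical
  intro y₀ hy₀
  letI := conjAction K Y hYK
  obtain ⟨c, hc⟩ : ∃ c, c = Nat.card ↥(H ⊓ Subgroup.centralizer {y₀}) := ⟨_, rfl⟩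
  have h0 : s * c = Nat.card H := hc ▸ hs y₀ (hYN y₀ hy₀).1 (hYN y₀ hy₀).2
  have hspos : 0 < s := Nat.pos_of_ne_zero fun e => by rw [e, zero_mul] at h0; exact Nat.card_pos.ne' h0.symm
  have heq : ∀ y ∈ Y, Nat.card ↥(H ⊓ Subgroup.centralizer {y}) = c := fun y hy =>
    Nat.eq_of_mul_eq_mul_left hspos ((hs y (hYN y hy).1 (hYN y hy).2).trans h0.symm)
  have hsame : ∀ y ∈ Y, K ⊓ Subgroup.centralizer {y} = H ⊓ Subgroup.centralizer {y} := fun y hy =>
    le_antisymm (inf_le_inf_right _ hKH) (le_inf (hK y hy) inf_le_right)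
  have h1 := index_dvd (K := K) (X := Y) (c := c) fun y => by rw [conj_stab K Y hYK y, hsame y y.2, heq y y.2]
  have h2 : c ∣ Nat.card K := by rw [← heq y₀ hy₀]; exact Subgroup.card_dvd_of_le (hK y₀ hy₀)
  have h3 : Nat.card K ∣ s * c := h0 ▸ Subgroup.card_dvd_of_le hKH
  have h4 : Nat.card K ∣ c := by
    have := Nat.dvd_gcd h3 h1
    rwa [Nat.gcd_mul_right, hco.gcd_eq_one, one_mul] at this
  have h5 : H ⊓ Subgroup.centralizer {y₀} = K :=
    Subgroup.eq_of_le_of_card_ge (hK y₀ hy₀) ((Nat.dvd_antisymm h4 h2).trans (heq y₀ hy₀).symm).le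
  exact fun k hk => ((h5.symm ▸ hk : k ∈ H ⊓ Subgroup.centralizer {y₀})).2

/-- No proper nontrivial `H`-invariant subgroup of `N`, unless all centralizers are trivial. -/
theorem invariant_trivial (hH : ∀ h ∈ H, (∀ x ∈ N, h * x = x * h) → h = 1)
    (hs : ∀ x ∈ N, x ≠ 1 → s * Nat.card ↥(H ⊓ Subgroup.centralizer {x}) = Nat.card H)
    (hnf : ∃ x ∈ N, x ≠ 1 ∧ H ⊓ Subgroup.centralizer {x} ≠ ⊥) {W : Subgroup G} (hWN : W ≤ N)
    (hW : ∀ h ∈ H, ∀ w ∈ W, h * w * h⁻¹ ∈ W) : W = ⊥ ∨ W = N := by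
  classical
  by_contra hc
  push Not at hc
  obtain ⟨hW0, hWne⟩ := hc
  have hcop := coprime_card hs hWN hW
  -- the centralizer of an element outside `W` centralizes `W`
  have key : ∀ x ∈ N, x ∉ W → ∀ h ∈ H, h * x = x * h → ∀ w ∈ W, h * w = w * h := by
    intro x hx hxW h hh hhx w hw
    let K : Subgroup G :=
      { carrier := {k | k ∈ H ∧ x⁻¹ * (k * x * k⁻¹) ∈ W}
        mul_mem' := fun {a b} ha hb => ⟨mul_mem ha.1 hb.1, by
          rw [show x⁻¹ * (a * b * x * (a * b)⁻¹) = (x⁻¹ * (a * x * a⁻¹)) * (a * (x⁻¹ * (b * x * b⁻¹)) * a⁻¹) by group]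
          exact W.mul_mem ha.2 (hW a ha.1 _ hb.2)⟩
        one_mem' := ⟨one_mem _, by simp⟩
        inv_mem' := fun {a} ha => ⟨inv_mem ha.1, by
          rw [show x⁻¹ * (a⁻¹ * x * a⁻¹⁻¹) = a⁻¹ * (x⁻¹ * (a * x * a⁻¹))⁻¹ * a⁻¹⁻¹ by group]
          exact hW _ (inv_mem ha.1) _ (W.inv_mem ha.2)⟩ }
    let Y : Set G := {y | x⁻¹ * y ∈ W}
    have hcard : Nat.card Y = Nat.card W := Nat.card_congr
      { toFun := fun y => ⟨x⁻¹ * y, y.2⟩
        invFun := fun u => ⟨x * u, show x⁻¹ * (x * (u : G)) ∈ W by rw [inv_mul_cancel_left]; exact u.2⟩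
        left_inv := fun y => Subtype.ext (mul_inv_cancel_left _ _)
        right_inv := fun u => Subtype.ext (inv_mul_cancel_left _ _) }
    have hb := fix_block hs Y (fun y hy => ⟨by
        rw [← mul_inv_cancel_left x y]; exact mul_mem hx (hWN hy), fun e => hxW (by
        have : x⁻¹ * y ∈ W := hy
        rw [e, mul_one] at this
        exact inv_mem_iff.mp this)⟩) K (fun k hk => hk.1)
      (fun k hk y hy => by
        show x⁻¹ * (k * y * k⁻¹) ∈ W
        rw [show x⁻¹ * (k * y * k⁻¹) = (x⁻¹ * (k * x * k⁻¹)) * (k * (x⁻¹ * y) * k⁻¹) by group]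
        exact W.mul_mem hk.2 (hW k hk.1 _ hy))
      (fun y hy k hk => ⟨hk.1, by
        have e := mul_inv_eq_iff_eq_mul.mpr (Subgroup.mem_centralizer_singleton_iff.mp hk.2)
        rw [show x⁻¹ * (k * x * k⁻¹) = (x⁻¹ * (k * y * k⁻¹)) * (k * (x⁻¹ * y)⁻¹ * k⁻¹) by group, e]
        exact W.mul_mem hy (hW k hk.1 _ (W.inv_mem hy))⟩)
      (hcard ▸ hcop)
    have hhK : h ∈ K := ⟨hh, by rw [hhx, mul_inv_cancel_right, inv_mul_cancel]; exact one_mem _⟩
    have e := Subgroup.mem_centralizer_singleton_iff.mp (hb (x * w) (by show x⁻¹ * (x * w) ∈ W; rwa [inv_mul_cancel_left]) hhK)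
    rw [← mul_assoc, hhx, mul_assoc, mul_assoc] at e
    exact mul_left_cancel e
  obtain ⟨y, hyN, hy1, hy⟩ := hnf
  obtain ⟨⟨w, hw⟩, hw1'⟩ := Subgroup.ne_bot_iff_exists_ne_one.mp hW0
  have hw1 : w ≠ 1 := fun e => hw1' (Subtype.ext e)
  have hC : ∀ x ∈ N, x ∉ W → H ⊓ Subgroup.centralizer {x} = H ⊓ Subgroup.centralizer {w} := by
    intro x hx hxW
    have hle : H ⊓ Subgroup.centralizer {x} ≤ H ⊓ Subgroup.centralizer {w} := fun k hk =>
      ⟨hk.1, Subgroup.mem_centralizer_singleton_iff.mpr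
        (key x hx hxW k hk.1 (Subgroup.mem_centralizer_singleton_iff.mp hk.2) w hw)⟩
    have h1 := (hs w (hWN hw) hw1).trans (hs x hx fun e => hxW (e ▸ one_mem W)).symm
    have hspos : 0 < s := Nat.pos_of_ne_zero fun e => by
      have := hs w (hWN hw) hw1
      rw [e, zero_mul] at this
      exact Nat.card_pos.ne' this.symm
    exact Subgroup.eq_of_le_of_card_ge hle (Nat.eq_of_mul_eq_mul_left hspos h1).le
  obtain ⟨x, hx, hxW⟩ : ∃ x ∈ N, x ∉ W := by
    by_contra h
    push Not at h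
    exact hWne (le_antisymm hWN h)
  -- the common centralizer is trivial
  have htriv : H ⊓ Subgroup.centralizer {w} = ⊥ := by
    rw [eq_bot_iff]
    intro k hk
    refine hH k hk.1 fun z hz => ?_
    by_cases hzW : z ∈ W
    · exact key x hx hxW k hk.1 (Subgroup.mem_centralizer_singleton_iff.mp (hC x hx hxW ▸ hk).2) z hzW
    · exact Subgroup.mem_centralizer_singleton_iff.mp (hC z hz hzW ▸ hk).2
  have hyW : y ∈ W := by
    by_contra h
    exact hy ((hC y hyN h).trans htriv)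
  have hspos : 0 < s := Nat.pos_of_ne_zero fun e => by
    have := hs y hyN hy1
    rw [e, zero_mul] at this
    exact Nat.card_pos.ne' this.symm
  refine hy (Subgroup.card_eq_one.mp ?_)
  have h1 := (hs y hyN hy1).trans (hs w (hWN hw) hw1).symm
  rw [htriv, Subgroup.card_bot] at h1
  exact Nat.eq_of_mul_eq_mul_left hspos h1

/-- The centralizer in `H` of an element centralizes its normal closure in `N`. -/
theorem centralize_class (hn : ∀ h ∈ H, ∀ n ∈ N, h * n * h⁻¹ ∈ N)
    (hs : ∀ x ∈ N, x ≠ 1 → s * Nat.card ↥(H ⊓ Subgroup.centralizer {x}) = Nat.card H)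
    {x : G} (hx : x ∈ N) (hx1 : x ≠ 1) {h : G} (hh : h ∈ H) (hhx : h * x = x * h) {n : G} (hnN : n ∈ N) :
    h * (n * x * n⁻¹) = (n * x * n⁻¹) * h := by
  classical
  let Y : Set G := {y | ∃ m ∈ N, m * x * m⁻¹ = y}
  have hself : x ∈ Y := ⟨1, one_mem _, by simp⟩
  let K : Subgroup G :=
    { carrier := {k | k ∈ H ∧ k * x * k⁻¹ ∈ Y}
      mul_mem' := fun {a b} ha hb => ⟨mul_mem ha.1 hb.1, by
        obtain ⟨m, hm, e⟩ := hb.2
        obtain ⟨m', hm', e'⟩ := ha.2
        refine ⟨a * m * a⁻¹ * m', mul_mem (hn a ha.1 m hm) hm', ?_⟩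
        calc a * m * a⁻¹ * m' * x * (a * m * a⁻¹ * m')⁻¹ = a * m * a⁻¹ * (m' * x * m'⁻¹) * (a * m⁻¹ * a⁻¹) := by group
          _ = a * (m * x * m⁻¹) * a⁻¹ := by rw [e']; group
          _ = a * b * x * (a * b)⁻¹ := by rw [e]; group⟩
      one_mem' := ⟨one_mem _, by simpa using hself⟩
      inv_mem' := fun {a} ha => ⟨inv_mem ha.1, by
        obtain ⟨m, hm, e⟩ := ha.2
        refine ⟨a⁻¹ * m⁻¹ * a⁻¹⁻¹, hn _ (inv_mem ha.1) _ (inv_mem hm), ?_⟩
        calc a⁻¹ * m⁻¹ * a⁻¹⁻¹ * x * (a⁻¹ * m⁻¹ * a⁻¹⁻¹)⁻¹ = a⁻¹ * m⁻¹ * (a * x * a⁻¹) * m * a := by group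
          _ = a⁻¹ * x * a⁻¹⁻¹ := by rw [← e]; group⟩ }
  have hYN : ∀ y ∈ Y, y ∈ N ∧ y ≠ 1 := by
    rintro _ ⟨m, hm, rfl⟩
    exact ⟨mul_mem (mul_mem hm hx) (inv_mem hm), fun e => hx1 (conj_eq_one_iff.mp e)⟩
  have hco : Nat.Coprime s (Nat.card Y) := by
    have h1 := coprime_card hs (le_refl N) hn
    refine Nat.Coprime.coprime_dvd_right ?_ h1
    letI := conjAction N Y (fun k hk y hy => by
      obtain ⟨m, hm, rfl⟩ := hy
      exact ⟨k * m, mul_mem hk hm, by group⟩)
    haveI : MulAction.IsPretransitive N Y := MulAction.isPretransitive_iff_base (⟨x, hself⟩ : Y) |>.mpr fun y => by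
      obtain ⟨y, m, hm, rfl⟩ := y
      exact ⟨⟨m, hm⟩, rfl⟩
    rw [← MulAction.index_stabilizer_of_transitive N (⟨x, hself⟩ : Y)]
    exact Subgroup.index_dvd_card _
  have hb := fix_block hs Y hYN K (fun k hk => hk.1)
    (fun k hk y hy => by
      obtain ⟨m, hm, rfl⟩ := hy
      obtain ⟨m', hm', e'⟩ := hk.2
      refine ⟨k * m * k⁻¹ * m', mul_mem (hn k hk.1 m hm) hm', ?_⟩
      calc k * m * k⁻¹ * m' * x * (k * m * k⁻¹ * m')⁻¹ = k * m * k⁻¹ * (m' * x * m'⁻¹) * (k * m⁻¹ * k⁻¹) := by group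
        _ = k * (m * x * m⁻¹) * k⁻¹ := by rw [e']; group)
    (fun y hy k hk => by
      obtain ⟨m, hm, rfl⟩ := hy
      have e := mul_inv_eq_iff_eq_mul.mpr (Subgroup.mem_centralizer_singleton_iff.mp hk.2)
      refine ⟨hk.1, k * m⁻¹ * k⁻¹ * m, mul_mem (hn k hk.1 _ (inv_mem hm)) hm, ?_⟩
      calc k * m⁻¹ * k⁻¹ * m * x * (k * m⁻¹ * k⁻¹ * m)⁻¹ = k * m⁻¹ * k⁻¹ * (m * x * m⁻¹) * (k * m * k⁻¹) := by group
        _ = k * m⁻¹ * k⁻¹ * (k * (m * x * m⁻¹) * k⁻¹) * (k * m * k⁻¹) := by rw [e]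
        _ = k * x * k⁻¹ := by group)
    hco
  exact Subgroup.mem_centralizer_singleton_iff.mp (hb _ ⟨n, hnN, rfl⟩ ⟨hh, by rw [hhx, mul_inv_cancel_right]; exact hself⟩)

end Auto


/-- Let G be a finite 3/2-transitive permutation group: G acts faithfully and transitively on a finite set, the point stabilizers are non-trivial, and for each point a all orbits of G_a on the remaining points have the same size. Suppose G has a regular normal subgroup N and G is not a Frobenius group (some two-point stabilizer is non-trivial). Then N is an elementary abelian p-group for some prime p, and every non-trivial normal subgroup of G contains N (so N is the unique minimal normal subgroup). -/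
theorem result {G Ω : Type*} [Group G] [Finite G]
    [MulAction G Ω] [FaithfulSMul G Ω] [Finite Ω] (htrans : MulAction.IsPretransitive G Ω)
    (hne : ∀ a : Ω, MulAction.stabilizer G a ≠ ⊥)
    (hhalf : ∀ a b c : Ω, b ≠ a → c ≠ a →
      Nat.card (MulAction.orbit (MulAction.stabilizer G a) b) = Nat.card (MulAction.orbit (MulAction.stabilizer G a) c))
    (N : Subgroup G) [hN : N.Normal] (hNt : MulAction.IsPretransitive N Ω) (hNr : ∀ a : Ω, MulAction.stabilizer N a = ⊥)
    (hnotF : ∃ a b : Ω, a ≠ b ∧ MulAction.stabilizer G a ⊓ MulAction.stabilizer G b ≠ ⊥) :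
    (∃ p : ℕ, p.Prime ∧ IsMulCommutative N ∧ ∀ x ∈ N, x ^ p = 1) ∧
    (∀ M : Subgroup G, M.Normal → M ≠ ⊥ → N ≤ M) := by
  classical
  obtain ⟨α, β, hαβ, hfix⟩ := hnotF
  obtain ⟨H, hH⟩ : ∃ H, H = MulAction.stabilizer G α := ⟨_, rfl⟩
  let e : N → Ω := fun x => (x : G) • α
  have he : Function.Bijective e := by
    refine ⟨fun a b hab => ?_, fun ω => ?_⟩
    · have h1 : b⁻¹ * a ∈ MulAction.stabilizer N α := by
        rw [MulAction.mem_stabilizer_iff]
        show ((b⁻¹ * a : N) : G) • α = α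
        rw [Subgroup.coe_mul, Subgroup.coe_inv, mul_smul, inv_smul_eq_iff]; exact hab
      rw [hNr α, Subgroup.mem_bot] at h1
      exact (inv_mul_eq_one.mp h1).symm
    · obtain ⟨x, hx⟩ := MulAction.exists_smul_eq N α ω
      exact ⟨x, hx⟩
  have hn : ∀ h ∈ H, ∀ n ∈ N, h * n * h⁻¹ ∈ N := fun h _ n hn => hN.conj_mem n hn h
  have hact : ∀ h ∈ H, ∀ x : G, h • x • α = (h * x * h⁻¹) • α := fun h hh x => by
    rw [hH] at hh
    rw [mul_smul, mul_smul, inv_smul_eq_iff.mpr (MulAction.mem_stabilizer_iff.mp hh).symm]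
  -- centralizers and two-point stabilizers
  have hstab : ∀ x : N, Nat.card (MulAction.orbit H (e x)) * Nat.card ↥(H ⊓ Subgroup.centralizer {(x : G)}) = Nat.card H := by
    intro x
    rw [← Nat.card_congr (MulAction.orbitProdStabilizerEquivGroup H (e x)), Nat.card_prod]
    congr 1
    refine Nat.card_congr
      { toFun := fun k => ⟨⟨k.1, k.2.1⟩, ?_⟩
        invFun := fun k => ⟨k.1.1, k.1.2, ?_⟩
        left_inv := fun _ => rfl
        right_inv := fun _ => rfl }
    · rw [MulAction.mem_stabilizer_iff]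
      show (k.1 : G) • (x : G) • α = (x : G) • α
      rw [hact _ k.2.1, mul_inv_eq_iff_eq_mul.mpr (Subgroup.mem_centralizer_singleton_iff.mp k.2.2)]
    · refine Subgroup.mem_centralizer_singleton_iff.mpr ?_
      have h1 : (k.1 : G) • (x : G) • α = (x : G) • α := MulAction.mem_stabilizer_iff.mp k.2
      rw [hact _ k.1.2] at h1
      exact mul_inv_eq_iff_eq_mul.mp (congrArg Subtype.val (he.1 (a₁ := ⟨_, hn _ k.1.2 _ x.2⟩) (a₂ := x) h1))
  obtain ⟨x₀, hx₀⟩ := he.2 β
  have hx₀1 : x₀ ≠ 1 := fun e1 => hαβ (by rw [← hx₀, e1]; exact (one_smul G α).symm)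
  obtain ⟨s, hs'⟩ : ∃ s, s = Nat.card (MulAction.orbit H (e x₀)) := ⟨_, rfl⟩
  have hne1 : ∀ x : N, x ≠ 1 → e x ≠ α := fun x hx e1 => hx (he.1 (e1.trans (one_smul G α).symm))
  have hs : ∀ x ∈ N, x ≠ 1 → s * Nat.card ↥(H ⊓ Subgroup.centralizer {x}) = Nat.card H := by
    intro x hx hx1
    rw [← hstab ⟨x, hx⟩, hs']
    congr 1
    subst hH
    exact hhalf α _ _ (hne1 x₀ hx₀1) (hne1 ⟨x, hx⟩ fun e1 => hx1 (congrArg Subtype.val e1))
  have hHfaith : ∀ h ∈ H, (∀ x ∈ N, h * x = x * h) → h = 1 := by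
    intro h hh hc
    refine FaithfulSMul.eq_of_smul_eq_smul (α := Ω) fun ω => ?_
    obtain ⟨x, rfl⟩ := he.2 ω
    show h • (x : G) • α = (1 : G) • (x : G) • α
    rw [one_smul, hact h hh, hc x x.2, mul_inv_cancel_right]
  have hnf : ∃ x ∈ N, x ≠ 1 ∧ H ⊓ Subgroup.centralizer {x} ≠ ⊥ := by
    refine ⟨x₀, x₀.2, fun e1 => hx₀1 (Subtype.ext e1), fun hb => hfix ?_⟩
    rw [eq_bot_iff]
    intro g hg
    have hgH : g ∈ H := hH ▸ hg.1
    have h1 : g • e x₀ = e x₀ := by rw [hx₀]; exact hg.2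
    show g ∈ (⊥ : Subgroup G)
    rw [← hb]
    refine ⟨hgH, Subgroup.mem_centralizer_singleton_iff.mpr (mul_inv_eq_iff_eq_mul.mp ?_)⟩
    exact congrArg Subtype.val (he.1 (a₁ := ⟨_, hn _ hgH _ x₀.2⟩) (a₂ := x₀) ((hact g hgH x₀).symm.trans h1))
  have hinv := fun W hWN hW => invariant_trivial hHfaith hs hnf (W := W) hWN hW
  have hN0 : N ≠ ⊥ := fun h => hx₀1 (Subtype.ext (Subgroup.mem_bot.mp (h ▸ x₀.2)))
  -- a subgroup invariant under all automorphisms is invariant under `H`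
  have hchar : ∀ C : Subgroup N, C.Characteristic → C = ⊥ ∨ C = ⊤ := by
    intro C hC
    rcases hinv (C.map N.subtype) (Subgroup.map_subtype_le C) (fun h hh w hw => by
      have : (C.map N.subtype).Normal := inferInstance
      exact this.conj_mem w hw h) with h | h
    · exact Or.inl ((Subgroup.map_eq_bot_iff_of_injective C N.subtype_injective).mp h)
    · right
      rw [eq_top_iff]
      intro x _
      have : (x : G) ∈ C.map N.subtype := by rw [h]; exact x.2
      obtain ⟨w, hw, hwx⟩ := this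
      rwa [← Subtype.ext (show (w : G) = x from hwx)]
  by_cases hab : ∀ A : Subgroup N, A.Normal → IsMulCommutative A → A = ⊥
  · -- no abelian normal subgroups: the action would be semiregular
    exfalso
    obtain ⟨x, hxN, hx1, hx⟩ := hnf
    have hspos : 0 < s := Nat.pos_of_ne_zero fun e1 => by
      have := hs x hxN hx1
      rw [e1, zero_mul] at this
      exact Nat.card_pos.ne' this.symm
    let cl : G → Subgroup N := fun u => Subgroup.normalClosure {v : N | (v : G) = u}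
    have hC : ∀ u ∈ N, u ≠ 1 → ∀ v ∈ cl u, v ≠ 1 →
        H ⊓ Subgroup.centralizer {u} = H ⊓ Subgroup.centralizer {(v : G)} := by
      intro u hu hu1 v hv hv1
      refine Subgroup.eq_of_le_of_card_ge (fun k hk => ⟨hk.1, ?_⟩)
        (Nat.eq_of_mul_eq_mul_left hspos ((hs u hu hu1).trans (hs v v.2 fun e1 => hv1 (Subtype.ext e1)).symm)).ge
      have : cl u ≤ (Subgroup.centralizer {k}).subgroupOf N := by
        refine (Subgroup.normalClosure_le_normal (N := Subgroup.normalCore _) ?_).trans (Subgroup.normalCore_le _)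
        intro y (hy : (y : G) = u) m
        rw [Subgroup.mem_subgroupOf, Subgroup.coe_mul, Subgroup.coe_mul, Subgroup.coe_inv, hy,
          Subgroup.mem_centralizer_singleton_iff]
        exact (centralize_class hn hs hu hu1 hk.1 (Subgroup.mem_centralizer_singleton_iff.mp hk.2) m.2).symm
      exact Subgroup.mem_centralizer_singleton_iff.mpr (Subgroup.mem_centralizer_singleton_iff.mp (this hv)).symm
    -- all centralizers agree
    have hcommon : ∀ u ∈ N, u ≠ 1 → ∀ v ∈ N, v ≠ 1 → H ⊓ Subgroup.centralizer {u} = H ⊓ Subgroup.centralizer {v} := by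
      intro u hu hu1 v hv hv1
      by_cases hm : cl u ⊓ cl v = ⊥
      · -- then `u` and `v` commute; use `u * v`
        have hcuv : ∀ a ∈ cl u, ∀ b ∈ cl v, a * b = b * a := fun a ha b hb =>
          Subgroup.commute_of_normal_of_disjoint _ _ Subgroup.normalClosure_normal Subgroup.normalClosure_normal (disjoint_iff.mpr hm) a b ha hb
        have hu' : (⟨u, hu⟩ : N) ∈ cl u := Subgroup.subset_normalClosure rfl
        have hv' : (⟨v, hv⟩ : N) ∈ cl v := Subgroup.subset_normalClosure rfl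
        obtain ⟨w, hw⟩ : ∃ w : N, w = ⟨u, hu⟩ * ⟨v, hv⟩ := ⟨_, rfl⟩
        have hw1 : (w : G) ≠ 1 := fun e1 => hu1 (by
          have e2 : (⟨u, hu⟩ : N) = (⟨v, hv⟩ : N)⁻¹ := eq_inv_of_mul_eq_one_left (hw ▸ Subtype.ext e1)
          have : (⟨u, hu⟩ : N) ∈ cl u ⊓ cl v := ⟨hu', e2 ▸ (cl v).inv_mem hv'⟩
          rw [hm, Subgroup.mem_bot] at this
          exact congrArg Subtype.val this)
        -- `cl w` meets each of the two
        have meet : ∀ (a b : N), a ≠ 1 → (∀ c ∈ cl (a : G), b * c = c * b) → w = a * b →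
            H ⊓ Subgroup.centralizer {(a : G)} = H ⊓ Subgroup.centralizer {(w : G)} := by
          intro a b ha hb hwab
          obtain ⟨c, hc, hac⟩ : ∃ c ∈ cl (a : G), a * c ≠ c * a := by
            by_contra hc
            push Not at hc
            -- then the closure of `a` is abelian
            have hle : cl (a : G) ≤ Subgroup.centralizer (cl (a : G) : Set N) := by
              haveI : (cl (a : G)).Normal := Subgroup.normalClosure_normal
              refine Subgroup.normalClosure_le_normal ?_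
              intro y (hy : (y : G) = a)
              exact Subgroup.mem_centralizer_iff.mpr fun c hc' => by rw [Subtype.ext hy]; exact (hc c hc').symm
            have := hab (cl (a : G)) Subgroup.normalClosure_normal ⟨⟨fun p q => Subtype.ext
              (Subgroup.mem_centralizer_iff.mp (hle q.2) p p.2)⟩⟩
            have h1 : a ∈ cl (a : G) := Subgroup.subset_normalClosure rfl
            rw [this, Subgroup.mem_bot] at h1
            exact ha h1
          obtain ⟨d, hd⟩ : ∃ d, d = a * c * a⁻¹ * c⁻¹ := ⟨_, rfl⟩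
          have hd1 : d ≠ 1 := fun e1 => hac (by
            rw [hd, mul_inv_eq_one, mul_inv_eq_iff_eq_mul] at e1; exact e1)
          have hda : d ∈ cl (a : G) := hd ▸ mul_mem (Subgroup.normalClosure_normal.conj_mem c hc a) (inv_mem hc)
          have hdw : d ∈ cl (w : G) := by
            have h1 : w ∈ cl (w : G) := Subgroup.subset_normalClosure rfl
            have h2 := mul_mem h1 (Subgroup.normalClosure_normal.conj_mem _ (inv_mem h1) c)
            rwa [show d = w * (c * w⁻¹ * c⁻¹) by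
              rw [hd, hwab]
              calc a * c * a⁻¹ * c⁻¹ = a * (c * b) * b⁻¹ * a⁻¹ * c⁻¹ := by group
                _ = a * (b * c) * b⁻¹ * a⁻¹ * c⁻¹ := by rw [hb c hc]
                _ = a * b * (c * (a * b)⁻¹ * c⁻¹) := by group]
          exact (hC a a.2 (fun e1 => ha (Subtype.ext e1)) d hda hd1).trans (hC w w.2 hw1 d hdw hd1).symm
        refine (meet ⟨u, hu⟩ ⟨v, hv⟩ (fun e1 => hu1 (congrArg Subtype.val e1)) (fun c hc => (hcuv c hc _ hv').symm) hw).trans
          (meet ⟨v, hv⟩ ⟨u, hu⟩ (fun e1 => hv1 (congrArg Subtype.val e1)) (fun c hc => hcuv _ hu' c hc) ?_).symm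
        rw [hw]; exact hcuv _ hu' _ hv'
      · obtain ⟨⟨d, hd⟩, hd1⟩ := Subgroup.ne_bot_iff_exists_ne_one.mp hm
        exact (hC u hu hu1 d hd.1 fun e1 => hd1 (Subtype.ext e1)).trans
          (hC v hv hv1 d hd.2 fun e1 => hd1 (Subtype.ext e1)).symm
    refine hx (eq_bot_iff.mpr fun k hk => hHfaith k hk.1 fun z hz => ?_)
    by_cases hz1 : z = 1
    · rw [hz1]; simp
    · exact Subgroup.mem_centralizer_singleton_iff.mp (hcommon x hxN hx1 z hz hz1 ▸ hk).2
  push Not at hab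
  obtain ⟨A, hAn, hAc, hA⟩ := hab
  -- `N` is a `p`-group
  obtain ⟨p, hp, hpc⟩ : ∃ p : ℕ, p.Prime ∧ Cfsg.pCore p N ≠ ⊥ := by
    by_contra h
    push Not at h
    haveI := hAn
    letI : CommGroup A := { (inferInstance : Group A) with mul_comm := fun a b => hAc.is_comm.comm a b }
    have h1 := (CfsgLib.le_fittingSubgroup (N := A) inferInstance).trans CfsgLib.fittingSubgroup_le_iSup_pCore
    exact hA (le_bot_iff.mp (h1.trans (iSup_le fun q => (h q.1 q.2).le)))
  haveI := Fact.mk hp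
  have hNp : IsPGroup p N := by
    have := (hchar _ inferInstance).resolve_left hpc
    have h1 := CfsgLib.isPGroup_pCore (G := N) p
    rw [this] at h1
    exact h1.of_equiv Subgroup.topEquiv
  haveI : Nontrivial N := (Subgroup.nontrivial_iff_ne_bot N).mpr hN0
  have hcom : ∀ a b : N, a * b = b * a := by
    have h1 : Subgroup.center N = ⊤ := (hchar _ inferInstance).resolve_left ((Subgroup.nontrivial_iff_ne_bot _).mp hNp.center_nontrivial)
    exact fun a b => Subgroup.mem_center_iff.mp (h1 ▸ Subgroup.mem_top b) a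
  have hexp : ∀ x ∈ N, x ^ p = 1 := by
    let E : Subgroup N :=
      { carrier := {x | x ^ p = 1}
        mul_mem' := fun {a b} (ha : a ^ p = 1) (hb : b ^ p = 1) => show (a * b) ^ p = 1 by
          rw [(show Commute a b from hcom a b).mul_pow, ha, hb, one_mul]
        one_mem' := one_pow p
        inv_mem' := fun {a} (ha : a ^ p = 1) => show a⁻¹ ^ p = 1 by rw [inv_pow, ha, inv_one] }
    have hE : E.Characteristic := Subgroup.characteristic_iff_le_map.mpr fun φ x hx =>
      ⟨φ.symm x, show φ.symm x ^ p = 1 by rw [← map_pow, show x ^ p = 1 from hx, map_one], φ.apply_symm_apply x⟩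
    rcases hchar E hE with h | h
    · exfalso
      obtain ⟨a, ha⟩ := exists_prime_orderOf_dvd_card' (G := N) p (by
        obtain ⟨k, hk⟩ := hNp.exists_card_eq
        have h2 : 1 < Nat.card N := Finite.one_lt_card
        rw [hk] at h2 ⊢
        exact dvd_pow_self p fun e1 => by simp [e1] at h2)
      have : a ∈ E := show a ^ p = 1 by rw [← ha]; exact pow_orderOf_eq_one a
      rw [h, Subgroup.mem_bot] at this
      rw [this, orderOf_one] at ha
      exact hp.ne_one ha.symm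
    · intro x hx
      exact congrArg Subtype.val (show (⟨x, hx⟩ : N) ∈ E by rw [h]; trivial)
  refine ⟨⟨p, hp, ⟨⟨hcom⟩⟩, hexp⟩, fun M hM hM0 => ?_⟩
  rcases hinv (M ⊓ N) inf_le_right (fun h _ w hw => ⟨hM.conj_mem w hw.1 h, hN.conj_mem w hw.2 h⟩) with h | h
  · exfalso
    obtain ⟨⟨m, hm⟩, hm1⟩ := Subgroup.ne_bot_iff_exists_ne_one.mp hM0
    have hmc : ∀ n ∈ N, m * n = n * m := fun n hn' =>
      Subgroup.commute_of_normal_of_disjoint M N hM hN (disjoint_iff.mpr h) m n hm hn'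
    obtain ⟨u, hu⟩ := he.2 (m • α)
    have hh : (u : G)⁻¹ * m ∈ H := by
      rw [hH, MulAction.mem_stabilizer_iff, mul_smul, inv_smul_eq_iff]; exact hu.symm
    have h1 := hHfaith _ hh fun n hn' => by
      rw [mul_assoc, hmc n hn', ← mul_assoc, ← mul_assoc]
      congr 1
      have := congrArg Subtype.val (hcom u⁻¹ ⟨n, hn'⟩)
      exact this
    have hmN : m ∈ N := inv_mul_eq_one.mp h1 ▸ u.2
    have : m ∈ M ⊓ N := ⟨hm, hmN⟩
    rw [h, Subgroup.mem_bot] at this
    exact hm1 (Subtype.ext this)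
  · exact inf_eq_right.mp h

end Cfsg.Agent.S3356
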