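import Cfsg.Statements.S3357
import Mathlib
import Mathlib
import Cfsg.Agent.Lib.Frobenius.Complement
import Cfsg.Agent.Lib.Frobenius.More

set_option autoImplicit false
open Cfsg

namespace Cfsg.Agent.S3357

open MonoidAlgebra

variable {G : Type*} [Group G]

/-- The sum over the cyclic group generated by `z`. -/
noncomputable def cs (R : Type*) [CommRing R] (z : G) : MonoidAlgebra R G :=
  ∑ i ∈ Finset.range (orderOf z), MonoidAlgebra.single (z ^ i) (1 : R)

theorem cs_mul_single {R : Type*} [CommRing R] (z h : G) :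
    cs R z * MonoidAlgebra.single h (1 : R) = MonoidAlgebra.single h (1 : R) * cs R (h⁻¹ * z * h) := by
  rw [cs, cs, show orderOf (h⁻¹ * z * h) = orderOf z by
    rw [show h⁻¹ * z * h = MulAut.conj h⁻¹ z by simp, (MulAut.conj h⁻¹).orderOf_eq], Finset.sum_mul, Finset.mul_sum]
  refine Finset.sum_congr rfl fun i _ => ?_
  rw [single_mul_single, single_mul_single, one_mul]
  congr 1
  rw [show h⁻¹ * z * h = h⁻¹ * z * h⁻¹⁻¹ by rw [inv_inv], conj_pow, inv_inv]
  group

theorem cs_map {R S : Type*} [CommRing R] [CommRing S] (f : R →+* S) (z : G) :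
    MonoidAlgebra.mapRingHom G f (cs R z) = cs S z := by
  rw [cs, cs, map_sum]
  exact Finset.sum_congr rfl fun i _ => by simp

theorem cs_sq {R : Type*} [CommRing R] [Finite G] (z : G) :
    cs R z * cs R z = (orderOf z : R) • cs R z := by
  have hshift : ∀ i, MonoidAlgebra.single (z ^ i) (1 : R) * cs R z = cs R z := by
    intro i
    induction i with
    | zero => rw [pow_zero, ← MonoidAlgebra.one_def, one_mul]
    | succ i ih =>
      rw [show MonoidAlgebra.single (z ^ (i + 1)) (1 : R) =
        MonoidAlgebra.single (z ^ i) 1 * MonoidAlgebra.single z 1 by rw [single_mul_single, one_mul, pow_succ],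
        mul_assoc]
      have h1 : MonoidAlgebra.single z (1 : R) * cs R z = cs R z := by
        rw [cs, Finset.mul_sum]
        simp only [single_mul_single, one_mul, ← pow_succ']
        have e1 := Finset.sum_range_succ (fun j => MonoidAlgebra.single (z ^ j) (1 : R)) (orderOf z)
        rw [Finset.sum_range_succ', pow_orderOf_eq_one, pow_zero] at e1
        exact add_right_cancel e1
      rw [h1, ih]
  conv_lhs => enter [1]; rw [cs]
  rw [Finset.sum_mul, Finset.sum_congr rfl fun i _ => hshift i, Finset.sum_const, Finset.card_range, Nat.cast_smul_eq_nsmul]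

/-- The group ring has a nonzero element killed by all sums over prime cyclic subgroups. -/
theorem exists_killed [Finite G] {r : ℕ} [Fact r.Prime] {V : Type*} [AddCommGroup V] [Module (ZMod r) V] [Nontrivial V]
    (ρ : G →* (V →ₗ[ZMod r] V)) (hfix : ∀ z : G, z ≠ 1 → ∀ v, ρ z v = v → v = 0) :
    ∃ x : MonoidAlgebra (ZMod r) G, x ≠ 0 ∧ ∀ z : G, z ≠ 1 → cs (ZMod r) z * x = 0 := by
  classical
  have := Fintype.ofFinite G
  obtain ⟨v, hv⟩ := exists_ne (0 : V)
  obtain ⟨φ, hφ⟩ : ∃ φ : Module.Dual (ZMod r) V, φ v ≠ 0 := by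
    by_contra h
    push Not at h
    exact hv ((Module.forall_dual_apply_eq_zero_iff (ZMod r) v).mp h)
  refine ⟨∑ g : G, MonoidAlgebra.single g (φ (ρ g⁻¹ v)), fun h => hφ ?_, fun z hz => ?_⟩
  · have h1 := congrArg (fun x => MonoidAlgebra.coeff x 1) h
    simpa [map_sum, Finsupp.single_apply] using h1
  · have hw : ∀ u : V, (∑ i ∈ Finset.range (orderOf z), ρ (z ^ i) u) = 0 := by
      intro u
      refine hfix z hz _ ?_
      rw [map_sum]
      have e1 := Finset.sum_range_succ (fun j => ρ (z ^ j) u) (orderOf z)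
      rw [Finset.sum_range_succ', pow_orderOf_eq_one, pow_zero] at e1
      refine (Finset.sum_congr rfl fun j _ => ?_).trans (add_right_cancel e1)
      rw [pow_succ', map_mul, Module.End.mul_apply]
    calc cs (ZMod r) z * ∑ g : G, MonoidAlgebra.single g (φ (ρ g⁻¹ v))
        = ∑ i ∈ Finset.range (orderOf z), ∑ g : G, MonoidAlgebra.single (z ^ i * g) (φ (ρ g⁻¹ v)) := by
          rw [cs, Finset.sum_mul]
          simp only [Finset.mul_sum, single_mul_single, one_mul]
      _ = ∑ i ∈ Finset.range (orderOf z), ∑ g : G, MonoidAlgebra.single g (φ (ρ (g⁻¹ * z ^ i) v)) := by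
          refine Finset.sum_congr rfl fun i _ => ?_
          refine Fintype.sum_equiv (Equiv.mulLeft (z ^ i)) _ _ fun g => ?_
          show _ = MonoidAlgebra.single (z ^ i * g) (φ (ρ ((z ^ i * g)⁻¹ * z ^ i) v))
          rw [show (z ^ i * g)⁻¹ * z ^ i = g⁻¹ by group]
      _ = 0 := by
          rw [Finset.sum_comm]
          refine Finset.sum_eq_zero fun g _ => ?_
          rw [← MonoidAlgebra.single_zero g]
          have e : (∑ i ∈ Finset.range (orderOf z), φ (ρ (g⁻¹ * z ^ i) v)) = 0 := by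
            simp only [map_mul, Module.End.mul_apply, ← map_sum, hw, map_zero]
          rw [← e]
          exact (map_sum (MonoidAlgebra.singleAddHom g) _ _).symm

theorem exists_rho {r : ℕ} {A : Type*} [AddCommGroup A] [Module (ZMod r) A]
    (act : G → A → A) (hadd : ∀ g a b, act g (a + b) = act g a + act g b)
    (h1 : ∀ a, act 1 a = a) (h2 : ∀ g g' a, act (g * g') a = act g (act g' a)) :
    ∃ ρ : G →* Module.End (ZMod r) A, ∀ g a, ρ g a = act g a := by
  let f : G → Module.End (ZMod r) A := fun g =>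
    { toFun := act g, map_add' := hadd g, map_smul' := fun c x => ZMod.map_smul (AddMonoidHom.mk' (act g) (hadd g)) c x }
  have e1 : f 1 = 1 := LinearMap.ext h1
  have e2 : ∀ g g', f (g * g') = f g * f g' := fun g g' => LinearMap.ext (h2 g g')
  exact ⟨{ toFun := f, map_one' := e1, map_mul' := e2 }, fun _ _ => rfl⟩

/-- The same from a bare action. -/
theorem exists_killed' [Finite G] {r : ℕ} (hr : r.Prime) {A : Type*} [AddCommGroup A] [Nontrivial A]
    (hrA : ∀ a : A, r • a = 0) (act : G → A → A) (hadd : ∀ g a b, act g (a + b) = act g a + act g b)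
    (h1 : ∀ a, act 1 a = a) (h2 : ∀ g g' a, act (g * g') a = act g (act g' a))
    (hfix : ∀ z : G, z ≠ 1 → ∀ a, act z a = a → a = 0) :
    ∃ x : MonoidAlgebra (ZMod r) G, x ≠ 0 ∧ ∀ z : G, z ≠ 1 → cs (ZMod r) z * x = 0 := by
  letI : Module (ZMod r) A := AddCommGroup.zmodModule hrA
  obtain ⟨ρ, hρ⟩ := exists_rho (r := r) act hadd h1 h2
  haveI := Fact.mk hr
  exact exists_killed ρ fun z hz a ha => hfix z hz a ((hρ z a).symm.trans ha)

/-- No nonzero integer lies in the left ideal of the sums over prime cyclic subgroups. -/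
theorem int_not_mem [Finite G] {r : ℕ} [hr : Fact r.Prime] (hrG : ¬ r ∣ Nat.card G)
    {x₀ : MonoidAlgebra (ZMod r) G} (hx₀ : x₀ ≠ 0) (hkill : ∀ z : G, z ≠ 1 → cs (ZMod r) z * x₀ = 0)
    (m : ℤ) (hm : m ≠ 0) :
    m • (1 : MonoidAlgebra ℤ G) ∉ AddSubgroup.closure {y | ∃ g z : G, (orderOf z).Prime ∧
      y = MonoidAlgebra.single g 1 * cs ℤ z} := by
  classical
  intro hmem
  haveI : NeZero (Nat.card G : ZMod r) := ⟨fun h => hrG ((ZMod.natCast_eq_zero_iff _ r).mp h)⟩
  -- the idempotent
  obtain ⟨L, hL⟩ : ∃ L : Ideal (MonoidAlgebra (ZMod r) G), ∀ x, x ∈ L ↔ ∀ z : G, z ≠ 1 → cs (ZMod r) z * x = 0 := by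
    refine ⟨{ carrier := {x | ∀ z : G, z ≠ 1 → cs (ZMod r) z * x = 0}
              add_mem' := fun {a b} ha hb z hz => by rw [mul_add, ha z hz, hb z hz, add_zero]
              zero_mem' := fun z _ => mul_zero _
              smul_mem' := ?_ }, fun x => Iff.rfl⟩
    intro a x hx z hz
    show cs (ZMod r) z * (a * x) = 0
    induction a using MonoidAlgebra.induction_linear with
    | zero => simp
    | add f g hf hg => rw [add_mul, mul_add, hf, hg, add_zero]
    | single h c =>
      rw [show MonoidAlgebra.single h c = c • MonoidAlgebra.single h (1 : ZMod r) by simp, smul_mul_assoc,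
        mul_smul_comm, ← mul_assoc, cs_mul_single, mul_assoc,
        hx _ (fun e => hz (by calc z = h * (h⁻¹ * z * h) * h⁻¹ := by group
                                _ = 1 := by rw [e]; group)), mul_zero, smul_zero]
  obtain ⟨ε, hεi, hεL⟩ := IsSemisimpleRing.ideal_eq_span_idempotent L
  have hε0 : ε ≠ 0 := fun h => hx₀ (by
    have : x₀ ∈ L := (hL _).mpr hkill
    rwa [hεL, h, Ideal.span_singleton_eq_bot.mpr rfl, Ideal.mem_bot] at this)
  have hεkill : ∀ (a : MonoidAlgebra (ZMod r) G) (z : G), z ≠ 1 → cs (ZMod r) z * (a * ε) = 0 := fun a z hz =>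
    (hL _).mp (L.mul_mem_left a (hεL ▸ Ideal.mem_span_singleton_self ε)) z hz
  -- lift it
  obtain ⟨n, hn, hmn⟩ : ∃ n, 1 ≤ n ∧ m.natAbs < r ^ n := ⟨m.natAbs + 1, by omega,
    (Nat.lt_succ_self _).trans (Nat.lt_pow_self hr.out.one_lt)⟩
  obtain ⟨red, hred⟩ : ∃ red : ZMod (r ^ n) →+* ZMod r, red = ZMod.castHom (dvd_pow_self r (by omega)) (ZMod r) :=
    ⟨_, rfl⟩
  obtain ⟨F, hF⟩ : ∃ F, F = MonoidAlgebra.mapRingHom G red := ⟨_, rfl⟩
  have hsurj : Function.Surjective F := by
    intro y
    induction y using MonoidAlgebra.induction_linear with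
    | zero => exact ⟨0, map_zero F⟩
    | add f g hf hg =>
      obtain ⟨a, rfl⟩ := hf; obtain ⟨b, rfl⟩ := hg; exact ⟨a + b, map_add F a b⟩
    | single h c =>
      obtain ⟨c', rfl⟩ : ∃ c', red c' = c := hred ▸ ZMod.castHom_surjective _ c
      exact ⟨MonoidAlgebra.single h c', by rw [hF]; simp⟩
  have hker : ∀ x, F x = 0 → ∃ t, x = (r : ZMod (r ^ n)) • t := by
    intro x hx
    have hc : ∀ g, ∃ c, MonoidAlgebra.coeff x g = (r : ZMod (r ^ n)) * c := by
      intro g
      have h1 : red (MonoidAlgebra.coeff x g) = 0 := by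
        have := congrArg (fun w => MonoidAlgebra.coeff w g) hx
        simpa [hF] using this
      haveI : NeZero (r ^ n) := ⟨(pow_pos hr.out.pos n).ne'⟩
      rw [← ZMod.natCast_zmod_val (MonoidAlgebra.coeff x g), hred, map_natCast,
        ZMod.natCast_eq_zero_iff] at h1
      obtain ⟨k, hk⟩ := h1
      exact ⟨k, by rw [← ZMod.natCast_zmod_val (MonoidAlgebra.coeff x g), hk, Nat.cast_mul]⟩
    choose c hc using hc
    have := Fintype.ofFinite G
    refine ⟨∑ g : G, MonoidAlgebra.single g (c g), ?_⟩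
    ext g
    simp [map_sum, Finsupp.single_apply, hc g]
  obtain ⟨e, hei, hFe⟩ := exists_isIdempotentElem_eq_of_ker_isNilpotent F (fun x hx => ⟨n, by
    obtain ⟨t, rfl⟩ := hker x hx
    rw [smul_pow, ← Nat.cast_pow, ZMod.natCast_self, zero_smul]⟩) ε (RingHom.mem_range.mpr (hsurj ε)) hεi
  -- the sums kill the lift
  have hstep : ∀ z : G, (orderOf z).Prime → ∀ j, ∃ t, cs (ZMod (r ^ n)) z * e = ((r : ZMod (r ^ n)) ^ j) • t := by
    intro z hz j
    have hz1 : z ≠ 1 := fun h => by rw [h, orderOf_one] at hz; exact Nat.not_prime_one hz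
    induction j with
    | zero => exact ⟨_, by rw [pow_zero, one_smul]⟩
    | succ j ih =>
      obtain ⟨t, ht⟩ := ih
      obtain ⟨t', ht'⟩ := hker (cs (ZMod (r ^ n)) z * (t * e)) (by
        rw [map_mul, map_mul, hFe, hF, cs_map]
        exact hεkill _ z hz1)
      obtain ⟨u, hu⟩ : IsUnit (orderOf z : ZMod (r ^ n)) := by
        rw [ZMod.isUnit_iff_coprime]
        refine Nat.Coprime.pow_right n ((Nat.coprime_primes hz hr.out).mpr fun h => hrG ?_)
        exact h ▸ orderOf_dvd_natCard z
      have e1 : (orderOf z : ZMod (r ^ n)) • (cs (ZMod (r ^ n)) z * e) =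
          ((r : ZMod (r ^ n)) ^ (j + 1)) • t' := by
        calc (orderOf z : ZMod (r ^ n)) • (cs (ZMod (r ^ n)) z * e)
            = cs (ZMod (r ^ n)) z * ((cs (ZMod (r ^ n)) z * e) * e) := by
              rw [mul_assoc _ e e, hei.eq, ← mul_assoc, cs_sq, smul_mul_assoc]
          _ = _ := by
              rw [ht, smul_mul_assoc, mul_smul_comm, ht', smul_smul, ← pow_succ]
      refine ⟨((u⁻¹ : (ZMod (r ^ n))ˣ) : ZMod (r ^ n)) • t', ?_⟩
      rw [smul_comm, ← e1, ← hu, smul_smul, Units.inv_mul, one_smul]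
  have hzero : ∀ z : G, (orderOf z).Prime → cs (ZMod (r ^ n)) z * e = 0 := by
    intro z hz
    obtain ⟨t, ht⟩ := hstep z hz n
    rw [ht, ← Nat.cast_pow, ZMod.natCast_self, zero_smul]
  -- the contradiction
  obtain ⟨Φ, hΦ⟩ : ∃ Φ, Φ = MonoidAlgebra.mapRingHom G (Int.castRingHom (ZMod (r ^ n))) := ⟨_, rfl⟩
  have key : ∀ y ∈ AddSubgroup.closure {y | ∃ g z : G, (orderOf z).Prime ∧
      y = MonoidAlgebra.single g 1 * cs ℤ z}, Φ y * e = 0 := by
    intro y hy
    induction hy using AddSubgroup.closure_induction with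
    | mem y hy =>
      obtain ⟨g, z, hz, rfl⟩ := hy
      rw [hΦ, map_mul, cs_map, mul_assoc, hzero z hz, mul_zero]
    | zero => rw [map_zero, zero_mul]
    | add a b _ _ ha hb => rw [map_add, add_mul, ha, hb, add_zero]
    | neg a _ ha => rw [map_neg, neg_mul, ha, neg_zero]
  have hall := key _ hmem
  rw [map_zsmul, map_one, smul_mul_assoc, one_mul, ← Int.cast_smul_eq_zsmul (ZMod (r ^ n))] at hall
  have hne : ∃ g, ¬ IsUnit (MonoidAlgebra.coeff e g) → False := by
    by_contra h
    push Not at h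
    refine hε0 ?_
    rw [← hFe]
    ext g
    have hg : ¬ IsUnit (MonoidAlgebra.coeff e g) := (h g).1
    haveI : NeZero (r ^ n) := ⟨(pow_pos hr.out.pos n).ne'⟩
    rw [← ZMod.natCast_zmod_val (MonoidAlgebra.coeff e g), ZMod.isUnit_iff_coprime,
      Nat.coprime_pow_right_iff (by omega), Nat.coprime_comm, hr.out.coprime_iff_not_dvd, not_not] at hg
    have h2 : red (MonoidAlgebra.coeff e g) = 0 := by
      rw [← ZMod.natCast_zmod_val (MonoidAlgebra.coeff e g), hred, map_natCast, ZMod.natCast_eq_zero_iff]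
      exact hg
    simpa [hF] using h2
  obtain ⟨g, hg⟩ := hne
  have h3 := congrArg (fun w => MonoidAlgebra.coeff w g) hall
  simp at h3
  have hu : IsUnit (MonoidAlgebra.coeff e g) := not_not.mp hg
  have h4 : (m : ZMod (r ^ n)) = 0 := by simpa [hu.mul_left_eq_zero] using h3
  rw [ZMod.intCast_zmod_eq_zero_iff_dvd] at h4
  have := Int.natAbs_dvd_natAbs.mpr h4
  rw [Int.natAbs_natCast] at this
  have := Nat.le_of_dvd (Int.natAbs_pos.mpr hm) this
  omega

/-- A functional killing the left ideal but not `1`. -/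
theorem exists_functional (h : ∀ m : ℤ, m ≠ 0 → m • (1 : MonoidAlgebra ℤ G) ∉ AddSubgroup.closure
    {y | ∃ g z : G, (orderOf z).Prime ∧ y = MonoidAlgebra.single g 1 * cs ℤ z}) :
    ∃ ψ : G → ℚ, ψ 1 ≠ 0 ∧ ∀ g z : G, (orderOf z).Prime → ∑ i ∈ Finset.range (orderOf z), ψ (g * z ^ i) = 0 := by
  classical
  obtain ⟨Φ, hΦ⟩ : ∃ Φ, Φ = MonoidAlgebra.mapRingHom G (Int.castRingHom ℚ) := ⟨_, rfl⟩
  obtain ⟨M, hM⟩ : ∃ M, M = AddSubgroup.closure
    {y | ∃ g z : G, (orderOf z).Prime ∧ y = MonoidAlgebra.single g 1 * cs ℤ z} := ⟨_, rfl⟩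
  obtain ⟨W, hW⟩ : ∃ W, W = Submodule.span ℚ {y : MonoidAlgebra ℚ G | ∃ g z : G, (orderOf z).Prime ∧
      y = MonoidAlgebra.single g 1 * cs ℚ z} := ⟨_, rfl⟩
  have hclear : ∀ x ∈ W, ∃ m : ℤ, m ≠ 0 ∧ ∃ y ∈ M, Φ y = m • x := by
    intro x hx
    rw [hW] at hx
    induction hx using Submodule.span_induction with
    | mem x hx =>
      obtain ⟨g, z, hz, rfl⟩ := hx
      refine ⟨1, one_ne_zero, MonoidAlgebra.single g 1 * cs ℤ z, by rw [hM]; exact AddSubgroup.subset_closure ⟨g, z, hz, rfl⟩, ?_⟩
      rw [one_smul, hΦ, map_mul, cs_map]; simp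
    | zero => exact ⟨1, one_ne_zero, 0, zero_mem M, by simp⟩
    | add a b _ _ ha hb =>
      obtain ⟨m1, h1, y1, hy1, e1⟩ := ha
      obtain ⟨m2, h2, y2, hy2, e2⟩ := hb
      refine ⟨m1 * m2, mul_ne_zero h1 h2, m2 • y1 + m1 • y2, add_mem (zsmul_mem hy1 _) (zsmul_mem hy2 _), ?_⟩
      rw [map_add, map_zsmul, map_zsmul, e1, e2, smul_smul, smul_smul, smul_add, mul_comm m1 m2]
    | smul c a _ ha =>
      obtain ⟨m1, h1, y1, hy1, e1⟩ := ha
      refine ⟨m1 * c.den, mul_ne_zero h1 (by exact_mod_cast c.den_pos.ne'), c.num • y1, zsmul_mem hy1 _, ?_⟩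
      rw [map_zsmul, e1, ← Int.cast_smul_eq_zsmul ℚ, ← Int.cast_smul_eq_zsmul ℚ, ← Int.cast_smul_eq_zsmul ℚ, smul_smul,
        smul_smul]
      congr 1
      push_cast
      rw [← Rat.mul_den_eq_num c]
      ring
  have hone : (1 : MonoidAlgebra ℚ G) ∉ W := by
    intro h1
    obtain ⟨m, hm, y, hy, e⟩ := hclear 1 h1
    refine h m hm ?_
    have hinj : Function.Injective Φ := by
      intro a b hab
      ext g
      have := congrArg (fun w => MonoidAlgebra.coeff w g) hab
      simpa [hΦ] using this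
    rw [← hM, show m • (1 : MonoidAlgebra ℤ G) = y from hinj (by rw [e, map_zsmul, map_one])]
    exact hy
  obtain ⟨f, hf1, hf⟩ := W.exists_dual_map_eq_bot_of_notMem hone inferInstance
  refine ⟨fun g => f (MonoidAlgebra.single g 1), show f (MonoidAlgebra.single 1 1) ≠ 0 by rwa [← MonoidAlgebra.one_def], fun g z hz => ?_⟩
  have h2 : f (MonoidAlgebra.single g 1 * cs ℚ z) = 0 := by
    have h3 : f (MonoidAlgebra.single g 1 * cs ℚ z) ∈ W.map f :=
      Submodule.mem_map_of_mem (hW ▸ Submodule.subset_span ⟨g, z, hz, rfl⟩)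
    rw [hf, Submodule.mem_bot] at h3
    exact h3
  rw [cs, Finset.mul_sum, map_sum] at h2
  simpa [single_mul_single] using h2


/-- Let G be a finite group that occurs as a Frobenius complement. Then G has a faithful irreducible representation over an algebraic closure of the rationals in which no non-identity element of G has 1 as an eigenvalue: there are n ≥ 1 and an injective homomorphism ρ from G to GL(n) over that field, with no invariant subspace other than 0 and the whole space, such that for g ≠ 1 the only vector fixed by ρ(g) is 0. -/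
theorem result {G : Type*} [Group G] [Finite G]
    (hFC : ∃ (L : Type) (_ : Group L) (_ : Finite L) (H : Subgroup L), Cfsg.IsFrobeniusComplement H ∧ Nonempty (G ≃* H)) :
    ∃ (n : ℕ) (ρ : G →* GL (Fin n) (AlgebraicClosure ℚ)), 0 < n ∧ Function.Injective ρ ∧
      (∀ W : Submodule (AlgebraicClosure ℚ) (Fin n → AlgebraicClosure ℚ),
        (∀ g : G, ∀ w ∈ W, ((ρ g : GL (Fin n) (AlgebraicClosure ℚ)) : Matrix (Fin n) (Fin n) (AlgebraicClosure ℚ)).mulVec w ∈ W) → W = ⊥ ∨ W = ⊤) ∧
      ∀ g : G, g ≠ 1 → ∀ v : Fin n → AlgebraicClosure ℚ,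
        ((ρ g : GL (Fin n) (AlgebraicClosure ℚ)) : Matrix (Fin n) (Fin n) (AlgebraicClosure ℚ)).mulVec v = v → v = 0 := by
  classical
  obtain ⟨L, _, _, H, hH, ⟨e⟩⟩ := hFC
  -- a module
  obtain ⟨N, -, hNn, hcN⟩ := CfsgLib.Frob.exists_kernel hH
  have hN1 : N ≠ ⊥ := CfsgLib.Frob.kernel_ne_bot hH hcN
  obtain ⟨V, hVc, hV1, hHV, hfpf⟩ := CfsgLib.Frob.exists_abelian_module hcN hN1 hH.1
    fun h hh h1 => CfsgLib.Frob.fpf_of_frob hcN.disjoint hH hh h1
  obtain ⟨r, hr, hrV⟩ := Nat.exists_prime_and_dvd (n := Nat.card V) (fun h => hV1 (Subgroup.card_eq_one.mp h))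
  haveI := Fact.mk hr
  have hrG : ¬ r ∣ Nat.card G := by
    intro hd
    obtain ⟨g, hg⟩ := exists_prime_orderOf_dvd_card' r hd
    have hgo : orderOf ((e g : H) : L) = r := by rw [Subgroup.orderOf_coe, e.orderOf_eq, hg]
    exact CfsgLib.Frob.not_dvd_card_of_fpf (hHV (e g).2) hgo
      (hfpf _ (e g).2 fun h => by rw [h, orderOf_one] at hgo; exact hr.ne_one hgo.symm) hrV
  -- its elements of order `r`
  haveI : IsMulCommutative V := hVc
  letI : CommGroup V := { (inferInstance : Group V) with mul_comm := fun a b => hVc.is_comm.comm a b }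
  let A : Subgroup V :=
    { carrier := {v | v ^ r = 1}
      mul_mem' := fun {a b} (ha : a ^ r = 1) (hb : b ^ r = 1) =>
        show (a * b) ^ r = 1 by rw [mul_pow, ha, hb, one_mul]
      one_mem' := one_pow r
      inv_mem' := fun {a} (ha : a ^ r = 1) => show a⁻¹ ^ r = 1 by rw [inv_pow, ha, inv_one] }
  have hrA : ∀ a : Additive A, r • a = 0 := fun a =>
    Additive.toMul.injective (Subtype.ext (Additive.toMul a).2)
  haveI : Nontrivial (Additive A) := by
    obtain ⟨v, hv⟩ := exists_prime_orderOf_dvd_card' r hrV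
    refine ⟨⟨Additive.ofMul ⟨v, orderOf_dvd_iff_pow_eq_one.mp (dvd_of_eq hv)⟩, 0, fun h => ?_⟩⟩
    have h' : (⟨v, orderOf_dvd_iff_pow_eq_one.mp (dvd_of_eq hv)⟩ : A) = 1 := h
    have : v = 1 := congrArg Subtype.val h'
    rw [this, orderOf_one] at hv
    exact hr.ne_one hv.symm
  have hconj : ∀ (g : G) (v : V), ((e g : H) : L) * v * ((e g : H) : L)⁻¹ ∈ V := fun g v =>
    (Subgroup.mem_normalizer_iff.mp (hHV (e g).2) v).mp v.2
  let act : G → Additive A → Additive A := fun g a => Additive.ofMul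
    ⟨⟨_, hconj g (Additive.toMul a).1⟩, show (⟨_, hconj g (Additive.toMul a).1⟩ : V) ^ r = 1 from Subtype.ext (by
      rw [SubgroupClass.coe_pow, conj_pow, ← SubgroupClass.coe_pow, (Additive.toMul a).2]
      simp)⟩
  have hact : ∀ g a, (((Additive.toMul (act g a) : A) : V) : L) =
      ((e g : H) : L) * (((Additive.toMul a : A) : V) : L) * ((e g : H) : L)⁻¹ := fun _ _ => rfl
  have hadd : ∀ g a b, act g (a + b) = act g a + act g b := fun g a b =>
    Additive.toMul.injective (Subtype.ext (Subtype.ext (by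
      show _ = (((Additive.toMul (act g a) : A) : V) : L) * (((Additive.toMul (act g b) : A) : V) : L)
      rw [hact, hact, hact, toMul_add, Subgroup.coe_mul, Subgroup.coe_mul]
      group)))
  obtain ⟨x₀, hx₀, hkill⟩ := exists_killed' (r := r) (A := Additive A) hr hrA act hadd
    (fun a => Additive.toMul.injective (Subtype.ext (Subtype.ext (by rw [hact]; simp))))
    (fun g g' a => Additive.toMul.injective (Subtype.ext (Subtype.ext (by
      rw [hact, hact, hact, map_mul, Subgroup.coe_mul]; group))))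
    (fun z hz a ha => by
      have h1 : ((e z : H) : L) * (((Additive.toMul a : A) : V) : L) * ((e z : H) : L)⁻¹ =
          (((Additive.toMul a : A) : V) : L) := by rw [← hact]; exact congrArg (fun w => (((Additive.toMul w : A) : V) : L)) ha
      have h2 : (((Additive.toMul a : A) : V) : L) ∈ V ⊓ Subgroup.centralizer {((e z : H) : L)} :=
        ⟨((Additive.toMul a : A) : V).2, Subgroup.mem_centralizer_singleton_iff.mpr (mul_inv_eq_iff_eq_mul.mp h1).symm⟩
      rw [hfpf _ (e z).2 (fun h => hz (e.injective (Subtype.ext (h.trans (by simp))))), Subgroup.mem_bot] at h2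
      exact Additive.toMul.injective (Subtype.ext (Subtype.ext h2)))
  obtain ⟨ψ, hψ1, hψ⟩ := exists_functional (int_not_mem hrG hx₀ hkill)
  -- over the algebraic closure
  let K := AlgebraicClosure ℚ
  obtain ⟨Ψ, hΨ⟩ : ∃ Ψ : MonoidAlgebra K G →+ K, ∀ g c, Ψ (MonoidAlgebra.single g c) = c * (ψ g : K) :=
    ⟨(Finsupp.liftAddHom fun g => AddMonoidHom.mulRight (ψ g : K)).comp MonoidAlgebra.coeffAddEquiv.toAddMonoidHom,
      fun g c => by simp⟩
  have hJ : (1 : MonoidAlgebra K G) ∉ Ideal.span {y | ∃ z : G, (orderOf z).Prime ∧ y = cs K z} := by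
    intro h1
    have key : ∀ x ∈ Ideal.span {y | ∃ z : G, (orderOf z).Prime ∧ y = cs K z}, ∀ a, Ψ (a * x) = 0 := by
      intro x hx
      induction hx using Submodule.span_induction with
      | mem x hx =>
        obtain ⟨z, hz, rfl⟩ := hx
        intro a
        induction a using MonoidAlgebra.induction_linear with
        | zero => simp
        | add f g hf hg => rw [add_mul, map_add, hf, hg, add_zero]
        | single g c =>
          rw [cs, Finset.mul_sum, map_sum]
          simp only [single_mul_single, mul_one, hΨ]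
          rw [← Finset.mul_sum, ← Rat.cast_sum, hψ g z hz, Rat.cast_zero, mul_zero]
      | zero => intro a; simp
      | add a b _ _ ha hb => intro c; rw [mul_add, map_add, ha, hb, add_zero]
      | smul c a _ ha => intro d; rw [smul_eq_mul, ← mul_assoc]; exact ha _
    have := key 1 h1 1
    rw [mul_one, MonoidAlgebra.one_def, hΨ, one_mul, Rat.cast_eq_zero] at this
    exact hψ1 this
  obtain ⟨m, hmmax, hJm⟩ := Ideal.exists_le_maximal (Ideal.span {y | ∃ z : G, (orderOf z).Prime ∧ y = cs K z}) fun h => hJ (by rw [h]; exact Submodule.mem_top)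
  haveI : IsSimpleModule (MonoidAlgebra K G) (MonoidAlgebra K G ⧸ m) :=
    isSimpleModule_iff_isCoatom.mpr (Ideal.isMaximal_def.mp hmmax)
  haveI : Finite G := Finite.of_equiv _ e.symm.toEquiv
  haveI : FiniteDimensional K (MonoidAlgebra K G) :=
    Module.Finite.equiv (MonoidAlgebra.coeffLinearEquiv K).symm
  haveI : FiniteDimensional K (MonoidAlgebra K G ⧸ m) :=
    Module.Finite.of_surjective ((Submodule.mkQ m).restrictScalars K) (Submodule.mkQ_surjective m)
  obtain ⟨W, hW⟩ : ∃ W, W = Module.finrank K (MonoidAlgebra K G ⧸ m) := ⟨_, rfl⟩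
  let b : Module.Basis (Fin W) K (MonoidAlgebra K G ⧸ m) := (Module.finBasis K _).reindex (finCongr hW.symm)
  let σ : G →* Module.End K (MonoidAlgebra K G ⧸ m) :=
    (Algebra.lsmul K K (MonoidAlgebra K G ⧸ m)).toMonoidHom.comp (MonoidAlgebra.of K G)
  let μ : G →* Matrix (Fin W) (Fin W) K := (LinearMap.toMatrixAlgEquiv b).toMulEquiv.toMonoidHom.comp σ
  have hμ : ∀ (g : G) (v : MonoidAlgebra K G ⧸ m),
      (μ g).mulVec (b.equivFun v) = b.equivFun (MonoidAlgebra.single g (1 : K) • v) := fun g v =>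
    LinearMap.toMatrix_mulVec_repr b b (σ g) v
  have hne : Nontrivial (MonoidAlgebra K G ⧸ m) := IsSimpleModule.nontrivial (MonoidAlgebra K G) _
  have hfpfK : ∀ g : G, g ≠ 1 → ∀ v : MonoidAlgebra K G ⧸ m, MonoidAlgebra.single g (1 : K) • v = v → v = 0 := by
    intro g hg v hv
    obtain ⟨q, hq, hqd⟩ := Nat.exists_prime_and_dvd (n := orderOf g) (fun h => hg (orderOf_eq_one_iff.mp h))
    have hzo : orderOf (g ^ (orderOf g / q)) = q := orderOf_pow_orderOf_div (orderOf_pos g).ne' hqd
    obtain ⟨z, hz⟩ : ∃ z, g ^ (orderOf g / q) = z := ⟨_, rfl⟩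
    rw [hz] at hzo
    have hpow : ∀ i : ℕ, MonoidAlgebra.single (g ^ i) (1 : K) • v = v := by
      intro i
      induction i with
      | zero => rw [pow_zero, ← MonoidAlgebra.one_def, one_smul]
      | succ i ih =>
        rw [show MonoidAlgebra.single (g ^ (i + 1)) (1 : K) =
          MonoidAlgebra.single (g ^ i) 1 * MonoidAlgebra.single g 1 by rw [single_mul_single, one_mul, pow_succ],
          mul_smul, hv, ih]
    have h0 : cs K z • v = 0 := by
      clear hpow hv
      induction v using Submodule.Quotient.induction_on with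
      | H a =>
        rw [← Submodule.Quotient.mk_smul, Submodule.Quotient.mk_eq_zero, smul_eq_mul]
        induction a using MonoidAlgebra.induction_linear with
        | zero => simp
        | add f g hf hg => rw [mul_add]; exact m.add_mem (hf ..) (hg ..)
        | single h c =>
          rw [show MonoidAlgebra.single h c = MonoidAlgebra.single h (1 : K) * MonoidAlgebra.single 1 c by simp,
            ← mul_assoc, cs_mul_single, mul_assoc]
          refine m.mul_mem_left _ ?_
          have : ∀ x : MonoidAlgebra K G, x * MonoidAlgebra.single 1 c = MonoidAlgebra.single 1 c * x := fun x =>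
            (MonoidAlgebra.single_one_comm c x).symm
          rw [this]
          refine m.mul_mem_left _ (hJm (Ideal.subset_span ⟨_, ?_, rfl⟩))
          rw [show h⁻¹ * z * h = MulAut.conj h⁻¹ z by simp, (MulAut.conj h⁻¹).orderOf_eq, hzo]
          exact hq
    rw [cs, hzo, Finset.sum_smul, Finset.sum_congr rfl fun i _ => show _ = v by rw [← hz, ← pow_mul]; exact hpow _,
      Finset.sum_const, Finset.card_range, ← Nat.cast_smul_eq_nsmul K, smul_eq_zero] at h0
    exact h0.resolve_left (Nat.cast_ne_zero.mpr hq.ne_zero)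
  refine ⟨W, μ.toHomUnits, ?_, ?_, ?_, ?_⟩
  · rw [hW]; exact Module.finrank_pos
  · refine (injective_iff_map_eq_one _).mpr fun g hg => ?_
    by_contra h1
    obtain ⟨v, hv⟩ := exists_ne (0 : MonoidAlgebra K G ⧸ m)
    refine hv (hfpfK g h1 v (b.equivFun.injective ?_))
    rw [← hμ, show μ g = 1 from congrArg Units.val hg, Matrix.one_mulVec]
  · intro Wsub hWsub
    let S : Submodule (MonoidAlgebra K G) (MonoidAlgebra K G ⧸ m) :=
      { carrier := {v | b.equivFun v ∈ Wsub}
        add_mem' := fun {x y} hx hy => by show b.equivFun (x + y) ∈ Wsub; rw [map_add]; exact add_mem hx hy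
        zero_mem' := by show b.equivFun 0 ∈ Wsub; rw [map_zero]; exact zero_mem _
        smul_mem' := fun a v hv => by
          show b.equivFun (a • v) ∈ Wsub
          induction a using MonoidAlgebra.induction_linear with
          | zero => rw [zero_smul, map_zero]; exact zero_mem _
          | add f g hf hg => rw [add_smul, map_add]; exact add_mem hf hg
          | single g c =>
            rw [show MonoidAlgebra.single g c = c • MonoidAlgebra.single g (1 : K) by simp, smul_assoc, map_smul, ← hμ]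
            exact Wsub.smul_mem c (hWsub g _ hv) }
    rcases eq_bot_or_eq_top S with h | h
    · left
      rw [eq_bot_iff]
      intro w hw
      have hmem : b.equivFun.symm w ∈ S := by show b.equivFun _ ∈ Wsub; rwa [LinearEquiv.apply_symm_apply]
      rw [h, Submodule.mem_bot, LinearEquiv.map_eq_zero_iff] at hmem
      exact hmem
    · right
      rw [eq_top_iff]
      intro w _
      have hmem : b.equivFun.symm w ∈ S := by rw [h]; trivial
      change b.equivFun _ ∈ Wsub at hmem
      rwa [LinearEquiv.apply_symm_apply] at hmem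
  · intro g hg w hw
    obtain ⟨v, rfl⟩ := b.equivFun.surjective w
    rw [hfpfK g hg v (b.equivFun.injective ((hμ g v).symm.trans hw)), map_zero]

end Cfsg.Agent.S3357
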