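import Cfsg.Statements.S3361
import Mathlib
import Cfsg.Agent.Lib.RegularLinear.Cases

set_option autoImplicit false
open Cfsg

namespace Cfsg.Agent.S3361



/-- Let q be a prime and V a non-trivial finite vector space over the field with q elements, and let G be a finite solvable group acting faithfully and linearly on V and regularly on the non-zero vectors (transitively, with only the identity fixing a non-zero vector). Then either V can be identified with the additive group of a finite field F so that every element of G acts as x ↦ a·σ(x) (a ∈ F, σ a field automorphism), or V has 5^2, 7^2, 11^2 or 23^2 elements. Moreover, if q ≠ 2 then G has a normal subgroup of index 2, except that when V has 25 elements G may be isomorphic to SL(2,3) and when V has 121 elements G may be isomorphic to SL(2,3) × C₅. -/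
theorem result
    (q : ℕ) [Fact q.Prime] {V : Type*} [AddCommGroup V] [Module (ZMod q) V] [Finite V] [Nontrivial V]
    {G : Type*} [Group G] [Finite G] (hsol : Group.IsSolvable G)
    (ρ : G →* (V ≃ₗ[ZMod q] V)) (hρ : Function.Injective ρ)
    (htrans : ∀ v w : V, v ≠ 0 → w ≠ 0 → ∃ g : G, ρ g v = w)
    (hreg : ∀ v : V, v ≠ 0 → ∀ g : G, ρ g v = v → g = 1) :
    ((∃ (F : Type) (_ : Field F) (_ : Fintype F) (e : V ≃+ F),
        ∀ g : G, ∃ (a : F) (σ : F ≃+* F), ∀ v : V, e (ρ g v) = a * σ (e v)) ∨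
      Nat.card V ∈ ({25, 49, 121, 529} : Set ℕ)) ∧
    (q ≠ 2 → (∃ N : Subgroup G, N.Normal ∧ N.index = 2) ∨
      (Nat.card V = 25 ∧ Nonempty (G ≃* Matrix.SpecialLinearGroup (Fin 2) (ZMod 3))) ∨
      (Nat.card V = 121 ∧ Nonempty (G ≃* Matrix.SpecialLinearGroup (Fin 2) (ZMod 3) × Multiplicative (ZMod 5)))) := by
----
  haveI : Group.IsSolvable G := hsol
  have hfree : ∀ (g : G) (v : V), v ≠ 0 → ρ g v = v → g = 1 := fun g v hv => hreg v hv g
  have hcardV : Nat.card V = q ^ Module.finrank (ZMod q) V := by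
    rw [Module.natCard_eq_pow_finrank (K := ZMod q), Nat.card_zmod]
  have hn0 : 0 < Module.finrank (ZMod q) V := Module.finrank_pos
  have hsemi : CfsgLib.RegularLinear.Semi ρ → _ := fun h =>
    show ((∃ (F : Type) (_ : Field F) (_ : Fintype F) (e : V ≃+ F),
        ∀ g : G, ∃ (a : F) (σ : F ≃+* F), ∀ v : V, e (ρ g v) = a * σ (e v)) ∨
      Nat.card V ∈ ({25, 49, 121, 529} : Set ℕ)) ∧
    (q ≠ 2 → (∃ N : Subgroup G, N.Normal ∧ N.index = 2) ∨
      (Nat.card V = 25 ∧ Nonempty (G ≃* Matrix.SpecialLinearGroup (Fin 2) (ZMod 3))) ∨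
      (Nat.card V = 121 ∧ Nonempty (G ≃* Matrix.SpecialLinearGroup (Fin 2) (ZMod 3) × Multiplicative (ZMod 5))))
    from ⟨Or.inl h, fun h2 => Or.inl (CfsgLib.RegularLinear.index_two_of_semi hfree htrans h h2)⟩
  rcases Nat.lt_or_ge 2 (Module.finrank (ZMod q) V) with h3 | h3
  · exact hsemi (CfsgLib.RegularLinear.semi_of_three_le hfree htrans h3)
  rcases Nat.lt_or_ge 1 (Module.finrank (ZMod q) V) with h1 | h1
  · have hn : Module.finrank (ZMod q) V = 2 := by omega
    rcases CfsgLib.RegularLinear.two_dim hfree htrans hn with h | ⟨hq', h⟩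
    · exact hsemi h
    rw [hn] at hcardV
    refine ⟨Or.inr ?_, fun _ => ?_⟩
    · rw [hcardV]
      rcases hq' with rfl | rfl | rfl | rfl <;> simp
    · rcases h with h | ⟨rfl, h⟩ | ⟨rfl, h⟩
      · exact Or.inl h
      · exact Or.inr (Or.inl ⟨by simpa using hcardV, h⟩)
      · exact Or.inr (Or.inr ⟨by simpa using hcardV, h⟩)
  · refine hsemi (CfsgLib.RegularLinear.semi_of_dvd hfree ⊥ (fun a ha b hb => ?_) fun i hi hin => by omega)
    rw [Subgroup.mem_bot.mp ha, Subgroup.mem_bot.mp hb]

end Cfsg.Agent.S3361
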