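import Cfsg.Statements.S3362
import Mathlib

set_option autoImplicit false
open Cfsg

namespace Cfsg.Agent.S3362

/-- the eight permutations -/
def g8 : Fin 8 → Equiv.Perm (Fin 12)
  | 0 => Equiv.swap (3 : Fin 12) 5 * Equiv.swap (3 : Fin 12) 4 * Equiv.swap (6 : Fin 12) 8 * Equiv.swap (6 : Fin 12) 7 * Equiv.swap (9 : Fin 12) 11 * Equiv.swap (9 : Fin 12) 10
  | 1 => Equiv.swap (3 : Fin 12) 9 * Equiv.swap (3 : Fin 12) 6 * Equiv.swap (4 : Fin 12) 10 * Equiv.swap (4 : Fin 12) 7 * Equiv.swap (5 : Fin 12) 11 * Equiv.swap (5 : Fin 12) 8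
  | 2 => Equiv.swap (4 : Fin 12) 9 * Equiv.swap (4 : Fin 12) 5 * Equiv.swap (4 : Fin 12) 6 * Equiv.swap (7 : Fin 12) 10 * Equiv.swap (7 : Fin 12) 11 * Equiv.swap (7 : Fin 12) 8
  | 3 => Equiv.swap (4 : Fin 12) 11 * Equiv.swap (4 : Fin 12) 5 * Equiv.swap (4 : Fin 12) 7 * Equiv.swap (6 : Fin 12) 8 * Equiv.swap (6 : Fin 12) 9 * Equiv.swap (6 : Fin 12) 10
  | 4 => Equiv.swap (4 : Fin 12) 8 * Equiv.swap (4 : Fin 12) 5 * Equiv.swap (4 : Fin 12) 10 * Equiv.swap (6 : Fin 12) 7 * Equiv.swap (6 : Fin 12) 9 * Equiv.swap (6 : Fin 12) 11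
  | 5 => Equiv.swap (0 : Fin 12) 3 * Equiv.swap (6 : Fin 12) 7 * Equiv.swap (8 : Fin 12) 10 * Equiv.swap (9 : Fin 12) 11
  | 6 => Equiv.swap (0 : Fin 12) 1 * Equiv.swap (6 : Fin 12) 9 * Equiv.swap (7 : Fin 12) 10 * Equiv.swap (8 : Fin 12) 11
  | 7 => Equiv.swap (1 : Fin 12) 2 * Equiv.swap (6 : Fin 12) 11 * Equiv.swap (7 : Fin 12) 9 * Equiv.swap (8 : Fin 12) 10

def tab (j : Fin 8) (p : Fin 12) : Fin 12 :=
  (( [[0, 1, 2, 4, 5, 3, 7, 8, 6, 10, 11, 9],
    [0, 1, 2, 6, 7, 8, 9, 10, 11, 3, 4, 5],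
    [0, 1, 2, 3, 6, 9, 5, 8, 11, 4, 7, 10],
    [0, 1, 2, 3, 7, 11, 10, 5, 6, 8, 9, 4],
    [0, 1, 2, 3, 10, 8, 11, 6, 4, 7, 5, 9],
    [3, 1, 2, 0, 4, 5, 7, 6, 10, 11, 8, 9],
    [1, 0, 2, 3, 4, 5, 9, 10, 11, 6, 7, 8],
    [0, 2, 1, 3, 4, 5, 11, 9, 10, 7, 8, 6]] : List (List (Fin 12))).getD j.val []).getD p.val 0

def T0 : List (List (Fin 8)) := [[], [7], [6, 7], [5, 6, 7], [0, 5, 6, 7], [1, 5, 6, 7], [0, 0, 5, 6, 7], [1, 0, 5, 6, 7], [4, 0, 5, 6, 7], [1, 1, 5, 6, 7], [4, 1, 5, 6, 7], [1, 0, 0, 5, 6, 7]]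
def L0 : List (Fin 8) := [0, 1, 2, 3, 4, 5, 6, 7]
def C0 : List (List (ℕ × List (Fin 8))) :=
  [[(0, [0]), (1, [0]), (2, [0]), (4, []), (6, []), (7, []), (3, []), (11, []), (10, []), (8, [3, 4]), (9, [2]), (5, [])],
    [(0, [1]), (1, [4, 1, 2, 3]), (2, [1, 0]), (5, []), (7, []), (9, []), (11, []), (8, [3, 4]), (4, [2]), (3, []), (6, [2]), (10, [3, 4])],
    [(0, [2]), (1, [4, 2]), (2, [3]), (3, [2, 3]), (5, [2, 3]), (6, [2, 3]), (9, [2, 3]), (11, [2, 3]), (7, [3]), (4, [2, 3]), (8, [4]), (10, [3])],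
    [(0, [3]), (1, [3, 4]), (2, [2, 3]), (3, [3]), (7, [3]), (8, [4]), (10, [4]), (6, [3]), (9, [4]), (11, [3]), (4, [4]), (5, [3])],
    [(0, [4]), (1, [2, 3]), (2, [3, 4]), (3, [2]), (8, []), (10, []), (11, [2]), (5, [2]), (6, [2, 2]), (7, [2]), (9, [2, 2]), (4, [2])],
    [(0, [5]), (1, [5]), (3, []), (2, []), (4, [0, 0, 2, 2]), (7, [4, 1, 3]), (6, [0, 2, 2]), (5, [4, 0, 4, 2]), (11, [1, 2]), (10, [4, 0, 2, 3]), (9, [1, 0, 0]), (8, [0, 0, 3, 4])],
    [(0, [6]), (2, []), (1, []), (3, [5]), (4, [5]), (9, [5]), (6, [5]), (8, [5, 4, 2]), (7, [5, 2]), (5, [5]), (11, [5, 2]), (10, [5, 4, 2])],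
    [(1, []), (0, []), (2, [6]), (3, [6]), (4, [6]), (10, [6, 2]), (6, [6]), (9, [6]), (11, [6, 2]), (7, [6]), (5, [6, 2]), (8, [6, 2])]]

def T1 : List (List (Fin 8)) := [[], [6], [5, 6], [0, 5, 6], [1, 5, 6], [0, 0, 5, 6], [1, 0, 5, 6], [4, 0, 5, 6], [1, 1, 5, 6], [4, 1, 5, 6], [1, 0, 0, 5, 6]]
def L1 : List (Fin 8) := [0, 1, 2, 3, 4, 5, 6]
def C1 : List (List (ℕ × List (Fin 8))) :=
  [[(0, [0]), (1, [0]), (3, []), (5, []), (6, []), (2, []), (10, []), (9, []), (7, [3]), (8, [4, 2]), (4, [])],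
    [(0, [1]), (1, [1, 1]), (4, []), (6, []), (8, []), (10, []), (7, [3]), (3, [4, 2]), (2, []), (5, [4, 2]), (9, [3])],
    [(0, [2]), (1, [3, 4]), (2, [4]), (4, [4]), (5, [4]), (8, [4]), (10, [4]), (6, [3, 4]), (3, [4]), (7, [2, 3]), (9, [3, 4])],
    [(0, [3]), (1, [4]), (2, [3, 4]), (6, [3, 4]), (7, [2, 3]), (9, [2, 3]), (5, [3, 4]), (8, [2, 3]), (10, [3, 4]), (3, [2, 3]), (4, [3, 4])],
    [(0, [4]), (1, [3]), (2, [4, 2]), (7, []), (9, []), (10, [4, 2]), (4, [4, 2]), (5, [2, 2]), (6, [4, 2]), (8, [2, 2]), (3, [4, 2])],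
    [(0, [5]), (2, []), (1, []), (3, [0, 0, 2, 2]), (6, [1, 4, 2]), (5, [0, 2, 2]), (4, [1, 0, 0, 3]), (10, [4, 1, 2]), (9, [1, 0, 0]), (8, [4, 0, 2, 3]), (7, [0, 0, 3])],
    [(1, []), (0, []), (2, [5]), (3, [5]), (8, [5]), (5, [5]), (7, [5, 2]), (6, [5, 4, 2]), (4, [5]), (10, [5, 4, 2]), (9, [5, 2])]]

def T2 : List (List (Fin 8)) := [[], [5], [0, 5], [1, 5], [0, 0, 5], [1, 0, 5], [4, 0, 5], [1, 1, 5], [4, 1, 5], [1, 0, 0, 5]]
def L2 : List (Fin 8) := [0, 1, 2, 3, 4, 5]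
def C2 : List (List (ℕ × List (Fin 8))) :=
  [[(0, [0]), (2, []), (4, []), (5, []), (1, []), (9, []), (8, []), (6, [4]), (7, [2, 3]), (3, [])],
    [(0, [1]), (3, []), (5, []), (7, []), (9, []), (6, [4]), (2, [2, 3]), (1, []), (4, [2, 3]), (8, [4])],
    [(0, [2]), (1, [3]), (3, [3]), (4, [3]), (7, [3]), (9, [3]), (5, [2]), (2, [3]), (6, [4, 2]), (8, [2])],
    [(0, [3]), (1, [2]), (5, [2]), (6, [4, 2]), (8, [4, 2]), (4, [2]), (7, [4, 2]), (9, [2]), (2, [4, 2]), (3, [2])],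
    [(0, [4]), (1, [2, 3]), (6, []), (8, []), (9, [2, 3]), (3, [2, 3]), (4, [2, 2]), (5, [2, 3]), (7, [2, 2]), (2, [2, 3])],
    [(1, []), (0, []), (2, [0, 0, 2, 2]), (5, [1, 1, 2, 3]), (4, [0, 2, 2]), (3, [4, 1]), (9, [1, 0, 0, 2, 3]), (8, [4, 1, 2, 3]), (7, [1, 0]), (6, [0, 0, 4])]]

def T3 : List (List (Fin 8)) := [[], [0], [1], [0, 0], [1, 0], [4, 0], [1, 1], [4, 1], [1, 0, 0]]
def L3 : List (Fin 8) := [0, 1, 2, 3, 4]
def C3 : List (List (ℕ × List (Fin 8))) :=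
  [[(1, []), (3, []), (4, []), (0, []), (8, []), (7, []), (5, [2, 3]), (6, [4]), (2, [])],
    [(2, []), (4, []), (6, []), (8, []), (5, [2, 3]), (1, [4]), (0, []), (3, [4]), (7, [2, 3])],
    [(0, [2]), (2, [2]), (3, [2]), (6, [2]), (8, [2]), (4, [3]), (1, [2]), (5, [3, 4]), (7, [3])],
    [(0, [3]), (4, [3]), (5, [3, 4]), (7, [3, 4]), (3, [3]), (6, [3, 4]), (8, [3]), (1, [3, 4]), (2, [3])],
    [(0, [4]), (5, []), (7, []), (8, [4]), (2, [4]), (3, [2, 2]), (4, [4]), (6, [2, 2]), (1, [4])]]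

def T4 : List (List (Fin 8)) := [[], [2], [3], [4], [2, 2], [4, 2], [2, 3], [3, 4]]
def L4 : List (Fin 8) := [2, 3, 4]
def C4 : List (List (ℕ × List (Fin 8))) :=
  [[(1, []), (4, []), (6, []), (2, []), (7, []), (3, []), (5, []), (0, [])],
    [(2, []), (3, []), (4, []), (7, []), (5, []), (0, []), (1, []), (6, [])],
    [(3, []), (5, []), (1, []), (4, []), (6, []), (7, []), (0, []), (2, [])]]

def L5 : List (Fin 8) := []
theorem g8_tab : ∀ j p, g8 j p = tab j p := by decide +kernel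

def W (w : List (Fin 8)) : Equiv.Perm (Fin 12) := (w.map g8).prod

def ev (w : List (Fin 8)) (p : Fin 12) : Fin 12 := w.foldr tab p

theorem W_apply (w : List (Fin 8)) (p : Fin 12) : W w p = ev w p := by
  induction w with
  | nil => rfl
  | cons j w ih =>
    rw [W, List.map_cons, List.prod_cons, Equiv.Perm.mul_apply, ← W, ih, g8_tab]
    rfl

theorem W_append (a b : List (Fin 8)) : W (a ++ b) = W a * W b := by simp [W]

def H (L : List (Fin 8)) : Subgroup (Equiv.Perm (Fin 12)) := Subgroup.closure (g8 '' {j | j ∈ L})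

theorem W_mem {L : List (Fin 8)} {w : List (Fin 8)} (h : w.all (fun j => L.contains j) = true) : W w ∈ H L :=
  (H L).list_prod_mem fun x hx => by
    obtain ⟨j, hj, rfl⟩ := List.mem_map.1 hx
    exact Subgroup.subset_closure ⟨j, List.contains_iff_mem.1 (List.all_eq_true.1 h j hj), rfl⟩

def good (T : List (List (Fin 8))) (L L' : List (Fin 8)) (C : List (List (ℕ × List (Fin 8)))) : Bool :=
  T.contains [] && T.all (fun r => r.all fun j => L.contains j) && L'.all (fun j => L.contains j) &&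
  (List.range L.length).all (fun a => (List.range T.length).all fun k =>
    let c := (C.getD a []).getD k (0, [])
    decide (c.1 < T.length) && c.2.all (fun j => L'.contains j) &&
      (List.finRange 12).all fun p => ev (L.getD a 0 :: T.getD k []) p == ev (T.getD c.1 []) (ev c.2 p))

open scoped Pointwise in
theorem decomp {T : List (List (Fin 8))} {L L' : List (Fin 8)} {C : List (List (ℕ × List (Fin 8)))}
    (h : good T L L' C = true) : ∀ g, g ∈ H L ↔ ∃ r ∈ T, ∃ x ∈ H L', g = W r * x := by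
  simp only [good, Bool.and_eq_true, List.all_eq_true, List.mem_range] at h
  obtain ⟨⟨⟨hnil, hT⟩, hL⟩, hcl⟩ := h
  have hle : H L' ≤ H L := by
    refine Subgroup.closure_mono ?_
    rintro _ ⟨j, hj, rfl⟩
    exact ⟨j, List.contains_iff_mem.1 (hL j hj), rfl⟩
  set S : Set (Equiv.Perm (Fin 12)) := {g | ∃ r ∈ T, ∃ x ∈ H L', g = W r * x} with hS
  have hgen : ∀ j ∈ L, g8 j ∈ MulAction.stabilizer (Equiv.Perm (Fin 12)) S := by
    intro j hj
    rw [MulAction.mem_stabilizer_set' (Set.toFinite _)]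
    rintro _ ⟨r, hr, x, hx, rfl⟩
    obtain ⟨a, ha, rfl⟩ := List.getElem_of_mem hj
    obtain ⟨k, hk, rfl⟩ := List.getElem_of_mem hr
    obtain ⟨⟨hc1, hc2⟩, hc3⟩ := hcl a ha k hk
    set c := (C.getD a []).getD k (0, [])
    have hlt : c.1 < T.length := of_decide_eq_true hc1
    refine ⟨T.getD c.1 [], ?_, W c.2 * x, mul_mem (W_mem (List.all_eq_true.2 hc2)) hx, ?_⟩
    · rw [List.getD_eq_getElem _ _ hlt]; exact List.getElem_mem hlt
    · rw [← mul_assoc, smul_eq_mul, ← mul_assoc]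
      congr 1
      apply Equiv.ext
      intro p
      have := eq_of_beq (hc3 p (List.mem_finRange p))
      rw [List.getD_eq_getElem _ _ ha, List.getD_eq_getElem (n := k) _ _ hk, ← W_apply] at this
      rw [Equiv.Perm.mul_apply, Equiv.Perm.mul_apply, W_apply (T.getD c.1 []), W_apply c.2, ← this]
      simp [W]
  have hsub : H L ≤ MulAction.stabilizer (Equiv.Perm (Fin 12)) S := by
    rw [H, Subgroup.closure_le]
    rintro _ ⟨j, hj, rfl⟩
    exact hgen j hj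
  intro g
  constructor
  · intro hg
    have h1 : (1 : Equiv.Perm (Fin 12)) ∈ S := ⟨[], List.contains_iff_mem.1 hnil, 1, one_mem _, by simp [W]⟩
    have h2 := Set.smul_mem_smul_set (a := g) h1
    rw [MulAction.mem_stabilizer_iff.1 (hsub hg), smul_eq_mul, mul_one] at h2
    exact h2
  · rintro ⟨r, hr, x, hx, rfl⟩
    exact mul_mem (W_mem (List.all_eq_true.2 fun j hj => hT r hr j hj)) (hle hx)

theorem card_le {T : List (List (Fin 8))} {L L' : List (Fin 8)} {C : List (List (ℕ × List (Fin 8)))}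
    (h : good T L L' C = true) : Nat.card (H L) ≤ T.length * Nat.card (H L') := by
  rw [← Nat.card_fin T.length, ← Nat.card_prod]
  refine Nat.card_le_card_of_surjective (fun z => ⟨W T[z.1.val] * z.2, (decomp h _).2 ⟨_, List.getElem_mem _, _, z.2.2, rfl⟩⟩) ?_
  rintro ⟨g, hg⟩
  obtain ⟨r, hr, x, hx, rfl⟩ := (decomp h g).1 hg
  obtain ⟨k, hk, rfl⟩ := List.getElem_of_mem hr
  exact ⟨(⟨k, hk⟩, ⟨x, hx⟩), rfl⟩

theorem good0 : good T0 L0 L1 C0 = true := by decide +kernel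
theorem good1 : good T1 L1 L2 C1 = true := by decide +kernel
theorem good2 : good T2 L2 L3 C2 = true := by decide +kernel
theorem good3 : good T3 L3 L4 C3 = true := by decide +kernel
theorem good4 : good T4 L4 L5 C4 = true := by decide +kernel

theorem fix1 : ∀ j ∈ L1, tab j 2 = 2 := by decide +kernel
theorem fix2 : ∀ j ∈ L2, tab j 2 = 2 ∧ tab j 1 = 1 := by decide +kernel
theorem fix3 : ∀ j ∈ L3, tab j 2 = 2 ∧ tab j 1 = 1 ∧ tab j 0 = 0 := by decide +kernel
theorem fix4 : ∀ j ∈ L4, tab j 2 = 2 ∧ tab j 1 = 1 ∧ tab j 0 = 0 ∧ tab j 3 = 3 := by decide +kernel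
theorem only0 : ∀ r ∈ T0, ev r 2 = 2 → r = [] := by decide +kernel

theorem fixH {L : List (Fin 8)} {p : Fin 12} (h : ∀ j ∈ L, tab j p = p) {g : Equiv.Perm (Fin 12)} (hg : g ∈ H L) :
    g p = p := by
  have hle : H L ≤ MulAction.stabilizer (Equiv.Perm (Fin 12)) p := by
    rw [H, Subgroup.closure_le]
    rintro _ ⟨j, hj, rfl⟩
    exact MulAction.mem_stabilizer_iff.2 (by rw [Equiv.Perm.smul_def, g8_tab, h j hj])
  exact MulAction.mem_stabilizer_iff.1 (hle hg)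

/-- the base -/
def base : Fin 5 → Fin 12 := ![2, 1, 0, 3, 4]

theorem base_inj : Function.Injective base := by
  have : ∀ i j : Fin 5, base i = base j → i = j := by decide +kernel
  exact fun i j => this i j

theorem cover0 : ∀ q : Fin 12, ∃ r ∈ T0, ev r 2 = q := by decide +kernel
theorem cover1 : ∀ q : Fin 12, q ≠ 2 → ∃ r ∈ T1, ev r 1 = q := by decide +kernel
theorem cover2 : ∀ q : Fin 12, q ≠ 2 → q ≠ 1 → ∃ r ∈ T2, ev r 0 = q := by decide +kernel
theorem cover3 : ∀ q : Fin 12, q ≠ 2 → q ≠ 1 → q ≠ 0 → ∃ r ∈ T3, ev r 3 = q := by decide +kernel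
theorem cover4 : ∀ q : Fin 12, q ≠ 2 → q ≠ 1 → q ≠ 0 → q ≠ 3 → ∃ r ∈ T4, ev r 4 = q := by decide +kernel

theorem H_le {T : List (List (Fin 8))} {L L' : List (Fin 8)} {C : List (List (ℕ × List (Fin 8)))}
    (h : good T L L' C = true) : H L' ≤ H L := by
  intro g hg
  refine (decomp h g).2 ⟨[], ?_, g, hg, by simp [W]⟩
  simp only [good, Bool.and_eq_true] at h
  exact List.contains_iff_mem.1 h.1.1.1

theorem W_in {T : List (List (Fin 8))} {L L' : List (Fin 8)} {C : List (List (ℕ × List (Fin 8)))}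
    (h : good T L L' C = true) {r : List (Fin 8)} (hr : r ∈ T) : W r ∈ H L :=
  (decomp h _).2 ⟨r, hr, 1, one_mem _, (mul_one _).symm⟩

theorem five_trans (x : Fin 5 ↪ Fin 12) : ∃ g ∈ H L0, ∀ i, g (base i) = x i := by
  obtain ⟨r0, hr0, e0⟩ := cover0 (x 0)
  rw [← W_apply] at e0
  set a := W r0
  have ne : ∀ {i j : Fin 5}, i ≠ j → x i ≠ x j := fun h e => h (x.injective e)
  have ha : a ∈ H L0 := W_in good0 hr0
  obtain ⟨r1, hr1, e1⟩ := cover1 (a⁻¹ (x 1)) (fun h => ne (i := 1) (j := 0) (by decide) (by rw [← e0, ← h]; simp))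
  rw [← W_apply] at e1
  set b := W r1
  have hb : b ∈ H L1 := W_in good1 hr1
  have b2 : b 2 = 2 := fixH fix1 hb
  obtain ⟨r2, hr2, e2⟩ := cover2 ((a * b)⁻¹ (x 2))
    (fun h => ne (i := 2) (j := 0) (by decide) (by
      have := congrArg (a * b) h; simp only [Equiv.Perm.coe_mul, Function.comp_apply] at this
      rw [b2, e0] at this; simpa using this))
    (fun h => ne (i := 2) (j := 1) (by decide) (by
      have := congrArg (a * b) h; simp only [Equiv.Perm.coe_mul, Function.comp_apply] at this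
      rw [e1] at this; simpa using this))
  rw [← W_apply] at e2
  set c := W r2
  have hc : c ∈ H L2 := W_in good2 hr2
  have c2 : c 2 = 2 := fixH (fun j hj => (fix2 j hj).1) hc
  have c1 : c 1 = 1 := fixH (fun j hj => (fix2 j hj).2) hc
  obtain ⟨r3, hr3, e3⟩ := cover3 ((a * b * c)⁻¹ (x 3))
    (fun h => ne (i := 3) (j := 0) (by decide) (by
      have := congrArg (a * b * c) h; simp only [Equiv.Perm.coe_mul, Function.comp_apply] at this
      rw [c2, b2, e0] at this; simpa using this))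
    (fun h => ne (i := 3) (j := 1) (by decide) (by
      have := congrArg (a * b * c) h; simp only [Equiv.Perm.coe_mul, Function.comp_apply] at this
      rw [c1, e1] at this; simpa using this))
    (fun h => ne (i := 3) (j := 2) (by decide) (by
      have := congrArg (a * b * c) h; simp only [Equiv.Perm.coe_mul, Function.comp_apply] at this
      rw [e2] at this; simpa using this))
  rw [← W_apply] at e3
  set d := W r3
  have hd : d ∈ H L3 := W_in good3 hr3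
  have d2 : d 2 = 2 := fixH (fun j hj => (fix3 j hj).1) hd
  have d1 : d 1 = 1 := fixH (fun j hj => (fix3 j hj).2.1) hd
  have d0 : d 0 = 0 := fixH (fun j hj => (fix3 j hj).2.2) hd
  obtain ⟨r4, hr4, e4⟩ := cover4 ((a * b * c * d)⁻¹ (x 4))
    (fun h => ne (i := 4) (j := 0) (by decide) (by
      have := congrArg (a * b * c * d) h; simp only [Equiv.Perm.coe_mul, Function.comp_apply] at this
      rw [d2, c2, b2, e0] at this; simpa using this))
    (fun h => ne (i := 4) (j := 1) (by decide) (by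
      have := congrArg (a * b * c * d) h; simp only [Equiv.Perm.coe_mul, Function.comp_apply] at this
      rw [d1, c1, e1] at this; simpa using this))
    (fun h => ne (i := 4) (j := 2) (by decide) (by
      have := congrArg (a * b * c * d) h; simp only [Equiv.Perm.coe_mul, Function.comp_apply] at this
      rw [d0, e2] at this; simpa using this))
    (fun h => ne (i := 4) (j := 3) (by decide) (by
      have := congrArg (a * b * c * d) h; simp only [Equiv.Perm.coe_mul, Function.comp_apply] at this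
      rw [e3] at this; simpa using this))
  rw [← W_apply] at e4
  set e := W r4
  have he : e ∈ H L4 := W_in good4 hr4
  have e2' : e 2 = 2 := fixH (fun j hj => (fix4 j hj).1) he
  have e1' : e 1 = 1 := fixH (fun j hj => (fix4 j hj).2.1) he
  have e0' : e 0 = 0 := fixH (fun j hj => (fix4 j hj).2.2.1) he
  have e3' : e 3 = 3 := fixH (fun j hj => (fix4 j hj).2.2.2) he
  refine ⟨a * b * c * d * e, mul_mem (mul_mem (mul_mem (mul_mem ha (H_le good0 hb)) (H_le good0 (H_le good1 hc)))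
    (H_le good0 (H_le good1 (H_le good2 hd)))) (H_le good0 (H_le good1 (H_le good2 (H_le good3 he)))), fun i => ?_⟩
  simp only [Equiv.Perm.coe_mul, Function.comp_apply] at e4 e3 e2 ⊢
  fin_cases i
  · show a (b (c (d (e 2)))) = x 0
    rw [e2', d2, c2, b2, e0]
  · show a (b (c (d (e 1)))) = x 1
    rw [e1', d1, c1, e1]; simp
  · show a (b (c (d (e 0)))) = x 2
    rw [e0', d0, e2]; simp
  · show a (b (c (d (e 3)))) = x 3
    rw [e3', e3]; simp
  · show a (b (c (d (e 4)))) = x 4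
    rw [e4]; simp

theorem arith {a b c d e f : ℕ} (h4 : a ≤ 8 * 1) (h3 : b ≤ 9 * a) (h2 : c ≤ 10 * b) (h1 : d ≤ 11 * c) (h0 : e ≤ 12 * d)
    (hs : f * 95040 = e) (hpos : 0 < f) : e = 95040 ∧ d = 7920 := by
  omega

theorem arith2 {e f : ℕ} (he : e = 95040) (hs : f * 95040 = e) : f = 1 := by
  omega


/-- An explicit construction of the Mathieu groups of degrees 11 and 12. On the points 0, …, 11 let s = (3 4 5)(6 7 8)(9 10 11), t = (3 6 9)(4 7 10)(5 8 11), u = (4 6 5 9)(7 8 11 10), v = (4 7 5 11)(6 10 9 8), w = (4 10 5 8)(6 11 9 7), x₁ = (0 3)(6 7)(8 10)(9 11), x₂ = (0 1)(6 9)(7 10)(8 11), x₃ = (1 2)(6 11)(7 9)(8 10) (each written as a product of transpositions). Then the group M₁₂ generated by all eight permutations is sharply 5-transitive on the 12 points and has order 95040, and the group M₁₁ generated by the first seven has order 7920 and is the stabilizer of the point 2 in M₁₂. -/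
theorem result
    (s t u v w x₁ x₂ x₃ : Equiv.Perm (Fin 12))
    (hs : s = Equiv.swap (3 : Fin 12) 5 * Equiv.swap (3 : Fin 12) 4 * Equiv.swap (6 : Fin 12) 8 * Equiv.swap (6 : Fin 12) 7 * Equiv.swap (9 : Fin 12) 11 * Equiv.swap (9 : Fin 12) 10) (ht : t = Equiv.swap (3 : Fin 12) 9 * Equiv.swap (3 : Fin 12) 6 * Equiv.swap (4 : Fin 12) 10 * Equiv.swap (4 : Fin 12) 7 * Equiv.swap (5 : Fin 12) 11 * Equiv.swap (5 : Fin 12) 8)
    (hu : u = Equiv.swap (4 : Fin 12) 9 * Equiv.swap (4 : Fin 12) 5 * Equiv.swap (4 : Fin 12) 6 * Equiv.swap (7 : Fin 12) 10 * Equiv.swap (7 : Fin 12) 11 * Equiv.swap (7 : Fin 12) 8) (hv : v = Equiv.swap (4 : Fin 12) 11 * Equiv.swap (4 : Fin 12) 5 * Equiv.swap (4 : Fin 12) 7 * Equiv.swap (6 : Fin 12) 8 * Equiv.swap (6 : Fin 12) 9 * Equiv.swap (6 : Fin 12) 10) (hw : w = Equiv.swap (4 : Fin 12) 8 * Equiv.swap (4 : Fin 12) 5 * Equiv.swap (4 : Fin 12) 10 * Equiv.swap (6 : Fin 12) 7 * Equiv.swap (6 :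 Fin 12) 9 * Equiv.swap (6 : Fin 12) 11)
    (hx₁ : x₁ = Equiv.swap (0 : Fin 12) 3 * Equiv.swap (6 : Fin 12) 7 * Equiv.swap (8 : Fin 12) 10 * Equiv.swap (9 : Fin 12) 11) (hx₂ : x₂ = Equiv.swap (0 : Fin 12) 1 * Equiv.swap (6 : Fin 12) 9 * Equiv.swap (7 : Fin 12) 10 * Equiv.swap (8 : Fin 12) 11)
    (hx₃ : x₃ = Equiv.swap (1 : Fin 12) 2 * Equiv.swap (6 : Fin 12) 11 * Equiv.swap (7 : Fin 12) 9 * Equiv.swap (8 : Fin 12) 10)
    (M₁₂ M₁₁ : Subgroup (Equiv.Perm (Fin 12))) (hM₁₂ : M₁₂ = Subgroup.closure {s, t, u, v, w, x₁, x₂, x₃})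
    (hM₁₁ : M₁₁ = Subgroup.closure {s, t, u, v, w, x₁, x₂}) :
    MulAction.IsMultiplyPretransitive M₁₂ (Fin 12) 5 ∧ (∀ y : Fin 5 ↪ Fin 12, MulAction.stabilizer M₁₂ y = ⊥) ∧
    Nat.card M₁₂ = 95040 ∧ Nat.card M₁₁ = 7920 ∧
    M₁₁ = M₁₂ ⊓ MulAction.stabilizer (Equiv.Perm (Fin 12)) (2 : Fin 12) := by
  classical
  have hgen12 : M₁₂ = H L0 := by
    subst hs ht hu hv hw hx₁ hx₂ hx₃ hM₁₂
    rw [H]; congr 1
    ext g
    simp only [Set.mem_insert_iff, Set.mem_singleton_iff, Set.mem_image, Set.mem_ofPred_eq]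
    constructor
    · rintro (rfl | rfl | rfl | rfl | rfl | rfl | rfl | rfl)
      exacts [⟨0, by decide, rfl⟩, ⟨1, by decide, rfl⟩, ⟨2, by decide, rfl⟩, ⟨3, by decide, rfl⟩, ⟨4, by decide, rfl⟩,
        ⟨5, by decide, rfl⟩, ⟨6, by decide, rfl⟩, ⟨7, by decide, rfl⟩]
    · rintro ⟨j, -, rfl⟩
      fin_cases j <;> simp [g8]
  have hgen11 : M₁₁ = H L1 := by
    subst hs ht hu hv hw hx₁ hx₂ hM₁₁
    rw [H]; congr 1
    ext g
    simp only [Set.mem_insert_iff, Set.mem_singleton_iff, Set.mem_image, Set.mem_ofPred_eq]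
    constructor
    · rintro (rfl | rfl | rfl | rfl | rfl | rfl | rfl)
      exacts [⟨0, by decide, rfl⟩, ⟨1, by decide, rfl⟩, ⟨2, by decide, rfl⟩, ⟨3, by decide, rfl⟩, ⟨4, by decide, rfl⟩,
        ⟨5, by decide, rfl⟩, ⟨6, by decide, rfl⟩]
    · rintro ⟨j, hj, rfl⟩
      fin_cases j <;> first | (simp [g8]; done) | exact absurd hj (by decide)
  subst hgen12 hgen11
  have h5 : Nat.card (H L5) = 1 := by
    rw [Subgroup.card_eq_one, H, L5]; simp
  have c4 := card_le good4; have c3 := card_le good3; have c2 := card_le good2; have c1 := card_le good1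
  have c0 := card_le good0
  rw [h5, show T4.length = 8 from rfl] at c4
  rw [show T3.length = 9 from rfl] at c3
  rw [show T2.length = 10 from rfl] at c2
  rw [show T1.length = 11 from rfl] at c1
  rw [show T0.length = 12 from rfl] at c0
  have hmt : MulAction.IsMultiplyPretransitive (H L0) (Fin 12) 5 := by
    rw [MulAction.isMultiplyPretransitive_iff]
    intro x y
    obtain ⟨g, hg, hgx⟩ := five_trans x
    obtain ⟨k, hk, hky⟩ := five_trans y
    refine ⟨⟨k * g⁻¹, mul_mem hk (inv_mem hg)⟩, DFunLike.ext _ _ fun i => ?_⟩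
    show (k * g⁻¹) (x i) = y i
    rw [← hgx i, Equiv.Perm.mul_apply, Equiv.Perm.coe_inv, Equiv.symm_apply_apply, hky]
  have horb : ∀ y : Fin 5 ↪ Fin 12, (MulAction.stabilizer (H L0) y).index = 95040 := fun y => by
    have hu : ∀ z : Fin 5 ↪ Fin 12, ∃ g : H L0, g • y = z := fun z => by
      obtain ⟨g, hg, hgy⟩ := five_trans y
      obtain ⟨k, hk, hkz⟩ := five_trans z
      refine ⟨⟨k * g⁻¹, mul_mem hk (inv_mem hg)⟩, DFunLike.ext _ _ fun i => ?_⟩
      show (k * g⁻¹) (y i) = z i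
      rw [← hgy i, Equiv.Perm.mul_apply, Equiv.Perm.coe_inv, Equiv.symm_apply_apply, hkz]
    rw [MulAction.index_stabilizer]
    refine (congrArg Set.ncard (Set.eq_univ_of_forall hu)).trans ?_
    rw [Set.ncard_univ, Nat.card_eq_fintype_card, Fintype.card_embedding_eq, Fintype.card_fin,
      Fintype.card_fin]
    rfl
  have hst : ∀ y : Fin 5 ↪ Fin 12, Nat.card (MulAction.stabilizer (H L0) y) * 95040 = Nat.card (H L0) := fun y => by
    rw [← horb y, Subgroup.card_mul_index]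
  obtain ⟨y0⟩ : Nonempty (Fin 5 ↪ Fin 12) := ⟨⟨base, base_inj⟩⟩
  obtain ⟨hG, hG1⟩ := arith c4 c3 c2 c1 c0 (hst y0) Nat.card_pos
  refine ⟨hmt, fun y => Subgroup.card_eq_one.1 ?_, hG, hG1, ?_⟩
  · exact arith2 hG (hst y)
  · apply le_antisymm
    · intro g hg
      exact ⟨H_le good0 hg, MulAction.mem_stabilizer_iff.2 (fixH fix1 hg)⟩
    · rintro g ⟨hg, hg2⟩
      obtain ⟨r, hr, x, hx, rfl⟩ := (decomp good0 g).1 hg
      have h1 : W r (x 2) = 2 := MulAction.mem_stabilizer_iff.1 hg2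
      rw [fixH fix1 hx, W_apply] at h1
      rw [only0 r hr h1]
      simpa [W] using hx

end Cfsg.Agent.S3362
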