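import Cfsg.Statements.S3366
import Cfsg.Agent.Lib.Heis43.Split
import Cfsg.Agent.Lib.SpecU42.PSp
import Cfsg.Agent.Lib.Basic

set_option autoImplicit false
open Cfsg

namespace Cfsg.Agent.S3366

open CfsgLib.Heis43
open scoped commutatorElement

theorem pmul_one : pmul ((((0 : K3), (0 : K3)), (0 : K3)), (1 : S2)) ((((0 : K3), (0 : K3)), (0 : K3)), (1 : S2)) =
    ((((0 : K3), (0 : K3)), (0 : K3)), (1 : S2)) := by decide +kernel

/-- Let X be a finite group with O₃(X) extraspecial of order 27 and exponent 3, X/O₃(X) isomorphic to SL(2,3), O₂(X) = 1, and a Sylow 3-subgroup of X containing an elementary abelian subgroup of order 27. Then X is isomorphic to the centralizer in PSp(4,3) of a 3-central element of order 3 (an element of order 3 in the centre of a Sylow 3-subgroup). -/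
theorem result {X : Type*} [Group X] [Finite X]
    (hR : Cfsg.IsExtraspecial 3 (Cfsg.pCore 3 X)) (hRcard : Nat.card (Cfsg.pCore 3 X) = 27)
    (hRexp : ∀ r ∈ Cfsg.pCore 3 X, r ^ 3 = 1)
    (e : X ⧸ Cfsg.pCore 3 X ≃* Matrix.SpecialLinearGroup (Fin 2) (ZMod 3))
    (hO2 : Cfsg.pCore 2 X = ⊥)
    (hE : ∃ E : Subgroup X, IsMulCommutative E ∧ (∀ a ∈ E, a ^ 3 = 1) ∧ Nat.card E = 27)
    (F : Type*) [Field F] [Fintype F] (hF : Fintype.card F = 3) :
    ∃ (c : Cfsg.PSp 2 F) (S : Sylow 3 (Cfsg.PSp 2 F)), orderOf c = 3 ∧ c ∈ (S : Subgroup (Cfsg.PSp 2 F)) ∧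
      c ∈ Subgroup.centralizer ((S : Subgroup (Cfsg.PSp 2 F)) : Set (Cfsg.PSp 2 F)) ∧
      Nonempty (X ≃* Subgroup.centralizer ({c} : Set (Cfsg.PSp 2 F))) := by
  haveI : Fact (Nat.Prime 3) := ⟨Nat.prime_three⟩
  haveI : Fact (Nat.Prime 2) := ⟨Nat.prime_two⟩
  -- the data of the shape
  obtain ⟨⟨hpR, -, hcomm⟩, hZ⟩ := hR
  let Zc : Subgroup X := (Subgroup.center (Cfsg.pCore 3 X)).map (Cfsg.pCore 3 X).subtype
  have hmemZ : ∀ x, x ∈ Zc ↔ x ∈ Cfsg.pCore 3 X ∧ ∀ r ∈ Cfsg.pCore 3 X, r * x = x * r := by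
    intro x
    constructor
    · rintro ⟨c, hc, rfl⟩
      exact ⟨c.2, fun r hr => congrArg Subtype.val (Subgroup.mem_center_iff.mp hc ⟨r, hr⟩)⟩
    · rintro ⟨hx, hcx⟩
      exact ⟨⟨x, hx⟩, Subgroup.mem_center_iff.mpr fun r => Subtype.ext (hcx r r.2), rfl⟩
  let D : Data X :=
    { R := Cfsg.pCore 3 X
      hn := inferInstance
      card := hRcard
      exp := hRexp
      Zc := Zc
      mem_Zc := hmemZ
      card_Zc := by rw [Subgroup.card_map_of_injective (Subgroup.subtype_injective _), hZ]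
      comm_Zc := fun r hr s hs => ⟨⁅(⟨r, hr⟩ : Cfsg.pCore 3 X), ⟨s, hs⟩⁆,
        hcomm ▸ Subgroup.commutator_mem_commutator (Subgroup.mem_top _) (Subgroup.mem_top _), rfl⟩
      π := e.toMonoidHom.comp (QuotientGroup.mk' (Cfsg.pCore 3 X))
      surj := fun A => by
        obtain ⟨x, hx⟩ := QuotientGroup.mk_surjective (e.symm A)
        exact ⟨x, by simp [hx]⟩
      ker := by ext x; simp [MonoidHom.mem_ker]
      noInv := fun j hj hc => by
        let J := Subgroup.zpowers j
        haveI : J.Normal := ⟨fun y hy g => by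
          obtain ⟨k, rfl⟩ := Subgroup.mem_zpowers_iff.mp hy
          rw [(show Commute g j from hc g).zpow_right k, mul_inv_cancel_right]
          exact Subgroup.zpow_mem_zpowers j k⟩
        have hJ : IsPGroup 2 J := IsPGroup.iff_orderOf.mpr fun y => by
          have h2 : y ^ 2 = 1 := by
            obtain ⟨k, hk⟩ := Subgroup.mem_zpowers_iff.mp y.2
            apply Subtype.ext
            rw [Subgroup.coe_pow, ← hk, ← zpow_natCast, ← zpow_mul, mul_comm, zpow_mul, zpow_natCast, pow_two, hj,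
              one_zpow]
            rfl
          obtain ⟨i, -, hi⟩ := (Nat.dvd_prime_pow Nat.prime_two).mp
            (show orderOf y ∣ 2 ^ 1 by rw [pow_one]; exact orderOf_dvd_of_pow_eq_one h2)
          exact ⟨i, hi⟩
        have := CfsgLib.le_pCore hJ (Subgroup.mem_zpowers j)
        rwa [hO2, Subgroup.mem_bot] at this }
  obtain ⟨Φ⟩ := exists_frame D
  obtain ⟨Ξ, hΞb, hΞ, hΞz⟩ := Φ.exists_coord hE
  let Eq := Equiv.ofBijective Ξ hΞb
  obtain ⟨φ⟩ : Nonempty (K3 ≃+* F) := ⟨FiniteField.ringEquivOfCardEq (by rw [hF, ZMod.card])⟩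
  let f₀ : X →* Cfsg.PSp 2 K3 := MonoidHom.mk' (fun x => phiP (Eq.symm x)) fun x y => by
    rw [← phiP_mul]
    congr 1
    rw [Equiv.symm_apply_eq]
    show x * y = Ξ _
    rw [hΞ]
    exact (congrArg₂ (· * ·) (Eq.apply_symm_apply x) (Eq.apply_symm_apply y)).symm
  have hf₀ : ∀ p, f₀ (Ξ p) = phiP p := fun p => congrArg phiP (Eq.symm_apply_apply p)
  have hone : Ξ ((((0 : K3), (0 : K3)), (0 : K3)), (1 : S2)) = 1 := by
    have h := hΞ ((((0 : K3), (0 : K3)), (0 : K3)), (1 : S2)) ((((0 : K3), (0 : K3)), (0 : K3)), (1 : S2))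
    rw [pmul_one] at h
    exact (mul_eq_left.mp h.symm)
  let κ := CfsgLib.SpecU42.pspCongr 2 φ
  let f : X →* Cfsg.PSp 2 F := κ.toMonoidHom.comp f₀
  have hfi : Function.Injective f := by
    refine κ.injective.comp ((injective_iff_map_eq_one f₀).mpr fun x hx => ?_)
    rw [← Eq.apply_symm_apply x, ← hone]
    exact congrArg Ξ (phiP_eq_one hx)
  have hrange : f.range = Subgroup.centralizer {f (Ξ tauP)} := by
    refine le_antisymm ?_ fun g hg => ?_
    · rintro _ ⟨x, rfl⟩
      rw [Subgroup.mem_centralizer_singleton_iff, ← map_mul, ← map_mul, D.Zc_central hΞz x]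
    · rw [Subgroup.mem_centralizer_singleton_iff] at hg
      have h : κ.symm g * tau = tau * κ.symm g := by
        have := congrArg κ.symm hg
        simpa [f, hf₀, tau] using this
      obtain ⟨p, hp⟩ := mem_range_of_commute h
      exact ⟨Ξ p, by show κ (f₀ (Ξ p)) = g; rw [hf₀, ← hp, κ.apply_symm_apply]⟩
  -- the Sylow subgroups
  obtain ⟨T⟩ := (inferInstance : Nonempty (Sylow 3 X))
  have hcX : Nat.card X = 648 := by
    rw [← Nat.card_congr Eq, Nat.card_prod, Nat.card_eq_fintype_card (α := S2), card_S2, Nat.card_eq_fintype_card]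
    rfl
  have hT : Nat.card T = 81 := by
    rw [Sylow.card_eq_multiplicity, hcX, show (648 : ℕ) = 3 ^ 4 * 8 by norm_num,
      Nat.factorization_mul (by norm_num) (by norm_num), Finsupp.add_apply,
      Nat.Prime.factorization_pow (by norm_num), Nat.factorization_eq_zero_of_not_dvd (by norm_num : ¬ 3 ∣ 8)]
    simp
  obtain ⟨S, hS⟩ := (T.2.map f).exists_le_sylow
  have hScard : Nat.card S = 81 := by
    rw [Sylow.card_eq_multiplicity, ← Nat.card_congr κ.toEquiv, card_psp,
      show (25920 : ℕ) = 3 ^ 4 * 320 by norm_num, Nat.factorization_mul (by norm_num) (by norm_num),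
      Finsupp.add_apply, Nat.Prime.factorization_pow (by norm_num),
      Nat.factorization_eq_zero_of_not_dvd (by norm_num : ¬ 3 ∣ 320)]
    simp
  have hSeq : (T : Subgroup X).map f = S := Subgroup.eq_of_le_of_card_ge hS (by
    rw [Subgroup.card_map_of_injective hfi]; exact le_of_eq (hScard.trans hT.symm))
  have hzT : Ξ tauP ∈ (T : Subgroup X) := by
    haveI : (Cfsg.pCore 3 X).Normal := inferInstance
    have hle : Cfsg.pCore 3 X ≤ (T : Subgroup X) :=
      (CfsgLib.isPGroup_pCore 3).le_sylow_of_normal T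
    exact hle (D.Zc_le hΞz)
  refine ⟨f (Ξ tauP), S, orderOf_eq_prime ?_ ?_, hSeq ▸ Subgroup.mem_map_of_mem f hzT, ?_,
    ⟨(MonoidHom.ofInjective hfi).trans (MulEquiv.subgroupCongr hrange)⟩⟩
  · rw [← map_pow, hRexp _ (D.Zc_le hΞz), map_one]
  · show κ (f₀ (Ξ tauP)) ≠ 1
    rw [hf₀]
    exact fun h => tau_ne (κ.injective (h.trans (map_one κ).symm))
  · rw [← hSeq]
    intro s hs
    obtain ⟨x, -, rfl⟩ := hs
    rw [← map_mul, ← map_mul, D.Zc_central hΞz x]

end Cfsg.Agent.S3366
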