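import Cfsg.Statements.S3370
import Mathlib
import Cfsg.Agent.Lib.Fusion.GLTwoSylow
import Cfsg.Agent.Lib.Frobenius.UniqueSubgroup

set_option autoImplicit false
open Cfsg

namespace Cfsg.Agent.S3370

theorem pow_mod_sq (K : ℤ) (b : ℕ) : ∃ c : ℤ, (K - 1) ^ (2 * b + 1) + 1 = (2 * b + 1) * K + K ^ 2 * c := by
  induction b with
  | zero => exact ⟨0, by ring⟩
  | succ b ih =>
    obtain ⟨c, hc⟩ := ih
    refine ⟨c * (K - 1) ^ 2 + (2 * b + 1) * (K - 2) - 1, ?_⟩
    have h2 : (K - 1) ^ (2 * (b + 1) + 1) = ((K - 1) ^ (2 * b + 1)) * (K - 1) ^ 2 := by ring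
    rw [h2, show (K - 1) ^ (2 * b + 1) = (2 * b + 1) * K + K ^ 2 * c - 1 by linarith]
    push_cast
    ring

theorem mersenne_no_power {p a n : ℕ} (hp : p.Prime) (h : p ^ a + 1 = 2 ^ n) : a ≤ 1 := by
  by_contra ha
  rcases hp.eq_two_or_odd' with rfl | ⟨t, ht⟩
  · have h1 : (2 ^ a + 1) % 2 = 1 := by
      obtain ⟨a', rfl⟩ : ∃ a', a = a' + 1 := ⟨a - 1, by omega⟩
      rw [pow_succ]; omega
    rcases n with _ | n
    · have : 0 < 2 ^ a := by positivity
      omega
    · rw [h, pow_succ] at h1; omega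
  rcases Nat.even_or_odd a with ⟨b, hb⟩ | ⟨b, hb⟩
  · -- an odd square plus one is twice an odd number
    obtain ⟨u, hu⟩ : ∃ u, p ^ b = 2 * u + 1 := (Odd.pow ⟨t, ht⟩)
    rw [hb, pow_add, hu] at h
    rcases n with _ | _ | n
    · simp at h
    · have h3 : 3 ≤ p := by have := hp.two_le; omega
      have : 3 ≤ p ^ b := le_trans h3 (Nat.le_self_pow (by omega) p)
      norm_num at h
      nlinarith
    · rw [pow_succ, pow_succ] at h
      have : (2 * u + 1) * (2 * u + 1) = 4 * (u * u + u) + 1 := by ring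
      omega
  · have hd : p + 1 ∣ 2 ^ n := by
      rw [← h, hb]
      have h1 := Odd.nat_add_dvd_pow_add_pow (x := p) (y := 1) (n := 2 * b + 1) ⟨b, rfl⟩
      rwa [one_pow] at h1
    obtain ⟨k, hk, hpk⟩ := (Nat.dvd_prime_pow Nat.prime_two).1 hd
    have h2k : 2 * k ≤ n := by
      have h3 : p ^ 3 ≤ p ^ a := Nat.pow_le_pow_right hp.pos (by omega)
      have h4 : (p + 1) ^ 2 ≤ p ^ 3 + 1 := by
        have h5 : 3 ≤ p := by have := hp.two_le; omega
        nlinarith [Nat.mul_le_mul h5 (Nat.mul_le_mul h5 (le_refl p))]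
      rw [hpk, ← pow_mul] at h4
      have h6 : 2 ^ (k * 2) ≤ 2 ^ n := by omega
      have := (Nat.pow_le_pow_iff_right (by norm_num : 1 < 2)).1 h6
      omega
    obtain ⟨c, hc⟩ := pow_mod_sq ((2 : ℤ) ^ k) b
    have hp' : ((2 : ℤ) ^ k - 1) = (p : ℤ) := by
      have : ((p + 1 : ℕ) : ℤ) = ((2 ^ k : ℕ) : ℤ) := by rw [hpk]
      push_cast at this
      linarith
    rw [hp'] at hc
    have h7 : ((p ^ a + 1 : ℕ) : ℤ) = ((2 ^ n : ℕ) : ℤ) := by rw [h]
    push_cast at h7
    rw [hb, hc] at h7
    obtain ⟨j, rfl⟩ : ∃ j, n = 2 * k + j := ⟨n - 2 * k, by omega⟩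
    have hk0 : (2 : ℤ) ^ k ≠ 0 := by positivity
    have h8 : (2 * b + 1 : ℤ) + 2 ^ k * c = 2 ^ k * 2 ^ j := by
      apply mul_left_cancel₀ hk0
      rw [pow_add, pow_mul', sq] at h7
      linear_combination h7
    rcases k with _ | k
    · rw [pow_zero] at hpk; exact absurd hpk (by have := hp.pos; omega)
    · have h9 := congrArg (fun z : ℤ => z % 2) h8
      simp only [pow_succ] at h9
      rw [show (2 ^ k * 2 * c : ℤ) = 2 * (2 ^ k * c) by ring, show (2 ^ k * 2 * 2 ^ j : ℤ) = 2 * (2 ^ k * 2 ^ j) by ring] at h9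
      omega

theorem two_power_case {q n a : ℕ} (hq : q.Prime) (hodd : q ≠ 2) (hn : 2 ≤ n) (h : q ^ n = 2 ^ a + 1) : q = 3 ∧ n = 2 := by
  obtain ⟨t, ht⟩ := hq.odd_of_ne_two hodd
  rcases Nat.even_or_odd n with ⟨m, hm⟩ | hodd'
  · have h1 : (q ^ m + 1) * (q ^ m - 1) = 2 ^ a := by
      rw [← Nat.sq_sub_sq, ← pow_mul, one_pow, show m * 2 = n by omega, h, Nat.add_sub_cancel]
    obtain ⟨i, -, hi⟩ := (Nat.dvd_prime_pow Nat.prime_two).1 (Dvd.intro _ h1)
    obtain ⟨j, -, hj⟩ := (Nat.dvd_prime_pow Nat.prime_two).1 (Dvd.intro_left _ h1)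
    have h2 : 3 ≤ q ^ m := le_trans (by have := hq.two_le; omega) (Nat.le_self_pow (show m ≠ 0 by omega) q)
    have h3 : j = 1 := by
      rcases j with _ | _ | j
      · rw [pow_zero] at hj; omega
      · rfl
      · exfalso
        rcases i with _ | _ | i
        · rw [pow_zero] at hi; omega
        · rw [pow_one] at hi; omega
        · rw [pow_succ, pow_succ] at hi hj; omega
    rw [h3, pow_one] at hj
    have h5 : q ^ m = 3 := by omega
    have hq3 : q = 3 := (Nat.prime_dvd_prime_iff_eq hq Nat.prime_three).1 (h5 ▸ dvd_pow_self q (show m ≠ 0 by omega))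
    refine ⟨hq3, ?_⟩
    rw [hq3] at h5
    have : m = 1 := (Nat.pow_eq_self_iff (show 1 < 3 by norm_num)).1 h5
    omega
  · exfalso
    have hgeom : (∑ i ∈ Finset.range n, q ^ i) * (q - 1) = 2 ^ a := by
      have h0 := geom_sum_mul_add (q - 1) n
      rw [Nat.sub_add_cancel hq.one_le, h] at h0
      omega
    obtain ⟨i, -, hi⟩ := (Nat.dvd_prime_pow Nat.prime_two).1 (Dvd.intro _ hgeom)
    have hSodd : (∑ i ∈ Finset.range n, q ^ i) % 2 = 1 := by
      rw [Finset.sum_nat_mod]
      simp [Nat.pow_mod, show q % 2 = 1 by omega, Nat.odd_iff.1 hodd']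
    have hSge : 1 + q ≤ ∑ i ∈ Finset.range n, q ^ i := by
      have h' := Finset.sum_le_sum_of_subset (f := fun i => q ^ i) (Finset.range_subset_range.2 hn)
      simpa [Finset.sum_range_succ] using h'
    rcases i with _ | i
    · rw [pow_zero] at hi; omega
    · rw [hi, pow_succ] at hSodd; omega


/-- Let q be a prime, V a non-trivial finite vector space over the field with q elements, and G a non-trivial finite p-group (p prime) acting faithfully and linearly on V and transitively on the non-zero vectors. Then either q = 2 and G has prime order p = |V| − 1; or p = 2, V has q elements with q = 2^m + 1 and G is cyclic of order 2^m; or p = 2, q = 3, V has 9 elements and G is cyclic of order 8, quaternion of order 8, or semidihedral of order 16. -/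
theorem result (q : ℕ) [Fact q.Prime] {V : Type*} [AddCommGroup V] [Module (ZMod q) V] [Finite V] [Nontrivial V]
    {G : Type*} [Group G] [Finite G] [Nontrivial G] (p : ℕ) [Fact p.Prime] (hG : IsPGroup p G)
    (ρ : G →* (V ≃ₗ[ZMod q] V)) (hρ : Function.Injective ρ)
    (htrans : ∀ v w : V, v ≠ 0 → w ≠ 0 → ∃ g : G, ρ g v = w) :
    (q = 2 ∧ p = Nat.card V - 1 ∧ Nat.card G = p) ∨
    (p = 2 ∧ Nat.card V = q ∧ (∃ m : ℕ, q = 2 ^ m + 1 ∧ Nat.card G = 2 ^ m) ∧ IsCyclic G) ∨
    (p = 2 ∧ q = 3 ∧ Nat.card V = 9 ∧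
      ((IsCyclic G ∧ Nat.card G = 8) ∨ Nonempty (G ≃* QuaternionGroup 2) ∨ (Cfsg.IsQuasiDihedral G ∧ Nat.card G = 16))) := by
  classical
  have hq : q.Prime := Fact.out
  have hp : p.Prime := Fact.out
  haveI : Fintype V := Fintype.ofFinite V
  letI actV : MulAction G V := MulAction.compHom V ρ
  have hact : ∀ (g : G) (v : V), g • v = ρ g v := fun g v => rfl
  obtain ⟨v, hv⟩ := exists_ne (0 : V)
  have horb : MulAction.orbit G v = {0}ᶜ := by
    ext w
    constructor
    · rintro ⟨g, rfl⟩ h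
      exact hv ((ρ g).map_eq_zero_iff.1 h)
    · intro hw
      obtain ⟨g, hg⟩ := htrans v w hv hw
      exact ⟨g, hg⟩
  have hidx : (MulAction.stabilizer G v).index = Nat.card V - 1 := by
    rw [MulAction.index_stabilizer, horb, Set.ncard_compl, Set.ncard_singleton]
  obtain ⟨b, hb⟩ := IsPGroup.iff_card.1 hG
  obtain ⟨a, ha, hpa⟩ := (Nat.dvd_prime_pow hp).1 (hb ▸ (MulAction.stabilizer G v).index_dvd_card)
  rw [hidx] at hpa
  obtain ⟨n, hn⟩ : ∃ n, Nat.card V = q ^ n := ⟨_, (FiniteField.pow_finrank_eq_natCard q V).symm⟩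
  have hV2 : 2 ≤ Nat.card V := Finite.one_lt_card
  have ha1 : 1 ≤ a := by
    by_contra h0
    rw [show a = 0 by omega, pow_zero] at hpa
    obtain ⟨g, hg⟩ := exists_ne (1 : G)
    refine hg (hρ ?_)
    rw [map_one]
    apply LinearEquiv.ext
    intro w
    by_cases hw : w = 0
    · simp [hw]
    · have hone : ∀ u : V, u ≠ 0 → u = v := fun u hu => by
        by_contra huv
        have h3 : ({0, v, u} : Finset V).card ≤ Fintype.card V := Finset.card_le_univ _
        rw [Finset.card_insert_of_notMem (by simp [Ne.symm hv, Ne.symm hu]), Finset.card_pair (Ne.symm huv),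
          ← Nat.card_eq_fintype_card] at h3
        omega
      rw [hone w hw]
      exact hone _ fun h => hv ((ρ g).map_eq_zero_iff.1 h)
  by_cases hq2 : q = 2
  · -- Mersenne case
    left
    have h1 : a = 1 := le_antisymm (mersenne_no_power (n := n) hp (by rw [← hq2, ← hn]; omega)) ha1
    rw [h1, pow_one] at hpa
    refine ⟨hq2, hpa.symm, ?_⟩
    let X := {w : V // w ≠ 0}
    let φ : G →* Equiv.Perm X :=
      { toFun := fun g => (ρ g).toEquiv.subtypeEquiv fun w => not_congr (ρ g).map_eq_zero_iff.symm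
        map_one' := Equiv.ext fun x => Subtype.ext (by simp)
        map_mul' := fun g k => Equiv.ext fun x => Subtype.ext (by simp) }
    have hφ : Function.Injective φ := fun g k h => hρ (LinearEquiv.ext fun w => by
      by_cases hw : w = 0
      · simp [hw]
      · exact congrArg Subtype.val (Equiv.congr_fun h ⟨w, hw⟩))
    have hX : Nat.card X = p := by
      rw [show Nat.card X = ({0}ᶜ : Set V).ncard from Nat.card_coe_set_eq _, Set.ncard_compl, Set.ncard_singleton, hpa]
    have hd := Subgroup.card_dvd_of_injective φ hφ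
    rw [Nat.card_perm, hX, hb] at hd
    rcases b with _ | _ | b
    · exact absurd hb (by rw [pow_zero]; exact (Finite.one_lt_card (α := G)).ne')
    · rw [hb, pow_one]
    · exfalso
      have h2 : p * p ∣ p.factorial := (dvd_trans ⟨p ^ b, by ring⟩ hd)
      obtain ⟨t, ht⟩ : ∃ t, p = t + 1 := ⟨p - 1, by have := hp.pos; omega⟩
      have h3 : p * p ∣ p * t.factorial := by
        calc p * p ∣ p.factorial := h2
          _ = p * t.factorial := by rw [ht, Nat.factorial_succ]
      have h4 := hp.dvd_factorial.1 (Nat.dvd_of_mul_dvd_mul_left hp.pos h3)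
      omega
  right
  have hp2 : p = 2 := by
    obtain ⟨t, ht⟩ : Odd (Nat.card V) := hn ▸ (hq.odd_of_ne_two hq2).pow
    have : 2 ∣ p ^ a := ⟨t, by omega⟩
    exact ((Nat.prime_dvd_prime_iff_eq Nat.prime_two hp).1 (Nat.prime_two.dvd_of_dvd_pow this)).symm
  subst hp2
  have hfr : Module.finrank (ZMod q) V = n :=
    Nat.pow_right_injective hq.two_le ((FiniteField.pow_finrank_eq_natCard q V).trans hn)
  rcases Nat.lt_or_ge n 2 with hn1 | hn2
  · left
    have hn' : n = 1 := by
      rcases n with _ | _ | n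
      · rw [pow_zero] at hn; omega
      · rfl
      · omega
    subst hn'
    rw [pow_one] at hn
    have hline : ∀ w : V, ∃ c : ZMod q, c • v = w := fun w => exists_smul_eq_of_finrank_eq_one hfr hv w
    choose c hc using hline
    have hcu : ∀ g : G, c (ρ g v) ≠ 0 := fun g h => hv ((ρ g).map_eq_zero_iff.1 (by rw [← hc (ρ g v), h, zero_smul]))
    have hinj : ∀ r s : ZMod q, r • v = s • v → r = s := fun r s h => smul_left_injective _ hv h
    let χ : G →* (ZMod q)ˣ :=
      { toFun := fun g => Units.mk0 (c (ρ g v)) (hcu g)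
        map_one' := Units.ext (hinj _ _ (by simp [hc]))
        map_mul' := fun g k => Units.ext (hinj _ _ (by
          simp only [Units.val_mul, Units.val_mk0]
          rw [hc, map_mul, LinearEquiv.mul_apply, mul_comm, mul_smul, hc (ρ g v), ← map_smul, hc])) }
    have hχ : Function.Injective χ := fun g k h => hρ (LinearEquiv.ext fun w => by
      have h1 : c (ρ g v) = c (ρ k v) := congrArg Units.val h
      have h2 : ρ g v = ρ k v := by rw [← hc (ρ g v), h1, hc]
      rw [← hc w, map_smul, map_smul, h2])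
    have hstab : MulAction.stabilizer G v = ⊥ := le_bot_iff.1 fun g hg => by
      refine Subgroup.mem_bot.2 (hχ ?_)
      refine Units.ext (hinj _ _ ?_)
      show c (ρ g v) • v = c (ρ 1 v) • v
      rw [hc, hc, map_one]
      exact MulAction.mem_stabilizer_iff.1 hg
    haveI : IsCyclic (ZMod q)ˣ := inferInstance
    refine ⟨rfl, hn, ⟨a, by omega, ?_⟩, isCyclic_of_injective χ hχ⟩
    rw [← (MulAction.stabilizer G v).card_mul_index, hstab, Subgroup.card_bot, one_mul, ← hstab, hidx, hpa]
  · right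
    obtain ⟨hq3, hn3⟩ := two_power_case hq hq2 hn2 (a := a) (by omega)
    subst hq3 hn3
    have hV9 : Nat.card V = 9 := by rw [hn]; norm_num
    refine ⟨rfl, rfl, hV9, ?_⟩
    let B := Module.finBasisOfFinrankEq (ZMod 3) V hfr
    let ψ : G →* GL (Fin 2) (ZMod 3) :=
      (Units.mapEquiv (LinearMap.toMatrixAlgEquiv B).toMulEquiv).toMonoidHom.comp
        ((LinearMap.GeneralLinearGroup.generalLinearEquiv (ZMod 3) V).symm.toMonoidHom.comp ρ)
    have hψ : Function.Injective ψ :=
      fun g k h => hρ ((LinearMap.GeneralLinearGroup.generalLinearEquiv (ZMod 3) V).symm.injective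
        ((Units.mapEquiv (LinearMap.toMatrixAlgEquiv B).toMulEquiv).injective h))
    have h48 : Nat.card (GL (Fin 2) (ZMod 3)) = 48 := by
      rw [CfsgLib.GLTwoSylow.card_GL2, ZMod.card]
    have hd := Subgroup.card_dvd_of_injective ψ hψ
    rw [h48, hb] at hd
    have hb4 : b ≤ 4 := by
      by_contra h
      have h32 : 2 ^ 5 ∣ 48 := (pow_dvd_pow 2 (by omega)).trans hd
      norm_num at h32
    have ha3 : a = 3 := by
      rw [hV9] at hpa
      rcases a with _ | _ | _ | _ | a <;> simp [pow_succ] at hpa ⊢ <;> omega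
    have hb3 : 3 ≤ b := by
      have h2 := Subgroup.index_dvd_card (MulAction.stabilizer G v)
      rw [hidx, hV9, hb, show 9 - 1 = 2 ^ 3 by norm_num] at h2
      exact (Nat.pow_dvd_pow_iff_le_right (by norm_num)).1 h2
    rcases (show b = 3 ∨ b = 4 by omega) with rfl | rfl
    · -- regular: a unique involution
      have hfix : ∀ (g : G) (w : V), w ≠ 0 → ρ g w = w → g = 1 := by
        intro g w hw hgw
        have ho : MulAction.orbit G w = {0}ᶜ := by
          ext z
          constructor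
          · rintro ⟨k, rfl⟩ h
            exact hw ((ρ k).map_eq_zero_iff.1 h)
          · intro hz
            obtain ⟨k, hk⟩ := htrans w z hw hz
            exact ⟨k, hk⟩
        have hi : (MulAction.stabilizer G w).index = 8 := by
          rw [MulAction.index_stabilizer, ho, Set.ncard_compl, Set.ncard_singleton, hV9]
        have hm := (MulAction.stabilizer G w).card_mul_index
        rw [hi, hb] at hm
        have h1 : MulAction.stabilizer G w = ⊥ := Subgroup.card_eq_one.1 (by rw [show (2 : ℕ) ^ 3 = 8 from rfl] at hm; omega)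
        exact Subgroup.mem_bot.1 (h1 ▸ MulAction.mem_stabilizer_iff.2 hgw)
      have hneg : ∀ g : G, g * g = 1 → g ≠ 1 → ∀ w, ρ g w = -w := by
        intro g hg hg1 w
        by_contra h
        refine hg1 (hfix g (ρ g w + w) (fun h0 => h (eq_neg_of_add_eq_zero_left h0)) ?_)
        rw [map_add, ← LinearEquiv.mul_apply, ← map_mul, hg, map_one, LinearEquiv.coe_one, id_eq, add_comm]
      have hU : CfsgLib.Frob.UniqSub 2 G := by
        intro H K hH hK
        haveI : Fact (Nat.Prime 2) := ⟨Nat.prime_two⟩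
        obtain ⟨x, hx⟩ := exists_prime_orderOf_dvd_card' (G := H) 2 (dvd_of_eq hH.symm)
        obtain ⟨y, hy⟩ := exists_prime_orderOf_dvd_card' (G := K) 2 (dvd_of_eq hK.symm)
        have hxo : orderOf (x : G) = 2 := by rw [orderOf_submonoid, hx]
        have hyo : orderOf (y : G) = 2 := by rw [orderOf_submonoid, hy]
        have hsq : ∀ g : G, orderOf g = 2 → g * g = 1 ∧ g ≠ 1 := fun g hg =>
          ⟨by rw [← pow_two, ← hg, pow_orderOf_eq_one], fun h => by rw [h, orderOf_one] at hg; omega⟩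
        have hxy : (x : G) = y := hρ (LinearEquiv.ext fun w => by
          rw [hneg _ (hsq _ hxo).1 (hsq _ hxo).2, hneg _ (hsq _ hyo).1 (hsq _ hyo).2])
        rw [← Subgroup.eq_of_le_of_card_ge (Subgroup.zpowers_le.2 x.2) (by rw [hH, Nat.card_zpowers, hxo]),
          ← Subgroup.eq_of_le_of_card_ge (Subgroup.zpowers_le.2 y.2) (by rw [hK, Nat.card_zpowers, hyo]), hxy]
      rcases CfsgLib.Frob.cyclic_or_quaternion_two hG hU with h | ⟨m, ⟨e⟩⟩
      · exact Or.inl ⟨h, by rw [hb]; norm_num⟩
      · refine Or.inr (Or.inl ?_)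
        haveI : NeZero (2 ^ m) := ⟨pow_ne_zero _ two_ne_zero⟩
        have hc := Nat.card_congr e.toEquiv
        rw [hb, Nat.card_eq_fintype_card, QuaternionGroup.card] at hc
        have hm : m = 1 := Nat.pow_right_injective (le_refl 2) (show 2 ^ m = 2 ^ 1 by norm_num at hc ⊢; omega)
        subst hm
        exact ⟨e⟩
    · refine Or.inr (Or.inr ⟨?_, by rw [hb]; norm_num⟩)
      haveI : Fact (Nat.Prime 2) := ⟨Nat.prime_two⟩
      have hr : Nat.card ψ.range = 2 ^ (Nat.card (GL (Fin 2) (ZMod 3))).factorization 2 := by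
        rw [h48, show (48 : ℕ) = 2 ^ 4 * 3 by norm_num, CfsgLib.GLTwoSylow.factorization_two 4 3 (by norm_num),
          ← Nat.card_congr (MonoidHom.ofInjective hψ).toEquiv, hb]
      exact CfsgLib.GLTwoSylow.isQuasiDihedral_congr
        (MonoidHom.ofInjective hψ).symm ((CfsgLib.GLTwoSylow.sylow_cases (Sylow.ofCard ψ.range hr)).1 (by rw [ZMod.card]))

end Cfsg.Agent.S3370
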