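import Cfsg.Statements.S3375
import Mathlib

set_option autoImplicit false
open Cfsg

namespace Cfsg.Agent.S3375



/-- Let γ be an automorphism of order 2 of a finite group H. (i) If γ fixes only the identity, then H is abelian and γ inverts every element. (ii) If γ has exactly two fixed points and H has a subgroup of index 2, then H has a γ-invariant abelian subgroup of index 2 on which γ acts by inversion. -/
theorem result {H : Type*} [Group H] [Finite H] (γ : MulAut H) (hγ : orderOf γ = 2) :
    ((∀ h : H, γ h = h → h = 1) → (∀ a b : H, a * b = b * a) ∧ ∀ h : H, γ h = h⁻¹) ∧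
    ((Nat.card {h : H // γ h = h} = 2 ∧ ∃ M : Subgroup H, M.index = 2) →
      ∃ A : Subgroup H, A.index = 2 ∧ IsMulCommutative A ∧ (∀ a ∈ A, γ a ∈ A) ∧ ∀ a ∈ A, γ a = a⁻¹) := by
  classical
  have hinv : Function.Involutive γ := fun h => by
    have : γ ^ 2 = 1 := hγ ▸ pow_orderOf_eq_one γ
    calc γ (γ h) = (γ ^ 2) h := by rw [sq, MulAut.mul_apply]
      _ = h := by rw [this]; rfl
  refine ⟨fun hfix => ?_, fun ⟨h2, M, hM⟩ => ?_⟩
  · have hf : MonoidHom.FixedPointFree (γ : H → H) := fun x hx => hfix x hx
    have hi := MonoidHom.FixedPointFree.coe_eq_inv_of_involutive (φ := γ.toMonoidHom) hf hinv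
    exact ⟨fun a b => MonoidHom.FixedPointFree.commute_all_of_involutive (φ := γ.toMonoidHom) hf hinv a b, fun x => congrFun hi x⟩
  · let χ : H →* ℤˣ :=
      { toFun := fun h => if h ∈ M then 1 else -1
        map_one' := by simp [M.one_mem]
        map_mul' := fun a b => by
          by_cases ha : a ∈ M <;> by_cases hb : b ∈ M <;>
            simp [ha, hb, Subgroup.mul_mem_iff_of_index_two hM] }
    have hχ : ∀ x, χ x = 1 ↔ x ∈ M := fun x => by
      show (if x ∈ M then (1 : ℤˣ) else -1) = 1 ↔ x ∈ M
      split <;> simp_all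
    obtain ⟨A, hA, hAγ⟩ : ∃ A : Subgroup H, A.index = 2 ∧ ∀ a ∈ A, γ a ∈ A := by
      by_cases hχγ : χ.comp γ.toMonoidHom = χ
      · refine ⟨M, hM, fun a ha => ?_⟩
        rw [← hχ] at ha ⊢
        rw [← DFunLike.congr_fun hχγ a] at ha
        exact ha
      · set ψ : H →* ℤˣ := χ * χ.comp γ.toMonoidHom
        refine ⟨ψ.ker, ?_, fun a ha => ?_⟩
        · have : ψ.range = ⊤ := by
            obtain ⟨x, hx⟩ : ∃ x, χ.comp γ.toMonoidHom x ≠ χ x := by
              by_contra hcon
              push Not at hcon
              exact hχγ (MonoidHom.ext hcon)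
            have hψx : ψ x = -1 := by
              have hx' : χ (γ x) ≠ χ x := hx
              show χ x * χ (γ x) = -1
              rcases Int.units_eq_one_or (χ x) with e | e <;> rcases Int.units_eq_one_or (χ (γ x)) with f | f <;> simp [e, f] at hx' ⊢
            rw [eq_top_iff]
            intro u _
            rcases Int.units_eq_one_or u with rfl | rfl
            · exact one_mem _
            · exact ⟨x, hψx⟩
          rw [Subgroup.index_ker, this, Subgroup.card_top, Nat.card_eq_fintype_card, Fintype.card_units_int]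
        · rw [MonoidHom.mem_ker] at ha ⊢
          show χ (γ a) * χ (γ (γ a)) = 1
          rw [hinv a, mul_comm]; exact ha
    -- every element of A is inverted
    let f : H → A := fun h => ⟨h⁻¹ * γ h, by
      rw [Subgroup.mul_mem_iff_of_index_two hA, inv_mem_iff]
      exact ⟨hAγ h, fun hh => by have := hAγ _ hh; rwa [hinv h] at this⟩⟩
    have hfib : ∀ a : A, Nat.card {h // f h = a} ≤ 2 := by
      intro a
      rcases isEmpty_or_nonempty {h // f h = a} with he | ⟨⟨h₀, hh₀⟩⟩
      · simp
      · rw [← h2]
        refine Nat.card_le_card_of_injective (fun h => ⟨(h : H) * h₀⁻¹, ?_⟩) fun u v huv => ?_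
        · have e : (h : H)⁻¹ * γ h = h₀⁻¹ * γ h₀ := congrArg Subtype.val (h.2.trans hh₀.symm)
          rw [inv_mul_eq_iff_eq_mul] at e
          rw [map_mul, map_inv, e]; group
        · exact Subtype.ext (mul_right_cancel (congrArg Subtype.val huv))
    haveI := Fintype.ofFinite H
    have hsurj : Function.Surjective f := by
      intro a
      by_contra ha
      push Not at ha
      haveI : IsEmpty {h // f h = a} := ⟨fun h => ha h h.2⟩
      have hlt : ∑ b : A, Nat.card {h // f h = b} < ∑ _b : A, 2 :=
        Finset.sum_lt_sum (fun b _ => hfib b) ⟨a, Finset.mem_univ _, by simp⟩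
      rw [← Nat.card_sigma, Nat.card_congr (Equiv.sigmaFiberEquiv f), Finset.sum_const, smul_eq_mul, Finset.card_univ, ← Nat.card_eq_fintype_card] at hlt
      have := A.card_mul_index
      rw [hA] at this; omega
    have hall : ∀ a ∈ A, γ a = a⁻¹ := by
      intro a ha
      obtain ⟨h, hh⟩ := hsurj ⟨a, ha⟩
      have e : h⁻¹ * γ h = a := congrArg Subtype.val hh
      rw [← e, map_mul, map_inv, hinv h, mul_inv_rev, inv_inv]
    refine ⟨A, hA, ⟨⟨fun a b => Subtype.ext ?_⟩⟩, hAγ, hall⟩
    have h1 := hall _ (A.mul_mem a.2 b.2)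
    rw [map_mul, hall a a.2, hall b b.2, ← mul_inv_rev] at h1
    exact (inv_injective h1).symm

end Cfsg.Agent.S3375
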