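import Cfsg.Statements.S3379
import Mathlib

set_option autoImplicit false
open Cfsg
open scoped commutatorElement

namespace Cfsg.Agent.S3379



/-- Let G be a finite group all of whose Sylow subgroups are cyclic. Then G is generated by two elements x and y of coprime orders n and m with x⁻¹yx = y^r, where gcd(r − 1, m) = 1 and r^n ≡ 1 (mod m). -/
theorem result {G : Type*} [Group G] [Finite G]
    (hZ : ∀ (p : ℕ) [Fact p.Prime] (P : Sylow p G), IsCyclic (P : Subgroup G)) :
    ∃ (x y : G) (n m r : ℕ), Subgroup.closure {x, y} = ⊤ ∧ orderOf x = n ∧ orderOf y = m ∧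
      x⁻¹ * y * x = y ^ r ∧ Nat.Coprime (r - 1) m ∧ Nat.Coprime n m ∧ 1 ≤ r ∧ r ^ n % m = 1 % m := by
  classical
  haveI hG : IsZGroup G := ⟨fun p hp P => by haveI := Fact.mk hp; exact hZ p P⟩
  obtain ⟨⟨y, hyN⟩, hy⟩ := (hG.isCyclic_commutator).exists_generator
  obtain ⟨H, hH⟩ := Subgroup.exists_right_complement'_of_coprime hG.coprime_commutator_index
  haveI : IsCyclic (G ⧸ commutator G) := (inferInstance : IsCyclic (Abelianization G))
  haveI : IsCyclic H := isCyclic_of_surjective _ (hH.symm.QuotientMulEquiv).surjective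
  obtain ⟨⟨x, hxH⟩, hx⟩ := IsCyclic.exists_generator (α := H)
  have hNy : Subgroup.zpowers y = commutator G := by
    refine le_antisymm (Subgroup.zpowers_le.mpr hyN) fun z hz => ?_
    obtain ⟨k, hk⟩ := Subgroup.mem_zpowers_iff.mp (hy ⟨z, hz⟩)
    exact Subgroup.mem_zpowers_iff.mpr ⟨k, congrArg Subtype.val hk⟩
  have hHx : Subgroup.zpowers x = H := by
    refine le_antisymm (Subgroup.zpowers_le.mpr hxH) fun z hz => ?_
    obtain ⟨k, hk⟩ := Subgroup.mem_zpowers_iff.mp (hx ⟨z, hz⟩)
    exact Subgroup.mem_zpowers_iff.mpr ⟨k, congrArg Subtype.val hk⟩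
  have hclos : Subgroup.closure {x, y} = ⊤ := by
    rw [eq_top_iff, ← hH.sup_eq_top, ← hNy, ← hHx]
    exact sup_le (Subgroup.zpowers_le.mpr (Subgroup.subset_closure (Set.mem_insert_of_mem _ rfl)))
      (Subgroup.zpowers_le.mpr (Subgroup.subset_closure (Set.mem_insert _ _)))
  have hconj : ∀ g : G, g * y * g⁻¹ ∈ Subgroup.zpowers y := fun g => by
    rw [hNy]; exact (inferInstance : (commutator G).Normal).conj_mem y hyN g
  obtain ⟨k, hk⟩ := mem_powers_iff_mem_zpowers.mpr (show x⁻¹ * y * x ∈ Subgroup.zpowers y by simpa using hconj x⁻¹)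
  have hk' : y ^ k = x⁻¹ * y * x := hk
  set m := orderOf y with hm
  have hm0 : 0 < m := orderOf_pos y
  set r := k + m with hr
  have hyr : x⁻¹ * y * x = y ^ r := by rw [← hk', hr, pow_add, hm, pow_orderOf_eq_one, mul_one]
  have hiter : ∀ j : ℕ, (x ^ j)⁻¹ * y * x ^ j = y ^ (r ^ j) := by
    intro j
    induction j with
    | zero => simp
    | succ j ih =>
      have h1 : (x ^ (j + 1))⁻¹ * y * x ^ (j + 1) = MulAut.conj x⁻¹ ((x ^ j)⁻¹ * y * x ^ j) := by
        rw [MulAut.conj_apply, pow_succ]; group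
      rw [h1, ih, map_pow, MulAut.conj_apply, inv_inv, hyr, ← pow_mul, pow_succ']
  refine ⟨x, y, orderOf x, m, r, hclos, rfl, rfl, hyr, ?_, ?_, by omega, ?_⟩
  · set M := Subgroup.zpowers (y ^ (r - 1))
    haveI : M.Normal := ⟨by
      intro z hz g
      obtain ⟨j, rfl⟩ := Subgroup.mem_zpowers_iff.mp hz
      obtain ⟨i, hi⟩ := Subgroup.mem_zpowers_iff.mp (hconj g)
      refine Subgroup.mem_zpowers_iff.mpr ⟨i * j, ?_⟩
      rw [← conj_zpow, ← conj_pow, ← hi, ← zpow_natCast, ← zpow_natCast, ← zpow_mul, ← zpow_mul, ← zpow_mul]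
      ring_nf⟩
    have hxy : Commute (QuotientGroup.mk' M x) (QuotientGroup.mk' M y) := by
      have h1 : (x⁻¹ * y * x) = y * y ^ (r - 1) := by rw [hyr, ← pow_succ']; congr 1; omega
      have h2 : QuotientGroup.mk' M (y ^ (r - 1)) = 1 := (QuotientGroup.eq_one_iff _).mpr (Subgroup.mem_zpowers _)
      have h3 := congrArg (QuotientGroup.mk' M) h1
      rw [map_mul, map_mul, map_mul, map_inv, h2, mul_one, mul_assoc, inv_mul_eq_iff_eq_mul] at h3
      exact h3.symm
    have step : ∀ w : G ⧸ M, Commute w (QuotientGroup.mk' M x) → Commute w (QuotientGroup.mk' M y) →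
        ∀ g : G, Commute w (QuotientGroup.mk' M g) := by
      intro w h1 h2 g
      have : Subgroup.closure {x, y} ≤ (Subgroup.centralizer ({w} : Set (G ⧸ M))).comap (QuotientGroup.mk' M) := by
        rw [Subgroup.closure_le]
        rintro z (rfl | rfl)
        · exact Subgroup.mem_centralizer_singleton_iff.mpr h1.eq.symm
        · exact Subgroup.mem_centralizer_singleton_iff.mpr h2.eq.symm
      rw [hclos] at this
      exact (Subgroup.mem_centralizer_singleton_iff.mp (this (Subgroup.mem_top g))).symm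
    have hall : ∀ a b : G, Commute (QuotientGroup.mk' M a) (QuotientGroup.mk' M b) := fun a b =>
      step _ (step _ (Commute.refl _) hxy a).symm (step _ hxy.symm (Commute.refl _) a).symm b
    have hcm : commutator G ≤ M := by
      rw [commutator_def, Subgroup.commutator_le]
      intro a _ b _
      refine (QuotientGroup.eq_one_iff _).mp ?_
      show QuotientGroup.mk' M ⁅a, b⁆ = 1
      rw [map_commutatorElement]
      exact (hall a b).commutator_eq
    have hcard : Nat.card (commutator G) ≤ Nat.card M := Subgroup.card_le_of_le hcm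
    rw [← hNy, Nat.card_zpowers, Nat.card_zpowers, orderOf_pow] at hcard
    have hg : Nat.gcd m (r - 1) ∣ m := Nat.gcd_dvd_left _ _
    have hg0 : 0 < Nat.gcd m (r - 1) := Nat.gcd_pos_of_pos_left _ hm0
    by_contra hne
    have h2 : 1 < Nat.gcd m (r - 1) := by
      rcases Nat.lt_or_ge 1 (Nat.gcd m (r - 1)) with h | h
      · exact h
      · exact absurd (Nat.coprime_comm.mp (show Nat.Coprime m (r - 1) by unfold Nat.Coprime; omega)) hne
    exact absurd hcard (not_le.mpr (Nat.div_lt_self hm0 h2))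
  · have hco := hG.coprime_commutator_index
    rw [hH.symm.index_eq_card, ← hNy, ← hHx, Nat.card_zpowers, Nat.card_zpowers] at hco
    exact hco.symm
  · have h1 := hiter (orderOf x)
    rw [pow_orderOf_eq_one, inv_one, one_mul, mul_one] at h1
    have h2 : y ^ (r ^ orderOf x) = y ^ 1 := by rw [pow_one]; exact h1.symm
    exact pow_eq_pow_iff_modEq.mp h2

end Cfsg.Agent.S3379
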