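import Cfsg.Statements.S3381
import Mathlib

set_option autoImplicit false
open Cfsg

namespace Cfsg.Agent.S3381

section
variable {q : ℕ} [Fact q.Prime] {V : Type*} [AddCommGroup V] [Module (ZMod q) V] [Finite V]
  {G : Type*} [Group G] [Finite G]

def Fx (ρ : G →* (V ≃ₗ[ZMod q] V)) (t : G) : Submodule (ZMod q) V :=
  LinearMap.eqLocus (ρ t : V →ₗ[ZMod q] V) LinearMap.id

theorem mem_Fx {ρ : G →* (V ≃ₗ[ZMod q] V)} {t : G} {v : V} : v ∈ Fx ρ t ↔ ρ t v = v := Iff.rfl

theorem stab_eq {ρ : G →* (V ≃ₗ[ZMod q] V)}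
    (hstab : ∀ v : V, v ≠ 0 → Nat.card {g : G // ρ g v = v} = 2) {v : V} (hv : v ≠ 0) :
    ∃ t : G, t ≠ 1 ∧ ρ t v = v ∧ ∀ s : G, s ≠ 1 → ρ s v = v → s = t := by
  classical
  have := Fintype.ofFinite {g : G // ρ g v = v}
  have h2 := hstab v hv
  rw [Nat.card_eq_fintype_card] at h2
  obtain ⟨⟨t, ht⟩, hne⟩ := Fintype.exists_ne_of_one_lt_card (h2 ▸ Nat.one_lt_two)
    (⟨1, by simp⟩ : {g : G // ρ g v = v})
  have ht1 : t ≠ 1 := fun e => hne (Subtype.ext e)
  refine ⟨t, ht1, ht, fun s hs1 hs => ?_⟩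
  by_contra hst
  have h3 : ({⟨1, by simp⟩, ⟨t, ht⟩, ⟨s, hs⟩} : Finset {g : G // ρ g v = v}).card = 3 := by
    rw [Finset.card_eq_three]
    exact ⟨_, _, _, fun e => ht1 (congrArg Subtype.val e).symm,
      fun e => hs1 (congrArg Subtype.val e).symm, fun e => hst (congrArg Subtype.val e).symm, rfl⟩
  have := Finset.card_le_univ ({⟨1, by simp⟩, ⟨t, ht⟩, ⟨s, hs⟩} : Finset {g : G // ρ g v = v})
  omega

theorem central_neg {ρ : G →* (V ≃ₗ[ZMod q] V)} (hρ : Function.Injective ρ)
    (hstab : ∀ v : V, v ≠ 0 → Nat.card {g : G // ρ g v = v} = 2)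
    {z : G} (hz : orderOf z = 2) (hzc : z ∈ Subgroup.center G) :
    (∀ v : V, ρ z v = -v) ∧ ∀ v : V, ρ z v = v → v = 0 := by
  have hz1 : z ≠ 1 := fun e => by simp [e] at hz
  have hzz : ∀ v : V, ρ z (ρ z v) = v := fun v => by
    rw [← LinearEquiv.mul_apply, ← map_mul, ← pow_two, ← hz, pow_orderOf_eq_one, map_one,
      LinearEquiv.coe_one, id]
  -- off the fixed space, `z` is `-1`
  have h1 : ∀ u : V, ρ z u ≠ u → ρ z u = -u := by
    intro u hu
    have hu0 : u ≠ 0 := fun e => hu (by simp [e])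
    by_contra hne
    obtain ⟨t, ht1, ht, -⟩ := stab_eq hstab hu0
    have hw0 : u + ρ z u ≠ 0 := fun e => hne (eq_neg_of_add_eq_zero_right e)
    have hw : ρ t (u + ρ z u) = u + ρ z u := by
      rw [map_add, ht, ← LinearEquiv.mul_apply, ← map_mul, Subgroup.mem_center_iff.mp hzc t,
        map_mul, LinearEquiv.mul_apply, ht]
    have hzw : ρ z (u + ρ z u) = u + ρ z u := by rw [map_add, hzz]; abel
    obtain ⟨s, -, -, huniq⟩ := stab_eq hstab hw0
    rw [(huniq t ht1 hw).trans (huniq z hz1 hzw).symm] at ht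
    exact hu ht
  obtain ⟨u, hu⟩ : ∃ u, ρ z u ≠ u := by
    by_contra h
    push Not at h
    exact hz1 (hρ (by ext v; simp [h v]))
  have hfix : ∀ v : V, ρ z v = v → v = 0 := by
    intro v hv
    have e1 := h1 u hu
    have h2 : ρ z (u + v) ≠ u + v := by
      rw [map_add, hv]; exact fun e => hu (add_right_cancel e)
    have e2 := h1 _ h2
    rw [map_add, e1, hv, neg_add] at e2
    have e3 : v + v = 0 := by
      conv_lhs => arg 1; rw [add_left_cancel e2]
      simp
    by_contra hv0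
    have h22 : (2 : ZMod q) = 0 := by
      have h4 : (2 : ZMod q) • v = 0 := by rw [two_smul]; exact e3
      exact (smul_eq_zero.mp h4).resolve_right hv0
    refine hu ?_
    rw [e1, neg_eq_iff_add_eq_zero, ← two_smul (ZMod q), h22, zero_smul]
  refine ⟨fun v => ?_, hfix⟩
  by_cases hv : ρ z v = v
  · simp [hfix v hv]
  · exact h1 v hv

end

set_option maxHeartbeats 1000000 in
/-- Let G be a finite group acting faithfully and linearly on a non-trivial finite vector space V over the field with q elements (q prime) so that every non-zero vector has a stabilizer of order 2, and suppose G has a central involution. Then V has q^(2r) elements for some r and G contains exactly q^r + 1 non-central involutions. -/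
theorem result
    (q : ℕ) [Fact q.Prime] {V : Type*} [AddCommGroup V] [Module (ZMod q) V] [Finite V] [Nontrivial V]
    {G : Type*} [Group G] [Finite G] (ρ : G →* (V ≃ₗ[ZMod q] V)) (hρ : Function.Injective ρ)
    (hstab : ∀ v : V, v ≠ 0 → Nat.card {g : G // ρ g v = v} = 2)
    (z : G) (hz : orderOf z = 2) (hzc : z ∈ Subgroup.center G) :
    ∃ r : ℕ, Nat.card V = q ^ (2 * r) ∧
      Nat.card {g : G // orderOf g = 2 ∧ g ∉ Subgroup.center G} = q ^ r + 1 := by
  classical
  obtain ⟨hneg, hfix⟩ := central_neg hρ hstab hz hzc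
  have hq2 : (2 : ZMod q) ≠ 0 := by
    intro h
    obtain ⟨v, hv⟩ := exists_ne (0 : V)
    refine hv (hfix v ?_)
    rw [hneg, neg_eq_iff_add_eq_zero, ← two_smul (ZMod q), h, zero_smul]
  have hzt : ∀ (t : G) (v : V), ρ (t * z) v = - ρ t v := fun t v => by
    rw [map_mul, LinearEquiv.mul_apply, hneg, map_neg]
  have sq : ∀ g : G, orderOf g = 2 → g * g = 1 := fun g hg => by
    rw [← pow_two, ← hg, pow_orderOf_eq_one]
  let I := {g : G // orderOf g = 2 ∧ g ∉ Subgroup.center G}
  have hstab' : ∀ v : V, v ≠ 0 → ∃ t : I, ρ t.1 v = v ∧ ∀ s : I, ρ s.1 v = v → s = t := by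
    intro v hv
    obtain ⟨t, ht1, ht, huniq⟩ := stab_eq hstab hv
    have ht2 : orderOf t = 2 := by
      refine orderOf_eq_prime ?_ ht1
      by_contra h
      have h' := huniq (t ^ 2) h (by rw [map_pow, pow_two, LinearEquiv.mul_apply, ht, ht])
      exact ht1 (by rwa [pow_two, mul_eq_left] at h')
    refine ⟨⟨t, ht2, fun hc => hv ((central_neg hρ hstab ht2 hc).2 v ht)⟩, ht, fun s hs => ?_⟩
    exact Subtype.ext (huniq s.1 (fun e => by have := s.2.1; simp [e] at this) hs)
  have htz : ∀ t : I, orderOf (t.1 * z) = 2 ∧ t.1 * z ∉ Subgroup.center G := by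
    intro t
    refine ⟨orderOf_eq_prime ?_ fun e => t.2.2 ?_, fun hc => t.2.2 ?_⟩
    · have h1 : Commute t.1 z := Subgroup.mem_center_iff.mp hzc t.1
      have e1 : t.1 ^ 2 = 1 := by simpa [t.2.1] using pow_orderOf_eq_one t.1
      have e2 : z ^ 2 = 1 := by simpa [hz] using pow_orderOf_eq_one z
      rw [h1.mul_pow, e1, e2, one_mul]
    · rw [eq_inv_of_mul_eq_one_left e]; exact inv_mem hzc
    · simpa [mul_assoc] using mul_mem hc (inv_mem hzc)
  set n := Module.finrank (ZMod q) V with hn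
  obtain ⟨d, hdd⟩ : ∃ d : G → ℕ, ∀ t, d t = Module.finrank (ZMod q) (Fx ρ t) := ⟨_, fun _ => rfl⟩
  have hcompl : ∀ t : I, d t.1 + d (t.1 * z) = n := by
    intro t
    rw [hdd, hdd]
    refine Submodule.finrank_add_eq_of_isCompl ⟨?_, ?_⟩
    · rw [Submodule.disjoint_def]
      intro v h1 h2
      rw [mem_Fx] at h1 h2
      rw [hzt, h1] at h2
      exact hfix v ((hneg v).trans h2)
    · rw [codisjoint_iff, eq_top_iff]
      intro v _
      have e : v = (2 : ZMod q)⁻¹ • (v + ρ t.1 v) + (2 : ZMod q)⁻¹ • (v - ρ t.1 v) := by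
        rw [← smul_add, add_add_sub_cancel, ← two_smul (ZMod q), smul_smul, inv_mul_cancel₀ hq2,
          one_smul]
      have ht2 : ρ t.1 (ρ t.1 v) = v := by
        rw [← LinearEquiv.mul_apply, ← map_mul, sq _ t.2.1, map_one,
          LinearEquiv.coe_one, id]
      rw [e]
      refine Submodule.add_mem_sup (Submodule.smul_mem _ _ ?_) (Submodule.smul_mem _ _ ?_)
      · rw [mem_Fx, map_add, ht2, add_comm]
      · rw [mem_Fx, hzt, map_sub, ht2, neg_sub]
  have hne : ∀ t : I, ∃ v, v ≠ 0 ∧ ρ t.1 v = v := by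
    intro t
    by_contra h
    push Not at h
    refine t.2.2 ?_
    have h1 : t.1 = z := hρ (by
      ext v
      rw [hneg]
      by_contra hc
      refine h (v + ρ t.1 v) (fun e => hc (eq_neg_of_add_eq_zero_right e)) ?_
      rw [map_add, ← LinearEquiv.mul_apply, ← map_mul, sq _ t.2.1,
        map_one, LinearEquiv.coe_one, id, add_comm])
    rw [h1]; exact hzc
  have hdis : ∀ s t : I, s ≠ t → d s.1 + d t.1 ≤ n := by
    intro s t hst
    rw [hdd, hdd]
    refine Submodule.finrank_add_finrank_le_of_disjoint (Submodule.disjoint_def.mpr fun v h1 h2 => ?_)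
    by_contra hv
    obtain ⟨u, -, hu⟩ := hstab' v hv
    exact hst ((hu s h1).trans (hu t h2).symm)
  have hhalf : ∀ t : I, n = 2 * d t.1 := by
    intro t
    obtain ⟨v, hv0, hv⟩ := hne t
    let tz : I := ⟨t.1 * z, htz t⟩
    obtain ⟨u, hu0, hu⟩ := hne tz
    have hu' : ρ t.1 u = -u := by
      have : ρ (t.1 * z) u = u := hu
      rw [hzt] at this
      exact neg_eq_iff_eq_neg.mp this
    have hu2 : ρ t.1 u ≠ u := fun e => hu0 (hfix u ((hneg u).trans (hu'.symm.trans e)))
    have hvu : v + u ≠ 0 := fun e => hu2 (by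
      rw [eq_neg_of_add_eq_zero_right e, map_neg, hv])
    obtain ⟨s, hs, -⟩ := hstab' _ hvu
    have hst : s ≠ t := fun e => hu2 (by
      subst e
      rw [map_add, hv] at hs
      exact add_left_cancel hs)
    have hstz : s ≠ tz := fun e => by
      subst e
      have : ρ (t.1 * z) (v + u) = v + u := hs
      rw [hzt, map_add, hv, hu', neg_add, neg_neg] at this
      exact hv0 (hfix v ((hneg v).trans (add_right_cancel this)))
    have hsz : (⟨s.1 * z, htz s⟩ : I) ≠ t := fun e => hstz (Subtype.ext (by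
      have h1 : s.1 * z = t.1 := congrArg Subtype.val e
      show s.1 = t.1 * z
      rw [← h1, mul_assoc, sq z hz, mul_one]))
    have hszz : (⟨s.1 * z, htz s⟩ : I) ≠ tz := fun e => hst (Subtype.ext
      (mul_right_cancel (congrArg Subtype.val e : s.1 * z = t.1 * z)))
    have e1 := hcompl t
    have e2 := hcompl s
    have e3 := hdis s t hst
    have e4 : d s.1 + d (t.1 * z) ≤ n := hdis s tz hstz
    have e5 : d (s.1 * z) + d t.1 ≤ n := hdis _ t hsz
    have e6 : d (s.1 * z) + d (t.1 * z) ≤ n := hdis _ tz hszz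
    omega
  obtain ⟨v₀, hv₀⟩ := exists_ne (0 : V)
  obtain ⟨t₀, -, -⟩ := hstab' v₀ hv₀
  set r := d t₀.1 with hr
  have hd : ∀ t : I, d t.1 = r := fun t => by have := hhalf t; have := hhalf t₀; omega
  have hcV : Nat.card V = q ^ (2 * r) := by
    rw [Module.natCard_eq_pow_finrank (K := ZMod q), Nat.card_zmod, ← hn, hhalf t₀]
  refine ⟨r, hcV, ?_⟩
  have hr0 : 0 < r := by
    by_contra h
    have h1 : 1 < Nat.card V := Finite.one_lt_card
    rw [hcV, show r = 0 by omega] at h1
    simp at h1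
  choose tt htt huniq using hstab'
  have : Fintype I := Fintype.ofFinite I
  let f : (Σ t : I, {w : Fx ρ t.1 // w ≠ 0}) → {v : V // v ≠ 0} :=
    fun p => ⟨p.2.1.1, fun e => p.2.2 (Subtype.ext e)⟩
  have hf : Function.Bijective f := by
    refine ⟨?_, fun v => ⟨⟨tt v.1 v.2, ⟨⟨v.1, htt v.1 v.2⟩, fun e => v.2 (congrArg Subtype.val e)⟩⟩, rfl⟩⟩
    rintro ⟨t, ⟨w, hw⟩, hw0⟩ ⟨t', ⟨w', hw'⟩, hw0'⟩ h
    have e : w = w' := congrArg Subtype.val h
    subst e
    have hw1 : w ≠ 0 := fun e => hw0 (Subtype.ext e)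
    obtain rfl : t = t' := (huniq w hw1 t hw).trans (huniq w hw1 t' hw').symm
    rfl
  let e := (Equiv.ofBijective f hf).symm
  have hsub : ∀ (W : Submodule (ZMod q) V), Nat.card {w : W // w ≠ 0} = Nat.card W - 1 := by
    intro W
    have := Fintype.ofFinite W
    rw [Nat.card_eq_fintype_card, Nat.card_eq_fintype_card, Fintype.card_subtype_compl]
    simp
  have h1 := Nat.card_congr e
  rw [Nat.card_sigma] at h1
  simp only [hsub, Module.natCard_eq_pow_finrank (K := ZMod q) (V := Fx ρ _), Nat.card_zmod] at h1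
  rw [Finset.sum_congr rfl (fun t _ => by rw [← hdd, hd t]),
    Finset.sum_const, smul_eq_mul, Finset.card_univ, ← Nat.card_eq_fintype_card] at h1
  have h2 : Nat.card {v : V // v ≠ 0} = q ^ (2 * r) - 1 := by
    have := Fintype.ofFinite V
    rw [← hcV, Nat.card_eq_fintype_card, Nat.card_eq_fintype_card, Fintype.card_subtype_compl]
    simp
  rw [h2] at h1
  have hq1 : 1 < q ^ r := Nat.one_lt_pow hr0.ne' (Fact.out : q.Prime).one_lt
  have h3 : q ^ (2 * r) - 1 = (q ^ r + 1) * (q ^ r - 1) := by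
    rw [show 2 * r = r * 2 by ring, pow_mul, ← Nat.sq_sub_sq, one_pow]
  rw [h3] at h1
  exact (Nat.eq_of_mul_eq_mul_right (by omega) h1).symm

end Cfsg.Agent.S3381
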