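import Cfsg.Statements.S3382
import Mathlib

set_option autoImplicit false
open Cfsg

namespace Cfsg.Agent.S3382

section
variable {q : ℕ} [Fact q.Prime] {T : Subgroup ((Fin 2 → ZMod q) ≃ₗ[ZMod q] (Fin 2 → ZMod q))}

def D (x : T) (a b : ZMod q) : Prop := ∀ v, x.1 v = ![a * v 0, b * v 1]
def W (x : T) (a b : ZMod q) : Prop := ∀ v, x.1 v = ![a * v 1, b * v 0]

theorem D_mul {x y : T} {a b c d : ZMod q} (h : D x a b) (h' : D y c d) :
    D (x * y) (a * c) (b * d) := fun v => by
  rw [Subgroup.coe_mul, LinearEquiv.mul_apply, h' v, h]; simp [mul_assoc]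

theorem D_mul_W {x y : T} {a b c d : ZMod q} (h : D x a b) (h' : W y c d) :
    W (x * y) (a * c) (b * d) := fun v => by
  rw [Subgroup.coe_mul, LinearEquiv.mul_apply, h' v, h]; simp [mul_assoc]

theorem W_mul_D {x y : T} {a b c d : ZMod q} (h : W x a b) (h' : D y c d) :
    W (x * y) (a * d) (b * c) := fun v => by
  rw [Subgroup.coe_mul, LinearEquiv.mul_apply, h' v, h]; simp [mul_assoc]

theorem W_mul {x y : T} {a b c d : ZMod q} (h : W x a b) (h' : W y c d) :
    D (x * y) (a * d) (b * c) := fun v => by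
  rw [Subgroup.coe_mul, LinearEquiv.mul_apply, h' v, h]; simp [mul_assoc]

theorem D_one : D (1 : T) 1 1 := fun v => by
  rw [Subgroup.coe_one, LinearEquiv.coe_one, id]
  ext i; fin_cases i <;> simp

theorem D_pow {x : T} {a b : ZMod q} (h : D x a b) (n : ℕ) : D (x ^ n) (a ^ n) (b ^ n) := by
  induction n with
  | zero => simpa using D_one
  | succ n ih => rw [pow_succ, pow_succ, pow_succ]; exact D_mul ih h

theorem D_eq {x y : T} {a b : ZMod q} (h : D x a b) (h' : D y a b) : x = y :=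
  Subtype.ext (LinearEquiv.ext fun v => (h v).trans (h' v).symm)

theorem W_eq {x y : T} {a b : ZMod q} (h : W x a b) (h' : W y a b) : x = y :=
  Subtype.ext (LinearEquiv.ext fun v => (h v).trans (h' v).symm)

theorem D_uniq {x : T} {a b c d : ZMod q} (h : D x a b) (h' : D x c d) : a = c ∧ b = d := by
  have e := (h ![1, 1]).symm.trans (h' ![1, 1])
  exact ⟨by simpa using congrFun e 0, by simpa using congrFun e 1⟩

theorem W_uniq {x : T} {a b c d : ZMod q} (h : W x a b) (h' : W x c d) : a = c ∧ b = d := by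
  have e := (h ![1, 1]).symm.trans (h' ![1, 1])
  exact ⟨by simpa using congrFun e 0, by simpa using congrFun e 1⟩

theorem not_DW {x : T} {a b c d : ZMod q} (ha : a ≠ 0) (h : D x a b) (h' : W x c d) : False := by
  have e := (h ![1, 0]).symm.trans (h' ![1, 0])
  exact ha (by simpa using congrFun e 0)

end

theorem z2 : ∀ a : ZMod 2, a ≠ 0 → a = 1 := by decide

theorem z3 : ∀ a : ZMod 3, a ≠ 0 → a = 1 ∨ a = -1 := by decide

theorem z3ne : (-1 : ZMod 3) ≠ 1 := by decide

/-- An automorphism of odd prime order fixing a subgroup's element `a` and moving `x` to `x * a`. -/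
theorem fix_of_stab {X : Type*} [Group X] {φ : MulAut X} {p k : ℕ} (hp : Odd p) (hφ : φ ^ p = 1)
    {x a : X} (ha : φ a = a) (hx : φ x = x * a) (hk : a ^ 2 ^ k = 1) : φ x = x := by
  have h : ∀ n : ℕ, (φ ^ n) x = x * a ^ n := by
    intro n
    induction n with
    | zero => simp
    | succ n ih => rw [pow_succ', MulAut.mul_apply, ih, map_mul, hx, map_pow, ha, pow_succ', mul_assoc]
  have h1 := h p
  rw [hφ, MulAut.one_apply] at h1
  have h2 : a ^ p = 1 := by rwa [eq_comm, mul_eq_left] at h1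
  have h3 : a = 1 := orderOf_eq_one_iff.mp (Nat.dvd_one.mp (by
    have := Nat.dvd_gcd (orderOf_dvd_of_pow_eq_one h2) (orderOf_dvd_of_pow_eq_one hk)
    have hc : Nat.Coprime p (2 ^ k) := Nat.Coprime.pow_right k (Nat.coprime_two_right.mpr hp)
    rwa [hc] at this))
  rw [hx, h3, mul_one]

/-- An automorphism of odd order cannot exchange two elements. -/
theorem fix_of_swap {X : Type*} [Group X] {φ : MulAut X} {p : ℕ} (hp : Odd p) (hφ : φ ^ p = 1)
    {x y : X} (h1 : φ x = y) (h2 : φ y = x) : φ x = x := by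
  obtain ⟨k, rfl⟩ := hp
  have h : ∀ n : ℕ, (φ ^ (2 * n)) x = x := by
    intro n
    induction n with
    | zero => simp
    | succ n ih =>
      rw [show 2 * (n + 1) = 2 + 2 * n by ring, pow_add, MulAut.mul_apply, ih, pow_two,
        MulAut.mul_apply, h1, h2]
  have h3 : (φ ^ (2 * k + 1)) x = x := by rw [hφ, MulAut.one_apply]
  rwa [pow_succ', MulAut.mul_apply, h k] at h3

/-- Let q = 2^m + 1 be a prime other than 5. Then the automorphism group of the group of linear maps of F_q² of the forms (x, y) ↦ (a x, ± a⁻¹ y) and (x, y) ↦ (± a⁻¹ y, a x) with a ≠ 0 is itself a 2-group. -/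
theorem result (q m : ℕ) [Fact q.Prime] (hq : q = 2 ^ m + 1) (hq5 : q ≠ 5)
    (T : Subgroup ((Fin 2 → ZMod q) ≃ₗ[ZMod q] (Fin 2 → ZMod q)))
    (hT : ∀ f, f ∈ T ↔ ∃ a s : ZMod q, a ≠ 0 ∧ (s = 1 ∨ s = -1) ∧
      ((∀ v, f v = ![a * v 0, s * a⁻¹ * v 1]) ∨ (∀ v, f v = ![s * a⁻¹ * v 1, a * v 0]))) :
    IsPGroup 2 (MulAut T) := by
  classical
  have : Finite ((Fin 2 → ZMod q) ≃ₗ[ZMod q] (Fin 2 → ZMod q)) :=
    Finite.of_injective _ (DFunLike.coe_injective)
  have : Finite (MulAut T) := Finite.of_injective _ (DFunLike.coe_injective)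
  have hcase : ∀ x : T, ∃ a s : ZMod q, a ≠ 0 ∧ (s = 1 ∨ s = -1) ∧
      (D x a (s * a⁻¹) ∨ W x (s * a⁻¹) a) := fun x => by
    obtain ⟨a, s, ha, hs, h⟩ := (hT x.1).mp x.2
    exact ⟨a, s, ha, hs, h⟩
  -- constructors
  let mkD : ∀ (u t : (ZMod q)ˣ), (Fin 2 → ZMod q) ≃ₗ[ZMod q] (Fin 2 → ZMod q) := fun u t =>
    { toFun := fun v => ![u * v 0, t * v 1]
      invFun := fun v => ![↑u⁻¹ * v 0, ↑t⁻¹ * v 1]
      map_add' := fun v w => by
        funext i; fin_cases i
        · exact mul_add _ _ _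
        · exact mul_add _ _ _
      map_smul' := fun r v => by
        funext i; fin_cases i
        · exact mul_left_comm _ _ _
        · exact mul_left_comm _ _ _
      left_inv := fun v => by
        funext i; fin_cases i
        · exact Units.inv_mul_cancel_left u _
        · exact Units.inv_mul_cancel_left t _
      right_inv := fun v => by
        funext i; fin_cases i
        · exact Units.mul_inv_cancel_left u _
        · exact Units.mul_inv_cancel_left t _ }
  have hD : ∀ a s : ZMod q, a ≠ 0 → (s = 1 ∨ s = -1) → ∃ x : T, D x a (s * a⁻¹) := by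
    intro a s ha hs
    have hs0 : s * a⁻¹ ≠ 0 := mul_ne_zero (by rcases hs with rfl | rfl <;> simp) (inv_ne_zero ha)
    exact ⟨⟨mkD (Units.mk0 a ha) (Units.mk0 _ hs0),
      (hT _).mpr ⟨a, s, ha, hs, Or.inl fun v => rfl⟩⟩, fun v => rfl⟩
  let sw : (Fin 2 → ZMod q) ≃ₗ[ZMod q] (Fin 2 → ZMod q) :=
    LinearEquiv.funCongrLeft (ZMod q) (ZMod q) (Equiv.swap 0 1)
  have hswv : ∀ v, sw v = ![v 1, v 0] := fun v => by
    ext i; fin_cases i <;> simp [sw, LinearEquiv.funCongrLeft_apply, LinearMap.funLeft]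
  let w : T := ⟨sw, (hT _).mpr ⟨1, 1, one_ne_zero, Or.inl rfl, Or.inr fun v => by simp [hswv]⟩⟩
  have hw : W w 1 1 := fun v => by show sw v = _; simp [hswv]
  obtain ⟨ε, hε⟩ := hD 1 (-1) one_ne_zero (Or.inr rfl)
  simp only [inv_one, mul_one] at hε
  suffices key : ∀ (p : ℕ), p.Prime → Odd p → ∀ φ : MulAut T, φ ^ p = 1 → φ = 1 by
    refine IsPGroup.of_card (n := (Nat.card (MulAut T)).primeFactorsList.length)
      (Nat.eq_prime_pow_of_unique_prime_dvd Nat.card_pos.ne' fun {d} hd hdd => ?_)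
    by_contra hd2
    have := Fact.mk hd
    obtain ⟨φ, hφ⟩ := exists_prime_orderOf_dvd_card' d hdd
    have h1 := key d hd (hd.odd_of_ne_two hd2) φ (hφ ▸ pow_orderOf_eq_one φ)
    rw [h1, orderOf_one] at hφ
    exact hd.ne_one hφ.symm
  intro p hp hodd φ hφ
  by_cases hm0 : m = 0
  · subst hm0
    norm_num at hq
    subst hq
    have hgen : ∀ x : T, x = 1 ∨ x = w := by
      intro x
      obtain ⟨a, s, ha, hs, h⟩ := hcase x
      have ha1 : a = 1 := z2 a ha
      have hs1 : s = 1 := z2 s (by rcases hs with rfl | rfl <;> simp)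
      subst ha1 hs1
      simp only [inv_one, one_mul] at h
      rcases h with h | h
      · exact Or.inl (D_eq h D_one)
      · exact Or.inr (W_eq h hw)
    refine MulEquiv.ext fun x => ?_
    rcases hgen x with rfl | rfl
    · simp
    · rcases hgen (φ w) with h | h
      · rw [φ.map_eq_one_iff] at h; simp [h]
      · simpa using h
  have hq3 : 3 ≤ q := by
    have : 2 ^ 1 ≤ 2 ^ m := Nat.pow_le_pow_right (by norm_num) (Nat.one_le_iff_ne_zero.mpr hm0)
    omega
  have hne1 : (-1 : ZMod q) ≠ 1 := by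
    intro h
    have h2 : ((2 : ℕ) : ZMod q) = 0 := by
      push_cast
      linear_combination -h
    rw [ZMod.natCast_eq_zero_iff] at h2
    have := Nat.le_of_dvd (by norm_num) h2
    omega
  by_cases hm1 : m = 1
  · subst hm1
    norm_num at hq
    subst hq
    let r : T := ε * w
    have hr : W r 1 (-1) := by simpa using D_mul_W hε hw
    have hr2 : D (r * r) (-1) (-1) := by simpa using W_mul hr hr
    have hr3 : W (r * (r * r)) (-1) 1 := by simpa using W_mul_D hr hr2
    have hrr : r * r ≠ 1 := fun e => z3ne (D_uniq hr2 (e ▸ D_one)).1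
    -- the elements whose square is not `1`
    have hbig : ∀ x : T, x * x ≠ 1 → x = r ∨ x = r * (r * r) := by
      intro x hx
      obtain ⟨a, s, ha, hs, h | h⟩ := hcase x
      · refine absurd (D_eq (D_mul h h) ?_) hx
        rcases z3 a ha with rfl | rfl <;> rcases hs with rfl | rfl <;>
          simpa [inv_neg] using (D_one (q := 3) (T := T))
      · rcases hs with rfl | rfl
        · refine absurd (D_eq (W_mul h h) ?_) hx
          rcases z3 a ha with rfl | rfl <;> simpa [inv_neg] using (D_one (q := 3) (T := T))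
        · rcases z3 a ha with rfl | rfl
          · exact Or.inr (W_eq h (by simpa [inv_neg] using hr3))
          · exact Or.inl (W_eq h (by simpa [inv_neg] using hr))
    have hne : ∀ y : T, y = r → φ y * φ y ≠ 1 := by
      rintro y rfl
      rw [← map_mul]; exact fun e => hrr (φ.map_eq_one_iff.mp e)
    have hfr : φ r = r := by
      rcases hbig (φ r) (hne r rfl) with h | h
      · exact h
      · refine fix_of_swap hodd hφ h ?_
        rw [← h]
        rcases hbig (φ (φ r)) (by
          rw [← map_mul, ← map_mul]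
          exact fun e => hrr (φ.map_eq_one_iff.mp (φ.map_eq_one_iff.mp e))) with h' | h'
        · exact h'
        · exfalso
          have h0 := φ.injective (h'.trans h.symm)
          rw [h] at h0
          exact hrr (mul_eq_left.mp h0)
    have hgen : ∀ x : T, ∃ i : ℕ, x = r ^ i ∨ x = ε * r ^ i := by
      intro x
      obtain ⟨a, s, ha, hs, h | h⟩ := hcase x
      · rcases z3 a ha with rfl | rfl <;> rcases hs with rfl | rfl
        · exact ⟨0, Or.inl (by simpa using D_eq h (by simpa using D_one))⟩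
        · exact ⟨0, Or.inr (by simpa using D_eq h (by simpa using hε))⟩
        · exact ⟨2, Or.inl (D_eq h (by simpa [inv_neg, pow_two] using hr2))⟩
        · exact ⟨2, Or.inr (D_eq h (by simpa [inv_neg, pow_two] using D_mul hε hr2))⟩
      · rcases z3 a ha with rfl | rfl <;> rcases hs with rfl | rfl
        · exact ⟨1, Or.inr (W_eq h (by simpa using D_mul_W hε hr))⟩
        · exact ⟨3, Or.inl (W_eq h (by simpa [pow_succ', pow_zero] using hr3))⟩
        · exact ⟨3, Or.inr (W_eq h (by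
            simpa [inv_neg, pow_succ', pow_zero] using D_mul_W hε hr3))⟩
        · exact ⟨1, Or.inl (W_eq h (by simpa [inv_neg] using hr))⟩
    have hr4' : r ^ 2 ^ 2 = 1 := by
      rw [show (2 : ℕ) ^ 2 = 2 + 2 by rfl, pow_add, pow_two]
      exact D_eq (D_mul hr2 hr2) (by simpa using D_one)
    have hfε : φ ε = ε := by
      obtain ⟨i, h | h⟩ := hgen (φ ε)
      · have h1 : φ (r ^ i) = r ^ i := by rw [map_pow, hfr]
        exact (φ.injective (h.trans h1.symm)).symm ▸ h1
      · refine fix_of_stab (k := 2) hodd hφ (by rw [map_pow, hfr]) h ?_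
        rw [← pow_mul, mul_comm, pow_mul, hr4', one_pow]
    refine MulEquiv.ext fun x => ?_
    obtain ⟨i, rfl | rfl⟩ := hgen x <;> simp [map_pow, hfr, hfε]
  -- the case `q ≥ 17`
  have hm3 : 3 ≤ m := by
    by_contra h
    have h2 : m = 2 := by omega
    subst h2
    exact hq5 (by norm_num at hq; exact hq)
  obtain ⟨u, hu⟩ := IsCyclic.exists_generator (α := (ZMod q)ˣ)
  have hu' : orderOf u = 2 ^ m := by
    rw [orderOf_eq_card_of_forall_mem_zpowers hu, Nat.card_units, Nat.card_zmod, hq]; simp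
  set c : ZMod q := (u : ZMod q) with hc
  have hc0 : c ≠ 0 := u.ne_zero
  have hordc : orderOf c = 2 ^ m := by rw [hc, orderOf_units, hu']
  have hpow : ∀ a : ZMod q, a ≠ 0 → ∃ i : ℕ, a = c ^ i := fun a ha => by
    obtain ⟨i, hi⟩ := mem_powers_iff_mem_zpowers.mpr (hu (Units.mk0 a ha))
    exact ⟨i, by rw [hc, ← Units.val_pow_eq_pow_val]; exact (congrArg Units.val hi).symm⟩
  obtain ⟨g, hg⟩ := hD c 1 hc0 (Or.inl rfl)
  rw [one_mul] at hg
  have hsq : ∀ s : ZMod q, (s = 1 ∨ s = -1) → s * s = 1 := by rintro s (rfl | rfl) <;> simp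
  -- elements outside the diagonal subgroup have order at most four
  have hA : ∀ x : T, x ^ 4 ≠ 1 → ∃ a s : ZMod q, a ≠ 0 ∧ (s = 1 ∨ s = -1) ∧ D x a (s * a⁻¹) := by
    intro x hx
    obtain ⟨a, s, ha, hs, h | h⟩ := hcase x
    · exact ⟨a, s, ha, hs, h⟩
    · exfalso
      apply hx
      have h4 := D_pow (W_mul h h) 2
      have e1 : s * a⁻¹ * a = s := by rw [mul_assoc, inv_mul_cancel₀ ha, mul_one]
      rw [mul_comm a (s * a⁻¹), e1, pow_two s, hsq s hs, ← pow_two x, ← pow_mul] at h4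
      exact D_eq h4 D_one
  have hc4 : c ^ 4 ≠ 1 := by
    intro h
    have h1 := Nat.le_of_dvd (by norm_num) (hordc ▸ orderOf_dvd_of_pow_eq_one h)
    have h2 : 2 ^ 3 ≤ 2 ^ m := Nat.pow_le_pow_right (by norm_num) hm3
    omega
  have hg4 : g ^ 4 ≠ 1 := fun e => hc4 (D_uniq (D_pow hg 4) (e ▸ D_one)).1
  obtain ⟨a, s, ha, hs, hφg⟩ := hA (φ g) (by
    rw [← map_pow]; exact fun e => hg4 (φ.map_eq_one_iff.mp e))
  -- squares
  obtain ⟨i, hi⟩ := hpow a ha
  have hφg2 : φ (g ^ 2) = (g ^ 2) ^ i := by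
    rw [map_pow]
    refine D_eq (D_pow hφg 2) ?_
    have := D_pow (D_pow hg 2) i
    convert this using 1
    · rw [hi, ← pow_mul, ← pow_mul, mul_comm]
    · rw [mul_pow, pow_two s, hsq s hs, one_mul, hi, inv_pow, inv_pow, inv_pow, ← pow_mul, ← pow_mul,
        mul_comm]
  have hord2 : orderOf (g ^ 2) = 2 ^ (m - 1) := by
    have h1 : orderOf g = 2 ^ m := by
      refine Nat.dvd_antisymm (orderOf_dvd_of_pow_eq_one (D_eq (D_pow hg _) ?_)) (hordc ▸ ?_)
      · rw [inv_pow, ← hordc, pow_orderOf_eq_one, inv_one]; exact D_one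
      · exact orderOf_dvd_of_pow_eq_one (D_uniq (D_pow hg _) ((pow_orderOf_eq_one g).symm ▸ D_one)).1
    rw [orderOf_pow_of_dvd two_ne_zero (h1 ▸ dvd_pow_self 2 hm0), h1]
    exact Nat.pow_div (Nat.one_le_iff_ne_zero.mpr hm0) (by norm_num)
  have hfix2 : φ (g ^ 2) = g ^ 2 := by
    have h : ∀ n : ℕ, (φ ^ n) (g ^ 2) = (g ^ 2) ^ (i ^ n) := by
      intro n
      induction n with
      | zero => simp
      | succ n ih =>
        rw [pow_succ' φ, MulAut.mul_apply, ih, map_pow, hφg2, ← pow_mul (g ^ 2), pow_succ' i]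
    have h1 := h p
    rw [hφ, MulAut.one_apply] at h1
    have h2 : ((i : ZMod (2 ^ (m - 1))) ^ p) = 1 := by
      have h3 : i ^ p ≡ 1 [MOD 2 ^ (m - 1)] := by
        rw [← hord2]
        exact pow_eq_pow_iff_modEq.mp (by rw [pow_one]; exact h1.symm)
      have := (ZMod.natCast_eq_natCast_iff _ _ _).mpr h3
      push_cast at this; exact this
    obtain ⟨v, hv⟩ := IsUnit.of_pow_eq_one h2 hp.ne_zero
    have hv1 : v = 1 := by
      have hvp : v ^ p = 1 := Units.ext (by rw [Units.val_pow_eq_pow_val, hv, h2, Units.val_one])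
      have hc2 : Nat.Coprime p (Nat.card (ZMod (2 ^ (m - 1)))ˣ) := by
        rw [Nat.card_eq_fintype_card, ZMod.card_units_eq_totient,
          Nat.totient_prime_pow Nat.prime_two (by omega)]
        norm_num
        exact Nat.Coprime.pow_right _ (Nat.coprime_two_right.mpr hodd)
      have h4 := Nat.dvd_gcd (orderOf_dvd_of_pow_eq_one hvp) (orderOf_dvd_natCard v)
      rw [hc2] at h4
      exact orderOf_eq_one_iff.mp (Nat.dvd_one.mp h4)
    rw [hφg2]
    conv_rhs => rw [← pow_one (g ^ 2)]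
    rw [pow_eq_pow_iff_modEq, hord2, ← ZMod.natCast_eq_natCast_iff, ← hv, hv1]
    simp
  have hn1 : ∀ x : T, D x (-1) (-1) → φ x = x := by
    intro x hx
    obtain ⟨j, hj⟩ := hpow (-1) (by simp)
    have hev : 2 ∣ j := by
      by_contra hjo
      have h1 : (c ^ j) ^ 2 = 1 := by rw [← hj]; simp
      rw [← pow_mul] at h1
      have h2 := hordc ▸ orderOf_dvd_of_pow_eq_one h1
      have h3 : (2 : ℕ) ^ 2 ∣ 2 ^ m := pow_dvd_pow 2 (by omega)
      exact hjo (by have := h3.trans h2; omega)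
    obtain ⟨k, rfl⟩ := hev
    have hxe : x = (g ^ 2) ^ k := by
      refine D_eq hx ?_
      convert D_pow (D_pow hg 2) k using 1
      · rw [← pow_mul]; exact hj
      · rw [← pow_mul, inv_pow, ← hj, inv_neg, inv_one]
    rw [hxe, map_pow, hfix2]
  obtain ⟨ν, hν⟩ := hD (-1) 1 (by simp) (Or.inl rfl)
  rw [one_mul, inv_neg, inv_one] at hν
  have hge4 : (g * ε) ^ 4 ≠ 1 := fun e => by
    have := (D_uniq (D_pow (D_mul hg hε) 4) (e ▸ D_one)).1
    rw [mul_one] at this
    exact hc4 this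
  obtain ⟨a', s', ha', hs', hφge⟩ := hA (φ (g * ε)) (by
    rw [← map_pow]; exact fun e => hge4 (φ.map_eq_one_iff.mp e))
  have hε2 : ε * ε = 1 := D_eq (D_mul hε hε) (by simpa using D_one)
  obtain ⟨b₀, b₁, hφε⟩ : ∃ b₀ b₁, D (φ ε) b₀ b₁ := by
    obtain ⟨y, hy⟩ := hD a⁻¹ s (inv_ne_zero ha) hs
    rw [inv_inv] at hy
    refine ⟨_, _, (?_ : D (φ ε) (a⁻¹ * a') (s * a * (s' * a'⁻¹)))⟩
    have h1 : y * φ g = 1 := by
      refine D_eq (D_mul hy hφg) ?_
      convert D_one (q := q) (T := T) using 1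
      · rw [inv_mul_cancel₀ ha]
      · rw [mul_mul_mul_comm, hsq s hs, mul_inv_cancel₀ ha, one_mul]
    have h2 : φ ε = y * φ (g * ε) := by rw [map_mul, ← mul_assoc, h1, one_mul]
    rw [h2]; exact D_mul hy hφge
  have hfε : φ ε = ε := by
    have h1 := D_uniq (D_mul hφε hφε) (by rw [← map_mul, hε2, map_one]; exact D_one)
    rcases mul_self_eq_one_iff.mp h1.1 with rfl | rfl <;>
      rcases mul_self_eq_one_iff.mp h1.2 with rfl | rfl
    · have h2 := φ.map_eq_one_iff.mp (D_eq hφε D_one)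
      exact absurd (D_uniq hε (h2 ▸ D_one)).2 hne1
    · exact D_eq hφε hε
    · have h2 : φ ε = ε * ν := D_eq hφε (by simpa using D_mul hε hν)
      exact fix_of_stab (k := 1) hodd hφ (hn1 ν hν) h2
        (by rw [pow_one, pow_two]; exact D_eq (D_mul hν hν) (by simpa using D_one))
    · have h2 : φ ε = φ ν := by rw [hn1 ν hν]; exact D_eq hφε hν
      exact absurd (D_uniq hε (φ.injective h2 ▸ hν)).1 (Ne.symm hne1)
  -- `φ` fixes `g`
  have hfg : φ g = g := by
    have h2 : φ g ^ 2 = g ^ 2 := by rw [← map_pow, hfix2]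
    have h3 := (D_uniq (D_pow hφg 2) (h2 ▸ D_pow hg 2)).1
    rcases sq_eq_sq_iff_eq_or_eq_neg.mp h3 with rfl | rfl <;> rcases hs with rfl | rfl
    · exact D_eq hφg (by simpa using hg)
    · exact fix_of_stab (k := 1) hodd hφ hfε (D_eq hφg (by simpa using D_mul hg hε))
        (by rw [pow_one, pow_two, hε2])
    · refine fix_of_stab (k := 1) hodd hφ (hn1 ν hν)
        (D_eq hφg (by simpa [inv_neg] using D_mul hg hν)) ?_
      rw [pow_one, pow_two]
      exact D_eq (D_mul hν hν) (by simpa using D_one)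
    · refine fix_of_stab (k := 1) hodd hφ (a := ε * ν) (by rw [map_mul, hfε, hn1 ν hν])
        (D_eq hφg (by simpa [inv_neg] using D_mul hg (D_mul hε hν))) ?_
      rw [pow_one, pow_two]
      exact D_eq (D_mul (D_mul hε hν) (D_mul hε hν)) (by simpa using D_one)
  have hfD : ∀ x : T, ∀ a b, D x a b → φ x = x := by
    intro x a b hx
    obtain ⟨a₁, s₁, ha₁, hs₁, h | h⟩ := hcase x
    · obtain ⟨j, rfl⟩ := hpow a₁ ha₁
      have hxe : x = g ^ j ∨ x = g ^ j * ε := by
        rcases hs₁ with rfl | rfl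
        · exact Or.inl (D_eq h (by simpa [inv_pow] using D_pow hg j))
        · exact Or.inr (D_eq h (by simpa [inv_pow] using D_mul (D_pow hg j) hε))
      rcases hxe with e | e <;> simp [e, map_pow, hfg, hfε]
    · have ha0 : a ≠ 0 := by
        intro e
        subst e
        have h0 := (hx ![1, 0]).symm.trans (h ![1, 0])
        exact ha₁ (by simpa using (congrFun h0 1).symm)
      exact (not_DW ha0 hx h).elim
  have hfw : φ w = w := by
    obtain ⟨a₁, s₁, ha₁, hs₁, h | h⟩ := hcase (φ w)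
    · have := φ.injective (hfD _ _ _ h)
      exact absurd hw fun hw' => not_DW ha₁ (this ▸ h) hw'
    · let d : T := w * φ w
      have hd : D d (1 * a₁) (1 * (s₁ * a₁⁻¹)) := W_mul hw h
      have hw2 : w * w = 1 := D_eq (W_mul hw hw) (by simpa using D_one)
      refine fix_of_stab (k := m) hodd hφ (a := d) (hfD _ _ _ hd) (by
        show φ w = w * (w * φ w); rw [← mul_assoc, hw2, one_mul]) ?_
      refine D_eq (D_pow hd _) ?_
      have hq1 : 2 ^ m = q - 1 := by omega
      rw [hq1, ZMod.pow_card_sub_one_eq_one (by simpa using ha₁), ZMod.pow_card_sub_one_eq_one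
        (by rcases hs₁ with rfl | rfl <;> simpa using ha₁)]
      exact D_one
  refine MulEquiv.ext fun x => ?_
  show φ x = x
  obtain ⟨a₁, s₁, ha₁, hs₁, h | h⟩ := hcase x
  · exact hfD _ _ _ h
  · have hxw := W_mul h hw
    have := hfD _ _ _ hxw
    rw [map_mul, hfw] at this
    exact mul_right_cancel this

end Cfsg.Agent.S3382
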