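import Cfsg.Statements.S3389
import Mathlib
import Cfsg.Agent.Lib.Local

set_option autoImplicit false
open Cfsg

namespace Cfsg.Agent.S3389



/-- Let G be a finite group acting faithfully and transitively on a finite set Ω with fixity k ≥ 1: every non-identity element fixes at most k points and some non-identity element fixes exactly k points. Then |Z(G)| divides k; if k = 2 then |G| is even; and for every prime p > k dividing |G| and every point α, either p does not divide |G_α| or G_α contains a Sylow p-subgroup of G. -/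
theorem result {G : Type*} [Group G] [Finite G] {Ω : Type*} [Fintype Ω] [MulAction G Ω] [FaithfulSMul G Ω]
    (htr : MulAction.IsPretransitive G Ω) (k : ℕ) (hk : 1 ≤ k)
    (hfix : ∀ g : G, g ≠ 1 → Nat.card (MulAction.fixedBy Ω g) ≤ k) (hex : ∃ g : G, g ≠ 1 ∧ Nat.card (MulAction.fixedBy Ω g) = k) :
    Nat.card (Subgroup.center G) ∣ k ∧ (k = 2 → 2 ∣ Nat.card G) ∧
      ∀ (p : ℕ), p.Prime → k < p → p ∣ Nat.card G → ∀ α : Ω,
        ¬ p ∣ Nat.card (MulAction.stabilizer G α) ∨ ¬ p ∣ (MulAction.stabilizer G α).index := by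
  classical
  haveI := htr
  haveI : Finite Ω := Finite.of_fintype Ω
  obtain ⟨g₀, hg₀, hg₀k⟩ := hex
  haveI : Nonempty Ω := by
    by_contra h
    haveI := not_nonempty_iff.mp h
    rw [Nat.card_of_isEmpty] at hg₀k
    omega
  have hcent : ∀ z ∈ Subgroup.center G, ∀ x : Ω, z • x = x → z = 1 := by
    intro z hz x hx
    refine eq_of_smul_eq_smul fun y : Ω => ?_
    obtain ⟨c, rfl⟩ := MulAction.exists_smul_eq G x y
    rw [one_smul, ← mul_smul, ← Subgroup.mem_center_iff.mp hz c, mul_smul, hx]
  refine ⟨?_, ?_, ?_⟩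
  · -- the centre is semiregular on the fixed points of g₀
    set Z := Subgroup.center G
    let F := MulAction.fixedBy Ω g₀
    have hF : ∀ (z : Z) (x : F), (z : G) • (x : Ω) ∈ F := fun z x => by
      show g₀ • ((z : G) • (x : Ω)) = (z : G) • (x : Ω)
      rw [← mul_smul, Subgroup.mem_center_iff.mp z.2 g₀, mul_smul, show g₀ • (x : Ω) = x from x.2]
    letI : MulAction Z F :=
      { smul := fun z x => ⟨(z : G) • (x : Ω), hF z x⟩
        one_smul := fun x => Subtype.ext (one_smul G _)
        mul_smul := fun a b x => Subtype.ext (mul_smul (a : G) (b : G) _) }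
    haveI : Finite F := Subtype.finite
    haveI := Fintype.ofFinite (MulAction.orbitRel.Quotient Z F)
    have horb : ∀ x : F, Nat.card (MulAction.orbit Z x) = Nat.card Z := by
      intro x
      refine (Nat.card_congr (Equiv.ofBijective (fun z : Z => (⟨z • x, MulAction.mem_orbit x z⟩ : MulAction.orbit Z x)) ⟨?_, ?_⟩)).symm
      · intro a b hab
        have h1 : (a : G) • (x : Ω) = (b : G) • (x : Ω) := congrArg (fun v : MulAction.orbit Z x => ((v : F) : Ω)) hab
        have h2 := hcent ((b : G)⁻¹ * (a : G)) (Z.mul_mem (Z.inv_mem b.2) a.2) (x : Ω) (by rw [mul_smul, h1, inv_smul_smul])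
        exact Subtype.ext (inv_mul_eq_one.mp h2).symm
      · rintro ⟨y, z, rfl⟩; exact ⟨z, rfl⟩
    rw [← hg₀k, show MulAction.fixedBy Ω g₀ = F from rfl, Nat.card_congr (MulAction.selfEquivSigmaOrbits Z F), Nat.card_sigma]
    exact Finset.dvd_sum fun x _ => (horb _).symm.dvd
  · intro hk2
    subst hk2
    by_contra hodd
    have hswap : ∀ (h : G) (a b : Ω), a ≠ b → h • a = b → h • b = a → False := by
      intro h a b hab h1 h2
      have hm : h ^ 2 • a = a := by rw [sq, mul_smul, h1, h2]
      obtain ⟨j, hj⟩ : Odd (orderOf h) := Nat.odd_iff.mpr (by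
        have := orderOf_dvd_natCard h
        rcases Nat.mod_two_eq_zero_or_one (orderOf h) with e | e
        · exact absurd ((Nat.dvd_of_mod_eq_zero e).trans this) hodd
        · exact e)
      have hrec : ∀ i, (h ^ 2) ^ i • a = a := fun i => by
        induction i with
        | zero => rw [pow_zero, one_smul]
        | succ i ih => rw [pow_succ, mul_smul, hm, ih]
      have h3 : h ^ (2 * j + 1) • a = a := by rw [← hj, pow_orderOf_eq_one, one_smul]
      rw [pow_succ', mul_smul, pow_mul, hrec, h1] at h3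
      exact hab h3.symm
    -- g₀ fixes exactly a and b
    haveI : Finite (MulAction.fixedBy Ω g₀) := Subtype.finite
    obtain ⟨⟨a, ha⟩, ⟨b, hb⟩, hab, huni⟩ := Nat.card_eq_two_iff.mp hg₀k
    have hab' : a ≠ b := fun e => hab (Subtype.ext e)
    obtain ⟨g, hg⟩ := MulAction.exists_smul_eq G b a
    set S := MulAction.stabilizer G a with hS
    have hga : g • a ≠ a := fun e => hab' ((smul_left_cancel_iff g).mp (e.trans hg.symm))
    have huniq : ∀ s : G, s ≠ 1 → ∀ x y z : Ω, x ≠ y → x ≠ z → y ≠ z → s • x = x → s • y = y → s • z = z → False := by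
      intro s hs x y z h1 h2 h3 e1 e2 e3
      have hle := hfix s hs
      have hsub : ({x, y, z} : Finset Ω) ⊆ (MulAction.fixedBy Ω s).toFinset := by
        intro v hv; simp only [Finset.mem_insert, Finset.mem_singleton] at hv
        simp only [Set.mem_toFinset, MulAction.mem_fixedBy]
        rcases hv with rfl | rfl | rfl <;> assumption
      have := Finset.card_le_card hsub
      rw [Finset.card_eq_three.mpr ⟨x, y, z, h1, h2, h3, rfl⟩, Set.toFinset_card, ← Nat.card_eq_fintype_card] at this
      omega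
    set O := MulAction.orbit S b
    set O' := MulAction.orbit S (g • a)
    have hdisj : Disjoint O O' := by
      rw [Set.disjoint_left]
      rintro x hx hx'
      obtain ⟨s, hs⟩ : b ∈ MulAction.orbit S (g • a) := by
        rw [← MulAction.orbit_eq_iff.mpr hx'] ; rw [MulAction.orbit_eq_iff.mpr hx]; exact MulAction.mem_orbit_self b
      apply hswap ((s : G) * g) a b hab'
      · rw [mul_smul]; exact hs
      · rw [mul_smul, hg]; exact s.2
    haveI := Fintype.ofFinite G
    let T := {p : Ω × S // (p.1 ∈ O ∨ p.1 ∈ O') ∧ p.2 ≠ 1 ∧ (p.2 : G) • p.1 = p.1}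
    have hneq : ∀ x, (x ∈ O ∨ x ∈ O') → x ≠ a := by
      rintro x (⟨s, rfl⟩ | ⟨s, rfl⟩) e
      · exact hab' ((smul_left_cancel_iff (s : G)).mp (s.2.trans e.symm))
      · exact hga ((smul_left_cancel_iff (s : G)).mp (e.trans s.2.symm))
    have hT : Nat.card T ≤ Nat.card {s : S // s ≠ 1} := by
      refine Nat.card_le_card_of_injective (fun p => ⟨p.1.2, p.2.2.1⟩) ?_
      rintro ⟨⟨x, s⟩, hx, hs1, hsx⟩ ⟨⟨y, s'⟩, hy, hs1', hsy⟩ e
      obtain rfl : s = s' := congrArg Subtype.val e
      by_contra hne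
      refine huniq (s : G) (fun e => hs1 (Subtype.ext e)) a x y (hneq x hx).symm (hneq y hy).symm (fun exy => hne (by subst exy; rfl)) s.2 hsx hsy
    have hcount : ∀ c : Ω, Nat.card {p : Ω × S // p.1 ∈ MulAction.orbit S c ∧ p.2 ≠ 1 ∧ (p.2 : G) • p.1 = p.1} + Nat.card (MulAction.orbit S c) =
        Nat.card S := by
      intro c
      have h1 : Nat.card (MulAction.orbit S c) * Nat.card (MulAction.stabilizer S c) = Nat.card S := by
        rw [← Nat.card_prod, Nat.card_congr (MulAction.orbitProdStabilizerEquivGroup S c)]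
      have h2 : ∀ x : MulAction.orbit S c, Nat.card (MulAction.stabilizer S (x : Ω)) = Nat.card (MulAction.stabilizer S c) := by
        rintro ⟨_, s, rfl⟩
        rw [MulAction.stabilizer_smul_eq_stabilizer_map_conj, Subgroup.card_map_of_injective (MulEquiv.injective _)]
      haveI : Fintype (MulAction.orbit S c) := Fintype.ofFinite _
      let e : {p : Ω × S // p.1 ∈ MulAction.orbit S c ∧ p.2 ≠ 1 ∧ (p.2 : G) • p.1 = p.1} ≃
          Σ x : MulAction.orbit S c, {s : MulAction.stabilizer S (x : Ω) // s ≠ 1} :=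
        { toFun := fun p => ⟨⟨p.1.1, p.2.1⟩, ⟨⟨p.1.2, p.2.2.2⟩, fun e => p.2.2.1 (congrArg Subtype.val e)⟩⟩
          invFun := fun q => ⟨(q.1.1, q.2.1.1), q.1.2, fun e => q.2.2 (Subtype.ext e), q.2.1.2⟩
          left_inv := fun p => rfl
          right_inv := fun q => rfl }
      rw [Nat.card_congr e, Nat.card_sigma]
      have h3 : ∀ x : MulAction.orbit S c, Nat.card {s : MulAction.stabilizer S (x : Ω) // s ≠ 1} + 1 = Nat.card (MulAction.stabilizer S c) := by
        intro x
        rw [← h2 x]
        haveI := Fintype.ofFinite (MulAction.stabilizer S (x : Ω))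
        rw [Nat.card_eq_fintype_card, Nat.card_eq_fintype_card, Fintype.card_subtype_compl, Fintype.card_subtype_eq]
        have : 0 < Fintype.card (MulAction.stabilizer S (x : Ω)) := Fintype.card_pos
        omega
      rw [← h1, Nat.card_eq_fintype_card (α := MulAction.orbit S c)]
      have hc : Fintype.card (MulAction.orbit S c) = ∑ _x : MulAction.orbit S c, 1 := by simp
      conv_lhs => arg 2; rw [hc]
      rw [← Finset.sum_add_distrib, Finset.sum_congr rfl (fun x _ => h3 x), Finset.sum_const, Finset.card_univ, smul_eq_mul]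
    have hTc : Nat.card T = Nat.card {p : Ω × S // p.1 ∈ O ∧ p.2 ≠ 1 ∧ (p.2 : G) • p.1 = p.1} + Nat.card {p : Ω × S // p.1 ∈ O' ∧ p.2 ≠ 1 ∧ (p.2 : G) • p.1 = p.1} := by
      rw [← Nat.card_sum]
      refine Nat.card_congr ((Equiv.subtypeEquivRight fun p => ?_).trans (subtypeOrEquiv _ _ ?_))
      · tauto
      · rw [Pi.disjoint_iff]
        intro p
        simp only [Prop.disjoint_iff]
        by_contra hcon
        exact Set.disjoint_left.mp hdisj hcon.1.1 hcon.2.1
    have hg₀S : g₀ ∈ S := ha
    have hOb : 2 * Nat.card O ≤ Nat.card S := by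
      have h1 : Nat.card O * Nat.card (MulAction.stabilizer S b) = Nat.card S := by
        rw [← Nat.card_prod, Nat.card_congr (MulAction.orbitProdStabilizerEquivGroup S b)]
      have h2 : 2 ≤ Nat.card (MulAction.stabilizer S b) := by
        haveI : Nontrivial (MulAction.stabilizer S b) := ⟨⟨⟨g₀, hg₀S⟩, hb⟩, 1, fun e => hg₀ (congrArg (fun v : MulAction.stabilizer S b => ((v : S) : G)) e)⟩
        exact Finite.one_lt_card
      rw [← h1, mul_comm 2]
      exact Nat.mul_le_mul_left _ h2
    have hOb' : 2 * Nat.card O' ≤ Nat.card S := by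
      have h1 : Nat.card O' * Nat.card (MulAction.stabilizer S (g • a)) = Nat.card S := by
        rw [← Nat.card_prod, Nat.card_congr (MulAction.orbitProdStabilizerEquivGroup S (g • a))]
      have h2 : 2 ≤ Nat.card (MulAction.stabilizer S (g • a)) := by
        have e1 : g * g₀ * g⁻¹ ∈ S := by
          show (g * g₀ * g⁻¹) • a = a
          nth_rewrite 1 [← hg]
          rw [mul_smul, inv_smul_smul, mul_smul, show g₀ • b = b from hb, hg]
        have e2 : (⟨g * g₀ * g⁻¹, e1⟩ : S) ∈ MulAction.stabilizer S (g • a) := by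
          show (g * g₀ * g⁻¹) • (g • a) = g • a
          rw [mul_smul, inv_smul_smul, mul_smul, show g₀ • a = a from ha]
        haveI : Nontrivial (MulAction.stabilizer S (g • a)) := ⟨⟨_, e2⟩, 1, fun e => hg₀ (by
          have e' : g * g₀ * g⁻¹ = 1 := congrArg (fun v : MulAction.stabilizer S (g • a) => ((v : S) : G)) e
          rwa [conj_eq_one_iff] at e')⟩
        exact Finite.one_lt_card
      rw [← h1, mul_comm 2]
      exact Nat.mul_le_mul_left _ h2
    have hA : Nat.card {p : Ω × S // p.1 ∈ O ∧ p.2 ≠ 1 ∧ (p.2 : G) • p.1 = p.1} + Nat.card O = Nat.card S := hcount b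
    have hB : Nat.card {p : Ω × S // p.1 ∈ O' ∧ p.2 ≠ 1 ∧ (p.2 : G) • p.1 = p.1} + Nat.card O' = Nat.card S := hcount (g • a)
    have hS1 : Nat.card {s : S // s ≠ 1} + 1 = Nat.card S := by
      haveI := Fintype.ofFinite S
      rw [Nat.card_eq_fintype_card, Nat.card_eq_fintype_card, Fintype.card_subtype_compl, Fintype.card_subtype_eq]
      have : 0 < Fintype.card S := Fintype.card_pos
      omega
    omega
  · intro p hp hkp hpG α
    by_contra hcon
    push Not at hcon
    obtain ⟨h1, h2⟩ := hcon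
    haveI := Fact.mk hp
    set A := MulAction.stabilizer G α
    obtain ⟨P₀⟩ : Nonempty (Sylow p A) := inferInstance
    set Q := (P₀ : Subgroup A).map A.subtype with hQ
    have hQA : Q ≤ A := Subgroup.map_subtype_le _
    obtain ⟨P, hP⟩ := (P₀.2.map A.subtype).exists_le_sylow
    have hlt : Q.subgroupOf (P : Subgroup G) < ⊤ := by
      refine lt_top_iff_ne_top.mpr fun e => ?_
      have hle := Subgroup.card_le_of_le (Subgroup.subgroupOf_eq_top.mp e)
      rw [hQ, Subgroup.card_map_of_injective A.subtype_injective, Sylow.card_eq_multiplicity, Sylow.card_eq_multiplicity] at hle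
      have h3 := (Nat.pow_le_pow_iff_right hp.one_lt).mp hle
      rw [← A.card_mul_index, Nat.factorization_mul Nat.card_pos.ne' Subgroup.index_ne_zero_of_finite, Finsupp.add_apply] at h3
      have := hp.factorization_pos_of_dvd Subgroup.index_ne_zero_of_finite h2
      omega
    haveI := P.2.isNilpotent
    obtain ⟨x, hx, hxQ⟩ := SetLike.exists_of_lt (normalizerCondition_of_isNilpotent _ hlt)
    set R := Subgroup.normalizer ((Q.subgroupOf (P : Subgroup G)) : Set (P : Subgroup G))
    have hxA : (x : G) ∈ A → False := by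
      intro hxA
      apply hxQ
      have hp2 : IsPGroup p ↥(Subgroup.zpowers (x : G) ⊔ Q) :=
        CfsgLib.Local.isPGroup_of_le (sup_le (Subgroup.zpowers_le.mpr x.2) hP) P.2
      have hle : Subgroup.zpowers (x : G) ⊔ Q ≤ A := sup_le (Subgroup.zpowers_le.mpr hxA) hQA
      have he := P₀.is_maximal' (IsPGroup.of_equiv hp2 (Subgroup.subgroupOfEquivOfLe hle).symm)
        (fun y hy => Subgroup.mem_sup_right (Subgroup.mem_map.mpr ⟨y, hy, rfl⟩))
      have hx2 : (⟨(x : G), hxA⟩ : A) ∈ (P₀ : Subgroup A) := he ▸ Subgroup.mem_subgroupOf.mpr (Subgroup.mem_sup_left (Subgroup.mem_zpowers _))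
      exact Subgroup.mem_subgroupOf.mpr (Subgroup.mem_map.mpr ⟨_, hx2, rfl⟩)
    -- fixed points of Q
    have hQne : ∃ q ∈ Q, q ≠ 1 := by
      obtain ⟨q, hq⟩ := exists_prime_orderOf_dvd_card' (G := (P₀ : Subgroup A)) p (P₀.dvd_card_of_dvd_card h1)
      refine ⟨((q : A) : G), Subgroup.mem_map.mpr ⟨q, q.2, rfl⟩, fun e => ?_⟩
      rw [← Subgroup.orderOf_coe, ← Subgroup.orderOf_coe, e, orderOf_one] at hq
      exact hp.ne_one hq.symm
    obtain ⟨q, hqQ, hq1⟩ := hQne
    let F : Set Ω := {y | ∀ z ∈ Q, z • y = y}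
    have hFcard : Nat.card F < p := by
      refine lt_of_le_of_lt (le_trans ?_ (hfix q hq1)) hkp
      exact Nat.card_le_card_of_injective (fun y : F => (⟨y.1, y.2 q hqQ⟩ : MulAction.fixedBy Ω q)) fun u v h => Subtype.ext (congrArg Subtype.val h :)
    have hαF : α ∈ F := fun z hz => hQA hz
    have hR : ∀ r ∈ R, ∀ y ∈ F, (r : G) • y ∈ F := by
      intro r hr y hy z hz
      have h' : (r : G)⁻¹ * z * r ∈ Q := by
        have := (Subgroup.mem_normalizer_iff''.mp hr ⟨z, hP hz⟩).mp (Subgroup.mem_subgroupOf.mpr hz)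
        exact Subgroup.mem_subgroupOf.mp this
      rw [← mul_smul, show z * (r : G) = r * ((r : G)⁻¹ * z * r) by group, mul_smul, hy _ h']
    letI : MulAction R F :=
      { smul := fun r y => ⟨((r : (P : Subgroup G)) : G) • (y : Ω), hR r r.2 y y.2⟩
        one_smul := fun y => Subtype.ext (one_smul G _)
        mul_smul := fun r s y => Subtype.ext (mul_smul ((r : (P : Subgroup G)) : G) ((s : (P : Subgroup G)) : G) _) }
    haveI : Finite F := Subtype.finite
    obtain ⟨m, hm⟩ := (P.2.to_subgroup R).card_orbit (⟨α, hαF⟩ : F)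
    have hm0 : m = 0 := by
      by_contra hne
      have h3 : Nat.card (MulAction.orbit R (⟨α, hαF⟩ : F)) ≤ Nat.card F := Nat.card_le_card_of_injective _ Subtype.val_injective
      rw [hm] at h3
      have : p ≤ p ^ m := Nat.le_self_pow hne p
      omega
    rw [hm0, pow_zero] at hm
    have hsub := (Nat.card_eq_one_iff_unique.mp hm).1
    have := congrArg (fun v : MulAction.orbit R (⟨α, hαF⟩ : F) => ((v : F) : Ω))
      (hsub.elim ⟨(⟨x, hx⟩ : R) • (⟨α, hαF⟩ : F), MulAction.mem_orbit _ _⟩ ⟨_, MulAction.mem_orbit_self _⟩)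
    exact hxA this

end Cfsg.Agent.S3389
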