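import Cfsg.Statements.S3390
import Mathlib
import Cfsg.Agent.S3224

set_option autoImplicit false
open Cfsg

namespace Cfsg.Agent.S3390

open Cfsg MulAction

theorem sign_of_semiregular_rest {Ω : Type*} [Fintype Ω] [DecidableEq Ω] {σ : Equiv.Perm Ω} {α β : Ω} {o k : ℕ}
    (hab : α ≠ β) (h1 : σ α = β) (h2 : σ β = α) (ho : orderOf σ ∣ o) (ho2 : 2 ∣ o)
    (hreg : ∀ x, x ≠ α → x ≠ β → ∀ l, (σ ^ l) x = x → o ∣ l)
    (ho0 : 0 < o) (hk : Fintype.card Ω = 2 + k * o) (hk2 : Even k) : Equiv.Perm.sign σ = -1 := by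
  obtain ⟨τ, hτ⟩ : ∃ τ, τ = Equiv.swap α β * σ := ⟨_, rfl⟩
  have hτα : τ α = α := by rw [hτ, Equiv.Perm.mul_apply, h1, Equiv.swap_apply_right]
  have hτβ : τ β = β := by rw [hτ, Equiv.Perm.mul_apply, h2, Equiv.swap_apply_left]
  have hσrest : ∀ x, x ≠ α → x ≠ β → σ x ≠ α ∧ σ x ≠ β := fun x hxa hxb =>
    ⟨fun e => hxb (σ.injective (e.trans h2.symm)), fun e => hxa (σ.injective (e.trans h1.symm))⟩
  have hτx : ∀ x, x ≠ α → x ≠ β → τ x = σ x := fun x hxa hxb => by
    rw [hτ, Equiv.Perm.mul_apply, Equiv.swap_apply_of_ne_of_ne (hσrest x hxa hxb).1 (hσrest x hxa hxb).2]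
  have hpow : ∀ x, x ≠ α → x ≠ β → ∀ l, (τ ^ l) x = (σ ^ l) x ∧ (σ ^ l) x ≠ α ∧ (σ ^ l) x ≠ β := by
    intro x hxa hxb l
    induction l with
    | zero => exact ⟨rfl, hxa, hxb⟩
    | succ l ih =>
      rw [pow_succ', pow_succ', Equiv.Perm.mul_apply, Equiv.Perm.mul_apply, ih.1]
      exact ⟨hτx _ ih.2.1 ih.2.2, hσrest _ ih.2.1 ih.2.2⟩
  have hall : ∀ c ∈ τ.cycleFactorsFinset, c.support.card = o := by
    intro c hc
    obtain ⟨hcyc, hca⟩ := Equiv.Perm.mem_cycleFactorsFinset_iff.mp hc
    obtain ⟨x, hx⟩ := hcyc.nonempty_support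
    have hxτ : τ x ≠ x := Equiv.Perm.mem_support.mp (Equiv.Perm.mem_cycleFactorsFinset_support_le hc hx)
    have hxa : x ≠ α := fun e => hxτ (e ▸ hτα)
    have hxb : x ≠ β := fun e => hxτ (e ▸ hτβ)
    have hcp : ∀ l, (c ^ l) x ∈ c.support ∧ (c ^ l) x = (τ ^ l) x := by
      intro l
      induction l with
      | zero => exact ⟨hx, rfl⟩
      | succ l ih =>
        rw [pow_succ', pow_succ', Equiv.Perm.mul_apply, Equiv.Perm.mul_apply, ← ih.2]
        exact ⟨Equiv.Perm.apply_mem_support.mpr ih.1, hca _ ih.1⟩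
    have hl : (σ ^ c.support.card) x = x := by
      rw [← (hpow x hxa hxb _).1, ← (hcp _).2, ← hcyc.orderOf, pow_orderOf_eq_one]; rfl
    refine Nat.dvd_antisymm ?_ (hreg x hxa hxb _ hl)
    rw [← hcyc.orderOf]
    refine orderOf_dvd_of_pow_eq_one ((hcyc.pow_eq_one_iff).mpr ⟨x, Equiv.Perm.mem_support.mp hx, ?_⟩)
    rw [(hcp _).2, (hpow x hxa hxb _).1, orderOf_dvd_iff_pow_eq_one.mp ho]; rfl
  have hrep : τ.cycleType = Multiset.replicate (Multiset.card τ.cycleType) o :=
    Multiset.eq_replicate_card.mpr fun n hn => by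
      rw [Equiv.Perm.cycleType_def, Multiset.mem_map] at hn
      obtain ⟨c, hc, rfl⟩ := hn
      exact hall c hc
  have hsupp : τ.support.card = k * o := by
    have hset : τ.support = Finset.univ \ {α, β} := by
      ext x
      simp only [Equiv.Perm.mem_support, Finset.mem_sdiff, Finset.mem_univ, true_and, Finset.mem_insert, Finset.mem_singleton]
      constructor
      · rintro h (rfl | rfl)
        · exact h hτα
        · exact h hτβ
      · intro h e
        push Not at h
        rw [hτx x h.1 h.2] at e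
        have := hreg x h.1 h.2 1 (by rwa [pow_one])
        have := Nat.dvd_one.mp this
        omega
    rw [hset, Finset.card_sdiff_of_subset (Finset.subset_univ _), Finset.card_univ, hk, Finset.card_pair hab]
    omega
  have hsum := τ.sum_cycleType
  rw [hsupp, hrep, Multiset.sum_replicate, smul_eq_mul] at hsum
  have hcard := Nat.eq_of_mul_eq_mul_right ho0 hsum
  have hsgn : Equiv.Perm.sign τ = 1 := by
    rw [Equiv.Perm.sign_of_cycleType, Even.neg_one_pow]
    rw [hrep, Multiset.sum_replicate, Multiset.card_replicate, smul_eq_mul, hcard]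
    exact (hk2.mul_right o).add hk2
  rw [hτ, map_mul, Equiv.Perm.sign_swap hab, neg_mul, one_mul, neg_eq_iff_eq_neg] at hsgn
  exact hsgn

/-- Semiregular action: the order divides the number of points. -/
theorem card_dvd_of_free {K X : Type*} [Group K] [Finite K] [MulAction K X] [Finite X]
    (h : ∀ x : X, stabilizer K x = ⊥) : Nat.card K ∣ Nat.card X := by
  classical
  haveI := Fintype.ofFinite (orbitRel.Quotient K X)
  rw [Nat.card_congr (selfEquivSigmaOrbits' K X), Nat.card_sigma]
  refine Finset.dvd_sum fun q _ => ?_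
  induction q using Quotient.inductionOn' with
  | h x => rw [orbitRel.Quotient.orbit_mk, Nat.card_coe_set_eq, ← index_stabilizer, h x, Subgroup.index_bot]


/-- Let G be a finite group acting faithfully and transitively on a finite set Ω with fixity 2 (every non-identity element fixes at most two points, and some fixes exactly two). Let α ∈ Ω and S a Sylow 2-subgroup of G. Then one of the following holds: the stabilizer S_α of α in S is trivial; S is dihedral or semidihedral and either |S_α| = 2 or |S : S_α| = 2; |S| ≥ 4, S has exactly one orbit of size 2 on Ω, every other S-orbit is regular, and G has a normal subgroup of index 2 or of index |S| which is a Frobenius group; or S ≤ G_α. -/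
theorem result {G : Type*} [Group G] [Finite G] {Ω : Type*} [Fintype Ω] [MulAction G Ω] [FaithfulSMul G Ω] (htr : MulAction.IsPretransitive G Ω)
    (hfix : ∀ g : G, g ≠ 1 → Nat.card (MulAction.fixedBy Ω g) ≤ 2) (hex : ∃ g : G, g ≠ 1 ∧ Nat.card (MulAction.fixedBy Ω g) = 2) (α : Ω) (S : Sylow 2 G) :
    (S : Subgroup G) ⊓ MulAction.stabilizer G α = ⊥ ∨
    (((∃ n : ℕ, Nonempty (↥(S : Subgroup G) ≃* DihedralGroup n)) ∨ Cfsg.IsQuasiDihedral ↥(S : Subgroup G)) ∧
       (Nat.card ↥((S : Subgroup G) ⊓ MulAction.stabilizer G α) = 2 ∨ ((S : Subgroup G) ⊓ MulAction.stabilizer G α).relIndex (S : Subgroup G) = 2)) ∨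
    (4 ≤ Nat.card (S : Subgroup G) ∧
       (∃ ω : Ω, Nat.card (MulAction.orbit ↥(S : Subgroup G) ω) = 2 ∧
          ∀ ω' : Ω, ω' ∉ MulAction.orbit ↥(S : Subgroup G) ω → Nat.card (MulAction.orbit ↥(S : Subgroup G) ω') = Nat.card (S : Subgroup G)) ∧
       ∃ N : Subgroup G, N.Normal ∧ (N.index = 2 ∨ N.index = Nat.card (S : Subgroup G)) ∧ (∃ H : Subgroup ↥N, Cfsg.IsFrobeniusComplement H)) ∨
    (S : Subgroup G) ≤ MulAction.stabilizer G α := by
  classical
  haveI := htr
  haveI : Fact (Nat.Prime 2) := ⟨Nat.prime_two⟩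
  by_cases h0 : (S : Subgroup G) ⊓ stabilizer G α = ⊥
  · exact Or.inl h0
  by_cases hSle : (S : Subgroup G) ≤ stabilizer G α
  · exact Or.inr (Or.inr (Or.inr hSle))
  obtain ⟨Sa, hSa⟩ : ∃ Sa, Sa = (stabilizer G α).subgroupOf (S : Subgroup G) := ⟨_, rfl⟩
  have hSacard : Nat.card Sa = Nat.card ↥((S : Subgroup G) ⊓ stabilizer G α) := by
    rw [hSa, ← Subgroup.card_map_of_injective (f := (S : Subgroup G).subtype) (S : Subgroup G).subtype_injective, Subgroup.subgroupOf_map_subtype,
      inf_comm]
  have hSa0 : Sa ≠ ⊥ := fun h => h0 (by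
    rw [← Subgroup.card_eq_one, ← hSacard, h, Subgroup.card_bot])
  have hSat : Sa ≠ ⊤ := fun h => hSle (by rwa [hSa, Subgroup.subgroupOf_eq_top] at h)
  haveI : Group.IsNilpotent (S : Subgroup G) := S.2.isNilpotent
  -- at most two fixed points
  have hfix3 : ∀ g : G, g ≠ 1 → ∀ a b c : Ω, g • a = a → g • b = b → g • c = c → a = b ∨ a = c ∨ b = c := by
    intro g hg a b c ha hb hc
    by_contra hne
    push Not at hne
    have := hfix g hg
    have h3 : ({⟨a, ha⟩, ⟨b, hb⟩, ⟨c, hc⟩} : Finset (fixedBy Ω g)).card = 3 :=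
      Finset.card_eq_three.mpr ⟨_, _, _, fun e => hne.1 (congrArg Subtype.val e), fun e => hne.2.1 (congrArg Subtype.val e),
        fun e => hne.2.2 (congrArg Subtype.val e), rfl⟩
    have hle := Finset.card_le_univ ({⟨a, ha⟩, ⟨b, hb⟩, ⟨c, hc⟩} : Finset (fixedBy Ω g))
    rw [h3, ← Nat.card_eq_fintype_card] at hle
    omega
  -- an element normalizing `S_α` moves `α`
  obtain ⟨g₀, hg₀n, hg₀⟩ := SetLike.exists_of_lt (Group.normalizerCondition_of_isNilpotent Sa (lt_top_iff_ne_top.mpr hSat))
  have hmem : ∀ s : (S : Subgroup G), s ∈ Sa ↔ (s : G) • α = α := fun s => by rw [hSa]; rfl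
  obtain ⟨β, hβ⟩ : ∃ β, β = (g₀ : G) • α := ⟨_, rfl⟩
  have hβα : β ≠ α := fun e => hg₀ ((hmem g₀).mpr (hβ ▸ e))
  have hnfix : ∀ n ∈ Subgroup.normalizer (Sa : Set (S : Subgroup G)), ∀ s ∈ Sa, (s : G) • (n : G) • α = (n : G) • α := by
    intro n hn s hs
    have h1 : n⁻¹ * s * n⁻¹⁻¹ ∈ Sa := (Subgroup.mem_normalizer_iff.mp (inv_mem hn) s).mp hs
    have h2 := (hmem _).mp h1
    push_cast at h2
    rwa [inv_inv, mul_smul, mul_smul, inv_smul_eq_iff] at h2
  obtain ⟨⟨t, htSa⟩, ht1⟩ := Subgroup.ne_bot_iff_exists_ne_one.mp hSa0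
  have htG : (t : G) ≠ 1 := fun e => ht1 (Subtype.ext (Subtype.ext e))
  have htα : (t : G) • α = α := (hmem t).mp htSa
  have htβ : (t : G) • β = β := hβ ▸ hnfix g₀ hg₀n t htSa
  have htwo : ∀ x : Ω, (∀ s ∈ Sa, ((s : (S : Subgroup G)) : G) • x = x) → x = α ∨ x = β := fun x hx => by
    rcases hfix3 (t : G) htG x α β (hx t htSa) htα htβ with h | h | h
    · exact Or.inl h
    · exact Or.inr h
    · exact absurd h.symm hβα
  obtain ⟨Nn, hNn⟩ : ∃ Nn, Nn = Subgroup.normalizer (Sa : Set (S : Subgroup G)) := ⟨_, rfl⟩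
  have hNidx : Nat.card Nn = 2 * Nat.card Sa := by
    have h1 : ∀ n ∈ Nn, n ∈ Sa ∨ g₀⁻¹ * n ∈ Sa := by
      intro n hn
      rcases htwo _ (hnfix n (hNn ▸ hn)) with h | h
      · exact Or.inl ((hmem n).mpr h)
      · refine Or.inr ((hmem _).mpr ?_)
        push_cast
        rw [mul_smul, h, hβ, inv_smul_smul]
    have hle : Sa ≤ Nn := hNn ▸ Subgroup.le_normalizer
    have := (Sa.subgroupOf Nn).card_mul_index
    rw [Nat.card_congr (Subgroup.subgroupOfEquivOfLe hle).toEquiv] at this
    have hidx : (Sa.subgroupOf Nn).index = 2 := by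
      refine Subgroup.index_eq_two_iff.mpr ⟨⟨g₀⁻¹, inv_mem (hNn ▸ hg₀n)⟩, fun b => ?_⟩
      rw [Subgroup.mem_subgroupOf, Subgroup.mem_subgroupOf, Subgroup.coe_mul]
      rcases h1 b b.2 with h | h
      · refine Or.inr ⟨h, fun h' => hg₀ ?_⟩
        have := mul_mem h' (inv_mem h)
        rw [show ((b : (S : Subgroup G)) * g₀⁻¹) * (b : (S : Subgroup G))⁻¹ = (b : (S : Subgroup G)) * g₀⁻¹ * (b : (S : Subgroup G))⁻¹ from rfl] at this
        have h2 := (Subgroup.mem_normalizer_iff.mp (show (b : (S : Subgroup G)) ∈ Subgroup.normalizer (Sa : Set (S : Subgroup G)) from hNn ▸ b.2) g₀⁻¹).mpr this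
        exact inv_mem_iff.mp h2
      · refine Or.inl ⟨?_, fun h' => hg₀ ?_⟩
        · have h3 := (Subgroup.mem_normalizer_iff.mp hg₀n (g₀⁻¹ * (b : (S : Subgroup G)))).mp h
          rwa [show g₀ * (g₀⁻¹ * (b : (S : Subgroup G))) * g₀⁻¹ = (b : (S : Subgroup G)) * g₀⁻¹ by group] at h3
        · have := mul_mem h' (inv_mem h)
          rw [show (b : (S : Subgroup G)) * (g₀⁻¹ * (b : (S : Subgroup G)))⁻¹ = g₀ by group] at this
          exact this
    rw [hidx] at this
    omega
  -- a stabilizer of order two gives maximal class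
  have hmax : ∀ (u : (S : Subgroup G)) (U : Subgroup (S : Subgroup G)), U = Subgroup.zpowers u → orderOf u = 2 →
      (∀ s, s ∈ U ↔ s ∈ Subgroup.centralizer ({u} : Set (S : Subgroup G)) ∧ s ∈ U) →
      Nat.card (Subgroup.normalizer (U : Set (S : Subgroup G))) = 4 → (Nat.card (S : Subgroup G) = 4 → ¬ IsCyclic (S : Subgroup G)) →
      (∃ n : ℕ, Nonempty (↥(S : Subgroup G) ≃* DihedralGroup n)) ∨ Cfsg.IsQuasiDihedral ↥(S : Subgroup G) := by
    intro u U hU hu _ hN4 hnc
    have hcent : Subgroup.centralizer ({u} : Set (S : Subgroup G)) = Subgroup.normalizer (U : Set (S : Subgroup G)) := by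
      ext s
      rw [Subgroup.mem_centralizer_singleton_iff]
      constructor
      · intro hs
        refine Subgroup.mem_normalizer_iff.mpr fun y => ?_
        subst hU
        constructor
        · rintro ⟨i, rfl⟩
          refine ⟨i, ?_⟩
          show u ^ i = s * u ^ i * s⁻¹
          rw [((show Commute s u from hs).zpow_right i).eq, mul_inv_cancel_right]
        · rintro ⟨i, hi⟩
          refine ⟨i, ?_⟩
          show u ^ i = y
          have hi' : u ^ i = s * y * s⁻¹ := hi
          rw [show y = s⁻¹ * (s * y * s⁻¹) * s by group, ← hi', mul_assoc,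
            ← ((show Commute s u from hs).zpow_right i).eq, inv_mul_cancel_left]
      · intro hs
        have h1 := (Subgroup.mem_normalizer_iff.mp hs u).mp (hU ▸ Subgroup.mem_zpowers u)
        rw [hU] at h1
        obtain ⟨i, hi⟩ := h1
        have hi' : u ^ i = s * u * s⁻¹ := hi
        rcases Int.even_or_odd' i with ⟨j, rfl | rfl⟩
        · exfalso
          rw [zpow_mul, show (2 : ℤ) = ((2 : ℕ) : ℤ) from rfl, zpow_natCast, orderOf_dvd_iff_pow_eq_one.mp (dvd_of_eq hu), one_zpow] at hi'
          have hu1 : u = 1 := conj_eq_one_iff.mp hi'.symm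
          rw [hu1, orderOf_one] at hu; norm_num at hu
        · rw [zpow_add, zpow_mul, show (2 : ℤ) = ((2 : ℕ) : ℤ) from rfl, zpow_natCast, orderOf_dvd_iff_pow_eq_one.mp (dvd_of_eq hu), one_zpow, one_mul, zpow_one] at hi'
          exact (eq_mul_inv_iff_mul_eq.mp hi').symm
    rcases Cfsg.Agent.S3224.result S.2 u hu (hcent ▸ hN4) with h | h | h
    · exact Or.inl h
    · exact Or.inr h
    · refine Or.inl ⟨2, ?_⟩
      haveI : IsKleinFour (S : Subgroup G) := ⟨h, (not_isCyclic_iff_exponent_eq_prime Nat.prime_two (h.trans (by norm_num))).mp (hnc h)⟩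
      exact IsKleinFour.nonempty_mulEquiv
  by_cases hidx2 : Sa.index = 2
  swap
  · -- `S_α` has order two
    have hN4 : Nn ≠ ⊤ := fun h => hidx2 (by
      have := Sa.card_mul_index
      rw [h, Subgroup.card_top] at hNidx
      rw [hNidx, mul_comm 2] at this
      exact Nat.eq_of_mul_eq_mul_left Nat.card_pos this)
    obtain ⟨g₁, hg₁n, hg₁⟩ := SetLike.exists_of_lt (Group.normalizerCondition_of_isNilpotent Nn (lt_top_iff_ne_top.mpr hN4))
    have hg₁' : g₁ ∉ Subgroup.normalizer (Sa : Set (S : Subgroup G)) := hNn ▸ hg₁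
    -- `S_α` and its conjugate meet trivially and lie in `Nn` with index two
    have hcap : ∀ s ∈ Sa, g₁⁻¹ * s * g₁ ∈ Sa → s = 1 := by
      intro s hs hs'
      by_contra hs1
      have hsG : (s : G) ≠ 1 := fun e => hs1 (Subtype.ext e)
      have f1 : (s : G) • α = α := (hmem s).mp hs
      have f2 : (s : G) • β = β := hβ ▸ hnfix g₀ hg₀n s hs
      have f3 : (s : G) • (g₁ : G) • α = (g₁ : G) • α := by
        have := (hmem _).mp hs'
        push_cast at this
        rwa [mul_smul, mul_smul, inv_smul_eq_iff] at this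
      have f4 : (s : G) • (g₁ : G) • β = (g₁ : G) • β := by
        have := hnfix g₀ hg₀n _ hs'
        rw [← hβ] at this
        push_cast at this
        rwa [mul_smul, mul_smul, inv_smul_eq_iff] at this
      have hA : (g₁ : G) • α = β := by
        rcases hfix3 (s : G) hsG ((g₁ : G) • α) α β f3 f1 f2 with h | h | h
        · exact absurd ((hmem g₁).mpr h) (fun h' => hg₁' (Subgroup.le_normalizer h'))
        · exact h
        · exact absurd h.symm hβα
      have h2 : g₀⁻¹ * g₁ ∈ Sa := (hmem _).mpr (by push_cast; rw [mul_smul, hA, hβ, inv_smul_smul])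
      have := mul_mem hg₀n (Subgroup.le_normalizer h2)
      rw [mul_inv_cancel_left] at this
      exact hg₁' this
    have hSa2 : Nat.card Sa = 2 := by
      have hle : Nat.card Sa * Nat.card Sa ≤ Nat.card Nn := by
        rw [← Nat.card_prod]
        refine Nat.card_le_card_of_injective (fun ab : Sa × Sa => (⟨ab.1.1 * (g₁ * ab.2.1 * g₁⁻¹),
          Nn.mul_mem (hNn ▸ Subgroup.le_normalizer ab.1.2) ((Subgroup.mem_normalizer_iff.mp hg₁n _).mp (hNn ▸ Subgroup.le_normalizer ab.2.2))⟩ : Nn)) ?_
        rintro ⟨a, b⟩ ⟨a', b'⟩ e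
        have e' : (a : (S : Subgroup G)) * (g₁ * b * g₁⁻¹) = (a' : (S : Subgroup G)) * (g₁ * b' * g₁⁻¹) := congrArg Subtype.val e
        have h1 : (a' : (S : Subgroup G))⁻¹ * a = g₁ * (b' * (b : (S : Subgroup G))⁻¹) * g₁⁻¹ := by
          rw [show (a' : (S : Subgroup G))⁻¹ * a = (a' : (S : Subgroup G))⁻¹ * ((a : (S : Subgroup G)) * (g₁ * b * g₁⁻¹)) * (g₁ * b * g₁⁻¹)⁻¹ by group, e']
          group
        have h2 := hcap _ (Sa.mul_mem (Sa.inv_mem a'.2) a.2) (by
          rw [h1]; simpa [mul_assoc] using Sa.mul_mem b'.2 (Sa.inv_mem b.2))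
        have ha : a' = a := Subtype.ext (inv_mul_eq_one.mp h2)
        subst ha
        exact Prod.ext rfl (Subtype.ext (mul_left_cancel (mul_right_cancel (mul_left_cancel e'))))
      rw [hNidx] at hle
      have := Nat.le_of_mul_le_mul_right hle Nat.card_pos
      have : 1 < Nat.card Sa := Finite.one_lt_card_iff_nontrivial.mpr ((Subgroup.nontrivial_iff_ne_bot _).mpr hSa0)
      omega
    have htwo' : ∀ s ∈ Sa, s ∈ Subgroup.zpowers t := by
      have : Subgroup.zpowers t = Sa := by
        refine Subgroup.eq_of_le_of_card_ge (Subgroup.zpowers_le.mpr htSa) ?_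
        rw [hSa2, Nat.card_zpowers]
        exact orderOf_pos t |> fun h => by
          have : orderOf t ≠ 1 := fun e => htG (by rw [orderOf_eq_one_iff.mp e]; rfl)
          omega
      exact fun s hs => this.symm ▸ hs
    have hU : Sa = Subgroup.zpowers t := le_antisymm htwo' (Subgroup.zpowers_le.mpr htSa)
    have hto : orderOf t = 2 := by rw [← Nat.card_zpowers, ← hU, hSa2]
    refine Or.inr (Or.inl ⟨?_, Or.inl (hSacard ▸ hSa2)⟩)
    refine hmax t Sa hU hto (fun s => ⟨fun hs => ⟨?_, hs⟩, And.right⟩) (by rw [← hNn, hNidx, hSa2]) fun h4 => ?_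
    · obtain ⟨i, rfl⟩ := htwo' s hs
      exact Subgroup.mem_centralizer_singleton_iff.mpr ((Commute.refl t).zpow_left i).eq
    · exfalso
      refine hidx2 ?_
      have := Sa.card_mul_index
      rw [hSa2, h4] at this
      omega
  -- `S_α` has index two
  have hSan : Sa.Normal := Subgroup.normal_of_index_eq_two hidx2
  have hNtop : Subgroup.normalizer (Sa : Set (S : Subgroup G)) = ⊤ := Subgroup.normalizer_eq_top_iff.mpr hSan
  have hSaβ : ∀ s ∈ Sa, ((s : (S : Subgroup G)) : G) • β = β := fun s hs => hβ ▸ hnfix g₀ hg₀n s hs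
  have hswap : ∀ s : (S : Subgroup G), s ∉ Sa → (s : G) • α = β ∧ (s : G) • β = α := by
    intro s hs
    have h1 : g₀⁻¹ * s ∈ Sa := (Subgroup.mul_mem_iff_of_index_two hidx2).mpr (iff_of_false (fun h => hg₀ (inv_mem_iff.mp h)) hs)
    have h2 : s * g₀ ∈ Sa := (Subgroup.mul_mem_iff_of_index_two hidx2).mpr (iff_of_false hs hg₀)
    constructor
    · have := (hmem _).mp h1
      push_cast at this
      rw [mul_smul, inv_smul_eq_iff] at this
      rw [this, hβ]
    · rw [hβ, ← mul_smul]
      exact (hmem _).mp h2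
  by_cases hω : ∃ ω, ω ≠ α ∧ ω ≠ β ∧ ∃ u : (S : Subgroup G), u ≠ 1 ∧ (u : G) • ω = ω
  · obtain ⟨ω, hωa, hωb, u, hu1, huω⟩ := hω
    have hout : ∀ s : (S : Subgroup G), (s : G) • ω = ω → s ∈ Sa → s = 1 := by
      intro s hs hsa
      by_contra h1
      rcases hfix3 (s : G) (fun e => h1 (Subtype.ext e)) ω α β hs ((hmem s).mp hsa) (hSaβ s hsa) with h | h | h
      · exact hωa h
      · exact hωb h
      · exact hβα h.symm
    have hstab2 : ∀ s : (S : Subgroup G), (s : G) • ω = ω → s = 1 ∨ s = u := by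
      intro s hs
      by_contra hc
      push Not at hc
      have h1 : s * u⁻¹ ∈ Sa := (Subgroup.mul_mem_iff_of_index_two hidx2).mpr
        (iff_of_false (fun h => hc.1 (hout s hs h)) (fun h => hu1 (hout u huω (inv_mem_iff.mp h))))
      refine hc.2 (mul_inv_eq_one.mp (hout _ ?_ h1))
      push_cast
      rw [mul_smul, inv_smul_eq_iff.mpr huω.symm, hs]
    have huo : orderOf u = 2 := by
      refine orderOf_eq_prime ?_ hu1
      rcases hstab2 (u ^ 2) (by push_cast; rw [pow_two, mul_smul, huω, huω]) with h | h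
      · exact h
      · exfalso; rw [pow_two] at h; exact hu1 (mul_left_cancel (h.trans (mul_one u).symm))
    have hfixu : ∀ n ∈ Subgroup.normalizer ((Subgroup.zpowers u : Subgroup (S : Subgroup G)) : Set (S : Subgroup G)),
        (u : G) • (n : G) • ω = (n : G) • ω := by
      intro n hn
      have h1 := (Subgroup.mem_normalizer_iff.mp (inv_mem hn) u).mp (Subgroup.mem_zpowers u)
      obtain ⟨i, hi⟩ := h1
      have hi' : ((u ^ i : (S : Subgroup G)) : G) • ω = ω := by
        have : ((u : G)) ∈ stabilizer G ω := huω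
        push_cast; exact zpow_mem this i
      rw [show u ^ i = n⁻¹ * u * n⁻¹⁻¹ from hi] at hi'
      push_cast at hi'
      rwa [inv_inv, mul_smul, mul_smul, inv_smul_eq_iff] at hi'
    obtain ⟨U, hUd⟩ : ∃ U, U = Subgroup.zpowers u := ⟨_, rfl⟩
    have hU2 : Nat.card U = 2 := by rw [hUd, Nat.card_zpowers, huo]
    have hUne : U ≠ ⊤ := fun h => by
      rw [h, Subgroup.card_top] at hU2
      have := Sa.card_mul_index
      rw [hidx2, hU2] at this
      have h1 : Nat.card Sa = 1 := by omega
      exact hSa0 (Subgroup.card_eq_one.mp h1)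
    obtain ⟨g₂, hg₂n, hg₂⟩ := SetLike.exists_of_lt (Group.normalizerCondition_of_isNilpotent U (lt_top_iff_ne_top.mpr hUne))
    have hNU : Nat.card (Subgroup.normalizer (U : Set (S : Subgroup G))) = 4 := by
      subst hUd
      have hg2ω : (g₂ : G) • ω ≠ ω := fun e => by
        rcases hstab2 g₂ e with h | h
        · exact hg₂ (h ▸ one_mem _)
        · exact hg₂ (h ▸ Subgroup.mem_zpowers u)
      refine le_antisymm ?_ ?_
      · have hmap : ∀ n ∈ Subgroup.normalizer ((Subgroup.zpowers u : Subgroup (S : Subgroup G)) : Set (S : Subgroup G)),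
            n = 1 ∨ n = u ∨ n = g₂ ∨ n = g₂ * u := by
          intro n hn
          rcases hfix3 (u : G) (fun e => hu1 (Subtype.ext e)) ((n : G) • ω) ω ((g₂ : G) • ω) (hfixu n hn) huω (hfixu g₂ hg₂n) with h | h | h
          · rcases hstab2 n h with h | h
            · exact Or.inl h
            · exact Or.inr (Or.inl h)
          · rcases hstab2 (g₂⁻¹ * n) (by push_cast; rw [mul_smul, h, inv_smul_smul]) with h | h
            · exact Or.inr (Or.inr (Or.inl (inv_mul_eq_one.mp h).symm))
            · exact Or.inr (Or.inr (Or.inr (by rw [← h, mul_inv_cancel_left])))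
          · exact absurd h.symm hg2ω
        rw [← SetLike.coe_sort_coe, Nat.card_coe_set_eq]
        refine (Set.ncard_le_ncard (t := ↑({1, u, g₂, g₂ * u} : Finset (S : Subgroup G))) (fun n hn => ?_)).trans ?_
        · simp only [Finset.coe_insert, Finset.coe_singleton, Set.mem_insert_iff, Set.mem_singleton_iff]
          exact hmap n hn
        · rw [Set.ncard_coe_finset]; exact Finset.card_le_four
      · have h1 := Subgroup.card_dvd_of_le (Subgroup.le_normalizer (H := Subgroup.zpowers u))
        rw [hU2] at h1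
        have h2 : Nat.card (Subgroup.normalizer ((Subgroup.zpowers u : Subgroup (S : Subgroup G)) : Set (S : Subgroup G))) ≠ 2 := fun e =>
          hg₂ ((Subgroup.eq_of_le_of_card_ge Subgroup.le_normalizer (by rw [hU2, e])).symm ▸ hg₂n)
        obtain ⟨i, hi⟩ := (S.2.to_subgroup (Subgroup.normalizer ((Subgroup.zpowers u : Subgroup (S : Subgroup G)) : Set (S : Subgroup G)))).exists_card_eq
        rw [hi] at h1 h2 ⊢
        have : 2 ≤ i := by
          by_contra h
          interval_cases i
          · norm_num at h1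
          · norm_num at h2
        exact (show 4 = 2 ^ 2 by norm_num) ▸ Nat.pow_le_pow_right two_pos this
    refine Or.inr (Or.inl ⟨hmax u U hUd huo (fun s => ⟨fun hs => ⟨?_, hs⟩, And.right⟩) hNU fun h4 hcyc => ?_, Or.inr ?_⟩)
    · rw [hUd] at hs
      obtain ⟨i, rfl⟩ := hs
      exact Subgroup.mem_centralizer_singleton_iff.mpr ((Commute.refl u).zpow_left i).eq
    · have hSa2 : Nat.card Sa = 2 := by
        have := Sa.card_mul_index
        rw [hidx2, h4] at this
        omega
      have huS : u ∉ Sa := fun h => hu1 (hout u huω h)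
      -- a cyclic group has only one involution
      haveI := hcyc
      have ht2 : t ^ 2 = 1 := by
        have h := pow_card_eq_one' (x := (⟨t, htSa⟩ : Sa))
        rw [hSa2] at h
        exact congrArg Subtype.val h
      haveI := Fintype.ofFinite (S : Subgroup G)
      have hle := IsCyclic.card_pow_eq_one_le (α := (S : Subgroup G)) (n := 2) two_pos
      have hsub : ({1, u, t} : Finset (S : Subgroup G)) ⊆ Finset.univ.filter (fun x => x ^ 2 = 1) := by
        intro x hx
        simp only [Finset.mem_insert, Finset.mem_singleton] at hx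
        refine Finset.mem_filter.mpr ⟨Finset.mem_univ _, ?_⟩
        rcases hx with rfl | rfl | rfl
        · exact one_pow 2
        · have := pow_orderOf_eq_one x; rwa [huo] at this
        · exact ht2
      have h3 := (Finset.card_le_card hsub).trans hle
      rw [Finset.card_eq_three.mpr ⟨1, u, t, Ne.symm hu1, fun e => htG (by rw [← e]; rfl), fun e => huS (e ▸ htSa), rfl⟩] at h3
      omega
    · rw [Subgroup.relIndex, inf_comm, Subgroup.inf_subgroupOf_right, ← hSa, hidx2]
  -- all other orbits are regular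
  push Not at hω
  have hScard : Nat.card (S : Subgroup G) = 2 * Nat.card Sa := by rw [← Sa.card_mul_index, hidx2, mul_comm]
  have hSa1 : 1 < Nat.card Sa := Finite.one_lt_card_iff_nontrivial.mpr ((Subgroup.nontrivial_iff_ne_bot _).mpr hSa0)
  have horbα : orbit (S : Subgroup G) α = {α, β} := by
    ext x
    constructor
    · rintro ⟨s, rfl⟩
      by_cases hs : s ∈ Sa
      · exact Or.inl ((hmem s).mp hs)
      · exact Or.inr (hswap s hs).1
    · rintro (rfl | rfl)
      · exact mem_orbit_self _
      · exact ⟨g₀, hβ.symm⟩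
  let Y : Set Ω := {x | x ≠ α ∧ x ≠ β}
  have hYinv : ∀ (s : (S : Subgroup G)), ∀ x ∈ Y, (s : G) • x ∈ Y := by
    intro s x hx
    have h1 : x = (s : G)⁻¹ • (s : G) • x := (inv_smul_smul _ _).symm
    refine ⟨fun e => ?_, fun e => ?_⟩ <;>
    · have h2 : x ∈ orbit (S : Subgroup G) α := by
        refine h1 ▸ ?_
        rw [e]
        have : α ∈ orbit (S : Subgroup G) α ∧ β ∈ orbit (S : Subgroup G) α := ⟨mem_orbit_self _, ⟨g₀, hβ.symm⟩⟩
        first
          | exact ⟨s⁻¹, rfl⟩
          | (rw [hβ]; exact ⟨s⁻¹ * g₀, by show ((s⁻¹ * g₀ : (S : Subgroup G)) : G) • α = _; push_cast; rw [mul_smul]⟩)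
      rw [horbα] at h2
      rcases h2 with h2 | h2
      · exact hx.1 h2
      · exact hx.2 h2
  letI : MulAction (S : Subgroup G) Y :=
    { smul := fun s x => ⟨(s : G) • (x : Ω), hYinv s x x.2⟩
      one_smul := fun x => Subtype.ext (one_smul G (x : Ω))
      mul_smul := fun s r x => Subtype.ext (mul_smul (s : G) (r : G) (x : Ω)) }
  have hfree : ∀ x : Y, stabilizer (S : Subgroup G) x = ⊥ := fun x => by
    rw [eq_bot_iff]
    intro s hs
    by_contra h1
    exact hω x x.2.1 x.2.2 s h1 (congrArg Subtype.val hs)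
  obtain ⟨k, hk⟩ := card_dvd_of_free hfree
  have hn : Fintype.card Ω = 2 + Nat.card (S : Subgroup G) * k := by
    rw [← hk, Nat.card_coe_set_eq, show Y = (Set.univ : Set Ω) \ {α, β} by ext x; simp [Y, not_or],
      Set.ncard_sdiff (Set.subset_univ _), Set.ncard_univ, Nat.card_eq_fintype_card, Set.ncard_pair hβα.symm]
    have : ({α, β} : Finset Ω).card ≤ Fintype.card Ω := Finset.card_le_univ _
    rw [Finset.card_pair hβα.symm] at this
    omega
  have hk0 : 0 < k := by
    by_contra h
    obtain rfl : k = 0 := by omega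
    rw [mul_zero, add_zero] at hn
    refine htG (FaithfulSMul.eq_of_smul_eq_smul (α := Ω) fun x => ?_)
    rw [one_smul]
    by_contra hx
    have hxa : x ≠ α := fun e => hx (e ▸ htα)
    have hxb : x ≠ β := fun e => hx (e ▸ htβ)
    have := Finset.card_le_univ ({x, α, β} : Finset Ω)
    rw [hn, Finset.card_eq_three.mpr ⟨x, α, β, hxa, hxb, hβα.symm, rfl⟩] at this
    omega
  -- a normal subgroup of index two meeting `S` in `S_α`
  obtain ⟨N, hNn', hNi, hNS⟩ : ∃ N : Subgroup G, N.Normal ∧ N.index = 2 ∧ N.subgroupOf (S : Subgroup G) = Sa := by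
    suffices h : ∃ f : G →* ℤˣ, ∀ s : (S : Subgroup G), f s = 1 ↔ s ∈ Sa by
      obtain ⟨f, hf⟩ := h
      refine ⟨f.ker, inferInstance, ?_, Subgroup.ext fun s => hf s⟩
      rw [Subgroup.index_ker]
      have hsurj : f.range = ⊤ := by
        rw [eq_top_iff]
        intro u _
        rcases Int.units_eq_one_or u with rfl | rfl
        · exact one_mem _
        · refine ⟨g₀, ?_⟩
          exact (Int.units_eq_one_or _).resolve_left fun e => hg₀ ((hf g₀).mp e)
      rw [hsurj, Subgroup.card_top, Nat.card_eq_fintype_card]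
      rfl
    by_cases hcyc : IsCyclic (S : Subgroup G)
    · -- Burnside
      have h2 : (Nat.card G).minFac = 2 := (Nat.minFac_eq_two_iff _).mpr
        (dvd_trans (by rw [hScard]; exact dvd_mul_right 2 _) (Subgroup.card_subgroup_dvd_card (S : Subgroup G)))
      let τ := MonoidHom.transferSylow S (IsCyclic.normalizer_le_centralizer h2 hcyc)
      have hcompl := MonoidHom.ker_transferSylow_isComplement' S (IsCyclic.normalizer_le_centralizer h2 hcyc)
      have hτ : Function.Injective (τ.comp (S : Subgroup G).subtype) := by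
        rw [injective_iff_map_eq_one]
        intro s hs
        exact Subtype.ext (Subgroup.disjoint_def.mp hcompl.disjoint hs s.2)
      have hτb : Function.Bijective (τ.comp (S : Subgroup G).subtype) :=
        ⟨hτ, (Finite.injective_iff_surjective.mp hτ)⟩
      obtain ⟨χ, hχ⟩ : ∃ χ : (S : Subgroup G) →* ℤˣ, ∀ s, χ s = 1 ↔ s ∈ Sa := by
        haveI := hSan
        let c : (S : Subgroup G) ⧸ Sa ≃* ℤˣ :=
          mulEquivOfPrimeCardEq (p := 2) hidx2 (by simp [Nat.card_eq_fintype_card])
        refine ⟨c.toMonoidHom.comp (QuotientGroup.mk' Sa), fun s => ?_⟩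
        show c (QuotientGroup.mk' Sa s) = 1 ↔ _
        rw [MulEquiv.map_eq_one_iff]
        exact QuotientGroup.eq_one_iff s
      let ψ := MulEquiv.ofBijective _ hτb
      refine ⟨χ.comp (ψ.symm.toMonoidHom.comp τ), fun s => ?_⟩
      show χ (ψ.symm (τ s)) = 1 ↔ _
      rw [show τ s = ψ s from rfl, MulEquiv.symm_apply_apply, hχ]
    · -- parity
      refine ⟨Equiv.Perm.sign.comp (toPermHom G Ω), fun s => ⟨fun h => ?_, fun hs => ?_⟩⟩
      · by_contra hs
        obtain ⟨h1, h2⟩ := hswap s hs
        have hne : orderOf s ≠ Nat.card (S : Subgroup G) := fun e => hcyc (isCyclic_of_orderOf_eq_card s e)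
        obtain ⟨j, hj⟩ := S.2.exists_card_eq
        obtain ⟨i, hi, hio⟩ := (Nat.dvd_prime_pow Nat.prime_two).mp (hj ▸ orderOf_dvd_natCard s)
        have hi0 : 0 < i := by
          by_contra h0'
          obtain rfl : i = 0 := by omega
          rw [pow_zero, orderOf_eq_one_iff] at hio
          exact hs (hio ▸ one_mem _)
        have hij : i < j := lt_of_le_of_ne hi fun e => hne (by rw [hio, hj, e])
        have := sign_of_semiregular_rest (σ := toPermHom G Ω (s : G)) (α := α) (β := β) (o := orderOf s)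
          (k := 2 ^ (j - i) * k) hβα.symm h1 h2
          (orderOf_dvd_of_pow_eq_one (by rw [← map_pow, ← SubgroupClass.coe_pow, pow_orderOf_eq_one]; exact map_one _))
          (by rw [hio]; exact dvd_pow_self 2 hi0.ne')
          (fun x hxa hxb l hl => orderOf_dvd_of_pow_eq_one (by
            by_contra hl1
            rw [← map_pow, ← SubgroupClass.coe_pow] at hl
            exact hω x hxa hxb _ hl1 hl))
          (orderOf_pos s)
          (by rw [hn, hj, hio]; rw [show 2 ^ (j - i) * k * 2 ^ i = 2 ^ (j - i) * 2 ^ i * k by ring, ← pow_add, Nat.sub_add_cancel hi])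
          ((Nat.even_pow.mpr ⟨even_two, by omega⟩).mul_right k)
        rw [MonoidHom.comp_apply] at h
        rw [h] at this
        exact absurd this (by decide)
      · rcases Int.units_eq_one_or ((Equiv.Perm.sign.comp (toPermHom G Ω)) (s : G)) with h | h
        · exact h
        exfalso
        -- a non-trivial element of `S_α` is even
        have hs1 : s ≠ 1 := fun e => by rw [e, OneMemClass.coe_one, map_one] at h; exact absurd h (by decide)
        have hall : ∀ c ∈ (toPermHom G Ω (s : G)).cycleType, c = orderOf s := by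
          intro c hc
          rw [Equiv.Perm.cycleType_def, Multiset.mem_map] at hc
          obtain ⟨d, hd, rfl⟩ := hc
          obtain ⟨hdc, hda⟩ := Equiv.Perm.mem_cycleFactorsFinset_iff.mp hd
          obtain ⟨x, hx⟩ := hdc.nonempty_support
          have hpw : ∀ l, (d ^ l) x ∈ d.support ∧ (d ^ l) x = (s : G) ^ l • x := by
            intro l
            induction l with
            | zero => exact ⟨hx, (by rw [pow_zero, pow_zero, one_smul]; rfl)⟩
            | succ l ih =>
              rw [pow_succ', Equiv.Perm.mul_apply, pow_succ' (s : G), mul_smul, ← ih.2]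
              exact ⟨Equiv.Perm.apply_mem_support.mpr ih.1, hda _ ih.1⟩
          have hmv : (s : G) • x ≠ x := fun e => Equiv.Perm.mem_support.mp hx ((hda x hx).trans e)
          have hxa : x ≠ α := fun e => hmv (e ▸ (hmem s).mp hs)
          have hxb : x ≠ β := fun e => hmv (e ▸ hSaβ s hs)
          show d.support.card = orderOf s
          refine Nat.dvd_antisymm ?_ (orderOf_dvd_of_pow_eq_one ?_)
          · rw [← hdc.orderOf]
            refine orderOf_dvd_of_pow_eq_one ((hdc.pow_eq_one_iff).mpr ⟨x, Equiv.Perm.mem_support.mp hx, ?_⟩)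
            rw [(hpw _).2, ← SubgroupClass.coe_pow, pow_orderOf_eq_one]; exact one_smul G x
          · by_contra hl1
            refine hω x hxa hxb _ hl1 ?_
            rw [SubgroupClass.coe_pow, ← (hpw _).2, ← hdc.orderOf, pow_orderOf_eq_one]; rfl
        have hrep := Multiset.eq_replicate_card.mpr hall
        have hsupp : (toPermHom G Ω (s : G)).support.card = Nat.card (S : Subgroup G) * k := by
          have hset : (toPermHom G Ω (s : G)).support = Finset.univ \ {α, β} := by
            ext x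
            simp only [Equiv.Perm.mem_support, Finset.mem_sdiff, Finset.mem_univ, true_and, Finset.mem_insert, Finset.mem_singleton]
            constructor
            · rintro h' (rfl | rfl)
              · exact h' ((hmem s).mp hs)
              · exact h' (hSaβ s hs)
            · intro h' e
              push Not at h'
              exact hω x h'.1 h'.2 s hs1 e
          rw [hset, Finset.card_sdiff_of_subset (Finset.subset_univ _), Finset.card_univ, hn, Finset.card_pair hβα.symm]
          omega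
        have hsum := (toPermHom G Ω (s : G)).sum_cycleType
        rw [hsupp, hrep, Multiset.sum_replicate, smul_eq_mul] at hsum
        rw [MonoidHom.comp_apply, Equiv.Perm.sign_of_cycleType, hrep, Multiset.sum_replicate, smul_eq_mul, Multiset.card_replicate,
          hsum, Even.neg_one_pow] at h
        · exact absurd h (by decide)
        · have h2 : 2 * orderOf s ∣ Nat.card (S : Subgroup G) := by
            rw [hScard]
            exact Nat.mul_dvd_mul_left 2 (Sa.orderOf_dvd_natCard hs)
          obtain ⟨c, hc⟩ := h2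
          rw [hc] at hsum
          have hcount := Nat.eq_of_mul_eq_mul_right (orderOf_pos s) (hsum.trans (show 2 * orderOf s * c * k = 2 * c * k * orderOf s by ring))
          rw [hcount, hScard, show 2 * Nat.card Sa * k + 2 * c * k = 2 * (Nat.card Sa * k + c * k) by ring]
          exact even_two_mul _
  haveI := hNn'
  have hNα : ∀ s : (S : Subgroup G), (s : G) ∈ N → s ∈ Sa := fun s hs => hNS ▸ hs
  -- the orbits of `N` have odd size
  have hodd : ∀ x : Ω, (x = α ∨ x = β) → Odd (Nat.card (orbit N x)) := by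
    intro x hx
    rw [Nat.card_coe_set_eq, ← index_stabilizer, Nat.odd_iff, ← Nat.two_dvd_ne_zero]
    intro h2
    have hle : Sa.map (S : Subgroup G).subtype ≤ N ⊓ stabilizer G x := by
      rintro _ ⟨s, hs, rfl⟩
      refine ⟨(hNS ▸ hs : s ∈ N.subgroupOf (S : Subgroup G)), ?_⟩
      rcases hx with rfl | rfl
      · exact (hmem s).mp hs
      · exact hSaβ s hs
    have hcardN : Nat.card N * 2 = Nat.card G := hNi ▸ N.card_mul_index
    have h3 : Nat.card Sa ∣ Nat.card (stabilizer N x) := by
      rw [show Nat.card (stabilizer N x) = Nat.card ↥(N ⊓ stabilizer G x) from Nat.card_congr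
        { toFun := fun n => ⟨n.1.1, n.1.2, n.2⟩
          invFun := fun n => ⟨⟨n.1, n.2.1⟩, n.2.2⟩
          left_inv := fun _ => rfl
          right_inv := fun _ => rfl }, ← Subgroup.card_map_of_injective (f := (S : Subgroup G).subtype) (K := Sa) (S : Subgroup G).subtype_injective]
      exact Subgroup.card_dvd_of_le hle
    have h4 := Nat.mul_dvd_mul h3 h2
    rw [Subgroup.card_mul_index] at h4
    have h5 : Nat.card (S : Subgroup G) * 2 ∣ Nat.card G := by
      rw [← hcardN, hScard, mul_comm 2]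
      exact Nat.mul_dvd_mul_right h4 2
    rw [← (S : Subgroup G).card_mul_index] at h5
    exact S.not_dvd_index (Nat.dvd_of_mul_dvd_mul_left Nat.card_pos h5)
  have horbeq : ∀ x : Ω, x ∈ orbit N α ∨ x ∈ orbit N β := by
    intro x
    obtain ⟨g, rfl⟩ := exists_smul_eq G α x
    have hg₀N : (g₀ : G) ∉ N := fun h => hg₀ (hNα g₀ h)
    by_cases hg : g ∈ N
    · exact Or.inl ⟨⟨g, hg⟩, rfl⟩
    · refine Or.inr ⟨⟨g * (g₀ : G)⁻¹, ?_⟩, ?_⟩
      · exact (Subgroup.mul_mem_iff_of_index_two hNi).mpr (iff_of_false hg fun h => hg₀N (inv_mem_iff.mp h))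
      · show (g * (g₀ : G)⁻¹) • β = g • α
        rw [hβ, mul_smul, inv_smul_smul]
  have hne : β ∉ orbit N α := by
    intro hb
    have hall : orbit N α = Set.univ := Set.eq_univ_iff_forall.mpr fun x => (horbeq x).elim id fun h => orbit_eq_iff.mpr hb ▸ h
    have := hodd α (Or.inl rfl)
    rw [hall, Nat.card_coe_set_eq, Set.ncard_univ, Nat.card_eq_fintype_card, hn, hScard] at this
    exact absurd this (Nat.not_odd_iff_even.mpr ⟨1 + Nat.card Sa * k, by ring⟩)
  have hsize : Nat.card (orbit N α) = Nat.card (orbit N β) := by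
    refine Nat.card_congr (Equiv.subtypeEquiv (MulAction.toPerm (g₀ : G)) fun x => ?_)
    constructor
    · rintro ⟨n, rfl⟩
      refine ⟨⟨_, hNn'.conj_mem _ n.2 (g₀ : G)⟩, ?_⟩
      show ((g₀ : G) * (n : G) * (g₀ : G)⁻¹) • β = (g₀ : G) • (n : G) • α
      rw [hβ, mul_smul, mul_smul, inv_smul_smul]
    · rintro ⟨n, hn'⟩
      refine ⟨⟨_, hNn'.conj_mem _ n.2 (g₀ : G)⁻¹⟩, ?_⟩
      have hn'' : (n : G) • β = (g₀ : G) • x := hn'
      show ((g₀ : G)⁻¹ * (n : G) * (g₀ : G)⁻¹⁻¹) • α = x
      rw [inv_inv, mul_smul, mul_smul, ← hβ, hn'', inv_smul_smul]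
  have htN : (t : G) ∈ N := (hNS.symm ▸ htSa : t ∈ N.subgroupOf (S : Subgroup G))
  refine Or.inr (Or.inr (Or.inl ⟨by omega, ⟨α, by rw [horbα, Nat.card_coe_set_eq, Set.ncard_pair hβα.symm], ?_⟩,
    N, hNn', Or.inl hNi, stabilizer N α, ?_, ?_, ?_⟩))
  · intro x hx
    rw [horbα] at hx
    simp only [Set.mem_insert_iff, Set.mem_singleton_iff, not_or] at hx
    rw [Nat.card_coe_set_eq, ← index_stabilizer, show stabilizer (S : Subgroup G) x = ⊥ from
      eq_bot_iff.mpr fun s hs => by_contra fun h1 => hω x hx.1 hx.2 s h1 hs, Subgroup.index_bot]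
  · exact fun h => htG (congrArg Subtype.val (Subgroup.mem_bot.mp (h.le (show (⟨(t : G), htN⟩ : N) ∈ stabilizer N α from htα))))
  · intro h
    have h1 : Nat.card (orbit N α) = 1 := by rw [Nat.card_coe_set_eq, ← index_stabilizer, h, Subgroup.index_top]
    have h2 := hsize ▸ h1
    have hsub : (Set.univ : Set Ω) ⊆ orbit N α ∪ orbit N β := fun x _ => horbeq x
    have h3 := (Set.ncard_le_ncard hsub).trans (Set.ncard_union_le _ _)
    rw [Set.ncard_univ, Nat.card_eq_fintype_card, hn, ← Nat.card_coe_set_eq, ← Nat.card_coe_set_eq, h1, h2] at h3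
    have : 0 < Nat.card (S : Subgroup G) * k := Nat.mul_pos Nat.card_pos hk0
    omega
  · intro g hg
    rw [eq_bot_iff]
    rintro a ⟨ha, b, hb, hba⟩
    -- `a` fixes two points of the orbit of `α`
    have hfa : ((a : N) : G) • α = α := ha
    have hfg : ((a : N) : G) • ((g : N) : G) • α = ((g : N) : G) • α := by
      rw [← hba]
      show (((g * b * g⁻¹ : N)) : G) • (g : G) • α = (g : G) • α
      push_cast
      rw [mul_smul, mul_smul, inv_smul_smul, show ((b : N) : G) • α = α from hb]
    have hgα : ((g : N) : G) • α ≠ α := fun e => hg e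
    by_contra ha1
    obtain ⟨p, hp, hpd⟩ := Nat.exists_prime_and_dvd (n := orderOf a) (fun e => ha1 (orderOf_eq_one_iff.mp e))
    haveI := Fact.mk hp
    obtain ⟨c, hc⟩ : ∃ c, c = a ^ (orderOf a / p) := ⟨_, rfl⟩
    have hco : orderOf c = p := hc ▸ orderOf_pow_orderOf_div (orderOf_pos a).ne' hpd
    have hcfix : ∀ x : Ω, ((a : N) : G) • x = x → ((c : N) : G) • x = x := fun x hx => by
      rw [hc]; push_cast
      exact pow_mem (show (a : G) ∈ stabilizer G x from hx) _
    have hc1 : ((c : N) : G) ≠ 1 := fun e => by rw [show c = 1 from Subtype.ext e, orderOf_one] at hco; exact hp.ne_one hco.symm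
    have hP : IsPGroup p (Subgroup.zpowers c) := IsPGroup.of_card (n := 1) (by rw [Nat.card_zpowers, hco, pow_one])
    have m1 := hP.card_modEq_card_fixedPoints (orbit N α)
    have m2 := hP.card_modEq_card_fixedPoints (orbit N β)
    have hfixiff : ∀ (y : Ω) (z : orbit N y), z ∈ fixedPoints (Subgroup.zpowers c) (orbit N y) ↔ ((c : N) : G) • (z : Ω) = z := by
      intro y z
      refine ⟨fun h => congrArg Subtype.val (h ⟨c, Subgroup.mem_zpowers c⟩), fun h d => Subtype.ext ?_⟩
      obtain ⟨i, hi⟩ := d.2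
      show (((d : N)) : G) • (z : Ω) = z
      rw [← hi]; push_cast
      exact zpow_mem (show ((c : N) : G) ∈ stabilizer G (z : Ω) from h) i
    have hA : Nat.card (fixedPoints (Subgroup.zpowers c) (orbit N α)) = 2 := by
      rw [Nat.card_coe_set_eq, show fixedPoints (Subgroup.zpowers c) (orbit N α) = {⟨α, mem_orbit_self α⟩, ⟨(g : G) • α, g, rfl⟩} from ?_,
        Set.ncard_pair fun e => hgα (congrArg Subtype.val e).symm]
      ext z
      rw [hfixiff, Set.mem_insert_iff, Set.mem_singleton_iff]
      constructor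
      · intro h
        rcases hfix3 _ hc1 z α ((g : G) • α) h (hcfix _ hfa) (hcfix _ hfg) with h' | h' | h'
        · exact Or.inl (Subtype.ext h')
        · exact Or.inr (Subtype.ext h')
        · exact absurd h'.symm hgα
      · rintro (rfl | rfl)
        · exact hcfix _ hfa
        · exact hcfix _ hfg
    have hB : Nat.card (fixedPoints (Subgroup.zpowers c) (orbit N β)) = 0 := by
      haveI : IsEmpty (fixedPoints (Subgroup.zpowers c) (orbit N β)) := ⟨fun ⟨z, hz⟩ => by
        rw [hfixiff] at hz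
        have hz' : ∀ y, (y : Ω) ∈ orbit N α → (z : Ω) ≠ y := fun y hy e => hne (by
          have h1 := orbit_eq_iff.mpr z.2
          have h2 := orbit_eq_iff.mpr (e ▸ hy : (z : Ω) ∈ orbit N α)
          exact h2 ▸ h1.symm ▸ mem_orbit_self β)
        rcases hfix3 _ hc1 z α ((g : G) • α) hz (hcfix _ hfa) (hcfix _ hfg) with h' | h' | h'
        · exact hz' α (mem_orbit_self α) h'
        · exact hz' _ ⟨g, rfl⟩ h'
        · exact hgα h'.symm⟩
      exact Nat.card_of_isEmpty
    rw [hA] at m1
    rw [hB, ← hsize] at m2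
    have h20 : 2 ≡ 0 [MOD p] := m1.symm.trans m2
    obtain rfl : p = 2 := (Nat.prime_dvd_prime_iff_eq hp Nat.prime_two).mp (Nat.modEq_zero_iff_dvd.mp h20)
    have := hodd α (Or.inl rfl)
    rw [Nat.odd_iff] at this
    rw [Nat.ModEq, this] at m1
    norm_num at m1

end Cfsg.Agent.S3390
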