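import Cfsg.Statements.S3391
import Cfsg.Agent.Lib.Suzuki.Fixity

set_option autoImplicit false
open Cfsg

namespace Cfsg.Agent.S3391

/-- Let q = 2^{2m+1} ≥ 8 and let G be isomorphic to the Suzuki group Sz(q). If G acts faithfully and transitively on a finite set Ω with fixity 2 (every non-identity element fixes at most two points, and some fixes exactly two), then either |Ω| = q² + 1 and the action is 2-transitive, or |Ω| = q²(q² + 1) and the point stabilizers have order q − 1. -/
theorem result {G : Type*} [Group G] [Finite G] (F : Type) [Field F] [Fintype F] (m : ℕ) (hm : 1 ≤ m) (hF : Fintype.card F = 2 ^ (2 * m + 1))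
    (e : G ≃* ↥(Cfsg.Lie.Sz F (2 ^ (m + 1)))) {Ω : Type*} [Fintype Ω] [MulAction G Ω] [FaithfulSMul G Ω] (htr : MulAction.IsPretransitive G Ω)
    (hfix : ∀ g : G, g ≠ 1 → Nat.card (MulAction.fixedBy Ω g) ≤ 2) (hex : ∃ g : G, g ≠ 1 ∧ Nat.card (MulAction.fixedBy Ω g) = 2) :
    (Fintype.card Ω = Fintype.card F ^ 2 + 1 ∧ MulAction.IsMultiplyPretransitive G Ω 2) ∨
    (Fintype.card Ω = Fintype.card F ^ 2 * (Fintype.card F ^ 2 + 1) ∧ ∀ α : Ω, Nat.card (MulAction.stabilizer G α) = Fintype.card F - 1) := by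
  classical
  set φ := e.trans (CfsgLib.Suzuki.lieEquiv hF hm).symm with hφ
  obtain ⟨g0, hg0, hg02⟩ := hex
  have hne0 : Nonempty (MulAction.fixedBy Ω g0) := (Nat.card_pos_iff.mp (by omega)).1
  obtain ⟨⟨α, hα⟩⟩ := hne0
  set H0 := MulAction.stabilizer G α with hH0
  have hindex : H0.index = Fintype.card Ω := by
    rw [hH0, MulAction.index_stabilizer_of_transitive, Nat.card_eq_fintype_card]
  have hne : H0.map φ.toMonoidHom ≠ ⊥ := fun h => by
    have := (Subgroup.map_eq_bot_iff_of_injective H0 (f := φ.toMonoidHom) φ.injective).mp h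
    exact hg0 ((Subgroup.eq_bot_iff_forall _).mp this g0 hα)
  have htop : H0.map φ.toMonoidHom ≠ ⊤ := fun h => by
    have h1 : H0 = ⊤ := Subgroup.map_injective (f := φ.toMonoidHom) φ.injective
      (h.trans (Subgroup.map_top_of_surjective φ.toMonoidHom φ.surjective).symm)
    rw [h1, Subgroup.index_top] at hindex
    have h3 := Nat.card_le_card_of_injective (Subtype.val : MulAction.fixedBy Ω g0 → Ω)
      Subtype.val_injective
    rw [Nat.card_eq_fintype_card (α := Ω), hg02, ← hindex] at h3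
    omega
  have hcardG : Nat.card G = (2 ^ (2 * m + 1)) ^ 2 * ((2 ^ (2 * m + 1)) ^ 2 + 1) *
      (2 ^ (2 * m + 1) - 1) := by
    rw [Nat.card_congr φ.toEquiv, CfsgLib.Suzuki.card_Sz hF hm]
  have hmapcard : Nat.card (H0.map φ.toMonoidHom) = Nat.card H0 :=
    Subgroup.card_map_of_injective φ.injective
  have hq : 0 < 2 ^ (2 * m + 1) - 1 := by
    have : 2 ^ 1 ≤ 2 ^ (2 * m + 1) := Nat.pow_le_pow_right (by norm_num) (by omega)
    omega
  rcases CfsgLib.Suzuki.fixity_stab hF hm hne htop
      ((CfsgLib.Suzuki.cosetFix2_of_action hfix α).map φ) with h | ⟨p, hp, hstab⟩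
  · right
    rw [hmapcard] at h
    have hΩ : Fintype.card Ω = (2 ^ (2 * m + 1)) ^ 2 * ((2 ^ (2 * m + 1)) ^ 2 + 1) := by
      have h1 := H0.card_mul_index
      rw [h, hindex, hcardG, mul_comm] at h1
      exact Nat.eq_of_mul_eq_mul_right hq h1
    refine ⟨by rw [hF]; exact hΩ, fun β => ?_⟩
    have h2 := (MulAction.stabilizer G β).card_mul_index
    rw [MulAction.index_stabilizer_of_transitive, Nat.card_eq_fintype_card (α := Ω), hcardG, hΩ,
      mul_comm] at h2
    rw [hF]
    exact Nat.eq_of_mul_eq_mul_left (by positivity) h2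
  · left
    have hiff : ∀ x y : G, x • α = y • α ↔ φ x • p = φ y • p := by
      intro x y
      have key : x⁻¹ * y ∈ H0 ↔ (φ x)⁻¹ * φ y ∈ MulAction.stabilizer _ p := by
        rw [← map_inv, ← map_mul, ← hstab]
        exact (Subgroup.mem_map_iff_mem (f := φ.toMonoidHom) φ.injective).symm
      rw [hH0, MulAction.mem_stabilizer_iff, MulAction.mem_stabilizer_iff, mul_smul, mul_smul,
        inv_smul_eq_iff, inv_smul_eq_iff] at key
      exact ⟨fun h => (key.mp h.symm).symm, fun h => (key.mpr h.symm).symm⟩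
    refine ⟨?_, ?_⟩
    · have h1 : (H0.map φ.toMonoidHom).index = H0.index := Subgroup.index_map_equiv H0 φ
      rw [← hindex, ← h1, hstab, MulAction.index_stabilizer,
        ← MulAction.orbit_eq_iff.mpr (show p ∈ MulAction.orbit ↥(Cfsg.Sz F m) (suzukiPointInfinity F) by
          rw [CfsgLib.Suzuki.orbit_inf hF]; exact hp) |>.symm,
        CfsgLib.Suzuki.orbit_inf hF, ← Nat.card_coe_set_eq, CfsgLib.Suzuki.card_ovoid]
    · rw [MulAction.is_two_pretransitive_iff]
      intro a b c d hab hcd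
      obtain ⟨x, rfl⟩ := MulAction.exists_smul_eq G α a
      obtain ⟨y, rfl⟩ := MulAction.exists_smul_eq G α b
      obtain ⟨z, rfl⟩ := MulAction.exists_smul_eq G α c
      obtain ⟨w, rfl⟩ := MulAction.exists_smul_eq G α d
      have hov : ∀ v : G, φ v • p ∈ suzukiOvoid F m := fun v =>
        CfsgLib.Suzuki.smul_mem_ovoid (φ v).2 hp
      have h2t : ∀ {a b c d : suzukiOvoid F m}, a ≠ b → c ≠ d →
          ∃ g : ↥(Cfsg.Sz F m), g • a = c ∧ g • b = d :=
        MulAction.is_two_pretransitive_iff.mp (CfsgLib.Suzuki.two_transitive (m := m) hF)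
      obtain ⟨g, g1, g2⟩ := @h2t (⟨_, hov x⟩ : suzukiOvoid F m) (⟨_, hov y⟩ : suzukiOvoid F m)
        (⟨_, hov z⟩ : suzukiOvoid F m) (⟨_, hov w⟩ : suzukiOvoid F m)
        (fun h => hab ((hiff x y).mpr (congrArg Subtype.val h)))
        (fun h => hcd ((hiff z w).mpr (congrArg Subtype.val h)))
      refine ⟨φ.symm g, ?_, ?_⟩
      · rw [← mul_smul, hiff, map_mul, φ.apply_symm_apply, mul_smul]
        exact congrArg Subtype.val g1
      · rw [← mul_smul, hiff, map_mul, φ.apply_symm_apply, mul_smul]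
        exact congrArg Subtype.val g2

end Cfsg.Agent.S3391
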