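import Cfsg.Statements.S3400
import Cfsg.Agent.Lib.StabSimpAb.Even
import Cfsg.Agent.Lib.StabSimpAb.Direct
import Cfsg.Agent.Lib.StabSimpAb.OuterE
import Cfsg.Agent.Lib.StabSimpAb.OuterO
import Cfsg.Agent.S3262
import Cfsg.Agent.S0252
import Cfsg.Agent.S0253

set_option autoImplicit false
open Cfsg

namespace Cfsg.Agent.S3400

open CfsgLib.StabSimpAb CfsgLib.StabAlt5

universe u v

/-- The three kinds: odd degree, then a central or an outer swapper. -/
private theorem regular_of_kind {G : Type u} [Group G] [Finite G] {Ω : Type v} [Finite Ω] [MulAction G Ω]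
    [FaithfulSMul G Ω] {a b : Ω} {T : Subgroup G} (C : Cx a b T) (h60 : 60 < Nat.card (stab2 G a b))
    (hkind : KitE (stab2 G a b) T ∨ (Nat.card T = 4 ∧ KitO (stab2 G a b) T) ∨
      (Nat.card T = 8 ∧ CfsgLib.WalterAb.IsJR ↥(stab2 G a b))) :
    ∃ P : Subgroup G, P.Normal ∧ (∀ c d : Ω, ∃ x ∈ P, x • c = d) ∧ ∀ x ∈ P, ∀ c : Ω, x • c = c → x = 1 := by
  have hodd := C.odd_degree (by omega)
  obtain ⟨t, ht, I⟩ := C.exists_inv
  rcases C.dichotomy I with ⟨z, Z⟩ | ⟨s, O⟩
  · exact C.direct hodd Z (hkind.imp id (Or.imp And.left And.right))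
  rcases hkind with K | ⟨h4, K⟩ | ⟨h8, -⟩
  · exact (O.false_of_even C K hodd I).elim
  · obtain ⟨t', ht', t1, O', hst⟩ := O.exists_centralised C I
    obtain ⟨F, iF, iFt, h8, h5, e⟩ := K.iso
    have D : OuterFour s t' a b T F := ⟨C, hodd, h4, ht', t1, O', hst, h8, h5, e⟩
    exact D.regular h60
  · exfalso
    have h := O.card
    rw [h8] at h
    generalize Nat.card ↥(T ⊓ Subgroup.centralizer ({s} : Set G)) = k at h
    rcases Nat.lt_or_ge k 3 with hk | hk
    · interval_cases k <;> omega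
    · have := Nat.pow_le_pow_left hk 2
      omega

/-- Let G be a finite doubly transitive permutation group in which the stabilizer of two points is a non-abelian simple group with abelian Sylow 2-subgroups. Then G is isomorphic to the alternating group of degree 7, or to the Mathieu group M₁₁, or G has a regular normal subgroup. -/
theorem result {G : Type*} [Group G] [Finite G] {Ω : Type*} [Fintype Ω] [MulAction G Ω] [FaithfulSMul G Ω]
    (h2 : MulAction.IsMultiplyPretransitive G Ω 2) (a b : Ω) (hab : a ≠ b)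
    (hs : IsSimpleGroup ↥(MulAction.stabilizer G a ⊓ MulAction.stabilizer G b))
    (hna : ¬ IsMulCommutative ↥(MulAction.stabilizer G a ⊓ MulAction.stabilizer G b))
    (hab2 : ∀ S : Sylow 2 ↥(MulAction.stabilizer G a ⊓ MulAction.stabilizer G b), IsMulCommutative ↥(S : Subgroup ↥(MulAction.stabilizer G a ⊓ MulAction.stabilizer G b))) :
    Nonempty (G ≃* ↥(alternatingGroup (Fin 7))) ∨ Cfsg.Spor.IsoM11 G ∨
      (∃ N : Subgroup G, N.Normal ∧ MulAction.IsPretransitive ↥N Ω ∧ ∀ x : Ω, MulAction.stabilizer ↥N x = ⊥) := by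
  classical
  have h2' : TwoTrans G Ω := fun _ _ _ _ h₁ h₂ => MulAction.is_two_pretransitive_iff.mp h2 h₁ h₂
  by_cases hreg : ∃ N : Subgroup G, N.Normal ∧ MulAction.IsPretransitive ↥N Ω ∧
      ∀ x : Ω, MulAction.stabilizer ↥N x = ⊥
  · exact Or.inr (Or.inr hreg)
  have hno : ∀ T : Subgroup G, (C : Cx a b T) → 60 < Nat.card (stab2 G a b) →
      (KitE (stab2 G a b) T ∨ (Nat.card T = 4 ∧ KitO (stab2 G a b) T) ∨
        (Nat.card T = 8 ∧ CfsgLib.WalterAb.IsJR ↥(stab2 G a b))) → False := by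
    intro T C h60 hkind
    obtain ⟨P, hP, htr, hfree⟩ := regular_of_kind C h60 hkind
    refine hreg ⟨P, hP, ⟨fun c d => ?_⟩, fun c => (Subgroup.eq_bot_iff_forall _).mpr fun x hx =>
      Subtype.ext (hfree x x.2 c hx)⟩
    obtain ⟨x, hx, he⟩ := htr c d
    exact ⟨⟨x, hx⟩, he⟩
  rcases exists_kit hs hna hab2 with ⟨F, _, _, hq, ⟨e⟩⟩ | ⟨T, K⟩ | ⟨T, K, F, _, _, hq, ⟨e⟩⟩ | ⟨T, K⟩
  · obtain ⟨f⟩ : Nonempty (Matrix.ProjectiveSpecialLinearGroup (Fin 2) F ≃* alternatingGroup (Fin 5)) := by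
      rcases hq with h | h
      · exact Cfsg.Agent.S0252.result h
      · exact Cfsg.Agent.S0253.result h
    rcases Cfsg.Agent.S3262.result h2 a b hab (fun N hN htr hst => hreg ⟨N, hN, htr, hst⟩) (e.trans f) with h | h
    · exact Or.inl h.2
    · exact Or.inr (Or.inl h.2)
  · refine (hno T ⟨h2', hab, K.toKit⟩ ?_ (Or.inl K)).elim
    rw [K.card_H]
    have h8 := K.eight
    have h2 : 63 ≤ Nat.card T ^ 2 - 1 := by
      have := Nat.pow_le_pow_left h8 2
      omega
    have := Nat.mul_le_mul h8 h2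
    omega
  · have hc := CfsgLib.DicksonFull.card_psl (F := F)
    obtain ⟨F', iF', iFt', h8, h5, ⟨e'⟩⟩ := K.iso
    have hc' := CfsgLib.DicksonFull.card_psl (F := F')
    rw [← Nat.card_congr e'.toEquiv, show Nat.gcd 2 (Fintype.card F' - 1) = 2 by
      refine Nat.gcd_eq_left ?_; omega] at hc'
    have h60 : 60 < Nat.card (stab2 G a b) := by
      rw [← Nat.card_congr e.toEquiv] at hc
      have hle := Nat.mul_le_mul_right (Nat.card (stab2 G a b))
        (Nat.le_of_dvd two_pos (Nat.gcd_dvd_left 2 (Fintype.card F - 1)))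
      have h1 : 11 * 120 ≤ Fintype.card F * (Fintype.card F ^ 2 - 1) :=
        Nat.mul_le_mul hq (by have := Nat.pow_le_pow_left hq 2; omega)
      change _ * Nat.card (stab2 G a b) = _ at hc
      omega
    refine (hno T ⟨h2', hab, K.toKit⟩ h60 (Or.inr (Or.inl ⟨?_, K⟩))).elim
    rcases K.toKit.orders with ⟨_, _, _, -, -, h4, -⟩ | ⟨n, hn, hT, hH, -⟩ | ⟨_, _, _, _, hT, -⟩ | ⟨hT, -⟩
    · exact h4
    all_goals
      have hd : Nat.card T ∣ Nat.card (stab2 G a b) := Subgroup.card_dvd_of_le K.le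
      have hH8 : Nat.card (stab2 G a b) % 8 = 4 := by
        set q := Fintype.card F'
        change 2 * Nat.card (stab2 G a b) = _ at hc'
        have hsq : (q * (q ^ 2 - 1)) % 16 = 8 := by
          have e1 : q ^ 2 % 16 = (q % 16) ^ 2 % 16 := Nat.pow_mod q 2 16
          have h1 : 1 ≤ q ^ 2 := Nat.one_le_pow _ _ (by omega)
          rw [Nat.mul_mod]
          rcases (show q % 16 = 3 ∨ q % 16 = 5 ∨ q % 16 = 11 ∨ q % 16 = 13 by omega) with h | h | h | h <;>
            rw [h] at e1 <;> norm_num at e1 <;> rw [h] <;> omega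
        omega
      first
      | (rw [hT] at hd; omega)
      | (rcases Nat.lt_or_ge n 3 with h | h
         · rw [hT, show n = 2 by omega]; norm_num
         · have : 2 ^ 3 ∣ Nat.card (stab2 G a b) := (pow_dvd_pow 2 h).trans (hT ▸ hd)
           omega)
  · have hT : Nat.card T = 8 := by
      rw [K.toKit.card_T, ← Sylow.card_eq_multiplicity
        (default : Sylow 2 ↥(stab2 G a b))]
      exact (K.jr.1 default).1
    refine (hno T ⟨h2', hab, K.toKit⟩ ?_ (Or.inr (Or.inr ⟨hT, K.jr⟩))).elim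
    rcases K.toKit.orders with ⟨_, _, _, -, -, h4, -⟩ | ⟨n, hn, hT', hH, -⟩ | ⟨m, q, hm, hq, -, hH, -⟩ | ⟨-, hH, -⟩
    · omega
    · rw [hT] at hT'
      rw [hH, ← hT']
      norm_num
    · rw [hH]
      have h27 : 27 ≤ q := hq ▸ (show 27 = 3 ^ 3 by norm_num) ▸ Nat.pow_le_pow_right (by norm_num) (by omega)
      have h3 : 27 ^ 3 ≤ q ^ 3 := Nat.pow_le_pow_left h27 3
      have := Nat.mul_le_mul (Nat.mul_le_mul h3 (show 1 ≤ q ^ 3 + 1 by omega)) (show 1 ≤ q - 1 by omega)
      omega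
    · rw [hH]; norm_num

end Cfsg.Agent.S3400
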