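import Cfsg.Statements.S3401
import Mathlib

set_option autoImplicit false
open Cfsg

namespace Cfsg.Agent.S3401

open MulAction

variable {G : Type*} [Group G] [Finite G]

/-- Subgroups of full 2-power order are conjugate inside `K`. -/
theorem conj_of_card {K P Q : Subgroup G} {e : ℕ} (he : (Nat.card K).factorization 2 = e)
    (hP : P ≤ K) (hQ : Q ≤ K) (cP : Nat.card P = 2 ^ e) (cQ : Nat.card Q = 2 ^ e) :
    ∃ m ∈ K, ∀ x, x ∈ P → m * x * m⁻¹ ∈ Q := by
  haveI : Fact (Nat.Prime 2) := ⟨Nat.prime_two⟩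
  let P' : Sylow 2 ↥K := Sylow.ofCard (P.subgroupOf K)
    (by rw [Nat.card_congr (Subgroup.subgroupOfEquivOfLe hP).toEquiv, cP, he])
  let Q' : Sylow 2 ↥K := Sylow.ofCard (Q.subgroupOf K)
    (by rw [Nat.card_congr (Subgroup.subgroupOfEquivOfLe hQ).toEquiv, cQ, he])
  obtain ⟨m, hm⟩ := MulAction.exists_smul_eq ↥K P' Q'
  refine ⟨m, m.2, fun x hx => ?_⟩
  have h : MulAut.conj m • (⟨x, hP hx⟩ : ↥K) ∈ ((m • P' : Sylow 2 ↥K) : Subgroup ↥K) :=
    Subgroup.smul_mem_pointwise_smul _ _ _ (show (⟨x, hP hx⟩ : ↥K) ∈ P.subgroupOf K from hx)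
  rw [hm] at h
  exact h

theorem exists_sub (K : Subgroup G) :
    ∃ S ≤ K, Nat.card S = 2 ^ (Nat.card K).factorization 2 := by
  haveI : Fact (Nat.Prime 2) := ⟨Nat.prime_two⟩
  let P : Sylow 2 ↥K := default
  refine ⟨(P : Subgroup ↥K).map K.subtype, Subgroup.map_subtype_le _, ?_⟩
  rw [Subgroup.card_map_of_injective K.subtype_injective, P.card_eq_multiplicity]

variable {Ω : Type*} [Fintype Ω] [MulAction G Ω]

theorem card_stab_mul (h2 : IsMultiplyPretransitive G Ω 2) {a b : Ω} (hab : a ≠ b) :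
    Nat.card ↥(stabilizer G a) =
      (Fintype.card Ω - 1) * Nat.card ↥(stabilizer G a ⊓ stabilizer G b) := by
  classical
  rw [is_two_pretransitive_iff] at h2
  have horb : orbit ↥(stabilizer G a) b = {a}ᶜ := by
    ext c
    simp only [mem_orbit_iff, Set.mem_compl_iff, Set.mem_singleton_iff]
    constructor
    · rintro ⟨g, rfl⟩ e
      have h1 : (g : G) • b = (g : G) • a := e.trans (mem_stabilizer_iff.1 g.2).symm
      exact hab (smul_left_cancel _ h1).symm
    · intro hc
      obtain ⟨g, h1, h2⟩ := h2 (a := a) (b := b) (c := a) (d := c) hab (Ne.symm hc)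
      exact ⟨⟨g, h1⟩, h2⟩
  have h := index_stabilizer (stabilizer G a) b
  rw [horb, Set.ncard_compl, Set.ncard_singleton, Nat.card_eq_fintype_card] at h
  rw [← Subgroup.card_mul_index (stabilizer ↥(stabilizer G a) b), h, mul_comm]
  congr 1
  have e : stabilizer ↥(stabilizer G a) b
      = (stabilizer G a ⊓ stabilizer G b).subgroupOf (stabilizer G a) := by
    ext x
    constructor
    · exact fun hx => ⟨x.2, hx⟩
    · exact fun hx => hx.2
  rw [e, Nat.card_congr (Subgroup.subgroupOfEquivOfLe inf_le_left).toEquiv]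

theorem card_normal_mul (M : Subgroup G) (htr : IsPretransitive ↥M Ω) (a : Ω) :
    Nat.card ↥M = Fintype.card Ω * Nat.card ↥(M ⊓ stabilizer G a) := by
  have h := index_stabilizer_of_transitive (↥M) (x := a)
  rw [← Subgroup.card_mul_index (stabilizer ↥M a), h, mul_comm, Nat.card_eq_fintype_card]
  congr 1
  have e : stabilizer ↥M a = (M ⊓ stabilizer G a).subgroupOf M := by
    ext x
    constructor
    · exact fun hx => ⟨x.2, hx⟩
    · exact fun hx => hx.2
  rw [e, Nat.card_congr (Subgroup.subgroupOfEquivOfLe inf_le_left).toEquiv]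

/-- A Cayley parity argument: `W` has an index two subgroup of elements of odd order modulo `S`. -/
theorem exists_parity (W : Type*) [Group W] [Finite W] (S : Subgroup W) [S.Normal] (m : ℕ)
    (hm : Odd m) (hidx : S.index = 2 * m) (t : W) (ht : t ∉ S) (ht2 : t ^ 2 ∈ S) :
    (∀ w v : W, w ^ m ∈ S → v ^ m ∈ S → (w * v) ^ m ∈ S) ∧
      (∀ w : W, w ^ m ∈ S ∨ (t⁻¹ * w) ^ m ∈ S) ∧ ¬ t ^ m ∈ S := by
  classical
  haveI := Fintype.ofFinite (W ⧸ S)
  let s : W →* ℤˣ := (Equiv.Perm.sign).comp (MulAction.toPermHom W (W ⧸ S))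
  have hS : ∀ x ∈ S, s x = 1 := by
    intro x hx
    have : MulAction.toPermHom W (W ⧸ S) x = 1 := by
      ext q
      obtain ⟨w, rfl⟩ := QuotientGroup.mk_surjective q
      show x • (w : W ⧸ S) = (w : W ⧸ S)
      rw [MulAction.Quotient.smul_mk, QuotientGroup.eq]
      have h := Subgroup.Normal.conj_mem (inferInstance : S.Normal) _ (S.inv_mem hx) w⁻¹
      simpa [smul_eq_mul, mul_assoc] using h
    show Equiv.Perm.sign _ = 1
    rw [this, map_one]
  have hst : s t = -1 := by
    set σ := MulAction.toPermHom W (W ⧸ S) t with hσ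
    have hne : ∀ q, σ q ≠ q := by
      intro q hq
      obtain ⟨w, rfl⟩ := QuotientGroup.mk_surjective q
      change t • (w : W ⧸ S) = (w : W ⧸ S) at hq
      rw [MulAction.Quotient.smul_mk, QuotientGroup.eq] at hq
      have h := Subgroup.Normal.conj_mem (inferInstance : S.Normal) _ (S.inv_mem hq) w
      exact ht (by simpa [smul_eq_mul, mul_assoc] using h)
    have hsupp : σ.support = Finset.univ := by
      ext q; simp [Equiv.Perm.mem_support, hne q]
    have hσ2 : σ ^ 2 = 1 := by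
      rw [hσ, ← map_pow]
      ext q
      obtain ⟨w, rfl⟩ := QuotientGroup.mk_surjective q
      show t ^ 2 • (w : W ⧸ S) = (w : W ⧸ S)
      rw [MulAction.Quotient.smul_mk, QuotientGroup.eq]
      have h := Subgroup.Normal.conj_mem (inferInstance : S.Normal) _ (S.inv_mem ht2) w⁻¹
      simpa [smul_eq_mul, mul_assoc] using h
    have hall : ∀ k ∈ σ.cycleType, k = 2 := fun k hk =>
      le_antisymm (Nat.le_of_dvd (by norm_num)
        ((Equiv.Perm.dvd_of_mem_cycleType hk).trans (orderOf_dvd_of_pow_eq_one hσ2)))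
        (Equiv.Perm.two_le_of_mem_cycleType hk)
    have hrep := Multiset.eq_replicate_card.2 hall
    have hsum := σ.sum_cycleType
    rw [hrep, Multiset.sum_replicate, smul_eq_mul, hsupp, Finset.card_univ,
      ← Nat.card_eq_fintype_card, ← Subgroup.index_eq_card, hidx] at hsum
    show Equiv.Perm.sign σ = -1
    rw [Equiv.Perm.sign_of_cycleType, hrep, Multiset.sum_replicate, Multiset.card_replicate,
      smul_eq_mul]
    obtain ⟨r, hr⟩ := hm
    exact Odd.neg_one_pow ⟨3 * r + 1, by omega⟩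
  have hker : ∀ w : W, w ^ m ∈ S ↔ s w = 1 := by
    intro w
    constructor
    · intro h
      have h1 := hS _ h
      rw [map_pow] at h1
      rcases Int.units_eq_one_or (s w) with e | e
      · exact e
      · rw [e, hm.neg_one_pow] at h1
        exact absurd h1 (by decide)
    · intro hw
      have hle : S ≤ s.ker := fun x hx => hS x hx
      have hk2 : s.ker.index = 2 := by
        rw [Subgroup.index_ker]
        have : s.range = ⊤ := by
          rw [eq_top_iff]
          rintro x -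
          rcases Int.units_eq_one_or x with rfl | rfl
          · exact one_mem _
          · exact ⟨t, hst⟩
        rw [this, Subgroup.card_top, Nat.card_eq_fintype_card, Fintype.card_units_int]
      have hmul := Subgroup.relIndex_mul_index hle
      rw [hk2, hidx] at hmul
      have hrel : S.relIndex s.ker = m := by omega
      have h := Subgroup.pow_index_mem (S.subgroupOf s.ker) ⟨w, hw⟩
      rw [← Subgroup.relIndex] at h
      rw [hrel] at h
      exact h
  refine ⟨fun w v hw hv => ?_, fun w => ?_, fun h => ?_⟩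
  · rw [hker] at hw hv ⊢
    rw [map_mul, hw, hv, one_mul]
  · rw [hker, hker, map_mul, map_inv, hst]
    rcases Int.units_eq_one_or (s w) with e | e <;> simp [e]
  · rw [hker, hst] at h
    exact absurd h (by decide)

/-- A transitive normal subgroup of a doubly transitive group of degree `2 mod 4` is doubly
transitive. -/
theorem normal_two_transitive (h2 : IsMultiplyPretransitive G Ω 2)
    (hn : Fintype.card Ω % 4 = 2) (M : Subgroup G) [M.Normal] (htr : IsPretransitive ↥M Ω) :
    IsMultiplyPretransitive ↥M Ω 2 := by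
  classical
  haveI : Fact (Nat.Prime 2) := ⟨Nat.prime_two⟩
  have h2' : ∀ {a b c d : Ω}, a ≠ b → c ≠ d → ∃ g : G, g • a = c ∧ g • b = d :=
    is_two_pretransitive_iff.1 h2
  set n := Fintype.card Ω with hndef
  suffices key : ∀ a b b' : Ω, b ≠ a → b' ≠ a → ∃ m ∈ M, m • a = a ∧ m • b = b' by
    rw [is_two_pretransitive_iff]
    intro a b c d hab hcd
    obtain ⟨m₁, hm₁⟩ := exists_smul_eq ↥M a c
    have hne : m₁ • b ≠ c := fun e => hab (smul_left_cancel m₁ (e.trans hm₁.symm)).symm
    obtain ⟨m₂, hm₂, e1, e2⟩ := key c (m₁ • b) d hne hcd.symm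
    refine ⟨⟨m₂, hm₂⟩ * m₁, ?_, ?_⟩
    · rw [mul_smul, hm₁]; exact e1
    · rw [mul_smul]; exact e2
  intro a b b' hb hb'
  set e := (Nat.card ↥(M ⊓ stabilizer G a)).factorization 2 with hedef
  -- 2-parts
  have hpt : ∀ c : Ω, (Nat.card ↥(M ⊓ stabilizer G c)).factorization 2 = e := by
    intro c
    have h1 := card_normal_mul M htr a
    rw [card_normal_mul M htr c] at h1
    rw [hedef, Nat.eq_of_mul_eq_mul_left (by omega) h1]
  have hpair : ∀ c d : Ω, c ≠ d →
      (Nat.card ↥(M ⊓ stabilizer G c ⊓ stabilizer G d)).factorization 2 = e := by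
    intro c d hcd
    let A := stabilizer G c
    let K : Subgroup ↥A := M.subgroupOf A
    let H : Subgroup ↥A := (stabilizer G d).subgroupOf A
    haveI : K.Normal := Subgroup.normal_subgroupOf
    have cK : Nat.card K = Nat.card ↥(M ⊓ stabilizer G c) := by
      have : K = (M ⊓ A).subgroupOf A := (Subgroup.inf_subgroupOf_right M A).symm
      rw [this, Nat.card_congr (Subgroup.subgroupOfEquivOfLe inf_le_right).toEquiv]
    have cKH : Nat.card ↥(K ⊓ H) = Nat.card ↥(M ⊓ stabilizer G c ⊓ stabilizer G d) := by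
      have : K ⊓ H = (M ⊓ A ⊓ stabilizer G d).subgroupOf A := by
        ext x
        exact ⟨fun h => ⟨⟨h.1, x.2⟩, h.2⟩, fun h => ⟨h.1.1, h.2⟩⟩
      rw [this, Nat.card_congr (Subgroup.subgroupOfEquivOfLe
        (inf_le_left.trans inf_le_right)).toEquiv]
    have cH : Nat.card H = Nat.card ↥(stabilizer G c ⊓ stabilizer G d) := by
      have : H = (stabilizer G c ⊓ stabilizer G d).subgroupOf A := by
        ext x
        exact ⟨fun h => ⟨x.2, h⟩, fun h => h.2⟩
      rw [this, Nat.card_congr (Subgroup.subgroupOfEquivOfLe inf_le_left).toEquiv]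
    have r1 : K.relIndex H * Nat.card ↥(K ⊓ H) = Nat.card H := by
      rw [← Subgroup.inf_relIndex_right K H, ← Subgroup.relIndex_bot_left, mul_comm,
        Subgroup.relIndex_mul_relIndex _ _ _ bot_le inf_le_right, Subgroup.relIndex_bot_left]
    have r2 : K.relIndex H * Nat.card K ∣ Nat.card ↥A := by
      rw [← Subgroup.relIndex_sup_left (K := K) (H := H), ← Subgroup.relIndex_bot_left K, mul_comm,
        Subgroup.relIndex_mul_relIndex _ _ _ bot_le le_sup_left, Subgroup.relIndex_bot_left]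
      exact Subgroup.card_subgroup_dvd_card _
    rw [card_stab_mul h2 hcd, ← cH, ← r1, mul_left_comm] at r2
    have hr0 : 0 < K.relIndex H := Nat.pos_of_ne_zero (fun h0 => by
      rw [h0, zero_mul] at r1; exact Nat.card_pos.ne' r1.symm)
    have r3 := Nat.dvd_of_mul_dvd_mul_left hr0 r2
    rw [cK, cKH] at r3
    have hodd : ¬ 2 ∣ n - 1 := by omega
    have r4 : 2 ^ (Nat.card ↥(M ⊓ stabilizer G c)).factorization 2 ∣
        Nat.card ↥(M ⊓ stabilizer G c ⊓ stabilizer G d) :=
      ((Nat.prime_two.coprime_iff_not_dvd.2 hodd).pow_left _).dvd_of_dvd_mul_left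
        ((Nat.ordProj_dvd _ 2).trans r3)
    rw [Nat.prime_two.pow_dvd_iff_le_factorization Nat.card_pos.ne', hpt c] at r4
    have r5 := (Nat.factorization_le_iff_dvd Nat.card_pos.ne' Nat.card_pos.ne').2
      (Subgroup.card_dvd_of_le (inf_le_left : M ⊓ stabilizer G c ⊓ stabilizer G d ≤ _)) 2
    rw [hpt c] at r5
    omega
  obtain ⟨S, hSle, hScard⟩ := exists_sub (M ⊓ stabilizer G a)
  rw [← hedef] at hScard
  let F : Set Ω := {c | ∀ x ∈ S, x • c = c}
  have haF : a ∈ F := fun x hx => (hSle hx).2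
  have hSc : ∀ c ∈ F, S ≤ M ⊓ stabilizer G c := fun c hc x hx => ⟨(hSle hx).1, hc x hx⟩
  -- adjust an element so that it normalises S
  have hadj : ∀ (g : G) (K : Subgroup G), (Nat.card K).factorization 2 = e → S ≤ K →
      (∀ x ∈ S, g * x * g⁻¹ ∈ K) → ∃ k ∈ K, k * g ∈ Subgroup.normalizer (S : Set G) := by
    intro g K hK hSK hgS
    obtain ⟨k, hk, hk'⟩ := conj_of_card hK
      (P := S.map (MulAut.conj g).toMonoidHom) (Q := S)
      (by rintro _ ⟨x, hx, rfl⟩; exact hgS x hx) hSK
      (by rw [Subgroup.card_map_of_injective (MulAut.conj g).injective, hScard]) hScard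
    refine ⟨k, hk, ?_⟩
    rw [Subgroup.mem_normalizer_iff]
    have hmaps : ∀ x ∈ S, k * g * x * (k * g)⁻¹ ∈ S := fun x hx => by
      have := hk' _ ⟨x, hx, rfl⟩
      rw [MulEquiv.coe_toMonoidHom, MulAut.conj_apply] at this
      rwa [show k * g * x * (k * g)⁻¹ = k * (g * x * g⁻¹) * k⁻¹ by group]
    intro x
    refine ⟨hmaps x, fun hx => ?_⟩
    let f : ↥S → ↥S := fun y => ⟨k * g * y * (k * g)⁻¹, hmaps y y.2⟩
    have hf : Function.Injective f := fun y z hyz => Subtype.ext
      (conj_injective (congrArg Subtype.val hyz :))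
    obtain ⟨y, hy⟩ := (Finite.injective_iff_surjective.1 hf) ⟨_, hx⟩
    have hyx : (y : G) = x := conj_injective (congrArg Subtype.val hy :)
    exact hyx ▸ y.2
  have hXpair : ∀ c d d' : Ω, c ∈ F → d ∈ F → d' ∈ F → d ≠ c → d' ≠ c →
      ∃ g ∈ Subgroup.normalizer (S : Set G), g • c = c ∧ g • d = d' := by
    intro c d d' hc hd hd' h1 h2c
    obtain ⟨g, hg1, hg2⟩ := h2' (a := c) (b := d) (c := c) (d := d') h1.symm h2c.symm
    obtain ⟨k, hk, hN⟩ := hadj g (M ⊓ stabilizer G c ⊓ stabilizer G d') (hpair c d' h2c.symm)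
      (fun x hx => ⟨hSc c hc hx, hd' x hx⟩)
      (fun x hx => ⟨⟨Subgroup.Normal.conj_mem (inferInstance : M.Normal) _ (hSle hx).1 g, by
        show (g * x * g⁻¹) • c = c
        rw [mul_smul, mul_smul, inv_smul_eq_iff.2 hg1.symm, hc x hx, hg1]⟩, by
        show (g * x * g⁻¹) • d' = d'
        rw [mul_smul, mul_smul, inv_smul_eq_iff.2 hg2.symm, hd x hx, hg2]⟩)
    refine ⟨k * g, hN, ?_, ?_⟩
    · rw [mul_smul, hg1]; exact hk.1.2
    · rw [mul_smul, hg2]; exact hk.2
  have hXone : ∀ c ∈ F, ∃ g ∈ Subgroup.normalizer (S : Set G), g • a = c := by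
    intro c hc
    obtain ⟨g, hg⟩ := exists_smul_eq ↥M a c
    have hg' : (g : G) • a = c := hg
    obtain ⟨k, hk, hN⟩ := hadj g (M ⊓ stabilizer G c) (hpt c) (hSc c hc)
      (fun x hx => ⟨Subgroup.Normal.conj_mem (inferInstance : M.Normal) _ (hSle hx).1 _, by
        show ((g : G) * x * (g : G)⁻¹) • c = c
        rw [mul_smul, mul_smul, inv_smul_eq_iff.2 hg'.symm, haF x hx, hg']⟩)
    exact ⟨k * g, hN, by rw [mul_smul, hg']; exact hk.2⟩
  have hNF : ∀ g ∈ Subgroup.normalizer (S : Set G), ∀ c ∈ F, g • c ∈ F := by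
    intro g hg c hc x hx
    have h : g⁻¹ * x * g ∈ S := by
      have := (Subgroup.mem_normalizer_iff.1 (inv_mem hg) x).1 hx
      rwa [inv_inv] at this
    have h' := hc _ h
    rw [mul_smul, mul_smul, inv_smul_eq_iff] at h'
    exact h'
  -- the element t
  have hM2 : (Nat.card ↥M).factorization 2 = e + 1 := by
    rw [card_normal_mul M htr a, Nat.factorization_mul (by omega) Nat.card_pos.ne']
    simp only [Finsupp.coe_add, Pi.add_apply]
    rw [hpt a]
    have : n.factorization 2 = 1 := by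
      obtain ⟨r, hr⟩ : ∃ r, n = 2 * r := ⟨n / 2, by omega⟩
      rw [hr, Nat.factorization_mul two_ne_zero (by omega)]
      simp only [Finsupp.coe_add, Pi.add_apply]
      rw [Nat.Prime.factorization_self Nat.prime_two,
        Nat.factorization_eq_zero_of_not_dvd (by omega)]
    rw [← hndef]
    omega
  let W : Subgroup G := M ⊓ Subgroup.normalizer (S : Set G)
  have hSW : S ≤ W := le_inf (hSle.trans inf_le_left) Subgroup.le_normalizer
  obtain ⟨T, hTM, hST, hTcard⟩ : ∃ T, T ≤ M ∧ S ≤ T ∧ Nat.card T = 2 ^ (e + 1) := by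
    obtain ⟨P, hP⟩ := IsPGroup.exists_le_sylow (G := ↥M) (P := S.subgroupOf M)
      (IsPGroup.of_card (n := e) (by
        rw [Nat.card_congr (Subgroup.subgroupOfEquivOfLe (hSle.trans inf_le_left)).toEquiv,
          hScard]))
    refine ⟨(P : Subgroup ↥M).map M.subtype, Subgroup.map_subtype_le _,
      fun x hx => ⟨⟨x, (hSle hx).1⟩, hP hx, rfl⟩, ?_⟩
    rw [Subgroup.card_map_of_injective M.subtype_injective, P.card_eq_multiplicity, hM2]
  have hST2 : (S.subgroupOf T).index = 2 := by
    have h := Subgroup.card_mul_index (S.subgroupOf T)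
    rw [Nat.card_congr (Subgroup.subgroupOfEquivOfLe hST).toEquiv, hScard, hTcard, pow_succ] at h
    exact Nat.eq_of_mul_eq_mul_left (by positivity) h
  have hTN : T ≤ Subgroup.normalizer (S : Set G) := by
    haveI := Subgroup.normal_of_index_eq_two hST2
    exact (Subgroup.normal_subgroupOf_iff_le_normalizer hST).1 inferInstance
  obtain ⟨t, htT, htS⟩ := SetLike.exists_of_lt (lt_of_le_of_ne hST (fun h => by
    rw [h, hTcard, pow_succ] at hScard
    have : 0 < 2 ^ e := by positivity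
    omega) : S < T)
  have ht2 : t ^ 2 ∈ S := Subgroup.sq_mem_of_index_two hST2 ⟨t, htT⟩
  have hta : t • a ≠ a := by
    intro h
    have hle : T ≤ M ⊓ stabilizer G a := by
      intro x hx
      refine ⟨hTM hx, ?_⟩
      by_cases hxS : x ∈ S
      · exact (hSle hxS).2
      · have h' := (Subgroup.mul_mem_iff_of_index_two hST2 (a := ⟨x, hx⟩) (b := ⟨t, htT⟩)).2
          (iff_of_false hxS htS)
        have h'' : (x * t) • a = a := (hSle (show x * t ∈ S from h')).2
        rw [mul_smul, h] at h''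
        exact h''
    have := Subgroup.card_dvd_of_le hle
    rw [hTcard, Nat.prime_two.pow_dvd_iff_le_factorization Nat.card_pos.ne', hpt a] at this
    omega
  have htF : t • a ∈ F := hNF t (hTN htT) a haF
  have htW : t ∈ W := ⟨hTM htT, hTN htT⟩
  haveI : (S.subgroupOf W).Normal :=
    (Subgroup.normal_subgroupOf_iff_le_normalizer hSW).2 inf_le_right
  obtain ⟨m, hm, hidx⟩ : ∃ m, Odd m ∧ (S.subgroupOf W).index = 2 * m := by
    have h := Subgroup.card_mul_index (S.subgroupOf W)
    rw [Nat.card_congr (Subgroup.subgroupOfEquivOfLe hSW).toEquiv, hScard] at h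
    have hTW : T ≤ W := le_inf hTM hTN
    have h1 : 2 ^ (e + 1) ∣ Nat.card W := hTcard ▸ Subgroup.card_dvd_of_le hTW
    have h3 : ¬ 2 ^ (e + 2) ∣ Nat.card W := fun h4 => by
      have := h4.trans (Subgroup.card_dvd_of_le (inf_le_left : W ≤ M))
      rw [Nat.prime_two.pow_dvd_iff_le_factorization Nat.card_pos.ne', hM2] at this
      omega
    rw [← h, pow_succ] at h1
    obtain ⟨m, hm⟩ := Nat.dvd_of_mul_dvd_mul_left (by positivity) h1
    refine ⟨m, ?_, hm⟩
    rw [← Nat.not_even_iff_odd]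
    rintro ⟨r, rfl⟩
    exact h3 ⟨r, by rw [← h, hm]; ring⟩
  obtain ⟨hmul, hcases, htm⟩ := exists_parity ↥W (S.subgroupOf W) m hm hidx ⟨t, htW⟩ htS ht2
  have hodd' : ∀ w : ↥W, w ^ m ∈ S.subgroupOf W ↔ ((w : G)) ^ m ∈ S := fun w => by
    rw [Subgroup.mem_subgroupOf, SubmonoidClass.coe_pow]
  -- elements of odd order mod S form an X-invariant subgroup
  let N : Subgroup G :=
    { carrier := {w | w ∈ W ∧ w ^ m ∈ S}
      one_mem' := ⟨one_mem _, by rw [one_pow]; exact one_mem _⟩
      mul_mem' := fun {w v} hw hv => ⟨mul_mem hw.1 hv.1, by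
        have := hmul ⟨w, hw.1⟩ ⟨v, hv.1⟩ ((hodd' _).2 hw.2) ((hodd' _).2 hv.2)
        exact (hodd' _).1 this⟩
      inv_mem' := fun {w} hw => ⟨inv_mem hw.1, by rw [inv_pow]; exact S.inv_mem hw.2⟩ }
  have hNconj : ∀ g ∈ Subgroup.normalizer (S : Set G), ∀ w ∈ N, g * w * g⁻¹ ∈ N := by
    intro g hg w hw
    refine ⟨⟨Subgroup.Normal.conj_mem (inferInstance : M.Normal) _ hw.1.1 g,
      mul_mem (mul_mem hg hw.1.2) (Subgroup.inv_mem _ hg)⟩, ?_⟩
    rw [conj_pow]
    exact (Subgroup.mem_normalizer_iff.1 hg _).1 hw.2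
  -- N fixes F pointwise
  have hNa : ∀ w ∈ N, w • a = a := by
    by_contra hcon
    push Not at hcon
    obtain ⟨w, hw, hwa⟩ := hcon
    have hwF : w • a ∈ F := hNF w hw.1.2 a haF
    have horb : orbit ↥N a = F := by
      ext c
      constructor
      · rintro ⟨v, rfl⟩; exact hNF v v.2.1.2 a haF
      · intro hc
        by_cases hca : c = a
        · exact ⟨1, by rw [hca]; exact one_smul _ a⟩
        obtain ⟨g, hg, hga, hgc⟩ := hXpair a (w • a) c haF hwF hc hwa hca
        refine ⟨⟨g * w * g⁻¹, hNconj g hg w hw⟩, ?_⟩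
        show (g * w * g⁻¹) • a = c
        rw [mul_smul, mul_smul, inv_smul_eq_iff.2 hga.symm, hgc]
    have hi := index_stabilizer ↥N a
    rw [horb] at hi
    have hd : (stabilizer ↥N a).index ∣ (S.subgroupOf N).index :=
      Subgroup.index_dvd_of_le fun x hx => (hSle hx).2
    have hSN : S ≤ N := fun x hx => ⟨hSW hx, pow_mem hx m⟩
    have hNodd : ¬ 2 ∣ (S.subgroupOf N).index := by
      intro h2d
      haveI : (S.subgroupOf N).Normal :=
        (Subgroup.normal_subgroupOf_iff_le_normalizer hSN).2 (fun x hx => hx.1.2)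
      obtain ⟨q, hq⟩ := exists_prime_orderOf_dvd_card' 2 (G := ↥N ⧸ S.subgroupOf N)
        (by rwa [← Subgroup.index_eq_card])
      obtain ⟨v, rfl⟩ := QuotientGroup.mk_surjective q
      have hv : ((v : ↥N ⧸ S.subgroupOf N)) ^ m = 1 := by
        rw [← QuotientGroup.mk_pow, QuotientGroup.eq_one_iff, Subgroup.mem_subgroupOf,
          SubmonoidClass.coe_pow]
        exact v.2.2
      have := orderOf_dvd_of_pow_eq_one hv
      rw [hq] at this
      exact hm.not_two_dvd_nat this
    have hSp : IsPGroup 2 ↥S := IsPGroup.of_card hScard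
    have hmod := hSp.card_modEq_card_fixedPoints Ω
    have hfix : fixedPoints ↥S Ω = F := by
      ext c
      exact ⟨fun h x hx => h ⟨x, hx⟩, fun h x => h x x.2⟩
    rw [hfix, Nat.card_eq_fintype_card, Nat.card_coe_set_eq, ← hndef] at hmod
    have : 2 ∣ F.ncard := by
      rw [Nat.ModEq] at hmod
      omega
    exact hNodd ((hi ▸ this : 2 ∣ _).trans hd)
  have hNF' : ∀ w ∈ N, ∀ c ∈ F, w • c = c := by
    intro w hw c hc
    obtain ⟨g, hg, rfl⟩ := hXone c hc
    have h := hNa _ (hNconj g⁻¹ (inv_mem hg) w hw)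
    rw [inv_inv, mul_smul, mul_smul, inv_smul_eq_iff] at h
    exact h
  have hFsub : ∀ c ∈ F, c = a ∨ c = t • a := by
    intro c hc
    by_cases hca : c = a
    · exact Or.inl hca
    right
    obtain ⟨g, hg, hga, hgc⟩ := hXpair a (t • a) c haF htF hc hta hca
    have hv : g * t * g⁻¹ ∈ W :=
      ⟨Subgroup.Normal.conj_mem (inferInstance : M.Normal) _ htW.1 g,
        mul_mem (mul_mem hg htW.2) (Subgroup.inv_mem _ hg)⟩
    have hcv : (g * t * g⁻¹) • a = c := by
      rw [mul_smul, mul_smul, inv_smul_eq_iff.2 hga.symm, hgc]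
    rcases hcases ⟨_, hv⟩ with h | h
    · have hvN : g * t * g⁻¹ ∈ N := ⟨hv, (hodd' _).1 h⟩
      rw [hNa _ hvN] at hcv
      exact absurd hcv.symm hca
    · have hvN : t⁻¹ * (g * t * g⁻¹) ∈ N := ⟨mul_mem (inv_mem htW) hv, (hodd' _).1 h⟩
      have h' := hNa _ hvN
      rw [mul_smul, hcv, inv_smul_eq_iff] at h'
      exact h'
  -- every orbit of the point stabilizer meets F
  have hmeet : ∀ c : Ω, c ≠ a → ∃ k ∈ M, k • a = a ∧ k • c = t • a := by
    intro c hca
    obtain ⟨R, hR, hRcard⟩ := exists_sub (M ⊓ stabilizer G a ⊓ stabilizer G c)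
    rw [hpair a c hca.symm] at hRcard
    obtain ⟨k, hk, hk'⟩ := conj_of_card (hpt a) (hR.trans inf_le_left) hSle hRcard hScard
    have hkF : k • c ∈ F := by
      intro x hx
      let f : ↥R → ↥S := fun y => ⟨k * y * k⁻¹, hk' y y.2⟩
      have hf : Function.Injective f := fun y z hyz => Subtype.ext (by
        simpa [f] using congrArg Subtype.val hyz)
      have hb : Function.Bijective f := by
        rw [Nat.bijective_iff_injective_and_card]
        exact ⟨hf, hRcard.trans hScard.symm⟩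
      obtain ⟨y, hy⟩ := hb.2 ⟨x, hx⟩
      have hyx : k * (y : G) * k⁻¹ = x := congrArg Subtype.val hy
      rw [← hyx, mul_smul, mul_smul, inv_smul_smul]
      exact congrArg (k • ·) (hR y.2).2
    refine ⟨k, hk.1, hk.2, ?_⟩
    rcases hFsub _ hkF with h | h
    · exact absurd (smul_left_cancel k (h.trans (mem_stabilizer_iff.1 hk.2).symm)) hca
    · exact h
  obtain ⟨k, hk, hka, hkb⟩ := hmeet b hb
  obtain ⟨l, hl, hla, hlb⟩ := hmeet b' hb'
  refine ⟨l⁻¹ * k, mul_mem (inv_mem hl) hk, ?_, ?_⟩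
  · rw [mul_smul, hka, inv_smul_eq_iff]; exact hla.symm
  · rw [mul_smul, hkb, inv_smul_eq_iff]; exact hlb.symm

/-- Nontrivial normal subgroups of a faithful doubly transitive group of degree `2 mod 4`. -/
theorem normal_props [FaithfulSMul G Ω] (h2 : IsMultiplyPretransitive G Ω 2)
    (hn : Fintype.card Ω % 4 = 2) (hn2 : 2 < Fintype.card Ω) (M : Subgroup G) [M.Normal]
    (hM : M ≠ ⊥) : IsPretransitive ↥M Ω ∧ Subgroup.centralizer (M : Set G) = ⊥ := by
  classical
  have hprim : IsPreprimitive G Ω := isPreprimitive_of_is_two_pretransitive h2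
  have htr : ∀ N : Subgroup G, N.Normal → N ≠ ⊥ → IsPretransitive ↥N Ω := by
    intro N hN hne
    refine IsQuasiPreprimitive.isPretransitive_of_normal fun hfix => hne ?_
    rw [Subgroup.eq_bot_iff_forall]
    intro x hx
    refine FaithfulSMul.eq_of_smul_eq_smul (α := Ω) fun w => ?_
    have : w ∈ fixedPoints ↥N Ω := hfix ▸ Set.mem_univ w
    rw [one_smul]
    exact this ⟨x, hx⟩
  refine ⟨htr M inferInstance hM, ?_⟩
  by_contra hC
  haveI := htr M inferInstance hM
  haveI := htr (Subgroup.centralizer (M : Set G)) inferInstance hC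
  haveI : Nonempty Ω := Fintype.card_pos_iff.1 (by omega)
  obtain ⟨a⟩ := ‹Nonempty Ω›
  have hsemi : ∀ x ∈ M, x • a = a → x = 1 := by
    intro x hx hxa
    refine FaithfulSMul.eq_of_smul_eq_smul (α := Ω) fun w => ?_
    obtain ⟨c, hc⟩ := exists_smul_eq ↥(Subgroup.centralizer (M : Set G)) a w
    have hc' : (c : G) • a = w := hc
    have hcomm : x * (c : G) = (c : G) * x := Subgroup.mem_centralizer_iff.1 c.2 x hx
    rw [one_smul, ← hc', ← mul_smul, hcomm, mul_smul, hxa]
  have hbij : Function.Bijective (fun x : ↥M => x • a) := by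
    refine ⟨fun x y h => ?_, fun w => exists_smul_eq ↥M a w⟩
    have h1 : ((x⁻¹ * y : ↥M) : G) • a = a := by
      show (x⁻¹ * y) • a = a
      rw [mul_smul, ← show x • a = y • a from h, inv_smul_smul]
    exact inv_mul_eq_one.1 (Subtype.ext (hsemi _ (x⁻¹ * y).2 h1))
  have hcard : Nat.card ↥M = Fintype.card Ω := by
    rw [Nat.card_eq_of_bijective _ hbij, Nat.card_eq_fintype_card]
  haveI : Fact (Nat.Prime 2) := ⟨Nat.prime_two⟩
  obtain ⟨x, hx⟩ := exists_prime_orderOf_dvd_card' 2 (G := ↥M) (by rw [hcard]; omega)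
  have hxne : x ≠ 1 := fun h => by rw [h, orderOf_one] at hx; norm_num at hx
  have hall : ∀ y : ↥M, y ^ (2 ^ 1) = 1 := by
    intro y
    by_cases hy : y = 1
    · rw [hy, one_pow]
    have ne1 : x • a ≠ a := fun h => hxne (Subtype.ext (hsemi _ x.2 h))
    have ne2 : y • a ≠ a := fun h => hy (Subtype.ext (hsemi _ y.2 h))
    obtain ⟨g, hg1, hg2⟩ := (is_two_pretransitive_iff.1 h2) ne1.symm ne2.symm
    have hy' : (⟨g * x * g⁻¹, Subgroup.Normal.conj_mem (inferInstance : M.Normal) _ x.2 g⟩ : ↥M)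
        = y := hbij.1 (by
      show (g * (x : G) * g⁻¹) • a = y • a
      rw [mul_smul, mul_smul, inv_smul_eq_iff.2 hg1.symm]
      exact hg2)
    refine Subtype.ext ?_
    rw [← hy', pow_one]
    show (g * (x : G) * g⁻¹) ^ 2 = 1
    rw [conj_pow, ← SubmonoidClass.coe_pow, ← hx, pow_orderOf_eq_one, OneMemClass.coe_one,
      mul_one, mul_inv_cancel]
  obtain ⟨k, hk⟩ := IsPGroup.iff_card.1 (fun y => ⟨1, hall y⟩ : IsPGroup 2 ↥M)
  rw [hcard] at hk
  match k with
  | 0 => omega
  | 1 => omega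
  | k + 2 => rw [pow_add] at hk; omega

/-- Let G be a doubly transitive permutation group on a finite set Ω with |Ω| ≡ 2 mod 4 and |Ω| > 2. Then G has a unique minimal normal subgroup M (a nontrivial normal subgroup contained in every nontrivial normal subgroup); M is simple and doubly transitive on Ω, and its centralizer in G is trivial (so G embeds in Aut(M)). -/
theorem result {G : Type*} [Group G] [Finite G] {Ω : Type*} [Fintype Ω] [MulAction G Ω] [FaithfulSMul G Ω]
    (h2 : MulAction.IsMultiplyPretransitive G Ω 2) (hn : Fintype.card Ω % 4 = 2) (hn2 : 2 < Fintype.card Ω) :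
    ∃ M : Subgroup G, M.Normal ∧ M ≠ ⊥ ∧ (∀ N : Subgroup G, N.Normal → N ≠ ⊥ → M ≤ N) ∧
      IsSimpleGroup ↥M ∧ MulAction.IsMultiplyPretransitive ↥M Ω 2 ∧ Subgroup.centralizer (M : Set G) = ⊥ := by
  classical
  haveI : Nonempty Ω := Fintype.card_pos_iff.1 (by omega)
  have hGne : (⊤ : Subgroup G) ≠ ⊥ := by
    intro h
    haveI : MulAction.IsPretransitive G Ω := MulAction.isPretransitive_of_is_two_pretransitive (h2 := h2)
    obtain ⟨a, b, hab⟩ := Fintype.exists_pair_of_one_lt_card (α := Ω) (by omega)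
    obtain ⟨g, hg⟩ := MulAction.exists_smul_eq G a b
    have : g ∈ (⊥ : Subgroup G) := h ▸ Subgroup.mem_top g
    rw [Subgroup.mem_bot] at this
    rw [this, one_smul] at hg
    exact hab hg
  -- minimal normal subgroups
  obtain ⟨M, ⟨hMn, hMne⟩, hmin⟩ :=
    Set.Finite.exists_minimal (Set.toFinite {N : Subgroup G | N.Normal ∧ N ≠ ⊥})
      ⟨⊤, inferInstance, hGne⟩
  haveI := hMn
  obtain ⟨htr, hC⟩ := normal_props h2 hn hn2 M hMne
  have hunique : ∀ N : Subgroup G, N.Normal → N ≠ ⊥ → M ≤ N := by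
    intro N hN hne
    haveI := hN
    by_cases hI : M ⊓ N = ⊥
    · exfalso
      refine hne (le_bot_iff.1 (le_trans ?_ hC.le))
      intro y hy
      rw [Subgroup.mem_centralizer_iff]
      intro x hx
      have : x * y * x⁻¹ * y⁻¹ ∈ M ⊓ N :=
        ⟨by
          rw [show x * y * x⁻¹ * y⁻¹ = x * (y * x⁻¹ * y⁻¹) by group]
          exact mul_mem hx (Subgroup.Normal.conj_mem hMn _ (M.inv_mem hx) y),
        mul_mem (Subgroup.Normal.conj_mem hN _ hy x) (N.inv_mem hy)⟩
      rw [hI, Subgroup.mem_bot] at this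
      calc x * y = (x * y * x⁻¹ * y⁻¹) * (y * x) := by group
        _ = y * x := by rw [this, one_mul]
    · exact (hmin ⟨inferInstance, hI⟩ inf_le_left).trans inf_le_right
  have h2M := normal_two_transitive h2 hn M htr
  refine ⟨M, hMn, hMne, hunique, ?_, h2M, hC⟩
  -- simplicity
  haveI : Nontrivial ↥M := (Subgroup.nontrivial_iff_ne_bot M).2 hMne
  obtain ⟨L, ⟨hLn, hLne⟩, hLmin⟩ :=
    Set.Finite.exists_minimal (Set.toFinite {N : Subgroup ↥M | N.Normal ∧ N ≠ ⊥})
      ⟨⊤, inferInstance, top_ne_bot⟩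
  haveI := hLn
  obtain ⟨-, hLC⟩ := normal_props h2M hn hn2 L hLne
  have hLu : ∀ N : Subgroup ↥M, N.Normal → N ≠ ⊥ → L ≤ N := by
    intro N hN hne
    haveI := hN
    by_cases hI : L ⊓ N = ⊥
    · exfalso
      refine hne (le_bot_iff.1 (le_trans ?_ hLC.le))
      intro y hy
      rw [Subgroup.mem_centralizer_iff]
      intro x hx
      have : x * y * x⁻¹ * y⁻¹ ∈ L ⊓ N :=
        ⟨by
          rw [show x * y * x⁻¹ * y⁻¹ = x * (y * x⁻¹ * y⁻¹) by group]
          exact mul_mem hx (Subgroup.Normal.conj_mem hLn _ (L.inv_mem hx) y),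
        mul_mem (Subgroup.Normal.conj_mem hN _ hy x) (N.inv_mem hy)⟩
      rw [hI, Subgroup.mem_bot] at this
      calc x * y = (x * y * x⁻¹ * y⁻¹) * (y * x) := by group
        _ = y * x := by rw [this, one_mul]
    · exact (hLmin ⟨inferInstance, hI⟩ inf_le_left).trans inf_le_right
  haveI : L.Characteristic := Subgroup.characteristic_iff_le_map.2 fun φ =>
    hLu _ (Subgroup.Normal.map hLn _ φ.surjective)
      (fun h => hLne ((Subgroup.map_eq_bot_iff_of_injective _ φ.injective).1 h))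
  have hLM : L = ⊤ := by
    have h := hunique (L.map M.subtype) inferInstance
      (fun h => hLne ((Subgroup.map_eq_bot_iff_of_injective _ M.subtype_injective).1 h))
    rw [eq_top_iff]
    rintro x -
    obtain ⟨y, hy, hyx⟩ := h x.2
    rwa [← Subtype.ext hyx]
  refine ⟨fun N hN => ?_⟩
  by_cases hne : N = ⊥
  · exact Or.inl hne
  · exact Or.inr (top_le_iff.1 (hLM ▸ hLu N hN hne))

end Cfsg.Agent.S3401
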