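import Cfsg.Statements.S3402
import Cfsg.Agent.Lib.RankTwoModel.Main
import Cfsg.Agent.Lib.ONanTwo.Perm.Main

set_option autoImplicit false
open Cfsg

namespace Cfsg.Agent.S3402

/-- Let G be a doubly transitive permutation group on a finite set Ω with |Ω| ≡ 2 mod 4 and |Ω| > 2, and let T be a Sylow 2-subgroup of the stabilizer of two points. Suppose that either T is abelian, or T contains an involution fixing every point of Ω that is fixed by any non-identity element of T. Then G has a normal subgroup M contained in every nontrivial normal subgroup and doubly transitive on Ω, such that either |Ω| = 6 and M is isomorphic to the alternating group of degree 6, or |Ω| = q + 1 and M ≅ PSL(2, q) for some prime power q ≥ 4, or |Ω| = q³ + 1 and M ≅ PSU(3, q) for some prime power q > 2. -/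
theorem result {G : Type*} [Group G] [Finite G] {Ω : Type*} [Fintype Ω] [MulAction G Ω] [FaithfulSMul G Ω]
    (h2 : MulAction.IsMultiplyPretransitive G Ω 2) (hn : Fintype.card Ω % 4 = 2) (hn2 : 2 < Fintype.card Ω)
    (a b : Ω) (hab : a ≠ b) (T : Sylow 2 ↥(MulAction.stabilizer G a ⊓ MulAction.stabilizer G b))
    (hT : IsMulCommutative ↥(T : Subgroup ↥(MulAction.stabilizer G a ⊓ MulAction.stabilizer G b)) ∨
      ∃ u ∈ (T : Subgroup ↥(MulAction.stabilizer G a ⊓ MulAction.stabilizer G b)), orderOf u = 2 ∧ ∀ x ∈ (T : Subgroup ↥(MulAction.stabilizer G a ⊓ MulAction.stabilizer G b)), x ≠ 1 → ∀ ω : Ω, (x : G) • ω = ω → (u : G) • ω = ω) :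
    ∃ M : Subgroup G, M.Normal ∧ M ≠ ⊥ ∧ (∀ N : Subgroup G, N.Normal → N ≠ ⊥ → M ≤ N) ∧
      MulAction.IsMultiplyPretransitive ↥M Ω 2 ∧
      ((Fintype.card Ω = 6 ∧ Nonempty (↥M ≃* ↥(alternatingGroup (Fin 6)))) ∨
        (∃ (F : Type) (_ : Field F) (_ : Fintype F), 4 ≤ Fintype.card F ∧ Fintype.card Ω = Fintype.card F + 1 ∧
          Nonempty (↥M ≃* Matrix.ProjectiveSpecialLinearGroup (Fin 2) F)) ∨
        (∃ (F : Type) (_ : Field F) (_ : Fintype F) (q : ℕ), Fintype.card F = q ^ 2 ∧ 2 < q ∧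
          Fintype.card Ω = q ^ 3 + 1 ∧ Nonempty (↥M ≃* Cfsg.PSU 3 F q))) := by
  exact CfsgLib.ONanTwo.two_transitive_of_model
    (fun X _ _ => CfsgLib.RankTwoModel.reduction CfsgLib.RankTwoModel.main X) h2 hn hn2 a b hab T hT

end Cfsg.Agent.S3402
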