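import Cfsg.Statements.S3404
import Cfsg.Agent.Lib.FourFrob.Assembly
import Cfsg.Agent.S1664

set_option autoImplicit false
open Cfsg

namespace Cfsg.Agent.S3404

/-- Let G be a four-fold transitive permutation group on a finite set in which the stabilizer of four points is a Frobenius group (it has a nontrivial proper subgroup H with H ∩ gHg⁻¹ = 1 for every element g outside H). Then G is isomorphic to the symmetric group of degree 7, the alternating group of degree 8, or the Mathieu group M₂₃. -/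
theorem result {G : Type*} [Group G] [Finite G] {Ω : Type*} [Fintype Ω] [MulAction G Ω] [FaithfulSMul G Ω]
    (h4 : MulAction.IsMultiplyPretransitive G Ω 4) (a b c d : Ω) (hab : a ≠ b) (hac : a ≠ c) (had : a ≠ d)
    (hbc : b ≠ c) (hbd : b ≠ d) (hcd : c ≠ d)
    (hF : ∃ H : Subgroup ↥(MulAction.stabilizer G a ⊓ MulAction.stabilizer G b ⊓ MulAction.stabilizer G c ⊓ MulAction.stabilizer G d),
      Cfsg.IsFrobeniusComplement H) :
    Nonempty (G ≃* Equiv.Perm (Fin 7)) ∨ Nonempty (G ≃* ↥(alternatingGroup (Fin 8))) ∨ Cfsg.Spor.IsoM23 G := by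
  classical
  set φ := MulAction.toPermHom G Ω with hφdef
  have hφ : Function.Injective φ := MulAction.toPerm_injective
  let e : G ≃* φ.range := MonoidHom.ofInjective hφ
  have hT : CfsgLib.FourFrob.Trans4 φ.range := by
    intro a b c d a' b' c' d' hd hd'
    obtain ⟨h1, h2, h3, h4', h5, h6⟩ := hd
    obtain ⟨k1, k2, k3, k4, k5, k6⟩ := hd'
    have inj : Function.Injective ![a, b, c, d] := by
      intro i j e
      fin_cases i <;> fin_cases j <;> simp_all
    have inj' : Function.Injective ![a', b', c', d'] := by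
      intro i j e
      fin_cases i <;> fin_cases j <;> simp_all
    obtain ⟨g, hg⟩ := h4.exists_smul_eq ⟨_, inj⟩ ⟨_, inj'⟩
    have hgi : ∀ i, g • (![a, b, c, d] i) = ![a', b', c', d'] i := fun i =>
      congrArg (fun f : Fin 4 ↪ Ω => f i) hg
    exact ⟨φ g, ⟨g, rfl⟩, hgi 0, hgi 1, hgi 2, hgi 3⟩
  set q : Finset Ω := {a, b, c, d}
  have hq : q.card = 4 := CfsgLib.FourFrob.card_quad ⟨hab, hac, had, hbc, hbd, hcd⟩
  have hn : 4 ≤ Fintype.card Ω := hq ▸ Finset.card_le_univ q
  set St := MulAction.stabilizer G a ⊓ MulAction.stabilizer G b ⊓ MulAction.stabilizer G c ⊓ MulAction.stabilizer G d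
  have hmap : St.map φ = CfsgLib.FourFrob.fixG φ.range q := by
    ext p
    constructor
    · rintro ⟨g, hg, rfl⟩
      refine ⟨⟨g, rfl⟩, fun z hz => ?_⟩
      obtain ⟨⟨⟨ga, gb⟩, gc⟩, gd⟩ := hg
      simp only [q, Finset.mem_insert, Finset.mem_singleton] at hz
      rcases hz with rfl | rfl | rfl | rfl <;> assumption
    · rintro ⟨⟨g, rfl⟩, hg⟩
      exact ⟨g, ⟨⟨⟨hg a (by simp [q]), hg b (by simp [q])⟩, hg c (by simp [q])⟩, hg d (by simp [q])⟩, rfl⟩
  obtain ⟨H, hH⟩ := hF
  let f : St ≃* CfsgLib.FourFrob.fixG φ.range q :=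
    (St.equivMapOfInjective φ hφ).trans (MulEquiv.subgroupCongr hmap)
  have hC : CfsgLib.FourFrob.IsCompl (CfsgLib.FourFrob.fixG φ.range q)
      ((H.map f.toMonoidHom).map (CfsgLib.FourFrob.fixG φ.range q).subtype) := by
    refine ⟨Subgroup.map_subtype_le _, ?_⟩
    rw [Subgroup.subgroupOf, Subgroup.comap_map_eq_self_of_injective Subtype.val_injective]
    exact CfsgLib.FourFrob.frob_map_equiv' hH f
  rcases CfsgLib.FourFrob.frobenius_cases hT hn hq hC with ⟨h7, htop⟩ | ⟨h8, halt⟩ | hM
  · exact .inl ⟨e.trans ((MulEquiv.subgroupCongr htop).trans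
      (Subgroup.topEquiv.trans (Fintype.equivFinOfCardEq h7).permCongrHom))⟩
  · refine .inr (.inl ⟨e.trans ((MulEquiv.subgroupCongr halt).trans ?_)⟩)
    let π := Fintype.equivFinOfCardEq h8
    refine (Subgroup.equivMapOfInjective _ π.permCongrHom.toMonoidHom π.permCongrHom.injective).trans
      (MulEquiv.subgroupCongr ?_)
    ext p
    rw [Equiv.Perm.mem_alternatingGroup]
    constructor
    · rintro ⟨r, hr, rfl⟩
      exact (Equiv.Perm.sign_permCongr π r).trans (Equiv.Perm.mem_alternatingGroup.1 hr)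
    · intro hp
      refine ⟨π.symm.permCongr p, ?_, ?_⟩
      · exact Equiv.Perm.mem_alternatingGroup.2 ((Equiv.Perm.sign_permCongr π.symm p).trans hp)
      · ext x
        simp
  · refine .inr (.inr (Cfsg.Agent.S1664.result ?_))
    obtain ⟨hs, hcard⟩ := hM
    exact ⟨(MulEquiv.isSimpleGroup_congr e).2 hs, (Nat.card_congr e.toEquiv).trans hcard⟩

end Cfsg.Agent.S3404
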