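import Cfsg.Statements.S3412
import Cfsg.Agent.Lib.L33Graph.Main

set_option autoImplicit false
open Cfsg

namespace Cfsg.Agent.S3412

/-- Let H be a finite group whose commuting graph (vertices the non-identity elements, two joined when they commute) is isomorphic to that of PSL_3(3): there is a bijection between the non-identity elements of H and of PSL_3(3) under which two elements commute exactly when their images do. Then H ≅ PSL_3(3). -/
theorem result {H : Type*} [Group H] [Finite H]
    (f : {h : H // h ≠ 1} ≃ {g : Matrix.ProjectiveSpecialLinearGroup (Fin 3) (ZMod 3) // g ≠ 1})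
    (hf : ∀ x y : {h : H // h ≠ 1}, (x : H) * y = y * x ↔ ((f x) : Matrix.ProjectiveSpecialLinearGroup (Fin 3) (ZMod 3)) * (f y) = (f y) * (f x)) :
    Nonempty (H ≃* Matrix.ProjectiveSpecialLinearGroup (Fin 3) (ZMod 3)) := by
  classical
  open CfsgLib.L33Graph in
  have hc : Subgroup.center SL33 = ⊥ := (Subgroup.eq_bot_iff_forall _).mpr fun x hx =>
    eq_one_of_commute fun f c => ((Subgroup.mem_center_iff.mp hx) _).symm
  let e : Matrix.ProjectiveSpecialLinearGroup (Fin 3) (ZMod 3) ≃* CfsgLib.L33Graph.SL33 :=
    (QuotientGroup.quotientMulEquivOfEq hc).trans QuotientGroup.quotientBot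
  let D : CfsgLib.L33Graph.Data H :=
    { f := f.trans (Equiv.subtypeEquiv e.toEquiv fun g => (e.map_eq_one_iff (x := g)).not.symm)
      hf := fun x y => by
        rw [hf x y]
        show _ ↔ e (f x).1 * e (f y).1 = e (f y).1 * e (f x).1
        rw [← map_mul, ← map_mul, e.injective.eq_iff] }
  obtain ⟨g⟩ := D.iso
  exact ⟨g.trans e.symm⟩

end Cfsg.Agent.S3412
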