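import Cfsg.Statements.S3419
import Mathlib
import Cfsg.Agent.Lib.AltSpectrum
import Cfsg.Agent.Lib.HallSolvable

set_option autoImplicit false
open Cfsg

namespace Cfsg.Agent.S3419

open CfsgLib.AltSpectrum

theorem contra {G : Type*} [Group G] [Finite G] [Group.IsSolvable G] {n p q a k : ℕ} (hp : p.Prime) (hq : q.Prime)
    (hpq : p < q) (ha : a ≤ 2) (hn : n < p + q) (hp2 : p ≠ 2)
    (hspec : Set.range (orderOf : G → ℕ) = Set.range (orderOf : ↥(alternatingGroup (Fin n)) → ℕ))
    (hG : Nat.card G = (p ^ a * q) * k) (hpk : ¬ p ∣ k) (hqk : ¬ q ∣ k) (ha1 : 1 ≤ a) (hd : ¬ p ∣ q - 1) : False := by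
  haveI := Fact.mk hp
  haveI := Fact.mk hq
  have hcop : Nat.Coprime (p ^ a * q) k :=
    Nat.Coprime.mul_left (Nat.Coprime.pow_left _ (hp.coprime_iff_not_dvd.2 hpk)) (hq.coprime_iff_not_dvd.2 hqk)
  obtain ⟨H, hH⟩ := (CfsgLib.hall_main hG hcop).1
  obtain ⟨Q⟩ : Nonempty (Sylow q H) := inferInstance
  have hpq' : ¬ q ∣ p := fun h => hpq.ne' ((Nat.prime_dvd_prime_iff_eq hq hp).1 h)
  have hQ : Nat.card (Q : Subgroup H) = q := by
    rw [Q.card_eq_multiplicity, hH, Nat.factorization_mul (pow_ne_zero _ hp.ne_zero) hq.ne_zero, Finsupp.add_apply,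
      Nat.factorization_eq_zero_of_not_dvd (fun h => hpq' (hq.dvd_of_dvd_pow h)), zero_add, hq.factorization_self,
      pow_one]
  have hidx : (Q : Subgroup H).index = p ^ a := by
    have := (Q : Subgroup H).card_mul_index
    rw [hQ, hH, mul_comm (p ^ a)] at this
    exact Nat.eq_of_mul_eq_mul_left hq.pos this
  have hn1 : Nat.card (Sylow q H) = 1 := by
    obtain ⟨i, hi, hni⟩ := (Nat.dvd_prime_pow hp).1 (hidx ▸ Q.card_dvd_index)
    have hmod : p ^ i ≡ 1 [MOD q] := hni ▸ card_sylow_modEq_one q H
    rcases (show i = 0 ∨ i = 1 ∨ i = 2 by omega) with rfl | rfl | rfl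
    · rw [hni, pow_zero]
    · exfalso
      rw [pow_one] at hmod
      have h1 : p % q = 1 % q := hmod
      rw [Nat.mod_eq_of_lt hpq, Nat.mod_eq_of_lt hq.one_lt] at h1
      exact hp.ne_one h1
    · exfalso
      have hd : q ∣ p ^ 2 - 1 := (Nat.modEq_iff_dvd' (by have := hp.pos; nlinarith)).1 hmod.symm
      rw [show p ^ 2 - 1 = (p + 1) * (p - 1) by rw [← one_pow 2, Nat.sq_sub_sq]; simp] at hd
      have := hp.two_le
      obtain ⟨u, hu⟩ := hp.odd_of_ne_two hp2
      obtain ⟨v, hv⟩ := hq.odd_of_ne_two (by omega)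
      rcases hq.dvd_mul.1 hd with h | h
      · have := Nat.le_of_dvd (by omega) h; omega
      · have := Nat.le_of_dvd (by omega) h; omega
  haveI : Subsingleton (Sylow q H) := (Nat.card_eq_one_iff_unique.1 hn1).1
  haveI := Q.normal_of_subsingleton
  obtain ⟨y, hy⟩ := exists_prime_orderOf_dvd_card' (G := H) p (hH ▸ (dvd_pow_self p (by omega)).mul_right q)
  obtain ⟨x, hx⟩ := pq_of_normalizer hq hp hpq.ne' hd (Q : Subgroup H) hQ y hy
      (by rw [Subgroup.normalizer_eq_top_iff.2 inferInstance]; trivial)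
  exact no_pq hspec hq hp hpq.ne' (by omega) (x : G) (by rw [orderOf_submonoid, hx])


/-- Let n ≥ 5 and let G be a finite group with the same order and the same set of element orders as the alternating group of degree n. Then G is not solvable. -/
theorem result {G : Type*} [Group G] [Finite G] (n : ℕ) (hn : 5 ≤ n)
    (hcard : Nat.card G = Nat.card ↥(alternatingGroup (Fin n)))
    (hspec : Set.range (orderOf : G → ℕ) = Set.range (orderOf : ↥(alternatingGroup (Fin n)) → ℕ)) :
    ¬ Group.IsSolvable G := by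
  intro hsol
  classical
  have hc := two_mul_card_alt (n := n) (by omega)
  rw [← hcard] at hc
  rcases Nat.lt_or_ge n 11 with h | h
  · interval_cases n
    · exact contra (k := 4) (a := 1) (by norm_num : Nat.Prime 3) (by norm_num : Nat.Prime 5) (by norm_num) (by norm_num) (by norm_num) (by norm_num) hspec (by norm_num [Nat.factorial] at hc; omega) (by norm_num) (by norm_num) (by norm_num) (by norm_num)
    · exact contra (k := 8) (a := 2) (by norm_num : Nat.Prime 3) (by norm_num : Nat.Prime 5) (by norm_num) (by norm_num) (by norm_num) (by norm_num) hspec (by norm_num [Nat.factorial] at hc; omega) (by norm_num) (by norm_num) (by norm_num) (by norm_num)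
    · exact contra (k := 72) (a := 1) (by norm_num : Nat.Prime 5) (by norm_num : Nat.Prime 7) (by norm_num) (by norm_num) (by norm_num) (by norm_num) hspec (by norm_num [Nat.factorial] at hc; omega) (by norm_num) (by norm_num) (by norm_num) (by norm_num)
    · exact contra (k := 576) (a := 1) (by norm_num : Nat.Prime 5) (by norm_num : Nat.Prime 7) (by norm_num) (by norm_num) (by norm_num) (by norm_num) hspec (by norm_num [Nat.factorial] at hc; omega) (by norm_num) (by norm_num) (by norm_num) (by norm_num)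
    · exact contra (k := 5184) (a := 1) (by norm_num : Nat.Prime 5) (by norm_num : Nat.Prime 7) (by norm_num) (by norm_num) (by norm_num) (by norm_num) hspec (by norm_num [Nat.factorial] at hc; omega) (by norm_num) (by norm_num) (by norm_num) (by norm_num)
    · exact contra (k := 10368) (a := 2) (by norm_num : Nat.Prime 5) (by norm_num : Nat.Prime 7) (by norm_num) (by norm_num) (by norm_num) (by norm_num) hspec (by norm_num [Nat.factorial] at hc; omega) (by norm_num) (by norm_num) (by norm_num) (by norm_num)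
  · obtain ⟨p, q, hp, hq, hlt, hn', hqn⟩ := exists_two_primes n h
    obtain ⟨hp1, hp2'⟩ := dvd_once (n := n) (by omega) hp hn' (by omega)
    obtain ⟨hq1, hq2'⟩ := dvd_once (n := n) (by omega) hq (by omega) hqn
    rw [← hcard] at hp1 hp2' hq1 hq2'
    obtain ⟨k, hk⟩ := ((Nat.coprime_primes hp hq).2 hlt.ne).mul_dvd_of_dvd_of_dvd hp1 hq1
    refine contra (k := k) (a := 1) hp hq hlt (by norm_num) (by omega) (by omega) hspec (by rw [hk, pow_one]) ?_ ?_ le_rfl ?_
    · rintro ⟨j, rfl⟩; exact hp2' ⟨q * j, by rw [hk]; ring⟩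
    · rintro ⟨j, rfl⟩; exact hq2' ⟨p * j, by rw [hk]; ring⟩
    · rintro ⟨c, hc'⟩
      obtain ⟨u, hu⟩ := hp.odd_of_ne_two (by omega)
      obtain ⟨v, hv⟩ := hq.odd_of_ne_two (by omega)
      rcases c with _ | _ | c
      · omega
      · omega
      · have : p * 2 ≤ p * (c + 1 + 1) := Nat.mul_le_mul_left p (by omega)
        omega

end Cfsg.Agent.S3419
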