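import Cfsg.Statements.S3420
import Mathlib
import Cfsg.Agent.Lib.AltSpectrum
import Cfsg.Agent.Lib.Perm.Socle

set_option autoImplicit false
open Cfsg

namespace Cfsg.Agent.S3420

open CfsgLib.AltSpectrum


/-- Let n ≥ 11 and let G be a finite group with the same order and the same set of element orders as the alternating group of degree n. Then G has normal subgroups N < H such that H/N is a non-abelian simple group whose order is divisible by every prime p with n/2 < p ≤ n. -/
theorem result {G : Type*} [Group G] [Finite G] (n : ℕ) (hn : 11 ≤ n)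
    (hcard : Nat.card G = Nat.card ↥(alternatingGroup (Fin n)))
    (hspec : Set.range (orderOf : G → ℕ) = Set.range (orderOf : ↥(alternatingGroup (Fin n)) → ℕ)) :
    ∃ (N H : Subgroup G) (_ : N.Normal), H.Normal ∧ N < H ∧
      IsSimpleGroup (↥H ⧸ N.subgroupOf H) ∧ ¬ IsMulCommutative (↥H ⧸ N.subgroupOf H) ∧
      ∀ p : ℕ, p.Prime → n < 2 * p → p ≤ n → p ∣ Nat.card (↥H ⧸ N.subgroupOf H) := by
  classical
  set Q : ℕ → Prop := fun p => p.Prime ∧ n < 2 * p ∧ p ≤ n
  obtain ⟨p₁, p₂, hp₁, hp₂, hlt, hn₁, hn₂⟩ := exists_two_primes n hn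
  have hQ1 : Q p₁ := ⟨hp₁, hn₁, by omega⟩
  have hQ2 : Q p₂ := ⟨hp₂, by omega, hn₂⟩
  have honce : ∀ p, Q p → p ∣ Nat.card G ∧ ¬ p * p ∣ Nat.card G := fun p hp =>
    hcard ▸ dvd_once (by omega) hp.1 hp.2.1 hp.2.2
  have hno : ∀ p q, Q p → Q q → p ≠ q → ∀ g : G, orderOf g ≠ p * q := fun p q hp hq h g =>
    no_pq hspec hp.1 hq.1 h (by have := hp.2.1; have := hq.2.1; omega) g
  have hndvd : ∀ p q, Q p → Q q → p ≠ q → ¬ q ∣ p - 1 := by
    intro p q hp hq hne hd
    obtain ⟨k, hk⟩ := hd
    have h1 := hp.1.two_le; have h2 := hq.1.two_le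
    rcases k with _ | _ | k
    · omega
    · have hpq : p = q + 1 := by omega
      obtain ⟨a, ha⟩ := hp.1.odd_of_ne_two (by have := hp.2.1; omega)
      obtain ⟨b, hb⟩ := hq.1.odd_of_ne_two (by have := hq.2.1; omega)
      omega
    · have : q * 2 ≤ q * (k + 1 + 1) := Nat.mul_le_mul_left q (by omega)
      have := hp.2.2; have := hq.2.1
      omega
  -- a maximal normal subgroup of order prime to all of them
  obtain ⟨N, ⟨hNn, hNπ⟩, hNmax⟩ := (Set.toFinite {N : Subgroup G | N.Normal ∧ ∀ p, Q p → ¬ p ∣ Nat.card N}).exists_maximal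
    ⟨⊥, inferInstance, fun p hp h => by rw [Subgroup.card_bot] at h; exact hp.1.one_lt.ne' (Nat.dvd_one.1 h)⟩
  haveI := hNn
  have hNtop : (⊤ : Subgroup (G ⧸ N)) ≠ ⊥ := by
    intro h
    have h1 : Nat.card (G ⧸ N) = 1 := by rw [← Subgroup.card_top, h, Subgroup.card_bot]
    have h2 := Subgroup.card_eq_card_quotient_mul_card_subgroup N
    rw [h1, one_mul] at h2
    exact hNπ p₁ hQ1 (h2 ▸ (honce p₁ hQ1).1)
  obtain ⟨M, hMn, -, hM0, hMmin⟩ := CfsgLib.exists_minimal_normal (G := G ⧸ N) hNtop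
  haveI := hMn
  set π := QuotientGroup.mk' N
  set H : Subgroup G := M.comap π
  have hNH : N < H := by
    refine lt_of_le_of_ne (fun x hx => ?_) fun h => hM0 (le_bot_iff.1 fun y hy => ?_)
    · show π x ∈ M
      rw [show π x = 1 from (QuotientGroup.eq_one_iff x).2 hx]; exact one_mem _
    · obtain ⟨x, rfl⟩ := QuotientGroup.mk'_surjective N y
      rw [Subgroup.mem_bot]
      exact (QuotientGroup.eq_one_iff x).2 (h ▸ (hy : x ∈ H))
  let f : H →* M :=
    { toFun := fun x => ⟨π x, x.2⟩, map_one' := Subtype.ext (map_one π), map_mul' := fun a b => Subtype.ext (map_mul π _ _) }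
  have hf : Function.Surjective f := by
    rintro ⟨y, hy⟩
    obtain ⟨x, rfl⟩ := QuotientGroup.mk'_surjective N y
    exact ⟨⟨x, hy⟩, rfl⟩
  have hker : f.ker = N.subgroupOf H := by
    ext x
    rw [MonoidHom.mem_ker, Subgroup.mem_subgroupOf, ← QuotientGroup.eq_one_iff]
    exact ⟨fun h => congrArg Subtype.val h, fun h => Subtype.ext h⟩
  have hHcard : Nat.card H = Nat.card M * Nat.card N := by
    rw [Subgroup.card_eq_card_quotient_mul_card_subgroup f.ker,
      Nat.card_congr (QuotientGroup.quotientKerEquivOfSurjective f hf).toEquiv, hker,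
      Nat.card_congr (Subgroup.subgroupOfEquivOfLe hNH.le).toEquiv]
  have hMdvd : Nat.card M ∣ Nat.card G := by
    have h : Nat.card H ∣ Nat.card G := Subgroup.card_subgroup_dvd_card H
    rw [hHcard] at h
    exact dvd_of_mul_right_dvd h
  obtain ⟨p₀, hQ0, hp0⟩ : ∃ p, Q p ∧ p ∣ Nat.card M := by
    by_contra h
    simp only [not_exists, not_and] at h
    refine hNH.not_ge (hNmax ⟨inferInstance, fun p hp hd => ?_⟩ hNH.le)
    rw [hHcard] at hd
    exact (hp.1.dvd_mul.1 hd).elim (h p hp) (hNπ p hp)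
  -- every one of these primes divides `|M|`
  have hall : ∀ q, Q q → q ∣ Nat.card M := by
    intro q hq
    by_contra hqM
    have hne : p₀ ≠ q := fun h => hqM (h ▸ hp0)
    haveI := Fact.mk hQ0.1
    haveI := Fact.mk hq.1
    obtain ⟨P⟩ : Nonempty (Sylow p₀ M) := inferInstance
    set P' : Subgroup (G ⧸ N) := (P : Subgroup M).map M.subtype
    have hfr : Subgroup.normalizer (P' : Set (G ⧸ N)) ⊔ M = ⊤ := P.normalizer_sup_eq_top
    have hP' : Nat.card P' = p₀ := by
      rw [Subgroup.card_map_of_injective M.subtype_injective]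
      obtain ⟨a, ha⟩ := IsPGroup.iff_card.1 P.isPGroup'
      have h1 : Nat.card (P : Subgroup M) ∣ Nat.card G := (Subgroup.card_subgroup_dvd_card _).trans hMdvd
      have h2 := P.dvd_card_of_dvd_card hp0
      rw [ha] at h1 h2
      rcases a with _ | _ | a
      · rw [pow_zero] at h2; exact absurd (Nat.dvd_one.1 h2) hQ0.1.ne_one
      · rw [ha, pow_one]
      · exact absurd ((dvd_trans ⟨p₀ ^ a, by ring⟩ h1) : p₀ * p₀ ∣ Nat.card G) (honce p₀ hQ0).2
    have hdvd : q ∣ Nat.card (Subgroup.normalizer (P' : Set (G ⧸ N))) := by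
      let k : Subgroup.normalizer (P' : Set (G ⧸ N)) →* (G ⧸ N) ⧸ M := (QuotientGroup.mk' M).comp (Subgroup.subtype _)
      have hk : Function.Surjective k := by
        intro y
        obtain ⟨x, rfl⟩ := QuotientGroup.mk'_surjective M y
        have hx : x ∈ ((Subgroup.normalizer (P' : Set (G ⧸ N)) ⊔ M : Subgroup (G ⧸ N)) : Set (G ⧸ N)) := by
          rw [hfr]; trivial
        rw [Subgroup.mul_normal] at hx
        obtain ⟨a, ha, m, hm, rfl⟩ := hx
        exact ⟨⟨a, ha⟩, QuotientGroup.eq.2 (by show a⁻¹ * (a * m) ∈ M; rwa [inv_mul_cancel_left])⟩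
      refine dvd_trans ?_ (Subgroup.card_dvd_of_surjective k hk)
      have h3 : Nat.card G = Nat.card ((G ⧸ N) ⧸ M) * Nat.card M * Nat.card N := by
        rw [← Subgroup.card_eq_card_quotient_mul_card_subgroup M, ← Subgroup.card_eq_card_quotient_mul_card_subgroup N]
      have h4 := (honce q hq).1
      rw [h3] at h4
      exact (hq.1.dvd_mul.1 ((hq.1.dvd_mul.1 h4).resolve_right (hNπ q hq))).resolve_right hqM
    obtain ⟨y, hy⟩ := exists_prime_orderOf_dvd_card' q hdvd
    obtain ⟨x, hx⟩ := pq_of_normalizer hQ0.1 hq.1 hne (hndvd p₀ q hQ0 hq hne) P' hP' (y : G ⧸ N)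
      (by rw [orderOf_submonoid, hy]) y.2
    obtain ⟨g, hg⟩ := lift_order π (QuotientGroup.mk'_surjective N) x
    exact hno p₀ q hQ0 hq hne g (hg.trans hx)
  have hna : ¬ IsMulCommutative M := by
    intro hab
    haveI := hab
    haveI : Group.IsSolvable M := isSolvable_of_comm fun a b => hab.is_comm.comm a b
    obtain ⟨-, r, hr, hexp⟩ := CfsgLib.minimal_normal_elementary hM0 inferInstance hMmin
    have : ∀ q, Q q → q = r := by
      intro q hq
      haveI := Fact.mk hq.1
      obtain ⟨x, hx⟩ := exists_prime_orderOf_dvd_card' (G := M) q (hall q hq)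
      have : orderOf x ∣ r := orderOf_dvd_of_pow_eq_one (Subtype.ext (hexp x x.2))
      rw [hx] at this
      exact (Nat.prime_dvd_prime_iff_eq hq.1 hr).1 this
    exact hlt.ne ((this p₁ hQ1).trans (this p₂ hQ2).symm)
  obtain ⟨D⟩ := CfsgLib.Socle.exists_data M hM0 hMmin hna
  have hone : D.s.card = 1 := by
    refine le_antisymm (Finset.card_le_one.2 fun A hA B hB => ?_) D.nonempty.card_pos
    by_contra hne
    haveI := Fact.mk hQ0.1
    obtain ⟨x, hx⟩ := exists_prime_orderOf_dvd_card' (G := M) p₀ hp0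
    -- some factor has order divisible by `p₀`
    obtain ⟨T, hT, hTp⟩ : ∃ T ∈ D.s, p₀ ∣ Nat.card T := by
      by_contra hcon
      simp only [not_exists, not_and] at hcon
      have h1 : (x : G ⧸ N) = 1 := by
        refine D.centerN _ x.2 fun y hy => ?_
        have hall' : M ≤ Subgroup.centralizer {(x : G ⧸ N)} := D.le_of_forall fun T hT t ht => by
          rw [Subgroup.mem_centralizer_singleton_iff]
          let pr : M →* T :=
            { toFun := fun m => ⟨CfsgLib.Socle.Data.proj T (m : G ⧸ N), CfsgLib.Socle.Data.proj_mem T _⟩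
              map_one' := Subtype.ext (D.proj_one hT)
              map_mul' := fun a b => Subtype.ext (D.proj_mul hT a.2 b.2) }
          have h2 : orderOf (pr x) ∣ Nat.gcd p₀ (Nat.card T) :=
            Nat.dvd_gcd (hx ▸ orderOf_map_dvd pr x) (orderOf_dvd_natCard _)
          rw [(hQ0.1.coprime_iff_not_dvd.2 (hcon T hT)).gcd_eq_one, Nat.dvd_one, orderOf_eq_one_iff] at h2
          have h3 := D.proj_spec hT x.2 t ht
          rw [show CfsgLib.Socle.Data.proj T (x : G ⧸ N) = 1 from congrArg Subtype.val h2, one_mul, inv_one, mul_one] at h3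
          exact (mul_inv_eq_iff_eq_mul.1 h3).symm
        exact (Subgroup.mem_centralizer_singleton_iff.1 (hall' hy)).symm
      rw [show x = 1 from Subtype.ext h1, orderOf_one] at hx
      exact hQ0.1.ne_one hx.symm
    obtain ⟨U, hU, hUT⟩ : ∃ U ∈ D.s, U ≠ T := by
      by_cases h : A = T
      · exact ⟨B, hB, fun h' => hne (h.trans h'.symm)⟩
      · exact ⟨A, hA, h⟩
    obtain ⟨g, hg⟩ := D.trans T hT U hU
    have hcardU : Nat.card U = Nat.card T := by
      rw [← hg, Subgroup.card_map_of_injective (MulAut.conj g).injective]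
    let μ : T × U →* M :=
      { toFun := fun z => ⟨(z.1 : G ⧸ N) * z.2, mul_mem (D.le T hT z.1.2) (D.le U hU z.2.2)⟩
        map_one' := Subtype.ext (one_mul 1)
        map_mul' := fun a b => Subtype.ext (by
          show ((a.1 : G ⧸ N) * b.1) * (a.2 * b.2) = (a.1 : G ⧸ N) * a.2 * (b.1 * b.2)
          rw [mul_assoc, ← mul_assoc (b.1 : G ⧸ N), D.comm T hT U hU (Ne.symm hUT) _ b.1.2 _ a.2.2]; group) }
    have hμ : Function.Injective μ := by
      rw [injective_iff_map_eq_one]
      rintro ⟨⟨a, ha⟩, ⟨b, hb⟩⟩ h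
      have h1 : a * b = 1 := congrArg Subtype.val h
      have h2 : a = b⁻¹ := eq_inv_of_mul_eq_one_left h1
      have h3 : a = 1 := D.eq_one_of_mem_two hT hU (Ne.symm hUT) ha (h2 ▸ inv_mem hb)
      have h4 : b = 1 := by rwa [h3, one_mul] at h1
      exact Prod.ext (Subtype.ext h3) (Subtype.ext h4)
    have hd := Subgroup.card_dvd_of_injective μ hμ
    rw [Nat.card_prod, hcardU] at hd
    exact (honce p₀ hQ0).2 ((Nat.mul_dvd_mul hTp hTp).trans (hd.trans hMdvd))
  obtain ⟨hMs, hMna⟩ := D.eq_simple_of_card_one hone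
  haveI := hMs
  let e : (↥H ⧸ N.subgroupOf H) ≃* M :=
    (QuotientGroup.quotientMulEquivOfEq hker.symm).trans (QuotientGroup.quotientKerEquivOfSurjective f hf)
  refine ⟨N, H, hNn, inferInstance, hNH, e.isSimpleGroup, fun h => hMna ⟨⟨fun a b => ?_⟩⟩, fun q hq h2 hqn => ?_⟩
  · have := h.is_comm.comm (e.symm a) (e.symm b)
    rw [← map_mul, ← map_mul] at this
    exact e.symm.injective this
  · rw [Nat.card_congr e.toEquiv]
    exact hall q ⟨hq, h2, hqn⟩

end Cfsg.Agent.S3420
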