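import Cfsg.Statements.S3421
import Cfsg.Agent.Lib.SpecOrderPSL2.Main
import Cfsg.Agent.Lib.PSL2Spectrum
import Cfsg.Agent.Lib.SmallOrders.PSLHalfDegree
import Cfsg.Agent.S1230
-- import your own Cfsg.Agent.* helpers here

set_option autoImplicit false
open Cfsg

namespace Cfsg.Agent.S3421

/-- Even characteristic. -/
theorem even_case {G : Type*} [Group G] [Finite G] {q f : ℕ} (hq : q = 2 ^ f) (hf : 2 ≤ f)
    (hord : ∀ n : ℕ, (∃ g : G, orderOf g = n) ↔ n ∣ q - 1 ∨ n ∣ q + 1 ∨ n = 2)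
    (hcard : Nat.card G = q * (q ^ 2 - 1)) :
    ∃ (K : Type) (_ : Field K) (_ : Fintype K), Fintype.card K = q ∧
      Nonempty (G ≃* Matrix.ProjectiveSpecialLinearGroup (Fin 2) K) := by
  classical
  haveI : Fact (Nat.Prime 2) := ⟨Nat.prime_two⟩
  have hq4 : 4 ≤ q := by
    rw [hq]; exact le_trans (by norm_num) (Nat.pow_le_pow_right (by norm_num : 0 < 2) hf)
  have hqe : 2 ∣ q := hq ▸ dvd_pow_self 2 (by omega)
  have hiso : CfsgLib.SpecOrderPSL2.Iso 2 G := fun g => by
    rcases (hord _).mp ⟨g, rfl⟩ with h | h | h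
    · exact Or.inr ((Nat.coprime_two_right.mpr (by rw [← Nat.not_even_iff_odd, even_iff_two_dvd]; omega :
        Odd (q - 1))).coprime_dvd_left h)
    · exact Or.inr ((Nat.coprime_two_right.mpr (by rw [← Nat.not_even_iff_odd, even_iff_two_dvd]; omega :
        Odd (q + 1))).coprime_dvd_left h)
    · exact Or.inl (h ▸ dvd_rfl)
  have hodd : ¬ 2 ∣ q ^ 2 - 1 := by
    have h2 : 2 ∣ q ^ 2 := hqe.trans (dvd_pow_self q two_ne_zero)
    have h1 : 1 ≤ q ^ 2 := Nat.one_le_pow _ _ (by omega)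
    omega
  have hcent : ∀ t : G, orderOf t = 2 → ∀ c ∈ Subgroup.centralizer ({t} : Set G), c ^ 2 = 1 := fun t ht c hc =>
    orderOf_dvd_iff_pow_eq_one.mp (hiso.of_commute (ht ▸ dvd_rfl)
      (fun e => by rw [e, orderOf_one] at ht; omega) (Subgroup.mem_centralizer_singleton_iff.mp hc))
  obtain ⟨T⟩ : Nonempty (Sylow 2 G) := inferInstance
  have hT : Nat.card T = q := by
    rw [T.card_eq_multiplicity, hcard, Nat.factorization_mul (show q ≠ 0 by omega) (fun h => hodd (by rw [h]; exact dvd_zero 2)),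
      Finsupp.add_apply, Nat.factorization_eq_zero_of_not_dvd hodd, hq, Nat.prime_two.factorization_pow]
    simp
  have hsq : ∀ x ∈ (T : Subgroup G), orderOf x ∣ 2 := fun x hx => by
    obtain ⟨k, hk⟩ := IsPGroup.iff_orderOf.mp T.2 ⟨x, hx⟩
    rw [Subgroup.orderOf_mk] at hk
    rcases hiso x with h | h
    · exact h
    · rcases Nat.eq_zero_or_pos k with rfl | hk0
      · rw [hk]; norm_num
      · rw [hk] at h
        exact absurd ((Nat.coprime_pow_left_iff hk0 2 2).mp h) (by norm_num)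
  have hnc : ¬ IsCyclic (T : Subgroup G) := fun h => by
    obtain ⟨g, hg⟩ := h.exists_ofOrder_eq_natCard
    rw [← Subgroup.orderOf_coe, hT] at hg
    have := Nat.le_of_dvd two_pos (hg ▸ hsq _ g.2)
    omega
  have hnn : ¬ (T : Subgroup G).Normal := by
    intro hn
    obtain ⟨x, hx⟩ := (hord (q + 1)).mpr (Or.inr (Or.inl dvd_rfl))
    have hd := CfsgLib.SpecOrderPSL2.card_dvd_card_sub_one (Subgroup.zpowers x) (T : Subgroup G)
      (by rw [Subgroup.normalizer_eq_top]; exact le_top) fun e he he1 z hz hez => by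
      by_contra hz1
      have h1 : orderOf e ∣ 2 := hiso.of_commute (hsq z hz) hz1 hez
      have h2 : orderOf e ∣ q + 1 := hx ▸ orderOf_dvd_of_mem_zpowers he
      refine he1 (orderOf_eq_one_iff.mp (Nat.eq_one_of_dvd_coprimes ?_ h1 h2))
      rw [Nat.coprime_two_left, ← Nat.not_even_iff_odd, even_iff_two_dvd]; omega
    rw [Nat.card_zpowers, hx, hT] at hd
    have := Nat.le_of_dvd (by omega) hd
    omega
  obtain ⟨K, iK, iKt, hK, e⟩ := Cfsg.Agent.S1230.result T hnc hnn fun t ht => by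
    refine ⟨⟨⟨fun a b => Subtype.ext ?_⟩⟩, hcent t ht⟩
    show (a : G) * b = b * a
    have ha : (a : G)⁻¹ = a := inv_eq_of_mul_eq_one_right (by rw [← pow_two]; exact hcent t ht _ a.2)
    have hb : (b : G)⁻¹ = b := inv_eq_of_mul_eq_one_right (by rw [← pow_two]; exact hcent t ht _ b.2)
    have hab : ((a : G) * b)⁻¹ = a * b :=
      inv_eq_of_mul_eq_one_right (by rw [← pow_two]; exact hcent t ht _ (mul_mem a.2 b.2))
    rw [← hab, mul_inv_rev, ha, hb]
  exact ⟨K, iK, iKt, hK.trans hT, e⟩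


/-- Let F be a finite field with more than 3 elements. A finite group G is isomorphic to PSL(2, F) if and only if G has the same set of element orders and the same order as PSL(2, F). -/
theorem result {G : Type*} [Group G] [Finite G] {F : Type*} [Field F] [Fintype F] (hF : 3 < Fintype.card F) :
    Nonempty (G ≃* Matrix.ProjectiveSpecialLinearGroup (Fin 2) F) ↔
      (Set.range (orderOf : G → ℕ) = Set.range (orderOf : Matrix.ProjectiveSpecialLinearGroup (Fin 2) F → ℕ) ∧
        Nat.card G = Nat.card (Matrix.ProjectiveSpecialLinearGroup (Fin 2) F)) := by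
  classical
  constructor
  · rintro ⟨e⟩
    refine ⟨?_, Nat.card_congr e.toEquiv⟩
    ext n
    exact ⟨fun ⟨g, hg⟩ => ⟨e g, by rw [MulEquiv.orderOf_eq, hg]⟩, fun ⟨g, hg⟩ => ⟨e.symm g, by rw [MulEquiv.orderOf_eq, hg]⟩⟩
  rintro ⟨hspec, hcard⟩
  obtain ⟨p, hchar⟩ := CharP.exists F
  obtain ⟨f, hp, hqf⟩ := FiniteField.card F p
  haveI := Fact.mk hp
  have hord : ∀ n : ℕ, (∃ g : G, orderOf g = n) ↔
      n ∣ (Fintype.card F - 1) / Nat.gcd 2 (Fintype.card F - 1) ∨
        n ∣ (Fintype.card F + 1) / Nat.gcd 2 (Fintype.card F - 1) ∨ n = p := fun n =>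
    (Set.ext_iff.mp hspec n).trans (CfsgLib.PSL2Spectrum.psl_orders p n)
  have hcard2 := CfsgLib.SLCard.gcd_mul_card_PSL (F := F) (n := 2) (by norm_num)
  rw [CfsgLib.SLCard.card_SL_two, ← hcard] at hcard2
  set q := Fintype.card F with hq
  suffices h : ∃ (K : Type) (_ : Field K) (_ : Fintype K), Fintype.card K = q ∧
      Nonempty (G ≃* Matrix.ProjectiveSpecialLinearGroup (Fin 2) K) by
    obtain ⟨K, iK, iKt, hK, ⟨e⟩⟩ := h
    obtain ⟨σ⟩ : Nonempty (K ≃+* F) := ⟨FiniteField.ringEquivOfCardEq hK⟩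
    obtain ⟨ψ⟩ := CfsgLib.SmallOrders.psl_congr σ
    exact ⟨e.trans ψ⟩
  rcases Nat.even_or_odd q with heven | hodd
  · have hp2 : p = 2 := ((Nat.prime_dvd_prime_iff_eq Nat.prime_two hp).mp
      (Nat.prime_two.dvd_of_dvd_pow (hqf ▸ heven.two_dvd : 2 ∣ p ^ (f : ℕ)))).symm
    subst hp2
    have hd : Nat.gcd 2 (q - 1) = 1 := by
      refine (Nat.prime_two.coprime_iff_not_dvd.mpr ?_ : Nat.Coprime 2 _)
      obtain ⟨j, hj⟩ := heven
      omega
    rw [hd, one_mul] at hcard2
    simp only [hd, Nat.div_one] at hord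
    refine even_case hqf ?_ hord hcard2
    by_contra hlt
    have : q ≤ 2 ^ 1 := hqf ▸ Nat.pow_le_pow_right two_pos (by omega)
    omega
  · obtain ⟨j, hj⟩ := hodd
    have hd : Nat.gcd 2 (q - 1) = 2 := Nat.gcd_eq_left ⟨j, by omega⟩
    rw [hd] at hcard2
    simp only [hd] at hord
    have hj2 : 2 ≤ j := by omega
    have e1 : (q - 1) / 2 = j := by omega
    have e2 : (q + 1) / 2 = j + 1 := by omega
    rw [e1, e2] at hord
    have hsq : q ^ 2 - 1 = 4 * (j * (j + 1)) := by rw [hj]; ring_nf; omega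
    rw [hsq] at hcard2
    have hG : Nat.card G = 2 * q * (j * (j + 1)) :=
      Nat.eq_of_mul_eq_mul_left two_pos (by rw [hcard2]; ring)
    have hord' : ∀ g : G, orderOf g ∣ j ∨ orderOf g ∣ j + 1 ∨ orderOf g ∣ p := fun g =>
      ((hord _).mp ⟨g, rfl⟩).imp_right (Or.imp_right fun h => (h.dvd : orderOf g ∣ p))
    obtain ⟨D, hDq⟩ : ∃ D : CfsgLib.SpecOrderPSL2.Dat G, D.a + D.b = q := by
      rcases Nat.even_or_odd j with he | ho
      · exact ⟨{ p := p, f := f, a := j, b := j + 1, hp := hp, hf := f.pos, ha := he, hb := he.add_one, ha2 := hj2,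
                 hb3 := by omega, hab := Or.inl rfl, hq := hqf.symm.trans (by omega),
                 hcard := by rw [hG, show j + (j + 1) = q by omega]; ring,
                 hord := hord', exA := (hord j).mpr (Or.inl dvd_rfl),
                 exB := (hord (j + 1)).mpr (Or.inr (Or.inl dvd_rfl)) }, by show j + (j + 1) = q; omega⟩
      · exact ⟨{ p := p, f := f, a := j + 1, b := j, hp := hp, hf := f.pos, ha := ho.add_one, hb := ho, ha2 := by omega,
                 hb3 := by obtain ⟨i, hi⟩ := ho; omega, hab := Or.inr rfl, hq := hqf.symm.trans (by omega),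
                 hcard := by rw [hG, show j + 1 + j = q by omega]; ring,
                 hord := fun g => or_left_comm.mp (hord' g), exA := (hord (j + 1)).mpr (Or.inr (Or.inl dvd_rfl)),
                 exB := (hord j).mpr (Or.inl dvd_rfl) }, by show j + 1 + j = q; omega⟩
    obtain ⟨K, iK, iKt, hKodd, ⟨e⟩⟩ := D.recognition
    refine ⟨K, iK, iKt, ?_, ⟨e⟩⟩
    obtain ⟨i, hi⟩ := hKodd
    have hcK := CfsgLib.SLCard.gcd_mul_card_PSL (F := K) (n := 2) (by norm_num)
    rw [CfsgLib.SLCard.card_SL_two, ← Nat.card_congr e.toEquiv, show Nat.gcd 2 (Fintype.card K - 1) = 2 from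
      Nat.gcd_eq_left ⟨i, by omega⟩, hcard2, ← hsq] at hcK
    rcases lt_trichotomy (Fintype.card K) q with h | h | h
    · exact absurd hcK (Nat.ne_of_gt (Nat.mul_lt_mul_of_lt_of_le h
        (Nat.sub_le_sub_right (Nat.pow_le_pow_left h.le 2) 1) (by have := Nat.pow_le_pow_left (show 2 ≤ q by omega) 2; omega)))
    · exact h
    · exact absurd hcK (Nat.ne_of_lt (Nat.mul_lt_mul_of_lt_of_le h
        (Nat.sub_le_sub_right (Nat.pow_le_pow_left h.le 2) 1)
        (by have := Nat.pow_le_pow_left (show 2 ≤ Fintype.card K by omega) 2; omega)))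

end Cfsg.Agent.S3421
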