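import Cfsg.Statements.S3427
import Cfsg.Agent.Lib.U33Recog.Recognise
import Cfsg.Agent.Lib.G2Spec.Final
import Cfsg.Agent.S1059

set_option autoImplicit false
open Cfsg

namespace Cfsg.Agent.S3427

theorem spec_group {F : Type*} [Field F] [Fintype F] (hF : Fintype.card F = 2) {n : ℕ}
    (hn : n ∈ Set.range (orderOf : ↥(Cfsg.Lie.chevG2.group F) → ℕ)) : n ≠ 9 ∧ n ≠ 14 ∧ n ≠ 21 := by
  haveI : Fact (Nat.Prime 2) := ⟨Nat.prime_two⟩
  haveI : CharP F 2 := charP_of_card_eq_prime hF
  have h := CfsgLib.G2Spec.range_cases 2 hn (e := 3) (by norm_num)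
  rw [hF] at h
  refine ⟨?_, ?_, ?_⟩ <;> rintro rfl <;> norm_num at h

/-- Let F be the field with 2 elements and let M be the Chevalley group of type G₂ over F (a non-simple group of order 12096 whose derived subgroup, of index 2, is isomorphic to PSU(3, 3)). A finite group G is isomorphic to M if and only if G has the same set of element orders and the same order as M. -/
theorem result {G : Type*} [Group G] [Finite G] {F : Type*} [Field F] [Fintype F] (hF : Fintype.card F = 2) :
    Nonempty (G ≃* ↥(Cfsg.Lie.chevG2.group F)) ↔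
      (Set.range (orderOf : G → ℕ) = Set.range (orderOf : ↥(Cfsg.Lie.chevG2.group F) → ℕ) ∧ Nat.card G = Nat.card ↥(Cfsg.Lie.chevG2.group F)) := by
  have hcard : Nat.card ↥(Cfsg.Lie.chevG2.group F) = 12096 :=
    (Cfsg.Agent.S1059.result hF).trans (by norm_num)
  haveI : Finite ↥(Cfsg.Lie.chevG2.group F) := Nat.finite_of_card_ne_zero (by rw [hcard]; norm_num)
  constructor
  · rintro ⟨e⟩
    refine ⟨Set.ext fun n => ⟨?_, ?_⟩, Nat.card_congr e.toEquiv⟩
    · rintro ⟨g, rfl⟩; exact ⟨e g, e.orderOf_eq g⟩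
    · rintro ⟨g, rfl⟩; exact ⟨e.symm g, e.symm.orderOf_eq g⟩
  · rintro ⟨hr, hN⟩
    have hG : ∀ g : G, orderOf g ≠ 9 ∧ orderOf g ≠ 14 ∧ orderOf g ≠ 21 := fun g =>
      spec_group hF (hr ▸ Set.mem_range_self g)
    have hH := fun g : ↥(Cfsg.Lie.chevG2.group F) => spec_group hF (Set.mem_range_self g)
    exact CfsgLib.U33Recog.nonempty_mulEquiv (hN.trans hcard) (fun g => (hG g).1) (fun g => (hG g).2.1)
      (fun g => (hG g).2.2) hcard (fun g => (hH g).1) (fun g => (hH g).2.1) (fun g => (hH g).2.2)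

end Cfsg.Agent.S3427
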