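import Cfsg.Statements.S3433
import Cfsg.Agent.Lib.SpecFive.Index
import Cfsg.Agent.Lib.ThreeCC.Local
import Cfsg.Agent.Lib.Solvable.ProductNilpotent

set_option autoImplicit false
open Cfsg

namespace Cfsg.Agent.S3433

/-- A finite group whose set of element orders is exactly {1, 2, 3, 4, 5} is isomorphic to the alternating group of degree 6, or has a normal elementary abelian 2-subgroup with quotient isomorphic to the alternating group of degree 5. -/
theorem result {G : Type*} [Group G] [Finite G] (h : Set.range (orderOf : G → ℕ) = {k : ℕ | 1 ≤ k ∧ k ≤ 5}) :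
    Nonempty (G ≃* ↥(alternatingGroup (Fin 6))) ∨
      ∃ (N : Subgroup G) (_ : N.Normal), Cfsg.IsElementaryAbelian 2 N ∧ Nonempty (G ⧸ N ≃* ↥(alternatingGroup (Fin 5))) := by
  classical
  have hmem : ∀ k, 1 ≤ k → k ≤ 5 → ∃ g : G, orderOf g = k := fun k h1 h2 => by
    have hk : k ∈ Set.range (orderOf : G → ℕ) := by rw [h]; exact ⟨h1, h2⟩
    exact hk
  have h5 : CfsgLib.SpecFive.Spec5 G := fun g => by
    have : orderOf g ∈ Set.range (orderOf : G → ℕ) := ⟨g, rfl⟩
    rw [h] at this
    exact this.2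
  have hdvd : ∀ k, 1 ≤ k → k ≤ 5 → k ∣ Nat.card G := fun k h1 h2 => by
    obtain ⟨g, hg⟩ := hmem k h1 h2
    exact hg ▸ orderOf_dvd_natCard g
  by_cases h9 : 9 ∣ Nat.card G
  · exact Or.inl (CfsgLib.SpecFive.big_case
      ⟨h5, hdvd 2 (by norm_num) (by norm_num), h9, hdvd 5 (by norm_num) (by norm_num)⟩)
  haveI : Fact (Nat.Prime 3) := ⟨Nat.prime_three⟩
  obtain ⟨x, hx⟩ := hmem 3 (by norm_num) (by norm_num)
  set X := Subgroup.zpowers x with hXdef
  have hX : Nat.card X = 3 := by rw [hXdef, Nat.card_zpowers, hx]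
  have hC : Subgroup.centralizer (X : Set G) = X := by
    have h3 := h5.isPGroup_centralizer Nat.prime_three hx
    obtain ⟨n, hn⟩ := h3.exists_card_eq
    have hle : X ≤ Subgroup.centralizer ({x} : Set G) := by
      rw [hXdef, Subgroup.zpowers_le, Subgroup.mem_centralizer_singleton_iff]
    have hn1 : n ≤ 1 := by
      by_contra hn1
      refine h9 ?_
      have := (Subgroup.centralizer ({x} : Set G)).card_subgroup_dvd_card
      rw [hn] at this
      exact dvd_trans (by rw [show (9 : ℕ) = 3 ^ 2 by norm_num]; exact pow_dvd_pow 3 (by omega)) this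
    have hEq : X = Subgroup.centralizer ({x} : Set G) := Subgroup.eq_of_le_of_card_ge hle (by
      rw [hn, hX]
      calc 3 ^ n ≤ 3 ^ 1 := Nat.pow_le_pow_right (by norm_num) hn1
        _ = 3 := pow_one 3)
    refine le_antisymm (fun y hy => ?_) fun y hy z hz => ?_
    · rw [hEq, Subgroup.mem_centralizer_singleton_iff]
      exact (Subgroup.mem_centralizer_iff.mp hy x (hXdef ▸ Subgroup.mem_zpowers x)).symm
    · obtain ⟨i, rfl⟩ := Subgroup.mem_zpowers_iff.mp hy
      obtain ⟨j, rfl⟩ := Subgroup.mem_zpowers_iff.mp hz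
      exact ((Commute.refl x).zpow_zpow j i).eq
  rcases Cfsg.Agent.S3331.result X hX hC with ⟨N, hN, hnil, hcop, hq⟩ | ⟨N, hN, hcomm, hexp, hq⟩ | hq
  · exfalso
    haveI := hN
    haveI := hnil
    obtain ⟨y, hy⟩ := hmem 5 (by norm_num) (by norm_num)
    obtain ⟨a, ha⟩ := hmem 4 (by norm_num) (by norm_num)
    have hsix : Nat.card (G ⧸ N) ∣ 6 := by
      rcases hq with e | ⟨⟨e⟩⟩
      · rw [e]; norm_num
      · rw [Nat.card_congr e.toEquiv, Nat.card_perm, Nat.card_fin]; norm_num [Nat.factorial]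
    have hyN : y ∈ N := by
      rw [← QuotientGroup.eq_one_iff, ← orderOf_eq_one_iff]
      refine Nat.eq_one_of_dvd_coprimes (a := 5) (b := 6) (by norm_num) (hy ▸ orderOf_map_dvd (QuotientGroup.mk' N) y)
        ((orderOf_dvd_natCard _).trans hsix)
    have hNodd : ∀ w ∈ N, orderOf w ≠ 2 := by
      intro w hw hw2
      refine h5.not_commute Nat.prime_two Nat.prime_five (by norm_num) (x := w) (y := y) ?_ (dvd_of_eq hw2.symm)
        (dvd_of_eq hy.symm)
      exact CfsgLib.ProductNilpotent.commute_of_coprime hnil hw hyN (by rw [hw2, hy]; norm_num)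
    have ha2 : a ^ 2 ∉ N := fun hh => hNodd _ hh (by rw [orderOf_pow' a two_ne_zero, ha]; norm_num)
    have hq4 : orderOf (QuotientGroup.mk' N a) = 4 := by
      have hd : orderOf (QuotientGroup.mk' N a) ∣ 2 ^ 2 := by
        rw [show (2 : ℕ) ^ 2 = orderOf a by rw [ha]; norm_num]; exact orderOf_map_dvd _ a
      obtain ⟨k, hk, hk'⟩ := (Nat.dvd_prime_pow Nat.prime_two).mp hd
      have : k = 2 := by
        by_contra hk2
        refine ha2 ((QuotientGroup.eq_one_iff _).mp ?_)
        rw [QuotientGroup.mk_pow]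
        exact orderOf_dvd_iff_pow_eq_one.mp (by
          rw [show orderOf (a : G ⧸ N) = 2 ^ k from hk']
          exact pow_dvd_pow 2 (show k ≤ 1 by omega))
      rw [hk', this]; norm_num
    have := hq4 ▸ (orderOf_dvd_natCard (QuotientGroup.mk' N a)).trans hsix
    norm_num at this
  · exact Or.inr ⟨N, hN, ⟨hcomm, hexp⟩, hq⟩
  · exfalso
    obtain ⟨e⟩ := hq
    haveI : Fact (Nat.Prime 7) := ⟨by norm_num⟩
    obtain ⟨g, hg⟩ := exists_prime_orderOf_dvd_card' (G := G) 7
      (by rw [Nat.card_congr e.toEquiv, CfsgLib.ThreeCC.card_psl_two_seven]; norm_num)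
    have := h5 g
    omega

end Cfsg.Agent.S3433
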