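import Cfsg.Statements.S3437
import Cfsg.Agent.Lib.SpectrumL33.Group
import Cfsg.Agent.Lib.SpectrumL33.SL3

set_option autoImplicit false
open Cfsg

namespace Cfsg.Agent.S3437

/-- There is a finite solvable group with exactly the same set of element orders as the simple group PSL(3,3). -/
theorem result {F : Type*} [Field F] [Fintype F] (hF : Fintype.card F = 3) :
    ∃ (H : Type) (_ : Group H) (_ : Fintype H), Group.IsSolvable H ∧
      Set.range (orderOf : H → ℕ) = Set.range (orderOf : Matrix.ProjectiveSpecialLinearGroup (Fin 3) F → ℕ) := by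
  classical
  have : Fact (Nat.Prime 3) := ⟨Nat.prime_three⟩
  have : Finite CfsgLib.SpectrumL33.Grp :=
    Finite.of_injective (fun x : CfsgLib.SpectrumL33.Grp => (x.left, x.right)) fun x y h =>
      SemidirectProduct.ext (congrArg Prod.fst h) (congrArg Prod.snd h)
  refine ⟨CfsgLib.SpectrumL33.Grp, inferInstance, Fintype.ofFinite _, CfsgLib.SpectrumL33.grp_solvable, ?_⟩
  rw [CfsgLib.SpectrumL33.orders_Grp, ← CfsgLib.SpectrumL33.orders_SL3]
  let e : F ≃+* ZMod 3 := (ZMod.ringEquivOfPrime F Nat.prime_three hF).symm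
  haveI : CharP F 3 := charP_of_injective_ringHom e.symm.injective 3
  let E : Matrix.SpecialLinearGroup (Fin 3) F →* Matrix.SpecialLinearGroup (Fin 3) (ZMod 3) :=
    Matrix.SpecialLinearGroup.map e.toRingHom
  have hE : Function.Bijective E := by
    refine ⟨fun A B h => ?_, fun A => ⟨Matrix.SpecialLinearGroup.map e.symm.toRingHom A, ?_⟩⟩
    · apply Subtype.ext
      ext i j
      exact e.injective (congrArg (fun C : Matrix.SpecialLinearGroup (Fin 3) (ZMod 3) => C.1 i j) h)
    · apply Subtype.ext
      ext i j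
      exact e.apply_symm_apply _
  have hc : Subgroup.center (Matrix.SpecialLinearGroup (Fin 3) F) = ⊥ := by
    rw [eq_bot_iff]
    intro A hA
    obtain ⟨r, hr, hrA⟩ := Matrix.SpecialLinearGroup.mem_center_iff.mp hA
    rw [Subgroup.mem_bot]
    have h1 : r = 1 := by
      have h3 : (r - 1) ^ 3 = 0 := by
        rw [sub_pow_char, one_pow]
        simp at hr
        rw [hr, sub_self]
      exact sub_eq_zero.mp (pow_eq_zero_iff (by norm_num) |>.mp h3)
    apply Subtype.ext
    rw [← hrA, h1]
    simp
  have hmk : Function.Bijective (QuotientGroup.mk' (Subgroup.center (Matrix.SpecialLinearGroup (Fin 3) F))) := by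
    refine ⟨?_, QuotientGroup.mk'_surjective _⟩
    rw [← MonoidHom.ker_eq_bot_iff, QuotientGroup.ker_mk', hc]
  apply Set.Subset.antisymm
  · rintro m ⟨A, rfl⟩
    obtain ⟨B, rfl⟩ := hE.2 A
    exact ⟨QuotientGroup.mk' _ B, by rw [orderOf_injective E hE.1]; exact orderOf_injective _ hmk.1 B⟩
  · rintro m ⟨x, rfl⟩
    obtain ⟨B, rfl⟩ := hmk.2 x
    exact ⟨E B, by rw [orderOf_injective E hE.1]; exact (orderOf_injective _ hmk.1 B).symm⟩

end Cfsg.Agent.S3437
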