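import Cfsg.Statements.S3438
import Cfsg.Agent.Lib.SpectrumU33.Group
import Cfsg.Agent.Lib.SpectrumU33.SU3

set_option autoImplicit false
open Cfsg

namespace Cfsg.Agent.S3438

/-- There is a finite solvable group with exactly the same set of element orders as the simple group PSU(3,3) (realised over the field with 9 elements). -/
theorem result {F : Type*} [Field F] [Fintype F] (hF : Fintype.card F = 9) :
    ∃ (H : Type) (_ : Group H) (_ : Fintype H), Group.IsSolvable H ∧ Set.range (orderOf : H → ℕ) = Set.range (orderOf : Cfsg.PSU 3 F 3 → ℕ) := by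
  classical
  have : Fact (Nat.Prime 7) := ⟨by norm_num⟩
  have : Finite CfsgLib.SpectrumU33.Grp :=
    Finite.of_injective (fun x : CfsgLib.SpectrumU33.Grp => (x.left, x.right)) fun x y h =>
      SemidirectProduct.ext (congrArg Prod.fst h) (congrArg Prod.snd h)
  refine ⟨CfsgLib.SpectrumU33.Grp, inferInstance, Fintype.ofFinite _,
    CfsgLib.SpectrumU33.grp_solvable, ?_⟩
  rw [CfsgLib.SpectrumU33.orders_Grp, CfsgLib.SpectrumU33.orders_PSU hF]

end Cfsg.Agent.S3438
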