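import Cfsg.Statements.S3439
import Mathlib
import Cfsg.Agent.Lib.SpecU42.Solvable

set_option autoImplicit false
open Cfsg

namespace Cfsg.Agent.S3439



/-- There is a finite solvable group with exactly the same set of element orders as the simple group PSp(4,3). -/
theorem result {F : Type*} [Field F] [Fintype F] (hF : Fintype.card F = 3) :
    ∃ (H : Type) (_ : Group H) (_ : Fintype H), Group.IsSolvable H ∧ Set.range (orderOf : H → ℕ) = Set.range (orderOf : Cfsg.PSp 2 F → ℕ) := by
----
  refine ⟨CfsgLib.SpecU42.Big, inferInstance, ?_, CfsgLib.SpecU42.big_solvable, ?_⟩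
  · haveI : Finite (CfsgLib.SpecU42.Fld ≃+* CfsgLib.SpecU42.Fld) := Finite.of_injective _ DFunLike.coe_injective
    haveI : Finite CfsgLib.SpecU42.Frob20 := Finite.of_equiv _ SemidirectProduct.equivProd.symm
    haveI : Finite CfsgLib.SpecU42.Big := Finite.of_equiv _ SemidirectProduct.equivProd.symm
    exact Fintype.ofFinite _
  · rw [CfsgLib.SpecU42.range_big, CfsgLib.SpecU42.range_psp hF]

end Cfsg.Agent.S3439
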