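import Cfsg.Statements.S3443
import Mathlib

set_option autoImplicit false
open Cfsg

namespace Cfsg.Agent.S3443



/-- Let G be a finite group and V a normal elementary abelian subgroup of G (abelian of prime exponent p, possibly trivial). Then the semidirect product V ⋊ G, with G acting on V by conjugation, has exactly the same set of element orders as G. -/
theorem result {G : Type*} [Group G] [Finite G] (V : Subgroup G) [V.Normal] (p : ℕ) (hp : p.Prime)
    (hcomm : ∀ x y : V, x * y = y * x) (hexp : ∀ x : V, x ^ p = 1) :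
    Set.range (orderOf : V ⋊[MulAut.conjNormal] G → ℕ) = Set.range (orderOf : G → ℕ) := by
  classical
  ext d
  constructor
  · rintro ⟨⟨v, g⟩, rfl⟩
    set x : V ⋊[MulAut.conjNormal] G := ⟨v, g⟩
    let φ : V ⋊[MulAut.conjNormal] G →* G :=
      { toFun := fun z => (z.left : G) * z.right
        map_one' := by simp
        map_mul' := fun a b => by simp [MulAut.conjNormal_apply, mul_assoc] }
    have hord : ∀ a b : G, a * b⁻¹ ∈ V → orderOf a ∣ orderOf b * p := by
      intro a b hab
      have hq : (QuotientGroup.mk' V) a = (QuotientGroup.mk' V) b := by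
        have h1 : ((a * b⁻¹ : G) : G ⧸ V) = 1 := (QuotientGroup.eq_one_iff _).mpr hab
        rwa [QuotientGroup.mk_mul, QuotientGroup.mk_inv, mul_inv_eq_one] at h1
      have hm : a ^ orderOf b ∈ V := by
        rw [← QuotientGroup.eq_one_iff]
        show (QuotientGroup.mk' V) (a ^ orderOf b) = 1
        rw [map_pow, hq, ← map_pow, pow_orderOf_eq_one, map_one]
      rw [orderOf_dvd_iff_pow_eq_one, pow_mul]
      simpa using congrArg Subtype.val (hexp ⟨_, hm⟩)
    set a := φ x
    have hab : a * g⁻¹ ∈ V := by simp [a, φ, x]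
    have h1 := hord a g hab
    have h2 := hord g a (by simpa using V.inv_mem hab)
    have e : orderOf x = Nat.lcm (orderOf a) (orderOf g) := by
      refine Nat.dvd_antisymm ?_ (Nat.lcm_dvd (orderOf_map_dvd φ x) ?_)
      · rw [orderOf_dvd_iff_pow_eq_one]
        set n := Nat.lcm (orderOf a) (orderOf g)
        have r : (x ^ n).right = 1 := by
          rw [← SemidirectProduct.rightHom_eq_right, map_pow]
          exact orderOf_dvd_iff_pow_eq_one.mp (Nat.dvd_lcm_right _ _)
        have l : φ (x ^ n) = 1 := by
          rw [map_pow]; exact orderOf_dvd_iff_pow_eq_one.mp (Nat.dvd_lcm_left _ _)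
        change ((x ^ n).left : G) * (x ^ n).right = 1 at l
        rw [r, mul_one] at l
        exact SemidirectProduct.ext (Subtype.ext (by simpa using l)) (by simpa using r)
      · exact orderOf_map_dvd (SemidirectProduct.rightHom) x
    show orderOf x ∈ _
    rw [e]
    by_cases h : orderOf a ∣ orderOf g
    · rw [Nat.lcm_eq_right h]; exact ⟨g, rfl⟩
    · refine ⟨a, ?_⟩
      rw [Nat.lcm_eq_left]
      set A := orderOf a; set B := orderOf g
      have hg : 0 < Nat.gcd A B := Nat.gcd_pos_of_pos_left _ (orderOf_pos a)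
      obtain ⟨A', hA⟩ := Nat.gcd_dvd_left A B
      obtain ⟨B', hB⟩ := Nat.gcd_dvd_right A B
      have hc : Nat.Coprime A' B' := by
        have := Nat.coprime_div_gcd_div_gcd hg
        rwa [Nat.div_eq_of_eq_mul_right hg hA, Nat.div_eq_of_eq_mul_right hg hB] at this
      have a1 : A' ∣ p := hc.dvd_of_dvd_mul_left (Nat.dvd_of_mul_dvd_mul_left hg (by rw [← hA, ← mul_assoc, ← hB]; exact h1))
      have b1 : B' ∣ p := hc.symm.dvd_of_dvd_mul_left (Nat.dvd_of_mul_dvd_mul_left hg (by rw [← hB, ← mul_assoc, ← hA]; exact h2))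
      rcases (Nat.dvd_prime hp).mp b1 with hb | hb
      · rw [hB, hb, mul_one]; exact Nat.gcd_dvd_left A B
      · rcases (Nat.dvd_prime hp).mp a1 with ha | ha
        · exact absurd (by rw [hA, ha, mul_one]; exact Nat.gcd_dvd_right A B) h
        · rw [ha, hb, Nat.coprime_self] at hc
          exact absurd hc hp.ne_one
  · rintro ⟨g, rfl⟩
    exact ⟨SemidirectProduct.inr g, orderOf_injective _ SemidirectProduct.inr_injective g⟩

end Cfsg.Agent.S3443
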