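import Cfsg.Statements.S3444
import Mathlib

set_option autoImplicit false
open Cfsg
open scoped commutatorElement

namespace Cfsg.Agent.S3444

theorem exists_normal_elem_abelian {G : Type*} [Group G] [Finite G] (K : Subgroup G) [K.Normal] (hK : K ≠ ⊥)
    (hs : Group.IsSolvable K) :
    ∃ (p : ℕ) (V : Subgroup G), p.Prime ∧ V.Normal ∧ V ≠ ⊥ ∧ ∀ x ∈ V, x ^ p = 1 ∧ ∀ y ∈ V, x * y = y * x := by
  classical
  obtain ⟨n, hn⟩ := hs.solvable
  let D : ℕ → Subgroup G := fun i => (derivedSeries K i).map K.subtype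
  have hDn : ∀ i, (D i).Normal := fun i => by
    haveI := derivedSeries_characteristic K i
    infer_instance
  have hlast : ∃ i, D i ≠ ⊥ ∧ D (i + 1) = ⊥ := by
    by_contra hcon
    push Not at hcon
    have : ∀ i, D i ≠ ⊥ := by
      intro i; induction i with
      | zero => simpa [D, Subgroup.map_eq_bot_iff_of_injective, ← MonoidHom.range_eq_map] using hK
      | succ i ih => exact hcon i ih
    exact this n (by simp [D, hn])
  obtain ⟨i, hi, hi'⟩ := hlast
  have hab : ∀ x ∈ D i, ∀ y ∈ D i, x * y = y * x := by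
    rintro _ ⟨a, ha, rfl⟩ _ ⟨b, hb, rfl⟩
    have : ⁅a, b⁆ ∈ derivedSeries K (i + 1) := by
      rw [derivedSeries_succ]; exact Subgroup.commutator_mem_commutator ha hb
    have h2 : derivedSeries K (i + 1) = ⊥ := by
      rwa [Subgroup.map_eq_bot_iff_of_injective _ K.subtype_injective] at hi'
    rw [h2, Subgroup.mem_bot, commutatorElement_eq_one_iff_mul_comm] at this
    rw [← map_mul, ← map_mul, this]
  have hc : Nat.card (D i) ≠ 1 := fun e => hi (Subgroup.card_eq_one.mp e)
  obtain ⟨p, hp, hpd⟩ := Nat.exists_prime_and_dvd hc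
  haveI := Fact.mk hp
  obtain ⟨x, hx⟩ := exists_prime_orderOf_dvd_card' (G := D i) p hpd
  let V : Subgroup G :=
    { carrier := {z | z ∈ D i ∧ z ^ p = 1}
      one_mem' := ⟨one_mem _, one_pow p⟩
      mul_mem' := fun {a b} ha hb => ⟨mul_mem ha.1 hb.1, by
        rw [(show Commute a b from hab a ha.1 b hb.1).mul_pow, ha.2, hb.2, one_mul]⟩
      inv_mem' := fun {a} ha => ⟨inv_mem ha.1, by rw [inv_pow, ha.2, inv_one]⟩ }
  refine ⟨p, V, hp, ⟨fun z hz g => ⟨(hDn i).conj_mem z hz.1 g, by rw [conj_pow, hz.2, mul_one, mul_inv_cancel]⟩⟩, ?_,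
    fun z hz => ⟨hz.2, fun y hy => hab z hz.1 y hy.1⟩⟩
  intro e
  have hxV : (x : G) ∈ V := ⟨x.2, by rw [← hx, ← Subgroup.orderOf_coe, pow_orderOf_eq_one]⟩
  rw [e, Subgroup.mem_bot] at hxV
  rw [← Subgroup.orderOf_coe, hxV, orderOf_one] at hx
  exact hp.ne_one hx.symm

theorem exists_small_copy (H : Type*) [Group H] [Finite H] :
    ∃ (H₀ : Type) (_ : Group H₀) (_ : Fintype H₀), Fintype.card H₀ = Nat.card H ∧
      Set.range (orderOf : H₀ → ℕ) = Set.range (orderOf : H → ℕ) := by
  haveI : Small.{0} H := inferInstance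
  haveI : Finite (Shrink.{0} H) := Finite.of_equiv _ (equivShrink H)
  letI : Fintype (Shrink.{0} H) := Fintype.ofFinite _
  refine ⟨Shrink.{0} H, inferInstance, inferInstance, by rw [← Nat.card_eq_fintype_card]; exact Nat.card_congr (equivShrink H).symm, ?_⟩
  ext m
  exact ⟨fun ⟨x, hx⟩ => ⟨Shrink.mulEquiv x, by rw [MulEquiv.orderOf_eq, hx]⟩,
    fun ⟨x, hx⟩ => ⟨Shrink.mulEquiv.symm x, by rw [MulEquiv.orderOf_eq, hx]⟩⟩

/-- A finite group with a non-trivial solvable normal subgroup is not determined by its set of element orders, not even up to finitely many possibilities: for every bound N there is a finite group of order greater than N with exactly the same set of element orders. -/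
theorem result {G : Type*} [Group G] [Finite G] (K : Subgroup G) [K.Normal] (hK : K ≠ ⊥)
    (hs : Group.IsSolvable K) (N : ℕ) :
    ∃ (H : Type) (_ : Group H) (_ : Fintype H), N < Fintype.card H ∧ Set.range (orderOf : H → ℕ) = Set.range (orderOf : G → ℕ) := by
  classical
  obtain ⟨p, V, hp, hVn, hV, hVp⟩ := exists_normal_elem_abelian K hK hs
  haveI := hVn
  set k := N
  let T : Subgroup (Fin (k + 1) → G) :=
    { carrier := {f | ∀ i j, QuotientGroup.mk' V (f i) = QuotientGroup.mk' V (f j)}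
      one_mem' := fun i j => rfl
      mul_mem' := fun {a b} ha hb i j => by simp only [Pi.mul_apply, map_mul, ha i j, hb i j]
      inv_mem' := fun {a} ha i j => by simp only [Pi.inv_apply, map_inv, ha i j] }
  have hinj : Nat.card (Fin (k + 1) → V) ≤ Nat.card T := by
    refine Nat.card_le_card_of_injective (fun v => (⟨fun i => (v i : G), fun i j => ?_⟩ : T)) fun u v h => ?_
    · rw [(QuotientGroup.eq_one_iff _).mpr (v i).2 |> (fun h => (h : QuotientGroup.mk' V (v i : G) = 1)),
        (QuotientGroup.eq_one_iff _).mpr (v j).2 |> (fun h => (h : QuotientGroup.mk' V (v j : G) = 1))]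
    · funext i; exact Subtype.ext (congrFun (congrArg Subtype.val h) i)
  haveI : Nontrivial V := (Subgroup.nontrivial_iff_ne_bot V).mpr hV
  have hbig : N < Nat.card T := by
    refine lt_of_lt_of_le ?_ hinj
    rw [Nat.card_fun, Nat.card_fin]
    have h2 : 2 ≤ Nat.card V := Finite.one_lt_card
    calc N < 2 ^ (k + 1) := lt_of_lt_of_le (Nat.lt_succ_self N) Nat.lt_two_pow_self.le
      _ ≤ _ := Nat.pow_le_pow_left h2 _
  have hrange : Set.range (orderOf : T → ℕ) = Set.range (orderOf : G → ℕ) := by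
    ext m
    constructor
    · rintro ⟨⟨f, hf⟩, rfl⟩
      set d := orderOf (QuotientGroup.mk' V (f 0)) with hd
      have hdiv : ∀ i, d ∣ orderOf (f i) ∧ orderOf (f i) ∣ d * p := fun i => by
        have he : QuotientGroup.mk' V (f i) = QuotientGroup.mk' V (f 0) := hf i 0
        refine ⟨by rw [hd, ← he]; exact orderOf_map_dvd _ _, orderOf_dvd_of_pow_eq_one ?_⟩
        rw [pow_mul]
        refine (hVp _ ((QuotientGroup.eq_one_iff _).mp ?_)).1
        show QuotientGroup.mk' V (f i ^ d) = 1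
        rw [map_pow, he, hd, pow_orderOf_eq_one]
      have hdp : ∀ i, orderOf (f i) = d ∨ orderOf (f i) = d * p := fun i => by
        obtain ⟨⟨c, hc⟩, h2⟩ := hdiv i
        rw [hc] at h2 ⊢
        have hd0 : 0 < d := orderOf_pos _
        rcases (Nat.dvd_prime hp).mp (Nat.dvd_of_mul_dvd_mul_left hd0 h2) with e | e
        · left; rw [e, mul_one]
        · right; rw [e]
      rw [← Subgroup.orderOf_coe]
      show orderOf f ∈ _
      by_cases hex : ∃ i, orderOf (f i) = d * p
      · obtain ⟨i, hi⟩ := hex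
        refine ⟨f i, Nat.dvd_antisymm (orderOf_map_dvd (Pi.evalMonoidHom (fun _ => G) i) f) (orderOf_dvd_of_pow_eq_one ?_)⟩
        funext j
        rw [Pi.pow_apply, hi]
        exact orderOf_dvd_iff_pow_eq_one.mp (hdiv j).2
      · push Not at hex
        refine ⟨f 0, Nat.dvd_antisymm (orderOf_map_dvd (Pi.evalMonoidHom (fun _ => G) 0) f) (orderOf_dvd_of_pow_eq_one ?_)⟩
        funext j
        rw [Pi.pow_apply, (hdp 0).resolve_right (hex 0), ← (hdp j).resolve_right (hex j), pow_orderOf_eq_one]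
        rfl
    · rintro ⟨g, rfl⟩
      refine ⟨⟨fun _ => g, fun i j => rfl⟩, ?_⟩
      rw [← Subgroup.orderOf_coe]
      refine Nat.dvd_antisymm (orderOf_dvd_of_pow_eq_one (funext fun i => pow_orderOf_eq_one g)) ?_
      exact orderOf_map_dvd (Pi.evalMonoidHom (fun _ => G) 0) (fun _ : Fin (k + 1) => g)
  obtain ⟨H₀, iG, iF, hc, hr⟩ := exists_small_copy T
  exact ⟨H₀, iG, iF, hc ▸ hbig, hr.trans hrange⟩

end Cfsg.Agent.S3444
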