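import Cfsg.Statements.S3448
import Mathlib

set_option autoImplicit false
open Cfsg

namespace Cfsg.Agent.S3448

theorem a5_pow : ∀ g : alternatingGroup (Fin 5), g ^ 2 = 1 ∨ g ^ 3 = 1 ∨ g ^ 5 = 1 := by decide +kernel

theorem a5_order (g : alternatingGroup (Fin 5)) : orderOf g ∈ ({1, 2, 3, 5} : Finset ℕ) := by
  rcases a5_pow g with h | h | h <;>
    rcases (Nat.dvd_prime (by norm_num)).mp (orderOf_dvd_of_pow_eq_one h) with e | e <;> simp [e]

theorem a5_wit : ∃ a b c : alternatingGroup (Fin 5), orderOf a = 2 ∧ orderOf b = 3 ∧ orderOf c = 5 := by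
  haveI := Fact.mk Nat.prime_two; haveI := Fact.mk Nat.prime_three
  haveI : Fact (Nat.Prime 5) := ⟨by norm_num⟩
  exact ⟨⟨Equiv.swap 0 1 * Equiv.swap 2 3, Equiv.Perm.mem_alternatingGroup.mpr (by decide)⟩, ⟨Equiv.swap 0 1 * Equiv.swap 1 2, Equiv.Perm.mem_alternatingGroup.mpr (by decide)⟩,
    ⟨Equiv.swap 0 1 * Equiv.swap 1 2 * Equiv.swap 2 3 * Equiv.swap 3 4, Equiv.Perm.mem_alternatingGroup.mpr (by decide)⟩,
    orderOf_eq_prime (by decide) (by decide), orderOf_eq_prime (by decide) (by decide), orderOf_eq_prime (by decide) (by decide)⟩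

/-- The set of element orders of the direct product of two copies of the alternating group of degree 5 is {1, 2, 3, 5, 6, 10, 15}. (It is shared by the direct product of two Frobenius groups of orders 50 and 75, so this direct product is not determined by its element orders.) -/
theorem result : Set.range (orderOf : alternatingGroup (Fin 5) × alternatingGroup (Fin 5) → ℕ) = {1, 2, 3, 5, 6, 10, 15} := by
  ext n
  simp only [Set.mem_range, Set.mem_insert_iff, Set.mem_singleton_iff]
  constructor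
  · rintro ⟨⟨g, h⟩, rfl⟩
    rw [Prod.orderOf_mk]
    have hg := a5_order g
    have hh := a5_order h
    simp only [Finset.mem_insert, Finset.mem_singleton] at hg hh
    rcases hg with e | e | e | e <;> rcases hh with f | f | f | f <;> rw [e, f] <;> decide
  · obtain ⟨a, b, c, ha, hb, hc⟩ := a5_wit
    rintro (rfl | rfl | rfl | rfl | rfl | rfl | rfl)
    · exact ⟨(1, 1), by simp⟩
    · exact ⟨(a, 1), by rw [Prod.orderOf_mk, ha, orderOf_one]; rfl⟩
    · exact ⟨(b, 1), by rw [Prod.orderOf_mk, hb, orderOf_one]; rfl⟩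
    · exact ⟨(c, 1), by rw [Prod.orderOf_mk, hc, orderOf_one]; rfl⟩
    · exact ⟨(a, b), by rw [Prod.orderOf_mk, ha, hb]; rfl⟩
    · exact ⟨(a, c), by rw [Prod.orderOf_mk, ha, hc]; rfl⟩
    · exact ⟨(b, c), by rw [Prod.orderOf_mk, hb, hc]; rfl⟩

end Cfsg.Agent.S3448
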