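import Cfsg.Statements.S3449
import Mathlib
import Cfsg.Agent.S3448

set_option autoImplicit false
open Cfsg

namespace Cfsg.Agent.S3449



/-- The direct product of three copies of the alternating group of degree 5 has exactly the same set of element orders as the cyclic group of order 30, namely the divisors of 30; in particular a direct power of a non-abelian simple group need not be determined by its element orders. -/
theorem result : Set.range (orderOf : alternatingGroup (Fin 5) × alternatingGroup (Fin 5) × alternatingGroup (Fin 5) → ℕ) =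
      Set.range (orderOf : Multiplicative (ZMod 30) → ℕ) := by
  ext n
  simp only [Set.mem_range]
  obtain ⟨a, b, c, ha, hb, hc⟩ := S3448.a5_wit
  constructor
  · rintro ⟨⟨g, h, k⟩, rfl⟩
    rw [Prod.orderOf_mk, Prod.orderOf_mk]
    have h30 : ∀ x : alternatingGroup (Fin 5), orderOf x ∣ 30 := fun x => by
      have hx := S3448.a5_order x
      simp only [Finset.mem_insert, Finset.mem_singleton] at hx
      rcases hx with e | e | e | e <;> rw [e] <;> decide
    have hd : (orderOf g).lcm ((orderOf h).lcm (orderOf k)) ∣ 30 := Nat.lcm_dvd (h30 g) (Nat.lcm_dvd (h30 h) (h30 k))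
    obtain ⟨q, hq⟩ := hd
    set l := (orderOf g).lcm ((orderOf h).lcm (orderOf k))
    refine ⟨Multiplicative.ofAdd ((q : ℕ) : ZMod 30), ?_⟩
    rw [orderOf_ofAdd_eq_addOrderOf, ZMod.addOrderOf_coe _ (by norm_num), hq,
      Nat.gcd_eq_right (dvd_mul_left q l), Nat.mul_div_cancel _ (Nat.pos_of_ne_zero fun e => by simp [e] at hq)]
  · rintro ⟨z, rfl⟩
    have hz : orderOf z ∣ 30 := by
      have := orderOf_dvd_natCard z
      rwa [Nat.card_eq_fintype_card, Fintype.card_multiplicative, ZMod.card] at this
    have hm : orderOf z ∈ (30 : ℕ).divisors := Nat.mem_divisors.mpr ⟨hz, by norm_num⟩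
    rw [show (30 : ℕ).divisors = {1, 2, 3, 5, 6, 10, 15, 30} by decide] at hm
    simp only [Finset.mem_insert, Finset.mem_singleton] at hm
    rcases hm with e | e | e | e | e | e | e | e <;> rw [e]
    · exact ⟨(1, 1, 1), by simp⟩
    · exact ⟨(a, 1, 1), by simp [Prod.orderOf_mk, ha]⟩
    · exact ⟨(b, 1, 1), by simp [Prod.orderOf_mk, hb]⟩
    · exact ⟨(c, 1, 1), by simp [Prod.orderOf_mk, hc]⟩
    · exact ⟨(a, b, 1), by simp [Prod.orderOf_mk, ha, hb]; rfl⟩
    · exact ⟨(a, c, 1), by simp [Prod.orderOf_mk, ha, hc]; rfl⟩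
    · exact ⟨(b, c, 1), by simp [Prod.orderOf_mk, hb, hc]; rfl⟩
    · exact ⟨(a, b, c), by simp [Prod.orderOf_mk, ha, hb, hc]; rfl⟩

end Cfsg.Agent.S3449
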