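import Cfsg.Statements.S3452
import Mathlib
import Cfsg.Agent.S3444
import Cfsg.Agent.Lib.PGL2Spectrum.Parity
import Cfsg.Agent.Lib.PGL2Spectrum.Nine

set_option autoImplicit false
open Cfsg

namespace Cfsg.Agent.S3452

open CfsgLib.PGL2Spectrum

/-- The double transpositions, with the identity. -/
def klein : Subgroup (Equiv.Perm (Fin 4)) where
  carrier := {σ | σ = 1 ∨ (σ * σ = 1 ∧ ∀ i, σ i ≠ i)}
  one_mem' := Or.inl rfl
  mul_mem' := fun {a b} ha hb => by
    revert ha hb
    revert a b
    decide +kernel
  inv_mem' := fun {a} ha => by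
    revert ha
    revert a
    decide +kernel

theorem klein_facts : (∀ g s : Equiv.Perm (Fin 4), s ∈ klein → g * s * g⁻¹ ∈ klein) ∧
    (∀ a b : Equiv.Perm (Fin 4), a ∈ klein → b ∈ klein → a * b = b * a) ∧ Equiv.swap (0 : Fin 4) 1 * Equiv.swap 2 3 ∈ klein := by
  refine ⟨?_, ?_, ?_⟩ <;> simp only [klein, Subgroup.mem_mk, Submonoid.mem_mk, Subsemigroup.mem_mk, Set.mem_setOf_eq] <;>
    decide +kernel

theorem s4_pow : ∀ g : Equiv.Perm (Fin 4), g ^ 2 = 1 ∨ g ^ 4 = 1 ∨ g ^ 3 = 1 := by decide +kernel

theorem s4_wit : ∃ a b : Equiv.Perm (Fin 4), a ^ 4 = 1 ∧ a ^ 2 ≠ 1 ∧ b ^ 3 = 1 ∧ b ≠ 1 := by decide +kernel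

theorem transfer {Y X : Type*} [Group Y] [Finite Y] [Group X] (K : Subgroup Y) [K.Normal] (hK : K ≠ ⊥)
    (hs : Group.IsSolvable K) (N : ℕ) (h : ∀ n, (∃ y : Y, orderOf y = n) ↔ ∃ x : X, orderOf x = n) :
    ∃ (H : Type) (_ : Group H) (_ : Fintype H), N < Fintype.card H ∧
      Set.range (orderOf : H → ℕ) = Set.range (orderOf : X → ℕ) := by
  obtain ⟨H, i1, i2, hcard, hrange⟩ := Cfsg.Agent.S3444.result K hK hs N
  exact ⟨H, i1, i2, hcard, hrange.trans (Set.ext h)⟩

/-- For F a finite field whose number of elements is a prime or equals 9, the group PGL(2,F) = GL(2,F)/Z(GL(2,F)) is not determined by its set of element orders: for every bound N there is a finite group of order greater than N with exactly the same set of element orders as PGL(2,F). -/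
theorem result {F : Type*} [Field F] [Fintype F] (hF : (Fintype.card F).Prime ∨ Fintype.card F = 9) (N : ℕ) :
    ∃ (H : Type) (_ : Group H) (_ : Fintype H), N < Fintype.card H ∧
      Set.range (orderOf : H → ℕ) = Set.range (orderOf : Matrix.GeneralLinearGroup (Fin 2) F ⧸ Subgroup.center (Matrix.GeneralLinearGroup (Fin 2) F) → ℕ) := by
  classical
  obtain ⟨p, hchar⟩ := CharP.exists F
  haveI hp : Fact p.Prime := ⟨CharP.char_is_prime F p⟩
  obtain ⟨f, -, hq⟩ := FiniteField.card F p
  rcases hF with hF | hF
  · have hqp : Fintype.card F = p := ((Nat.prime_dvd_prime_iff_eq hp.out hF).mp (hq ▸ dvd_pow_self p f.2.ne')).symm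
    by_cases hp2 : p = 2
    · subst hp2
      have hc3 : ∃ g : GL (Fin 2) F ⧸ Subgroup.center (GL (Fin 2) F), orderOf g = 3 := by
        obtain ⟨g, hg⟩ := (Cfsg.Agent.S2261.result (F := F) 2 (by norm_num)).2
        rw [hqp] at hg
        exact ⟨g, by norm_num at hg; exact hg⟩
      have hd6 : Nat.card (GL (Fin 2) F ⧸ Subgroup.center (GL (Fin 2) F)) ∣ 6 := by
        refine (Subgroup.center (GL (Fin 2) F)).card_quotient_dvd_card.trans ?_
        rw [Matrix.card_GL_field, hqp]
        simp [Fin.prod_univ_two]
      obtain ⟨g, hg⟩ := hc3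
      have hidx : (Subgroup.zpowers g).index = 1 ∨ (Subgroup.zpowers g).index = 2 := by
        have h := (Subgroup.zpowers g).card_mul_index
        rw [Nat.card_zpowers, hg] at h
        have hle := Nat.le_of_dvd (by norm_num) hd6
        have hpos := Subgroup.index_ne_zero_of_finite (H := Subgroup.zpowers g)
        omega
      haveI : (Subgroup.zpowers g).Normal := by
        rcases hidx with e | e
        · rw [Subgroup.index_eq_one.mp e]; infer_instance
        · exact Subgroup.normal_of_index_eq_two e
      exact transfer (Subgroup.zpowers g) (fun e => by rw [Subgroup.zpowers_eq_bot] at e; rw [e, orderOf_one] at hg; omega)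
        inferInstance N (fun n => Iff.rfl)
    have h2 : (2 : F) ≠ 0 := Ring.two_ne_zero (by rw [ringChar.eq F p]; exact hp2)
    by_cases hp3 : p = 3
    · subst hp3
      haveI : klein.Normal := ⟨fun s hs g => klein_facts.1 g s hs⟩
      refine transfer klein (fun e => ?_)
        (Group.isSolvable_of_comm fun a b => Subtype.ext (klein_facts.2.1 _ _ a.2 b.2)) N fun n => ?_
      · have := klein_facts.2.2
        rw [e, Subgroup.mem_bot] at this
        exact absurd this (by decide +kernel)
      · rw [pgl_orders 3 h2, hqp]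
        constructor
        · rintro ⟨y, rfl⟩
          rcases s4_pow y with e | e | e
          · exact Or.inl (orderOf_dvd_of_pow_eq_one e)
          · exact Or.inr (Or.inl (orderOf_dvd_of_pow_eq_one e))
          · rcases (Nat.dvd_prime Nat.prime_three).mp (orderOf_dvd_of_pow_eq_one e) with e' | e'
            · exact Or.inl (by rw [e']; exact one_dvd _)
            · exact Or.inr (Or.inr e')
        · obtain ⟨a, b, ha, ha2, hb, hb1⟩ := s4_wit
          haveI := Fact.mk Nat.prime_two
          have ho4 : orderOf a = 4 := orderOf_eq_prime_pow (p := 2) (n := 1) (by norm_num; exact ha2) (by norm_num; exact ha)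
          rintro (e | e | rfl)
          · exact exists_dvd ⟨a, ho4⟩ (Dvd.dvd.trans e (by norm_num))
          · exact exists_dvd ⟨a, ho4⟩ e
          · exact ⟨b, orderOf_eq_prime hb hb1⟩
    have hp5 : 5 ≤ p := by
      have := hp.out.two_le
      by_contra hlt
      have : p = 4 := by omega
      exact absurd (this ▸ hp.out) (by norm_num)
    haveI : ((SemidirectProduct.inl : Multiplicative (parity (Matrix.ProjectiveSpecialLinearGroup (Fin 2) F) p) →*
        Ext (Matrix.ProjectiveSpecialLinearGroup (Fin 2) F) p).range).Normal := by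
      rw [SemidirectProduct.range_inl_eq_ker_rightHom]; infer_instance
    refine transfer _ (ker_ne_bot p hqp hp5) (Group.isSolvable_of_comm fun a b => ?_) N fun n => ?_
    · obtain ⟨_, x, rfl⟩ := a
      obtain ⟨_, y, rfl⟩ := b
      exact Subtype.ext (by simp [← map_mul, mul_comm x y])
    · rw [ext_orders p hqp hp5, pgl_orders p h2, hqp]
  · have hp3 : p = 3 := by
      have h3 : p ∣ 3 ^ 2 := by norm_num; exact hF ▸ hq ▸ dvd_pow_self p f.2.ne'
      exact (Nat.prime_dvd_prime_iff_eq hp.out Nat.prime_three).mp (hp.out.dvd_of_dvd_pow h3)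
    subst hp3
    have h2 : (2 : F) ≠ 0 := Ring.two_ne_zero (by rw [ringChar.eq F 3]; norm_num)
    haveI : ((SemidirectProduct.inl : Multiplicative Nine.Vec →* Nine.G9).range).Normal := by
      rw [SemidirectProduct.range_inl_eq_ker_rightHom]; infer_instance
    refine transfer ((SemidirectProduct.inl : Multiplicative Nine.Vec →* Nine.G9).range) (fun e => ?_)
      (Group.isSolvable_of_comm fun a b => ?_) N fun n => ?_
    · have hm : (SemidirectProduct.inl (Multiplicative.ofAdd ((1, 0, 0, 0) : Nine.Vec)) : Nine.G9) ∈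
          (SemidirectProduct.inl : Multiplicative Nine.Vec →* Nine.G9).range := ⟨_, rfl⟩
      rw [e, Subgroup.mem_bot, ← map_one (SemidirectProduct.inl : Multiplicative Nine.Vec →* Nine.G9)] at hm
      exact Nine.vec_facts.2 (congrArg Multiplicative.toAdd (SemidirectProduct.inl_injective hm))
    · obtain ⟨_, x, rfl⟩ := a
      obtain ⟨_, y, rfl⟩ := b
      exact Subtype.ext (by simp [← map_mul, mul_comm x y])
    · rw [Nine.orders, pgl_orders 3 h2, hF]

end Cfsg.Agent.S3452
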