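import Cfsg.Statements.S3466
import Cfsg.Agent.Lib.SpecSp4.Psp
import Cfsg.Agent.Lib.SpecSp4.Three
import Cfsg.Agent.Lib.SpecSp4.Small

set_option autoImplicit false
open Cfsg

namespace Cfsg.Agent.S3466

/-- Let F be a finite field with q ≥ 3 elements such that q is not of the form 3^(2t+1) with t ≥ 1. Then PSp(4,F) is not determined by its set of element orders, not even up to finitely many groups: for every bound N there is a finite group of order greater than N with exactly the same set of element orders as PSp(4,F). -/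
theorem result {F : Type*} [Field F] [Fintype F] (h3 : 3 ≤ Fintype.card F) (hq : ∀ t : ℕ, 1 ≤ t → Fintype.card F ≠ 3 ^ (2 * t + 1)) (N : ℕ) :
    ∃ (H : Type) (_ : Group H) (_ : Fintype H), N < Fintype.card H ∧ Set.range (orderOf : H → ℕ) = Set.range (orderOf : Cfsg.PSp 2 F → ℕ) := by
  classical
  obtain ⟨p, hp⟩ := CharP.exists F
  haveI : Fact p.Prime := ⟨CharP.char_is_prime F p⟩
  obtain ⟨a, ha, hF⟩ := CfsgLib.PSpGraph.card_eq_pow F p
  by_cases hq3 : Fintype.card F = 3
  · rw [CfsgLib.SpecU42.range_psp hq3]
    exact CfsgLib.SpecSp4.exists_q3 N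
  rw [CfsgLib.SpecSp4.psp_range p, hF]
  let K := GaloisField p (2 * a)
  letI : Fintype K := Fintype.ofFinite K
  have hK : Fintype.card K = (p ^ a) ^ 2 := by
    rw [← Nat.card_eq_fintype_card, GaloisField.card p (2 * a) (by omega), ← pow_mul, mul_comm]
  by_cases h2 : p = 2
  · exact CfsgLib.SpecSp4.exists_even (K := K) p a ha h2 hK N
  by_cases h3' : p = 3
  · subst h3'
    refine CfsgLib.SpecSp4.exists_three (K := K) a ha ?_ hK N
    by_contra hev
    obtain ⟨t, ht⟩ := Nat.not_even_iff_odd.mp hev
    rcases Nat.eq_zero_or_pos t with rfl | htpos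
    · exact hq3 (by rw [hF, ht]; norm_num)
    · exact hq t htpos (by rw [hF, ht])
  · have h5 : 5 ≤ p := by
      have h4 : p ≠ 4 := fun h => by
        have hpr := (Fact.out : p.Prime)
        rw [h] at hpr
        norm_num at hpr
      have := (Fact.out : p.Prime).two_le
      omega
    exact CfsgLib.SpecSp4.exists_five (K := K) p a ha h5 hK N

end Cfsg.Agent.S3466
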