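import Cfsg.Statements.S3487
import Cfsg.Agent.Lib.Spectrum3D4.Main

set_option autoImplicit false
open Cfsg

namespace Cfsg.Agent.S3487

/-- The triality group ³D₄(2) is not determined by its set of element orders, not even up to finitely many groups: for K the field with 8 elements and every bound N there is a finite group of order greater than N with exactly the same set of element orders as ³D₄(2) (realised over K). -/
theorem result {K : Type*} [Field K] [Fintype K] (hK : Fintype.card K = 8) (N : ℕ) : ∃ (H : Type) (_ : Group H) (_ : Fintype H), N < Fintype.card H ∧ Set.range (orderOf : H → ℕ) = Set.range (orderOf : Cfsg.Lie.twistedD4 K 2 → ℕ) := by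
  classical
  haveI : CharP K 2 := CfsgLib.Spectrum3D4.charP_two_of_card hK
  exact CfsgLib.Spectrum3D4.exists_large hK N

end Cfsg.Agent.S3487
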