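import Cfsg.Statements.S3488
import Mathlib
import Cfsg.Agent.Lib.PrimeGraphExt

set_option autoImplicit false
open Cfsg

namespace Cfsg.Agent.S3488

open Matrix CfsgLib.PrimeGraphExt

set_option maxRecDepth 100000 in
theorem a6_pow : ∀ g : alternatingGroup (Fin 6), g ^ 3 = 1 ∨ g ^ 4 = 1 ∨ g ^ 5 = 1 := by decide +kernel

set_option maxRecDepth 100000 in
theorem a6_wit : ∃ a b c d : alternatingGroup (Fin 6),
    (a ^ 2 = 1 ∧ a ≠ 1) ∧ (b ^ 3 = 1 ∧ b ≠ 1) ∧ (c ^ 4 = 1 ∧ ¬ c ^ 2 = 1) ∧ (d ^ 5 = 1 ∧ d ≠ 1) := by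
  refine ⟨⟨Equiv.swap 0 1 * Equiv.swap 2 3, Equiv.Perm.mem_alternatingGroup.mpr (by decide)⟩, ⟨Equiv.swap 0 1 * Equiv.swap 1 2, Equiv.Perm.mem_alternatingGroup.mpr (by decide)⟩,
    ⟨Equiv.swap 0 1 * Equiv.swap 1 2 * Equiv.swap 2 3 * Equiv.swap 4 5, Equiv.Perm.mem_alternatingGroup.mpr (by decide)⟩,
    ⟨Equiv.swap 0 1 * Equiv.swap 1 2 * Equiv.swap 2 3 * Equiv.swap 3 4, Equiv.Perm.mem_alternatingGroup.mpr (by decide)⟩, ?_⟩
  decide +kernel

/-- A group with elements of orders 2, 3, 4, 5 and all element orders dividing 3, 4 or 5. -/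
theorem range_eq {X : Type*} [Group X] (hpow : ∀ g : X, g ^ 3 = 1 ∨ g ^ 4 = 1 ∨ g ^ 5 = 1)
    (h2 : ∃ g : X, g ^ 2 = 1 ∧ g ≠ 1) (h3 : ∃ g : X, g ^ 3 = 1 ∧ g ≠ 1)
    (h4 : ∃ g : X, g ^ 4 = 1 ∧ ¬ g ^ 2 = 1) (h5 : ∃ g : X, g ^ 5 = 1 ∧ g ≠ 1) :
    Set.range (orderOf : X → ℕ) = {1, 2, 3, 4, 5} := by
  haveI : Fact (Nat.Prime 2) := ⟨Nat.prime_two⟩
  haveI : Fact (Nat.Prime 3) := ⟨by norm_num⟩
  haveI : Fact (Nat.Prime 5) := ⟨by norm_num⟩
  ext n
  simp only [Set.mem_range, Set.mem_insert_iff, Set.mem_singleton_iff]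
  constructor
  · rintro ⟨g, rfl⟩
    have hsub : ∀ m ∈ ({3, 4, 5} : Finset ℕ), m.divisors ⊆ {1, 2, 3, 4, 5} := by decide
    have hmem : ∀ m ∈ ({3, 4, 5} : Finset ℕ), g ^ m = 1 → orderOf g ∈ ({1, 2, 3, 4, 5} : Finset ℕ) := fun m hm h =>
      hsub m hm (Nat.mem_divisors.mpr ⟨orderOf_dvd_of_pow_eq_one h, fun e => by rw [e] at hm; simp at hm⟩)
    rcases hpow g with h | h | h
    · simpa using hmem 3 (by simp) h
    · simpa using hmem 4 (by simp) h
    · simpa using hmem 5 (by simp) h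
  · obtain ⟨a, ha⟩ := h2
    obtain ⟨b, hb⟩ := h3
    obtain ⟨c, hc⟩ := h4
    obtain ⟨d, hd⟩ := h5
    rintro (rfl | rfl | rfl | rfl | rfl)
    · exact ⟨1, orderOf_one⟩
    · exact ⟨a, orderOf_eq_prime ha.1 ha.2⟩
    · exact ⟨b, orderOf_eq_prime hb.1 hb.2⟩
    · exact ⟨c, orderOf_eq_prime_pow (p := 2) (n := 1) (by simpa using hc.2) (by simpa using hc.1)⟩
    · exact ⟨d, orderOf_eq_prime hd.1 hd.2⟩

theorem range_a6 : Set.range (orderOf : alternatingGroup (Fin 6) → ℕ) = {1, 2, 3, 4, 5} := by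
  obtain ⟨a, b, c, d, ha, hb, hc, hd⟩ := a6_wit
  exact range_eq a6_pow ⟨a, ha⟩ ⟨b, hb⟩ ⟨c, hc⟩ ⟨d, hd⟩

variable {F : Type*} [Field F] [Fintype F]

theorem range_ext (hF : Fintype.card F = 4) (k : ℕ) (hk : 0 < k) :
    Set.range (orderOf : Ext F k → ℕ) = {1, 2, 3, 4, 5} := by
  haveI : Fact (Nat.Prime 2) := ⟨Nat.prime_two⟩
  haveI : Fact (Nat.Prime 3) := ⟨by norm_num⟩
  haveI : Fact (Nat.Prime 5) := ⟨by norm_num⟩
  haveI : CharP F 2 := charP_of_card_eq_prime_pow (f := 2) hF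
  set π : Ext F k →* SpecialLinearGroup (Fin 2) F := SemidirectProduct.rightHom
  have hker : ∀ x : Ext F k, π x = 1 → x ^ 2 = 1 := by
    intro x hx
    have : x = SemidirectProduct.inl x.left := SemidirectProduct.ext (by simp) (by simpa [π] using hx)
    rw [this, ← map_pow, sq_inl, map_one]
  have hS : Nat.card (SpecialLinearGroup (Fin 2) F) = 60 := by
    rw [CfsgLib.SLCard.card_SL_two]; simp [hF]
  refine range_eq (fun h => ?_) ?_ ?_ ?_ ?_
  · have hodd : ∀ n : ℕ, (n = 3 ∨ n = 5) → (π h) ^ n = 1 → h ^ n = 1 ∨ (π h) ^ 2 = 1 := by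
      intro n hn e
      set t := h ^ n with ht
      by_cases h1 : t = 1
      · exact Or.inl h1
      right
      have ht1 : π t = 1 := by rw [ht, map_pow, e]
      have hcomm : h * t = t * h := (Commute.refl h).pow_right n
      have hfix := congrArg SemidirectProduct.left hcomm
      rw [SemidirectProduct.mul_left, SemidirectProduct.mul_left, show t.right = 1 from ht1, map_one,
        MulAut.one_apply, mul_comm h.left, mul_right_cancel_iff] at hfix
      obtain ⟨i, hi⟩ : ∃ i, (Multiplicative.toAdd t.left) i ≠ 0 := by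
        by_contra hcon
        push Not at hcon
        exact h1 (SemidirectProduct.ext (Multiplicative.toAdd.injective (funext hcon)) (by simpa [π] using ht1))
      exact sq_eq_one_of_fix _ _ hi (congrArg (fun w : W F k => Multiplicative.toAdd w i) hfix)
    have htwo : (π h) ^ 2 = 1 → h ^ 4 = 1 := fun e => by
      rw [show (4 : ℕ) = 2 * 2 from rfl, pow_mul]; exact hker _ (by rw [map_pow, e])
    rcases CfsgLib.SL2Orders.pow_cases_char_two (π h) with e | e | e
    · rw [hF] at e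
      rcases hodd 3 (Or.inl rfl) e with h' | h'
      · exact Or.inl h'
      · exact Or.inr (Or.inl (htwo h'))
    · rw [hF] at e
      rcases hodd 5 (Or.inr rfl) e with h' | h'
      · exact Or.inr (Or.inr h')
      · exact Or.inr (Or.inl (htwo h'))
    · exact Or.inr (Or.inl (htwo e))
  · obtain ⟨g, hg⟩ := exists_prime_orderOf_dvd_card' (G := SpecialLinearGroup (Fin 2) F) 2 (by rw [hS]; norm_num)
    refine ⟨SemidirectProduct.inr g, by rw [← map_pow, orderOf_dvd_iff_pow_eq_one.mp (dvd_of_eq hg), map_one], fun e => ?_⟩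
    rw [(map_eq_one_iff _ SemidirectProduct.inr_injective).mp e, orderOf_one] at hg
    norm_num at hg
  · obtain ⟨g, hg⟩ := exists_prime_orderOf_dvd_card' (G := SpecialLinearGroup (Fin 2) F) 3 (by rw [hS]; norm_num)
    refine ⟨SemidirectProduct.inr g, by rw [← map_pow, orderOf_dvd_iff_pow_eq_one.mp (dvd_of_eq hg), map_one], fun e => ?_⟩
    rw [(map_eq_one_iff _ SemidirectProduct.inr_injective).mp e, orderOf_one] at hg
    norm_num at hg
  · let g : SpecialLinearGroup (Fin 2) F := ⟨!![1, 1; 0, 1], by simp [Matrix.det_fin_two]⟩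
    refine ⟨⟨Multiplicative.ofAdd (fun _ => ![0, 1]), g⟩, ?_, fun e => ?_⟩
    · have hg : g ^ 2 = 1 := Subtype.ext (by
        show g.1 ^ 2 = 1
        rw [sq, show g.1 = !![1, 1; 0, 1] from rfl, Matrix.mul_fin_two, Matrix.one_fin_two]
        simp [CharTwo.add_self_eq_zero])
      rw [show (4 : ℕ) = 2 * 2 from rfl, pow_mul]
      exact hker _ (by rw [map_pow]; exact hg)
    · rw [pow_two] at e
      have h1 := congrFun (congrArg (fun w : Ext F k => (Multiplicative.toAdd w.left) ⟨0, hk⟩) e) 0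
      change (![0, 1] : Fin 2 → F) 0 + ((!![1, 1; 0, 1] : Matrix (Fin 2) (Fin 2) F) *ᵥ ![0, 1]) 0 = 0 at h1
      simp [Matrix.vecHead, Matrix.vecTail] at h1
  · obtain ⟨g, hg⟩ := exists_prime_orderOf_dvd_card' (G := SpecialLinearGroup (Fin 2) F) 5 (by rw [hS]; norm_num)
    refine ⟨SemidirectProduct.inr g, by rw [← map_pow, orderOf_dvd_iff_pow_eq_one.mp (dvd_of_eq hg), map_one], fun e => ?_⟩
    rw [(map_eq_one_iff _ SemidirectProduct.inr_injective).mp e, orderOf_one] at hg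
    norm_num at hg

def toM (x : Ext F 1) : Matrix.SpecialLinearGroup (Fin 3) F :=
  ⟨!![x.right.1 0 0, x.right.1 0 1, (Multiplicative.toAdd x.left) 0 0;
      x.right.1 1 0, x.right.1 1 1, (Multiplicative.toAdd x.left) 0 1;
      0, 0, 1], by
    have h := x.right.2
    rw [Matrix.det_fin_two] at h
    rw [Matrix.det_fin_three]
    simp
    linear_combination h⟩

omit [Fintype F] in
theorem toM_val (x : Ext F 1) : (toM x).1 =
    !![x.right.1 0 0, x.right.1 0 1, (Multiplicative.toAdd x.left) 0 0;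
      x.right.1 1 0, x.right.1 1 1, (Multiplicative.toAdd x.left) 0 1;
      0, 0, 1] := rfl

set_option maxHeartbeats 1000000 in
omit [Fintype F] in
theorem toM_mul (x y : Ext F 1) : toM (x * y) = toM x * toM y := by
  apply Subtype.ext
  rw [Matrix.SpecialLinearGroup.coe_mul, toM_val, toM_val, toM_val, Matrix.mul_fin_three]
  ext i j
  fin_cases i <;> fin_cases j <;>
    simp [Matrix.SpecialLinearGroup.coe_mul, Matrix.mul_apply, Fin.sum_univ_two, act, actFun_apply, Matrix.vecHead, Matrix.vecTail] <;> ring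

/-- Let F be the field with four elements. The affine group F² ⋊ SL(2,F), realised as the subgroup of SL(3,F) of matrices with last row (0, 0, 1), has exactly the same set of element orders as the alternating group of degree 6 (namely {1, 2, 3, 4, 5}); so the alternating group of degree 6 is not determined by its element orders. -/
theorem result {F : Type*} [Field F] [Fintype F] (hF : Fintype.card F = 4) :
    Set.range (orderOf : Subgroup.closure {M : Matrix.SpecialLinearGroup (Fin 3) F |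
        (M : Matrix (Fin 3) (Fin 3) F) 2 0 = 0 ∧ (M : Matrix (Fin 3) (Fin 3) F) 2 1 = 0 ∧ (M : Matrix (Fin 3) (Fin 3) F) 2 2 = 1} → ℕ) =
      Set.range (orderOf : alternatingGroup (Fin 6) → ℕ) := by
  classical
  haveI : CharP F 2 := by
    haveI : Fact (Nat.Prime 2) := ⟨Nat.prime_two⟩
    exact charP_of_card_eq_prime_pow (f := 2) hF
  rw [range_a6, ← range_ext hF 1 Nat.one_pos]
  set S := {M : Matrix.SpecialLinearGroup (Fin 3) F |
        (M : Matrix (Fin 3) (Fin 3) F) 2 0 = 0 ∧ (M : Matrix (Fin 3) (Fin 3) F) 2 1 = 0 ∧ (M : Matrix (Fin 3) (Fin 3) F) 2 2 = 1} with hS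
  let Φ : Ext F 1 →* Matrix.SpecialLinearGroup (Fin 3) F := MonoidHom.mk' toM toM_mul
  have hΦ : ∀ x, (Φ x).1 = _ := toM_val
  have hrange : (Φ.range : Set (Matrix.SpecialLinearGroup (Fin 3) F)) = S := by
    ext M
    constructor
    · rintro ⟨x, rfl⟩
      exact ⟨by rw [hΦ]; simp, by rw [hΦ]; simp, by rw [hΦ]; simp⟩
    · rintro ⟨h0, h1, h2⟩
      have hd := M.2
      rw [Matrix.det_fin_three] at hd
      refine ⟨⟨Multiplicative.ofAdd (fun _ => ![M.1 0 2, M.1 1 2]),
        ⟨!![M.1 0 0, M.1 0 1; M.1 1 0, M.1 1 1], by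
          rw [Matrix.det_fin_two]
          simp only [h0, h1, h2] at hd
          simp
          linear_combination hd⟩⟩, ?_⟩
      ext i j
      rw [hΦ]
      fin_cases i <;> fin_cases j <;> simp [h0, h1, h2]
  have hinj : Function.Injective Φ := by
    intro x y h
    have e : ∀ i j, (Φ x).1 i j = (Φ y).1 i j := fun i j => by rw [h]
    refine SemidirectProduct.ext (Multiplicative.toAdd.injective ?_) (Subtype.ext ?_)
    · funext i j
      obtain rfl : i = 0 := Subsingleton.elim _ _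
      fin_cases j
      · simpa [hΦ] using e 0 2
      · simpa [hΦ] using e 1 2
    · ext i j
      fin_cases i <;> fin_cases j
      · simpa [hΦ] using e 0 0
      · simpa [hΦ] using e 0 1
      · simpa [hΦ] using e 1 0
      · simpa [hΦ] using e 1 1
  have hcl : Subgroup.closure S = Φ.range := by rw [← hrange, Subgroup.closure_eq]
  rw [hcl]
  let eΦ := MonoidHom.ofInjective hinj
  ext n
  simp only [Set.mem_range]
  exact ⟨fun ⟨g, hg⟩ => ⟨eΦ.symm g, by rw [MulEquiv.orderOf_eq, hg]⟩, fun ⟨g, hg⟩ => ⟨eΦ g, by rw [MulEquiv.orderOf_eq, hg]⟩⟩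

end Cfsg.Agent.S3488
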