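import Cfsg.Statements.S3489
import Mathlib
import Cfsg.Agent.Lib.TwoS5

set_option autoImplicit false
open Cfsg

namespace Cfsg.Agent.S3489

open CfsgLib.TwoS5

local notation "GL4" => GL (Fin 4) (ZMod 7)

/-- Non-decreasing lists with parts at least `m` and sum at most `n`. -/
def sumLists : ℕ → ℕ → ℕ → List (List ℕ)
  | 0, _, _ => [[]]
  | f + 1, n, m => [] :: (((List.range (n + 1)).filter (fun k => decide (m ≤ k))).map
      fun k => (sumLists f (n - k) k).map (List.cons k)).flatten

theorem mem_sumLists : ∀ (f n m : ℕ) (l : List ℕ), l.Pairwise (· ≤ ·) → (∀ a ∈ l, m ≤ a) →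
    l.sum ≤ n → l.length ≤ f → l ∈ sumLists f n m
  | 0, n, m, l, _, _, _, hlen => by
      rw [List.eq_nil_of_length_eq_zero (Nat.le_zero.1 hlen)]; simp [sumLists]
  | f + 1, n, m, [], _, _, _, _ => by simp [sumLists]
  | f + 1, n, m, k :: t, hp, hm, hs, hlen => by
      rw [List.pairwise_cons] at hp
      rw [List.sum_cons] at hs
      have ih := mem_sumLists f (n - k) k t hp.2 hp.1 (by omega) (by simpa using hlen)
      refine List.mem_cons_of_mem _ (List.mem_flatten.2 ⟨_, List.mem_map.2 ⟨k, ?_, rfl⟩,
        List.mem_map.2 ⟨t, ih, rfl⟩⟩)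
      rw [List.mem_filter]
      exact ⟨List.mem_range.2 (by omega), by simpa using hm k (List.mem_cons_self)⟩

/-- The common spectrum. -/
def spec : List ℕ := [1, 2, 3, 4, 5, 6, 7, 8, 9, 10, 12, 15, 21]

theorem lists_check : ((sumLists 5 10 2).all fun l =>
    ((l.sum + l.length) % 2 == 1) || spec.contains (l.foldr Nat.lcm 1)) = true := by
  decide +kernel

theorem alt_spectrum : Set.range (orderOf : alternatingGroup (Fin 10) → ℕ) = {n | n ∈ spec} := by
  ext n
  constructor
  · rintro ⟨⟨σ, hσ⟩, rfl⟩
    show orderOf (⟨σ, hσ⟩ : alternatingGroup (Fin 10)) ∈ spec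
    rw [Subgroup.orderOf_mk]
    have hsum : σ.cycleType.sum ≤ 10 := by
      rw [σ.sum_cycleType]
      simpa using Finset.card_le_univ σ.support
    have hsign := Equiv.Perm.sign_of_cycleType σ
    rw [Equiv.Perm.mem_alternatingGroup.1 hσ] at hsign
    have heven : Even (σ.cycleType.sum + Multiset.card σ.cycleType) := by
      by_contra hodd
      rw [Nat.not_even_iff_odd] at hodd
      rw [hodd.neg_one_pow] at hsign
      exact absurd hsign (by decide)
    have hlen : Multiset.card σ.cycleType ≤ 5 := by
      have := Multiset.card_nsmul_le_sum (s := σ.cycleType) (a := 2)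
        (fun x hx => Equiv.Perm.two_le_of_mem_cycleType hx)
      rw [smul_eq_mul] at this
      omega
    set l := σ.cycleType.sort (· ≤ ·) with hl
    have hcoe : (l : Multiset ℕ) = σ.cycleType := Multiset.sort_eq _ _
    have hlcm : orderOf σ = l.foldr Nat.lcm 1 := by
      rw [← Equiv.Perm.lcm_cycleType, ← hcoe]
      induction l with
      | nil => rfl
      | cons a t ih => rw [← Multiset.cons_coe, Multiset.lcm_cons, List.foldr_cons, ← ih]; rfl
    have hmem : l ∈ sumLists 5 10 2 := by
      refine mem_sumLists 5 10 2 l (Multiset.pairwise_sort _ _) (fun a ha => ?_) ?_ ?_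
      · exact Equiv.Perm.two_le_of_mem_cycleType ((Multiset.mem_sort _).1 ha)
      · rw [← Multiset.sum_coe, hcoe]; exact hsum
      · rw [← Multiset.coe_card, hcoe]; exact hlen
    have h := List.all_eq_true.1 lists_check l hmem
    rw [← hcoe, Multiset.sum_coe, Multiset.coe_card, Nat.even_iff] at heven
    rw [hlcm]
    simpa [heven] using h
  · intro hn
    suffices h : ∀ m : Multiset ℕ, m.sum ≤ 10 → (∀ a ∈ m, 2 ≤ a) → Even (m.sum + Multiset.card m) →
        m.lcm = n → n ∈ Set.range (orderOf : alternatingGroup (Fin 10) → ℕ) by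
      simp only [spec, List.mem_cons, List.not_mem_nil, or_false, Set.mem_setOf_eq] at hn
      rcases hn with rfl | rfl | rfl | rfl | rfl | rfl | rfl | rfl | rfl | rfl | rfl | rfl | rfl
      · exact h 0 (by decide) (by decide) (by decide) (by decide)
      · exact h {2, 2} (by decide) (by decide) (by decide) (by decide)
      · exact h {3} (by decide) (by decide) (by decide) (by decide)
      · exact h {4, 2} (by decide) (by decide) (by decide) (by decide)
      · exact h {5} (by decide) (by decide) (by decide) (by decide)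
      · exact h {3, 2, 2} (by decide) (by decide) (by decide) (by decide)
      · exact h {7} (by decide) (by decide) (by decide) (by decide)
      · exact h {8, 2} (by decide) (by decide) (by decide) (by decide)
      · exact h {9} (by decide) (by decide) (by decide) (by decide)
      · exact h {5, 2, 2} (by decide) (by decide) (by decide) (by decide)
      · exact h {4, 6} (by decide) (by decide) (by decide) (by decide)
      · exact h {5, 3} (by decide) (by decide) (by decide) (by decide)
      · exact h {7, 3} (by decide) (by decide) (by decide) (by decide)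
    intro m h1 h2 h3 h4
    obtain ⟨σ, hσ⟩ := (Equiv.Perm.exists_with_cycleType_iff (α := Fin 10)).2 ⟨by simpa using h1, h2⟩
    refine ⟨⟨σ, Equiv.Perm.mem_alternatingGroup.2 ?_⟩, ?_⟩
    · rw [Equiv.Perm.sign_of_cycleType, hσ, h3.neg_one_pow]
    · rw [Subgroup.orderOf_mk, ← Equiv.Perm.lcm_cycleType, hσ, h4]

/-- The complement. -/
abbrev K : Type := ↥CfsgLib.TwoS5.C

/-- Its central involution. -/
def z : K := ⟨gG ^ 6, pow_mem gG_mem 6⟩

theorem z_comm (x : K) : z * x = x * z := by
  refine Subtype.ext (Units.ext ?_)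
  show (gG ^ 6).1 * (x : GL4).1 = (x : GL4).1 * (gG ^ 6).1
  rw [gG_six, neg_mul, mul_neg, one_mul, mul_one]

theorem z_sq : z * z = 1 := by
  refine Subtype.ext (Units.ext ?_)
  show (gG ^ 6).1 * (gG ^ 6).1 = 1
  rw [gG_six, neg_mul, mul_neg, neg_neg, one_mul]

theorem z_ne : z ≠ 1 := by
  intro h
  have h' := congrArg (fun k : K => (k : GL4).1 0 0) h
  have e : ((z : GL4)).1 = -1 := gG_six
  simp only [e, OneMemClass.coe_one, Units.val_one] at h'
  rw [Matrix.neg_apply, Matrix.one_apply_eq] at h'
  exact absurd h' (by decide)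

theorem eq_z_of_sq {x : K} (hx : x * x = 1) (hx1 : x ≠ 1) : x = z := by
  refine Subtype.ext (Units.ext ?_)
  refine Eq.trans ?_ gG_six.symm
  refine Matrix.ext_of_mulVec_single fun i => ?_
  set v : Fin 4 → ZMod 7 := Pi.single i 1 with hv
  have hxx : (x : GL4).1 * (x : GL4).1 = 1 := congrArg (fun k : K => (k : GL4).1) hx
  have := fixed_point_free x.2 (fun e => hx1 (Subtype.ext e)) (v := (x : GL4).1.mulVec v + v) (by
    rw [Matrix.mulVec_add, Matrix.mulVec_mulVec, hxx, Matrix.one_mulVec, add_comm])
  rw [Matrix.neg_mulVec, Matrix.one_mulVec]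
  exact eq_neg_of_add_eq_zero_left this

/-- Odd functions on the complement. -/
def Wsub : AddSubgroup (K → ZMod 3) where
  carrier := {f | ∀ x, f (z * x) = -f x}
  zero_mem' := fun x => by simp
  add_mem' := fun {a b} ha hb x => by rw [Pi.add_apply, Pi.add_apply, ha x, hb x]; abel
  neg_mem' := fun {a} ha x => by rw [Pi.neg_apply, Pi.neg_apply, ha x]

/-- The kernel. -/
abbrev Mod (N : ℕ) : Type := Multiplicative (↥Wsub × (Fin (N + 1) → Fin 4 → ZMod 7))

def shift (g : K) (f : ↥Wsub) : ↥Wsub :=
  ⟨fun x => f.1 (g⁻¹ * x), fun x => by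
    show f.1 (g⁻¹ * (z * x)) = -f.1 (g⁻¹ * x)
    rw [← mul_assoc, ← z_comm, mul_assoc]
    exact f.2 _⟩

theorem shift_mul (g h : K) (f : ↥Wsub) : shift (g * h) f = shift g (shift h f) :=
  Subtype.ext (funext fun x => by
    show f.1 ((g * h)⁻¹ * x) = f.1 (h⁻¹ * (g⁻¹ * x))
    rw [_root_.mul_inv_rev, mul_assoc])

theorem shift_one (f : ↥Wsub) : shift 1 f = f :=
  Subtype.ext (funext fun x => by show f.1 (1⁻¹ * x) = f.1 x; rw [inv_one, one_mul])

def actFun (N : ℕ) (g : K) (m : ↥Wsub × (Fin (N + 1) → Fin 4 → ZMod 7)) :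
    ↥Wsub × (Fin (N + 1) → Fin 4 → ZMod 7) :=
  (shift g m.1, fun i => (g : GL4).1.mulVec (m.2 i))

theorem actFun_mul (N : ℕ) (g h : K) (m : ↥Wsub × (Fin (N + 1) → Fin 4 → ZMod 7)) :
    actFun N (g * h) m = actFun N g (actFun N h m) :=
  Prod.ext (shift_mul g h m.1) (funext fun i => by
    show ((g * h : K) : GL4).1.mulVec (m.2 i) = (g : GL4).1.mulVec ((h : GL4).1.mulVec (m.2 i))
    rw [Matrix.mulVec_mulVec, Subgroup.coe_mul, Units.val_mul])

theorem actFun_one (N : ℕ) (m : ↥Wsub × (Fin (N + 1) → Fin 4 → ZMod 7)) : actFun N 1 m = m :=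
  Prod.ext (shift_one m.1) (funext fun i => by
    show ((1 : K) : GL4).1.mulVec (m.2 i) = m.2 i
    rw [OneMemClass.coe_one, Units.val_one, Matrix.one_mulVec])

def actEquiv (N : ℕ) (g : K) : MulAut (Mod N) :=
  AddEquiv.toMultiplicative
    { toFun := actFun N g
      invFun := actFun N g⁻¹
      left_inv := fun m => by rw [← actFun_mul, inv_mul_cancel, actFun_one]
      right_inv := fun m => by rw [← actFun_mul, mul_inv_cancel, actFun_one]
      map_add' := fun a b => Prod.ext (Subtype.ext (funext fun x => rfl))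
        (funext fun i => Matrix.mulVec_add (g : GL4).1 (a.2 i) (b.2 i)) }

def act (N : ℕ) : K →* MulAut (Mod N) where
  toFun := actEquiv N
  map_one' := MulEquiv.ext fun m => congrArg Multiplicative.ofAdd (actFun_one N m.toAdd)
  map_mul' g h := MulEquiv.ext fun m => congrArg Multiplicative.ofAdd (actFun_mul N g h m.toAdd)

theorem act_apply (N : ℕ) (g : K) (m : Mod N) :
    Multiplicative.toAdd (act N g m) = actFun N g (Multiplicative.toAdd m) := rfl

/-- The witness group. -/
abbrev Ext (N : ℕ) : Type := SemidirectProduct (Mod N) K (act N)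

instance (N : ℕ) : Finite (Ext N) := Finite.of_equiv _ SemidirectProduct.equivProd.symm

theorem pow_twentyone (N : ℕ) (m : Mod N) : m ^ 21 = 1 := by
  apply Multiplicative.toAdd.injective
  rw [toAdd_pow, toAdd_one]
  refine Prod.ext (Subtype.ext (funext fun x => ?_)) (funext fun i => funext fun j => ?_)
  · show (21 : ℕ) • (Multiplicative.toAdd m).1.1 x = 0
    rw [nsmul_eq_mul, show ((21 : ℕ) : ZMod 3) = 0 from by decide, zero_mul]
  · show (21 : ℕ) • (Multiplicative.toAdd m).2 i j = 0
    rw [nsmul_eq_mul, show ((21 : ℕ) : ZMod 7) = 0 from by decide, zero_mul]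

theorem kernel_order (N : ℕ) (m : Mod N) : orderOf m ∈ spec := by
  have h := orderOf_dvd_of_pow_eq_one (pow_twentyone N m)
  have := Nat.le_of_dvd (by norm_num) h
  have hpos := orderOf_pos_iff.2 (isOfFinOrder_of_finite m)
  interval_cases (orderOf m) <;> simp_all [spec]

theorem order_bound (N : ℕ) (x : Ext N) : orderOf x ∈ spec := by
  by_cases hg : x.right = 1
  · have hx : x = SemidirectProduct.inl x.left := SemidirectProduct.ext (by simp) (by simpa using hg)
    rw [hx, orderOf_injective _ SemidirectProduct.inl_injective]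
    exact kernel_order N _
  have hd : orderOf x.right ∈ ({1, 2, 3, 4, 5, 6, 8, 10, 12} : Set ℕ) := by
    rw [← Subgroup.orderOf_coe]; exact orders x.right.2
  set d := orderOf x.right with hdd
  have hd1 : d ≠ 1 := fun e => hg (orderOf_eq_one_iff.1 e)
  set t := x ^ d with ht
  have htr : t.right = 1 := by
    have : (SemidirectProduct.rightHom (x ^ d) : K) = 1 := by
      rw [map_pow]; exact pow_orderOf_eq_one x.right
    exact this
  have hcomm : x * t = t * x := (Commute.refl x).pow_right d
  have hfix : act N x.right t.left = t.left := by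
    have h := congrArg SemidirectProduct.left hcomm
    rwa [SemidirectProduct.mul_left, SemidirectProduct.mul_left, htr, map_one, MulAut.one_apply,
      mul_comm x.left, mul_right_cancel_iff] at h
  have hV : ∀ i, (Multiplicative.toAdd t.left).2 i = 0 := fun i =>
    fixed_point_free x.right.2 (fun e => hg (Subtype.ext e))
      (congrArg (fun m : Mod N => (Multiplicative.toAdd m).2 i) hfix)
  have ht3 : t.left ^ 3 = 1 := by
    apply Multiplicative.toAdd.injective
    rw [toAdd_pow, toAdd_one]
    refine Prod.ext (Subtype.ext (funext fun y => ?_)) (funext fun i => funext fun j => ?_)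
    · show (3 : ℕ) • (Multiplicative.toAdd t.left).1.1 y = 0
      rw [nsmul_eq_mul, show ((3 : ℕ) : ZMod 3) = 0 from by decide, zero_mul]
    · show (3 : ℕ) • (Multiplicative.toAdd t.left).2 i j = 0
      rw [hV i, Pi.zero_apply, smul_zero]
  have htinl : t = SemidirectProduct.inl t.left :=
    SemidirectProduct.ext (by simp) (by simpa using htr)
  have hox : orderOf x ∣ d * 3 := orderOf_dvd_of_pow_eq_one (by
    rw [pow_mul, ← ht, htinl, ← map_pow, ht3, map_one])
  have hdx : d ∣ orderOf x := orderOf_map_dvd SemidirectProduct.rightHom x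
  by_cases hev : 2 ∣ d
  · obtain ⟨k, hk⟩ := hev
    have hkz : x.right ^ k = z := by
      refine eq_z_of_sq (by rw [← pow_add, show k + k = d by omega, hdd, pow_orderOf_eq_one]) ?_
      refine pow_ne_one_of_lt_orderOf (fun e => ?_) ?_
      · subst e
        have := orderOf_pos x.right
        omega
      · have := orderOf_pos x.right
        omega
    have hzfix : act N z t.left = t.left := by
      rw [← hkz, map_pow]
      clear hkz hk
      induction k with
      | zero => simp
      | succ k ih => rw [pow_succ, MulAut.mul_apply, hfix, ih]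
    have ht0 : t = 1 := by
      rw [htinl]
      refine (map_eq_one_iff _ SemidirectProduct.inl_injective).2 ?_
      apply Multiplicative.toAdd.injective
      rw [toAdd_one]
      refine Prod.ext (Subtype.ext (funext fun y => ?_)) (funext hV)
      have h := congrArg (fun m : Mod N => (Multiplicative.toAdd m).1.1 (z * y)) hzfix
      simp only [act_apply, actFun, shift, inv_mul_cancel_left] at h
      rw [(Multiplicative.toAdd t.left).1.2 y] at h
      show (Multiplicative.toAdd t.left).1.1 y = 0
      revert h
      generalize (Multiplicative.toAdd t.left).1.1 y = a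
      revert a
      decide
    have heq : orderOf x = d := Nat.dvd_antisymm (orderOf_dvd_of_pow_eq_one ht0) hdx
    rw [heq]
    simp only [Set.mem_insert_iff, Set.mem_singleton_iff] at hd
    rcases hd with h | h | h | h | h | h | h | h | h <;> rw [h] <;> simp [spec]
  · simp only [Set.mem_insert_iff, Set.mem_singleton_iff] at hd
    have hcase : d = 3 ∨ d = 5 := by omega
    rcases hcase with h | h <;> rw [h] at hox hdx <;>
      (have := Nat.le_of_dvd (by norm_num) hox
       have hpos := orderOf_pos_iff.2 (isOfFinOrder_of_finite x)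
       interval_cases (orderOf x) <;> first | omega | simp [spec])

/-- The `W`-part of a power. -/
theorem pow_left (N : ℕ) (f : ↥Wsub) (g : K) (k : ℕ) :
    ((⟨Multiplicative.ofAdd (f, 0), g⟩ : Ext N) ^ k).right = g ^ k ∧
    ∀ y, (Multiplicative.toAdd ((⟨Multiplicative.ofAdd (f, 0), g⟩ : Ext N) ^ k).left).1.1 y =
      ∑ i ∈ Finset.range k, f.1 ((g ^ i)⁻¹ * y) := by
  induction k with
  | zero => exact ⟨by simp, fun y => by simp⟩
  | succ k ih =>
    refine ⟨by rw [pow_succ, SemidirectProduct.mul_right, ih.1, pow_succ], fun y => ?_⟩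
    rw [pow_succ, SemidirectProduct.mul_left, ih.1, Finset.sum_range_succ, ← ih.2 y, toAdd_mul,
      act_apply]
    rfl

/-- An element of order `3p`. -/
theorem exists_triple (N : ℕ) {p : ℕ} (hp : p.Prime) (hp2 : p ≠ 2) {g : K} (hg : orderOf g = p) :
    ∃ x : Ext N, orderOf x = p * 3 := by
  let δ : ↥Wsub := ⟨fun y => if y = 1 then 1 else if y = z then -1 else 0, fun y => by
    have e1 : z * y = 1 ↔ y = z := ⟨fun h => by
      calc y = z * z * y := by rw [z_sq, one_mul]
        _ = z := by rw [mul_assoc, h, mul_one], fun h => by rw [h, z_sq]⟩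
    have e2 : z * y = z ↔ y = 1 := mul_eq_left
    show (if z * y = 1 then (1 : ZMod 3) else if z * y = z then -1 else 0) =
      -(if y = 1 then 1 else if y = z then -1 else 0)
    simp only [e1, e2]
    by_cases h1 : y = 1 <;> by_cases h2 : y = z
    · exact absurd (h2.symm.trans h1) z_ne
    all_goals simp [h1, h2, z_ne, Ne.symm z_ne]⟩
  set x : Ext N := ⟨Multiplicative.ofAdd (δ, 0), g⟩ with hx
  refine ⟨x, ?_⟩
  have hd : p ∣ orderOf x := hg ▸ orderOf_map_dvd SemidirectProduct.rightHom x
  have hne : x ^ p ≠ 1 := by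
    intro e
    have h := (pow_left N δ g p).2 1
    rw [← hx, e, Finset.sum_eq_single 0] at h
    · simp [δ] at h
    · intro i hi hi0
      rw [Finset.mem_range] at hi
      have hgi : g ^ i ≠ 1 := pow_ne_one_of_lt_orderOf hi0 (hg ▸ hi)
      show (if (g ^ i)⁻¹ * 1 = 1 then (1 : ZMod 3) else if (g ^ i)⁻¹ * 1 = z then -1 else 0) = 0
      rw [mul_one, if_neg (fun h => hgi (inv_eq_one.1 h)), if_neg]
      intro h
      have h2 : (g ^ i) ^ 2 = 1 := by
        rw [← inv_inj, ← inv_pow, h, inv_one, sq, z_sq]
      rw [← pow_mul] at h2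
      have := orderOf_dvd_of_pow_eq_one h2
      rw [hg] at this
      rcases hp.dvd_mul.1 this with h' | h'
      · exact absurd (Nat.le_of_dvd (Nat.pos_of_ne_zero hi0) h') (by omega)
      · exact hp2 ((Nat.prime_dvd_prime_iff_eq hp Nat.prime_two).1 h')
    · intro h0
      exact absurd (Finset.mem_range.2 hp.pos) h0
  obtain ⟨c, hc⟩ := hd
  have hox : orderOf x ∣ p * 3 := by
    refine orderOf_dvd_of_pow_eq_one ?_
    have hr : (x ^ p).right = 1 := by rw [hx, (pow_left N δ g p).1, ← hg, pow_orderOf_eq_one]
    have htinl : x ^ p = SemidirectProduct.inl (x ^ p).left :=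
      SemidirectProduct.ext (by simp) (by simpa using hr)
    rw [pow_mul, htinl, ← map_pow]
    refine (map_eq_one_iff _ SemidirectProduct.inl_injective).2 ?_
    apply Multiplicative.toAdd.injective
    rw [toAdd_pow, toAdd_one]
    have hV : ∀ k : ℕ, (Multiplicative.toAdd (x ^ k).left).2 = 0 := by
      intro k
      induction k with
      | zero => simp
      | succ k ih =>
        rw [pow_succ, SemidirectProduct.mul_left, toAdd_mul, Prod.snd_add, ih, zero_add, act_apply]
        exact funext fun i => Matrix.mulVec_zero ((x ^ k).right : GL4).1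
    refine Prod.ext (Subtype.ext (funext fun y => ?_)) ?_
    · show (3 : ℕ) • (Multiplicative.toAdd (x ^ p).left).1.1 y = 0
      rw [nsmul_eq_mul, show ((3 : ℕ) : ZMod 3) = 0 from by decide, zero_mul]
    · show (3 : ℕ) • (Multiplicative.toAdd (x ^ p).left).2 = 0
      rw [hV p, smul_zero]
  rw [hc] at hox ⊢
  rcases (Nat.dvd_prime Nat.prime_three).1 (Nat.dvd_of_mul_dvd_mul_left hp.pos hox) with h | h
  · exfalso
    rw [h, mul_one] at hc
    exact hne (hc ▸ pow_orderOf_eq_one x)
  · rw [h]

theorem ext_spectrum (N : ℕ) : Set.range (orderOf : Ext N → ℕ) = {n | n ∈ spec} := by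
  ext n
  constructor
  · rintro ⟨x, rfl⟩; exact order_bound N x
  intro hn
  have hinr : ∀ g : K, orderOf g = n → n ∈ Set.range (orderOf : Ext N → ℕ) := fun g hg =>
    ⟨SemidirectProduct.inr g, by rw [orderOf_injective _ SemidirectProduct.inr_injective, hg]⟩
  have o12 : orderOf (⟨gG, gG_mem⟩ : K) = 12 := by rw [Subgroup.orderOf_mk, orderOf_gG]
  have o10 : orderOf (⟨g10, g10_mem⟩ : K) = 10 := by rw [Subgroup.orderOf_mk, orderOf_g10]
  have opow : ∀ {g : K} {a : ℕ}, orderOf g = a → ∀ k, k ∣ a → 0 < a →
      orderOf (g ^ (a / k)) = k := by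
    intro g a hg k hk ha
    obtain ⟨b, rfl⟩ := hk
    have hk0 : 0 < k := Nat.pos_of_mul_pos_right ha
    rw [Nat.mul_div_cancel_left _ hk0, orderOf_pow_of_dvd (Nat.pos_of_mul_pos_left ha).ne'
      (hg ▸ dvd_mul_left b k), hg, Nat.mul_div_cancel _ (Nat.pos_of_mul_pos_left ha)]
  simp only [spec, List.mem_cons, List.not_mem_nil, or_false, Set.mem_setOf_eq] at hn
  rcases hn with rfl | rfl | rfl | rfl | rfl | rfl | rfl | rfl | rfl | rfl | rfl | rfl | rfl
  · exact ⟨1, orderOf_one⟩
  · exact hinr _ (opow o12 2 (by norm_num) (by norm_num))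
  · exact hinr _ (opow o12 3 (by norm_num) (by norm_num))
  · exact hinr _ (opow o12 4 (by norm_num) (by norm_num))
  · exact hinr _ (opow o10 5 (by norm_num) (by norm_num))
  · exact hinr _ (opow o12 6 (by norm_num) (by norm_num))
  · refine ⟨SemidirectProduct.inl (Multiplicative.ofAdd (0, fun _ _ => 1)), ?_⟩
    rw [orderOf_injective _ SemidirectProduct.inl_injective, orderOf_ofAdd_eq_addOrderOf]
    haveI : Fact (Nat.Prime 7) := ⟨by norm_num⟩
    refine addOrderOf_eq_prime ?_ ?_
    · refine Prod.ext ?_ (funext fun i => funext fun j => ?_)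
      · rw [Prod.smul_fst, smul_zero]; rfl
      · show (7 : ℕ) • (1 : ZMod 7) = 0
        rw [nsmul_eq_mul, mul_one]; exact ZMod.natCast_self 7
    · intro e
      have := congrFun (congrFun (congrArg Prod.snd e) 0) 0
      exact absurd (show (1 : ZMod 7) = 0 from this) one_ne_zero
  · exact hinr ⟨g8, g8_mem⟩ (by rw [Subgroup.orderOf_mk, orderOf_g8])
  · exact exists_triple N Nat.prime_three (by norm_num) (opow o12 3 (by norm_num) (by norm_num))
  · exact hinr _ o10
  · exact hinr _ o12
  · exact exists_triple N Nat.prime_five (by norm_num) (opow o10 5 (by norm_num) (by norm_num))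
  · obtain ⟨f, hf⟩ : ∃ f : ↥Wsub, f.1 1 = 1 :=
      ⟨⟨fun y => if y = 1 then 1 else if y = z then -1 else 0, fun y => by
        have e1 : z * y = 1 ↔ y = z := ⟨fun h => by
          calc y = z * z * y := by rw [z_sq, one_mul]
            _ = z := by rw [mul_assoc, h, mul_one], fun h => by rw [h, z_sq]⟩
        have e2 : z * y = z ↔ y = 1 := mul_eq_left
        show (if z * y = 1 then (1 : ZMod 3) else if z * y = z then -1 else 0) =
          -(if y = 1 then 1 else if y = z then -1 else 0)
        simp only [e1, e2]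
        by_cases h1 : y = 1 <;> by_cases h2 : y = z
        · exact absurd (h2.symm.trans h1) z_ne
        all_goals simp [h1, h2, z_ne, Ne.symm z_ne]⟩, by show (if (1 : K) = 1 then (1 : ZMod 3) else if (1 : K) = z then -1 else 0) = 1; exact if_pos rfl⟩
    set m : Mod N := Multiplicative.ofAdd (f, fun _ _ => 1) with hm
    refine ⟨SemidirectProduct.inl m, ?_⟩
    rw [orderOf_injective _ SemidirectProduct.inl_injective]
    have h := orderOf_dvd_of_pow_eq_one (pow_twentyone N m)
    have h3 : ¬ orderOf m ∣ 3 := fun h => by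
      have := congrFun (congrFun (congrArg Prod.snd
        (congrArg Multiplicative.toAdd (orderOf_dvd_iff_pow_eq_one.1 h))) 0) 0
      exact absurd (show (3 : ℕ) • (1 : ZMod 7) = 0 from this) (by decide)
    have h7 : ¬ orderOf m ∣ 7 := fun h => by
      have := congrFun (congrArg Subtype.val (congrArg Prod.fst
        (congrArg Multiplicative.toAdd (orderOf_dvd_iff_pow_eq_one.1 h)))) (1 : K)
      have h' : (7 : ℕ) • f.1 1 = 0 := this
      rw [hf] at h'
      exact absurd h' (by decide)
    have := Nat.le_of_dvd (by norm_num) h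
    have hpos := orderOf_pos_iff.2 (isOfFinOrder_of_finite m)
    interval_cases (orderOf m) <;> omega

/-- The alternating group of degree 10 is not determined by its set of element orders, not even up to finitely many groups: for every bound N there is a finite group of order greater than N with exactly the same set of element orders as the alternating group of degree 10. -/
theorem result (N : ℕ) : ∃ (H : Type) (_ : Group H) (_ : Fintype H), N < Fintype.card H ∧ Set.range (orderOf : H → ℕ) = Set.range (orderOf : alternatingGroup (Fin 10) → ℕ) := by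
  classical
  haveI : Fact (Nat.Prime 7) := ⟨by norm_num⟩
  letI : Fintype (Ext N) := Fintype.ofFinite _
  refine ⟨Ext N, inferInstance, inferInstance, ?_, ?_⟩
  · rw [← Nat.card_eq_fintype_card]
    calc N < 2 ^ (N + 1) := lt_of_lt_of_le (by omega) Nat.lt_two_pow_self.le
      _ ≤ Nat.card (Fin (N + 1) → Fin 4 → ZMod 7) := by
          rw [Nat.card_fun, Nat.card_fin]
          exact Nat.pow_le_pow_left (by simp) _
      _ ≤ Nat.card (Ext N) := Nat.card_le_card_of_injective
          (fun v => SemidirectProduct.inl (Multiplicative.ofAdd ((0 : ↥Wsub), v))) (fun a b h => by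
            have := SemidirectProduct.inl_injective h
            exact congrArg Prod.snd (Multiplicative.ofAdd.injective this))
  · rw [alt_spectrum, ext_spectrum]

end Cfsg.Agent.S3489
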