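import Cfsg.Statements.S3491
import Mathlib
import Cfsg.Agent.S3488

set_option autoImplicit false
open Cfsg

namespace Cfsg.Agent.S3491

open CfsgLib.PrimeGraphExt

/-- The alternating group of degree 6 is not determined by its set of element orders, not even up to finitely many groups: for every bound N there is a finite group of order greater than N with exactly the same set of element orders as the alternating group of degree 6. -/
theorem result (N : ℕ) : ∃ (H : Type) (_ : Group H) (_ : Fintype H), N < Fintype.card H ∧ Set.range (orderOf : H → ℕ) = Set.range (orderOf : alternatingGroup (Fin 6) → ℕ) := by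
  classical
  haveI : Fact (Nat.Prime 2) := ⟨Nat.prime_two⟩
  letI : Fintype (GaloisField 2 2) := Fintype.ofFinite _
  have hF : Fintype.card (GaloisField 2 2) = 4 := by
    rw [← Nat.card_eq_fintype_card, GaloisField.card 2 2 (by norm_num)]; rfl
  obtain ⟨H, iG, iF, ⟨e⟩⟩ := exists_small (H := Ext (GaloisField 2 2) (N + 1))
  letI : Fintype H := Fintype.ofFinite H
  refine ⟨H, iG, inferInstance, ?_, ?_⟩
  · rw [← Nat.card_eq_fintype_card, Nat.card_congr e.toEquiv, card_ext, hF]
    calc N < 2 ^ (2 * (N + 1)) := lt_of_lt_of_le (by omega : N < 2 * (N + 1)) Nat.lt_two_pow_self.le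
      _ ≤ 4 ^ (2 * (N + 1)) := Nat.pow_le_pow_left (by norm_num) _
      _ ≤ _ := Nat.le_mul_of_pos_right _ Nat.card_pos
  · rw [Cfsg.Agent.S3488.range_a6, ← Cfsg.Agent.S3488.range_ext hF (N + 1) (Nat.succ_pos N)]
    ext n
    simp only [Set.mem_range]
    exact ⟨fun ⟨g, hg⟩ => ⟨e g, by rw [MulEquiv.orderOf_eq, hg]⟩, fun ⟨g, hg⟩ => ⟨e.symm g, by rw [MulEquiv.orderOf_eq, hg]⟩⟩

end Cfsg.Agent.S3491
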