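import Cfsg.Statements.S3492
import Cfsg.Agent.Lib.SzSquare.Main
-- import your own Cfsg.Agent.* helpers here

set_option autoImplicit false
open Cfsg

namespace Cfsg.Agent.S3492

/-- The direct product of two copies of the Suzuki group Sz(2⁷) is determined by its set of element orders: a finite group with exactly the same set of element orders is isomorphic to it. -/
theorem result {G : Type*} [Group G] [Finite G] {F : Type*} [Field F] [Fintype F] (hF : Fintype.card F = 2 ^ 7)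
    (h : Set.range (orderOf : G → ℕ) = Set.range (orderOf : Cfsg.Lie.Sz F (2 ^ 4) × Cfsg.Lie.Sz F (2 ^ 4) → ℕ)) :
    Nonempty (G ≃* Cfsg.Lie.Sz F (2 ^ 4) × Cfsg.Lie.Sz F (2 ^ 4)) := by
  obtain ⟨F', _, _, hF', ⟨e⟩⟩ := CfsgLib.SzSq.recognize (CfsgLib.SzSq.spec_of_range hF h)
  obtain ⟨τ⟩ := CfsgLib.SuzukiUnique.nonempty_lie_congr (m := 3) (F := F) (F' := F') (by norm_num) hF hF'
  have σ : ↥(Cfsg.Sz F' 3) ≃* ↥(Cfsg.Lie.Sz F (2 ^ 4)) :=
    (CfsgLib.Suzuki.lieEquiv (m := 3) hF' (by norm_num)).trans τ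
  exact ⟨e.trans (σ.prodCongr σ)⟩

end Cfsg.Agent.S3492
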