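import Cfsg.Statements.S3495
import Mathlib

set_option autoImplicit false
open Cfsg

namespace Cfsg.Agent.S3495



/-- Let a finite group G act faithfully and primitively on a finite set Ω with non-trivial point stabilizers, each acting primitively on every one of its orbits (an extremely primitive group), and suppose G has an elementary abelian normal p-subgroup N acting regularly on Ω (affine type). Then every non-trivial subgroup M of a point stabilizer G_α that is normal in G_α has the same orbits on Ω as G_α, and normalizes no subgroup of N other than 1 and N. -/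
theorem result {G : Type*} [Group G] [Finite G] {Ω : Type*} [Fintype Ω] [MulAction G Ω] [FaithfulSMul G Ω] (hprim : MulAction.IsPreprimitive G Ω) (hH : ∀ α : Ω, MulAction.stabilizer G α ≠ ⊥) (hep : ∀ (α : Ω) (ω : Ω), MulAction.IsPreprimitive (MulAction.stabilizer G α) (MulAction.orbit (MulAction.stabilizer G α) ω))
    (N : Subgroup G) [N.Normal] (hNc : IsMulCommutative N) (p : ℕ) (hp : p.Prime) (hNp : ∀ n ∈ N, n ^ p = 1)
    (hNtr : MulAction.IsPretransitive N Ω) (hNreg : ∀ ω : Ω, MulAction.stabilizer N ω = ⊥) (α : Ω) (M : Subgroup G) (hM : M ≠ ⊥) (hMle : M ≤ MulAction.stabilizer G α)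
    (hMn : MulAction.stabilizer G α ≤ Subgroup.normalizer (M : Set G)) :
    (∀ ω : Ω, MulAction.orbit M ω = MulAction.orbit (MulAction.stabilizer G α) ω) ∧
    (∀ L : Subgroup G, L ≤ N → M ≤ Subgroup.normalizer (L : Set G) → L = ⊥ ∨ L = N) := by
----
  classical
  haveI := hprim
  haveI := hNtr
  haveI : Nonempty Ω := ⟨α⟩
  haveI : Nontrivial Ω := by
    by_contra h
    rw [not_nontrivial_iff_subsingleton] at h
    refine hM (le_bot_iff.1 fun g _ => ?_)
    exact Subgroup.mem_bot.2 (FaithfulSMul.eq_of_smul_eq_smul fun ω : Ω => Subsingleton.elim _ _)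
  set H := MulAction.stabilizer G α with hHdef
  have hinj : ∀ n ∈ N, n • α = α → n = 1 := by
    intro n hn h
    have : (⟨n, hn⟩ : N) ∈ MulAction.stabilizer N α := MulAction.mem_stabilizer_iff.2 h
    rw [hNreg] at this
    exact congrArg Subtype.val (Subgroup.mem_bot.1 this)
  have hconj : ∀ h ∈ H, ∀ n : G, (h * n * h⁻¹) • α = h • (n • α) := by
    intro h hh n
    have : h⁻¹ • α = α := MulAction.mem_stabilizer_iff.1 (inv_mem hh)
    rw [mul_smul, mul_smul, this]
  have hdec : ∀ g : G, ∃ n ∈ N, ∃ h ∈ H, g = n * h := by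
    intro g
    obtain ⟨n, hn⟩ := MulAction.exists_smul_eq N α (g • α)
    refine ⟨n, n.2, (n : G)⁻¹ * g, MulAction.mem_stabilizer_iff.2 ?_, by group⟩
    rw [mul_smul, ← hn, show n • α = (n : G) • α from rfl, inv_smul_smul]
  have hNmin : ∀ L : Subgroup G, L ≤ N → (∀ h ∈ H, ∀ l ∈ L, h * l * h⁻¹ ∈ L) → L = ⊥ ∨ L = N := by
    intro L hLN hL
    rcases eq_or_ne L ⊥ with hb | hb
    · exact Or.inl hb
    right
    haveI : L.Normal := ⟨fun l hl g => by
      obtain ⟨n, hn, h, hh, rfl⟩ := hdec g
      have h1 := hL h hh l hl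
      have h2 : n * (h * l * h⁻¹) = (h * l * h⁻¹) * n := by
        have := hNc.is_comm.comm ⟨n, hn⟩ ⟨_, hLN h1⟩
        exact congrArg Subtype.val this
      have : n * h * l * (n * h)⁻¹ = h * l * h⁻¹ := by
        calc n * h * l * (n * h)⁻¹ = n * (h * l * h⁻¹) * n⁻¹ := by group
          _ = h * l * h⁻¹ := by rw [h2]; group
      rw [this]; exact h1⟩
    obtain ⟨l, hl, hl1⟩ :=
      (L.bot_or_exists_ne_one.resolve_left hb)
    haveI : MulAction.IsPretransitive L Ω := by
      refine MulAction.IsQuasiPreprimitive.isPretransitive_of_normal fun hfix => hl1 ?_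
      have : α ∈ MulAction.fixedPoints L Ω := by rw [hfix]; trivial
      exact hinj l (hLN hl) (MulAction.mem_fixedPoints.1 this ⟨l, hl⟩)
    refine le_antisymm hLN fun n hn => ?_
    obtain ⟨l', hl'⟩ := MulAction.exists_smul_eq L α (n • α)
    have h0 : (n⁻¹ * (l' : G)) • α = α := by
      rw [mul_smul]
      show n⁻¹ • (l' • α) = α
      rw [hl', inv_smul_smul]
    have := hinj _ (mul_mem (inv_mem hn) (hLN l'.2)) h0
    rw [inv_mul_eq_one] at this
    exact this ▸ l'.2
  have hMconj : ∀ h ∈ H, ∀ m ∈ M, h * m * h⁻¹ ∈ M := fun h hh m hm =>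
    ((Subgroup.mem_normalizer_iff).1 (hMn hh) m).1 hm
  -- `M` fixes no point but `α`
  have hfix : ∀ ω, (∀ m ∈ M, m • ω = ω) → ω = α := by
    intro ω hω
    let L : Subgroup G := N ⊓ Subgroup.centralizer (M : Set G)
    rcases hNmin L inf_le_left (fun h hh l hl => ⟨(inferInstance : N.Normal).conj_mem _ hl.1 h,
      Subgroup.mem_centralizer_iff.2 fun m hm => by
        have hm' := hMconj h⁻¹ (inv_mem hh) m hm
        rw [inv_inv] at hm'
        have := Subgroup.mem_centralizer_iff.1 hl.2 _ hm'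
        calc m * (h * l * h⁻¹) = h * ((h⁻¹ * m * h) * l) * h⁻¹ := by group
          _ = h * (l * (h⁻¹ * m * h)) * h⁻¹ := by rw [this]
          _ = h * l * h⁻¹ * m := by group⟩) with hL | hL
    · obtain ⟨n, hn⟩ := MulAction.exists_smul_eq N α ω
      suffices (n : G) ∈ L by
        rw [hL, Subgroup.mem_bot] at this
        rw [← hn, show n • α = (n : G) • α from rfl, this, one_smul]
      refine ⟨n.2, Subgroup.mem_centralizer_iff.2 fun m hm => ?_⟩
      have hn' : (n : G) • α = ω := hn
      have h0 : ((n : G)⁻¹ * (m * n * m⁻¹)) • α = α := by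
        rw [mul_smul, hconj m (hMle hm), hn', hω m hm, ← hn', inv_smul_smul]
      have := hinj _ (mul_mem (inv_mem n.2) ((inferInstance : N.Normal).conj_mem _ n.2 m)) h0
      rw [inv_mul_eq_one] at this
      calc m * (n : G) = (m * n * m⁻¹) * m := by group
        _ = n * m := by rw [← this]
    · exfalso
      refine hM (le_bot_iff.1 fun m hm => Subgroup.mem_bot.2 (FaithfulSMul.eq_of_smul_eq_smul fun x : Ω => ?_))
      obtain ⟨n, rfl⟩ := MulAction.exists_smul_eq N α x
      have hnL : (n : G) ∈ L := by rw [hL]; exact n.2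
      have := Subgroup.mem_centralizer_iff.1 hnL.2 m hm
      show m • ((n : G) • α) = (1 : G) • ((n : G) • α)
      rw [one_smul, ← mul_smul, this, mul_smul, MulAction.mem_stabilizer_iff.1 (hMle hm)]
  have horb : ∀ ω : Ω, MulAction.orbit M ω = MulAction.orbit H ω := by
    intro ω
    let M' : Subgroup H := M.subgroupOf H
    haveI : M'.Normal := ⟨fun m hm h => by
      rw [Subgroup.mem_subgroupOf] at hm ⊢
      push_cast
      exact hMconj h h.2 _ hm⟩
    apply Set.Subset.antisymm
    · rintro _ ⟨m, rfl⟩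
      exact ⟨⟨m, hMle m.2⟩, rfl⟩
    · by_cases hωα : ω = α
      · subst hωα
        rintro _ ⟨h, rfl⟩
        exact ⟨1, by show ((1 : M) : G) • ω = (h : G) • ω; rw [OneMemClass.coe_one, one_smul]; exact (MulAction.mem_stabilizer_iff.1 h.2).symm⟩
      haveI := hep α ω
      haveI : MulAction.IsPretransitive M' (MulAction.orbit H ω) := by
        refine MulAction.IsQuasiPreprimitive.isPretransitive_of_normal fun hall => hωα (hfix ω fun m hm => ?_)
        have hmem : (⟨ω, MulAction.mem_orbit_self ω⟩ : MulAction.orbit H ω) ∈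
            MulAction.fixedPoints M' (MulAction.orbit H ω) := by rw [hall]; trivial
        exact congrArg Subtype.val (MulAction.mem_fixedPoints.1 hmem ⟨⟨m, hMle hm⟩, hm⟩)
      intro y hy
      obtain ⟨m, hm⟩ := MulAction.exists_smul_eq M' (⟨ω, MulAction.mem_orbit_self ω⟩ : MulAction.orbit H ω) ⟨y, hy⟩
      exact ⟨⟨((m : H) : G), m.2⟩, congrArg Subtype.val hm⟩
  refine ⟨horb, fun L hLN hLn => hNmin L hLN fun h hh l hl => ?_⟩
  have : (h * l * h⁻¹) • α ∈ MulAction.orbit M (l • α) := by
    rw [horb, hconj h hh]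
    exact ⟨⟨h, hh⟩, rfl⟩
  obtain ⟨m, hm⟩ := this
  have hm' : ((m : G) * l * (m : G)⁻¹) • α = (h * l * h⁻¹) • α := by
    rw [hconj _ (hMle m.2)]; exact hm
  have hl' : (m : G) * l * (m : G)⁻¹ ∈ L := ((Subgroup.mem_normalizer_iff).1 (hLn m.2) l).1 hl
  have h1 : ((h * l * h⁻¹)⁻¹ * ((m : G) * l * (m : G)⁻¹)) • α = α := by
    rw [mul_smul, hm', inv_smul_smul]
  have := hinj _ (mul_mem (inv_mem ((inferInstance : N.Normal).conj_mem _ (hLN hl) h)) (hLN hl')) h1
  rw [inv_mul_eq_one] at this
  exact this ▸ hl'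

end Cfsg.Agent.S3495
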