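import Cfsg.Statements.S3496
import Mathlib
import Cfsg.Agent.Lib.Solvable.CoreFree
import Cfsg.Agent.Lib.Frobenius.Complement

set_option autoImplicit false
open Cfsg

namespace Cfsg.Agent.S3496

theorem card_le_of_pow {E : Type*} [CommRing E] [IsDomain E] [Finite E] {n : ℕ} (h1 : 1 < n)
    (h : ∀ x : E, x ^ n = x) : Nat.card E ≤ n := by
  classical
  have hdeg : (Polynomial.X ^ n - Polynomial.X : Polynomial E).natDegree = n := by
    rw [Polynomial.natDegree_sub_eq_left_of_natDegree_lt] <;> simp [h1]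
  have hne : (Polynomial.X ^ n - Polynomial.X : Polynomial E) ≠ 0 := fun h0 => by
    rw [h0, Polynomial.natDegree_zero] at hdeg; omega
  haveI := Fintype.ofFinite E
  rw [Nat.card_eq_fintype_card, ← Finset.card_univ]
  refine (Finset.card_le_card (t := (Polynomial.X ^ n - Polynomial.X : Polynomial E).roots.toFinset) ?_).trans ?_
  · intro x _
    rw [Multiset.mem_toFinset, Polynomial.mem_roots hne]
    simp [h x]
  · refine (Multiset.toFinset_card_le _).trans ((Polynomial.card_roots' _).trans ?_)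
    rw [hdeg]

theorem alg_hom_frob {p : ℕ} (hp : p.Prime) {E : Type*} [Field E] [Finite E] [Algebra (ZMod p) E]
    (σ : E →ₐ[ZMod p] E) : ∃ n : ℕ, ∀ x, σ x = x ^ (p ^ n) := by
  haveI := Fact.mk hp
  obtain ⟨n, hn⟩ := (FiniteField.bijective_frobeniusAlgHom_pow (ZMod p) E).2 σ
  refine ⟨n, fun x => ?_⟩
  rw [← hn]
  show (FiniteField.frobeniusAlgHom (ZMod p) E ^ (n : ℕ)) x = _
  induction (n : ℕ) generalizing x with
  | zero => simp
  | succ m ih => rw [pow_succ', AlgHom.mul_apply, ih]; simp [← pow_mul, pow_succ, ZMod.card]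

/-- An irreducible automorphism of a `p`-group of exponent `p`: Galois facts. -/
theorem galois {W : Type*} [AddCommGroup W] [Finite W] [Nontrivial W] {p : ℕ} (hp : p.Prime)
    [Module (ZMod p) W] (T : Module.End (ZMod p) W)
    (hirr : ∀ U : Submodule (ZMod p) W, (∀ u ∈ U, T u ∈ U) → U = ⊥ ∨ U = ⊤) :
    (∀ i, 0 < i → T ^ (p ^ i) = T → Nat.card W ≤ p ^ i) ∧
      (∀ (S : W ≃ₗ[ZMod p] W) (r : ℕ), LinearEquiv.conjAlgEquiv (ZMod p) S T = T ^ r → ∃ i, T ^ r = T ^ (p ^ i)) := by
  classical
  haveI := Fact.mk hp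
  haveI : Finite (Module.End (ZMod p) W) := Finite.of_injective (fun f => (f : W → W)) DFunLike.coe_injective
  letI E := Algebra.adjoin (ZMod p) ({T} : Set (Module.End (ZMod p) W))
  have hcomm : ∀ x y : E, x * y = y * x := by
    have h1 : E ≤ Subalgebra.centralizer (ZMod p) {T} := Algebra.adjoin_le (Set.singleton_subset_iff.mpr
      ((Subalgebra.mem_centralizer_iff (ZMod p)).mpr fun g hg => by rw [Set.mem_singleton_iff.mp hg]))
    have h2 : E ≤ Subalgebra.centralizer (ZMod p) (E : Set (Module.End (ZMod p) W)) := Algebra.adjoin_le (by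
      rintro _ rfl y hy
      exact ((Subalgebra.mem_centralizer_iff (ZMod p)).mp (h1 hy) _ rfl).symm)
    exact fun x y => Subtype.ext ((Subalgebra.mem_centralizer_iff (ZMod p)).mp (h2 y.2) x.1 x.2)
  letI : CommRing E := { (inferInstance : Ring E) with mul_comm := hcomm }
  have hT : T ∈ E := Algebra.subset_adjoin rfl
  have hker : ∀ x : E, x ≠ 0 → Function.Injective (x : Module.End (ZMod p) W) := by
    intro x hx
    rw [← LinearMap.ker_eq_bot]
    refine (hirr _ fun u hu => ?_).resolve_right fun h => hx (Subtype.ext (LinearMap.ker_eq_top.mp h))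
    have h1 : (x : Module.End (ZMod p) W) * T = T * x := congrArg Subtype.val (hcomm x ⟨T, hT⟩)
    rw [LinearMap.mem_ker] at hu ⊢
    rw [← Module.End.mul_apply, h1, Module.End.mul_apply, hu, map_zero]
  haveI : Nontrivial (Module.End (ZMod p) W) := inferInstance
  haveI : NoZeroDivisors E := ⟨fun {a b} h => by
    by_contra hc
    push Not at hc
    refine hc.2 (Subtype.ext (LinearMap.ext fun w => hker a hc.1 ?_))
    have h' : (a : Module.End (ZMod p) W) * (b : Module.End (ZMod p) W) = 0 := congrArg Subtype.val h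
    rw [← Module.End.mul_apply, h']
    simp⟩
  haveI : IsDomain E := NoZeroDivisors.to_isDomain E
  refine ⟨fun i hi hTi => ?_, fun S r hS => ?_⟩
  · have hfix : ∀ x : E, x ^ (p ^ i) = x := by
      intro x
      obtain ⟨x, hx⟩ := x
      induction hx using Algebra.adjoin_induction with
      | mem y hy => obtain rfl : y = T := hy; exact Subtype.ext hTi
      | algebraMap c =>
        exact Subtype.ext (by
          show (algebraMap (ZMod p) (Module.End (ZMod p) W) c) ^ p ^ i = _
          rw [← map_pow, ZMod.pow_card_pow])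
      | add a b ha hb iha ihb =>
        haveI : CharP E p := (Algebra.charP_iff (ZMod p) E p).mp inferInstance
        show (⟨a, ha⟩ + ⟨b, hb⟩ : E) ^ p ^ i = ⟨a, ha⟩ + ⟨b, hb⟩
        rw [add_pow_char_pow, iha, ihb]
      | mul a b ha hb iha ihb =>
        show (⟨a, ha⟩ * ⟨b, hb⟩ : E) ^ p ^ i = ⟨a, ha⟩ * ⟨b, hb⟩
        rw [mul_pow, iha, ihb]
    obtain ⟨w, hw⟩ := exists_ne (0 : W)
    have hsurj : Function.Surjective fun x : E => (x : Module.End (ZMod p) W) w := by
      let U : Submodule (ZMod p) W := (E.toSubmodule).map (LinearMap.applyₗ w)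
      have hU : U = ⊤ := (hirr U fun u hu => by
        obtain ⟨x, hx, rfl⟩ := hu
        exact ⟨T * x, E.mul_mem hT hx, rfl⟩).resolve_left fun h => hw (by
          have h1 : (1 : Module.End (ZMod p) W) w ∈ U := ⟨1, E.one_mem, rfl⟩
          rw [h, Submodule.mem_bot] at h1
          exact h1)
      intro v
      obtain ⟨x, hx, hxv⟩ := (hU ▸ Submodule.mem_top : v ∈ U)
      exact ⟨⟨x, hx⟩, hxv⟩
    refine (Nat.card_le_card_of_surjective _ hsurj).trans ?_
    have h1 : 1 < p ^ i := Nat.one_lt_pow (by omega) hp.one_lt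
    exact card_le_of_pow h1 hfix
  · letI : Field E := (Finite.isField_of_domain E).toField
    let A := LinearEquiv.conjAlgEquiv (ZMod p) S
    have hmaps : ∀ x ∈ E, A x ∈ E := fun x hx => by
      induction hx using Algebra.adjoin_induction with
      | mem y hy => obtain rfl : y = T := hy; rw [hS]; exact E.pow_mem hT r
      | algebraMap c => rw [AlgEquiv.commutes]; exact E.algebraMap_mem c
      | add a b _ _ ha hb => rw [map_add]; exact E.add_mem ha hb
      | mul a b _ _ ha hb => rw [map_mul]; exact E.mul_mem ha hb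
    let σ : E →ₐ[ZMod p] E := (A.toAlgHom.comp E.val).codRestrict E fun x => hmaps x x.2
    obtain ⟨n, hn⟩ := alg_hom_frob hp σ
    exact ⟨n, hS.symm.trans (congrArg Subtype.val (hn ⟨T, hT⟩))⟩

/-- A linear map from an additive endomorphism. -/
theorem exists_end {p : ℕ} {W : Type*} [AddCommGroup W] [Module (ZMod p) W] (f : W →+ W) :
    ∃ T : Module.End (ZMod p) W, ∀ w, T w = f w :=
  ⟨{ toFun := f, map_add' := f.map_add, map_smul' := fun c x => ZMod.map_smul f c x }, fun _ => rfl⟩

/-- The same from a commutative group of exponent `p`. -/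
theorem galois'' {W : Type*} [CommGroup W] [Finite W] [Nontrivial W] {p : ℕ} (hp : p.Prime)
    [Module (ZMod p) (Additive W)] (m : MulAut W)
    (hirr : ∀ U : Subgroup W, (∀ u ∈ U, m u ∈ U) → U = ⊥ ∨ U = ⊤) :
    (∀ i, 0 < i → m ^ (p ^ i) = m → Nat.card W ≤ p ^ i) ∧
      (∀ (h : MulAut W) (r : ℕ), h * m * h⁻¹ = m ^ r → ∃ i, m ^ r = m ^ (p ^ i)) := by
  obtain ⟨T, hT⟩ := exists_end (p := p) (MonoidHom.toAdditive m.toMonoidHom)
  have hT' : ∀ (k : ℕ) (x : Additive W), (T ^ k : Module.End (ZMod p) (Additive W)) x = Additive.ofMul ((m ^ k) (Additive.toMul x)) := by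
    intro k x
    induction k with
    | zero => simp
    | succ k ih => rw [pow_succ', pow_succ', Module.End.mul_apply, ih, hT]; rfl
  have hmk : ∀ a b, T ^ a = T ^ b → m ^ a = m ^ b := fun a b h => MulEquiv.ext fun w => by
    have := DFunLike.congr_fun h (Additive.ofMul w)
    rw [hT', hT'] at this
    exact Additive.ofMul.injective this
  obtain ⟨g1, g2⟩ := galois hp T (fun U hU => by
    let U' : Subgroup W := AddSubgroup.toSubgroup' U.toAddSubgroup
    rcases hirr U' (fun u hu => by
      have := hU (Additive.ofMul u) hu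
      rwa [hT] at this) with h | h
    · left
      rw [eq_bot_iff]
      intro x hx
      have : Additive.toMul x ∈ U' := hx
      rw [h, Subgroup.mem_bot] at this
      exact Additive.toMul.injective this
    · right
      rw [eq_top_iff]
      intro x _
      exact (show Additive.toMul x ∈ U' by rw [h]; exact Subgroup.mem_top _))
  refine ⟨fun i hi hm => ?_, fun h r hr => ?_⟩
  · refine g1 i hi (LinearMap.ext fun x => ?_)
    rw [hT', hm, hT]; rfl
  · obtain ⟨S₀, hS₀⟩ := exists_end (p := p) (MonoidHom.toAdditive h.toMonoidHom)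
    obtain ⟨S₁, hS₁⟩ := exists_end (p := p) (MonoidHom.toAdditive h⁻¹.toMonoidHom)
    let S : Additive W ≃ₗ[ZMod p] Additive W := LinearEquiv.ofLinear S₀ S₁
      (LinearMap.ext fun x => by
        rw [LinearMap.comp_apply, hS₀, hS₁]
        exact Additive.toMul.injective (show h (h⁻¹ (Additive.toMul x)) = _ by simp))
      (LinearMap.ext fun x => by
        rw [LinearMap.comp_apply, hS₀, hS₁]
        exact Additive.toMul.injective (show h⁻¹ (h (Additive.toMul x)) = _ by simp))
    obtain ⟨i, hi⟩ := g2 S r (LinearMap.ext fun x => by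
      rw [hT', ← hr, LinearEquiv.conjAlgEquiv_apply]
      show S₀ (T (S₁ x)) = _
      rw [hS₀, hT, hS₁]; rfl)
    exact ⟨i, hmk _ _ hi⟩

theorem arith {p d q i j : ℕ} (hp : p.Prime) (hq : q.Prime) (hjd : j ≤ d) (hi : 0 < i) (hid : i < d)
    (hcount : q * (p ^ j - 1) = p ^ d - 1) (hqi : q ∣ p ^ i - 1) (hqd : q ∣ p ^ d - 1) : False := by
  have h1 : ∀ k, 0 < k → 1 < p ^ k := fun k hk => Nat.one_lt_pow (by omega) hp.one_lt
  have hj0 : 0 < j := by
    by_contra h
    obtain rfl : j = 0 := by omega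
    have := h1 d (by omega)
    rw [pow_zero, Nat.sub_self, mul_zero] at hcount
    omega
  have hjd' : j < d := by
    refine lt_of_le_of_ne hjd ?_
    rintro rfl
    have := h1 _ hj0
    have := Nat.le_mul_of_pos_right 2 (show 0 < p ^ j - 1 by omega)
    have := Nat.mul_le_mul_right (p ^ j - 1) hq.two_le
    omega
  have hjdvd : j ∣ d := by
    have h := Nat.pow_sub_one_gcd_pow_sub_one p j d
    rw [Nat.gcd_eq_left (Dvd.intro_left q hcount)] at h
    have e : p ^ j = p ^ Nat.gcd j d := by
      have := h1 j hj0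
      have := h1 (Nat.gcd j d) (Nat.gcd_pos_of_pos_left _ hj0)
      omega
    exact (Nat.pow_right_injective hp.two_le e) ▸ Nat.gcd_dvd_right j d
  obtain ⟨g, hg⟩ : ∃ g, g = Nat.gcd i d := ⟨_, rfl⟩
  have hg0 : 0 < g := hg ▸ Nat.gcd_pos_of_pos_left _ hi
  have hqg : q ∣ p ^ g - 1 := by rw [hg, ← Nat.pow_sub_one_gcd_pow_sub_one]; exact Nat.dvd_gcd hqi hqd
  have hgi : g ≤ i := hg ▸ Nat.gcd_le_left _ hi
  have two : ∀ x, x ∣ d → x < d → 2 * x ≤ d := by
    rintro x ⟨k, rfl⟩ hx
    have : 2 ≤ k := by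
      by_contra hk
      interval_cases k <;> simp at hx
    calc 2 * x = x * 2 := by ring
      _ ≤ x * k := Nat.mul_le_mul_left x this
  have := two g (hg ▸ Nat.gcd_dvd_right i d) (by omega)
  have := two j hjdvd hjd'
  have hgt : q ≤ p ^ (d - j) := by
    refine (Nat.le_of_dvd (by have := h1 g hg0; omega) hqg).trans ((Nat.sub_le _ _).trans ?_)
    exact Nat.pow_le_pow_right hp.pos (by omega)
  have h4 := Nat.mul_le_mul_right (p ^ j - 1) hgt
  rw [hcount, Nat.mul_sub, ← pow_add, Nat.sub_add_cancel hjd, mul_one] at h4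
  have := h1 (d - j) (by omega)
  have := Nat.pow_le_pow_right hp.pos (Nat.sub_le d j)
  omega

theorem galois' {W : Type*} [CommGroup W] [Finite W] [Nontrivial W] {p : ℕ} (hp : p.Prime)
    (hexp : ∀ x : W, x ^ p = 1) (m : MulAut W)
    (hirr : ∀ U : Subgroup W, (∀ u ∈ U, m u ∈ U) → U = ⊥ ∨ U = ⊤) :
    (∀ i, 0 < i → m ^ (p ^ i) = m → Nat.card W ≤ p ^ i) ∧
      (∀ (h : MulAut W) (r : ℕ), h * m * h⁻¹ = m ^ r → ∃ i, m ^ r = m ^ (p ^ i)) := by
  letI : Module (ZMod p) (Additive W) :=
    AddCommGroup.zmodModule fun a => Additive.toMul.injective (hexp (Additive.toMul a))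
  exact galois'' hp m hirr

/-- The heart of the matter, for a group of automorphisms. -/
theorem core {H N : Type*} [Group H] [Finite H] [Nontrivial H] [Group.IsSolvable H] [CommGroup N] [Finite N]
    (c : H →* MulAut N) (hc : Function.Injective c) {p d : ℕ} (hp : p.Prime) (hd : 1 ≤ d)
    (hN : Nat.card N = p ^ d) (hexp : ∀ x : N, x ^ p = 1)
    (hirr : ∀ U : Subgroup N, (∀ (h : H), ∀ u ∈ U, c h u ∈ U) → U = ⊥ ∨ U = ⊤)
    (hkey : ∀ A : Subgroup H, A.Normal → ∀ x : N, x ≠ 1 →
      (∀ a ∈ A, c a x = x) ∨ ∀ h : H, ∃ a ∈ A, c a x = c h x) :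
    ∃ q : ℕ, q.Prime ∧ (∀ x : N, x ≠ 1 → Nat.card (Set.range fun h => c h x) = q) ∧
      q ∣ p ^ d - 1 ∧ (∀ i, 0 < i → i < d → ¬ q ∣ p ^ i - 1) ∧
      ∃ M : Subgroup H, M.Normal ∧ Nat.card M = q ∧ (∃ g : H, M ⊔ Subgroup.zpowers g = ⊤) ∧ Nat.card H ∣ q * d := by
  classical
  haveI : Nontrivial N := by
    rw [← Finite.one_lt_card_iff_nontrivial, hN]
    exact Nat.one_lt_pow (by omega) hp.one_lt
  have hmove : ∀ a : H, (∀ x, c a x = x) → a = 1 := fun a h => hc (by rw [map_one]; exact MulEquiv.ext h)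
  -- fixed points of a normal subgroup
  have hfixA : ∀ A : Subgroup H, A.Normal → A ≠ ⊥ → ∀ x : N, (∀ a ∈ A, c a x = x) → x = 1 := by
    intro A hAn hA x hx
    obtain ⟨a, ha⟩ := Subgroup.ne_bot_iff_exists_ne_one.mp hA
    let U : Subgroup N :=
      { carrier := {u | ∀ a ∈ A, c a u = u}
        mul_mem' := fun hu hv a ha => by rw [map_mul, hu a ha, hv a ha]
        one_mem' := fun a _ => map_one _
        inv_mem' := fun hu a ha => by rw [map_inv, hu a ha] }
    rcases hirr U (fun h u hu b hb => by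
      have := hu (h⁻¹ * b * h) (by simpa using hAn.conj_mem b hb h⁻¹)
      rw [map_mul, map_mul, MulAut.mul_apply, MulAut.mul_apply] at this
      have := congrArg (c h) this
      rwa [map_inv, MulAut.apply_inv_self] at this) with h | h
    · have : x ∈ U := hx
      rwa [h, Subgroup.mem_bot] at this
    · exact absurd (Subtype.ext (hmove a.1 fun y => (show y ∈ U by rw [h]; trivial) a.1 a.2)) ha
  -- abelian normal subgroups act regularly on the orbits
  have hreg : ∀ A : Subgroup H, A.Normal → A ≠ ⊥ → IsMulCommutative A → ∀ x : N, x ≠ 1 →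
      (∀ h : H, ∃ a ∈ A, c a x = c h x) ∧ ∀ a ∈ A, c a x = x → a = 1 := by
    intro A hAn hA hAc x hx
    have htr : ∀ y : N, y ≠ 1 → ∀ h : H, ∃ a ∈ A, c a y = c h y := fun y hy =>
      (hkey A hAn y hy).resolve_left fun h => hy (hfixA A hAn hA y h)
    refine ⟨htr x hx, fun a ha hax => ?_⟩
    have hall : ∀ h : H, c a (c h x) = c h x := by
      intro h
      obtain ⟨b, hb, hbx⟩ := htr x hx h
      rw [← hbx, ← MulAut.mul_apply, ← map_mul,
        show a * b = b * a from congrArg Subtype.val (hAc.is_comm.comm ⟨a, ha⟩ ⟨b, hb⟩), map_mul, MulAut.mul_apply, hax]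
    let U : Subgroup N :=
      { carrier := {u | ∀ h : H, c a (c h u) = c h u}
        mul_mem' := fun hu hv h => by rw [map_mul, map_mul, hu h, hv h]
        one_mem' := fun h => by rw [map_one, map_one]
        inv_mem' := fun hu h => by rw [map_inv, map_inv, hu h] }
    rcases hirr U (fun k u hu h => by have := hu (h * k); rwa [map_mul, MulAut.mul_apply] at this) with h | h
    · have : x ∈ U := hall
      rw [h, Subgroup.mem_bot] at this
      exact absurd this hx
    · refine hmove a fun y => ?_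
      have := (show y ∈ U by rw [h]; trivial) (1 : H)
      rwa [map_one, MulAut.one_apply] at this
  -- a minimal normal subgroup
  obtain ⟨M, hMn, -, hM0, hMc, -, q, hq, hMp⟩ := CfsgLib.CoreFree.exists_abelian_minimal (G := H) (N := ⊤) top_ne_bot
  obtain ⟨x₀, hx₀⟩ := exists_ne (1 : N)
  haveI := Fact.mk hq
  haveI := hMn
  have horb : ∀ x : N, x ≠ 1 → Nat.card (Set.range fun h => c h x) = Nat.card M := by
    intro x hx
    obtain ⟨h1, h2⟩ := hreg M hMn hM0 hMc x hx
    refine (Nat.card_congr (Equiv.ofBijective (fun a : M => (⟨c a x, a, rfl⟩ : Set.range fun h => c h x)) ⟨?_, ?_⟩)).symm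
    · intro a b hab
      have hab' : c a x = c b x := congrArg Subtype.val hab
      refine Subtype.ext (inv_mul_eq_one.mp (h2 _ (mul_mem (inv_mem a.2) b.2) ?_))
      rw [map_mul, MulAut.mul_apply, ← hab', map_inv, MulAut.inv_apply_self]
    · rintro ⟨y, h, rfl⟩
      obtain ⟨a, ha, hax⟩ := h1 h
      exact ⟨⟨a, ha⟩, Subtype.ext hax⟩
  -- it is cyclic of prime order
  have hcyc : IsCyclic M := by
    let φ : H →* MulAut N := c
    let Γ := N ⋊[φ] H
    haveI : Finite Γ := Finite.of_equiv _ SemidirectProduct.equivProd.symm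
    let V : Subgroup Γ := (SemidirectProduct.inl : N →* Γ).range
    haveI : V.Normal := by
      show (SemidirectProduct.inl : N →* Γ).range.Normal
      rw [SemidirectProduct.range_inl_eq_ker_rightHom]; infer_instance
    haveI : IsMulCommutative V := ⟨⟨fun ⟨_, a, ha⟩ ⟨_, b, hb⟩ => Subtype.ext (by
      subst ha hb; show _ * _ = _ * _; rw [← map_mul, ← map_mul, mul_comm])⟩⟩
    let A : Subgroup Γ := M.map SemidirectProduct.inr
    haveI : IsMulCommutative A := ⟨⟨fun ⟨_, a, ha, e1⟩ ⟨_, b, hb, e2⟩ => Subtype.ext (by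
      subst e1 e2; show _ * _ = _ * _
      rw [← map_mul, ← map_mul, show a * b = b * a from congrArg Subtype.val (hMc.is_comm.comm ⟨a, ha⟩ ⟨b, hb⟩)])⟩⟩
    have hV : V ≠ ⊥ := fun h => hx₀ (SemidirectProduct.inl_injective (φ := φ) (by
      have : (SemidirectProduct.inl x₀ : Γ) ∈ V := ⟨x₀, rfl⟩
      rw [h, Subgroup.mem_bot] at this
      rw [this, map_one]))
    have := CfsgLib.Frob.isCyclic_of_fpf_comm hV (A := A) (by rw [Subgroup.normalizer_eq_top]; exact le_top) (by
      rintro _ ⟨a, ha, rfl⟩ ha1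
      rw [eq_bot_iff]
      rintro _ ⟨⟨v, rfl⟩, hv⟩
      replace hv := Subgroup.mem_centralizer_singleton_iff.mp hv
      by_contra hv1
      rw [Subgroup.mem_bot] at hv1
      refine ha1 ?_
      have hfix : c a v = v := SemidirectProduct.inl_injective (φ := φ) (by
        rw [show c a = φ a from rfl, SemidirectProduct.inl_aut, ← hv]; simp)
      rw [(hreg M hMn hM0 hMc v (fun h => hv1 (by rw [h, map_one]))).2 a ha hfix, map_one])
    exact (MulEquiv.isCyclic (M.equivMapOfInjective _ SemidirectProduct.inr_injective)).mpr this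
  obtain ⟨m, hm⟩ := hcyc.exists_zpow_surjective
  have hmq : Nat.card M = q := by
    obtain ⟨a, ha⟩ := exists_prime_orderOf_dvd_card' (G := M) q (by
      obtain ⟨k, hk⟩ := hMp.exists_card_eq
      have h1 : 1 < Nat.card M := Finite.one_lt_card_iff_nontrivial.mpr (M.nontrivial_iff_ne_bot.mpr hM0)
      rw [hk] at h1 ⊢
      exact dvd_pow_self q fun e => by simp [e] at h1)
    -- the elements of order `q` form a normal subgroup
    let M1 : Subgroup H :=
      { carrier := {x | x ∈ M ∧ x ^ q = 1}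
        mul_mem' := fun {x y} hx hy => ⟨mul_mem hx.1 hy.1, by
          rw [(show Commute x y from congrArg Subtype.val (hMc.is_comm.comm ⟨x, hx.1⟩ ⟨y, hy.1⟩)).mul_pow, hx.2, hy.2, one_mul]⟩
        one_mem' := ⟨one_mem _, one_pow _⟩
        inv_mem' := fun hx => ⟨inv_mem hx.1, by rw [inv_pow, hx.2, inv_one]⟩ }
    have hM1n : M1.Normal := ⟨fun x hx h => ⟨hMn.conj_mem x hx.1 h, by rw [conj_pow, hx.2]; simp⟩⟩
    have ha1 : (a : H) ∈ M1 := ⟨a.2, by rw [← ha]; exact congrArg Subtype.val (pow_orderOf_eq_one a)⟩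
    have hM10 : M1 ≠ ⊥ := fun h => hq.ne_one (by
      rw [h, Subgroup.mem_bot] at ha1
      rw [← ha, show a = 1 from Subtype.ext ha1, orderOf_one])
    have hM1c : IsMulCommutative M1 := ⟨⟨fun x y => Subtype.ext
      (congrArg (Subtype.val : M → H) (hMc.is_comm.comm ⟨x, x.2.1⟩ ⟨y, y.2.1⟩))⟩⟩
    have hle : M ≤ M1 := by
      intro g hg
      obtain ⟨b, hb, hbx⟩ := (hreg M1 hM1n hM10 hM1c x₀ hx₀).1 g
      have := (hreg M hMn hM0 hMc x₀ hx₀).2 (g⁻¹ * b) (mul_mem (inv_mem hg) hb.1)
        (by rw [map_mul, MulAut.mul_apply, hbx, map_inv, MulAut.inv_apply_self])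
      rwa [inv_mul_eq_one.mp this]
    rw [← orderOf_eq_card_of_forall_mem_zpowers (g := m) fun x => hm x]
    refine ((Nat.dvd_prime hq).mp (orderOf_dvd_of_pow_eq_one (Subtype.ext (hle m.2).2))).resolve_left fun h => ?_
    have : (1 : M) = a := by
      obtain ⟨k, hk⟩ := hm a
      rw [← hk, orderOf_eq_one_iff.mp h]; simp
    rw [← this, orderOf_one] at ha
    exact hq.ne_one ha.symm
  have hmH : orderOf (m : H) = q := by
    rw [Subgroup.orderOf_coe, orderOf_eq_card_of_forall_mem_zpowers (g := m) fun x => hm x, hmq]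
  have hM : M = Subgroup.zpowers (m : H) :=
    (Subgroup.eq_of_le_of_card_ge (Subgroup.zpowers_le.mpr m.2) (by rw [Nat.card_zpowers, hmH, hmq])).symm
  have hqN : q ∣ p ^ d - 1 := by
    have hq' : orderOf (c (m : H)) = q := by rw [orderOf_injective c hc, hmH]
    let act : MulAction (Subgroup.zpowers (m : H)) N := MulAction.compHom N (c.comp (Subgroup.zpowers (m : H)).subtype)
    have hP : IsPGroup q (Subgroup.zpowers (m : H)) := IsPGroup.of_card (n := 1) (by rw [Nat.card_zpowers, hmH, pow_one])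
    have h1 := hP.card_modEq_card_fixedPoints N
    have h2 : MulAction.fixedPoints (Subgroup.zpowers (m : H)) N = {1} := by
      ext v
      refine ⟨fun hv => ?_, fun hv a => ?_⟩
      · exact hfixA M hMn hM0 v fun a ha => hv ⟨a, hM ▸ ha⟩
      · rw [Set.mem_singleton_iff] at hv; subst hv; exact map_one (c (a : H))
    rw [h2, Nat.card_coe_set_eq, Set.ncard_singleton, hN] at h1
    exact (Nat.modEq_iff_dvd' (Nat.one_le_pow _ _ hp.pos)).mp h1.symm
  -- the conjugation exponents
  have hexp' : ∀ h : H, ∃ r : ℕ, h * m * h⁻¹ = (m : H) ^ r := by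
    intro h
    have hmem : h * m * h⁻¹ ∈ Subgroup.zpowers (m : H) := hM ▸ hMn.conj_mem _ m.2 h
    obtain ⟨r, hr⟩ := (mem_powers_iff_mem_zpowers (x := (m : H))).mpr hmem
    exact ⟨r, hr.symm⟩
  have hcent : ∀ h : H, c h x₀ = x₀ → Commute h (m : H) → h = 1 := by
    intro h hhx hcm
    refine hmove h fun y => ?_
    let U' : Subgroup N :=
      { carrier := {u | ∀ g : H, c h (c g u) = c g u}
        mul_mem' := fun hu hv g => by rw [map_mul, map_mul, hu g, hv g]
        one_mem' := fun g => by rw [map_one, map_one]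
        inv_mem' := fun hu g => by rw [map_inv, map_inv, hu g] }
    have hUx' : x₀ ∈ U' := fun g => by
      obtain ⟨a, ha, hax⟩ := (hreg M hMn hM0 hMc x₀ hx₀).1 g
      obtain ⟨i, hi⟩ := (hM ▸ ha : a ∈ Subgroup.zpowers (m : H))
      rw [← hax, ← MulAut.mul_apply, ← map_mul, ← hi, (hcm.zpow_right i).eq, map_mul, MulAut.mul_apply, hhx]
    rcases hirr U' (fun k u hu g => by have := hu (g * k); rwa [map_mul, MulAut.mul_apply] at this) with h' | h'
    · rw [h', Subgroup.mem_bot] at hUx'
      exact absurd hUx' hx₀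
    · have := (show y ∈ U' by rw [h']; trivial) (1 : H)
      rwa [map_one, MulAut.one_apply] at this
  -- the divisibility condition
  have hord : ∀ i, 0 < i → i < d → ¬ q ∣ p ^ i - 1 := by
    intro i hi hid hqi
    by_cases hHM : M = ⊤
    · have h := (galois' hp hexp (c (m : H)) (fun U hU => hirr U fun h u hu => by
        have hh : h ∈ Subgroup.zpowers (m : H) := by rw [← hM, hHM]; exact Subgroup.mem_top h
        obtain ⟨k, rfl⟩ := (mem_powers_iff_mem_zpowers (x := (m : H))).mpr hh
        rw [map_pow]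
        induction k with
        | zero => simpa using hu
        | succ k ih => rw [pow_succ', MulAut.mul_apply]; exact hU _ (ih (Subgroup.mem_zpowers_iff.mpr ⟨k, zpow_natCast _ _⟩)))).1 i hi (by
          rw [← map_pow, ← Nat.sub_add_cancel (Nat.one_le_pow i p hp.pos), pow_succ,
            orderOf_dvd_iff_pow_eq_one.mp (hmH ▸ hqi), one_mul])
      rw [hN] at h
      exact absurd h (not_le.mpr (Nat.pow_lt_pow_right hp.one_lt hid))
    · obtain ⟨g, hg⟩ : ∃ g : H, g ∉ M := by
        by_contra hc'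
        push Not at hc'
        exact hHM (eq_top_iff.mpr fun x _ => hc' x)
      -- make it fix `x₀`
      obtain ⟨b, hb, hbx⟩ := (hreg M hMn hM0 hMc x₀ hx₀).1 g
      obtain ⟨h, hh⟩ : ∃ h, h = b⁻¹ * g := ⟨_, rfl⟩
      have hhx : c h x₀ = x₀ := by rw [hh, map_mul, MulAut.mul_apply, ← hbx, map_inv, MulAut.inv_apply_self]
      have hhM : h ∉ M := fun h' => hg (by have := mul_mem hb h'; rwa [hh, mul_inv_cancel_left] at this)
      obtain ⟨r, hr⟩ := hexp' h
      have hr1 : ∀ a ∈ M, h * a * h⁻¹ = a → a = 1 := by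
        intro a ha hac
        obtain ⟨k, rfl⟩ := (mem_powers_iff_mem_zpowers (x := (m : H))).mpr (hM ▸ ha)
        by_contra hk
        -- then `h` centralizes `M`
        have hgen : (m : H) ∈ Subgroup.zpowers ((m : H) ^ k) := by
          have : Subgroup.zpowers ((m : H) ^ k) = M := by
            refine Subgroup.eq_of_le_of_card_ge (Subgroup.zpowers_le.mpr (pow_mem m.2 k)) ?_
            rw [Nat.card_zpowers, hmq]
            have := orderOf_pow_dvd (x := (m : H)) k
            rw [hmH] at this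
            exact (((Nat.dvd_prime hq).mp this).resolve_left fun e => hk (orderOf_eq_one_iff.mp e)).ge
          rw [this]; exact m.2
        obtain ⟨j, hj⟩ := hgen
        have hcm : Commute h (m : H) := by
          rw [← hj]
          exact Commute.zpow_right (show Commute h ((m : H) ^ k) from mul_inv_eq_iff_eq_mul.mp hac) j
        exact hhM ((hcent h hhx hcm) ▸ one_mem M)
      let F : Subgroup N :=
        { carrier := {u | c h u = u}
          mul_mem' := fun {u v} (hu : c h u = u) (hv : c h v = v) => show c h (u * v) = u * v by rw [map_mul, hu, hv]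
          one_mem' := map_one _
          inv_mem' := fun {u} (hu : c h u = u) => show c h u⁻¹ = u⁻¹ by rw [map_inv, hu] }
      have hcount : q * (Nat.card F - 1) = p ^ d - 1 := by
        have hfun : ∀ a : M, ∀ x : {x : F // x ≠ 1}, c a (x.1 : N) ≠ 1 := fun a x e => x.2 (Subtype.ext
          ((c (a : H)).injective (by rw [e]; exact (map_one _).symm)))
        let Φ : M × {x : F // x ≠ 1} → {y : N // y ≠ 1} := fun ax => ⟨c ax.1 (ax.2.1 : N), hfun _ _⟩
        have hΦ : Function.Bijective Φ := by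
          refine ⟨fun ⟨a, x⟩ ⟨b, y⟩ e => ?_, fun ⟨y, hy⟩ => ?_⟩
          · have e' : c a (x.1 : N) = c b (y.1 : N) := congrArg Subtype.val e
            have hx : c h (x.1 : N) = x.1 := x.1.2
            have hy : c h (y.1 : N) = y.1 := y.1.2
            have h3 : c ((b : H)⁻¹ * a) (x.1 : N) = y.1 := by
              rw [map_mul, MulAut.mul_apply, e', map_inv, MulAut.inv_apply_self]
            have hd' : ((b : H)⁻¹ * a) ∈ M := mul_mem (inv_mem b.2) a.2
            have h4 : c (h * ((b : H)⁻¹ * a) * h⁻¹) (x.1 : N) = c ((b : H)⁻¹ * a) (x.1 : N) := by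
              rw [map_mul, map_mul, MulAut.mul_apply, MulAut.mul_apply, map_inv,
                show (c h)⁻¹ (x.1 : N) = x.1 by conv_lhs => rw [← hx, MulAut.inv_apply_self], h3, hy]
            have hxne : (x.1 : N) ≠ 1 := fun e => x.2 (Subtype.ext e)
            have h5 : ((b : H)⁻¹ * a)⁻¹ * (h * ((b : H)⁻¹ * a) * h⁻¹) = 1 :=
              (hreg M hMn hM0 hMc _ hxne).2 _ (mul_mem (inv_mem hd') (hMn.conj_mem _ hd' h))
                (by rw [map_mul, MulAut.mul_apply, h4, map_inv, MulAut.inv_apply_self])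
            have h6 := hr1 _ hd' (inv_mul_eq_one.mp h5).symm
            have hab : a = b := Subtype.ext (inv_mul_eq_one.mp h6).symm
            subst hab
            exact Prod.ext rfl (Subtype.ext (Subtype.ext ((c (a : H)).injective e')))
          · obtain ⟨b, hb, hby⟩ := (hreg M hMn hM0 hMc y hy).1 h
            -- solve `a (h a h⁻¹)⁻¹ = b⁻¹`
            have hbij : Function.Bijective fun a : M => (⟨(a : H)⁻¹ * (h * a * h⁻¹),
                mul_mem (inv_mem a.2) (hMn.conj_mem _ a.2 h)⟩ : M) := by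
              refine Finite.injective_iff_bijective.mp fun a a' e => ?_
              have e' : (a : H)⁻¹ * (h * a * h⁻¹) = (a' : H)⁻¹ * (h * a' * h⁻¹) := congrArg Subtype.val e
              refine Subtype.ext (inv_mul_eq_one.mp (hr1 _ (mul_mem (inv_mem a.2) a'.2) ?_))
              have hcom : ∀ u v : H, u ∈ M → v ∈ M → u * v = v * u := fun u v hu hv =>
                congrArg Subtype.val (hMc.is_comm.comm ⟨u, hu⟩ ⟨v, hv⟩)
              have hA : h * (a : H) * h⁻¹ ∈ M := hMn.conj_mem _ a.2 h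
              have e2 : h * (a' : H) * h⁻¹ = (a' : H) * ((a : H)⁻¹ * (h * a * h⁻¹)) := by rw [e']; group
              calc h * ((a : H)⁻¹ * a') * h⁻¹ = (h * a * h⁻¹)⁻¹ * (h * a' * h⁻¹) := by group
                _ = (h * a * h⁻¹)⁻¹ * (((a' : H) * (a : H)⁻¹) * (h * a * h⁻¹)) := by rw [e2]; group
                _ = (h * a * h⁻¹)⁻¹ * ((h * a * h⁻¹) * ((a' : H) * (a : H)⁻¹)) := by
                  rw [hcom _ _ (mul_mem a'.2 (inv_mem a.2)) hA]
                _ = _ := by rw [inv_mul_cancel_left, hcom _ _ (inv_mem a.2) a'.2]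
            obtain ⟨a, ha⟩ := hbij.2 ⟨b⁻¹, inv_mem hb⟩
            have ha' : (a : H)⁻¹ * (h * a * h⁻¹) = b⁻¹ := congrArg Subtype.val ha
            have hfix : c h (c a y) = c a y := by
              rw [← MulAut.mul_apply, ← map_mul, show h * (a : H) = (a : H) * b⁻¹ * h by rw [← ha']; group, map_mul,
                MulAut.mul_apply, ← hby, ← MulAut.mul_apply, ← map_mul, inv_mul_cancel_right]
            refine ⟨(a⁻¹, ⟨⟨c a y, hfix⟩, fun e => hy ((c (a : H)).injective ((congrArg Subtype.val e).trans (map_one _).symm))⟩), Subtype.ext ?_⟩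
            show c ((a⁻¹ : M) : H) (c a y) = y
            rw [Subgroup.coe_inv, map_inv, MulAut.inv_apply_self]
        have := Nat.card_congr (Equiv.ofBijective Φ hΦ)
        rw [Nat.card_prod, hmq] at this
        rw [show Nat.card {y : N // y ≠ 1} = p ^ d - 1 by
          haveI := Fintype.ofFinite N
          rw [Nat.card_eq_fintype_card, Fintype.card_subtype_compl, Fintype.card_subtype_eq, ← Nat.card_eq_fintype_card, hN]] at this
        rw [show Nat.card {x : F // x ≠ 1} = Nat.card F - 1 by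
          haveI := Fintype.ofFinite F
          rw [Nat.card_eq_fintype_card, Fintype.card_subtype_compl, Fintype.card_subtype_eq, ← Nat.card_eq_fintype_card]] at this
        exact this
      obtain ⟨j, hjd, hj⟩ := (Nat.dvd_prime_pow hp).mp (hN ▸ F.card_subgroup_dvd_card)
      rw [hj] at hcount
      exact arith hp hq hjd hi hid hcount hqi hqN
  -- the point stabilizer is a cyclic complement of `M`
  let S : Subgroup H :=
    { carrier := {g | c g x₀ = x₀}
      mul_mem' := fun {u v} (hu : c u x₀ = x₀) (hv : c v x₀ = x₀) => show c (u * v) x₀ = x₀ by rw [map_mul, MulAut.mul_apply, hv, hu]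
      one_mem' := show c (1 : H) x₀ = x₀ by rw [map_one, MulAut.one_apply]
      inv_mem' := fun {u} (hu : c u x₀ = x₀) => show c u⁻¹ x₀ = x₀ by
        conv_lhs => rw [← hu, map_inv, MulAut.inv_apply_self] }
  have hsplit : ∀ x : H, ∃ b ∈ M, b⁻¹ * x ∈ S := fun x => by
    obtain ⟨b, hb, hbx⟩ := (hreg M hMn hM0 hMc x₀ hx₀).1 x
    exact ⟨b, hb, show c (b⁻¹ * x) x₀ = x₀ by rw [map_mul, MulAut.mul_apply, ← hbx, map_inv, MulAut.inv_apply_self]⟩
  have hcardH : Nat.card H = q * Nat.card S := by
    rw [← hmq, ← Nat.card_prod]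
    refine (Nat.card_congr (Equiv.ofBijective (fun as : M × S => (as.1 : H) * as.2) ⟨fun ⟨a, s⟩ ⟨b, t⟩ e => ?_, fun x => ?_⟩)).symm
    · have e' : (b : H)⁻¹ * a = (t : H) * (s : H)⁻¹ := by
        have e0 : (a : H) * s = b * t := e
        rw [show (b : H)⁻¹ * a = (b : H)⁻¹ * ((a : H) * s) * (s : H)⁻¹ by group, e0]; group
      have hab : a = b := Subtype.ext (inv_mul_eq_one.mp ((hreg M hMn hM0 hMc x₀ hx₀).2 _ (mul_mem (inv_mem b.2) a.2)
        (e' ▸ S.mul_mem t.2 (S.inv_mem s.2)))).symm
      subst hab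
      exact Prod.ext rfl (Subtype.ext (mul_left_cancel e))
    · obtain ⟨b, hb, hbx⟩ := hsplit x
      exact ⟨(⟨b, hb⟩, ⟨_, hbx⟩), mul_inv_cancel_left b x⟩
  haveI := hMn
  have hScyc : IsCyclic S := by
    let ψ : S →* MulAut M := MulAut.conjNormal.comp S.subtype
    have hψ : Function.Injective ψ := by
      rw [injective_iff_map_eq_one]
      intro s hs
      refine Subtype.ext (hcent s s.2 ?_)
      have := congrArg Subtype.val (DFunLike.congr_fun hs m)
      change (s : H) * m * (s : H)⁻¹ = m at this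
      exact mul_inv_eq_iff_eq_mul.mp this
    haveI : IsCyclic M := hcyc
    haveI : IsCyclic (MulAut M) := by
      rw [(IsCyclic.mulAutMulEquiv M).isCyclic, hmq]
      exact ZMod.isCyclic_units_prime hq
    exact isCyclic_of_injective ψ hψ
  obtain ⟨g, hg⟩ := hScyc.exists_zpow_surjective
  have hSd : Nat.card S ∣ d := by
    rw [← orderOf_eq_card_of_forall_mem_zpowers (g := g) fun x => hg x, ← Subgroup.orderOf_coe]
    refine orderOf_dvd_of_pow_eq_one ?_
    obtain ⟨r, hr⟩ := hexp' g
    have hirrm : ∀ U : Subgroup N, (∀ u ∈ U, c (m : H) u ∈ U) → U = ⊥ ∨ U = ⊤ := by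
      intro U hU
      obtain ⟨i, hid, hi⟩ := (Nat.dvd_prime_pow hp).mp (hN ▸ U.card_subgroup_dvd_card)
      rcases Nat.eq_zero_or_pos i with rfl | hi0
      · exact Or.inl (Subgroup.card_eq_one.mp (by rw [hi, pow_zero]))
      · rcases hid.eq_or_lt with rfl | hlt
        · exact Or.inr (Subgroup.eq_top_of_card_eq _ (by rw [hi, hN]))
        · exfalso
          refine hord i hi0 hlt ?_
          have hpow : ∀ a ∈ Subgroup.zpowers (m : H), ∀ u ∈ U, c a u ∈ U := by
            intro a ha u hu
            obtain ⟨k, rfl⟩ := (mem_powers_iff_mem_zpowers (x := (m : H))).mpr ha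
            simp only [map_pow]
            induction k with
            | zero => simpa using hu
            | succ k ih => rw [pow_succ', MulAut.mul_apply]; exact hU _ (ih (Subgroup.mem_zpowers_iff.mpr ⟨k, zpow_natCast _ _⟩))
          let act : MulAction (Subgroup.zpowers (m : H)) U :=
            { smul := fun a u => ⟨c a u, hpow a a.2 u u.2⟩
              one_smul := fun u => Subtype.ext (show c ((1 : Subgroup.zpowers (m : H)) : H) (u : N) = u by simp)
              mul_smul := fun a b u => Subtype.ext (show c ((a * b : Subgroup.zpowers (m : H)) : H) (u : N) = c (a : H) (c (b : H) u) by simp) }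
          have hP : IsPGroup q (Subgroup.zpowers (m : H)) := IsPGroup.of_card (n := 1) (by rw [Nat.card_zpowers, hmH, pow_one])
          have h1 := hP.card_modEq_card_fixedPoints U
          have h2 : MulAction.fixedPoints (Subgroup.zpowers (m : H)) U = {1} := by
            ext v
            refine ⟨fun hv => Subtype.ext ?_, fun hv a => ?_⟩
            · exact hfixA M hMn hM0 v fun a ha => congrArg Subtype.val (hv ⟨a, hM ▸ ha⟩)
            · rw [Set.mem_singleton_iff] at hv; subst hv; exact Subtype.ext (map_one (c (a : H)))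
          rw [h2, Nat.card_coe_set_eq, Set.ncard_singleton, hi] at h1
          exact (Nat.modEq_iff_dvd' (Nat.one_le_pow _ _ hp.pos)).mp h1.symm
    obtain ⟨i, hi⟩ := (galois' hp hexp (c (m : H)) hirrm).2 (c g) r (by rw [← map_inv, ← map_mul, ← map_mul, hr, map_pow])
    have hgm : (g : H) * m * (g : H)⁻¹ = (m : H) ^ (p ^ i) := by rw [hr]; exact hc (by rw [map_pow, map_pow, hi])
    have hit : ∀ k, (g : H) ^ k * m * ((g : H) ^ k)⁻¹ = (m : H) ^ (p ^ (i * k)) := by
      intro k
      induction k with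
      | zero => simp
      | succ k ih =>
        calc (g : H) ^ (k + 1) * m * ((g : H) ^ (k + 1))⁻¹
            = (g : H) * ((g : H) ^ k * m * ((g : H) ^ k)⁻¹) * (g : H)⁻¹ := by rw [pow_succ']; group
          _ = (m : H) ^ (p ^ (i * (k + 1))) := by rw [ih, ← conj_pow, hgm, ← pow_mul, ← pow_add]; ring_nf
    refine hcent _ (S.pow_mem g.2 d) (mul_inv_eq_iff_eq_mul.mp ((hit d).trans ?_))
    rw [← Nat.sub_add_cancel (Nat.one_le_pow (i * d) p hp.pos), pow_succ, orderOf_dvd_iff_pow_eq_one.mp
      (hmH ▸ hqN.trans (by rw [mul_comm]; exact Nat.pow_sub_one_dvd_pow_sub_one p (dvd_mul_right d i))), one_mul]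
  refine ⟨q, hq, fun x hx => (horb x hx).trans hmq, hqN, hord, M, hMn, hmq, ⟨g, ?_⟩, hcardH ▸ Nat.mul_dvd_mul_left q hSd⟩
  rw [eq_top_iff]
  intro x _
  obtain ⟨b, hb, hbx⟩ := hsplit x
  obtain ⟨k, hk⟩ := hg ⟨_, hbx⟩
  rw [show x = b * (b⁻¹ * x) by group]
  exact Subgroup.mul_mem_sup hb (Subgroup.mem_zpowers_iff.mpr ⟨k, congrArg Subtype.val hk⟩)


/-- The soluble extremely primitive groups. Let a finite solvable group G act faithfully and primitively on a finite set Ω with p ^ d points (p prime), with non-trivial point stabilizers each acting primitively on every one of its orbits. Then there is a prime q such that every orbit of a point stabilizer G_α other than {α} has exactly q points, q divides p ^ d − 1 but no p ^ i − 1 with 0 < i < d, and G_α has a normal subgroup T of order q with G_α generated by T and one further element and the order of G_α dividing q·d (so G_α is cyclic of order q, or an extension of T by a cyclic group of order dividing d). -/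
theorem result {G : Type*} [Group G] [Finite G] {Ω : Type*} [Fintype Ω] [MulAction G Ω] [FaithfulSMul G Ω] [Group.IsSolvable G] (p d : ℕ) (hp : p.Prime) (hcard : Fintype.card Ω = p ^ d)
    (hprim : MulAction.IsPreprimitive G Ω) (hH : ∀ α : Ω, MulAction.stabilizer G α ≠ ⊥) (hep : ∀ (α : Ω) (ω : Ω), MulAction.IsPreprimitive (MulAction.stabilizer G α) (MulAction.orbit (MulAction.stabilizer G α) ω)) (α : Ω) :
    ∃ q : ℕ, q.Prime ∧ (∀ ω : Ω, ω ≠ α → Nat.card (MulAction.orbit (MulAction.stabilizer G α) ω) = q) ∧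
      q ∣ p ^ d - 1 ∧ (∀ i : ℕ, 0 < i → i < d → ¬ q ∣ p ^ i - 1) ∧
      ∃ T : Subgroup G, T ≤ MulAction.stabilizer G α ∧ MulAction.stabilizer G α ≤ Subgroup.normalizer (T : Set G) ∧ Nat.card T = q ∧
        (∃ h : G, MulAction.stabilizer G α = T ⊔ Subgroup.zpowers h) ∧ Nat.card (MulAction.stabilizer G α) ∣ q * d := by
  classical
  haveI := hprim
  obtain ⟨U, hU⟩ : ∃ U, U = MulAction.stabilizer G α := ⟨_, rfl⟩
  haveI : Nontrivial Ω := by
    by_contra h
    rw [not_nontrivial_iff_subsingleton] at h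
    refine hH α (eq_bot_iff.mpr fun g _ => FaithfulSMul.eq_of_smul_eq_smul (α := Ω) fun a => ?_)
    exact Subsingleton.elim _ _
  have hUmax : IsCoatom U := hU ▸ MulAction.IsPreprimitive.isCoatom_stabilizer_of_isPreprimitive G α
  have hcore : U.normalCore = ⊥ := by
    rw [eq_bot_iff]
    intro g hg
    refine FaithfulSMul.eq_of_smul_eq_smul (α := Ω) fun a => ?_
    obtain ⟨k, rfl⟩ := MulAction.exists_smul_eq G α a
    have := U.normalCore_le ((Subgroup.normalCore_normal U).conj_mem g hg k⁻¹)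
    rw [inv_inv, hU, MulAction.mem_stabilizer_iff, mul_smul, mul_smul, inv_smul_eq_iff] at this
    rw [one_smul]; exact this
  have hGtop : (⊤ : Subgroup G) ≠ ⊥ := fun h => hH α (eq_bot_iff.mpr (h ▸ le_top))
  obtain ⟨N, hNn, -, hN0, hNab, -, r, hr, hNp⟩ := CfsgLib.CoreFree.exists_abelian_minimal (N := (⊤ : Subgroup G)) hGtop
  obtain ⟨hcN, hcompl, hmin, hinf⟩ := CfsgLib.CoreFree.abelian_minimal hUmax hcore hN0 hNab
  haveI := hNn
  let e : N → Ω := fun x => (x : G) • α
  have he : Function.Bijective e := by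
    refine ⟨fun a b hab => ?_, fun ω => ?_⟩
    · have h1 : ((b : G)⁻¹ * a) ∈ U := by
        rw [hU, MulAction.mem_stabilizer_iff, mul_smul, inv_smul_eq_iff]; exact hab
      have h2 := Subgroup.disjoint_def.mp hcompl.disjoint (mul_mem (inv_mem b.2) a.2) h1
      exact Subtype.ext (inv_mul_eq_one.mp h2).symm
    · obtain ⟨g, rfl⟩ := MulAction.exists_smul_eq G α ω
      obtain ⟨⟨a, u⟩, hau⟩ := hcompl.2 g
      refine ⟨a, ?_⟩
      have hu : (u : G) • α = α := MulAction.mem_stabilizer_iff.mp (hU ▸ u.2)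
      show (a : G) • α = g • α
      rw [← hau, mul_smul, hu]
  have hNcard : Nat.card N = p ^ d := by rw [Nat.card_congr (Equiv.ofBijective e he), Nat.card_eq_fintype_card, hcard]
  have hd : 1 ≤ d := by
    by_contra h
    obtain rfl : d = 0 := by omega
    rw [pow_zero] at hNcard
    exact hN0 (Subgroup.card_eq_one.mp hNcard)
  obtain ⟨hNab', r', hr', hNexp⟩ := CfsgLib.minimal_normal_elementary hN0 inferInstance (fun K hK hKN => hmin K hK hKN)
  obtain rfl : r' = p := by
    obtain ⟨x, hx⟩ := Subgroup.ne_bot_iff_exists_ne_one.mp hN0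
    have h1 : orderOf (x : G) ∣ r' := orderOf_dvd_of_pow_eq_one (hNexp x x.2)
    have h2 : orderOf (x : G) ∣ p ^ d := hNcard ▸ Subgroup.orderOf_dvd_natCard N x.2
    have h3 : orderOf (x : G) = r' := ((Nat.dvd_prime hr').mp h1).resolve_left fun h => hx (Subtype.ext (orderOf_eq_one_iff.mp h))
    rw [h3] at h2
    exact (Nat.prime_dvd_prime_iff_eq hr' hp).mp (hr'.dvd_of_dvd_pow h2)
  letI : CommGroup N := { (inferInstance : Group N) with mul_comm := fun a b => hNab.is_comm.comm a b }
  let c : U →* MulAut N := MulAut.conjNormal.comp U.subtype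
  have hce : ∀ (h : U) (x : N), e (c h x) = (h : G) • e x := fun h x => by
    have hh : (h : G) • α = α := MulAction.mem_stabilizer_iff.mp (hU ▸ h.2)
    show ((h : G) * x * (h : G)⁻¹) • α = (h : G) • (x : G) • α
    rw [mul_smul, mul_smul, inv_smul_eq_iff.mpr hh.symm]
  haveI : Nontrivial U := (Subgroup.nontrivial_iff_ne_bot U).mpr (hU ▸ hH α)
  have hcinj : Function.Injective c := by
    rw [injective_iff_map_eq_one]
    intro h hh
    refine Subtype.ext (Subgroup.mem_bot.mp (hinf ▸ ⟨h.2, Subgroup.mem_centralizer_iff.mpr fun x hx => ?_⟩))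
    have := congrArg Subtype.val (DFunLike.congr_fun hh ⟨x, hx⟩)
    change (h : G) * x * (h : G)⁻¹ = x at this
    exact (mul_inv_eq_iff_eq_mul.mp this).symm
  have hirr : ∀ W : Subgroup N, (∀ (h : U), ∀ w ∈ W, c h w ∈ W) → W = ⊥ ∨ W = ⊤ := by
    intro W hW
    have hn : (W.map N.subtype).Normal := by
      refine ⟨fun x hx g => ?_⟩
      obtain ⟨w, hw, rfl⟩ := hx
      obtain ⟨⟨a, u⟩, hau⟩ := hcompl.2 g
      refine ⟨c u w, hW u w hw, ?_⟩
      have hcomm : (a : G) * (c u w : N) = (c u w : N) * (a : G) := congrArg Subtype.val (hNab.is_comm.comm a (c u w))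
      calc ((c u w : N) : G) = (a : G) * (c u w : N) * (a : G)⁻¹ := by rw [hcomm]; group
        _ = g * w * g⁻¹ := by
          show (a : G) * ((u : G) * w * (u : G)⁻¹) * (a : G)⁻¹ = _
          rw [← hau]; group
    rcases hmin _ hn (Subgroup.map_subtype_le W) with h | h
    · exact Or.inl ((Subgroup.map_eq_bot_iff_of_injective W N.subtype_injective).mp h)
    · right
      rw [eq_top_iff]
      intro x _
      have : (x : G) ∈ W.map N.subtype := by rw [h]; exact x.2
      obtain ⟨w, hw, hwx⟩ := this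
      rwa [← Subtype.ext (show (w : G) = x from hwx)]
  have hkey : ∀ A : Subgroup U, A.Normal → ∀ x : N, x ≠ 1 →
      (∀ a ∈ A, c a x = x) ∨ ∀ h : U, ∃ a ∈ A, c a x = c h x := by
    intro A hA x hx
    subst hU
    haveI := hep α (e x)
    haveI := hA
    by_cases hfix : MulAction.fixedPoints A (MulAction.orbit (MulAction.stabilizer G α) (e x)) = Set.univ
    · left
      intro a ha
      have h := (Set.eq_univ_iff_forall.mp hfix ⟨e x, MulAction.mem_orbit_self _⟩) ⟨a, ha⟩
      exact he.1 (by rw [hce]; exact congrArg Subtype.val h)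
    · right
      intro h
      have := MulAction.IsQuasiPreprimitive.isPretransitive_of_normal
        (G := MulAction.stabilizer G α) (X := MulAction.orbit (MulAction.stabilizer G α) (e x)) (N := A) hfix
      obtain ⟨a, ha⟩ := MulAction.exists_smul_eq A (⟨e x, MulAction.mem_orbit_self _⟩ :
        MulAction.orbit (MulAction.stabilizer G α) (e x)) ⟨e (c h x), ⟨h, (hce h x).symm⟩⟩
      exact ⟨a, a.2, he.1 (by rw [hce]; exact congrArg Subtype.val ha)⟩
  have hexpN : ∀ x : N, x ^ r' = 1 := fun x => Subtype.ext (hNexp x x.2)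
  obtain ⟨q, hq, horb, hqd, hord, M, hMn, hMq, ⟨g, hg⟩, hcardU⟩ :=
    core c hcinj hp hd hNcard hexpN hirr hkey
  refine ⟨q, hq, fun ω hω => ?_, hqd, hord, M.map U.subtype, (Subgroup.map_subtype_le M).trans hU.le, ?_, ?_, ⟨g, ?_⟩, ?_⟩
  · obtain ⟨x, rfl⟩ := he.2 ω
    have hx : x ≠ 1 := fun h => hω (by rw [h]; exact one_smul G α)
    rw [← horb x hx]
    subst hU
    refine (Nat.card_congr (Equiv.ofBijective
      (fun y : Set.range fun h => c h x => (⟨e y.1, by
        obtain ⟨y, h, rfl⟩ := y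
        exact ⟨h, (hce h x).symm⟩⟩ : MulAction.orbit (MulAction.stabilizer G α) (e x))) ⟨?_, ?_⟩)).symm
    · intro a b hab; exact Subtype.ext (he.1 (congrArg Subtype.val hab))
    · rintro ⟨_, h, rfl⟩; exact ⟨⟨_, h, rfl⟩, Subtype.ext (hce h x)⟩
  · intro u hu
    rw [← hU] at hu
    rw [Subgroup.mem_normalizer_iff]
    have hconj : ∀ u : U, ∀ x ∈ M.map U.subtype, (u : G) * x * (u : G)⁻¹ ∈ M.map U.subtype := by
      rintro v _ ⟨y, hy, rfl⟩
      exact ⟨v * y * v⁻¹, hMn.conj_mem y hy v, by simp⟩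
    refine fun y => ⟨fun hy => hconj ⟨u, hu⟩ y hy, fun hy => ?_⟩
    have := hconj ⟨u, hu⟩⁻¹ _ hy
    simpa [mul_assoc] using this
  · rw [← hMq, Subgroup.card_map_of_injective U.subtype_injective]
  · have := congrArg (Subgroup.map U.subtype) hg
    rw [Subgroup.map_sup, MonoidHom.map_zpowers, ← MonoidHom.range_eq_map, Subgroup.range_subtype] at this
    rw [← hU]; exact this.symm
  · rw [← hU]; exact hcardU

end Cfsg.Agent.S3496
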