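import Cfsg.Statements.S3497
import Mathlib
import Cfsg.Agent.Lib.Perm.Manning
import Cfsg.Agent.Lib.Solvable.CoreFree
import Cfsg.Agent.Lib.Basic

set_option autoImplicit false
open Cfsg

namespace Cfsg.Agent.S3497

open MulAction

/-- The automorphisms of an elementary abelian group as matrices. -/
theorem conj_gl {N : Type*} [CommGroup N] [Finite N] {r e : ℕ} [Fact r.Prime] [Module (ZMod r) (Additive N)]
    (he : Nat.card N = r ^ e) : ∃ φ : MulAut N →* GL (Fin e) (ZMod r), Function.Injective φ := by
  haveI : Module.Finite (ZMod r) (Additive N) := Module.Finite.of_finite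
  have hd : Module.finrank (ZMod r) (Additive N) = e := by
    have h := Module.natCard_eq_pow_finrank (K := ZMod r) (V := Additive N)
    rw [Nat.card_zmod, show Nat.card (Additive N) = r ^ e from he] at h
    exact (Nat.pow_right_injective (Fact.out : r.Prime).two_le h).symm
  let b : Module.Basis (Fin e) (ZMod r) (Additive N) := (Module.finBasis _ _).reindex (finCongr hd)
  obtain ⟨T, hT⟩ : ∃ T : MulAut N → Module.End (ZMod r) (Additive N), ∀ f x, T f x = Additive.ofMul (f (Additive.toMul x)) :=
    ⟨fun f => { toFun := fun x => Additive.ofMul (f (Additive.toMul x))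
                map_add' := fun a b => congrArg Additive.ofMul (map_mul f _ _)
                map_smul' := fun c x => ZMod.map_smul (MonoidHom.toAdditive f.toMonoidHom) c x }, fun _ _ => rfl⟩
  let ψ : MulAut N →* Matrix (Fin e) (Fin e) (ZMod r) :=
    { toFun := fun f => LinearMap.toMatrixAlgEquiv b (T f)
      map_one' := by rw [← map_one (LinearMap.toMatrixAlgEquiv b)]; congr 1; exact LinearMap.ext fun x => by rw [hT]; rfl
      map_mul' := fun f g => by
        rw [← map_mul]; congr 1
        exact LinearMap.ext fun x => by rw [Module.End.mul_apply, hT, hT, hT]; rfl }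
  refine ⟨ψ.toHomUnits, fun f g hfg => MulEquiv.ext fun x => ?_⟩
  have h := (LinearMap.toMatrixAlgEquiv b).injective (congrArg Units.val hfg)
  have := DFunLike.congr_fun h (Additive.ofMul x)
  rw [hT, hT] at this
  exact Additive.ofMul.injective this

theorem center_subgroup_normal {H : Type*} [Group H] (K : Subgroup H) [K.Normal] :
    ((Subgroup.center K).map K.subtype).Normal := inferInstance


/-- Restrictions on the point stabilizer of an extremely primitive group. Let a finite group G act faithfully and primitively on a finite set Ω with point stabilizers H = G_α whose order is neither 1 nor a prime, each acting primitively on every one of its orbits. Then H has trivial center, the Fitting subgroup F(H) is an elementary abelian p-group for some prime p, and if F(H) ≠ 1 has order p ^ e then p ^ e divides the number of points minus one and H / F(H) embeds in GL_e(p) (there is a homomorphism from H to GL_e(p) with kernel exactly F(H)). -/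
theorem result {G : Type*} [Group G] [Finite G] {Ω : Type*} [Fintype Ω] [MulAction G Ω] [FaithfulSMul G Ω] (hprim : MulAction.IsPreprimitive G Ω) (hep : ∀ (α : Ω) (ω : Ω), MulAction.IsPreprimitive (MulAction.stabilizer G α) (MulAction.orbit (MulAction.stabilizer G α) ω)) (α : Ω)
    (hH1 : MulAction.stabilizer G α ≠ ⊥) (hHp : ¬ (Nat.card (MulAction.stabilizer G α)).Prime) :
    Subgroup.center (MulAction.stabilizer G α) = ⊥ ∧
    IsMulCommutative (Cfsg.fittingSubgroup (MulAction.stabilizer G α)) ∧
    ∃ p e : ℕ, p.Prime ∧ Nat.card (Cfsg.fittingSubgroup (MulAction.stabilizer G α)) = p ^ e ∧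
      (∀ x ∈ Cfsg.fittingSubgroup (MulAction.stabilizer G α), x ^ p = 1) ∧
      (Cfsg.fittingSubgroup (MulAction.stabilizer G α) ≠ ⊥ →
        p ^ e ∣ Fintype.card Ω - 1 ∧
        ∃ φ : MulAction.stabilizer G α →* GL (Fin e) (ZMod p), φ.ker = Cfsg.fittingSubgroup (MulAction.stabilizer G α)) := by
  classical
  haveI := hprim
  have hH : ∀ a : Ω, stabilizer G a ≠ ⊥ := by
    intro a
    obtain ⟨g, rfl⟩ := exists_smul_eq G α a
    rw [stabilizer_smul_eq_stabilizer_map_conj]
    exact fun h => hH1 ((Subgroup.map_eq_bot_iff_of_injective _ (MulAut.conj g).injective).mp h)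
  have hfaith : ∀ ω, ω ≠ α → ∀ h : stabilizer G α, (∀ x ∈ orbit (stabilizer G α) ω, h • x = x) → h = 1 := by
    intro ω hω h hfix
    have h1 : (h : G) ∈ CfsgLib.Manning.ker (G := G) α ω :=
      ⟨h.2, (mem_fixingSubgroup_iff G).mpr fun x hx => hfix x hx⟩
    rw [CfsgLib.Manning.ker_eq_bot hprim hH hep hω, Subgroup.mem_bot] at h1
    exact Subtype.ext h1
  -- the stabilizer in the stabilizer is a core-free maximal subgroup
  have hU : ∀ ω, ω ≠ α → IsCoatom (stabilizer (stabilizer G α) ω) ∧ (stabilizer (stabilizer G α) ω).normalCore = ⊥ := by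
    intro ω hω
    haveI := hep α ω
    have e : stabilizer (stabilizer G α) (⟨ω, mem_orbit_self ω⟩ : orbit (stabilizer G α) ω) = stabilizer (stabilizer G α) ω := by
      ext k
      simp [mem_stabilizer_iff, Subtype.ext_iff]
    haveI : Nontrivial (orbit (stabilizer G α) ω) := by
      by_contra hs
      rw [not_nontrivial_iff_subsingleton] at hs
      haveI : Nontrivial Ω := ⟨⟨ω, α, hω⟩⟩
      have hle : stabilizer G α ≤ stabilizer G ω := fun g hg =>
        mem_stabilizer_iff.mpr (congrArg Subtype.val (Subsingleton.elim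
          (⟨g • ω, CfsgLib.Manning.smul_mem_orbit hg⟩ : orbit (stabilizer G α) ω) ⟨ω, mem_orbit_self ω⟩))
      exact hω (CfsgLib.Manning.eq_of_stabilizer_eq hprim hH
        (((IsPreprimitive.isCoatom_stabilizer_of_isPreprimitive G α).le_iff.mp hle).resolve_left
          (IsPreprimitive.isCoatom_stabilizer_of_isPreprimitive G ω).1))
    refine ⟨e ▸ IsPreprimitive.isCoatom_stabilizer_of_isPreprimitive (stabilizer G α)
      (⟨ω, mem_orbit_self ω⟩ : orbit (stabilizer G α) ω), ?_⟩
    rw [eq_bot_iff]
    intro k hk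
    refine hfaith ω hω k fun x hx => ?_
    obtain ⟨s, rfl⟩ := hx
    have h1 := (Subgroup.normalCore_le _) ((Subgroup.normalCore_normal _).conj_mem k hk s⁻¹)
    rw [inv_inv, mem_stabilizer_iff, mul_smul, mul_smul, inv_smul_eq_iff] at h1
    exact h1
  obtain ⟨ω, hω⟩ : ∃ ω, ω ≠ α := by
    by_contra h
    push Not at h
    exact hH1 (eq_bot_iff.mpr fun g _ => FaithfulSMul.eq_of_smul_eq_smul (α := Ω) fun x => by
      rw [h (g • x), h ((1 : G) • x)])
  refine ⟨?_, ?_⟩
  · -- the centre
    by_contra hZ
    obtain ⟨hmax, hcore⟩ := hU ω hω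
    have hab : IsMulCommutative (Subgroup.center (stabilizer G α)) :=
      ⟨⟨fun a b => Subtype.ext (Subgroup.mem_center_iff.mp b.2 a)⟩⟩
    obtain ⟨hc, hcompl, hmin, -⟩ := CfsgLib.CoreFree.abelian_minimal hmax hcore hZ hab
    have htop : Subgroup.center (stabilizer G α) = ⊤ := by
      rw [← hc, eq_top_iff]
      exact fun g _ => Subgroup.mem_centralizer_iff.mpr fun z hz => (Subgroup.mem_center_iff.mp hz g).symm
    refine hHp ?_
    haveI : Nontrivial (stabilizer G α) := (Subgroup.nontrivial_iff_ne_bot _).mpr hH1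
    letI : CommGroup (stabilizer G α) := { (inferInstance : Group (stabilizer G α)) with
      mul_comm := fun a b => Subgroup.mem_center_iff.mp (htop ▸ Subgroup.mem_top b) a }
    haveI : IsSimpleGroup (stabilizer G α) := ⟨fun K hK => by
      rcases hmin K hK (htop ▸ le_top) with h | h
      · exact Or.inl h
      · exact Or.inr (h.trans htop)⟩
    exact IsSimpleGroup.prime_card
  by_cases hF : Cfsg.fittingSubgroup (stabilizer G α) = ⊥
  · rw [hF]
    exact ⟨inferInstance, 2, 0, Nat.prime_two, by simp, fun x hx => by rw [Subgroup.mem_bot.mp hx, one_pow],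
      fun h => absurd rfl h⟩
  obtain ⟨K, ⟨hKn, hKnil⟩, hK⟩ : ∃ K : Subgroup (stabilizer G α), (K.Normal ∧ Group.IsNilpotent K) ∧ K ≠ ⊥ := by
    by_contra h
    push Not at h
    exact hF (eq_bot_iff.mpr (sSup_le fun K hK => (h K hK).le))
  obtain ⟨N, hNn, hNle, hN0, hNab, hNmin, r, hr, -⟩ : ∃ N : Subgroup (stabilizer G α), N.Normal ∧
      N ≤ (Subgroup.center K).map K.subtype ∧ N ≠ ⊥ ∧ IsMulCommutative N ∧
      (∀ M : Subgroup (stabilizer G α), M.Normal → M ≤ N → M = ⊥ ∨ M = N) ∧ ∃ r : ℕ, r.Prime ∧ ∀ x ∈ N, x ^ r = 1 := by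
    haveI : Nontrivial K := (Subgroup.nontrivial_iff_ne_bot _).mpr hK
    have hZK : (Subgroup.center K).map K.subtype ≠ ⊥ := fun h =>
      Group.IsNilpotent.center_ne_bot (G := K) ((Subgroup.map_eq_bot_iff_of_injective _ K.subtype_injective).mp h)
    obtain ⟨N, hNn, hNle, hN0, hmin⟩ := CfsgLib.exists_minimal_normal hZK
    haveI : IsMulCommutative N := ⟨⟨fun a b => Subtype.ext (by
      obtain ⟨u, hu, hau⟩ := hNle a.2
      obtain ⟨v, hv, hbv⟩ := hNle b.2
      show (a : stabilizer G α) * b = b * a
      rw [← hau, ← hbv, ← map_mul, Subgroup.mem_center_iff.mp hv u, map_mul])⟩⟩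
    letI : CommGroup N := { (inferInstance : Group N) with mul_comm := fun a b => (‹IsMulCommutative N›).is_comm.comm a b }
    haveI : Group.IsSolvable N := inferInstance
    obtain ⟨hab, r, hr, hpow⟩ := CfsgLib.minimal_normal_elementary hN0 inferInstance hmin
    exact ⟨N, hNn, hNle, hN0, hab, hmin, r, hr, hpow⟩
  haveI := hNn
  haveI := Fact.mk hr
  obtain ⟨hNab', r', hr', hpow⟩ := (show IsMulCommutative N ∧ ∃ r : ℕ, r.Prime ∧ ∀ x ∈ N, x ^ r = 1 from by
    haveI := hNab
    letI : CommGroup N := { (inferInstance : Group N) with mul_comm := fun a b => (‹IsMulCommutative N›).is_comm.comm a b }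
    haveI : Group.IsSolvable N := inferInstance
    exact CfsgLib.minimal_normal_elementary hN0 inferInstance hNmin)
  haveI := Fact.mk hr'
  obtain ⟨hc, hcompl, -, -⟩ := CfsgLib.CoreFree.abelian_minimal (hU ω hω).1 (hU ω hω).2 hN0 hNab
  have hFN : Cfsg.fittingSubgroup (stabilizer G α) = N := by
    refine le_antisymm (sSup_le fun M hM => ?_) ?_
    · by_cases hM0 : M = ⊥
      · rw [hM0]; exact bot_le
      haveI := hM.1
      haveI := hM.2
      haveI : Nontrivial M := (Subgroup.nontrivial_iff_ne_bot _).mpr hM0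
      have hZM : (Subgroup.center M).map M.subtype ≠ ⊥ := fun h =>
        Group.IsNilpotent.center_ne_bot (G := M) ((Subgroup.map_eq_bot_iff_of_injective _ M.subtype_injective).mp h)
      have hNZ := CfsgLib.CoreFree.unique_minimal (hU ω hω).1 (hU ω hω).2 hN0 hNab hZM
      intro m hm
      rw [← hc]
      refine Subgroup.mem_centralizer_iff.mpr fun n hn => ?_
      obtain ⟨z, hz, rfl⟩ := hNZ hn
      exact (congrArg Subtype.val (Subgroup.mem_center_iff.mp hz ⟨m, hm⟩)).symm
    · letI : CommGroup N := { (inferInstance : Group N) with mul_comm := fun a b => hNab.is_comm.comm a b }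
      exact CfsgLib.le_fittingSubgroup inferInstance
  have hNp : IsPGroup r' N := fun x => ⟨1, by rw [pow_one]; exact Subtype.ext (hpow x x.2)⟩
  obtain ⟨e, he⟩ := hNp.exists_card_eq
  rw [hFN]
  refine ⟨hNab, r', e, hr', he, hpow, fun _ => ⟨?_, ?_⟩⟩
  · -- every non-trivial suborbit has the order of `N`
    haveI := Fintype.ofFinite (orbitRel.Quotient (stabilizer G α) Ω)
    have hcard : ∀ q : orbitRel.Quotient (stabilizer G α) Ω, q ≠ Quotient.mk _ α → r' ^ e ∣ Nat.card q.orbit := by
      intro q hq
      induction q using Quotient.inductionOn with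
      | h x =>
        have hx : x ≠ α := fun h => hq (by rw [h])
        obtain ⟨-, hcomp, -, -⟩ := CfsgLib.CoreFree.abelian_minimal (hU x hx).1 (hU x hx).2 hN0 hNab
        rw [orbitRel.Quotient.orbit_mk, Nat.card_coe_set_eq, ← index_stabilizer, hcomp.index_eq_card, he]
    have hone : Nat.card (orbitRel.Quotient.orbit (Quotient.mk'' α : orbitRel.Quotient (stabilizer G α) Ω)) = 1 := by
      rw [orbitRel.Quotient.orbit_mk, Nat.card_coe_set_eq, Set.ncard_eq_one]
      exact ⟨α, Set.eq_singleton_iff_unique_mem.mpr ⟨mem_orbit_self α, fun y ⟨s, hs⟩ => hs ▸ mem_stabilizer_iff.mp s.2⟩⟩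
    rw [← Nat.card_eq_fintype_card, Nat.card_congr (selfEquivSigmaOrbits' (stabilizer G α) Ω), Nat.card_sigma,
      ← Finset.add_sum_erase _ _ (Finset.mem_univ (Quotient.mk (orbitRel (stabilizer G α) Ω) α)), hone, Nat.add_sub_cancel_left]
    exact Finset.dvd_sum fun q hq => hcard q (Finset.ne_of_mem_erase hq)
  · letI : CommGroup N := { (inferInstance : Group N) with mul_comm := fun a b => hNab.is_comm.comm a b }
    letI : Module (ZMod r') (Additive N) :=
      AddCommGroup.zmodModule fun a => Additive.toMul.injective (Subtype.ext (hpow _ (Additive.toMul a).2))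
    obtain ⟨φ, hφ⟩ := conj_gl (r := r') (e := e) he
    refine ⟨φ.comp MulAut.conjNormal, ?_⟩
    refine le_antisymm (fun h hh => ?_) (fun h hh => ?_)
    · rw [← hc]
      refine Subgroup.mem_centralizer_iff.mpr fun n hn => ?_
      have h1 := congrArg Subtype.val (DFunLike.congr_fun (hφ (hh.trans (map_one φ).symm)) ⟨n, hn⟩)
      change h * n * h⁻¹ = n at h1
      exact (mul_inv_eq_iff_eq_mul.mp h1).symm
    · rw [MonoidHom.mem_ker, MonoidHom.comp_apply]
      refine (congrArg φ (MulEquiv.ext fun n => Subtype.ext ?_)).trans (map_one φ)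
      show h * n * h⁻¹ = n
      have hc2 : h * (n : stabilizer G α) = (n : stabilizer G α) * h := congrArg Subtype.val (hNab.is_comm.comm ⟨h, hh⟩ n)
      rw [hc2, mul_inv_cancel_right]

end Cfsg.Agent.S3497
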