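import Cfsg.Statements.S3498
import Mathlib
import Cfsg.Agent.Lib.Basic

set_option autoImplicit false
open Cfsg

namespace Cfsg.Agent.S3498

open scoped Pointwise

/-- A maximal subgroup of a finite almost simple group does not have prime order. Here G is almost simple in the sense that it has a non-abelian simple normal subgroup T with trivial centralizer. -/
theorem result {G : Type*} [Group G] [Finite G] (T : Subgroup G) [T.Normal] (hT : IsSimpleGroup T) (hTc : ¬ IsMulCommutative T)
    (hC : Subgroup.centralizer (T : Set G) = ⊥) (H : Subgroup G) (hmax : IsCoatom H) : ¬ (Nat.card H).Prime := by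
  classical
  intro hp
  haveI : Fact (Nat.card H).Prime := ⟨hp⟩
  haveI := hT
  -- T has no proper nontrivial normal subgroups
  have hTsimple : ∀ N : Subgroup G, N.Normal → T ⊓ N = ⊥ ∨ T ≤ N := fun N hN => by
    rcases IsSimpleGroup.eq_bot_or_eq_top_of_normal (N.subgroupOf T) (Subgroup.normal_subgroupOf) with h | h
    · rw [Subgroup.subgroupOf_eq_bot, disjoint_iff, inf_comm] at h; exact Or.inl h
    · exact Or.inr (Subgroup.subgroupOf_eq_top.mp h)
  have hself : Subgroup.normalizer (H : Set G) = H := by
    rcases hmax.le_iff.mp (Subgroup.le_normalizer (H := H)) with h | h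
    · exfalso
      have hHn : H.Normal := Subgroup.normalizer_eq_top_iff.mp h
      rcases hTsimple H hHn with h0 | h0
      · apply hp.ne_one
        rw [Subgroup.card_eq_one, eq_bot_iff, ← hC]
        intro a ha b hb
        exact Subgroup.commute_of_normal_of_disjoint T H inferInstance hHn (disjoint_iff.mpr h0) b a hb ha
      · apply hTc
        haveI : IsCyclic H := isCyclic_of_prime_card rfl
        exact ⟨⟨fun a b => Subtype.ext (congrArg Subtype.val (IsMulCommutative.is_comm.comm (⟨a, h0 a.2⟩ : H) ⟨b, h0 b.2⟩) :)⟩⟩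
    · exact h
  have hHp : IsPGroup (Nat.card H) H := IsPGroup.of_card (n := 1) (pow_one _).symm
  obtain ⟨P, hHP⟩ := hHp.exists_le_sylow
  have hPH : (P : Subgroup G) = H := by
    by_contra hne
    have hlt : H.subgroupOf (P : Subgroup G) < ⊤ :=
      lt_top_iff_ne_top.mpr fun e => hne (le_antisymm (Subgroup.subgroupOf_eq_top.mp e) hHP)
    haveI := P.2.isNilpotent
    obtain ⟨x, hx, hxn⟩ := SetLike.exists_of_lt ((normalizerCondition_of_isNilpotent (G := P)) _ hlt)
    apply hxn
    rw [Subgroup.mem_subgroupOf]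
    refine hself.le (Subgroup.mem_normalizer_iff.mpr ?_)
    intro y
    constructor
    · intro hy
      exact Subgroup.mem_subgroupOf.mp ((Subgroup.mem_normalizer_iff.mp hx ⟨y, hHP hy⟩).mp hy)
    · intro hy
      have hyP : y ∈ (P : Subgroup G) := by
        have : (x:G)⁻¹ * (x * y * (x:G)⁻¹) * x ∈ (P : Subgroup G) := P.mul_mem (P.mul_mem (P.inv_mem x.2) (hHP hy)) x.2
        simpa [mul_assoc] using this
      exact (Subgroup.mem_normalizer_iff.mp hx ⟨y, hyP⟩).mpr hy
  have hPC : Subgroup.normalizer ((P : Subgroup G) : Set G) ≤ Subgroup.centralizer ((P : Subgroup G) : Set G) := by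
    rw [hPH, hself]
    haveI : IsCyclic H := isCyclic_of_prime_card rfl
    intro a ha b hb
    exact (congrArg Subtype.val (IsMulCommutative.is_comm.comm (⟨b, hb⟩ : H) ⟨a, ha⟩) :)
  have hK := MonoidHom.ker_transferSylow_isComplement' P hPC
  set K := (MonoidHom.transferSylow P hPC).ker
  have hKp : ¬ Nat.card H ∣ Nat.card K := MonoidHom.not_dvd_card_ker_transferSylow P hPC
  have hTK : T ≤ K := by
    rcases hTsimple K inferInstance with h | h
    · exfalso; apply hTc
      refine ⟨⟨fun a b => Subtype.ext ?_⟩⟩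
      have hmem : (a:G) * b * ((b:G) * a)⁻¹ ∈ T ⊓ K := by
        refine ⟨T.mul_mem (T.mul_mem a.2 b.2) (T.inv_mem (T.mul_mem b.2 a.2)), ?_⟩
        show MonoidHom.transferSylow P hPC _ = 1
        simp only [map_mul, map_inv]
        haveI : IsCyclic (P : Subgroup G) := by rw [hPH]; exact isCyclic_of_prime_card rfl
        rw [IsMulCommutative.is_comm.comm ((MonoidHom.transferSylow P hPC) (b:G)), mul_inv_cancel]
      rw [h, Subgroup.mem_bot, mul_inv_eq_one] at hmem
      exact hmem
    · exact h
  have hTp : ¬ Nat.card H ∣ Nat.card T := fun h => hKp (h.trans (Subgroup.card_dvd_of_le hTK))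
  have hT1 : Nat.card T ≠ 1 := fun h => by
    apply hTc; haveI := Nat.card_eq_one_iff_unique.mp h |>.1; exact ⟨⟨fun a b => Subsingleton.elim _ _⟩⟩
  set q := (Nat.card T).minFac
  haveI : Fact q.Prime := ⟨Nat.minFac_prime hT1⟩
  obtain ⟨Q⟩ : Nonempty (Sylow q T) := inferInstance
  have hfr := Sylow.normalizer_sup_eq_top Q
  set M := Subgroup.normalizer (((Q : Subgroup T).map T.subtype) : Set G)
  have hQne : (Q : Subgroup T) ≠ ⊥ := fun h => by
    have := Q.dvd_card_of_dvd_card (Nat.minFac_dvd _)
    rw [h, Subgroup.card_bot] at this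
    exact (Nat.minFac_prime hT1).ne_one (Nat.eq_one_of_dvd_one this)
  have hMtop : M ≠ ⊤ := by
    intro h
    haveI hn : ((Q : Subgroup T).map T.subtype).Normal := Subgroup.normalizer_eq_top_iff.mp h
    rcases hTsimple _ hn with h' | h'
    · rw [inf_eq_right.mpr (Subgroup.map_subtype_le _), Subgroup.map_eq_bot_iff_of_injective _ T.subtype_injective] at h'
      exact hQne h'
    · apply hTc
      have hTq : IsPGroup q T := by
        have : (Q : Subgroup T) = ⊤ := by
          apply Subgroup.map_injective T.subtype_injective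
          rw [← MonoidHom.range_eq_map, Subgroup.range_subtype]
          exact le_antisymm (Subgroup.map_subtype_le _) h'
        have h2 := Q.2
        rw [this] at h2
        exact h2.of_equiv Subgroup.topEquiv
      haveI : Nontrivial T := Finite.one_lt_card_iff_nontrivial.mp (by have := Nat.card_pos (α := T); omega)
      have hz := hTq.center_nontrivial
      rcases IsSimpleGroup.eq_bot_or_eq_top_of_normal (Subgroup.center T) inferInstance with h0 | h0
      · exact absurd h0 ((Subgroup.nontrivial_iff_ne_bot _).mp hz)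
      · exact ⟨⟨fun a b => (Subgroup.mem_center_iff.mp (h0 ▸ Subgroup.mem_top b) a)⟩⟩
  have hpM : Nat.card H ∣ Nat.card M := by
    have hdvd : Nat.card H ∣ Nat.card M * Nat.card T := by
      refine dvd_trans (Subgroup.card_subgroup_dvd_card H) ?_
      rw [← Subgroup.card_top (G := G), ← hfr]
      exact CfsgLib.card_sup_dvd_mul _ _
    exact ((Nat.Prime.dvd_mul hp).mp hdvd).resolve_right hTp
  obtain ⟨g, hg⟩ := exists_prime_orderOf_dvd_card' (Nat.card H) hpM
  obtain ⟨R, hR⟩ : ∃ R : Sylow (Nat.card H) G, (Subgroup.zpowers (g:G)) ≤ R := by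
    refine IsPGroup.exists_le_sylow (IsPGroup.of_card (n := 1) ?_)
    rw [Nat.card_zpowers, ← hg, pow_one, Subgroup.orderOf_coe]
  have hRe : Subgroup.zpowers (g:G) = R := Subgroup.eq_of_le_of_card_ge hR (by
    rw [Nat.card_zpowers, Subgroup.orderOf_coe, hg, Sylow.card_eq_multiplicity, ← Sylow.card_eq_multiplicity P, hPH])
  have hRmax : IsCoatom (R : Subgroup G) := by
    obtain ⟨c, hc⟩ := MulAction.exists_smul_eq G P R
    rw [← hc, Sylow.coe_subgroup_smul, hPH]
    refine ⟨fun e => hmax.1 ?_, fun K hK => ?_⟩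
    · rw [← inv_smul_smul (MulAut.conj c) H, e]
      ext a; simp [Subgroup.mem_pointwise_smul_iff_inv_smul_mem]
    · have := hmax.2 ((MulAut.conj c)⁻¹ • K) (lt_of_le_of_ne
        (Subgroup.subset_pointwise_smul_iff.mpr (by rw [inv_inv]; exact hK.le)) (fun e => hK.ne (by rw [e, smul_inv_smul])))
      rw [← smul_inv_smul (MulAut.conj c) K, this]
      ext a; simp [Subgroup.mem_pointwise_smul_iff_inv_smul_mem]
  have hRM : M = R := (hRmax.le_iff.mp (hRe ▸ Subgroup.zpowers_le.mpr g.2)).resolve_left hMtop
  have hQM : (Q : Subgroup T).map T.subtype ≤ (R : Subgroup G) := hRM ▸ Subgroup.le_normalizer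
  have hd := Subgroup.card_dvd_of_le hQM
  rw [Subgroup.card_map_of_injective T.subtype_injective, Sylow.card_eq_multiplicity, Sylow.card_eq_multiplicity,
    ← Sylow.card_eq_multiplicity P, hPH, ← Sylow.card_eq_multiplicity Q] at hd
  exact hTp ((hp.eq_one_or_self_of_dvd _ hd).resolve_left (fun h => hQne (Subgroup.card_eq_one.mp h)) ▸ Subgroup.card_subgroup_dvd_card _)

end Cfsg.Agent.S3498
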