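import Cfsg.Statements.S3501
import Mathlib
import Cfsg.Agent.Lib.Perm.SocleApps

set_option autoImplicit false
open Cfsg

namespace Cfsg.Agent.S3501



/-- Let a finite group G act faithfully and primitively on a finite set Ω with at least two points, and suppose G is not almost simple (it has no non-abelian simple normal subgroup with trivial centralizer). Then the derangements of G form a single conjugacy class if and only if G is sharply 2-transitive (2-transitive, and no non-identity element fixes two points). -/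
theorem result {G : Type*} [Group G] [Finite G] {Ω : Type*} [Fintype Ω] [MulAction G Ω] [FaithfulSMul G Ω] (hΩ : 2 ≤ Fintype.card Ω) (hprim : MulAction.IsPreprimitive G Ω) (hnas : ¬ ∃ T : Subgroup G, T.Normal ∧ IsSimpleGroup T ∧ ¬ IsMulCommutative T ∧ Subgroup.centralizer (T : Set G) = ⊥) :
    Nat.card {c : ConjClasses G // ∃ g : G, ConjClasses.mk g = c ∧ ∀ ω : Ω, g • ω ≠ ω} = 1 ↔ (MulAction.IsMultiplyPretransitive G Ω 2 ∧ ∀ g : G, g ≠ 1 → ∀ a b : Ω, a ≠ b → g • a = a → g • b ≠ b) := by
  classical
  rw [← Nat.card_eq_fintype_card] at hΩ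
  obtain ⟨N, hNn, hN0, hmin, htr⟩ := CfsgLib.Socle.exists_minimal hprim hΩ
  have : Nontrivial Ω := Finite.one_lt_card_iff_nontrivial.mp (by omega)
  obtain ⟨a, b, hab'⟩ := exists_pair_ne Ω
  constructor
  · intro hκ
    have hκ' : Nat.card (CfsgLib.Socle.DClass G Ω) = 1 := hκ
    by_cases hab : IsMulCommutative N
    swap
    · exfalso
      obtain ⟨f, hf, hne⟩ := CfsgLib.Socle.three_classes hprim hΩ hN0 hmin hab hnas
      have := CfsgLib.Socle.card_le_dclass f hf hne
      omega
    obtain ⟨hsr, -⟩ := CfsgLib.Socle.abelian_regular hN0 hmin hab htr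
    have key : ∀ x y : G, (∀ ω : Ω, x • ω ≠ ω) → (∀ ω : Ω, y • ω ≠ ω) → IsConj x y := by
      intro x y hx hy
      by_contra hnc
      have := CfsgLib.Socle.card_le_dclass (Ω := Ω) ![x, y] (fun i => by fin_cases i; exacts [hx, hy])
        (fun i j h => by
          fin_cases i <;> fin_cases j <;> first | rfl | exact absurd h hnc | exact absurd h.symm hnc)
      omega
    refine ⟨CfsgLib.Socle.two_pretransitive hab htr fun n hn m hm hn1 hm1 =>
      key n m (fun ω e => hn1 (hsr n hn ω e)) (fun ω e => hm1 (hsr m hm ω e)), ?_⟩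
    rcases CfsgLib.Socle.affine_dichotomy hab htr hsr a with ⟨hfree, -⟩ | ⟨⟨d, hd, hdN⟩, -⟩
    · exact hfree
    · exfalso
      obtain ⟨m, hm, hmb⟩ := htr a b
      have hm1 : m ≠ 1 := fun e => hab' (by rw [← hmb, e, one_smul])
      obtain ⟨g, hg⟩ := isConj_iff.mp (key m d (fun ω e => hm1 (hsr m hm ω e)) hd)
      exact hdN (hg ▸ hNn.conj_mem m hm g)
  · rintro ⟨h2, hfree⟩
    have h2' : ∀ {w x y z : Ω}, w ≠ x → y ≠ z → ∃ g : G, g • w = y ∧ g • x = z :=
      MulAction.is_two_pretransitive_iff.mp h2
    -- the order of the group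
    have hG : Nat.card G + Nat.card Ω = Nat.card Ω * Nat.card Ω := by
      let f : G → {p : Ω × Ω // p.1 ≠ p.2} := fun g => ⟨(g • a, g • b), fun e => hab' (smul_left_cancel g e)⟩
      have hf : Function.Bijective f := by
        refine ⟨fun g h e => ?_, fun p => ?_⟩
        · have e' : g • a = h • a ∧ g • b = h • b := Prod.mk.injEq .. ▸ congrArg Subtype.val e
          by_contra hgh
          exact hfree (h⁻¹ * g) (fun e1 => hgh (inv_mul_eq_one.mp e1).symm) a b hab'
            (by rw [mul_smul, e'.1, inv_smul_smul]) (by rw [mul_smul, e'.2, inv_smul_smul])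
        · obtain ⟨g, hg1, hg2⟩ := h2' hab' p.2
          exact ⟨g, Subtype.ext (Prod.ext hg1 hg2)⟩
      rw [Nat.card_eq_of_bijective f hf]
      have hd : Nat.card {p : Ω × Ω // p.1 = p.2} = Nat.card Ω :=
        Nat.card_congr ⟨fun p => p.1.1, fun x => ⟨(x, x), rfl⟩,
          fun p => Subtype.ext (Prod.ext rfl p.2), fun x => rfl⟩
      conv_lhs => arg 2; rw [← hd]
      rw [← Nat.card_sum, ← Nat.card_prod]
      exact Nat.card_congr (((Equiv.sumComm _ _)).trans (Equiv.sumCompl fun p : Ω × Ω => p.1 = p.2))
    -- the number of derangements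
    haveI := Fintype.ofFinite G
    have hfix1 : ∀ g : G, g ≠ 1 → Fintype.card (MulAction.fixedBy Ω g) ≤ 1 := fun g hg =>
      Fintype.card_le_one_iff.mpr fun x y => Subtype.ext (by_contra fun h => hfree g hg x y h x.2 y.2)
    set D : Finset G := Finset.univ.filter fun g => ∀ ω : Ω, g • ω ≠ ω with hD
    have hsum : ∑ g : G, Fintype.card (MulAction.fixedBy Ω g) + D.card + 1 = Nat.card G + Nat.card Ω := by
      have h : ∀ g : G, Fintype.card (MulAction.fixedBy Ω g) + (if ∀ ω : Ω, g • ω ≠ ω then 1 else 0) +
          (if g = 1 then 1 else 0) = 1 + if g = 1 then Fintype.card Ω else 0 := by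
        intro g
        by_cases hg : g = 1
        · subst hg
          rw [if_neg (fun h => h a (one_smul _ _)), if_pos rfl, if_pos rfl]
          have : Fintype.card (MulAction.fixedBy Ω (1 : G)) = Fintype.card Ω :=
            Fintype.card_congr (Equiv.subtypeUnivEquiv fun q => one_smul G q)
          omega
        · have h1 := hfix1 g hg
          rw [if_neg hg, if_neg hg]
          by_cases hd : ∀ ω : Ω, g • ω ≠ ω
          · rw [if_pos hd, (Fintype.card_eq_zero_iff.mpr ⟨fun x : MulAction.fixedBy Ω g => hd x.1 x.2⟩ :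
              Fintype.card (MulAction.fixedBy Ω g) = 0)]
          · rw [if_neg hd]
            push Not at hd
            obtain ⟨ω, hω⟩ := hd
            have : 0 < Fintype.card (MulAction.fixedBy Ω g) := Fintype.card_pos_iff.mpr ⟨⟨ω, hω⟩⟩
            omega
      have := Finset.sum_congr rfl (fun g (_ : g ∈ (Finset.univ : Finset G)) => h g)
      simp only [Finset.sum_add_distrib, Finset.sum_boole, Finset.sum_const, Finset.card_univ, smul_eq_mul,
        mul_one, Finset.sum_ite_eq', Finset.mem_univ, if_true] at this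
      simp only [Nat.card_eq_fintype_card, hD] at this ⊢
      have hone : (Finset.univ.filter fun x : G => x = 1).card = 1 :=
        Finset.card_eq_one.mpr ⟨1, by ext x; simp⟩
      simp only [hone, Nat.cast_id] at this
      exact this
    have hburn : ∑ g : G, Fintype.card (MulAction.fixedBy Ω g) = Nat.card G := by
      have key := MulAction.sum_card_fixedBy_eq_card_orbits_mul_card_group G Ω
      have ho : Fintype.card (Quotient (MulAction.orbitRel G Ω)) = 1 := by
        rw [Fintype.card_eq_one_iff]
        refine ⟨Quotient.mk'' a, fun q => ?_⟩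
        induction q using Quotient.inductionOn' with
        | h x => exact Quotient.sound' (MulAction.mem_orbit_iff.mpr (MulAction.exists_smul_eq G a x))
      rw [ho, one_mul] at key
      rw [key, Nat.card_eq_fintype_card]
    have hDcard : D.card + 1 = Nat.card Ω := by omega
    -- one class
    have hne : D.Nonempty := Finset.card_pos.mp (by omega)
    obtain ⟨d, hd⟩ := hne
    have hd' : ∀ ω : Ω, d • ω ≠ ω := (Finset.mem_filter.mp hd).2
    let C : Finset G := Finset.univ.image fun g : G => g * d * g⁻¹
    have hCD : C ⊆ D := by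
      intro x hx
      obtain ⟨g, -, rfl⟩ := Finset.mem_image.mp hx
      refine Finset.mem_filter.mpr ⟨Finset.mem_univ _, fun ω e => hd' (g⁻¹ • ω) ?_⟩
      rw [mul_smul, mul_smul] at e
      rw [eq_inv_smul_iff, e]
    have hCcard : Nat.card G ≤ C.card * Nat.card Ω := by
      have : Function.Injective (fun g : G => ((⟨g * d * g⁻¹, Finset.mem_image_of_mem _ (Finset.mem_univ g)⟩ : C), g • a)) := by
        intro g h e
        have e1 : g * d * g⁻¹ = h * d * h⁻¹ := congrArg (fun z : C × Ω => (z.1 : G)) e
        have e2 : g • a = h • a := congrArg Prod.snd e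
        by_contra hgh
        have hk : h⁻¹ * g ≠ 1 := fun e1 => hgh (inv_mul_eq_one.mp e1).symm
        have hka : (h⁻¹ * g) • a = a := by rw [mul_smul, e2, inv_smul_smul]
        refine hfree _ hk a (d • a) (fun e => hd' a e.symm) hka ?_
        have hcomm : h⁻¹ * g * d = d * (h⁻¹ * g) := by
          calc h⁻¹ * g * d = h⁻¹ * (g * d * g⁻¹) * g := by group
            _ = h⁻¹ * (h * d * h⁻¹) * g := by rw [e1]
            _ = _ := by group
        rw [← mul_smul, hcomm, mul_smul, hka]
      have := Nat.card_le_card_of_injective _ this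
      rwa [Nat.card_prod, Nat.card_eq_fintype_card (α := C), Fintype.card_coe] at this
    have hCD' : C = D := by
      refine Finset.eq_of_subset_of_card_le hCD ?_
      by_contra hlt
      push Not at hlt
      have : (C.card + 1) * Nat.card Ω ≤ D.card * Nat.card Ω := Nat.mul_le_mul_right _ (by omega)
      nlinarith
    rw [Nat.card_eq_one_iff_unique]
    refine ⟨⟨fun c₁ c₂ => ?_⟩, ⟨⟨ConjClasses.mk d, d, rfl, hd'⟩⟩⟩
    obtain ⟨x, hx, hxd⟩ := c₁.2
    obtain ⟨y, hy, hyd⟩ := c₂.2
    have hall : ∀ z : G, (∀ ω : Ω, z • ω ≠ ω) → IsConj d z := fun z hz => by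
      have hz' : z ∈ C := hCD' ▸ Finset.mem_filter.mpr ⟨Finset.mem_univ _, hz⟩
      obtain ⟨g, -, rfl⟩ := Finset.mem_image.mp hz'
      exact isConj_iff.mpr ⟨g, rfl⟩
    apply Subtype.ext
    rw [← hx, ← hy]
    exact ConjClasses.mk_eq_mk_iff_isConj.mpr ((hall x hxd).symm.trans (hall y hyd))

end Cfsg.Agent.S3501
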