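import Cfsg.Statements.S3504
import Mathlib

set_option autoImplicit false
open Cfsg

namespace Cfsg.Agent.S3504

open Equiv.Perm in
theorem exists_derangement (n r : ℕ) (hr : r.Prime) (hd : r ∣ n) (hn : n ≠ 0) :
    ∃ g : Equiv.Perm (Fin n), orderOf g = r ∧ (∀ i, g i ≠ i) ∧ g.cycleType = Multiset.replicate (n / r) r := by
  obtain ⟨g, hg⟩ := (exists_with_cycleType_iff (α := Fin n) (m := Multiset.replicate (n / r) r)).2
    ⟨by rw [Multiset.sum_replicate, smul_eq_mul, Fintype.card_fin, Nat.div_mul_cancel hd],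
      fun a ha => by rw [Multiset.eq_of_mem_replicate ha]; exact hr.two_le⟩
  have hpos : n / r ≠ 0 := (Nat.div_pos (Nat.le_of_dvd (Nat.pos_of_ne_zero hn) hd) hr.pos).ne'
  refine ⟨g, ?_, fun i => ?_, hg⟩
  · rw [← lcm_cycleType, hg]
    obtain ⟨k, hk⟩ := Nat.exists_eq_succ_of_ne_zero hpos
    rw [hk]
    clear hk hg
    induction k with
    | zero => simp
    | succ k ih => rw [Multiset.replicate_succ, Multiset.lcm_cons, ih]; simp
  · have : g.support = Finset.univ := Finset.eq_univ_of_card _ (by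
      rw [← sum_cycleType, hg, Multiset.sum_replicate, smul_eq_mul, Fintype.card_fin, Nat.div_mul_cancel hd])
    exact mem_support.1 (this ▸ Finset.mem_univ i)

open Equiv.Perm in
theorem derangement_type (n : ℕ) (g : Equiv.Perm (Fin n)) (hp : (orderOf g).Prime) (hfix : ∀ i, g i ≠ i) :
    orderOf g ∣ n ∧ g.cycleType = Multiset.replicate (n / orderOf g) (orderOf g) := by
  obtain ⟨k, hk⟩ := cycleType_prime_order hp
  have hsupp : g.support = Finset.univ := Finset.eq_univ_iff_forall.2 fun i => mem_support.2 (hfix i)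
  have hsum := sum_cycleType g
  rw [hsupp, hk, Multiset.sum_replicate, smul_eq_mul, Finset.card_univ, Fintype.card_fin] at hsum
  refine ⟨⟨k + 1, by rw [mul_comm]; exact hsum.symm⟩, ?_⟩
  rw [hk]
  congr 1
  exact (Nat.div_eq_of_eq_mul_left hp.pos hsum.symm).symm


/-- For n ≥ 5, the fixed-point-free permutations of prime order in the symmetric group of degree n form a single conjugacy class if and only if n is a prime power. -/
theorem result (n : ℕ) (hn : 5 ≤ n) :
    Nat.card {c : ConjClasses (Equiv.Perm (Fin n)) // ∃ g : Equiv.Perm (Fin n), ConjClasses.mk g = c ∧ (orderOf g).Prime ∧ ∀ i : Fin n, g i ≠ i} = 1 ↔ IsPrimePow n := by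
  classical
  constructor
  · intro h
    rw [isPrimePow_iff_unique_prime_dvd]
    refine ⟨n.minFac, ⟨Nat.minFac_prime (by omega), Nat.minFac_dvd n⟩, fun q hq => ?_⟩
    obtain ⟨g, hgo, hgf, -⟩ := exists_derangement n q hq.1 hq.2 (by omega)
    obtain ⟨h', hho, hhf, -⟩ := exists_derangement n n.minFac (Nat.minFac_prime (by omega)) (Nat.minFac_dvd n) (by omega)
    obtain ⟨hsub, -⟩ := Nat.card_eq_one_iff_unique.1 h
    have h0 := @Subsingleton.elim _ hsub ⟨ConjClasses.mk g, g, rfl, by rw [hgo]; exact hq.1, hgf⟩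
      ⟨ConjClasses.mk h', h', rfl, by rw [hho]; exact Nat.minFac_prime (by omega), hhf⟩
    have h1 : IsConj g h' := ConjClasses.mk_eq_mk_iff_isConj.1 (congrArg Subtype.val h0)
    obtain ⟨c, hc⟩ := isConj_iff.1 h1
    have h2 : orderOf h' = orderOf g := by
      rw [← hc]
      exact orderOf_injective (MulAut.conj c).toMonoidHom (MulAut.conj c).injective g
    omega
  · intro h
    obtain ⟨r, ⟨hr, hrd⟩, huniq⟩ := (isPrimePow_iff_unique_prime_dvd.1 h)
    obtain ⟨g, hgo, hgf, hgc⟩ := exists_derangement n r hr hrd (by omega)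
    refine Nat.card_eq_one_iff_unique.2 ⟨⟨?_⟩, ⟨⟨ConjClasses.mk g, g, rfl, by rw [hgo]; exact hr, hgf⟩⟩⟩
    rintro ⟨_, a, rfl, ha, haf⟩ ⟨_, b, rfl, hb, hbf⟩
    apply Subtype.ext
    show ConjClasses.mk a = ConjClasses.mk b
    rw [ConjClasses.mk_eq_mk_iff_isConj, Equiv.Perm.isConj_iff_cycleType_eq]
    obtain ⟨had, hac⟩ := derangement_type n a ha haf
    obtain ⟨hbd, hbc⟩ := derangement_type n b hb hbf
    rw [hac, hbc, huniq _ ⟨ha, had⟩, huniq _ ⟨hb, hbd⟩]

end Cfsg.Agent.S3504
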