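import Cfsg.Statements.S3508
import Mathlib

set_option autoImplicit false
open Cfsg

namespace Cfsg.Agent.S3508

theorem small_exp {p m r : ℕ} (hp : 2 ≤ p) (h : p ^ (r - 1) ≤ m) : r = m → m ≤ 2 ∧ (2 < p → m ≤ 1) := by
  rintro rfl
  have h2 : (r - 1) + 1 ≤ 2 ^ (r - 1) := Nat.lt_two_pow_self
  constructor
  · by_contra hc
    obtain ⟨s, rfl⟩ : ∃ s, r = s + 3 := ⟨r - 3, by omega⟩
    have h3 : 2 ^ (s + 2) ≤ p ^ (s + 2) := Nat.pow_le_pow_left hp _
    have h4 : s + 1 ≤ 2 ^ s := Nat.lt_two_pow_self
    rw [show s + 3 - 1 = s + 2 by omega] at h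
    rw [pow_add] at h3
    omega
  · intro hp2
    by_contra hc
    obtain ⟨s, rfl⟩ : ∃ s, r = s + 2 := ⟨r - 2, by omega⟩
    have h3 : 3 ^ (s + 1) ≤ p ^ (s + 1) := Nat.pow_le_pow_left hp2 _
    have h4 : s + 1 ≤ 3 ^ s := Nat.lt_pow_self (by norm_num)
    rw [show s + 2 - 1 = s + 1 by omega] at h
    rw [pow_succ] at h3
    omega


/-- Let a finite group G act faithfully on a set Ω with p ^ m points (p prime) and have an elementary abelian normal p-subgroup N acting regularly on Ω (so G is a group of affine transformations of an m-dimensional space over the field with p elements). If G contains an element of order p ^ r with r ≥ 1, then p ^ (r − 1) ≤ m. In particular an element of order p ^ m forces m ≤ 2, and m ≤ 1 when p is odd. -/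
theorem result {G : Type*} [Group G] [Finite G] {Ω : Type*} [Fintype Ω] [MulAction G Ω] [FaithfulSMul G Ω] (p m : ℕ) (hp : p.Prime) (hcard : Fintype.card Ω = p ^ m)
    (N : Subgroup G) [N.Normal] (hNc : IsMulCommutative N) (hNp : ∀ n ∈ N, n ^ p = 1)
    (hNtr : MulAction.IsPretransitive N Ω) (hNreg : ∀ ω : Ω, MulAction.stabilizer N ω = ⊥)
    (g : G) (r : ℕ) (hr : 1 ≤ r) (hg : orderOf g = p ^ r) :
    p ^ (r - 1) ≤ m ∧ (r = m → m ≤ 2 ∧ (2 < p → m ≤ 1)) := by
  classical
  haveI : Fact p.Prime := ⟨hp⟩
  suffices main : p ^ (r - 1) ≤ m from ⟨main, small_exp hp.two_le main⟩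
  by_contra hcon
  have hne : Nonempty Ω := Fintype.card_pos_iff.1 (hcard ▸ pow_pos hp.pos m)
  obtain ⟨α⟩ := hne
  haveI := hNtr
  letI : CommGroup N := { (inferInstance : Group N) with mul_comm := fun a b => hNc.is_comm.comm a b }
  have hV : ∀ x : (Additive N), p • x = 0 := fun x => by
    show Additive.ofMul ((Additive.toMul x) ^ p) = 0
    rw [show (Additive.toMul x) ^ p = 1 from Subtype.ext (hNp _ (Additive.toMul x).2)]
    rfl
  letI : Module (ZMod p) (Additive N) := AddCommGroup.zmodModule hV
  -- decomposition `g = n₀ h`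
  obtain ⟨n0, hn0⟩ := MulAction.exists_smul_eq N α (g • α)
  set h : G := (n0 : G)⁻¹ * g with hh
  have hα : h • α = α := by
    rw [hh, mul_smul, ← hn0, show n0 • α = (n0 : G) • α from rfl, inv_smul_smul]
  have hα' : h⁻¹ • α = α := by rw [inv_smul_eq_iff, hα]
  let φ : (Additive N) →+ (Additive N) := MonoidHom.toAdditive
    { toFun := fun n => (⟨h * n * h⁻¹, (inferInstance : N.Normal).conj_mem _ n.2 h⟩ : N)
      map_one' := Subtype.ext (by simp)
      map_mul' := fun a b => Subtype.ext (by simp [mul_assoc]) }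
  let pt : (Additive N) → Ω := fun v => ((Additive.toMul v : N) : G) • α
  have hpt : ∀ v, g • pt v = pt (φ v + Additive.ofMul n0) := by
    intro v
    show g • (((Additive.toMul v : N) : G) • α) =
      ((h * ((Additive.toMul v : N) : G) * h⁻¹) * (n0 : G)) • α
    rw [smul_smul]
    have hcm : (n0 : G) * (h * ((Additive.toMul v : N) : G) * h⁻¹) = h * ((Additive.toMul v : N) : G) * h⁻¹ * n0 :=
      congrArg Subtype.val (hNc.is_comm.comm n0 ⟨_, (inferInstance : N.Normal).conj_mem _ (Additive.toMul v).2 h⟩)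
    rw [← hcm]
    conv_rhs => rw [show (n0 : G) * (h * ((Additive.toMul v : N) : G) * h⁻¹) = g * ((Additive.toMul v : N) : G) * h⁻¹ by
      rw [hh]; group, mul_smul _ h⁻¹, hα']
  have hbij : Function.Bijective pt := by
    constructor
    · intro v w hvw
      have : ((Additive.toMul w)⁻¹ * Additive.toMul v : N) ∈ MulAction.stabilizer N α := by
        rw [MulAction.mem_stabilizer_iff, mul_smul, inv_smul_eq_iff]
        exact hvw
      rw [hNreg, Subgroup.mem_bot, inv_mul_eq_one] at this
      exact Additive.toMul.injective this.symm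
    · intro ω
      obtain ⟨n, hn⟩ := MulAction.exists_smul_eq N α ω
      exact ⟨Additive.ofMul n, hn⟩
  haveI : Finite (Additive N) := Finite.of_injective _ hbij.1
  haveI : Module.Finite (ZMod p) (Additive N) := Module.Finite.of_finite
  haveI : Module.Free (ZMod p) (Additive N) := Module.Free.of_divisionRing (ZMod p) (Additive N)
  have hfin : Module.finrank (ZMod p) (Additive N) = m := by
    have h1 := FiniteField.pow_finrank_eq_natCard p (Additive N)
    rw [Nat.card_congr (Equiv.ofBijective pt hbij), Nat.card_eq_fintype_card, hcard] at h1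
    exact Nat.pow_right_injective hp.two_le h1
  let T : Module.End (ZMod p) (Additive N × ZMod p) :=
    { toFun := fun z => (φ z.1 + z.2 • (Additive.ofMul n0 : Additive N), z.2)
      map_add' := fun z w => Prod.ext (by simp only [Prod.fst_add, Prod.snd_add, map_add, add_smul]; abel) rfl
      map_smul' := fun c z => Prod.ext (by simp only [Prod.smul_fst, Prod.smul_snd, ZMod.map_smul, smul_add, smul_smul, RingHom.id_apply, smul_eq_mul]) rfl }
  have hT : ∀ v t, T (v, t) = (φ v + t • Additive.ofMul n0, t) := fun v t => rfl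
  have hiter : ∀ (j : ℕ) v, (T ^ j) (v, 1) = (((T ^ j) (v, 1)).1, 1) ∧ g ^ j • pt v = pt ((T ^ j) (v, 1)).1 := by
    intro j v
    induction j with
    | zero => simp
    | succ j ih =>
      rw [pow_succ' T, pow_succ' g, Module.End.mul_apply, ih.1, hT, mul_smul, ih.2, hpt, one_smul]
      exact ⟨rfl, rfl⟩
  -- `T ^ (p ^ r) = 1`
  have hlin : ∀ j, (∀ v, g ^ j • pt v = pt v) → T ^ j = 1 := by
    intro j hj
    have h1 : ∀ v, (T ^ j) (v, 1) = (v, 1) := by
      intro v
      rw [(hiter j v).1]
      have := (hiter j v).2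
      rw [hj] at this
      rw [← hbij.1 this]
    refine LinearMap.ext fun ⟨v, t⟩ => ?_
    have e : (v, t) = ((v, 1) - (0, 1) : (Additive N) × ZMod p) + t • (0, 1) := by simp
    rw [e, map_add, map_sub, map_smul, h1, h1, Module.End.one_apply]
  have hTr : T ^ (p ^ r) = 1 := hlin _ fun v => by rw [← hg, pow_orderOf_eq_one, one_smul]
  haveI : CharP (Module.End (ZMod p) ((Additive N) × ZMod p)) p :=
    charP_of_injective_algebraMap (R := ZMod p) (RingHom.injective _) p
  have hnil : IsNilpotent (T - 1) := ⟨p ^ r, by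
    rw [sub_pow_char_pow_of_commute _ _ (Commute.one_right T), hTr, one_pow, sub_self]⟩
  haveI : Module.Finite (ZMod p) (Additive N × ZMod p) := Module.Finite.of_finite
  haveI : Module.Free (ZMod p) (Additive N × ZMod p) := Module.Free.of_divisionRing (ZMod p) (Additive N × ZMod p)
  have hfin2 : Module.finrank (ZMod p) (Additive N × ZMod p) = m + 1 := by
    have h1 := FiniteField.pow_finrank_eq_natCard p (Additive N × ZMod p)
    rw [Nat.card_prod, Nat.card_zmod, Nat.card_congr (Equiv.ofBijective pt hbij), Nat.card_eq_fintype_card, hcard,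
      ← pow_succ] at h1
    exact Nat.pow_right_injective hp.two_le h1
  have hzero : (T - 1) ^ (p ^ (r - 1)) = 0 := by
    refine pow_eq_zero_of_le (m := Module.finrank (ZMod p) ((Additive N) × ZMod p)) ?_ ?_
    · omega
    · have := IsNilpotent.charpoly_eq_X_pow_finrank hnil
      have h2 := LinearMap.aeval_self_charpoly (T - 1)
      rw [this, map_pow, Polynomial.aeval_X] at h2
      exact h2
  rw [sub_pow_char_pow_of_commute _ _ (Commute.one_right T), one_pow, sub_eq_zero] at hzero
  have hgone : g ^ (p ^ (r - 1)) = 1 := by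
    refine FaithfulSMul.eq_of_smul_eq_smul fun ω : Ω => ?_
    obtain ⟨v, rfl⟩ := hbij.2 ω
    rw [(hiter _ v).2, hzero, one_smul, Module.End.one_apply]
  have hdvd := orderOf_dvd_of_pow_eq_one hgone
  rw [hg] at hdvd
  have := Nat.pow_dvd_pow_iff_le_right hp.one_lt |>.1 hdvd
  omega

end Cfsg.Agent.S3508
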