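import Cfsg.Statements.S3511
import Mathlib

set_option autoImplicit false
open Cfsg

namespace Cfsg.Agent.S3511



/-- Let a finite group G act faithfully on a set Ω. If every element of G of square-free order has a regular cycle (an orbit of the cyclic group it generates with trivial stabilizer), then every element of G has a regular cycle. -/
theorem result {G : Type*} [Group G] [Finite G] {Ω : Type*} [MulAction G Ω] [FaithfulSMul G Ω]
    (h : ∀ g : G, Squarefree (orderOf g) → ∃ ω : Ω, MulAction.stabilizer (Subgroup.zpowers g) ω = ⊥) (g : G) :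
    ∃ ω : Ω, MulAction.stabilizer (Subgroup.zpowers g) ω = ⊥ := by
  classical
  set n := orderOf g with hn
  have hn0 : n ≠ 0 := (orderOf_pos g).ne'
  set r := ∏ p ∈ n.primeFactors, p with hr
  have hrd : r ∣ n := Nat.prod_primeFactors_dvd n
  have hord : orderOf (g ^ (n / r)) = r := by
    rw [orderOf_pow, ← hn, Nat.gcd_eq_right (Nat.div_dvd_of_dvd hrd), Nat.div_div_self hrd hn0]
  have hsq : Squarefree r := by
    rw [hr]
    refine Finset.squarefree_prod_of_pairwise_isCoprime ?_ fun p hp => (Nat.prime_of_mem_primeFactors hp).squarefree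
    intro a ha b hb hab
    exact Nat.coprime_iff_isRelPrime.mp ((Nat.coprime_primes (Nat.prime_of_mem_primeFactors ha) (Nat.prime_of_mem_primeFactors hb)).mpr hab)
  obtain ⟨ω, hω⟩ := h _ (hord.symm ▸ hsq)
  refine ⟨ω, ?_⟩
  by_contra hne
  obtain ⟨x, hx⟩ := (Subgroup.ne_bot_iff_exists_ne_one).mp hne
  obtain ⟨⟨⟨y, hy⟩, hfix⟩, rfl⟩ : ∃ z : MulAction.stabilizer (Subgroup.zpowers g) ω, z = x := ⟨x, rfl⟩
  have hy1 : y ≠ 1 := fun e => hx (Subtype.ext (Subtype.ext e))
  obtain ⟨m, rfl⟩ := mem_powers_iff_mem_zpowers.mpr hy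
  simp only at hy1 hfix
  have hfix' : g ^ m • ω = ω := hfix
  -- a prime q such that the q-th root part is nontrivial
  set o := orderOf (g ^ m)
  have ho1 : o ≠ 1 := by simpa [o, orderOf_eq_one_iff] using hy1
  set q := o.minFac
  have hqp : q.Prime := Nat.minFac_prime ho1
  have hqo : q ∣ o := Nat.minFac_dvd o
  set z := (g ^ m) ^ (o / q) with hz
  have hzo : orderOf z = q := by
    rw [hz, orderOf_pow, Nat.gcd_eq_right (Nat.div_dvd_of_dvd hqo), Nat.div_div_self hqo (orderOf_pos _).ne']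
  have hzfix : z • ω = ω := by
    rw [hz]
    exact (MulAction.stabilizer G ω).pow_mem hfix' _
  have hqn : q ∣ n := hqo.trans (orderOf_pow_dvd m)
  have hqr : q ∣ r := Finset.dvd_prod_of_mem _ (Nat.mem_primeFactors.mpr ⟨hqp, hqn, hn0⟩)
  have hzmem : z ∈ Subgroup.zpowers (g ^ (n / r)) := by
    obtain ⟨a, ha⟩ := hqr
    obtain ⟨b, hb⟩ := hrd
    have hdiv : n ∣ m * (o / q) * q := by
      rw [hn, orderOf_dvd_iff_pow_eq_one, mul_assoc, Nat.div_mul_cancel hqo, pow_mul]
      exact pow_orderOf_eq_one _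
    have hnr : n / r = b := by
      rw [hb]; exact Nat.mul_div_cancel_left b (Nat.pos_of_ne_zero hsq.ne_zero)
    obtain ⟨c, hc⟩ : n / r ∣ m * (o / q) := by
      rw [hnr]
      have h' : q * (a * b) ∣ q * (m * (o / q)) := by
        rw [← mul_assoc, ← ha, ← hb, mul_comm q]; exact hdiv
      exact (dvd_mul_left b a).trans (Nat.dvd_of_mul_dvd_mul_left hqp.pos h')
    rw [hz, ← pow_mul, hc, pow_mul]
    exact Subgroup.npow_mem_zpowers _ _
  have : (⟨z, hzmem⟩ : Subgroup.zpowers (g ^ (n / r))) ∈ MulAction.stabilizer _ ω := hzfix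
  rw [hω, Subgroup.mem_bot] at this
  have hz1 : z = 1 := congrArg Subtype.val this
  rw [hz1, orderOf_one] at hzo
  exact hqp.one_lt.ne hzo

end Cfsg.Agent.S3511
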