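import Cfsg.Statements.S3514
import Mathlib

set_option autoImplicit false
open Cfsg

namespace Cfsg.Agent.S3514

section
variable {X : Type*} [Group X] [Finite X]

theorem relIndex_of_mem_sup (T N : Subgroup X) [N.Normal] :
    T.relIndex (T ⊔ N) = T.relIndex N := by
  have h1 : (T ⊓ N).relIndex T * T.relIndex (T ⊔ N) = (T ⊓ N).relIndex (T ⊔ N) :=
    Subgroup.relIndex_mul_relIndex _ _ _ inf_le_left le_sup_left
  have h2 : (T ⊓ N).relIndex N * N.relIndex (T ⊔ N) = (T ⊓ N).relIndex (T ⊔ N) :=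
    Subgroup.relIndex_mul_relIndex _ _ _ inf_le_right le_sup_right
  rw [Subgroup.inf_relIndex_left] at h1
  rw [Subgroup.inf_relIndex_right, Subgroup.relIndex_sup_right] at h2
  have h0 : N.relIndex T ≠ 0 := Subgroup.index_ne_zero_of_finite (H := N.subgroupOf T)
  exact Nat.eq_of_mul_eq_mul_left (Nat.pos_of_ne_zero h0) (by rw [h1, ← h2, mul_comm])

theorem relIndex_normal_dvd_index (T N : Subgroup X) [N.Normal] : T.relIndex N ∣ T.index := by
  rw [← relIndex_of_mem_sup T N, ← Subgroup.relIndex_mul_index (le_sup_left : T ≤ T ⊔ N)]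
  exact dvd_mul_right _ _

theorem index_eq_relIndex_of_sup (U N H : Subgroup X) [N.Normal] (hNU : N ≤ U) (hNH : N ⊔ H = ⊤) :
    U.index = U.relIndex H := by
  have h1 : N.relIndex H = N.index := by
    rw [← Subgroup.relIndex_sup_right H N, sup_comm, hNH, Subgroup.relIndex_top_right]
  have h2 : (N ⊓ H).relIndex (U ⊓ H) * (U ⊓ H).relIndex H = (N ⊓ H).relIndex H :=
    Subgroup.relIndex_mul_relIndex _ _ _ (inf_le_inf_right H hNU) inf_le_right
  simp only [Subgroup.inf_relIndex_right] at h2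
  have h3 : N.relIndex U = (N ⊓ H).relIndex (U ⊓ H) := by
    have hU : (U ⊓ H) ⊔ N = U := by
      apply le_antisymm (sup_le inf_le_left hNU)
      intro u hu
      have : u ∈ H ⊔ N := by rw [sup_comm, hNH]; trivial
      obtain ⟨h, hh, n, hn, rfl⟩ := Subgroup.mem_sup_of_normal_right.mp this
      exact Subgroup.mul_mem_sup ⟨by simpa using U.mul_mem hu (U.inv_mem (hNU hn)), hh⟩ hn
    have : N.relIndex ((U ⊓ H) ⊔ N) = N.relIndex (U ⊓ H) := Subgroup.relIndex_sup_right _ _
    rw [hU] at this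
    rw [this, ← Subgroup.inf_relIndex_right N (U ⊓ H), ← Subgroup.inf_relIndex_right (N ⊓ H) (U ⊓ H)]
    congr 1
    ext; simp only [Subgroup.mem_inf]; tauto
  have hne : (N ⊓ H).relIndex (U ⊓ H) ≠ 0 := Subgroup.index_ne_zero_of_finite
  have h4 := Subgroup.relIndex_mul_index hNU
  rw [h3, ← h1] at h4
  exact Nat.eq_of_mul_eq_mul_left (Nat.pos_of_ne_zero hne) (by rw [h2, h4])

end

/-- Let p be a prime, V a finite vector space over the field with p elements, and H a group of linear transformations of V all of whose orbits on V have size coprime to p. (i) Every normal subgroup K of H has all its orbits on V of size coprime to p. (ii) If N is a group of linear transformations of V of order coprime to p that is normalized by H, then the group generated by N and H has all its orbits on V of size coprime to p. -/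
theorem result (p : ℕ) [Fact p.Prime] {V : Type*} [AddCommGroup V] [Module (ZMod p) V] [Finite V]
    (H : Subgroup (V ≃ₗ[ZMod p] V)) (hH : ∀ v : V, ¬ p ∣ Nat.card {u : V | ∃ h ∈ H, h v = u}) :
    (∀ K : Subgroup (V ≃ₗ[ZMod p] V), K ≤ H → H ≤ Subgroup.normalizer (K : Set (V ≃ₗ[ZMod p] V)) →
        ∀ v : V, ¬ p ∣ Nat.card {u : V | ∃ k ∈ K, k v = u}) ∧
    (∀ N : Subgroup (V ≃ₗ[ZMod p] V), ¬ p ∣ Nat.card N → H ≤ Subgroup.normalizer (N : Set (V ≃ₗ[ZMod p] V)) →
        ∀ v : V, ¬ p ∣ Nat.card {u : V | ∃ x ∈ N ⊔ H, x v = u}) := by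
  have horb : ∀ (K : Subgroup (V ≃ₗ[ZMod p] V)) (v : V), Nat.card {u : V | ∃ k ∈ K, k v = u} =
      ((MulAction.stabilizer (V ≃ₗ[ZMod p] V) v).subgroupOf K).index := fun K v => by
    rw [show (MulAction.stabilizer (V ≃ₗ[ZMod p] V) v).subgroupOf K = MulAction.stabilizer K v from
      Subgroup.ext fun _ => Iff.rfl, MulAction.index_stabilizer, ← Nat.card_coe_set_eq]
    refine Nat.card_congr (Equiv.setCongr ?_)
    ext u; simp only [Set.mem_setOf_eq, MulAction.mem_orbit_iff, Subtype.exists]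
    exact ⟨fun ⟨k, hk, e⟩ => ⟨k, hk, e⟩, fun ⟨k, hk, e⟩ => ⟨k, hk, e⟩⟩
  haveI : Finite (V ≃ₗ[ZMod p] V) := Finite.of_injective _ DFunLike.coe_injective
  refine ⟨fun K hKH hn v hp => hH v ?_, fun N hpN hn v hp => ?_⟩
  · rw [horb] at hp ⊢
    haveI : (K.subgroupOf H).Normal := (Subgroup.normal_subgroupOf_iff_le_normalizer hKH).mpr hn
    have := relIndex_normal_dvd_index ((MulAction.stabilizer (V ≃ₗ[ZMod p] V) v).subgroupOf H) (K.subgroupOf H)
    rw [Subgroup.relIndex_subgroupOf hKH] at this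
    exact hp.trans this
  · rw [horb] at hp
    set X := N ⊔ H
    set S := (MulAction.stabilizer (V ≃ₗ[ZMod p] V) v).subgroupOf X with hS
    set M := N.subgroupOf X
    set H' := H.subgroupOf X
    haveI : M.Normal := (Subgroup.normal_subgroupOf_iff_le_normalizer le_sup_left).mpr
      (sup_le Subgroup.le_normalizer hn)
    have htop : M ⊔ H' = ⊤ := by
      rw [← Subgroup.subgroupOf_sup le_sup_left le_sup_right, Subgroup.subgroupOf_self]
    have h1 := index_eq_relIndex_of_sup (S ⊔ M) M H' le_sup_right htop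
    have h2 : (S ⊔ M).index ∣ Nat.card {u : V | ∃ h ∈ H, h v = u} := by
      rw [h1, horb, ← Subgroup.relIndex, ← Subgroup.relIndex_subgroupOf (le_sup_right : H ≤ X)]
      exact Subgroup.relIndex_dvd_of_le_left _ le_sup_left
    have h3 : S.relIndex (S ⊔ M) ∣ Nat.card N := by
      rw [relIndex_of_mem_sup, ← Nat.card_congr (Subgroup.subgroupOfEquivOfLe (le_sup_left : N ≤ X)).toEquiv]
      exact Subgroup.index_dvd_card _
    rw [← Subgroup.relIndex_mul_index (le_sup_left : S ≤ S ⊔ M)] at hp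
    rcases (Nat.Prime.dvd_mul Fact.out).mp hp with h | h
    · exact hpN (h.trans h3)
    · exact hH v (h.trans h2)

end Cfsg.Agent.S3514
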