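import Cfsg.Statements.S3515
import Mathlib

set_option autoImplicit false
open Cfsg

namespace Cfsg.Agent.S3515

theorem four (y : Fin 2 → ZMod 2) : y = 0 ∨ y = ![1, 0] ∨ y = ![0, 1] ∨ y = ![1, 1] := by
  revert y; decide

theorem four_ne : ¬(![1, 1] : Fin 2 → ZMod 2) = 0 ∧ ¬(![1, 1] : Fin 2 → ZMod 2) = ![1, 0] ∧
    ¬(![1, 1] : Fin 2 → ZMod 2) = ![0, 1] := by decide

theorem line_fix {p n : ℕ} [Fact p.Prime] (G : Subgroup (Equiv.Perm (Fin n → ZMod p)))
    (haff : (G : Set (Equiv.Perm (Fin n → ZMod p))) ⊆ {τ | ∃ (A : (Fin n → ZMod p) ≃ₗ[ZMod p] (Fin n → ZMod p)) (b : Fin n → ZMod p), ∀ x, τ x = A x + b})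
    (σ : Equiv.Perm (Fin n → ZMod p)) (hσ : ∀ t : Fin 3 → (Fin n → ZMod p), ∃ g ∈ G, ∀ i, σ (t i) = g (t i))
    (u v : Fin n → ZMod p) (a : ZMod p) :
    σ (u + a • (v - u)) = σ u + a • (σ v - σ u) := by
  obtain ⟨g, hg, hh⟩ := hσ ![u, v, u + a • (v - u)]
  obtain ⟨A, b, hA⟩ := haff hg
  have h0 : σ u = g u := hh 0
  have h1 : σ v = g v := hh 1
  have h2 : σ (u + a • (v - u)) = g (u + a • (v - u)) := hh 2
  rw [h0, h1, h2, hA, hA, hA, map_add, map_smul, map_sub]
  module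


/-- Every primitive affine permutation group of degree p² is 3-closed. Let p be a prime and G a group of permutations of the plane V = F_p² consisting of affine maps x ↦ Ax + b, containing all translations, and acting primitively on V. Then any permutation σ of V that agrees on every triple of points with some element of G (σ preserves every G-orbit on ordered triples) already lies in G. -/
theorem result (p : ℕ) [Fact p.Prime] (G : Subgroup (Equiv.Perm (Fin 2 → ZMod p)))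
    (haff : (G : Set (Equiv.Perm (Fin 2 → ZMod p))) ⊆ {τ : Equiv.Perm (Fin 2 → ZMod p) | ∃ (A : (Fin 2 → ZMod p) ≃ₗ[ZMod p] (Fin 2 → ZMod p)) (b : Fin 2 → ZMod p), ∀ x, τ x = A x + b})
    (htrans : ∀ b : Fin 2 → ZMod p, ∃ g ∈ G, ∀ x, g x = x + b) (hprim : MulAction.IsPreprimitive G (Fin 2 → ZMod p))
    (σ : Equiv.Perm (Fin 2 → ZMod p)) (hσ : (∀ t : Fin 3 → (Fin 2 → ZMod p), ∃ g ∈ G, ∀ i, σ (t i) = g (t i))) : σ ∈ G := by
  have hp : p.Prime := Fact.out
  set e1 : Fin 2 → ZMod p := ![1, 0]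
  set e2 : Fin 2 → ZMod p := ![0, 1]
  obtain ⟨g, hg, hh⟩ := hσ ![0, e1, e2]
  have hτ : ∀ t : Fin 3 → (Fin 2 → ZMod p), ∃ h ∈ G, ∀ i, (g⁻¹ * σ) (t i) = h (t i) := by
    intro t
    obtain ⟨h, hh', he⟩ := hσ t
    exact ⟨g⁻¹ * h, mul_mem (inv_mem hg) hh', fun i => by simp [Equiv.Perm.mul_apply, he i]⟩
  set τ := g⁻¹ * σ with hτdef
  have f0 : τ 0 = 0 := by rw [hτdef, Equiv.Perm.mul_apply, show σ 0 = g 0 from hh 0]; simp
  have f1 : τ e1 = e1 := by rw [hτdef, Equiv.Perm.mul_apply, show σ e1 = g e1 from hh 1]; simp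
  have f2 : τ e2 = e2 := by rw [hτdef, Equiv.Perm.mul_apply, show σ e2 = g e2 from hh 2]; simp
  have hsm : ∀ (v : Fin 2 → ZMod p) (a : ZMod p), τ v = v → τ (a • v) = a • v := by
    intro v a hv
    simpa [f0, hv] using line_fix G haff τ hτ 0 v a
  suffices hid : τ = 1 by
    rw [hτdef, inv_mul_eq_one] at hid
    exact hid ▸ hg
  ext x : 1
  rw [Equiv.Perm.one_apply]
  have hx : x = x 0 • e1 + x 1 • e2 := by funext i; fin_cases i <;> simp [e1, e2]
  by_cases h2 : (2 : ZMod p) = 0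
  · -- only four points
    haveI : CharP (ZMod p) p := ZMod.charP p
    have hp2 : p = 2 := by
      have h2' : ((2 : ℕ) : ZMod p) = 0 := by exact_mod_cast h2
      rw [ZMod.natCast_eq_zero_iff] at h2'
      exact (Nat.prime_dvd_prime_iff_eq hp Nat.prime_two).1 h2'
    subst hp2
    have key := four
    rcases key x with rfl | rfl | rfl | rfl
    · exact f0
    · exact f1
    · exact f2
    · rcases key (τ ![1, 1]) with h | h | h | h
      · exact absurd (τ.injective (h.trans f0.symm)) four_ne.1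
      · exact absurd (τ.injective (h.trans f1.symm)) four_ne.2.1
      · exact absurd (τ.injective (h.trans f2.symm)) four_ne.2.2
      · exact h
  · have l := line_fix G haff τ hτ ((2 * x 0) • e1) ((2 * x 1) • e2) (2⁻¹)
    rw [hsm _ _ f1, hsm _ _ f2] at l
    have hmid : (2 * x 0) • e1 + (2⁻¹ : ZMod p) • ((2 * x 1) • e2 - (2 * x 0) • e1) = x := by
      funext i; fin_cases i <;> simp [e1, e2] <;> field_simp <;> ring
    rwa [hmid] at l

end Cfsg.Agent.S3515
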