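import Cfsg.Statements.S3516
import Mathlib

set_option autoImplicit false
open Cfsg

namespace Cfsg.Agent.S3516

theorem line_fix {p n : ℕ} [Fact p.Prime] (G : Subgroup (Equiv.Perm (Fin n → ZMod p)))
    (haff : (G : Set (Equiv.Perm (Fin n → ZMod p))) ⊆ {τ | ∃ (A : (Fin n → ZMod p) ≃ₗ[ZMod p] (Fin n → ZMod p)) (b : Fin n → ZMod p), ∀ x, τ x = A x + b})
    (σ : Equiv.Perm (Fin n → ZMod p)) (hσ : ∀ t : Fin 3 → (Fin n → ZMod p), ∃ g ∈ G, ∀ i, σ (t i) = g (t i))
    (u v : Fin n → ZMod p) (a : ZMod p) :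
    σ (u + a • (v - u)) = σ u + a • (σ v - σ u) := by
  obtain ⟨g, hg, hh⟩ := hσ ![u, v, u + a • (v - u)]
  obtain ⟨A, b, hA⟩ := haff hg
  have h0 : σ u = g u := hh 0
  have h1 : σ v = g v := hh 1
  have h2 : σ (u + a • (v - u)) = g (u + a • (v - u)) := hh 2
  rw [h0, h1, h2, hA, hA, hA, map_add, map_smul, map_sub]
  module


/-- Let p be an odd prime, d ≥ 3, and G a group of affine permutations x ↦ Ax + b of V = F_p^d containing all translations and all maps x ↦ Ax with A of determinant 1. Then the 3-closure of G is the full affine group: a permutation σ of V agrees on every triple of points with some element of G if and only if σ is an affine map. -/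
theorem result (p : ℕ) [Fact p.Prime] (hp : p ≠ 2) (d : ℕ) (hd : 3 ≤ d) (G : Subgroup (Equiv.Perm (Fin d → ZMod p)))
    (haff : (G : Set (Equiv.Perm (Fin d → ZMod p))) ⊆ {τ : Equiv.Perm (Fin d → ZMod p) | ∃ (A : (Fin d → ZMod p) ≃ₗ[ZMod p] (Fin d → ZMod p)) (b : Fin d → ZMod p), ∀ x, τ x = A x + b})
    (htrans : ∀ b : Fin d → ZMod p, ∃ g ∈ G, ∀ x, g x = x + b)
    (hsl : ∀ A : (Fin d → ZMod p) ≃ₗ[ZMod p] (Fin d → ZMod p), LinearMap.det (A : (Fin d → ZMod p) →ₗ[ZMod p] (Fin d → ZMod p)) = 1 → ∃ g ∈ G, ∀ x, g x = A x)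
    (σ : Equiv.Perm (Fin d → ZMod p)) :
    (∀ t : Fin 3 → (Fin d → ZMod p), ∃ g ∈ G, ∀ i, σ (t i) = g (t i)) ↔ σ ∈ {τ : Equiv.Perm (Fin d → ZMod p) | ∃ (A : (Fin d → ZMod p) ≃ₗ[ZMod p] (Fin d → ZMod p)) (b : Fin d → ZMod p), ∀ x, τ x = A x + b} := by
  constructor
  · intro hσ
    have hp' : (2 : ZMod p) ≠ 0 := by
      intro h
      have h2' : ((2 : ℕ) : ZMod p) = 0 := by exact_mod_cast h
      rw [ZMod.natCast_eq_zero_iff] at h2'
      exact hp ((Nat.prime_dvd_prime_iff_eq Fact.out Nat.prime_two).1 h2')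
    have L := line_fix G haff σ hσ
    have hsm : ∀ (a : ZMod p) v, σ (a • v) - σ 0 = a • (σ v - σ 0) := by
      intro a v
      have := L 0 v a
      simp only [zero_add, sub_zero] at this
      rw [this]; abel
    have hadd : ∀ u v, σ (u + v) - σ 0 = (σ u - σ 0) + (σ v - σ 0) := by
      intro u v
      have h := L ((2 : ZMod p) • u) ((2 : ZMod p) • v) 2⁻¹
      have e : (2 : ZMod p) • u + (2⁻¹ : ZMod p) • ((2 : ZMod p) • v - (2 : ZMod p) • u) = u + v := by
        rw [← smul_sub, smul_smul, inv_mul_cancel₀ hp', one_smul]; module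
      rw [e] at h
      have a1 : σ ((2 : ZMod p) • u) = (2 : ZMod p) • (σ u - σ 0) + σ 0 := by rw [← hsm]; abel
      have a2 : σ ((2 : ZMod p) • v) = (2 : ZMod p) • (σ v - σ 0) + σ 0 := by rw [← hsm]; abel
      rw [h, a1, a2, add_sub_add_right_eq_sub, ← smul_sub, smul_smul, inv_mul_cancel₀ hp', one_smul]
      module
    let L0 : (Fin d → ZMod p) →ₗ[ZMod p] (Fin d → ZMod p) :=
      { toFun := fun x => σ x - σ 0, map_add' := hadd, map_smul' := hsm }
    have hbij : Function.Bijective L0 :=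
      (Equiv.subRight (σ 0)).bijective.comp σ.bijective
    refine ⟨LinearEquiv.ofBijective L0 hbij, σ 0, fun x => ?_⟩
    show σ x = (σ x - σ 0) + σ 0
    abel
  · rintro ⟨A, b, hA⟩ t
    set u := t 1 - t 0
    set v := t 2 - t 0
    set S : Submodule (ZMod p) (Fin d → ZMod p) := Submodule.span (ZMod p) (Set.range ![u, v])
    have hS : S < ⊤ := by
      rw [lt_top_iff_ne_top]
      intro h
      have h1 : Module.finrank (ZMod p) S ≤ 2 := by
        simpa [S, Set.finrank] using finrank_range_le_card (R := ZMod p) ![u, v]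
      rw [h, finrank_top, Module.finrank_fin_fun] at h1
      omega
    obtain ⟨f, hf0, hfS⟩ := S.exists_le_ker_of_lt_top hS
    obtain ⟨w, hw⟩ : ∃ w, f w ≠ 0 := by
      by_contra h
      simp only [not_exists, not_not] at h
      exact hf0 (LinearMap.ext h)
    set c : ZMod p := LinearMap.det (A : (Fin d → ZMod p) →ₗ[ZMod p] (Fin d → ZMod p))
    have hc : c ≠ 0 := (LinearEquiv.isUnit_det' A).ne_zero
    set T := LinearMap.transvection f (((c⁻¹ - 1) * (f w)⁻¹) • w)
    have hT : LinearMap.det T = c⁻¹ := by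
      rw [LinearMap.transvection.det, map_smul, smul_eq_mul, mul_assoc, inv_mul_cancel₀ hw]
      ring
    let Te := LinearMap.equivOfIsUnitDet (f := T) (by rw [hT]; exact (inv_ne_zero hc).isUnit)
    obtain ⟨g, hg, hgx⟩ := hsl (Te.trans A) (by
      rw [LinearEquiv.coe_trans, LinearMap.det_comp]
      have : ((Te : (Fin d → ZMod p) ≃ₗ[ZMod p] _) : (Fin d → ZMod p) →ₗ[ZMod p] _) = T :=
        LinearMap.coe_equivOfIsUnitDet _
      rw [this, hT]
      exact mul_inv_cancel₀ hc)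
    obtain ⟨h1, hh1, hhx⟩ := htrans (-(t 0))
    obtain ⟨h2, hh2, hhy⟩ := htrans (A (t 0) + b)
    refine ⟨h2 * g * h1, mul_mem (mul_mem hh2 hg) hh1, fun i => ?_⟩
    have fixT : ∀ y ∈ S, Te y = y := by
      intro y hy
      rw [LinearMap.equivOfIsUnitDet_apply]
      rw [LinearMap.transvection.apply, LinearMap.mem_ker.1 (hfS hy), zero_smul, add_zero]
    have hy : t i - t 0 ∈ S := by
      fin_cases i
      · simp
      · exact Submodule.subset_span ⟨0, rfl⟩
      · exact Submodule.subset_span ⟨1, rfl⟩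
    rw [Equiv.Perm.mul_apply, Equiv.Perm.mul_apply, hhx, hgx, hhy, hA, LinearEquiv.trans_apply,
      ← sub_eq_add_neg, fixT _ hy, map_sub]
    abel

end Cfsg.Agent.S3516
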