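import Cfsg.Statements.S3517
import Mathlib

set_option autoImplicit false
open Cfsg

namespace Cfsg.Agent.S3517

theorem exists_equiv_of_li {K V ι : Type*} [Field K] [AddCommGroup V] [Module K V] [FiniteDimensional K V]
    [Fintype ι] (v w : ι → V) (hv : LinearIndependent K v) (hw : LinearIndependent K w) :
    ∃ A : V ≃ₗ[K] V, ∀ i, A (v i) = w i := by
  classical
  let B := Module.Basis.sumExtend hv
  let C := Module.Basis.sumExtend hw
  haveI := FiniteDimensional.fintypeBasisIndex B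
  haveI := FiniteDimensional.fintypeBasisIndex C
  haveI : Finite (Module.Basis.sumExtendIndex hv) := Finite.of_injective (Sum.inr : _ → ι ⊕ _) Sum.inr_injective
  haveI : Finite (Module.Basis.sumExtendIndex hw) := Finite.of_injective (Sum.inr : _ → ι ⊕ _) Sum.inr_injective
  have hB := Module.finrank_eq_nat_card_basis B
  have hC := Module.finrank_eq_nat_card_basis C
  rw [Nat.card_sum] at hB hC
  have e : Module.Basis.sumExtendIndex hv ≃ Module.Basis.sumExtendIndex hw := (Finite.card_eq.mp (by omega)).some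
  refine ⟨B.equiv C (Equiv.sumCongr (Equiv.refl ι) e), fun i => ?_⟩
  have h1 : B (Sum.inl i) = v i := by simp [B, Module.Basis.sumExtend]; rfl
  have h2 : C (Sum.inl i) = w i := by simp [C, Module.Basis.sumExtend]; rfl
  rw [← h1, Module.Basis.equiv_apply, ← h2]
  rfl

theorem li_pair {V : Type*} [AddCommGroup V] [Module (ZMod 2) V] {u v : V} (hu : u ≠ 0) (hv : v ≠ 0) (hne : u ≠ v) :
    LinearIndependent (ZMod 2) ![u, v] := by
  rw [LinearIndependent.pair_iff]
  intro s t h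
  have hh : ∀ a : ZMod 2, a = 0 ∨ a = 1 := by decide
  rcases hh s with rfl | rfl <;> rcases hh t with rfl | rfl
  · exact ⟨rfl, rfl⟩
  · simp at h; exact absurd h hv
  · simp at h; exact absurd h hu
  · exfalso
    simp only [one_smul] at h
    apply hne
    have h2 : v + v = 0 := by
      rw [← two_smul (ZMod 2) v, show (2 : ZMod 2) = 0 from rfl, zero_smul]
    exact add_right_cancel (h.trans h2.symm)

/-- For d ≥ 3, the 3-closure of the affine group AGL_d(2) acting on F_2^d is the full symmetric group: every permutation of F_2^d agrees on every ordered triple of points with some affine map (AGL_d(2) is 3-transitive). -/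
theorem result (d : ℕ) (hd : 3 ≤ d) (σ : Equiv.Perm (Fin d → ZMod 2)) (t : Fin 3 → (Fin d → ZMod 2)) :
    ∃ (A : (Fin d → ZMod 2) ≃ₗ[ZMod 2] (Fin d → ZMod 2)) (b : Fin d → ZMod 2), ∀ i, σ (t i) = A (t i) + b := by
  classical
  set u : Fin 3 → (Fin d → ZMod 2) := fun i => t i - t 0 with hu
  set w : Fin 3 → (Fin d → ZMod 2) := fun i => σ (t i) - σ (t 0) with hw
  have hiff : ∀ i j, u i = u j ↔ w i = w j := fun i j => by
    simp only [hu, hw, sub_left_inj, EmbeddingLike.apply_eq_iff_eq]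
  suffices h : ∃ A : (Fin d → ZMod 2) ≃ₗ[ZMod 2] (Fin d → ZMod 2), ∀ i, A (u i) = w i by
    obtain ⟨A, hA⟩ := h
    refine ⟨A, σ (t 0) - A (t 0), fun i => ?_⟩
    have := hA i
    simp only [hu, hw, map_sub] at this
    rw [sub_eq_sub_iff_add_eq_add] at this
    rw [add_sub, this, add_sub_cancel_right]
  have hu0 : u 0 = 0 := sub_self _
  have hw0 : w 0 = 0 := sub_self _
  have hthird : ∀ a : (Fin d → ZMod 2), ∃ b : (Fin d → ZMod 2), b ≠ 0 ∧ b ≠ a := by
    intro a
    by_contra hcon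
    push Not at hcon
    have h1 : (Finset.univ : Finset (Fin d → ZMod 2)) ⊆ {0, a} := fun b _ => by
      by_cases h : b = 0
      · simp [h]
      · simp [hcon b h]
    have h2 := (Finset.card_le_card h1).trans Finset.card_le_two
    rw [Finset.card_univ, Fintype.card_fun, ZMod.card, Fintype.card_fin] at h2
    have : 2 ^ 3 ≤ 2 ^ d := Nat.pow_le_pow_right (by norm_num) hd
    omega
  have pair : ∀ a b a' b' : (Fin d → ZMod 2), a ≠ 0 → b ≠ 0 → a ≠ b → a' ≠ 0 → b' ≠ 0 → a' ≠ b' →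
      ∃ A : (Fin d → ZMod 2) ≃ₗ[ZMod 2] (Fin d → ZMod 2), A a = a' ∧ A b = b' := by
    intro a b a' b' h1 h2 h3 h4 h5 h6
    obtain ⟨A, hA⟩ := exists_equiv_of_li ![a, b] ![a', b'] (li_pair h1 h2 h3) (li_pair h4 h5 h6)
    exact ⟨A, hA 0, hA 1⟩
  have single : ∀ a a' : (Fin d → ZMod 2), a ≠ 0 → a' ≠ 0 → ∃ A : (Fin d → ZMod 2) ≃ₗ[ZMod 2] (Fin d → ZMod 2), A a = a' := by
    intro a a' h1 h2
    obtain ⟨b, hb, hb'⟩ := hthird a
    obtain ⟨c, hc, hc'⟩ := hthird a'
    obtain ⟨A, hA, -⟩ := pair a b a' c h1 hb hb'.symm h2 hc hc'.symm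
    exact ⟨A, hA⟩
  have h10 : u 1 = 0 ↔ w 1 = 0 := by have := hiff 1 0; rwa [hu0, hw0] at this
  have h20 : u 2 = 0 ↔ w 2 = 0 := by have := hiff 2 0; rwa [hu0, hw0] at this
  have h12 := hiff 1 2
  suffices h : ∃ A : (Fin d → ZMod 2) ≃ₗ[ZMod 2] (Fin d → ZMod 2), A (u 1) = w 1 ∧ A (u 2) = w 2 by
    obtain ⟨A, a1, a2⟩ := h
    refine ⟨A, fun i => ?_⟩
    fin_cases i
    · show A (u 0) = w 0; rw [hu0, hw0, map_zero]
    · exact a1
    · exact a2
  by_cases e1 : u 1 = 0 <;> by_cases e2 : u 2 = 0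
  · exact ⟨LinearEquiv.refl _ _, by simp [e1, h10.mp e1], by simp [e2, h20.mp e2]⟩
  · obtain ⟨A, hA⟩ := single _ _ e2 (fun h => e2 (h20.mpr h))
    exact ⟨A, by rw [e1, h10.mp e1, map_zero], hA⟩
  · obtain ⟨A, hA⟩ := single _ _ e1 (fun h => e1 (h10.mpr h))
    exact ⟨A, hA, by rw [e2, h20.mp e2, map_zero]⟩
  · by_cases e3 : u 1 = u 2
    · obtain ⟨A, hA⟩ := single _ _ e1 (fun h => e1 (h10.mpr h))
      exact ⟨A, hA, by rw [← e3, ← h12.mp e3]; exact hA⟩
    · exact pair _ _ _ _ e1 e2 e3 (fun h => e1 (h10.mpr h)) (fun h => e2 (h20.mpr h)) (fun h => e3 (h12.mpr h))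

end Cfsg.Agent.S3517
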