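import Cfsg.Statements.S3518
import Mathlib

set_option autoImplicit false
open Cfsg

namespace Cfsg.Agent.S3518

open Polynomial in
theorem affine_of_slopes {p : ℕ} [hp : Fact p.Prime] (f : ZMod p → ZMod p) (hf : Function.Injective f)
    (m : ℕ) (hm : 1 ≤ m) (hm2 : 2 * m < p)
    (h : ∀ x y : ZMod p, (f x - f y) ^ m = (x - y) ^ m) :
    ∃ a b : ZMod p, ∀ x, f x = a * x + b := by
  classical
  -- the space of functions given by polynomials of degree at most m
  let P : ℕ → Submodule (ZMod p) (ZMod p → ZMod p) := fun n =>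
    Submodule.span (ZMod p) (Set.range fun i : Fin (n + 1) => fun y : ZMod p => y ^ (i : ℕ))
  have hP : ∀ n (g : ZMod p → ZMod p), g ∈ P n ↔ ∃ F : (ZMod p)[X], F.natDegree ≤ n ∧ ∀ y, g y = F.eval y := by
    intro n g
    constructor
    · intro hg
      induction hg using Submodule.span_induction with
      | mem g hg =>
        obtain ⟨i, rfl⟩ := hg
        exact ⟨X ^ (i : ℕ), by rw [natDegree_X_pow]; omega, fun y => by simp⟩
      | zero => exact ⟨0, by simp, fun y => by simp⟩
      | add u v _ _ hu hv =>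
        obtain ⟨A, hA, hA'⟩ := hu
        obtain ⟨B, hB, hB'⟩ := hv
        exact ⟨A + B, (natDegree_add_le A B).trans (max_le hA hB), fun y => by simp [hA' y, hB' y]⟩
      | smul c u _ hu =>
        obtain ⟨A, hA, hA'⟩ := hu
        exact ⟨C c * A, (natDegree_C_mul_le c A).trans hA, fun y => by simp [hA' y]⟩
    · rintro ⟨F, hF, hg⟩
      have : g = ∑ i : Fin (n + 1), F.coeff i • (fun y : ZMod p => y ^ (i : ℕ)) := by
        funext y
        rw [hg y, eval_eq_sum_range' (Nat.lt_succ_of_le hF), Finset.sum_range]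
        simp
      rw [this]
      exact Submodule.sum_mem _ fun i _ => Submodule.smul_mem _ _ (Submodule.subset_span ⟨i, rfl⟩)
  -- every power of f up to m is a polynomial of degree at most m
  have hpow : ∀ j : Fin (m + 1), (fun y => f y ^ (j : ℕ)) ∈ P m := by
    -- choose m+1 distinct values of f
    have hcard : m + 1 ≤ Fintype.card (ZMod p) := by rw [ZMod.card]; omega
    obtain ⟨e⟩ : Nonempty (Fin (m + 1) ↪ ZMod p) :=
      Function.Embedding.nonempty_of_card_le (by rw [Fintype.card_fin]; exact hcard)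
    let A : Matrix (Fin (m + 1)) (Fin (m + 1)) (ZMod p) := Matrix.vandermonde fun i => f (e i)
    have hA : IsUnit A.det :=
      (Matrix.det_vandermonde_ne_zero_iff.mpr (hf.comp e.injective)).isUnit
    intro j
    -- coefficient functions
    let w : Fin (m + 1) → (ZMod p → ZMod p) := fun i => fun y => (m.choose (i : ℕ) : ZMod p) * (-f y) ^ (m - (i : ℕ))
    have hrow : ∀ k : Fin (m + 1), (∑ i, A k i • w i) ∈ P m := by
      intro k
      rw [hP]
      refine ⟨(C (e k) - X) ^ m, ?_, fun y => ?_⟩
      · refine natDegree_pow_le.trans ?_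
        calc m * (C (e k) - X).natDegree ≤ m * 1 := Nat.mul_le_mul le_rfl (by compute_degree!)
          _ = m := mul_one m
      · rw [eval_pow, eval_sub, eval_C, eval_X, ← h, sub_eq_add_neg, add_pow, Finset.sum_range, Finset.sum_apply]
        refine Finset.sum_congr rfl fun i _ => ?_
        simp [A, w, Matrix.vandermonde_apply]
        ring
    have hw : ∀ i, w i ∈ P m := by
      intro i
      have : w i = ∑ k, (A⁻¹ i k) • ∑ l, A k l • w l := by
        simp only [Finset.smul_sum, smul_smul]
        rw [Finset.sum_comm]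
        simp only [← Finset.sum_smul, ← Matrix.mul_apply, Matrix.nonsing_inv_mul _ hA, Matrix.one_apply,
          ite_smul, one_smul, zero_smul]
        simp
      rw [this]
      exact Submodule.sum_mem _ fun k _ => Submodule.smul_mem _ _ (hrow k)
    have hji : m - (m - (j : ℕ)) = (j : ℕ) := by omega
    have hne : (m.choose (m - (j : ℕ)) : ZMod p) ≠ 0 := by
      rw [Ne, ZMod.natCast_eq_zero_iff]
      intro hd
      have h1 : p ∣ m.factorial := hd.trans ⟨(m - (j : ℕ)).factorial * (m - (m - (j : ℕ))).factorial, by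
        rw [← mul_assoc, Nat.choose_mul_factorial_mul_factorial (Nat.sub_le _ _)]⟩
      have := hp.out.dvd_factorial.mp h1
      omega
    have hm' := hw ⟨m - (j : ℕ), by omega⟩
    have : (fun y => f y ^ (j : ℕ)) = ((m.choose (m - (j : ℕ)) : ZMod p) * (-1) ^ (j : ℕ))⁻¹ • w ⟨m - (j : ℕ), by omega⟩ := by
      funext y
      simp only [w, Pi.smul_apply, smul_eq_mul, hji]
      rw [neg_pow (f y)]
      have h2 : ((-1 : ZMod p)) ^ (j : ℕ) ≠ 0 := pow_ne_zero _ (by norm_num)
      field_simp
    rw [this]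
    exact Submodule.smul_mem _ _ hm'
  obtain ⟨F, hF, hFy⟩ := (hP m _).mp (hpow ⟨1, by omega⟩)
  simp only [pow_one] at hFy
  have hk : F.natDegree ≤ 1 := by
    by_contra hk2
    push Not at hk2
    set k := F.natDegree
    set j := m / k + 1
    have hj1 : m < j * k := by
      have := Nat.lt_div_mul_add (a := m) (b := k) (by omega)
      show m < (m / k + 1) * k
      rw [add_mul, one_mul]; omega
    have hj2 : j * k < p := by
      have := Nat.div_mul_le_self m k
      show (m / k + 1) * k < p
      rw [add_mul, one_mul]; omega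
    have hjm : j ≤ m := by
      have : m / k < m := Nat.div_lt_self (by omega) (by omega)
      omega
    obtain ⟨E, hE, hEy⟩ := (hP m _).mp (hpow ⟨j, by omega⟩)
    have hdeg : (F ^ j).natDegree = j * k := natDegree_pow F j
    have heq : F ^ j - E = 0 := by
      refine eq_zero_of_natDegree_lt_card_of_eval_eq_zero' _ Finset.univ (fun y _ => ?_) ?_
      · rw [eval_sub, eval_pow, ← hFy y, ← hEy y]; simp
      · rw [Finset.card_univ, ZMod.card]
        exact lt_of_le_of_lt (natDegree_sub_le _ _) (max_lt (by omega) (by omega))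
    rw [sub_eq_zero] at heq
    rw [heq] at hdeg
    omega
  refine ⟨F.coeff 1, F.coeff 0, fun x => ?_⟩
  rw [hFy, eval_eq_sum_range' (Nat.lt_succ_of_le hk)]
  simp [Finset.sum_range_succ]
  ring

theorem two_point {p : ℕ} [Fact p.Prime] (x y u v : ZMod p) (hxy : x ≠ y) (huv : u ≠ v) :
    ∃ g ∈ Cfsg.affineGroup (ZMod p), g x = u ∧ g y = v := by
  have hd : x - y ≠ 0 := sub_ne_zero.mpr hxy
  have ha : (u - v) / (x - y) ≠ 0 := div_ne_zero (sub_ne_zero.mpr huv) hd
  let g : Equiv.Perm (ZMod p) := (Equiv.mulLeft₀ _ ha).trans (Equiv.addRight (u - (u - v) / (x - y) * x))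
  refine ⟨g, ⟨Units.mk0 _ ha, u - (u - v) / (x - y) * x, fun z => rfl⟩, ?_, ?_⟩
  · show (u - v) / (x - y) * x + (u - (u - v) / (x - y) * x) = u
    ring
  · show (u - v) / (x - y) * y + (u - (u - v) / (x - y) * x) = v
    field_simp
    ring

/-- Closures of subgroups of the one-dimensional affine group. Let p be a prime and G a group of permutations of F_p lying in the affine group AGL₁(p) = {x ↦ ax + b, a ≠ 0} and containing all translations. (1) If G is a proper subgroup of AGL₁(p), then G is 2-closed: a permutation of F_p agreeing on every ordered pair of points with some element of G lies in G. (2) Every permutation of F_p agrees on every ordered pair with some element of AGL₁(p) (the 2-closure of AGL₁(p) is the symmetric group). (3) AGL₁(p) is 3-closed: a permutation agreeing on every ordered triple with some affine map is affine. -/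
theorem result (p : ℕ) [Fact p.Prime] (G : Subgroup (Equiv.Perm (ZMod p))) (hG : G ≤ Cfsg.affineGroup (ZMod p))
    (htrans : ∀ b : ZMod p, ∃ g ∈ G, ∀ x, g x = x + b) :
    (G ≠ Cfsg.affineGroup (ZMod p) → ∀ σ : Equiv.Perm (ZMod p), (∀ t : Fin 2 → ZMod p, ∃ g ∈ G, ∀ i, σ (t i) = g (t i)) → σ ∈ G) ∧
    (∀ σ : Equiv.Perm (ZMod p), (∀ t : Fin 2 → ZMod p, ∃ g ∈ Cfsg.affineGroup (ZMod p), ∀ i, σ (t i) = g (t i))) ∧
    (∀ σ : Equiv.Perm (ZMod p), (∀ t : Fin 3 → ZMod p, ∃ g ∈ Cfsg.affineGroup (ZMod p), ∀ i, σ (t i) = g (t i)) → σ ∈ Cfsg.affineGroup (ZMod p)) := by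
  classical
  have hp : p.Prime := Fact.out
  haveI : Nontrivial (ZMod p) := inferInstance
  refine ⟨fun hne σ hσ => ?_, fun σ t => ?_, fun σ hσ => ?_⟩
  · -- the group of multipliers
    let A : Subgroup (ZMod p)ˣ :=
      { carrier := {a | ∃ g ∈ G, ∀ x : ZMod p, g x = (a : ZMod p) * x}
        one_mem' := ⟨1, G.one_mem, fun x => by simp⟩
        mul_mem' := by
          rintro a b ⟨g, hg, hga⟩ ⟨h, hh, hhb⟩
          exact ⟨g * h, G.mul_mem hg hh, fun x => by simp [hga, hhb, mul_assoc]⟩
        inv_mem' := by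
          rintro a ⟨g, hg, hga⟩
          refine ⟨g⁻¹, G.inv_mem hg, fun x => g.injective ?_⟩
          rw [hga ((a⁻¹ : (ZMod p)ˣ) * x), ← mul_assoc, Units.mul_inv, one_mul]
          exact g.apply_symm_apply x }
    have hmem : ∀ g ∈ Cfsg.affineGroup (ZMod p), ∀ (a : (ZMod p)ˣ) (b : ZMod p),
        (∀ x, g x = (a : ZMod p) * x + b) → (g ∈ G ↔ a ∈ A) := by
      intro g _ a b hab
      obtain ⟨t₀, ht₀, ht₀x⟩ := htrans (-b)
      obtain ⟨t₁, ht₁, ht₁x⟩ := htrans b
      constructor
      · intro hg
        exact ⟨t₀ * g, G.mul_mem ht₀ hg, fun x => by simp [ht₀x, hab]⟩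
      · rintro ⟨h, hh, hha⟩
        have : g = t₁ * h := Equiv.ext fun x => by simp [ht₁x, hha, hab]
        rw [this]; exact G.mul_mem ht₁ hh
    have hA : A ≠ ⊤ := fun e => hne (le_antisymm hG fun g hg => by
      obtain ⟨a, b, hab⟩ := hg
      exact (hmem g ⟨a, b, hab⟩ a b hab).mpr (e ▸ Subgroup.mem_top a))
    have hslope : ∀ x y, x ≠ y → ∃ a ∈ A, σ x - σ y = (a : ZMod p) * (x - y) := by
      intro x y _
      obtain ⟨g, hg, hgt⟩ := hσ ![x, y]
      obtain ⟨a, b, hab⟩ := hG hg
      refine ⟨a, (hmem g (hG hg) a b hab).mp hg, ?_⟩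
      have h0 := hgt 0
      have h1 := hgt 1
      simp only [Matrix.cons_val_zero, Matrix.cons_val_one] at h0 h1
      rw [h0, h1, hab, hab]; ring
    set m := Nat.card A
    have hm0 : 1 ≤ m := Nat.card_pos
    have hm2 : 2 * m < p := by
      have h := A.index_mul_card
      rw [Nat.card_eq_fintype_card (α := (ZMod p)ˣ), ZMod.card_units p] at h
      have hi : 2 ≤ A.index := by
        have h1 : A.index ≠ 1 := fun e => hA (Subgroup.index_eq_one.mp e)
        have h0 : A.index ≠ 0 := Subgroup.index_ne_zero_of_finite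
        omega
      have : 2 * m ≤ p - 1 := by rw [← h]; exact Nat.mul_le_mul hi le_rfl
      have := hp.pos
      omega
    have hpow : ∀ x y, (σ x - σ y) ^ m = (x - y) ^ m := by
      intro x y
      by_cases hxy : x = y
      · subst hxy; simp
      obtain ⟨a, ha, he⟩ := hslope x y hxy
      rw [he, mul_pow]
      have h1 : a ^ m = 1 := congrArg Subtype.val (pow_card_eq_one' (G := A) (x := ⟨a, ha⟩))
      rw [← Units.val_pow_eq_pow_val, h1, Units.val_one, one_mul]
    obtain ⟨a, b, hab⟩ := affine_of_slopes σ σ.injective m hm0 hm2 hpow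
    obtain ⟨a', ha', he⟩ := hslope 1 0 one_ne_zero
    have hav : a = (a' : ZMod p) := by
      rw [hab, hab] at he; simpa using he
    have hab' : ∀ x, σ x = (a' : ZMod p) * x + b := fun x => by rw [← hav]; exact hab x
    exact (hmem σ ⟨a', b, hab'⟩ a' b hab').mpr ha'
  · by_cases h : t 0 = t 1
    · obtain ⟨b, hb⟩ : ∃ b, b = σ (t 0) - t 0 := ⟨_, rfl⟩
      refine ⟨Equiv.addRight b, ⟨1, b, fun x => by simp⟩, fun i => ?_⟩
      fin_cases i
      · simp [hb]
      · show σ (t 1) = t 1 + b
        rw [← h]; simp [hb]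
    · obtain ⟨g, hg, h0, h1⟩ := two_point (t 0) (t 1) (σ (t 0)) (σ (t 1)) h (σ.injective.ne h)
      exact ⟨g, hg, fun i => by fin_cases i <;> simp [h0, h1]⟩
  · obtain ⟨g, hg, h0, h1⟩ := two_point (0 : ZMod p) 1 (σ 0) (σ 1) zero_ne_one (σ.injective.ne zero_ne_one)
    have heq : σ = g := by
      refine Equiv.ext fun x => ?_
      obtain ⟨h, hh, hht⟩ := hσ ![0, 1, x]
      have e0 := hht 0
      have e1 := hht 1
      have e2 := hht 2
      simp only [Matrix.cons_val_zero, Matrix.cons_val_one, Matrix.cons_val_two, Matrix.head_cons, Matrix.tail_cons] at e0 e1 e2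
      obtain ⟨a, b, hab⟩ := hh
      obtain ⟨c, d', hcd⟩ := hg
      rw [hab] at e0 e1 e2
      rw [hcd] at h0 h1
      rw [mul_zero, zero_add] at e0 h0
      rw [mul_one] at e1 h1
      have hbd : b = d' := e0.symm.trans h0.symm
      have hac : (a : ZMod p) = c := by
        have := e1.symm.trans h1.symm
        rw [hbd] at this; exact add_right_cancel this
      rw [e2, hcd x, hbd, hac]
    rw [heq]; exact hg

end Cfsg.Agent.S3518
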