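import Cfsg.Statements.S3520
import Mathlib
import Cfsg.Agent.Lib.Perm.SocleApps

set_option autoImplicit false
open Cfsg

namespace Cfsg.Agent.S3520

open CfsgLib.Socle in
theorem count_free {G : Type*} [Group G] [Finite G] {Ω : Type*} [Finite Ω] [MulAction G Ω] [FaithfulSMul G Ω]
    {N : Subgroup G} [hn : N.Normal] (hab : IsMulCommutative N) (htr : ∀ x y : Ω, ∃ m ∈ N, m • x = y)
    (hsr : ∀ n ∈ N, ∀ x : Ω, n • x = x → n = 1) (a : Ω)
    (hfree : ∀ g : G, g ≠ 1 → ∀ x y : Ω, x ≠ y → g • x = x → g • y ≠ y)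
    (hD : ∀ g : G, (∀ ω : Ω, g • ω ≠ ω) → g ∈ N) (hκ : Nat.card (DClass G Ω) = 2) :
    2 * Nat.card (MulAction.stabilizer G a) + 1 = Nat.card Ω := by
  classical
  obtain ⟨c₁, c₂, hne, huniv⟩ := Nat.card_eq_two_iff.mp hκ
  obtain ⟨n₁, hn₁, hd₁⟩ := c₁.2
  obtain ⟨n₂, hn₂, hd₂⟩ := c₂.2
  have h12 : ¬ IsConj n₁ n₂ := fun h => hne (Subtype.ext (by rw [← hn₁, ← hn₂]; exact ConjClasses.mk_eq_mk_iff_isConj.mpr h))
  have hc : ∀ x ∈ N, ∀ y ∈ N, x * y = y * x := fun x hx y hy =>
    congrArg Subtype.val (hab.is_comm.comm ⟨x, hx⟩ ⟨y, hy⟩)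
  have hder : ∀ n ∈ N, n ≠ 1 → ∀ ω : Ω, n • ω ≠ ω := fun n hn h1 ω e => h1 (hsr n hn ω e)
  let V := {x : N // x ≠ 1}
  have hne1 : ∀ n : G, (∀ ω : Ω, n • ω ≠ ω) → n ≠ 1 := fun n h e => h a (by rw [e, one_smul])
  let f : ∀ n : G, (∀ ω : Ω, n • ω ≠ ω) → (MulAction.stabilizer G a) → V := fun n hd l =>
    ⟨⟨(l : G) * n * (l : G)⁻¹, hn.conj_mem n (hD n hd) l⟩, fun e =>
      hne1 n hd (conj_eq_one_iff.mp (congrArg Subtype.val e))⟩
  have hinj : ∀ n (hd : ∀ ω : Ω, n • ω ≠ ω), Function.Injective (f n hd) := by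
    intro n hd l l' h
    have h' : (l : G) * n * (l : G)⁻¹ = (l' : G) * n * (l' : G)⁻¹ := congrArg (fun v : V => ((v : N) : G)) h
    by_contra hll
    have hk : (l : G)⁻¹ * (l' : G) ≠ 1 := fun e => hll (Subtype.ext (inv_mul_eq_one.mp e))
    have hka : ((l : G)⁻¹ * (l' : G)) • a = a := ((l⁻¹ * l' : MulAction.stabilizer G a)).2
    refine hfree _ hk a (n • a) (fun e => hd a e.symm) hka ?_
    have hcomm : (l : G)⁻¹ * (l' : G) * n = n * ((l : G)⁻¹ * (l' : G)) := by
      calc (l : G)⁻¹ * (l' : G) * n = (l : G)⁻¹ * ((l' : G) * n * (l' : G)⁻¹) * (l' : G) := by group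
        _ = (l : G)⁻¹ * ((l : G) * n * (l : G)⁻¹) * (l' : G) := by rw [h']
        _ = _ := by group
    rw [← mul_smul, hcomm, mul_smul, hka]
  have hbij : Function.Bijective (Sum.elim (f n₁ hd₁) (f n₂ hd₂)) := by
    refine ⟨fun u v h => ?_, fun v => ?_⟩
    · rcases u with u | u <;> rcases v with v | v <;> simp only [Sum.elim_inl, Sum.elim_inr] at h
      · rw [hinj n₁ hd₁ h]
      · exact absurd ((isConj_iff.mpr ⟨_, congrArg (fun v : V => ((v : N) : G)) h⟩).trans
          (isConj_iff.mpr ⟨_, rfl⟩).symm) h12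
      · exact absurd ((isConj_iff.mpr ⟨_, congrArg (fun v : V => ((v : N) : G)) h.symm⟩).trans
          (isConj_iff.mpr ⟨_, rfl⟩).symm) h12
      · rw [hinj n₂ hd₂ h]
    · have hv1 : ((v : N) : G) ≠ 1 := fun e => v.2 (Subtype.ext e)
      let c : DClass G Ω := ⟨ConjClasses.mk ((v : N) : G), _, rfl, hder _ (v : N).2 hv1⟩
      have key : ∀ (n : G) (hd : ∀ ω : Ω, n • ω ≠ ω), ConjClasses.mk n = ConjClasses.mk ((v : N) : G) →
          ∃ l, f n hd l = v := by
        intro n hd h
        obtain ⟨g, hg⟩ := isConj_iff.mp (ConjClasses.mk_eq_mk_iff_isConj.mp h)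
        obtain ⟨l, hla, m, hm, rfl⟩ := decomp (N := N) htr a g
        refine ⟨⟨l, hla⟩, Subtype.ext (Subtype.ext ?_)⟩
        show l * n * l⁻¹ = _
        rw [← hg]
        calc l * n * l⁻¹ = l * (n * m) * m⁻¹ * l⁻¹ := by group
          _ = l * (m * n) * m⁻¹ * l⁻¹ := by rw [hc n (hD n hd) m hm]
          _ = _ := by group
      rcases (huniv.ge (Set.mem_univ c) : c = c₁ ∨ c = c₂) with h | h
      · obtain ⟨l, hl⟩ := key n₁ hd₁ (hn₁.trans (congrArg Subtype.val h).symm)
        exact ⟨Sum.inl l, hl⟩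
      · obtain ⟨l, hl⟩ := key n₂ hd₂ (hn₂.trans (congrArg Subtype.val h).symm)
        exact ⟨Sum.inr l, hl⟩
  have h1 := Nat.card_eq_of_bijective _ hbij
  rw [Nat.card_sum] at h1
  have h2 : Nat.card N = Nat.card Ω := Nat.card_eq_of_bijective (fun x : N => (x : G) • a)
    ⟨fun x y e => by
      have := hsr _ (N.mul_mem (N.inv_mem y.2) x.2) a (by rw [mul_smul]; exact inv_smul_eq_iff.mpr e)
      exact (Subtype.ext (inv_mul_eq_one.mp this)).symm,
     fun y => by obtain ⟨m, hm, e⟩ := htr a y; exact ⟨⟨m, hm⟩, e⟩⟩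
  have := Fintype.ofFinite N
  have h3 : Nat.card V + 1 = Nat.card N := by
    rw [Nat.card_eq_fintype_card, Nat.card_eq_fintype_card, Fintype.card_subtype_compl (fun x : N => x = 1),
      Fintype.card_subtype_eq]
    have := Fintype.card_pos (α := N)
    omega
  omega

/-- Let a finite group G act faithfully and primitively on a finite set Ω with at least two points, suppose G is not almost simple (no non-abelian simple normal subgroup with trivial centralizer), and suppose the derangements of G form exactly two conjugacy classes. Then either Ω has 3 points and G has order 3; or G has a non-trivial abelian normal subgroup N acting regularly, every non-identity element of G fixes at most one point (so, when n > 3, G is a Frobenius group with kernel N), the number n of points is odd and a point stabilizer has order (n − 1)/2; or G is 2-transitive with a non-trivial abelian regular normal subgroup and some non-identity element fixes at least two points (a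 non-Frobenius 2-transitive affine group). -/
theorem result {G : Type*} [Group G] [Finite G] {Ω : Type*} [Fintype Ω] [MulAction G Ω] [FaithfulSMul G Ω] (hΩ : 2 ≤ Fintype.card Ω) (hprim : MulAction.IsPreprimitive G Ω) (hnas : ¬ ∃ T : Subgroup G, T.Normal ∧ IsSimpleGroup T ∧ ¬ IsMulCommutative T ∧ Subgroup.centralizer (T : Set G) = ⊥)
    (hκ : Nat.card {c : ConjClasses G // ∃ g : G, ConjClasses.mk g = c ∧ ∀ ω : Ω, g • ω ≠ ω} = 2) (α : Ω) :
    (Fintype.card Ω = 3 ∧ Nat.card G = 3) ∨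
    ((∃ N : Subgroup G, N.Normal ∧ N ≠ ⊥ ∧ IsMulCommutative N ∧ ∀ ω : Ω, MulAction.stabilizer N ω = ⊥) ∧ (∀ g : G, g ≠ 1 → Nat.card (MulAction.fixedBy Ω g) ≤ 1) ∧ ¬ 2 ∣ Fintype.card Ω ∧
        2 * Nat.card (MulAction.stabilizer G α) = Fintype.card Ω - 1) ∨
    ((∃ N : Subgroup G, N.Normal ∧ N ≠ ⊥ ∧ IsMulCommutative N ∧ ∀ ω : Ω, MulAction.stabilizer N ω = ⊥) ∧ MulAction.IsMultiplyPretransitive G Ω 2 ∧ ∃ g : G, g ≠ 1 ∧ 2 ≤ Nat.card (MulAction.fixedBy Ω g)) := by
  classical
  rw [← Nat.card_eq_fintype_card] at hΩ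
  have hκ' : Nat.card (CfsgLib.Socle.DClass G Ω) = 2 := hκ
  obtain ⟨N, hNn, hN0, hmin, htr⟩ := CfsgLib.Socle.exists_minimal hprim hΩ
  by_cases hab : IsMulCommutative N
  swap
  · exfalso
    obtain ⟨f, hf, hne⟩ := CfsgLib.Socle.three_classes hprim hΩ hN0 hmin hab hnas
    have := CfsgLib.Socle.card_le_dclass f hf hne
    omega
  obtain ⟨hsr, -⟩ := CfsgLib.Socle.abelian_regular hN0 hmin hab htr
  have hN : ∃ N : Subgroup G, N.Normal ∧ N ≠ ⊥ ∧ IsMulCommutative N ∧ ∀ ω : Ω, MulAction.stabilizer N ω = ⊥ :=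
    ⟨N, hNn, hN0, hab, fun a => (Subgroup.eq_bot_iff_forall _).mpr fun n hn => Subtype.ext (hsr n n.2 a hn)⟩
  rcases CfsgLib.Socle.affine_dichotomy hab htr hsr α with ⟨hfree, hD⟩ | ⟨⟨d, hd, hdN⟩, hfix⟩
  · have hcnt := count_free hab htr hsr α hfree hD hκ'
    rw [Nat.card_eq_fintype_card (α := Ω)] at hcnt
    refine Or.inr (Or.inl ⟨hN, fun g hg => ?_, by omega, by omega⟩)
    rw [Nat.card_eq_fintype_card, Fintype.card_le_one_iff]
    exact fun x y => Subtype.ext (by_contra fun h => hfree g hg x y h x.2 y.2)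
  · have h2t : MulAction.IsMultiplyPretransitive G Ω 2 := by
      refine CfsgLib.Socle.two_pretransitive hab htr fun n hn m hm hn1 hm1 => ?_
      by_contra hnc
      have hout : ∀ x ∈ N, ¬ IsConj x d := fun x hx h => by
        obtain ⟨g, hg⟩ := isConj_iff.mp h
        exact hdN (hg ▸ hNn.conj_mem x hx g)
      have := CfsgLib.Socle.card_le_dclass (Ω := Ω) ![n, m, d]
        (fun i => by
          fin_cases i
          · exact fun ω e => hn1 (hsr n hn ω e)
          · exact fun ω e => hm1 (hsr m hm ω e)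
          · exact hd)
        (fun i j h => by
          fin_cases i <;> fin_cases j <;>
            first
            | rfl
            | exact absurd h hnc
            | exact absurd h.symm hnc
            | exact absurd h (hout _ hn)
            | exact absurd h (hout _ hm)
            | exact absurd h.symm (hout _ hn)
            | exact absurd h.symm (hout _ hm))
      omega
    obtain ⟨g, hg, x, y, hxy, hx, hy⟩ := hfix
    refine Or.inr (Or.inr ⟨hN, h2t, g, hg, ?_⟩)
    exact Finite.one_lt_card_iff_nontrivial.mpr ⟨⟨x, hx⟩, ⟨y, hy⟩, fun e => hxy (congrArg Subtype.val e)⟩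

end Cfsg.Agent.S3520
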