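import Cfsg.Statements.S3521
import Cfsg.Agent.ExtremelyPrimitiveAffine

set_option autoImplicit false
open Cfsg MulAction

namespace Cfsg.Agent.S3521

/-- Let a finite group G that is not solvable act faithfully and primitively on a finite set with p ^ d points (p prime), with a non-trivial abelian normal subgroup acting regularly (affine type) and with non-trivial point stabilizers each acting primitively on every one of its orbits (an insoluble extremely primitive group of affine type). Then p = 2; and if moreover G is not 2-transitive, then a point stabilizer is almost simple (it has a non-abelian simple normal subgroup with trivial centralizer). -/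
theorem result {G : Type*} [Group G] [Finite G] {Ω : Type*} [Fintype Ω] [MulAction G Ω] [FaithfulSMul G Ω] (p d : ℕ) (hp : p.Prime) (hcard : Fintype.card Ω = p ^ d) (hsol : ¬ Group.IsSolvable G)
    (N : Subgroup G) [N.Normal] (hN : N ≠ ⊥) (hNc : IsMulCommutative N) (hNreg : ∀ ω : Ω, MulAction.stabilizer N ω = ⊥)
    (hprim : MulAction.IsPreprimitive G Ω) (hH : ∀ α : Ω, MulAction.stabilizer G α ≠ ⊥) (hep : ∀ (α : Ω) (ω : Ω), MulAction.IsPreprimitive (MulAction.stabilizer G α) (MulAction.orbit (MulAction.stabilizer G α) ω)) (α : Ω) :
    p = 2 ∧ (¬ MulAction.IsMultiplyPretransitive G Ω 2 → ∃ T : Subgroup (MulAction.stabilizer G α), T.Normal ∧ IsSimpleGroup T ∧ ¬ IsMulCommutative T ∧ Subgroup.centralizer (T : Set (MulAction.stabilizer G α)) = ⊥) := by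
  classical
  -- `N` is transitive
  have hfixN : MulAction.fixedPoints N Ω ≠ Set.univ := by
    intro h
    apply hN
    rw [Subgroup.eq_bot_iff_forall]
    intro n hn
    refine FaithfulSMul.eq_of_smul_eq_smul (α := Ω) fun ω => ?_
    rw [one_smul]
    exact (h ▸ Set.mem_univ ω : ω ∈ MulAction.fixedPoints N Ω) ⟨n, hn⟩
  have htr : MulAction.IsPretransitive N Ω :=
    MulAction.IsQuasiPreprimitive.isPretransitive_of_normal hfixN
  have hinjN : ∀ a b : N, a • α = b • α → a = b := by
    intro a b e
    have : b⁻¹ * a ∈ MulAction.stabilizer N α := by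
      rw [MulAction.mem_stabilizer_iff, mul_smul, e, inv_smul_smul]
    rw [hNreg α, Subgroup.mem_bot, inv_mul_eq_one] at this
    exact this.symm
  let _ : CommGroup N := { (inferInstance : Group N) with mul_comm := hNc.is_comm.comm }
  let A := Additive N
  let e : A → Ω := fun v => (Additive.toMul v) • α
  have heinj : Function.Injective e := fun v w h => hinjN _ _ h
  have hesurj : Function.Surjective e := fun ω => by
    obtain ⟨n, hn⟩ := MulAction.exists_smul_eq N α ω
    exact ⟨Additive.ofMul n, hn⟩
  let _ : DistribMulAction (MulAction.stabilizer G α) A :=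
    { smul := fun h v => Additive.ofMul (MulAut.conjNormal (h : G) (Additive.toMul v))
      one_smul := fun v => by
        show Additive.ofMul (MulAut.conjNormal ((1 : MulAction.stabilizer G α) : G) (Additive.toMul v)) = v
        simp
      mul_smul := fun a b v => by
        show Additive.ofMul (MulAut.conjNormal ((a * b : MulAction.stabilizer G α) : G) _) = _
        rw [Subgroup.coe_mul, map_mul]
        rfl
      smul_zero := fun h => congrArg Additive.ofMul (map_one (MulAut.conjNormal (h : G)))
      smul_add := fun h v w => congrArg Additive.ofMul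
        (map_mul (MulAut.conjNormal (h : G)) (Additive.toMul v) (Additive.toMul w)) }
  have hequiv : ∀ (h : MulAction.stabilizer G α) (v : A), e (h • v) = (h : G) • e v := by
    intro h v
    show ((MulAut.conjNormal (h : G) (Additive.toMul v) : N) : G) • α = (h : G) • ((Additive.toMul v : N) : G) • α
    rw [MulAut.conjNormal_apply, mul_smul, mul_smul]
    have hh : (h : G)⁻¹ • α = α := MulAction.mem_stabilizer_iff.mp (inv_mem h.2)
    rw [hh]
  have hcardA : Nat.card A = p ^ d := by
    rw [Nat.card_congr (Equiv.ofBijective e ⟨heinj, hesurj⟩), Nat.card_eq_fintype_card, hcard]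
  have hG : ∀ g : G, ∃ n ∈ N, ∃ h ∈ MulAction.stabilizer G α, g = n * h := by
    intro g
    obtain ⟨n, hn⟩ := MulAction.exists_smul_eq N α (g • α)
    refine ⟨n, n.2, (n : G)⁻¹ * g, ?_, by group⟩
    rw [MulAction.mem_stabilizer_iff, mul_smul, ← hn]
    exact inv_smul_smul (n : G) α
  have hstab : ∀ v : A, MulAction.stabilizer (MulAction.stabilizer G α) v =
      MulAction.stabilizer (MulAction.stabilizer G α) (e v) := by
    intro v
    ext h
    rw [MulAction.mem_stabilizer_iff, MulAction.mem_stabilizer_iff]
    constructor
    · intro hh
      show (h : G) • e v = e v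
      rw [← hequiv, hh]
    · intro hh
      apply heinj
      rw [hequiv]
      exact hh
  have D : CfsgLib.ExtremelyPrimitiveAffine.Hyp (MulAction.stabilizer G α) A := by
    refine ⟨inferInstance, Finite.of_injective e heinj, ⟨fun {a b} hab => ?_⟩, ?_, ?_, ?_⟩
    · apply Subtype.ext
      refine FaithfulSMul.eq_of_smul_eq_smul (α := Ω) fun ω => ?_
      obtain ⟨v, rfl⟩ := hesurj ω
      rw [← hequiv, ← hequiv, hab v]
    · intro W hW
      let M : Subgroup N :=
        { carrier := {n | Additive.ofMul n ∈ W}
          one_mem' := W.zero_mem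
          mul_mem' := fun ha hb => W.add_mem ha hb
          inv_mem' := fun ha => W.neg_mem ha }
      have hMn : (M.map N.subtype).Normal := by
        refine ⟨?_⟩
        rintro _ ⟨m, hm, rfl⟩ g
        obtain ⟨n, hn, h, hh, rfl⟩ := hG g
        have h1 : Additive.ofMul (MulAut.conjNormal (H := N) h m) ∈ W :=
          hW ⟨h, hh⟩ (Subgroup.mem_top _) (Additive.ofMul m) hm
        refine ⟨MulAut.conjNormal (H := N) h m, h1, ?_⟩
        have hcomm : ∀ a b : N, (a : G) * b = b * a := fun a b =>
          congrArg Subtype.val (hNc.is_comm.comm a b)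
        have h2 := hcomm ⟨n, hn⟩ (MulAut.conjNormal (H := N) h m)
        simp only [MulAut.conjNormal_apply] at h2
        simp only [Subgroup.coe_subtype, MulAut.conjNormal_apply]
        calc h * (m : G) * h⁻¹ = n * (h * (m : G) * h⁻¹) * n⁻¹ := by rw [h2, mul_inv_cancel_right]
          _ = n * h * (m : G) * (n * h)⁻¹ := by group
      by_cases hb : M = ⊥
      · left
        rw [AddSubgroup.eq_bot_iff_forall]
        intro v hv
        have : Additive.toMul v ∈ M := hv
        rw [hb, Subgroup.mem_bot] at this
        exact this
      right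
      have hfix : MulAction.fixedPoints (M.map N.subtype) Ω ≠ Set.univ := by
        intro h
        apply hb
        rw [Subgroup.eq_bot_iff_forall]
        intro n hn
        apply hinjN
        rw [one_smul]
        exact (h ▸ Set.mem_univ α : α ∈ MulAction.fixedPoints (M.map N.subtype) Ω) ⟨n, n, hn, rfl⟩
      have := MulAction.IsQuasiPreprimitive.isPretransitive_of_normal hfix
      rw [eq_top_iff]
      intro v _
      obtain ⟨⟨_, m, hm, rfl⟩, hmv⟩ := MulAction.exists_smul_eq (M.map N.subtype) α (e v)
      have : m = Additive.toMul v := hinjN _ _ hmv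
      rw [this] at hm
      exact hm
    · intro v L hL
      rw [hstab v] at hL ⊢
      by_cases hf : MulAction.stabilizer (MulAction.stabilizer G α) (e v) = ⊤
      · right
        rw [hf] at hL
        exact top_le_iff.mp hL
      have hpr := hep α (e v)
      set Δ := MulAction.orbit (MulAction.stabilizer G α) (e v) with hΔ
      let a : Δ := ⟨e v, MulAction.mem_orbit_self _⟩
      have hnt : Nontrivial Δ := by
        by_contra hh
        rw [not_nontrivial_iff_subsingleton] at hh
        apply hf
        rw [eq_top_iff]
        intro h _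
        have := Subsingleton.elim (h • a) a
        exact congrArg Subtype.val this
      have hst : MulAction.stabilizer (MulAction.stabilizer G α) a =
          MulAction.stabilizer (MulAction.stabilizer G α) (e v) := by
        ext h
        rw [MulAction.mem_stabilizer_iff, MulAction.mem_stabilizer_iff, Subtype.ext_iff]
        rfl
      have hco := MulAction.IsPreprimitive.isCoatom_stabilizer_of_isPreprimitive
        (G := MulAction.stabilizer G α) a
      rw [hst] at hco
      rcases hco.le_iff.mp hL with h | h
      · exact Or.inr h
      · exact Or.inl h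
    · intro hs
      apply hsol
      have : Group.IsSolvable N := Group.isSolvable_of_comm hNc.is_comm.comm
      let π : MulAction.stabilizer G α →* G ⧸ N :=
        (QuotientGroup.mk' N).comp (MulAction.stabilizer G α).subtype
      have hπ : Function.Surjective π := by
        intro q
        obtain ⟨g, rfl⟩ := QuotientGroup.mk'_surjective N q
        obtain ⟨n, hn, h, hh, rfl⟩ := hG g
        refine ⟨⟨h, hh⟩, ?_⟩
        show QuotientGroup.mk' N h = QuotientGroup.mk' N (n * h)
        rw [map_mul, show QuotientGroup.mk' N n = 1 from (QuotientGroup.eq_one_iff n).mpr hn, one_mul]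
      have : Group.IsSolvable (G ⧸ N) := Group.isSolvable_of_surjective hπ
      exact Group.isSolvable_of_ker_le_range N.subtype (QuotientGroup.mk' N)
        (by rw [QuotientGroup.ker_mk', Subgroup.range_subtype])
  refine ⟨?_, fun _ => CfsgLib.ExtremelyPrimitiveAffine.almost_simple D⟩
  obtain ⟨v, hv⟩ := D.exists_ne_zero
  have h2 : addOrderOf v = 2 := addOrderOf_eq_prime (by rw [two_nsmul]; exact D.add_self v) hv
  have h3 : 2 ∣ p ^ d := hcardA ▸ h2 ▸ addOrderOf_dvd_natCard v
  exact ((Nat.prime_dvd_prime_iff_eq Nat.prime_two hp).mp (Nat.prime_two.dvd_of_dvd_pow h3)).symm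

end Cfsg.Agent.S3521
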