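import Cfsg.Statements.S3532
import Mathlib
import Cfsg.Agent.Lib.PSL2Spectrum

set_option autoImplicit false
open Cfsg

namespace Cfsg.Agent.S3532

open Matrix

/-- Multiplication by a group of units. -/
def scal (K : Type) [Field K] (C : Subgroup Kˣ) : C →* MulAut (Multiplicative K) where
  toFun c := AddEquiv.toMultiplicative
    { toFun := fun w => ((c : Kˣ) : K) * w
      invFun := fun w => (((c : Kˣ)⁻¹ : Kˣ) : K) * w
      left_inv := fun w => by show _ * (_ * w) = w; rw [← mul_assoc, Units.inv_mul, one_mul]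
      right_inv := fun w => by show _ * (_ * w) = w; rw [← mul_assoc, Units.mul_inv, one_mul]
      map_add' := fun u v => mul_add _ u v }
  map_one' := MulEquiv.ext fun w => Multiplicative.toAdd.injective
    (show ((1 : Kˣ) : K) * Multiplicative.toAdd w = Multiplicative.toAdd w by rw [Units.val_one, one_mul])
  map_mul' a b := MulEquiv.ext fun w => Multiplicative.toAdd.injective
    (show (((a : Kˣ) * (b : Kˣ) : Kˣ) : K) * Multiplicative.toAdd w =
      ((a : Kˣ) : K) * (((b : Kˣ) : K) * Multiplicative.toAdd w) by rw [Units.val_mul, mul_assoc])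

/-- A solvable group with element orders the divisors of `m` and `p`. -/
theorem exists_affine (p : ℕ) [Fact p.Prime] (k m : ℕ) (hk : k ≠ 0) (hm : m ∣ p ^ k - 1) :
    ∃ (H : Type) (_ : Group H) (_ : Finite H), Group.IsSolvable H ∧
      ∀ n, (∃ h : H, orderOf h = n) ↔ (n ∣ m ∨ n = p) := by
  classical
  let K := GaloisField p k
  haveI : Fintype K := Fintype.ofFinite K
  have hK : Nat.card Kˣ = p ^ k - 1 := by rw [Nat.card_units, GaloisField.card p k hk]
  obtain ⟨u, hu⟩ := IsCyclic.exists_ofOrder_eq_natCard (α := Kˣ)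
  obtain ⟨e, he⟩ := hm
  set C := Subgroup.zpowers (u ^ e)
  have hC : orderOf (u ^ e) = m := by
    rw [orderOf_pow, hu, hK, he, Nat.gcd_eq_right (dvd_mul_left e m), Nat.mul_div_cancel]
    refine Nat.pos_of_ne_zero fun h0 => ?_
    rw [h0, mul_zero] at he
    have : 0 < Nat.card Kˣ := Nat.card_pos
    omega
  let H := SemidirectProduct (Multiplicative K) C (scal K C)
  have hfin : Finite H := Finite.of_equiv _ SemidirectProduct.equivProd.symm
  have hsol : Group.IsSolvable H := by
    haveI : Group.IsSolvable (Multiplicative K) := isSolvable_of_comm mul_comm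
    haveI : Group.IsSolvable C := isSolvable_of_comm mul_comm
    refine Group.isSolvable_of_ker_le_range (SemidirectProduct.inl : Multiplicative K →* H)
      (SemidirectProduct.rightHom : H →* C) fun h hh => ?_
    exact ⟨h.left, SemidirectProduct.ext rfl (MonoidHom.mem_ker.mp hh).symm⟩
  refine ⟨H, inferInstance, hfin, hsol, fun n => ⟨?_, ?_⟩⟩
  · rintro ⟨h, rfl⟩
    by_cases hc : h.right = 1
    · have hp : h ^ p = 1 := by
        have : h = SemidirectProduct.inl h.left := SemidirectProduct.ext (by simp) (by simpa using hc)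
        rw [this, ← map_pow]
        have h0 : h.left ^ p = 1 := Multiplicative.toAdd.injective (by
          show p • Multiplicative.toAdd h.left = 0
          rw [nsmul_eq_mul, CharP.cast_eq_zero K p, zero_mul])
        rw [h0, map_one]
      rcases (Nat.dvd_prime Fact.out).mp (orderOf_dvd_of_pow_eq_one hp) with e' | e'
      · exact Or.inl (by rw [e']; exact one_dvd _)
      · exact Or.inr e'
    · left
      have hne : (1 : K) - ((h.right : Kˣ) : K) ≠ 0 := fun e' =>
        hc (Subtype.ext (Units.ext (sub_eq_zero.mp e').symm))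
      set w : K := Multiplicative.toAdd h.left * (1 - ((h.right : Kˣ) : K))⁻¹ with hw
      have hconj : h = SemidirectProduct.inl (Multiplicative.ofAdd w) * SemidirectProduct.inr h.right *
          (SemidirectProduct.inl (Multiplicative.ofAdd w))⁻¹ := by
        refine SemidirectProduct.ext (Multiplicative.toAdd.injective ?_) ?_
        swap
        · show h.right = 1 * h.right * 1⁻¹
          rw [one_mul, inv_one, mul_one]
        show Multiplicative.toAdd h.left = (w + ((1 : Kˣ) : K) * 0) +
          (((1 : Kˣ) * (h.right : Kˣ) : Kˣ) : K) * ((((1 : Kˣ)⁻¹ : Kˣ) : K) * (-w))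
        simp only [inv_one, Units.val_one, one_mul, add_zero]
        calc Multiplicative.toAdd h.left = Multiplicative.toAdd h.left *
              ((1 - ((h.right : Kˣ) : K))⁻¹ * (1 - ((h.right : Kˣ) : K))) := by rw [inv_mul_cancel₀ hne, mul_one]
          _ = w + ((h.right : Kˣ) : K) * (-w) := by rw [hw]; ring
      have e1 : orderOf h = orderOf h.right := by
        conv_lhs => rw [hconj]
        exact (MulEquiv.orderOf_eq (MulAut.conj _) _).trans (orderOf_injective _ SemidirectProduct.inr_injective _)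
      have h' := orderOf_dvd_natCard (G := C) h.right
      rw [Nat.card_zpowers, hC] at h'
      rwa [e1]
  · rintro (h | rfl)
    · obtain ⟨c, rfl⟩ := h
      refine ⟨SemidirectProduct.inr ⟨(u ^ e) ^ c, Subgroup.npow_mem_zpowers _ _⟩, ?_⟩
      rw [orderOf_injective _ SemidirectProduct.inr_injective, Subgroup.orderOf_mk, orderOf_pow, hC,
        Nat.gcd_eq_right (dvd_mul_left c n)]
      have hm0 : n * c ≠ 0 := hC ▸ (orderOf_pos (u ^ e)).ne'
      exact Nat.mul_div_cancel _ (Nat.pos_of_ne_zero (right_ne_zero_of_mul hm0))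
    · refine ⟨SemidirectProduct.inl (Multiplicative.ofAdd (1 : K)), ?_⟩
      rw [orderOf_injective _ SemidirectProduct.inl_injective, orderOf_ofAdd_eq_addOrderOf]
      exact addOrderOf_eq_prime (by rw [nsmul_eq_mul, CharP.cast_eq_zero, zero_mul]) one_ne_zero

/-- Let q ≥ 4 be a prime power and L = PSL(2,q). There is a finite solvable group with the same set of element orders as L × L (so L × L is not determined by its spectrum). -/
theorem result {F : Type*} [Field F] [Fintype F] (hF : 4 ≤ Fintype.card F) :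
    ∃ (H : Type) (_ : Group H) (_ : Finite H), Group.IsSolvable H ∧
      Set.range (orderOf : H → ℕ) = Set.range (orderOf : Matrix.ProjectiveSpecialLinearGroup (Fin 2) F × Matrix.ProjectiveSpecialLinearGroup (Fin 2) F → ℕ) := by
  classical
  obtain ⟨p, hchar⟩ := CharP.exists F
  obtain ⟨f, hp, hq⟩ := FiniteField.card F p
  haveI := Fact.mk hp
  set d := Nat.gcd 2 (Fintype.card F - 1) with hd
  have hdm : d ∣ Fintype.card F - 1 := Nat.gcd_dvd_right _ _
  have hdp : d ∣ Fintype.card F + 1 := by
    have h2 : d ∣ 2 := Nat.gcd_dvd_left _ _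
    have := Nat.dvd_add hdm h2
    rwa [show Fintype.card F - 1 + 2 = Fintype.card F + 1 by have := Fintype.card_pos (α := F); omega] at this
  have hsq : (Fintype.card F + 1) * (Fintype.card F - 1) = p ^ (2 * (f : ℕ)) - 1 := by
    rw [← Nat.sq_sub_sq, one_pow, hq, ← pow_mul, mul_comm 2]
  have hk : 2 * (f : ℕ) ≠ 0 := by have := f.2; simp only [PNat.val] at *; omega
  obtain ⟨A, iA, fA, sA, hA⟩ := exists_affine p (2 * f) ((Fintype.card F - 1) / d) hk
    (hsq ▸ ((Nat.div_dvd_of_dvd hdm).trans (dvd_mul_left _ _)))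
  obtain ⟨B, iB, fB, sB, hB⟩ := exists_affine p (2 * f) ((Fintype.card F + 1) / d) hk
    (hsq ▸ ((Nat.div_dvd_of_dvd hdp).trans (dvd_mul_right _ _)))
  have hL := CfsgLib.PSL2Spectrum.psl_orders (F := F) p
  refine ⟨A × B, inferInstance, inferInstance, inferInstance, Set.ext fun n => ⟨?_, ?_⟩⟩
  · rintro ⟨⟨x, y⟩, rfl⟩
    obtain ⟨x', hx'⟩ := (hL (orderOf x)).mpr (by
      rcases (hA _).mp ⟨x, rfl⟩ with h | h
      · exact Or.inl h
      · exact Or.inr (Or.inr h))
    obtain ⟨y', hy'⟩ := (hL (orderOf y)).mpr (by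
      rcases (hB _).mp ⟨y, rfl⟩ with h | h
      · exact Or.inr (Or.inl h)
      · exact Or.inr (Or.inr h))
    exact ⟨(x', y'), by rw [Prod.orderOf, Prod.orderOf, hx', hy']⟩
  · rintro ⟨⟨x, y⟩, rfl⟩
    rw [Prod.orderOf]
    have hone : ∀ {X : Type} [Group X], orderOf (1 : X) = 1 := fun {X} _ => orderOf_one
    have build : ∀ i j : ℕ, (i ∣ (Fintype.card F - 1) / d ∨ i = p) → (j ∣ (Fintype.card F + 1) / d ∨ j = p) →
        Nat.lcm i j ∈ Set.range (orderOf : A × B → ℕ) := by
      intro i j hi hj
      obtain ⟨a, ha⟩ := (hA i).mpr hi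
      obtain ⟨b, hb⟩ := (hB j).mpr hj
      exact ⟨(a, b), by rw [Prod.orderOf, ha, hb]⟩
    rcases (hL _).mp ⟨x, rfl⟩ with hx | hx | hx <;> rcases (hL _).mp ⟨y, rfl⟩ with hy | hy | hy
    · have := build _ 1 (Or.inl (Nat.lcm_dvd hx hy)) (Or.inl (one_dvd _))
      rwa [Nat.lcm_one_right] at this
    · exact build _ _ (Or.inl hx) (Or.inl hy)
    · exact build _ _ (Or.inl hx) (Or.inr hy)
    · rw [Nat.lcm_comm]; exact build _ _ (Or.inl hy) (Or.inl hx)
    · have := build 1 _ (Or.inl (one_dvd _)) (Or.inl (Nat.lcm_dvd hx hy))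
      rwa [Nat.lcm_one_left] at this
    · rw [Nat.lcm_comm]; exact build _ _ (Or.inr hy) (Or.inl hx)
    · rw [Nat.lcm_comm]; exact build _ _ (Or.inl hy) (Or.inr hx)
    · exact build _ _ (Or.inr hx) (Or.inl hy)
    · exact build _ _ (Or.inr hx) (Or.inr hy)

end Cfsg.Agent.S3532
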