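import Cfsg.Statements.S3546
import Mathlib

set_option autoImplicit false
open Cfsg

namespace Cfsg.Agent.S3546



/-- Let G act faithfully and transitively on a finite set and let D be the subgroup of G generated by the derangements (the elements fixing no point). Then D is itself transitive, and D contains every element of G whose number of fixed points is different from 1. -/
theorem result {G Ω : Type*} [Group G] [Finite G] [MulAction G Ω] [FaithfulSMul G Ω] [Finite Ω]
    (htrans : MulAction.IsPretransitive G Ω) :
    MulAction.IsPretransitive ↥(Subgroup.closure {g : G | ∀ ω : Ω, g • ω ≠ ω}) Ω ∧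
    ∀ g : G, Nat.card (MulAction.fixedBy Ω g) ≠ 1 → g ∈ Subgroup.closure {g : G | ∀ ω : Ω, g • ω ≠ ω} := by
  classical
  set D := Subgroup.closure {g : G | ∀ ω : Ω, g • ω ≠ ω} with hD
  haveI := Fintype.ofFinite Ω
  haveI := Fintype.ofFinite G
  rcases isEmpty_or_nonempty Ω with hΩ | hΩ
  · refine ⟨⟨fun x => hΩ.elim x⟩, fun g _ => Subgroup.subset_closure fun ω => hΩ.elim ω⟩
  let f : G → ℕ := fun g => Fintype.card (MulAction.fixedBy Ω g)
  haveI : Subsingleton (Quotient (MulAction.orbitRel G Ω)) :=
    (MulAction.pretransitive_iff_subsingleton_quotient G Ω).mp htrans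
  have hG : ∑ g : G, f g = Fintype.card G := by
    have := MulAction.sum_card_fixedBy_eq_card_orbits_mul_card_group G Ω
    rw [Fintype.card_eq_one_iff_nonempty_unique.mpr ⟨uniqueOfSubsingleton ⟦Classical.arbitrary Ω⟧⟩, one_mul] at this
    exact this
  have hDs : ∑ g : D, f g = Fintype.card (Quotient (MulAction.orbitRel D Ω)) * Fintype.card D := by
    rw [← MulAction.sum_card_fixedBy_eq_card_orbits_mul_card_group D Ω]
    exact Finset.sum_congr rfl fun g _ => Fintype.card_congr (Equiv.setCongr rfl)
  set k := Fintype.card (Quotient (MulAction.orbitRel D Ω))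
  have hout : ∀ g : G, g ∉ D → 1 ≤ f g := fun g hg => by
    by_contra h
    apply hg; apply Subgroup.subset_closure
    intro ω hω
    exact h (Fintype.card_pos_iff.mpr ⟨⟨ω, hω⟩⟩)
  have hsplit := Finset.sum_filter_add_sum_filter_not Finset.univ (fun g : G => g ∈ D) f
  rw [hG, Finset.sum_subtype (p := fun g => g ∈ D) (Finset.univ.filter fun g : G => g ∈ D) (by simp) f] at hsplit
  rw [hDs] at hsplit
  have hc : (Finset.univ.filter fun g : G => g ∈ D).card + (Finset.univ.filter fun g : G => ¬ g ∈ D).card = Fintype.card G :=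
    Finset.card_filter_add_card_filter_not _
  rw [show (Finset.univ.filter fun g : G => g ∈ D).card = Fintype.card D from (Fintype.card_subtype _).symm] at hc
  have hk : 1 ≤ k := Fintype.card_pos_iff.mpr ⟨⟦Classical.arbitrary Ω⟧⟩
  have hle : (Finset.univ.filter fun g : G => ¬ g ∈ D).card ≤ ∑ g ∈ Finset.univ.filter (fun g : G => ¬ g ∈ D), f g := by
    rw [Finset.card_eq_sum_ones]
    exact Finset.sum_le_sum fun g hg => hout g (by simpa using hg)
  have hDpos : 0 < Fintype.card D := Fintype.card_pos
  have hk1 : k = 1 := by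
    by_contra h
    have : 2 * Fintype.card D ≤ k * Fintype.card D := Nat.mul_le_mul_right _ (by omega)
    omega
  refine ⟨(MulAction.pretransitive_iff_subsingleton_quotient D Ω).mpr (Fintype.card_le_one_iff_subsingleton.mp hk1.le), fun g hg => ?_⟩
  by_contra hgD
  have : ∑ g ∈ Finset.univ.filter (fun g : G => ¬ g ∈ D), f g ≤ (Finset.univ.filter fun g : G => ¬ g ∈ D).card := by
    rw [hk1, one_mul] at hsplit; omega
  have h1 : ∀ x ∈ Finset.univ.filter (fun g : G => ¬ g ∈ D), 1 = f x := by
    refine (Finset.sum_eq_sum_iff_of_le (f := fun _ => 1) fun x hx => hout x (by simpa using hx)).mp ?_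
    rw [← Finset.card_eq_sum_ones]; omega
  exact hg (by rw [Nat.card_eq_fintype_card]; exact (h1 g (by simpa using hgD)).symm)

end Cfsg.Agent.S3546
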