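import Cfsg.Statements.S3547
import Mathlib

set_option autoImplicit false
open Cfsg

namespace Cfsg.Agent.S3547

theorem burn {G X : Type*} [Group G] [Fintype G] [MulAction G X] [Finite X] :
    ∑ g : G, Nat.card (MulAction.fixedBy X g) = Nat.card (MulAction.orbitRel.Quotient G X) * Fintype.card G := by
  classical
  haveI := Fintype.ofFinite X
  simp only [Nat.card_eq_fintype_card]
  exact MulAction.sum_card_fixedBy_eq_card_orbits_mul_card_group G X

theorem fixedBy_prod {G X : Type*} [Group G] [MulAction G X] (g : G) :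
    Nat.card (MulAction.fixedBy (X × X) g) = Nat.card (MulAction.fixedBy X g) ^ 2 := by
  rw [sq, ← Nat.card_prod]
  refine Nat.card_congr (Equiv.ofBijective (fun z => (⟨z.1.1, ?_⟩, ⟨z.1.2, ?_⟩)) ⟨?_, ?_⟩)
  · have := z.2; simp [MulAction.fixedBy, Prod.ext_iff] at this; exact this.1
  · have := z.2; simp [MulAction.fixedBy, Prod.ext_iff] at this; exact this.2
  · intro a b h
    simp only [Prod.mk.injEq] at h
    exact Subtype.ext (Prod.ext (congrArg Subtype.val h.1) (congrArg Subtype.val h.2))
  · rintro ⟨⟨a, ha⟩, ⟨b, hb⟩⟩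
    exact ⟨⟨(a, b), Prod.ext ha hb⟩, rfl⟩


/-- Let G act faithfully and transitively on a finite set Ω, let D be the subgroup generated by the derangements, and let r_G and r_D be the numbers of orbits of G and of D on ordered pairs of points (the permutation ranks). Then r_D − 1 = (r_G − 1)·[G : D]. -/
theorem result {G Ω : Type*} [Group G] [Finite G] [MulAction G Ω] [FaithfulSMul G Ω] [Finite Ω]
    (htrans : MulAction.IsPretransitive G Ω) :
    Nat.card (MulAction.orbitRel.Quotient ↥(Subgroup.closure {g : G | ∀ ω : Ω, g • ω ≠ ω}) (Ω × Ω)) - 1 =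
      (Nat.card (MulAction.orbitRel.Quotient G (Ω × Ω)) - 1) * (Subgroup.closure {g : G | ∀ ω : Ω, g • ω ≠ ω}).index := by
  classical
  haveI := Fintype.ofFinite G
  haveI := htrans
  rcases isEmpty_or_nonempty Ω with hΩ | hΩ
  · simp
  set D : Subgroup G := Subgroup.closure {g : G | ∀ ω : Ω, g • ω ≠ ω} with hD
  set F : G → ℕ := fun g => Nat.card (MulAction.fixedBy Ω g)
  have hnD : ∀ g ∈ (Finset.univ.filter (fun g : G => g ∉ D)), 1 ≤ F g := by
    intro g hg
    simp only [Finset.mem_filter, Finset.mem_univ, true_and] at hg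
    by_contra h
    apply hg
    refine Subgroup.subset_closure fun ω hω => h ?_
    haveI : Nonempty (MulAction.fixedBy Ω g) := ⟨⟨ω, hω⟩⟩
    exact Nat.card_pos
  -- orbit count of `G` and of `D` on points
  have hGq : Nat.card (MulAction.orbitRel.Quotient G Ω) = 1 := by
    rw [Nat.card_eq_one_iff_unique]
    obtain ⟨ω⟩ := hΩ
    refine ⟨?_, ⟨Quotient.mk'' ω⟩⟩
    constructor
    intro a b
    induction a using Quotient.inductionOn' with
    | _ a => induction b using Quotient.inductionOn' with
      | _ b => exact Quotient.sound' (MulAction.exists_smul_eq G b a)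
  have sumsplit : ∀ f : G → ℕ, ∑ g, f g = ∑ d : D, f d + ∑ g ∈ Finset.univ.filter (fun g => g ∉ D), f g := by
    intro f
    rw [← Finset.sum_filter_add_sum_filter_not Finset.univ (fun g => g ∈ D)]
    congr 1
    exact Finset.sum_subtype _ (fun x => by simp) _
  have e1 := burn (G := G) (X := Ω)
  have e2 := burn (G := D) (X := Ω)
  have hDF : ∀ d : D, Nat.card (MulAction.fixedBy Ω d) = F d := fun d => rfl
  rw [sumsplit, hGq, one_mul] at e1
  simp only [hDF] at e2
  replace e1 : (∑ d : D, F (d : G)) + (∑ g ∈ Finset.univ.filter (fun g => g ∉ D), F g) = Fintype.card G := e1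
  set c := (Finset.univ.filter (fun g : G => g ∉ D)).card with hc
  have hcard : Fintype.card G = Fintype.card D + c := by
    have := sumsplit (fun _ => 1)
    simpa [hc] using this
  have hs1 : c ≤ ∑ g ∈ Finset.univ.filter (fun g => g ∉ D), F g := by
    rw [hc, Finset.card_eq_sum_ones]
    exact Finset.sum_le_sum hnD
  have hq : 1 ≤ Nat.card (MulAction.orbitRel.Quotient D Ω) := by
    obtain ⟨ω⟩ := hΩ
    haveI : Nonempty (MulAction.orbitRel.Quotient D Ω) := ⟨Quotient.mk'' ω⟩
    exact Nat.card_pos
  have hs2 : ∑ g ∈ Finset.univ.filter (fun g => g ∉ D), F g = c := by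
    have : Fintype.card D ≤ Nat.card (MulAction.orbitRel.Quotient D Ω) * Fintype.card D :=
      Nat.le_mul_of_pos_left _ hq
    omega
  have hone : ∀ g ∈ Finset.univ.filter (fun g : G => g ∉ D), F g = 1 := by
    intro g hg
    refine ((Finset.sum_eq_sum_iff_of_le hnD).1 ?_ g hg).symm
    rw [hs2, hc, Finset.card_eq_sum_ones]
  have p1 := burn (G := G) (X := Ω × Ω)
  have p2 := burn (G := D) (X := Ω × Ω)
  simp only [fixedBy_prod] at p1 p2
  simp only [hDF] at p2
  rw [sumsplit] at p1
  have hrest : ∑ g ∈ Finset.univ.filter (fun g : G => g ∉ D), (Nat.card (MulAction.fixedBy Ω g)) ^ 2 = c := by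
    rw [hc, Finset.card_eq_sum_ones]
    refine Finset.sum_congr rfl fun g hg => ?_
    show F g ^ 2 = 1
    rw [hone g hg, one_pow]
  set RG := Nat.card (MulAction.orbitRel.Quotient G (Ω × Ω))
  set RD := Nat.card (MulAction.orbitRel.Quotient ↥D (Ω × Ω))
  have key : RG * Fintype.card G = RD * Fintype.card D + c := by
    rw [← p1, hrest, p2]
  have hidx : Fintype.card D * D.index = Fintype.card G := by
    simpa [Nat.card_eq_fintype_card] using D.card_mul_index
  apply Nat.eq_of_mul_eq_mul_left (Fintype.card_pos (α := D))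
  calc Fintype.card D * (RD - 1) = RD * Fintype.card D - Fintype.card D := by
        rw [Nat.mul_sub, mul_one, mul_comm]
    _ = RG * Fintype.card G - Fintype.card G := by omega
    _ = (RG - 1) * Fintype.card G := by rw [Nat.sub_mul, one_mul]
    _ = Fintype.card D * ((RG - 1) * D.index) := by rw [← hidx]; ring

end Cfsg.Agent.S3547
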