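import Cfsg.Statements.S3548
import Mathlib

set_option autoImplicit false
open Cfsg

namespace Cfsg.Agent.S3548



/-- Let G act faithfully and transitively on a finite set with n ≥ 2 points and let D be the subgroup generated by the derangements. Then the index of D in G divides n − 1, and if it equals n − 1 then n is a prime power. -/
theorem result {G Ω : Type*} [Group G] [Finite G] [MulAction G Ω] [FaithfulSMul G Ω] [Finite Ω]
    (htrans : MulAction.IsPretransitive G Ω) (hΩ : 2 ≤ Nat.card Ω) :
    (Subgroup.closure {g : G | ∀ ω : Ω, g • ω ≠ ω}).index ∣ Nat.card Ω - 1 ∧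
    ((Subgroup.closure {g : G | ∀ ω : Ω, g • ω ≠ ω}).index = Nat.card Ω - 1 → IsPrimePow (Nat.card Ω)) := by
  classical
  cases nonempty_fintype G
  cases nonempty_fintype Ω
  haveI := htrans
  set D : Set G := {g : G | ∀ ω : Ω, g • ω ≠ ω} with hD
  set N := Subgroup.closure D with hN
  haveI hNn : N.Normal := ⟨fun x hx g => by
    have h : N.map (MulAut.conj g).toMonoidHom ≤ N := by
      rw [hN, MonoidHom.map_closure, Subgroup.closure_le]
      rintro _ ⟨d, hd, rfl⟩
      refine Subgroup.subset_closure fun ω h => hd (g⁻¹ • ω) ?_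
      have h' : g • d • g⁻¹ • ω = ω := by
        simpa [mul_smul] using h
      exact eq_inv_smul_iff.mpr h'
    exact h ⟨x, hx, rfl⟩⟩
  have hpos : 0 < Nat.card Ω := by omega
  obtain ⟨⟨a⟩⟩ := (Nat.card_pos_iff.mp hpos)
  -- fixed point counts
  let fx : G → ℕ := fun g => (Finset.univ.filter fun ω : Ω => g • ω = ω).card
  have hswap : ∀ S : Finset G, ∑ g ∈ S, fx g = ∑ ω : Ω, (S.filter fun g => g • ω = ω).card := by
    intro S
    simp only [fx, Finset.card_filter]
    rw [Finset.sum_comm]
  have hstab : ∀ (H : Subgroup G) (ω : Ω),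
      Nat.card (MulAction.orbit H ω) *
        ((Finset.univ.filter fun g : G => g ∈ H).filter fun g => g • ω = ω).card = Nat.card H := by
    intro H ω
    rw [Nat.card_coe_set_eq, ← MulAction.index_stabilizer, Finset.filter_filter]
    have h2 : (Finset.univ.filter fun g : G => g ∈ H ∧ g • ω = ω).card = Nat.card (MulAction.stabilizer H ω) := by
      rw [← Fintype.card_subtype, ← Nat.card_eq_fintype_card]
      exact Nat.card_congr
        { toFun := fun g => ⟨⟨g.1, g.2.1⟩, g.2.2⟩
          invFun := fun g => ⟨g.1.1, g.1.2, g.2⟩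
          left_inv := fun g => rfl
          right_inv := fun g => rfl }
    rw [h2, mul_comm, Subgroup.card_mul_index]
  have htop : ∀ ω : Ω, Nat.card Ω * (Finset.univ.filter fun g : G => g • ω = ω).card = Nat.card G := by
    intro ω
    have h := hstab ⊤ ω
    rw [Subgroup.card_top] at h
    have h1 : MulAction.orbit (⊤ : Subgroup G) ω = Set.univ := by
      ext x
      simp only [Set.mem_univ, iff_true]
      obtain ⟨g, hg⟩ := MulAction.exists_smul_eq G ω x
      exact ⟨⟨g, Subgroup.mem_top g⟩, hg⟩
    rw [h1, Nat.card_congr (Equiv.Set.univ Ω)] at h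
    rwa [Finset.filter_true_of_mem (fun g _ => Subgroup.mem_top g)] at h
  have hall : ∑ g : G, fx g = Nat.card G := by
    rw [hswap]
    have h : ∑ ω : Ω, Nat.card Ω * (Finset.univ.filter fun g : G => g • ω = ω).card =
        Nat.card Ω * Nat.card G := by
      rw [Finset.sum_congr rfl fun ω _ => htop ω, Finset.sum_const, Finset.card_univ,
        Nat.card_eq_fintype_card (α := Ω), smul_eq_mul]
    rw [← Finset.mul_sum] at h
    exact Nat.eq_of_mul_eq_mul_left hpos h
  set S := Finset.univ.filter fun g : G => g ∈ N with hS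
  set S' := Finset.univ.filter fun g : G => ¬ g ∈ N with hS'
  have hsplit : ∑ g ∈ S, fx g + ∑ g ∈ S', fx g = Nat.card G := by
    rw [hS, hS', Finset.sum_filter_add_sum_filter_not, hall]
  have hScard : S.card = Nat.card N := by
    rw [hS, ← Fintype.card_subtype, ← Nat.card_eq_fintype_card]
  have hScards : S.card + S'.card = Nat.card G := by
    rw [hS, hS', Finset.card_filter_add_card_filter_not, Finset.card_univ, Nat.card_eq_fintype_card]
  have hge1 : ∀ g ∈ S', 1 ≤ fx g := by
    intro g hg
    have hgN : g ∉ N := (Finset.mem_filter.mp hg).2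
    by_contra h
    refine hgN (Subgroup.subset_closure fun ω hω => h ?_)
    exact Finset.card_pos.mpr ⟨ω, Finset.mem_filter.mpr ⟨Finset.mem_univ _, hω⟩⟩
  have hS'ge : S'.card ≤ ∑ g ∈ S', fx g := by
    rw [Finset.card_eq_sum_ones]; exact Finset.sum_le_sum hge1
  -- the orbit of a under N contributes |N|
  set O := Finset.univ.filter fun ω : Ω => ω ∈ MulAction.orbit N a with hO
  have hOsum : ∑ ω ∈ O, (S.filter fun g => g • ω = ω).card = Nat.card N := by
    have hc : ∀ ω ∈ O, O.card * (S.filter fun g => g • ω = ω).card = Nat.card N := by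
      intro ω hω
      have e : MulAction.orbit N ω = MulAction.orbit N a :=
        MulAction.orbit_eq_iff.mpr (Finset.mem_filter.mp hω).2
      have h := hstab N ω
      rw [e] at h
      rw [hO, ← Fintype.card_subtype, ← Nat.card_eq_fintype_card]
      exact h
    have hOne : 0 < O.card :=
      Finset.card_pos.mpr ⟨a, Finset.mem_filter.mpr ⟨Finset.mem_univ _, MulAction.mem_orbit_self a⟩⟩
    have h : ∑ ω ∈ O, O.card * (S.filter fun g => g • ω = ω).card = O.card * Nat.card N := by
      rw [Finset.sum_congr rfl hc, Finset.sum_const, smul_eq_mul]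
    rw [← Finset.mul_sum] at h
    exact Nat.eq_of_mul_eq_mul_left hOne h
  have hNtrans : ∀ ω : Ω, ω ∈ MulAction.orbit N a := by
    intro ω
    by_contra hω
    have hlt : ∑ x ∈ O, (S.filter fun g => g • x = x).card < ∑ x : Ω, (S.filter fun g => g • x = x).card := by
      refine Finset.sum_lt_sum_of_subset (Finset.subset_univ _) (i := ω) (Finset.mem_univ _)
        (fun h => hω (Finset.mem_filter.mp h).2) ?_ fun _ _ _ => Nat.zero_le _
      exact Finset.card_pos.mpr ⟨1, Finset.mem_filter.mpr
        ⟨Finset.mem_filter.mpr ⟨Finset.mem_univ _, N.one_mem⟩, one_smul _ _⟩⟩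
    rw [hOsum, ← hswap] at hlt
    omega
  have hNsum : ∑ g ∈ S, fx g = Nat.card N := by
    rw [hswap, ← hOsum]
    refine (Finset.sum_subset (Finset.subset_univ _) fun ω _ hω => ?_).symm
    exact absurd (Finset.mem_filter.mpr ⟨Finset.mem_univ _, hNtrans ω⟩) hω
  have hone : ∀ g, g ∉ N → fx g = 1 := by
    intro g hg
    have h : ∑ g ∈ S', 1 = ∑ g ∈ S', fx g := by
      rw [← Finset.card_eq_sum_ones]; omega
    exact ((Finset.sum_eq_sum_iff_of_le hge1).mp h g (Finset.mem_filter.mpr ⟨Finset.mem_univ _, hg⟩)).symm
  -- point stabilizer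
  set A := MulAction.stabilizer G a with hA
  have hab : ∀ g ∈ A, ∀ b : Ω, b ≠ a → g • b = b → g ∈ N := by
    intro g hg b hb hgb
    by_contra h
    have h1 := hone g h
    have : ({a, b} : Finset Ω) ⊆ Finset.univ.filter fun ω : Ω => g • ω = ω := by
      intro x hx
      rcases Finset.mem_insert.mp hx with rfl | hx
      · exact Finset.mem_filter.mpr ⟨Finset.mem_univ _, hg⟩
      · rw [Finset.mem_singleton] at hx; subst hx
        exact Finset.mem_filter.mpr ⟨Finset.mem_univ _, hgb⟩
    have := Finset.card_le_card this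
    rw [Finset.card_pair (Ne.symm hb)] at this
    simp only [fx] at h1
    omega
  set i := N.index with hi
  have hAi : i = (N.subgroupOf A).index := by
    have hsup : N ⊔ A = ⊤ := by
      rw [eq_top_iff]
      intro g _
      obtain ⟨h, hh⟩ := hNtrans (g • a)
      have hh' : (h : G) • a = g • a := hh
      have : g = h * ((h : G)⁻¹ * g) := by group
      rw [this]
      exact Subgroup.mul_mem_sup h.2 (by rw [hA, MulAction.mem_stabilizer_iff, mul_smul, ← hh', inv_smul_smul])
    rw [hi, ← Subgroup.relIndex_top_right, ← hsup, sup_comm, Subgroup.relIndex_sup_right]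
    rfl
  have hidvd : ∀ b : Ω, b ≠ a → i ∣ (MulAction.stabilizer A b).index := by
    intro b hb
    rw [hAi]
    exact Subgroup.index_dvd_of_le fun g hg => hab g.1 g.2 b hb hg
  haveI hfin : Finite A := inferInstance
  constructor
  · -- partition Ω \ {a} into A-orbits
    set B : SubMulAction A Ω :=
      { carrier := {x | x ≠ a}
        smul_mem' := fun g x hx h => hx (by
          have hg : (g : G) • a = a := g.2
          exact MulAction.injective (g : G) (h.trans hg.symm)) } with hB
    haveI : Fintype B := Fintype.ofFinite _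
    have hcardB : Nat.card B = Nat.card Ω - 1 := by
      have h : Nat.card {x : Ω // x ≠ a} = Nat.card Ω - 1 := by
        rw [Nat.card_eq_fintype_card, Fintype.card_subtype_compl, Fintype.card_subtype_eq, Nat.card_eq_fintype_card]
      exact h
    rw [← hcardB, Nat.card_congr (MulAction.selfEquivSigmaOrbits A B), Nat.card_sigma]
    refine Finset.dvd_sum fun q _ => ?_
    rw [Nat.card_coe_set_eq, ← MulAction.index_stabilizer]
    have e : MulAction.stabilizer A q.out = MulAction.stabilizer A (q.out : Ω) :=
      SubMulAction.stabilizer_of_subMul _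
    rw [e]
    exact hidvd _ q.out.2
  · intro heq
    -- N is regular
    have hsN : ∀ b : Ω, b ≠ a → ∀ g : A, (g : G) ∈ N → (g : G) • b = b := by
      intro b hb g hg
      have h1 : (MulAction.stabilizer A b).index ≤ Nat.card Ω - 1 := by
        rw [MulAction.index_stabilizer, ← Nat.card_coe_set_eq]
        have h2 : MulAction.orbit A b ⊆ {x | x ≠ a} := by
          rintro _ ⟨h, rfl⟩ he
          have hh : (h : G) • a = a := h.2
          exact hb (MulAction.injective (h : G) (he.trans hh.symm))
        refine (Nat.card_mono (Set.toFinite _) h2).trans (le_of_eq ?_)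
        show Nat.card {x : Ω // x ≠ a} = _
        rw [Nat.card_eq_fintype_card, Fintype.card_subtype_compl, Fintype.card_subtype_eq, Nat.card_eq_fintype_card]
      have h2 : MulAction.stabilizer A b ≤ N.subgroupOf A := fun g hg => hab g.1 g.2 b hb hg
      have h3 : MulAction.stabilizer A b = N.subgroupOf A := by
        refine le_antisymm h2 ?_
        rw [← Subgroup.relIndex_eq_one]
        have h4 := Subgroup.relIndex_mul_index h2
        rw [← hAi, heq] at h4
        have h5 : (MulAction.stabilizer A b).relIndex (N.subgroupOf A) * (Nat.card Ω - 1) ≤ 1 * (Nat.card Ω - 1) := by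
          rw [h4, one_mul]; exact h1
        have h6 := Nat.le_of_mul_le_mul_right h5 (by omega)
        have h7 : (MulAction.stabilizer A b).relIndex (N.subgroupOf A) ≠ 0 := Subgroup.index_ne_zero_of_finite
        omega
      have : g ∈ MulAction.stabilizer A b := h3 ▸ hg
      exact this
    have hNa : ∀ g ∈ N, g • a = a → g = 1 := by
      intro g hg hga
      refine FaithfulSMul.eq_of_smul_eq_smul (α := Ω) fun b => ?_
      rw [one_smul]
      by_cases hb : b = a
      · rw [hb, hga]
      · exact hsN b hb ⟨g, hga⟩ hg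
    have hbij : Function.Bijective fun h : N => (h : G) • a := by
      refine ⟨fun x y h => ?_, fun b => hNtrans b⟩
      have h' : ((y : G)⁻¹ * x) • a = a := by
        rw [mul_smul, show (x : G) • a = (y : G) • a from h, inv_smul_smul]
      exact Subtype.ext (inv_mul_eq_one.mp (hNa _ (N.mul_mem (N.inv_mem y.2) x.2) h')).symm
    have hNc : Nat.card N = Nat.card Ω := Nat.card_congr (Equiv.ofBijective _ hbij)
    haveI : Nontrivial N := Finite.one_lt_card_iff_nontrivial.mp (by omega)
    have hNp := Nat.minFac_prime (n := Nat.card N) (by omega)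
    set p := (Nat.card N).minFac with hp
    haveI : Fact p.Prime := ⟨hNp⟩
    obtain ⟨z, hz⟩ := exists_prime_orderOf_dvd_card' p (Nat.minFac_dvd (Nat.card N))
    have hza : (z : G) • a ≠ a := fun h => by
      have h1 : z = 1 := Subtype.ext (hNa _ z.2 h)
      rw [h1, orderOf_one] at hz
      exact hNp.one_lt.ne hz
    have hexp : ∀ y : N, y ^ p = 1 := by
      intro y
      by_cases hy : (y : G) • a = a
      · rw [show y = 1 from Subtype.ext (hNa _ y.2 hy), one_pow]
      -- the A-orbit of z • a is everything but a
      have h0 : Nat.card Ω - 1 ≤ (MulAction.stabilizer A ((z : G) • a)).index :=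
        heq ▸ Nat.le_of_dvd (Nat.pos_of_ne_zero Subgroup.index_ne_zero_of_finite) (hidvd _ hza)
      rw [MulAction.index_stabilizer, ← Nat.card_coe_set_eq] at h0
      have hmem : (y : G) • a ∈ MulAction.orbit A ((z : G) • a) := by
        by_contra hne
        have h1 : MulAction.orbit A ((z : G) • a) ⊆ ({a, (y : G) • a} : Set Ω)ᶜ := by
          rintro _ ⟨h, rfl⟩ hh
          rcases hh with hh | hh
          · have hh' : (h : G) • a = a := h.2
            exact hza (MulAction.injective (h : G) (hh.trans hh'.symm))
          · exact hne ⟨h, hh⟩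
        have h2 := Nat.card_mono (Set.toFinite _) h1
        rw [Nat.card_coe_set_eq ({a, (y : G) • a} : Set Ω)ᶜ, Set.ncard_compl, Set.ncard_pair (Ne.symm hy)] at h2
        omega
      obtain ⟨⟨g, hg⟩, hgy⟩ := hmem
      have hgy' : g • (z : G) • a = (y : G) • a := hgy
      have hg' : g⁻¹ • a = a := inv_smul_eq_iff.mpr (MulAction.mem_stabilizer_iff.mp hg).symm
      have e : (⟨g * z * g⁻¹, hNn.conj_mem _ z.2 g⟩ : N) = y := hbij.1 (by
        show (g * (z : G) * g⁻¹) • a = _
        rw [mul_smul, hg', mul_smul, hgy'])
      rw [← e]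
      ext
      have h1 : (z : G) ^ p = 1 := by
        rw [← SubgroupClass.coe_pow, ← hz, pow_orderOf_eq_one]; rfl
      rw [SubgroupClass.coe_pow, conj_pow, h1]; simp
    have hpg : IsPGroup p N := fun y => ⟨1, by rw [pow_one]; exact hexp y⟩
    obtain ⟨k, hk⟩ := hpg.exists_card_eq
    rw [← hNc, hk]
    exact hNp.isPrimePow.pow (fun h => by rw [h, pow_zero] at hk; omega)

end Cfsg.Agent.S3548
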