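import Cfsg.Statements.S3549
import Mathlib

set_option autoImplicit false
open Cfsg

namespace Cfsg.Agent.S3549

open scoped Pointwise

theorem burn {G X : Type*} [Group G] [Fintype G] [MulAction G X] [Finite X] :
    ∑ g : G, Nat.card (MulAction.fixedBy X g) = Nat.card (MulAction.orbitRel.Quotient G X) * Fintype.card G := by
  classical
  haveI := Fintype.ofFinite X
  simp only [Nat.card_eq_fintype_card]
  exact MulAction.sum_card_fixedBy_eq_card_orbits_mul_card_group G X

theorem outside_fix_one {G Ω : Type*} [Group G] [Fintype G] [MulAction G Ω] [Finite Ω]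
    (htrans : MulAction.IsPretransitive G Ω) [hΩ : Nonempty Ω] :
    Nat.card (MulAction.orbitRel.Quotient ↥(Subgroup.closure {g : G | ∀ ω : Ω, g • ω ≠ ω}) Ω) = 1 ∧
      ∀ g : G, g ∉ Subgroup.closure {g : G | ∀ ω : Ω, g • ω ≠ ω} → Nat.card (MulAction.fixedBy Ω g) = 1 := by
  classical
  haveI := htrans
  set D : Subgroup G := Subgroup.closure {g : G | ∀ ω : Ω, g • ω ≠ ω} with hD
  set F : G → ℕ := fun g => Nat.card (MulAction.fixedBy Ω g)
  have hnD : ∀ g ∈ (Finset.univ.filter (fun g : G => g ∉ D)), 1 ≤ F g := by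
    intro g hg
    simp only [Finset.mem_filter, Finset.mem_univ, true_and] at hg
    by_contra h
    apply hg
    refine Subgroup.subset_closure fun ω hω => h ?_
    haveI : Nonempty (MulAction.fixedBy Ω g) := ⟨⟨ω, hω⟩⟩
    exact Nat.card_pos
  -- orbit count of `G` and of `D` on points
  have hGq : Nat.card (MulAction.orbitRel.Quotient G Ω) = 1 := by
    rw [Nat.card_eq_one_iff_unique]
    obtain ⟨ω⟩ := hΩ
    refine ⟨?_, ⟨Quotient.mk'' ω⟩⟩
    constructor
    intro a b
    induction a using Quotient.inductionOn' with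
    | _ a => induction b using Quotient.inductionOn' with
      | _ b => exact Quotient.sound' (MulAction.exists_smul_eq G b a)
  have sumsplit : ∀ f : G → ℕ, ∑ g, f g = ∑ d : D, f d + ∑ g ∈ Finset.univ.filter (fun g => g ∉ D), f g := by
    intro f
    rw [← Finset.sum_filter_add_sum_filter_not Finset.univ (fun g => g ∈ D)]
    congr 1
    exact Finset.sum_subtype _ (fun x => by simp) _
  have e1 := burn (G := G) (X := Ω)
  have e2 := burn (G := D) (X := Ω)
  have hDF : ∀ d : D, Nat.card (MulAction.fixedBy Ω d) = F d := fun d => rfl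
  rw [sumsplit, hGq, one_mul] at e1
  simp only [hDF] at e2
  replace e1 : (∑ d : D, F (d : G)) + (∑ g ∈ Finset.univ.filter (fun g => g ∉ D), F g) = Fintype.card G := e1
  set c := (Finset.univ.filter (fun g : G => g ∉ D)).card with hc
  have hcard : Fintype.card G = Fintype.card D + c := by
    have := sumsplit (fun _ => 1)
    simpa [hc] using this
  have hs1 : c ≤ ∑ g ∈ Finset.univ.filter (fun g => g ∉ D), F g := by
    rw [hc, Finset.card_eq_sum_ones]
    exact Finset.sum_le_sum hnD
  have hq : 1 ≤ Nat.card (MulAction.orbitRel.Quotient D Ω) := by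
    obtain ⟨ω⟩ := hΩ
    haveI : Nonempty (MulAction.orbitRel.Quotient D Ω) := ⟨Quotient.mk'' ω⟩
    exact Nat.card_pos
  have hs2 : ∑ g ∈ Finset.univ.filter (fun g => g ∉ D), F g = c := by
    have : Fintype.card D ≤ Nat.card (MulAction.orbitRel.Quotient D Ω) * Fintype.card D :=
      Nat.le_mul_of_pos_left _ hq
    omega
  have hone : ∀ g ∈ Finset.univ.filter (fun g : G => g ∉ D), F g = 1 := by
    intro g hg
    refine ((Finset.sum_eq_sum_iff_of_le hnD).1 ?_ g hg).symm
    rw [hs2, hc, Finset.card_eq_sum_ones]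
  refine ⟨?_, fun g hg => hone g (by simp [hg])⟩
  have hpos : 0 < Fintype.card D := Fintype.card_pos
  refine Nat.eq_of_mul_eq_mul_right hpos ?_
  rw [← e2, one_mul]
  omega

theorem index_dvd_card {H X : Type*} [Group H] [MulAction H X] [Finite X] (L : Subgroup H)
    (h : ∀ x : X, MulAction.stabilizer H x ≤ L) : L.index ∣ Nat.card X := by
  classical
  haveI := Fintype.ofFinite (MulAction.orbitRel.Quotient H X)
  rw [Nat.card_congr (MulAction.selfEquivSigmaOrbits H X), Nat.card_sigma]
  refine Finset.dvd_sum fun ω _ => ?_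
  rw [Nat.card_coe_set_eq, ← MulAction.index_stabilizer]
  exact Subgroup.index_dvd_of_le (h _)


/-- Let G act faithfully, transitively but imprimitively on a finite set with n points, and let D be the subgroup generated by the derangements. Then the index of D in G is at most √n − 1. -/
theorem result {G Ω : Type*} [Group G] [Finite G] [MulAction G Ω] [FaithfulSMul G Ω] [Finite Ω]
    (htrans : MulAction.IsPretransitive G Ω) (himp : ¬ MulAction.IsPreprimitive G Ω) :
    ((Subgroup.closure {g : G | ∀ ω : Ω, g • ω ≠ ω}).index : ℝ) ≤ Real.sqrt (Nat.card Ω) - 1 := by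
  classical
  haveI := Fintype.ofFinite G
  haveI := htrans
  obtain ⟨B, hB, hBns, hBu⟩ : ∃ B : Set Ω, MulAction.IsBlock G B ∧ ¬ B.Subsingleton ∧ B ≠ Set.univ := by
    by_contra hc
    refine himp { isTrivialBlock_of_isBlock := fun {B} hB => ?_ }
    by_contra h
    simp only [MulAction.IsTrivialBlock, not_or] at h
    exact hc ⟨B, hB, h.1, h.2⟩
  obtain ⟨a, ha⟩ : B.Nonempty := by
    by_contra h
    exact hBns (by rw [Set.not_nonempty_iff_eq_empty.1 h]; exact Set.subsingleton_empty)
  haveI : Nonempty Ω := ⟨a⟩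
  obtain ⟨hq, hone⟩ := outside_fix_one htrans
  set D := Subgroup.closure {g : G | ∀ ω : Ω, g • ω ≠ ω}
  set H := MulAction.stabilizer G a
  -- `D` is transitive
  have hDt : ∀ ω : Ω, ∃ d : G, d ∈ D ∧ d • a = ω := by
    intro ω
    haveI := (Nat.card_eq_one_iff_unique.1 hq).1
    have h1 : (Quotient.mk'' ω : MulAction.orbitRel.Quotient D Ω) = Quotient.mk'' a := Subsingleton.elim _ _
    obtain ⟨d, hd⟩ := Quotient.exact' h1
    exact ⟨d, d.2, hd⟩
  have hidx : (D.subgroupOf H).index = D.index := by
    let f : H ⧸ D.subgroupOf H → G ⧸ D :=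
      Quotient.map' (fun h => (h : G)) (by
        intro x y hxy
        rw [QuotientGroup.leftRel_apply] at hxy ⊢
        exact hxy)
    refine Nat.card_eq_of_bijective f ⟨?_, ?_⟩
    · intro x y hxy
      induction x using Quotient.inductionOn' with
      | _ x => induction y using Quotient.inductionOn' with
        | _ y => exact Quotient.sound' (by rw [QuotientGroup.leftRel_apply]; exact Subgroup.mem_subgroupOf.2 (QuotientGroup.eq.1 hxy))
    · intro x
      obtain ⟨g, rfl⟩ := QuotientGroup.mk_surjective x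
      obtain ⟨d, hd, hda⟩ := hDt (g⁻¹ • a)
      have hH : g * d ∈ H := MulAction.mem_stabilizer_iff.2 (by rw [mul_smul, hda, smul_inv_smul])
      exact ⟨QuotientGroup.mk (⟨g * d, hH⟩ : H), QuotientGroup.eq.2 (by
        show (g * d)⁻¹ * g ∈ D
        rw [mul_inv_rev, mul_assoc, inv_mul_cancel, mul_one]; exact inv_mem hd)⟩
  have hdiv : ∀ S : SubMulAction H Ω, a ∉ S → D.index ∣ Nat.card S := by
    intro S haS
    rw [← hidx]
    refine index_dvd_card _ fun x h hh => ?_
    rw [Subgroup.mem_subgroupOf]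
    by_contra hD
    have h1 := hone _ hD
    obtain ⟨hsub, -⟩ := Nat.card_eq_one_iff_unique.1 h1
    have h2 := @Subsingleton.elim _ hsub ⟨a, MulAction.mem_stabilizer_iff.1 h.2⟩
      ⟨(x : Ω), show (h : G) • (x : Ω) = x from congrArg Subtype.val (MulAction.mem_stabilizer_iff.1 hh)⟩
    have h3 : a = (x : Ω) := congrArg Subtype.val h2
    exact haS (by rw [h3]; exact x.2)
  have hfix : ∀ h : H, (h : G) • B = B := fun h =>
    hB.smul_eq_of_mem ha (show (h : G) • a ∈ B by rw [MulAction.mem_stabilizer_iff.1 h.2]; exact ha)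
  have hne' : ∀ (h : H) (x : Ω), x ≠ a → h • x ≠ a := by
    intro h x hx he
    refine hx ?_
    rw [← inv_smul_smul h x, he]
    exact MulAction.mem_stabilizer_iff.1 (h⁻¹).2
  let S1 : SubMulAction H Ω := ⟨B \ {a}, fun h {x} hx => ⟨by
    show (h : G) • x ∈ B
    rw [← hfix h]; exact Set.smul_mem_smul_set hx.1, hne' h x hx.2⟩⟩
  let S2 : SubMulAction H Ω := ⟨Set.univ \ {a}, fun h {x} hx => ⟨trivial, hne' h x hx.2⟩⟩
  have d1 : D.index ∣ B.ncard - 1 := by
    have h1 := hdiv S1 (fun h => h.2 rfl)
    rwa [show Nat.card S1 = B.ncard - 1 from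
      (Nat.card_coe_set_eq (B \ {a})).trans (Set.ncard_diff_singleton_of_mem ha)] at h1
  have d2 : D.index ∣ Nat.card Ω - 1 := by
    have h1 := hdiv S2 (fun h => h.2 rfl)
    rwa [show Nat.card S2 = Nat.card Ω - 1 from
      (Nat.card_coe_set_eq (Set.univ \ {a})).trans (by rw [Set.ncard_diff_singleton_of_mem (Set.mem_univ a), Set.ncard_univ])] at h1
  set m := B.ncard
  set b := (Set.range fun g : G => g • B).ncard
  have hn : m * b = Nat.card Ω := hB.ncard_block_mul_ncard_orbit_eq ⟨a, ha⟩
  have hm : 2 ≤ m := by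
    rcases Nat.lt_or_ge m 2 with h | h
    · exact absurd ((Set.ncard_le_one (Set.toFinite B)).1 (by omega)) hBns
    · exact h
  have hm' : m < Nat.card Ω := by
    rw [← Set.ncard_univ]
    exact Set.ncard_lt_ncard (Set.ssubset_univ_iff.2 hBu)
  have hb : 2 ≤ b := by
    by_contra hb
    have : b = 0 ∨ b = 1 := by omega
    rcases this with h | h <;> rw [h] at hn <;> omega
  have d3 : D.index ∣ b - 1 := by
    have e : Nat.card Ω - 1 = (m - 1) * b + (b - 1) := by
      obtain ⟨m', hm''⟩ : ∃ m', m = m' + 1 := ⟨m - 1, by omega⟩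
      rw [← hn, hm'', Nat.add_mul, one_mul, Nat.add_sub_cancel]
      omega
    rw [e] at d2
    exact (Nat.dvd_add_right (d1.mul_right b)).1 d2
  have h1 := Nat.le_of_dvd (by omega) d1
  have h2 := Nat.le_of_dvd (by omega) d3
  have h3 : (D.index + 1) * (D.index + 1) ≤ Nat.card Ω := by
    rw [← hn]; exact Nat.mul_le_mul (by omega) (by omega)
  have h4 : ((D.index : ℝ) + 1) ≤ Real.sqrt (Nat.card Ω) := by
    apply Real.le_sqrt_of_sq_le
    rw [pow_two]
    exact_mod_cast h3
  linarith

end Cfsg.Agent.S3549
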