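import Cfsg.Statements.S3554
import Mathlib

set_option autoImplicit false
open Cfsg

namespace Cfsg.Agent.S3554

theorem mem_zpowers_of_orderOf_eq {C : Type*} [Group C] [Finite C] [IsCyclic C] {x y : C}
    (h : orderOf x = orderOf y) : y ∈ Subgroup.zpowers x := by
  classical
  haveI := Fintype.ofFinite C
  have hsub : (Finset.univ.filter fun a : C => a ∈ Subgroup.zpowers x) ⊆
      Finset.univ.filter fun a : C => a ^ orderOf x = 1 := fun a ha => by
    simp only [Finset.mem_filter, Finset.mem_univ, true_and] at ha ⊢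
    obtain ⟨i, rfl⟩ := mem_powers_iff_mem_zpowers.mpr ha
    simp only
    rw [← pow_mul, mul_comm, pow_mul, pow_orderOf_eq_one, one_pow]
  have he := Finset.eq_of_subset_of_card_le hsub (by
    refine (IsCyclic.card_pow_eq_one_le (orderOf_pos x)).trans (le_of_eq ?_)
    rw [← Nat.card_zpowers, Nat.card_eq_fintype_card, ← Fintype.card_subtype]
    )
  have : y ∈ Finset.univ.filter fun a : C => a ^ orderOf x = 1 := by simp [h, pow_orderOf_eq_one]
  rw [← he] at this
  simpa using this

/-- Let G act faithfully and transitively on a finite set and suppose G has a non-trivial cyclic normal subgroup. Then some element of G of prime order fixes no point. -/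
theorem result {G Ω : Type*} [Group G] [Finite G] [MulAction G Ω] [FaithfulSMul G Ω] [Finite Ω]
    (htrans : MulAction.IsPretransitive G Ω) (C : Subgroup G) (hC : C.Normal) (hC1 : C ≠ ⊥) (hcyc : IsCyclic ↥C) :
    ∃ g : G, (orderOf g).Prime ∧ ∀ ω : Ω, g • ω ≠ ω := by
  classical
  haveI := hC
  haveI : Nontrivial C := (Subgroup.nontrivial_iff_ne_bot C).mpr hC1
  set q := (Nat.card C).minFac
  haveI : Fact q.Prime := ⟨Nat.minFac_prime (by have := Finite.one_lt_card (α := C); omega)⟩
  obtain ⟨c, hc⟩ := exists_prime_orderOf_dvd_card' (G := C) q (Nat.minFac_dvd _)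
  refine ⟨c, by rw [Subgroup.orderOf_coe, hc]; exact Fact.out, fun ω hω => ?_⟩
  have hall : ∀ ω' : Ω, (c : G) • ω' = ω' := fun ω' => by
    obtain ⟨g, rfl⟩ := MulAction.exists_smul_eq G ω ω'
    have hmem : g⁻¹ * c * g ∈ C := by simpa using hC.conj_mem _ c.2 g⁻¹
    set d : C := ⟨g⁻¹ * c * g, hmem⟩
    have hd : orderOf d = q := by
      rw [← hc, ← Subgroup.orderOf_coe d, ← Subgroup.orderOf_coe c]
      have := orderOf_injective (MulAut.conj g⁻¹).toMonoidHom (MulEquiv.injective _) (c : G)
      simp only [MulEquiv.toMonoidHom_eq_coe, MonoidHom.coe_coe, MulAut.conj_apply, inv_inv] at this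
      exact this
    obtain ⟨i, hi⟩ : d ∈ Subgroup.zpowers c := mem_zpowers_of_orderOf_eq (hc.trans hd.symm)
    have hi' : (c:G) ^ i = g⁻¹ * c * g := by simpa [d] using congrArg Subtype.val hi
    have h2 : (g⁻¹ * (c:G) * g) • ω = ω := by
      rw [← hi']; exact (MulAction.stabilizer G ω).zpow_mem hω i
    calc (c:G) • g • ω = g • (g⁻¹ * (c:G) * g) • ω := by simp [mul_smul]
      _ = g • ω := by rw [h2]
  have h1 : (c : G) = 1 := FaithfulSMul.eq_of_smul_eq_smul (α := Ω) fun ω' => by rw [hall ω', one_smul]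
  rw [show c = 1 from Subtype.ext h1, orderOf_one] at hc
  exact Nat.Prime.ne_one Fact.out hc.symm

end Cfsg.Agent.S3554
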