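import Cfsg.Statements.S3555
-- import your own Cfsg.Agent.* helpers here

set_option autoImplicit false
open Cfsg

namespace Cfsg.Agent.S3555

open scoped Pointwise

section

variable {G Ω : Type*} [Group G] [MulAction G Ω]

/-- the number of fixed points, as an integer -/
noncomputable def fixNum [Fintype Ω] (g : G) : ℤ := by
  classical exact ((Finset.univ.filter fun a : Ω => g • a = a).card : ℤ)

theorem fixNum_eq [Fintype Ω] [DecidableEq Ω] (g : G) :
    fixNum (Ω := Ω) g = ∑ a : Ω, (if g • a = a then (1 : ℤ) else 0) := by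
  unfold fixNum
  rw [Finset.sum_boole]
  norm_cast
  congr 1
  ext; simp

theorem sum_fix_eq [Fintype G] [Fintype Ω] [DecidableEq Ω] [MulAction.IsPretransitive G Ω]
    (w : Ω) : ∑ g : G, fixNum (Ω := Ω) g = Fintype.card G := by
  classical
  simp only [fixNum_eq]
  rw [Finset.sum_comm]
  have hfib : ∀ a : Ω, (∑ g : G, (if g • a = a then (1 : ℤ) else 0)) =
      ∑ g : G, (if g • w = w then (1 : ℤ) else 0) := by
    intro a
    obtain ⟨k, hk⟩ := MulAction.exists_smul_eq G w a
    refine Fintype.sum_equiv (MulAut.conj k⁻¹).toEquiv _ _ (fun g => ?_)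
    have : (MulAut.conj k⁻¹).toEquiv g • w = w ↔ g • a = a := by
      show (k⁻¹ * g * k⁻¹⁻¹) • w = w ↔ g • a = a
      rw [inv_inv, mul_smul, mul_smul, hk, inv_smul_eq_iff, hk]
    simp only [this]
  have horb : ∀ a : Ω, (∑ g : G, (if g • w = a then (1 : ℤ) else 0)) =
      ∑ g : G, (if g • w = w then (1 : ℤ) else 0) := by
    intro a
    obtain ⟨k, hk⟩ := MulAction.exists_smul_eq G w a
    refine Fintype.sum_equiv (Equiv.mulLeft k⁻¹) _ _ (fun g => ?_)
    have : Equiv.mulLeft k⁻¹ g • w = w ↔ g • w = a := by
      show (k⁻¹ * g) • w = w ↔ g • w = a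
      rw [mul_smul, inv_smul_eq_iff, hk]
    simp only [this]
  rw [Finset.sum_congr rfl (fun a _ => hfib a), ← Finset.sum_congr rfl (fun a _ => horb a),
    Finset.sum_comm]
  simp

theorem sum_sq_le [Fintype G] [Fintype Ω] :
    ∑ g : G, fixNum (Ω := Ω) (g * g) ≤ ∑ g : G, fixNum (Ω := Ω) g ^ 2 := by
  classical
  have h1 : ∀ g : G, fixNum (Ω := Ω) (g * g) =
      ∑ a : Ω, ∑ b : Ω, (if g • a = b ∧ g • b = a then (1 : ℤ) else 0) := by
    intro g
    rw [fixNum_eq]
    refine Finset.sum_congr rfl (fun a _ => ?_)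
    rw [Finset.sum_eq_single (g • a)]
    · simp [mul_smul]
    · intro b _ hb
      rw [if_neg]
      exact fun h => hb h.1.symm
    · simp
  have h2 : ∀ g : G, fixNum (Ω := Ω) g ^ 2 =
      ∑ a : Ω, ∑ b : Ω, (if g • a = a ∧ g • b = b then (1 : ℤ) else 0) := by
    intro g
    rw [fixNum_eq, sq, Finset.sum_mul_sum]
    refine Finset.sum_congr rfl (fun a _ => Finset.sum_congr rfl (fun b _ => ?_))
    by_cases p : g • a = a <;> by_cases q : g • b = b <;> simp [p, q]
  simp only [h1, h2]
  rw [Finset.sum_comm]
  conv_rhs => rw [Finset.sum_comm]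
  refine Finset.sum_le_sum (fun a _ => ?_)
  rw [Finset.sum_comm]
  conv_rhs => rw [Finset.sum_comm]
  refine Finset.sum_le_sum (fun b _ => ?_)
  rw [Finset.sum_boole, Finset.sum_boole]
  norm_cast
  by_cases hne : (Finset.univ.filter fun g : G => g • a = b ∧ g • b = a).Nonempty
  · obtain ⟨k, hk⟩ := hne
    rw [Finset.mem_filter] at hk
    refine Finset.card_le_card_of_injOn (fun g => k⁻¹ * g) ?_ ?_
    · intro g hg
      simp only [Finset.coe_filter, Set.mem_setOf_eq, Finset.mem_univ, true_and] at hg ⊢
      constructor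
      · rw [mul_smul, hg.1, inv_smul_eq_iff, hk.2.1]
      · rw [mul_smul, hg.2, inv_smul_eq_iff, hk.2.2]
    · intro x _ y _ h
      exact mul_left_cancel h
  · rw [Finset.not_nonempty_iff_eq_empty.1 hne]
    simp

/-- If every derangement is an involution, a non-identity element fixes at most one point. -/
theorem fix_le_one [Fintype G] [Fintype Ω] [MulAction.IsPretransitive G Ω] [FaithfulSMul G Ω]
    (w : Ω) (hinv : ∀ g : G, (∀ a : Ω, g • a ≠ a) → g * g = 1) :
    ∀ g : G, g ≠ 1 → ∀ a b : Ω, g • a = a → g • b = b → a = b := by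
  classical
  set n : ℤ := (Fintype.card Ω : ℤ) with hn
  have hle : ∀ g : G, fixNum (Ω := Ω) g ≤ n := by
    intro g
    unfold fixNum
    rw [hn]
    exact_mod_cast Finset.card_le_univ _
  have hnn : ∀ g : G, 0 ≤ fixNum (Ω := Ω) g := by
    intro g; unfold fixNum; exact Int.natCast_nonneg _
  have hzero : ∀ g : G, fixNum (Ω := Ω) g = 0 ↔ ∀ a : Ω, g • a ≠ a := by
    intro g
    unfold fixNum
    simp [Finset.card_eq_zero, Finset.filter_eq_empty_iff]
  have key : ∀ g : G, (if fixNum (Ω := Ω) g = 0 then n else fixNum (Ω := Ω) g) ≤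
      fixNum (Ω := Ω) (g * g) := by
    intro g
    split_ifs with h
    · have h2 := hinv g ((hzero g).1 h)
      rw [h2, hn]
      unfold fixNum
      simp
    · unfold fixNum
      norm_cast
      apply Finset.card_le_card
      intro a ha
      simp only [Finset.mem_filter, Finset.mem_univ, true_and] at ha ⊢
      rw [mul_smul, ha, ha]
  let T : G → ℤ := fun g =>
    if fixNum (Ω := Ω) g = 0 then 0 else (fixNum (Ω := Ω) g - 1) * (fixNum (Ω := Ω) g - n)
  have hT : ∀ g : G, T g = (fixNum (Ω := Ω) g ^ 2 - (if fixNum (Ω := Ω) g = 0 then n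
      else fixNum (Ω := Ω) g)) + n * (1 - fixNum (Ω := Ω) g) := by
    intro g
    show (if _ then _ else _) = _
    split_ifs with h
    · rw [h]; ring
    · ring
  have hTnp : ∀ g : G, T g ≤ 0 := by
    intro g
    show (if _ then _ else _) ≤ _
    split_ifs with h
    · exact le_rfl
    · apply mul_nonpos_of_nonneg_of_nonpos
      · have := hnn g; omega
      · have := hle g; omega
  have hsum : 0 ≤ ∑ g : G, T g := by
    simp only [hT]
    rw [Finset.sum_add_distrib, ← Finset.mul_sum, Finset.sum_sub_distrib, Finset.sum_sub_distrib,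
      sum_fix_eq w, Finset.sum_const, Finset.card_univ, nsmul_one]
    have h1 := sum_sq_le (G := G) (Ω := Ω)
    have h2 := Finset.sum_le_sum (s := (Finset.univ : Finset G)) (fun g _ => key g)
    linarith
  have hall : ∀ g : G, T g = 0 := by
    intro g
    have := (Finset.sum_eq_zero_iff_of_nonpos (s := Finset.univ) (fun x _ => hTnp x)).1
      (le_antisymm (Finset.sum_nonpos fun x _ => hTnp x) hsum) g (Finset.mem_univ g)
    exact this
  intro g hg a b ha hb
  have hne : fixNum (Ω := Ω) g ≠ 0 := fun h => (hzero g).1 h a ha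
  have h0 := hall g
  have h0' : (fixNum (Ω := Ω) g - 1) * (fixNum (Ω := Ω) g - n) = 0 := by
    simpa [T, hne] using h0
  rcases mul_eq_zero.1 h0' with h1 | h1
  · have h1' : fixNum (Ω := Ω) g = 1 := by omega
    unfold fixNum at h1'
    have : (Finset.univ.filter fun x : Ω => g • x = x).card = 1 := by exact_mod_cast h1'
    exact Finset.card_le_one.1 this.le a (by simp [ha]) b (by simp [hb])
  · exfalso
    have h1' : fixNum (Ω := Ω) g = n := by omega
    unfold fixNum at h1'
    rw [hn] at h1'
    have h2 : (Finset.univ.filter fun x : Ω => g • x = x).card = (Finset.univ : Finset Ω).card := by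
      rw [Finset.card_univ]; exact_mod_cast h1'
    apply hg
    apply FaithfulSMul.eq_of_smul_eq_smul (α := Ω)
    intro x
    rw [one_smul]
    exact (Finset.card_filter_eq_iff.1 h2) x (Finset.mem_univ x)

end

/-- Let G act faithfully and transitively on a finite set and suppose every element of G fixing no point is an involution. Then either G is an elementary abelian 2-group, or G is a Frobenius group whose Frobenius kernel is an elementary abelian 2-group: G has a Frobenius complement H, and the elements lying in no conjugate of H, together with the identity, pairwise commute and square to the identity. -/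
theorem result {G Ω : Type*} [Group G] [Finite G] [MulAction G Ω] [FaithfulSMul G Ω] [Finite Ω]
    (htrans : MulAction.IsPretransitive G Ω) (hinv : ∀ g : G, (∀ ω : Ω, g • ω ≠ ω) → orderOf g = 2) :
    (IsMulCommutative G ∧ ∀ g : G, g ^ 2 = 1) ∨
    (∃ H : Subgroup G, Cfsg.IsFrobeniusComplement H ∧
      (∀ x ∈ Cfsg.frobeniusKernel H, x ^ 2 = 1) ∧
      ∀ x ∈ Cfsg.frobeniusKernel H, ∀ y ∈ Cfsg.frobeniusKernel H, x * y = y * x) := by
  classical
  letI := Fintype.ofFinite G
  letI := Fintype.ofFinite Ω
  haveI := htrans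
  obtain ⟨w, -⟩ : ∃ w : Ω, (1 : G) • w = w := by
    by_contra h
    push Not at h
    have := hinv 1 h
    simp at this
  have hsq : ∀ g : G, (∀ a : Ω, g • a ≠ a) → g * g = 1 := by
    intro g hg
    rw [← pow_two, ← hinv g hg, pow_orderOf_eq_one]
  have hfix := fix_le_one w hsq
  set H := MulAction.stabilizer G w with hH
  by_cases hb : H = ⊥
  · left
    have hall : ∀ g : G, g * g = 1 := by
      intro g
      by_cases hg : g = 1
      · simp [hg]
      apply hsq
      intro a ha
      obtain ⟨k, hk⟩ := MulAction.exists_smul_eq G w a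
      have : k⁻¹ * g * k ∈ H := by
        rw [hH, MulAction.mem_stabilizer_iff, mul_smul, mul_smul, hk, ha, inv_smul_eq_iff, hk]
      rw [hb, Subgroup.mem_bot] at this
      exact hg (by
        have h2 := congrArg (fun x => k * x * k⁻¹) this
        simpa [mul_assoc] using h2)
    refine ⟨⟨⟨fun x y => ?_⟩⟩, fun g => by rw [pow_two]; exact hall g⟩
    have hi : ∀ g : G, g⁻¹ = g := fun g => inv_eq_of_mul_eq_one_right (hall g)
    calc x * y = (x * y)⁻¹ := (hi _).symm
      _ = y * x := by rw [mul_inv_rev, hi, hi]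
  · right
    have hmem : ∀ x g : G, x ∈ MulAut.conj g • H ↔ x • (g • w) = g • w := by
      intro x g
      rw [Subgroup.mem_pointwise_smul_iff_inv_smul_mem, hH, MulAction.mem_stabilizer_iff]
      rw [← map_inv, MulAut.smul_def, MulAut.conj_apply, inv_inv, mul_smul, mul_smul,
        inv_smul_eq_iff]
    have hker : ∀ x ∈ Cfsg.frobeniusKernel H, x ≠ 1 → ∀ a : Ω, x • a ≠ a := by
      intro x hx hx1 a ha
      obtain ⟨k, hk⟩ := MulAction.exists_smul_eq G w a
      exact (hx.resolve_left hx1) k ((hmem x k).2 (by rw [hk]; exact ha))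
    refine ⟨H, ⟨hb, ?_, ?_⟩, ?_, ?_⟩
    · intro htop
      apply hb
      rw [eq_bot_iff]
      intro g _
      rw [Subgroup.mem_bot]
      apply FaithfulSMul.eq_of_smul_eq_smul (α := Ω)
      intro a
      obtain ⟨k, hk⟩ := MulAction.exists_smul_eq G w a
      have h1 : k ∈ H := by rw [htop]; trivial
      have h2 : g ∈ H := by rw [htop]; trivial
      rw [hH, MulAction.mem_stabilizer_iff] at h1 h2
      rw [one_smul, ← hk, h1, h2]
    · intro g hg
      rw [eq_bot_iff]
      intro x hx
      rw [Subgroup.mem_bot]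
      by_contra hx1
      obtain ⟨h1, h2⟩ := Subgroup.mem_inf.1 hx
      have := hfix x hx1 w (g • w) (MulAction.mem_stabilizer_iff.1 h1) ((hmem x g).1 h2)
      exact hg (MulAction.mem_stabilizer_iff.2 this.symm)
    · intro x hx
      by_cases hx1 : x = 1
      · simp [hx1]
      rw [pow_two]
      exact hsq x (hker x hx hx1)
    · intro x hx y hy
      by_cases hx1 : x = 1
      · simp [hx1]
      by_cases hy1 : y = 1
      · simp [hy1]
      have hdx := hker x hx hx1
      have hxx := hsq x hdx
      have hyy := hsq y (hker y hy hy1)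
      have hix : x⁻¹ = x := inv_eq_of_mul_eq_one_right hxx
      have hiy : y⁻¹ = y := inv_eq_of_mul_eq_one_right hyy
      by_cases hfx : ∃ a : Ω, (x * y) • a = a
      · obtain ⟨a, ha⟩ := hfx
        by_cases h1 : x * y = 1
        · rw [h1]
          rw [mul_eq_one_iff_eq_inv.1 h1, hiy, hyy]
        exfalso
        have h2 : (x * y)⁻¹ • a = a := inv_smul_eq_iff.2 ha.symm
        rw [mul_inv_rev, hix, hiy, mul_smul] at h2
        have h3 : (x * y) • (x • a) = x • a := by
          rw [mul_smul, h2]
        exact hdx a (hfix (x * y) h1 (x • a) a h3 ha)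
      · push Not at hfx
        have h2 := hsq (x * y) hfx
        have : (x * y)⁻¹ = x * y := inv_eq_of_mul_eq_one_right h2
        rw [mul_inv_rev, hix, hiy] at this
        exact this.symm

end Cfsg.Agent.S3555
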