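import Cfsg.Statements.S3556
import Mathlib
import Cfsg.Agent.Lib.Perm.SocleApps

set_option autoImplicit false
open Cfsg

namespace Cfsg.Agent.S3556

open CfsgLib.Socle in
theorem pgroup_false {G : Type*} [Group G] [Finite G] {N : Subgroup G} (D : Data N) {T : Subgroup G} (hT : T ∈ D.s)
    (p : ℕ) (hp : p.Prime) (h : ∀ x ∈ T, ∃ k : ℕ, x ^ p ^ k = 1) : False := by
  have := Fact.mk hp
  have hP : IsPGroup p T := fun x => by
    obtain ⟨k, hk⟩ := h x x.2
    exact ⟨k, Subtype.ext (by simpa using hk)⟩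
  have : Nontrivial T := (D.simple T hT).toNontrivial
  obtain ⟨z, hz⟩ := @exists_ne _ hP.center_nontrivial (1 : Subgroup.center T)
  refine hz (Subtype.ext (Subtype.ext ?_))
  exact D.center T hT _ z.1.2 fun y hy => (congrArg Subtype.val (Subgroup.mem_center_iff.mp z.2 ⟨y, hy⟩)).symm

/-- Let G act faithfully and primitively on a finite set with at least two points, and suppose that for some fixed prime p every element of G fixing no point has order a power of p. Then G is of affine type (it has a regular normal subgroup that is an elementary abelian r-group for some prime r) or almost simple (it has a non-abelian simple normal subgroup with trivial centralizer). -/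
theorem result {G Ω : Type*} [Group G] [Finite G] [MulAction G Ω] [FaithfulSMul G Ω] [Finite Ω]
    (hprim : MulAction.IsPreprimitive G Ω) (hΩ : 2 ≤ Nat.card Ω) (p : ℕ) (hp : p.Prime)
    (hder : ∀ g : G, (∀ ω : Ω, g • ω ≠ ω) → ∃ k : ℕ, orderOf g = p ^ k) :
    (∃ (N : Subgroup G) (r : ℕ), r.Prime ∧ N.Normal ∧ Cfsg.IsElementaryAbelian r N ∧
      MulAction.IsPretransitive N Ω ∧ ∀ a : Ω, MulAction.stabilizer N a = ⊥) ∨
    (∃ T : Subgroup G, T.Normal ∧ IsSimpleGroup ↥T ∧ ¬ IsMulCommutative ↥T ∧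
      Subgroup.centralizer (T : Set G) = ⊥) := by
  classical
  obtain ⟨N, hNn, hN0, hmin, htr⟩ := CfsgLib.Socle.exists_minimal hprim hΩ
  by_cases hab : IsMulCommutative N
  · obtain ⟨hsr, r, hr, hpow⟩ := CfsgLib.Socle.abelian_regular hN0 hmin hab htr
    refine Or.inl ⟨N, r, hr, hNn, ⟨hab, hpow⟩, ⟨fun x y => ?_⟩, fun a => ?_⟩
    · obtain ⟨m, hm, e⟩ := htr x y
      exact ⟨⟨m, hm⟩, e⟩
    · exact (Subgroup.eq_bot_iff_forall _).mpr fun n hn => Subtype.ext (hsr n n.2 a hn)
  obtain ⟨D⟩ := CfsgLib.Socle.exists_data N hN0 hmin hab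
  obtain ⟨a⟩ : Nonempty Ω := (Nat.card_pos_iff.mp (by omega)).1
  rcases CfsgLib.Socle.cases_nonabelian hprim hΩ hN0 D a with h | h | ⟨hk, -, ht⟩
  · exact Or.inr h
  · exfalso
    obtain ⟨T, hT⟩ := D.nonempty
    refine pgroup_false D hT p hp fun x hx => ?_
    by_cases hx1 : x = 1
    · exact ⟨0, by simp [hx1]⟩
    obtain ⟨k, hk⟩ := hder x fun ω e => hx1 (h T hT x hx ω e)
    exact ⟨k, hk ▸ pow_orderOf_eq_one x⟩
  · exfalso
    obtain ⟨A, hA, B, hB, hAB⟩ := Finset.one_lt_card.mp hk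
    obtain ⟨t, htA, htd⟩ := ht A hA
    refine pgroup_false D hB p hp fun y hy => ?_
    have htN := D.le A hA htA
    have hyN := D.le B hB hy
    obtain ⟨k, hk⟩ := hder (t * y) (htd _ (N.mul_mem htN hyN) (by
      rw [D.proj_mul hA htN hyN, D.proj_of_mem hA htA, D.proj_of_other hA hB (Ne.symm hAB) hy, mul_one]))
    refine ⟨k, ?_⟩
    have hc : Commute t y := D.comm A hA B hB hAB t htA y hy
    have h1 : t ^ p ^ k * y ^ p ^ k = 1 := by rw [← hc.mul_pow, ← hk, pow_orderOf_eq_one]
    refine D.eq_one_of_mem_two hA hB hAB ?_ (B.pow_mem hy _)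
    rw [eq_inv_of_mul_eq_one_right h1]
    exact A.inv_mem (A.pow_mem htA _)

end Cfsg.Agent.S3556
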