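import Cfsg.Statements.S3557
import Mathlib
import Mathlib
import Cfsg.Agent.Lib.Elementary

set_option autoImplicit false
open Cfsg

namespace Cfsg.Agent.S3557

open MulAction


/-- Let G act faithfully and transitively on a finite set with 2p² points, p a prime, and suppose G is 2-closed: every permutation of the set which, on each ordered pair of points, agrees with some element of G, is itself induced by an element of G. Then some element of G of prime order fixes no point. -/
theorem result {G Ω : Type*} [Group G] [Finite G] [MulAction G Ω] [FaithfulSMul G Ω] [Finite Ω]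
    (htrans : MulAction.IsPretransitive G Ω) (p : ℕ) (hp : p.Prime) (hcard : Nat.card Ω = 2 * p ^ 2)
    (hcl : ∀ σ : Equiv.Perm Ω, (∀ a b : Ω, ∃ g : G, σ a = g • a ∧ σ b = g • b) → ∃ g : G, ∀ a : Ω, σ a = g • a) :
    ∃ g : G, (orderOf g).Prime ∧ ∀ ω : Ω, g • ω ≠ ω := by
  classical
  haveI := Fact.mk hp
  obtain ⟨P⟩ : Nonempty (Sylow p G) := inferInstance
  obtain ⟨e, he⟩ := P.2.exists_card_eq
  have hne : Nonempty Ω := (Nat.card_pos_iff.mp (by rw [hcard]; exact Nat.mul_pos (by norm_num) (pow_pos hp.pos 2))).1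
  -- orbits of the Sylow subgroup
  have horb : ∀ a : Ω, p ^ 2 ≤ Nat.card (orbit (P : Subgroup G) a) := by
    intro a
    obtain ⟨f, hf⟩ := (P.2.to_subgroup (stabilizer (P : Subgroup G) a)).exists_card_eq
    have h1 : p ^ f ∣ Nat.card (stabilizer G a) := by
      rw [← hf]
      refine Subgroup.card_dvd_of_injective
        (((P : Subgroup G).subtype.comp (stabilizer (P : Subgroup G) a).subtype).codRestrict (stabilizer G a)
          fun x => x.2) ?_
      intro x y hxy
      exact Subtype.ext (Subtype.ext (congrArg (fun w : stabilizer G a => (w : G)) hxy))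
    have h2 := (stabilizer G a).index_mul_card
    rw [index_stabilizer_of_transitive, hcard] at h2
    have h3 : p ^ (f + 2) ∣ Nat.card G := by
      obtain ⟨c, hc⟩ := h1
      exact ⟨2 * c, by rw [← h2, hc]; ring⟩
    have h4 := P.pow_dvd_card_of_pow_dvd_card h3
    have h5 := (stabilizer (P : Subgroup G) a).index_mul_card
    rw [index_stabilizer, hf, ← Nat.card_coe_set_eq] at h5
    rw [← h5, pow_add, mul_comm (p ^ f)] at h4
    haveI : Nonempty (orbit (P : Subgroup G) a) := ⟨⟨a, mem_orbit_self a⟩⟩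
    exact Nat.le_of_dvd Nat.card_pos (Nat.dvd_of_mul_dvd_mul_right (pow_pos hp.pos f) h4)
  have hPne : Nontrivial (P : Subgroup G) := by
    obtain ⟨a⟩ := hne
    rw [← not_subsingleton_iff_nontrivial]
    intro h
    have h1 : Nat.card (orbit (P : Subgroup G) a) ≤ 1 :=
      (Nat.card_le_card_of_surjective (fun g : (P : Subgroup G) => (⟨g • a, mem_orbit a g⟩ : orbit (P : Subgroup G) a))
        (by rintro ⟨_, g, rfl⟩; exact ⟨g, rfl⟩)).trans (Finite.card_le_one_iff_subsingleton.mpr h)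
    have := horb a
    have := Nat.pow_le_pow_left hp.two_le 2
    omega
  haveI := P.2.center_nontrivial
  obtain ⟨z, hz⟩ : ∃ z : Subgroup.center (P : Subgroup G), orderOf z = p := by
    refine exists_prime_orderOf_dvd_card' p ?_
    exact ((P.2.to_subgroup (Subgroup.center (P : Subgroup G))).card_eq_or_dvd).resolve_left
      (Finite.one_lt_card).ne'
  have hzc : ∀ x : (P : Subgroup G), x * z.1 = z.1 * x := fun x => Subgroup.mem_center_iff.mp z.2 x
  have hzo : orderOf ((z.1 : (P : Subgroup G)) : G) = p := by rw [Subgroup.orderOf_coe, Subgroup.orderOf_coe, hz]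
  by_cases hfpf : ∀ ω : Ω, ((z.1 : (P : Subgroup G)) : G) • ω ≠ ω
  · exact ⟨_, by rw [hzo]; exact hp, hfpf⟩
  push Not at hfpf
  obtain ⟨c, hc⟩ := hfpf
  obtain ⟨B, hB⟩ : ∃ B, orbit (P : Subgroup G) c = B := ⟨_, rfl⟩
  have hzB : ∀ b ∈ B, z.1 • b = b := by
    rw [← hB]
    rintro _ ⟨x, rfl⟩
    show z.1 • x • c = x • c
    rw [← mul_smul, ← hzc, mul_smul, show z.1 • c = c from hc]
  have hBinv : ∀ (x : (P : Subgroup G)), ∀ b ∈ B, x • b ∈ B := by
    rw [← hB]
    rintro x _ ⟨y, rfl⟩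
    exact ⟨x * y, mul_smul x y c⟩
  obtain ⟨a0, ha0, hz0⟩ : ∃ a0, a0 ∉ B ∧ z.1 • a0 ≠ a0 := by
    by_contra hno
    push Not at hno
    have h1 : ((z.1 : (P : Subgroup G)) : G) = 1 := eq_of_smul_eq_smul (α := Ω) fun ω => by
      rw [one_smul]
      by_cases h : ω ∈ B
      · exact hzB ω h
      · exact hno ω h
    rw [h1, orderOf_one] at hzo
    exact hp.ne_one hzo.symm
  -- two orbits of size `p²`
  have hdisj : Disjoint (orbit (P : Subgroup G) a0) B := by
    rw [Set.disjoint_left, ← hB]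
    intro x hx hx'
    rw [← orbit_eq_iff] at hx hx'
    refine ha0 ?_
    rw [← hB, ← hx', hx]
    exact mem_orbit_self a0
  have hsize : (orbit (P : Subgroup G) a0).ncard = p ^ 2 ∧ B.ncard = p ^ 2 ∧
      ∀ ω, ω ∈ orbit (P : Subgroup G) a0 ∨ ω ∈ B := by
    have hu := Set.ncard_le_ncard (Set.subset_univ (orbit (P : Subgroup G) a0 ∪ B))
    rw [Set.ncard_univ, hcard, Set.ncard_union_eq hdisj] at hu
    have h1 := horb a0
    have h2 := horb c
    rw [Nat.card_coe_set_eq] at h1 h2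
    rw [hB] at h2
    refine ⟨by omega, by omega, fun ω => ?_⟩
    have he : orbit (P : Subgroup G) a0 ∪ B = Set.univ := by
      refine Set.eq_of_subset_of_ncard_le (Set.subset_univ _) ?_
      rw [Set.ncard_univ, Set.ncard_union_eq hdisj, hcard]
      omega
    exact Set.mem_union _ _ _ |>.mp (he ▸ Set.mem_univ ω)
  obtain ⟨hA, hBc, hall⟩ := hsize
  -- the kernel on `B`
  obtain ⟨K, hK⟩ : ∃ K : Subgroup (P : Subgroup G), ∀ x, x ∈ K ↔ ∀ b ∈ B, x • b = b :=
    ⟨fixingSubgroup (P : Subgroup G) B, fun x => mem_fixingSubgroup_iff _⟩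
  haveI hKn : K.Normal := ⟨fun x hx g => (hK _).mpr fun b hb => by
    rw [mul_smul, mul_smul, (hK x).mp hx _ (hBinv g⁻¹ b hb), smul_inv_smul]⟩
  have hzK : z.1 ∈ K := (hK _).mpr hzB
  obtain ⟨P0, hP0⟩ : ∃ P0 : Subgroup (P : Subgroup G), K ⊔ stabilizer (P : Subgroup G) a0 = P0 := ⟨_, rfl⟩
  have hmem0 : ∀ h ∈ P0, ∃ k ∈ K, ∃ s ∈ stabilizer (P : Subgroup G) a0, k * s = h := by
    intro h hh
    rw [← hP0, ← SetLike.mem_coe, Subgroup.normal_mul] at hh
    simpa [Set.mem_mul] using hh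
  have hne0 : P0 ≠ K := by
    intro h
    have hs : stabilizer (P : Subgroup G) a0 ≤ K := h ▸ hP0 ▸ le_sup_right
    have hKc : K ≤ stabilizer (P : Subgroup G) c := fun x hx =>
      (hK x).mp hx c (hB ▸ mem_orbit_self c)
    have e1 := (stabilizer (P : Subgroup G) a0).index_mul_card
    have e2 := (stabilizer (P : Subgroup G) c).index_mul_card
    rw [index_stabilizer, hA] at e1
    rw [index_stabilizer, hB, hBc, ← e1] at e2
    have e3 := Nat.eq_of_mul_eq_mul_left (pow_pos hp.pos 2) e2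
    have e4 := Subgroup.eq_of_le_of_card_ge (hs.trans hKc) e3.le
    exact hz0 ((e4 ▸ hKc hzK : z.1 ∈ stabilizer (P : Subgroup G) a0))
  have hP0n : P0.Normal := by
    obtain ⟨d, hd⟩ := P.2.index P0
    have hd1 : d ≤ 1 := by
      by_contra hd2
      have hsub : stabilizer (P : Subgroup G) a0 ≤ P0 := hP0 ▸ le_sup_right
      have hlt : stabilizer (P : Subgroup G) a0 < P0 := lt_of_le_of_ne hsub fun e =>
        hz0 (e ▸ hP0 ▸ Subgroup.mem_sup_left hzK : z.1 ∈ stabilizer (P : Subgroup G) a0)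
      have h1 := Subgroup.relIndex_mul_index hsub
      rw [index_stabilizer, hA, hd] at h1
      have h2 : (stabilizer (P : Subgroup G) a0).relIndex P0 = 1 := by
        have : p ^ 2 ∣ p ^ d := pow_dvd_pow p (by omega)
        have h3 := Nat.le_of_dvd (pow_pos hp.pos d) this
        have h4 : 0 < (stabilizer (P : Subgroup G) a0).relIndex P0 :=
          Nat.pos_of_ne_zero fun e => by rw [e, zero_mul] at h1; exact (pow_pos hp.pos 2).ne h1
        by_contra hr
        nlinarith [show 2 ≤ (stabilizer (P : Subgroup G) a0).relIndex P0 by omega, pow_pos hp.pos 2]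
      exact hlt.not_ge (Subgroup.relIndex_eq_one.mp h2)
    rcases (show d = 0 ∨ d = 1 by omega) with rfl | rfl
    · exact Subgroup.normal_of_index_eq_one (by simpa using hd)
    · refine Subgroup.normal_of_index_eq_minFac_card ?_
      rw [pow_one] at hd
      rw [hd, he, Nat.Prime.pow_minFac hp]
      intro e0
      rw [e0, pow_zero] at he
      have := Finite.one_lt_card (α := (P : Subgroup G))
      omega
  haveI : Group.IsNilpotent ((P : Subgroup G) ⧸ K) := (P.2.to_quotient K).isNilpotent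
  have hQne : P0.map (QuotientGroup.mk' K) ≠ ⊥ := by
    intro h
    rw [Subgroup.map_eq_bot_iff, QuotientGroup.ker_mk'] at h
    exact hne0 (le_antisymm h (hP0 ▸ le_sup_left))
  haveI := hP0n.map (QuotientGroup.mk' K) (QuotientGroup.mk'_surjective K)
  haveI : Nontrivial ↥(P0.map (QuotientGroup.mk' K) ⊓ Subgroup.center ((P : Subgroup G) ⧸ K)) :=
    (Subgroup.nontrivial_iff_ne_bot _).mpr (CfsgLib.inf_center_ne_bot_of_nilpotent hQne)
  obtain ⟨w, hw⟩ : ∃ w : ↥(P0.map (QuotientGroup.mk' K) ⊓ Subgroup.center ((P : Subgroup G) ⧸ K)), orderOf w = p := by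
    refine exists_prime_orderOf_dvd_card' p ?_
    exact (((P.2.to_quotient K).to_subgroup _).card_eq_or_dvd).resolve_left (Finite.one_lt_card).ne'
  obtain ⟨⟨h, hh0, hhw⟩, hwc⟩ := Subgroup.mem_inf.mp w.2
  have hhc : ∀ x : (P : Subgroup G), (x * h)⁻¹ * (h * x) ∈ K := fun x => by
    rw [← QuotientGroup.eq, QuotientGroup.mk_mul, QuotientGroup.mk_mul]
    have := Subgroup.mem_center_iff.mp hwc (x : (P : Subgroup G) ⧸ K)
    rw [← hhw] at this
    exact this
  have hhp : h ^ p ∈ K := by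
    rw [← QuotientGroup.eq_one_iff, QuotientGroup.mk_pow]
    have := congrArg Subtype.val (orderOf_dvd_iff_pow_eq_one.mp (dvd_of_eq hw) : w ^ p = 1)
    rw [SubgroupClass.coe_pow, ← hhw] at this
    exact this
  have hhK : h ∉ K := fun hk => by
    have : w = 1 := Subtype.ext (by rw [← hhw]; exact (QuotientGroup.eq_one_iff h).mpr hk)
    rw [this, orderOf_one] at hw
    exact hp.ne_one hw.symm
  have hhB : ∀ b ∈ B, h • b ≠ b := by
    intro b hb hfix
    refine hhK ((hK h).mpr fun b' hb' => ?_)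
    rw [← hB] at hb hb'
    rw [← orbit_eq_iff.mpr hb] at hb'
    obtain ⟨x, rfl⟩ := hb'
    show h • x • b = x • b
    have := (hK _).mp (hhc x) b (hB ▸ hb)
    rw [mul_smul, inv_smul_eq_iff, mul_smul, mul_smul, hfix] at this
    exact this
  have hhA : ∀ a ∈ orbit (P : Subgroup G) a0, ∃ k ∈ K, k • h • a = z.1 • a := by
    rintro _ ⟨x, rfl⟩
    obtain ⟨k, hk, s, hs, rfl⟩ := hmem0 h hh0
    have hr := hhc x
    obtain ⟨r, hr', e⟩ : ∃ r ∈ K, k * s * x = x * (k * s) * r := ⟨_, hr, by group⟩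
    -- `h x a₀ ∈ K x a₀`
    have h1 : (k * s) • x • a0 = (x * (k * s) * r * (x * (k * s))⁻¹ * (x * k * x⁻¹)) • x • a0 := by
      rw [← mul_smul, e, ← mul_smul]
      have : x * (k * s) * r * (x * (k * s))⁻¹ * (x * k * x⁻¹) * x = x * (k * s) * r * s⁻¹ := by group
      rw [this, mul_smul _ s⁻¹, show s⁻¹ • a0 = a0 from inv_mem hs]
    refine ⟨z.1 * (x * (k * s) * r * (x * (k * s))⁻¹ * (x * k * x⁻¹))⁻¹, mul_mem hzK (inv_mem ?_), ?_⟩
    · exact mul_mem (hKn.conj_mem r hr' _) (hKn.conj_mem k hk x)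
    · show (z.1 * _) • (k * s) • x • a0 = z.1 • x • a0
      rw [h1, mul_smul, inv_smul_smul]
  -- the new permutation
  have hAinv : ∀ (x : (P : Subgroup G)) a, a ∉ B → x • a ∉ B := fun x a ha h' =>
    ha (by simpa using hBinv x⁻¹ _ h')
  obtain ⟨σ, hσ⟩ : ∃ σ : Equiv.Perm Ω, ∀ ω, σ ω = if ω ∈ B then h • ω else z.1 • ω := by
    refine ⟨Equiv.ofBijective (fun ω => if ω ∈ B then h • ω else z.1 • ω) (Finite.injective_iff_bijective.mp ?_), fun ω => rfl⟩
    intro u v huv
    simp only at huv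
    split_ifs at huv with h1 h2 h2
    · exact smul_left_cancel h huv
    · exact absurd (huv ▸ hBinv h u h1) (hAinv _ v h2)
    · exact absurd (huv ▸ hBinv h v h2) (hAinv _ u h1)
    · exact smul_left_cancel _ huv
  have hpair : ∀ a b : Ω, a ∉ B → b ∈ B → ∃ g : G, g • a = σ a ∧ g • b = σ b := by
    intro a b ha hb
    obtain ⟨k, hk, hka⟩ := hhA a ((hall a).resolve_right ha)
    refine ⟨((k * h : (P : Subgroup G)) : G), ?_, ?_⟩
    · show (k * h) • a = σ a
      rw [hσ, if_neg ha, mul_smul, hka]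
    · show (k * h) • b = σ b
      rw [hσ, if_pos hb, mul_smul, (hK k).mp hk _ (hBinv h b hb)]
  obtain ⟨g, hg⟩ := hcl σ fun a b => by
    by_cases ha : a ∈ B <;> by_cases hb : b ∈ B
    · exact ⟨(h : G), by rw [hσ, if_pos ha]; rfl, by rw [hσ, if_pos hb]; rfl⟩
    · obtain ⟨g, h1, h2⟩ := hpair b a hb ha
      exact ⟨g, h2.symm, h1.symm⟩
    · obtain ⟨g, h1, h2⟩ := hpair a b ha hb
      exact ⟨g, h1.symm, h2.symm⟩
    · exact ⟨((z.1 : (P : Subgroup G)) : G), by rw [hσ, if_neg ha]; rfl, by rw [hσ, if_neg hb]; rfl⟩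
  have hpowB : ∀ n : ℕ, ∀ b ∈ B, g ^ n • b = h ^ n • b := by
    intro n
    induction n with
    | zero => intro b _; simp
    | succ n ih =>
      intro b hb
      rw [pow_succ, pow_succ, mul_smul, mul_smul, ← hg, hσ, if_pos hb]
      exact ih _ (hBinv h b hb)
  have hpowA : ∀ n : ℕ, ∀ a, a ∉ B → g ^ n • a = z.1 ^ n • a := by
    intro n
    induction n with
    | zero => intro a _; simp
    | succ n ih =>
      intro a ha
      rw [pow_succ, pow_succ, mul_smul, mul_smul, ← hg, hσ, if_neg ha]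
      exact ih _ (hAinv _ a ha)
  have hgp : g ^ p = 1 := eq_of_smul_eq_smul (α := Ω) fun ω => by
    rw [one_smul]
    by_cases hb : ω ∈ B
    · rw [hpowB p ω hb]; exact (hK _).mp hhp ω hb
    · rw [hpowA p ω hb, show z.1 ^ p = 1 from orderOf_dvd_iff_pow_eq_one.mp (dvd_of_eq (by rw [Subgroup.orderOf_coe, hz])), one_smul]
  have hgfpf : ∀ ω : Ω, g • ω ≠ ω := by
    intro ω
    rw [← hg, hσ]
    split_ifs with hb
    · exact hhB ω hb
    · intro hfix
      obtain ⟨x, rfl⟩ := (hall ω).resolve_right hb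
      refine hz0 ?_
      have h2 : z.1 • x • a0 = x • a0 := hfix
      rw [← mul_smul, ← hzc, mul_smul] at h2
      exact smul_left_cancel x h2
  have hg1 : g ≠ 1 := fun e1 => hgfpf c (by rw [e1, one_smul])
  exact ⟨g, by rw [orderOf_eq_prime hgp hg1]; exact hp, hgfpf⟩

end Cfsg.Agent.S3557
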