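import Cfsg.Statements.S3560
import Mathlib

set_option autoImplicit false
open Cfsg

namespace Cfsg.Agent.S3560

open scoped Pointwise

section
variable {ι : Type*} [Fintype ι] [DecidableEq ι] {m : ℕ} {A : Type*} [DecidableEq A] (c : A ≃ (ι → Fin m))

def hd (a b : A) : ℕ := (Finset.univ.filter fun i => c a i ≠ c b i).card

/-- The automorphism group of the Hamming scheme. -/
def hamAut : Subgroup (Equiv.Perm A) where
  carrier := {σ | ∀ a b, hd c (σ a) (σ b) = hd c a b}
  one_mem' := fun a b => rfl
  mul_mem' := fun hσ hτ a b => (hσ _ _).trans (hτ a b)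
  inv_mem' := fun {σ} hσ a b => by
    have h := hσ (σ⁻¹ a) (σ⁻¹ b)
    simp only [Equiv.Perm.coe_inv, Equiv.apply_symm_apply] at h
    exact h.symm

theorem prim (hι : 2 ≤ Fintype.card ι) (hm : 3 ≤ m)
    [htr : MulAction.IsPretransitive (hamAut c) A] :
    MulAction.IsPreprimitive (hamAut c) A := by
  classical
  -- coordinatewise maps
  have hmk : ∀ (π : Equiv.Perm ι) (τ : ι → Equiv.Perm (Fin m)), ∃ g : hamAut c,
      ∀ a k, c (g • a) k = τ k (c a (π k)) := by
    intro π τ
    let f : Equiv.Perm (ι → Fin m) :=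
      { toFun := fun x k => τ k (x (π k))
        invFun := fun y k => (τ (π.symm k)).symm (y (π.symm k))
        left_inv := fun x => funext fun k => by simp
        right_inv := fun y => funext fun k => by simp }
    refine ⟨⟨c.trans (f.trans c.symm), fun a b => ?_⟩, fun a k => ?_⟩
    · show (Finset.univ.filter fun i => _).card = (Finset.univ.filter fun i => _).card
      refine Finset.card_bij' (fun i _ => π i) (fun i _ => π.symm i) ?_ ?_ ?_ ?_ <;> simp [f]
    · show c (c.symm (f (c a))) k = _
      simp [f]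
  refine ⟨fun {B} hB => ?_⟩
  by_contra hnt
  simp only [MulAction.IsTrivialBlock, not_or] at hnt
  obtain ⟨hns, hne⟩ := hnt
  obtain ⟨a, ha, b, hb, hab⟩ := Set.not_subsingleton_iff.mp hns
  obtain ⟨i, hi⟩ := Function.ne_iff.mp (fun h => hab (c.injective h))
  -- a pair at distance one
  obtain ⟨x, hxa, hxb⟩ : ∃ x : Fin m, x ≠ c a i ∧ x ≠ c b i := by
    by_contra h
    push Not at h
    have h' : (Finset.univ : Finset (Fin m)) ⊆ {c a i, c b i} := fun x _ => by
      by_cases hx : x = c a i
      · simp [hx]
      · simp [h x hx]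
    have := (Finset.card_le_card h').trans Finset.card_le_two
    rw [Finset.card_univ, Fintype.card_fin] at this
    omega
  obtain ⟨g, hg⟩ := hmk 1 (Function.update (fun _ => 1) i (Equiv.swap (c b i) x))
  have hga : g • a = a := c.injective (funext fun k => by
    rw [hg]
    by_cases hk : k = i
    · subst hk
      simp [Equiv.swap_apply_of_ne_of_ne hi (Ne.symm hxa)]
    · simp [hk])
  have hgb : g • b ∈ B := by
    have := hB.smul_eq_of_mem ha (by rw [hga]; exact ha)
    rw [← this]; exact Set.smul_mem_smul_set hb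
  -- every neighbour of a point of `B` having a neighbour in `B` lies in `B`
  have key : ∀ h ∈ B, ∀ h' ∈ B, (∃ i, c h i ≠ c h' i ∧ ∀ k, k ≠ i → c h k = c h' k) →
      ∀ w, (∃ j, c h j ≠ c w j ∧ ∀ k, k ≠ j → c h k = c w k) → w ∈ B := by
    rintro h hh h' hh' ⟨i, hi, hrest⟩ w ⟨j, hj, hrest'⟩
    obtain ⟨e, he1, he2⟩ : ∃ e : Equiv.Perm (Fin m), e (c h i) = c h j ∧ e (c h' i) = c w j := by
      refine ⟨Equiv.swap (Equiv.swap (c h i) (c h j) (c h' i)) (c w j) * Equiv.swap (c h i) (c h j), ?_, ?_⟩
      · simp only [Equiv.Perm.mul_apply, Equiv.swap_apply_left]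
        refine Equiv.swap_apply_of_ne_of_ne ?_ hj
        intro e
        refine hi ((Equiv.swap (c h i) (c h j)).injective ?_)
        rw [Equiv.swap_apply_left]; exact e
      · simp
    let π := Equiv.swap i j
    let τ : ι → Equiv.Perm (Fin m) := fun k => if k = j then e else Equiv.swap (c h (π k)) (c h k)
    obtain ⟨g, hg⟩ := hmk π τ
    have h1 : g • h = h := c.injective (funext fun k => by
      rw [hg]
      by_cases hk : k = j
      · subst hk; simp [τ, π, he1]
      · simp [τ, hk])
    have h2 : g • h' = w := c.injective (funext fun k => by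
      rw [hg]
      by_cases hk : k = j
      · subst hk; simp [τ, π, he2]
      · have hπk : π k ≠ i := fun e => hk (by
          have := congrArg π e
          simpa [π] using this)
        rw [← hrest _ hπk, ← hrest' k hk]
        simp [τ, hk])
    have := hB.smul_eq_of_mem hh (by rw [h1]; exact hh)
    rw [← this, ← h2]; exact Set.smul_mem_smul_set hh'
  refine hne (Set.eq_univ_of_forall fun w => ?_)
  -- walk from `b`
  suffices main : ∀ n, ∀ h ∈ B, (∃ h' ∈ B, ∃ i, c h i ≠ c h' i ∧ ∀ k, k ≠ i → c h k = c h' k) →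
      hd c h w = n → w ∈ B by
    refine main _ b hb ⟨g • b, hgb, i, ?_, fun k hk => ?_⟩ rfl
    · rw [hg]; simp [Ne.symm hxb]
    · rw [hg]; simp [hk]
  intro n
  induction n with
  | zero =>
    intro h hh _ hd0
    have : h = w := c.injective (funext fun k => by
      by_contra hk
      have : k ∈ (Finset.univ.filter fun i => c h i ≠ c w i) := by simp [hk]
      rw [Finset.card_eq_zero.mp hd0] at this
      simp at this)
    exact this ▸ hh
  | succ n ih =>
    rintro h hh ⟨h', hh', hnb⟩ hdn
    obtain ⟨j, hj⟩ : (Finset.univ.filter fun i => c h i ≠ c w i).Nonempty :=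
      Finset.card_pos.mp (by unfold hd at hdn; rw [hdn]; omega)
    rw [Finset.mem_filter] at hj
    set u := c.symm (Function.update (c h) j (c w j)) with hu
    have huh : c h j ≠ c u j ∧ ∀ k, k ≠ j → c h k = c u k := by
      refine ⟨by simpa [hu] using hj.2, fun k hk => by simp [hu, hk]⟩
    have huB := key h hh h' hh' hnb u ⟨j, huh⟩
    refine ih u huB ⟨h, hh, j, huh.1.symm, fun k hk => (huh.2 k hk).symm⟩ ?_
    show (Finset.univ.filter fun i => c u i ≠ c w i).card = n
    have : (Finset.univ.filter fun i => c u i ≠ c w i) = (Finset.univ.filter fun i => c h i ≠ c w i).erase j := by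
      ext k
      by_cases hk : k = j
      · subst hk; simp [hu]
      · simp [hk, ← huh.2 k hk]
    unfold hd at hdn
    rw [this, Finset.card_erase_of_mem (by simpa using hj.2), hdn]
    rfl

end

/-- Let K be a finite group isomorphic to a direct product of r ≥ 2 groups all of the same order m ≥ 3. Then K is not a B-group: there is a primitive but not doubly transitive permutation group (on some finite set) containing a regular subgroup isomorphic to K. -/
theorem result {K : Type*} [Group K] [Finite K] {ι : Type*} [Fintype ι] (F : ι → Type*) [∀ i, Group (F i)]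
    (hr : 2 ≤ Fintype.card ι) (m : ℕ) (hm : 3 ≤ m) (hcard : ∀ i, Nat.card (F i) = m) (e : K ≃* (∀ i, F i)) :
    ∃ (n : ℕ) (G R : Subgroup (Equiv.Perm (Fin n))), R ≤ G ∧ Nonempty (↥R ≃* K) ∧
      MulAction.IsPretransitive ↥R (Fin n) ∧ (∀ a : Fin n, MulAction.stabilizer ↥R a = ⊥) ∧
      MulAction.IsPreprimitive ↥G (Fin n) ∧ ¬ MulAction.IsMultiplyPretransitive ↥G (Fin n) 2 := by
  classical
  have hF : ∀ i, Nonempty (F i ≃ Fin m) := fun i => by
    have : Finite (F i) := Nat.finite_of_card_ne_zero (by rw [hcard]; omega)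
    exact ⟨(Finite.equivFin (F i)).trans (finCongr (hcard i))⟩
  let q := fun i => (hF i).some
  let κ : K ≃ (ι → Fin m) := e.toEquiv.trans (Equiv.piCongrRight q)
  let φ : Fin (Nat.card K) ≃ K := (Finite.equivFin K).symm
  let c : Fin (Nat.card K) ≃ (ι → Fin m) := φ.trans κ
  let L : K →* Equiv.Perm (Fin (Nat.card K)) :=
    { toFun := fun k => φ.trans ((Equiv.mulLeft k).trans φ.symm)
      map_one' := by ext; simp
      map_mul' := fun a b => by ext; simp [mul_assoc] }
  have hL : Function.Injective L := fun a b h => by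
    have := Equiv.Perm.congr_fun h (φ.symm 1)
    simpa [L] using this
  have hLG : L.range ≤ hamAut c := by
    rintro _ ⟨k, rfl⟩ a b
    show (Finset.univ.filter fun i => _).card = (Finset.univ.filter fun i => _).card
    congr 1
    refine Finset.filter_congr fun i _ => not_congr ?_
    simp [c, κ, L, map_mul]
  have hreg : ∀ a b, ∃ r : L.range, r • a = b := fun a b =>
    ⟨⟨L (φ b * (φ a)⁻¹), _, rfl⟩, by show L _ a = b; simp [L]⟩
  have htr : MulAction.IsPretransitive (hamAut c) (Fin (Nat.card K)) := ⟨fun a b => by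
    obtain ⟨r, hr⟩ := hreg a b
    exact ⟨⟨r.1, hLG r.2⟩, hr⟩⟩
  refine ⟨Nat.card K, hamAut c, L.range, hLG, ⟨(MonoidHom.ofInjective hL).symm⟩, ⟨hreg⟩,
    fun a => ?_, prim c hr hm, fun h2 => ?_⟩
  · rw [Subgroup.eq_bot_iff_forall]
    rintro ⟨_, k, rfl⟩ hk
    have h' : L k a = a := hk
    have : k = 1 := by simpa [L, Equiv.symm_apply_eq] using h'
    subst this
    exact Subtype.ext (map_one L)
  · obtain ⟨i, j, hij⟩ := Fintype.exists_pair_of_one_lt_card (by omega : 1 < Fintype.card ι)
    set v0 : Fin m := ⟨0, by omega⟩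
    set v1 : Fin m := ⟨1, by omega⟩
    have hv : v0 ≠ v1 := by simp [v0, v1, Fin.ext_iff]
    set a := c.symm fun _ => v0
    set b := c.symm (Function.update (fun _ => v0) i v1)
    set d := c.symm (Function.update (Function.update (fun _ => v0) i v1) j v1)
    have hab : hd c a b = 1 := by
      rw [hd, Finset.card_eq_one]
      refine ⟨i, ?_⟩
      ext k
      by_cases hk : k = i <;> simp [a, b, hk, hv]
    have had : hd c a d = 2 := by
      rw [hd, Finset.card_eq_two]
      refine ⟨i, j, hij, ?_⟩
      ext k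
      by_cases hk : k = i
      · subst hk; simp [a, d, hij, hv]
      · by_cases hk' : k = j <;> simp [a, d, hk, hk', hv]
    have hne1 : a ≠ b := fun e => by simp [← e, hd] at hab
    have hne2 : a ≠ d := fun e => by simp [← e, hd] at had
    obtain ⟨g, hga, hgb⟩ := MulAction.is_two_pretransitive_iff.mp h2 hne1 hne2
    have := g.2 a b
    rw [show g.1 a = a from hga, show g.1 b = d from hgb, hab, had] at this
    omega

end Cfsg.Agent.S3560
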