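import Cfsg.Statements.S3571
import Cfsg.Agent.Lib.AltDerange.Main

set_option autoImplicit false
open Cfsg

namespace Cfsg.Agent.S3571

open MulAction

theorem conj_hom {G : Type*} [Group G] (T : Subgroup G) [T.Normal] (hTc : Subgroup.centralizer (T : Set G) = ⊥) :
    Function.Injective (MulAut.conjNormal : G →* MulAut T) := by
  rw [injective_iff_map_eq_one]
  intro g hg
  rw [← Subgroup.mem_bot, ← hTc, Subgroup.mem_centralizer_iff]
  intro t ht
  have := congrArg (fun f : MulAut T => (f ⟨t, ht⟩ : G)) hg
  simp only [MulAut.conjNormal_apply, MulAut.one_apply] at this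
  rw [mul_inv_eq_iff_eq_mul] at this
  exact this.symm

/-- No element of order fifteen in `A₆`. -/
theorem no_fifteen (x : alternatingGroup (Fin 6)) : orderOf x ≠ 15 := by
  intro hx
  have h : orderOf (x : Equiv.Perm (Fin 6)) = 15 := (Subgroup.orderOf_coe x).trans hx
  set c := (x : Equiv.Perm (Fin 6)).cycleType
  have hsum : c.sum ≤ 6 := by simpa using Equiv.Perm.sum_cycleType_le (x : Equiv.Perm (Fin 6))
  have hlcm : c.lcm = 15 := (Equiv.Perm.lcm_cycleType _).trans h
  have hmem : ∀ b ∈ c, b = 3 ∨ b = 5 := fun b hb => by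
    have h1 : b ∣ 15 := hlcm ▸ Multiset.dvd_lcm hb
    have h2 : b ≤ 6 := le_trans (Multiset.le_sum_of_mem hb) hsum
    have h3 := Equiv.Perm.two_le_of_mem_cycleType hb
    interval_cases b <;> first | omega | (norm_num at h1)
  have h3 : 3 ∈ c := by
    by_contra hc
    have : c.lcm ∣ 5 := Multiset.lcm_dvd.mpr fun b hb => by
      rcases hmem b hb with rfl | rfl
      · exact absurd hb hc
      · rfl
    rw [hlcm] at this
    norm_num at this
  have h5 : 5 ∈ c := by
    by_contra hc
    have : c.lcm ∣ 3 := Multiset.lcm_dvd.mpr fun b hb => by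
      rcases hmem b hb with rfl | rfl
      · rfl
      · exact absurd hb hc
    rw [hlcm] at this
    norm_num at this
  obtain ⟨d, hd⟩ := Multiset.exists_cons_of_mem h3
  rw [hd] at h5 hsum
  rcases Multiset.mem_cons.mp h5 with h | h
  · norm_num at h
  · have := Multiset.le_sum_of_mem h
    rw [Multiset.sum_cons] at hsum
    omega

/-- A group of order fifteen times a divisor of three, with no element of order fifteen, does not exist. -/
theorem no_cyclic_fifteen {S : Type*} [Group S] [Finite S]
    (hS : Nat.card S = 15 ∨ Nat.card S = 30 ∨ Nat.card S = 45) : ∃ x : S, orderOf x = 15 := by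
  haveI : Fact (Nat.Prime 5) := ⟨by norm_num⟩
  haveI : Fact (Nat.Prime 3) := ⟨by norm_num⟩
  obtain ⟨P⟩ := (inferInstance : Nonempty (Sylow 5 S))
  obtain ⟨y, hy⟩ := exists_prime_orderOf_dvd_card' (G := S) 3 (by rcases hS with h | h | h <;> rw [h] <;> norm_num)
  have hn := card_sylow_modEq_one 5 S
  have hidx : Nat.card (Sylow 5 S) ∣ (P : Subgroup S).index := P.card_dvd_index
  have hPc : Nat.card P = 5 := by
    rw [Sylow.card_eq_multiplicity]
    rcases hS with h | h | h <;> rw [h]
    · rw [show (15 : ℕ) = 5 ^ 1 * 3 by norm_num, Nat.factorization_mul (by norm_num) (by norm_num),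
        Finsupp.add_apply, Nat.Prime.factorization_pow (by norm_num),
        Nat.factorization_eq_zero_of_not_dvd (by norm_num : ¬ 5 ∣ 3)]
      simp
    · rw [show (30 : ℕ) = 5 ^ 1 * 6 by norm_num, Nat.factorization_mul (by norm_num) (by norm_num),
        Finsupp.add_apply, Nat.Prime.factorization_pow (by norm_num),
        Nat.factorization_eq_zero_of_not_dvd (by norm_num : ¬ 5 ∣ 6)]
      simp
    · rw [show (45 : ℕ) = 5 ^ 1 * 9 by norm_num, Nat.factorization_mul (by norm_num) (by norm_num),
        Finsupp.add_apply, Nat.Prime.factorization_pow (by norm_num),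
        Nat.factorization_eq_zero_of_not_dvd (by norm_num : ¬ 5 ∣ 9)]
      simp
  have hy3 : y ∈ Subgroup.normalizer ((P : Subgroup S) : Set S) := by
    refine Sylow.smul_eq_iff_mem_normalizer.mp ?_
    have hPi := (P : Subgroup S).card_mul_index
    rw [hPc] at hPi
    have hN : Nat.card (Sylow 5 S) = 1 ∨ Nat.card (Sylow 5 S) = 6 := by
      have hle := Nat.le_of_dvd (by omega) hidx
      rw [Nat.ModEq] at hn
      rcases hS with h | h | h <;> rw [h] at hPi <;>
        rw [show (P : Subgroup S).index = _ from (by omega : (P : Subgroup S).index = Nat.card S / 5), h] at hidx hle <;>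
        norm_num at hidx hle <;>
        · have : Nat.card (Sylow 5 S) ≤ 9 := by omega
          interval_cases hq : Nat.card (Sylow 5 S) <;> simp_all
    rcases hN with h1 | h6
    · exact (Finite.card_le_one_iff_subsingleton.mp h1.le).elim _ _
    · -- six Sylow subgroups leave a single one of order three
      exfalso
      have h30 : Nat.card S = 30 := by
        rcases hS with h | h | h
        · rw [h] at hPi; rw [h6, show (P : Subgroup S).index = 3 by omega] at hidx; norm_num at hidx
        · exact h
        · rw [h] at hPi; rw [h6, show (P : Subgroup S).index = 9 by omega] at hidx; norm_num at hidx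
      haveI : Fintype S := Fintype.ofFinite S
      obtain ⟨z, hz⟩ : ∃ z : Subgroup S, z.index = 2 := by
        classical
        haveI : Fact (Nat.Prime 2) := ⟨Nat.prime_two⟩
        obtain ⟨t, ht⟩ := exists_prime_orderOf_dvd_card' (G := S) 2 (by rw [h30]; norm_num)
        let f : S →* ℤˣ := Equiv.Perm.sign.comp (MulAction.toPermHom S S)
        have hsq : (MulAction.toPermHom S S t) ^ 2 = 1 := by
          rw [← map_pow, ← ht, pow_orderOf_eq_one, map_one]
        have hfix : Fintype.card (Function.fixedPoints (MulAction.toPermHom S S t)) = 0 := by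
          rw [Fintype.card_eq_zero_iff]
          refine ⟨fun ⟨q, hq⟩ => ?_⟩
          have h1 : t * q = q := hq
          rw [mul_eq_right] at h1
          rw [h1, orderOf_one] at ht
          norm_num at ht
        have hft : f t = -1 := by
          show Equiv.Perm.sign _ = _
          rw [Equiv.Perm.sign_of_pow_two_eq_one hsq, hfix, Nat.sub_zero, ← Nat.card_eq_fintype_card, h30]
          norm_num
        refine ⟨f.ker, ?_⟩
        rw [Subgroup.index_ker, show f.range = ⊤ from eq_top_iff.mpr fun v _ => by
          rcases Int.units_eq_one_or v with rfl | rfl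
          exacts [one_mem _, ⟨t, hft⟩], Subgroup.card_top, Nat.card_eq_fintype_card]
        rfl
      have hzc : Nat.card z = 15 := by
        have := z.card_mul_index
        rw [hz, h30] at this
        omega
      haveI : z.Normal := Subgroup.normal_of_index_eq_two hz
      have hall : ∀ Q : Sylow 5 S, (Q : Subgroup S) ≤ z := fun Q => by
        intro q hq
        have hq5 : q ^ 5 = 1 := by
          have := Subgroup.orderOf_dvd_natCard _ hq
          rw [show Nat.card Q = 5 from (Q.card_eq_multiplicity.trans (P.card_eq_multiplicity.symm.trans hPc))] at this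
          exact orderOf_dvd_iff_pow_eq_one.mp this
        have h2 := Subgroup.mul_self_mem_of_index_two hz q
        have : q = (q * q) ^ 3 := by
          rw [← pow_two, ← pow_mul, show (2 * 3 : ℕ) = 5 + 1 by norm_num, pow_add, hq5, one_mul, pow_one]
        rw [this]
        exact z.pow_mem h2 3
      let f : Sylow 5 S → Sylow 5 z := fun Q => Q.subtype (hall Q)
      have hf : Function.Injective f := fun Q Q' h => Sylow.subtype_injective h
      have h5 := Nat.card_le_card_of_injective f hf
      obtain ⟨R⟩ := (inferInstance : Nonempty (Sylow 5 z))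
      have hR := R.card_dvd_index
      have hR5 : Nat.card R = 5 := by
        rw [Sylow.card_eq_multiplicity, hzc, show (15 : ℕ) = 5 ^ 1 * 3 by norm_num,
          Nat.factorization_mul (by norm_num) (by norm_num), Finsupp.add_apply,
          Nat.Prime.factorization_pow (by norm_num), Nat.factorization_eq_zero_of_not_dvd (by norm_num : ¬ 5 ∣ 3)]
        simp
      have hRi := (R : Subgroup z).card_mul_index
      rw [hR5, hzc] at hRi
      have := Nat.le_of_dvd (by omega) hR
      omega
  obtain ⟨u, hu⟩ : ∃ u : S, u ∈ (P : Subgroup S) ∧ u ≠ 1 := by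
    by_contra hc
    push Not at hc
    rw [(Subgroup.eq_bot_iff_forall _).mpr hc, Subgroup.card_bot] at hPc
    norm_num at hPc
  have hu5 : orderOf u = 5 := orderOf_eq_prime
    (orderOf_dvd_iff_pow_eq_one.mp (hPc ▸ Subgroup.orderOf_dvd_natCard _ hu.1)) hu.2
  have hz : Subgroup.zpowers u = (P : Subgroup S) :=
    Subgroup.eq_of_le_of_card_ge (Subgroup.zpowers_le.mpr hu.1) (by rw [Nat.card_zpowers, hu5, hPc])
  -- an element of order three normalising a group of order five centralises it
  obtain ⟨i, hi⟩ : ∃ i : ℤ, u ^ i = y * u * y⁻¹ := by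
    have : y * u * y⁻¹ ∈ (P : Subgroup S) := (Subgroup.mem_normalizer_iff.mp hy3 u).mp hu.1
    rw [← hz] at this
    exact Subgroup.mem_zpowers_iff.mp this
  have hiter : ∀ n : ℕ, y ^ n * u * (y ^ n)⁻¹ = u ^ i ^ n := by
    intro n
    induction n with
    | zero => simp
    | succ n ih =>
      rw [pow_succ', mul_inv_rev,
        show y * y ^ n * u * ((y ^ n)⁻¹ * y⁻¹) = MulAut.conj y (y ^ n * u * (y ^ n)⁻¹) by
          rw [MulAut.conj_apply]; group,
        ih, map_zpow, MulAut.conj_apply, ← hi, ← zpow_mul, pow_succ']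
  have h3 := hiter 3
  rw [show y ^ 3 = 1 by rw [← hy]; exact pow_orderOf_eq_one y, one_mul, inv_one, mul_one] at h3
  have hmod : i ^ 3 ≡ 1 [ZMOD 5] := by
    have : u ^ (i ^ 3) = u ^ (1 : ℤ) := by rw [← h3, zpow_one]
    rw [zpow_eq_zpow_iff_modEq, hu5] at this
    exact_mod_cast this
  have hi1 : i ≡ 1 [ZMOD 5] := by
    have hr : i % 5 = 0 ∨ i % 5 = 1 ∨ i % 5 = 2 ∨ i % 5 = 3 ∨ i % 5 = 4 := by omega
    have h' : (i % 5) ^ 3 % 5 = 1 := by
      have := (Int.ModEq.pow 3 (Int.mod_modEq i 5)).trans hmod
      rw [Int.ModEq] at this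
      simpa using this
    rcases hr with h | h | h | h | h <;> rw [h] at h' <;> norm_num at h'
    rw [Int.ModEq, h]; norm_num
  have hcomm : Commute y u := by
    have : u ^ i = u ^ (1 : ℤ) := by rw [zpow_eq_zpow_iff_modEq, hu5]; exact_mod_cast hi1
    rw [zpow_one] at this
    rw [this] at hi
    rw [Commute, SemiconjBy]
    calc y * u = y * u * y⁻¹ * y := by group
      _ = u * y := by rw [← hi]
  exact ⟨y * u, by rw [hcomm.orderOf_mul_eq_mul_orderOf_of_coprime (by rw [hy, hu5]; norm_num), hy, hu5]⟩

/-- Let G be an almost simple group whose socle is an alternating group of degree m ≥ 5 (G has a normal subgroup T isomorphic to that alternating group with trivial centralizer), acting faithfully and primitively on a finite set Ω with at least two points, and let r be the largest prime divisor of the number of points. Then G contains an element of order r fixing no point. -/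
theorem result {G Ω : Type*} [Group G] [Finite G] [MulAction G Ω] [FaithfulSMul G Ω] [Finite Ω]
    (T : Subgroup G) (hT : T.Normal) (hTc : Subgroup.centralizer (T : Set G) = ⊥) (m : ℕ) (hm : 5 ≤ m)
    (eT : ↥T ≃* ↥(alternatingGroup (Fin m))) (hprim : MulAction.IsPreprimitive G Ω) (hΩ : 2 ≤ Nat.card Ω)
    (r : ℕ) (hr : r.Prime) (hrd : r ∣ Nat.card Ω) (hmax : ∀ s : ℕ, s.Prime → s ∣ Nat.card Ω → s ≤ r) :
    ∃ g : G, orderOf g = r ∧ ∀ ω : Ω, g • ω ≠ ω := by
  classical
  haveI : Fact r.Prime := ⟨hr⟩
  haveI : Nontrivial Ω := Finite.one_lt_card_iff_nontrivial.mp (by omega)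
  haveI : Nontrivial (alternatingGroup (Fin m)) := alternatingGroup.nontrivial_of_three_le_card (by simp; omega)
  have hTfix : fixedPoints T Ω ≠ Set.univ := fun h => by
    have hbot : T = ⊥ := (Subgroup.eq_bot_iff_forall T).mpr fun t ht =>
      eq_of_smul_eq_smul (α := Ω) fun ω => by
        rw [one_smul]; exact (Set.eq_univ_iff_forall.mp h ω) ⟨t, ht⟩
    haveI : Nontrivial T := eT.toEquiv.nontrivial
    exact (Subgroup.nontrivial_iff_ne_bot T).mp inferInstance hbot
  haveI hTtr : IsPretransitive T Ω := IsQuasiPreprimitive.isPretransitive_of_normal hTfix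
  let α : Ω := Classical.arbitrary Ω
  set H := stabilizer G α with hH
  have hidx : H.index = Nat.card Ω := index_stabilizer_of_transitive G α
  have hS : (stabilizer T α).index = Nat.card Ω := index_stabilizer_of_transitive T α
  suffices h : ∃ x : T, orderOf x = r ∧ ∀ ω : Ω, (x : G) • ω ≠ ω by
    obtain ⟨x, hx, hfree⟩ := h
    exact ⟨x, by rw [Subgroup.orderOf_coe, hx], hfree⟩
  rcases eq_or_ne m 6 with h6 | h6
  · subst h6
    have hT360 : Nat.card T = 360 := by
      rw [Nat.card_congr eT.toEquiv, nat_card_alternatingGroup, Nat.card_fin]; rfl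
    have hprod := (stabilizer T α).card_mul_index
    rw [hS, hT360] at hprod
    -- the group embeds in the symmetric group on the points
    have hfac : 360 ∣ (Nat.card Ω).factorial := by
      rw [← hT360, ← Nat.card_perm]
      exact Subgroup.card_dvd_of_injective (MulAction.toPermHom T Ω) fun a b hab =>
        Subtype.ext (eq_of_smul_eq_smul (α := Ω) fun ω => DFunLike.congr_fun hab ω)
    have h6n : 6 ≤ Nat.card Ω := by
      by_contra hn
      have : (Nat.card Ω).factorial ≤ Nat.factorial 5 := Nat.factorial_le (by omega)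
      have := Nat.le_of_dvd (Nat.factorial_pos _) hfac
      simp [Nat.factorial] at *
      omega
    by_cases hnd : r ∣ Nat.card (stabilizer T α)
    swap
    · obtain ⟨x, hx⟩ := exists_prime_orderOf_dvd_card' (G := T) r (hrd.trans ⟨_, by rw [hT360, mul_comm, hprod]⟩)
      refine ⟨x, hx, fun ω hω => hnd ?_⟩
      obtain ⟨t, rfl⟩ := exists_smul_eq T α ω
      have hmem : t⁻¹ * x * t ∈ stabilizer T α := by
        rw [mem_stabilizer_iff, mul_smul, mul_smul, inv_smul_eq_iff]
        exact hω
      have h := Subgroup.orderOf_dvd_natCard _ hmem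
      rwa [show t⁻¹ * x * t = MulAut.conj t⁻¹ x by simp [MulAut.conj_apply], MulEquiv.orderOf_eq, hx] at h
    have hrr : r * r ∣ 360 := hprod ▸ Nat.mul_dvd_mul hnd hrd
    have hr3 : r = 2 ∨ r = 3 := by
      have hr_le : r ≤ 18 := by
        by_contra hc
        have := Nat.le_of_dvd (by norm_num) hrr
        nlinarith
      have := hr.two_le
      interval_cases r <;> first | omega | (exfalso; revert hr; norm_num) | (exfalso; revert hrr; norm_num)
    set n := Nat.card Ω with hn
    have hn6 : n = 6 := by
      have hd : n ∣ 360 := Dvd.intro_left _ hprod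
      have h5 : ¬ 5 ∣ n := fun h => by have := hmax 5 (by norm_num) h; omega
      have hno : Nat.card (stabilizer T α) ≠ 15 ∧ Nat.card (stabilizer T α) ≠ 30 ∧ Nat.card (stabilizer T α) ≠ 45 := by
        refine ⟨fun h => ?_, fun h => ?_, fun h => ?_⟩ <;>
        · obtain ⟨x, hx⟩ := no_cyclic_fifteen (S := stabilizer T α) (by omega)
          exact no_fifteen (eT x.1) (by rw [MulEquiv.orderOf_eq, Subgroup.orderOf_coe, hx])
      have hn360 : n ≤ 360 := Nat.le_of_dvd (by norm_num) hd
      have hmem : n ∈ Nat.divisors 360 := Nat.mem_divisors.mpr ⟨hd, by norm_num⟩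
      rcases hr3 with rfl | rfl
      · have h3 : ¬ 3 ∣ n := fun h => by have := hmax 3 (by norm_num) h; omega
        simp only [show Nat.divisors 360 = ({1, 2, 3, 4, 5, 6, 8, 9, 10, 12, 15, 18, 20, 24, 30, 36, 40, 45, 60,
          72, 90, 120, 180, 360} : Finset ℕ) by decide +kernel, Finset.mem_insert, Finset.mem_singleton] at hmem
        rcases hmem with h | h | h | h | h | h | h | h | h | h | h | h | h | h | h | h | h | h | h | h | h | h | h | h <;>
          rw [h] at hprod h3 h5 h6n hrd <;> first | omega | (exfalso; omega)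
      · simp only [show Nat.divisors 360 = ({1, 2, 3, 4, 5, 6, 8, 9, 10, 12, 15, 18, 20, 24, 30, 36, 40, 45, 60,
          72, 90, 120, 180, 360} : Finset ℕ) by decide +kernel, Finset.mem_insert, Finset.mem_singleton] at hmem
        rcases hmem with h | h | h | h | h | h | h | h | h | h | h | h | h | h | h | h | h | h | h | h | h | h | h | h <;>
          rw [h] at hprod h5 h6n hrd <;> first | omega | (exfalso; omega)
    -- the action on six points is that of `A₆`
    let ψ : T →* Equiv.Perm Ω := MulAction.toPermHom T Ω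
    have hψ : Function.Injective ψ := fun a b hab =>
      Subtype.ext (eq_of_smul_eq_smul (α := Ω) fun ω => DFunLike.congr_fun hab ω)
    haveI : Fintype Ω := Fintype.ofFinite Ω
    have hrange : alternatingGroup Ω ≤ ψ.range := by
      apply Equiv.Perm.alternatingGroup_le_of_index_le_two
      have h := ψ.range.card_mul_index
      rw [← Nat.card_congr (MonoidHom.ofInjective hψ).toEquiv, hT360, Nat.card_perm, ← hn, hn6] at h
      simp [Nat.factorial] at h
      omega
    rcases hr3 with rfl | rfl
    · exact absurd (hmax 3 (by norm_num) (by rw [hn6]; norm_num)) (by norm_num)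
    · obtain ⟨x, hx⟩ := (Equiv.Perm.exists_with_cycleType_iff Ω (m := ({3, 3} : Multiset ℕ))).mpr
        ⟨by rw [← Nat.card_eq_fintype_card, ← hn, hn6]; decide, by decide⟩
      have hxA : x ∈ alternatingGroup Ω := by
        rw [Equiv.Perm.mem_alternatingGroup, Equiv.Perm.sign_of_cycleType, hx]; decide
      obtain ⟨t, rfl⟩ := hrange hxA
      refine ⟨t, ?_, fun ω hω => ?_⟩
      · rw [← orderOf_injective ψ hψ, ← Equiv.Perm.lcm_cycleType, hx]; rfl
      · have hsupp : (ψ t).support.card = Fintype.card Ω := by
          rw [← Equiv.Perm.sum_cycleType, hx, ← Nat.card_eq_fintype_card, ← hn, hn6]; rfl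
        have := Finset.eq_univ_of_card _ hsupp
        have h2 : ω ∈ (ψ t).support := this ▸ Finset.mem_univ ω
        exact (Equiv.Perm.mem_support.mp h2) hω
  -- m ≠ 6: inside the symmetric group
  let E : Equiv.Perm (Fin m) ≃* MulAut (alternatingGroup (Fin m)) :=
    MulEquiv.ofBijective MulAut.conjNormal (Cfsg.Agent.S2119.result m (by omega) h6)
  let ι : G →* MulAut (alternatingGroup (Fin m)) :=
    (MulAut.congr eT).toMonoidHom.comp (MulAut.conjNormal : G →* MulAut T)
  let φ : G →* Equiv.Perm (Fin m) := E.symm.toMonoidHom.comp ι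
  have hφ : Function.Injective φ :=
    E.symm.injective.comp ((MulAut.congr eT).injective.comp (conj_hom T hTc))
  have hφT : ∀ t : T, φ t = (eT t : Equiv.Perm (Fin m)) := fun t => by
    apply E.injective
    show E (E.symm (ι t)) = E _
    rw [E.apply_symm_apply]
    refine MulEquiv.ext fun a => Subtype.ext ?_
    show ((eT ((MulAut.conjNormal (t : G)) (eT.symm a)) : alternatingGroup (Fin m)) : Equiv.Perm (Fin m)) = _
    rw [show (MulAut.conjNormal (t : G)) (eT.symm a) = t * eT.symm a * t⁻¹ from Subtype.ext (by simp),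
      map_mul, map_mul, map_inv, eT.apply_symm_apply]
    show _ = ((MulAut.conjNormal ((eT t : alternatingGroup (Fin m)) : Equiv.Perm (Fin m))) a : Equiv.Perm (Fin m))
    rw [MulAut.conjNormal_apply]
    rfl
  have hA : alternatingGroup (Fin m) ≤ φ.range := fun x hx =>
    ⟨(eT.symm ⟨x, hx⟩ : T), by rw [hφT, eT.apply_symm_apply]⟩
  have hAH : ¬ alternatingGroup (Fin m) ≤ H.map φ := fun hle => by
    refine hTfix (Set.eq_univ_iff_forall.mpr fun ω t => ?_)
    have hTH : ∀ t : T, (t : G) • α = α := fun t => by
      obtain ⟨h, hh, he⟩ := hle (eT t).2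
      rw [← hφT] at he
      exact hφ he ▸ hh
    obtain ⟨u, rfl⟩ := exists_smul_eq T α ω
    show (t : G) • ((u : G) • α) = (u : G) • α
    rw [← mul_smul]
    exact (hTH (t * u)).trans (hTH u).symm
  obtain ⟨x, hxA, hxr, hx⟩ := CfsgLib.AltDerange.exists_missed hm φ hφ hA H
    (IsPreprimitive.isCoatom_stabilizer_of_isPreprimitive (G := G) α) hAH hr (hidx ▸ hrd) (by rw [hidx]; exact hmax)
  refine ⟨eT.symm ⟨x, hxA⟩, ?_, fun ω hω => ?_⟩
  · rw [MulEquiv.orderOf_eq, ← Subgroup.orderOf_coe, hxr]
  · obtain ⟨g, rfl⟩ := exists_smul_eq G α ω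
    refine hx (φ g⁻¹) ⟨g⁻¹ * (eT.symm ⟨x, hxA⟩ : T) * g, ?_, ?_⟩
    · rw [SetLike.mem_coe, hH, mem_stabilizer_iff, mul_smul, mul_smul, inv_smul_eq_iff]
      exact hω
    · rw [map_mul, map_mul, hφT, eT.apply_symm_apply, map_inv, inv_inv]

end Cfsg.Agent.S3571
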