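import Cfsg.Statements.S3572
import Mathlib
import Cfsg.Agent.Lib.SchurRing.Cyclic
import Cfsg.Agent.Lib.SchurDihedral.Trivial

set_option autoImplicit false
open Cfsg

namespace Cfsg.Agent.S3572

open CfsgLib.SchurRing (Rel move move_spec rel_div)

section

variable {G Ω : Type*} [Group G] [MulAction G Ω] {D : Subgroup G} {a : Ω} {m : ℕ} [NeZero m]

/-- Functions constant on the orbits of the stabilizer. -/
def Orb (a : Ω) (e : D ≃* DihedralGroup m) (f : CfsgLib.SchurDihedral.Alg m) : Prop :=
  ∀ d d' : D, Rel a d d' → f.coeff (e d) = f.coeff (e d')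

theorem preRing [Finite G] (hb : Function.Bijective fun c : D => (c : G) • a)
    (hH : IsCoatom (MulAction.stabilizer G a)) (e : D ≃* DihedralGroup m) (hm : 2 ≤ m) :
    CfsgLib.SchurDihedral.PreRing (Orb a e) := by
  classical
  have hone : ∀ d d' : D, Rel a d d' → d = 1 → d' = 1 := by
    rintro d d' ⟨h, ha, hd⟩ rfl
    rw [Subgroup.coe_one, one_smul, ha] at hd
    exact hb.1 (by simp [← hd])
  have hone' : ∀ d d' : D, Rel a d d' → (d = 1 ↔ d' = 1) := fun d d' h => ⟨hone d d' h, hone d' d h.symm⟩
  refine ⟨hm, fun d d' h => ?_, fun f g hf hg d d' h => ?_, fun f g hf hg => ?_, fun φ f hf d d' h => ?_,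
    fun K V hKV hV => ?_⟩
  · rw [CfsgLib.SchurDihedral.one_coeff', CfsgLib.SchurDihedral.one_coeff']
    exact if_congr (by rw [map_eq_one_iff e e.injective, map_eq_one_iff e e.injective]; exact hone' d d' h) rfl rfl
  · simp only [MonoidAlgebra.coeff_add, Finsupp.add_apply, hf d d' h, hg d d' h]
  · letI : Fintype D := Fintype.ofFinite D
    have key : ∀ z : D, (f * g).coeff (e z) = ∑ y : D, f.coeff (e y) * g.coeff (e (y⁻¹ * z)) := fun z => by
      rw [CfsgLib.SchurDihedral.coeff_prod, ← e.toEquiv.sum_comp]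
      simp
    intro x x' hxx'
    obtain ⟨h, ha, hx⟩ := hxx'
    rw [key, key]
    refine Fintype.sum_equiv (move hb h) _ _ fun y => ?_
    rw [hf y (move hb h y) ⟨h, ha, (move_spec hb h y).symm⟩, hg _ _ (rel_div hb hx y)]
  · simp only [CfsgLib.SchurDihedral.post_coeff, hf d d' h]
  · have hinv : ∀ c c' : D, Rel a c c' → c ∈ K.comap e.toMonoidHom → c' ∈ K.comap e.toMonoidHom := by
      intro c c' h hc
      have := hV c c' h
      have hec : e c ∈ V := (hKV _).mpr hc
      rw [CfsgLib.SchurDihedral.indic_coeff, CfsgLib.SchurDihedral.indic_coeff, if_pos hec] at this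
      by_contra hne
      have hec' : e c' ∉ V := fun h' => hne ((hKV _).mp h')
      rw [if_neg hec'] at this
      exact one_ne_zero this
    by_cases htop : K.comap e.toMonoidHom = ⊤
    · refine Or.inr ((Subgroup.eq_top_iff' K).mpr fun x => ?_)
      have : e.symm x ∈ K.comap e.toMonoidHom := htop ▸ Subgroup.mem_top _
      simpa using this
    · refine Or.inl ((Subgroup.eq_bot_iff_forall K).mpr fun x hx => ?_)
      have hbot := CfsgLib.SchurRing.eq_bot_of_invariant hb hH htop hinv
      have : e.symm x ∈ K.comap e.toMonoidHom := by simpa using hx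
      rw [hbot, Subgroup.mem_bot] at this
      simpa using congrArg e this

theorem rel_of_ne_one [Finite G] (hb : Function.Bijective fun c : D => (c : G) • a)
    (hH : IsCoatom (MulAction.stabilizer G a)) (e : D ≃* DihedralGroup m) {d d' : D} (hd : d ≠ 1) (hd' : d' ≠ 1) :
    Rel a d d' := by
  classical
  by_cases hm : 2 ≤ m
  swap
  · have hc : Nat.card D = 2 := by
      rw [Nat.card_congr e.toEquiv, DihedralGroup.nat_card]
      have := NeZero.ne m
      omega
    obtain ⟨x, y, hxy, hall⟩ := Nat.card_eq_two_iff.mp hc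
    have h3 : ∀ z : D, z = x ∨ z = y := fun z => by
      have h4 : z ∈ ({x, y} : Set D) := by rw [hall]; trivial
      simpa using h4
    have : d = d' := by
      rcases h3 d with h | h <;> rcases h3 d' with h' | h' <;> rcases h3 1 with h1 | h1 <;> simp_all
    exact this ▸ CfsgLib.SchurRing.Rel.refl d
  have hI := preRing hb hH e hm
  let cls : D → Finset (DihedralGroup m) := fun x => Finset.univ.filter fun c => Rel a x (e.symm c)
  have hmem : ∀ x y : D, e y ∈ cls x ↔ Rel a x y := fun x y => by simp [cls]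
  have hcls : ∀ x, CfsgLib.SchurDihedral.Inset (Orb a e) (cls x) := fun x y y' h => by
    rw [CfsgLib.SchurDihedral.indic_coeff, CfsgLib.SchurDihedral.indic_coeff]
    exact if_congr (by rw [hmem, hmem]; exact ⟨fun h' => h'.trans h, fun h' => h'.trans h.symm⟩) rfl rfl
  have hne : ∀ x, x ≠ 1 → (1 : DihedralGroup m) ∉ cls x := fun x hx h => by
    have h' : Rel a x 1 := (hmem x 1).mp (by rwa [map_one])
    obtain ⟨g, ga, gx⟩ := h'
    rw [Subgroup.coe_one, one_smul] at gx
    have h1 : (x : G) • a = ((1 : D) : G) • a := by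
      rw [Subgroup.coe_one, one_smul]
      exact smul_left_cancel g (gx.trans ga.symm)
    exact hx (hb.1 h1)
  have hself : ∀ x, e x ∈ cls x := fun x => (hmem x x).mpr (CfsgLib.SchurRing.Rel.refl x)
  have hinv : ∀ x : D, Rel a x x⁻¹ := by
    intro x
    by_cases hx : x = 1
    · rw [hx, inv_one]
      exact CfsgLib.SchurRing.Rel.refl 1
    obtain ⟨i, hi⟩ : ∃ i, DihedralGroup.sr i ∈ cls x := by
      by_contra hcon
      push Not at hcon
      have := hI.eq_one_of_rot (hcls x) (fun c hc => by
        cases c with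
        | r j => exact ⟨j, rfl⟩
        | sr j => exact absurd hc (hcon j)) _ (hself x)
      exact hx ((map_eq_one_iff e e.injective).mp this)
    have h1 : Rel a x (e.symm (DihedralGroup.sr i)) := by simpa [cls] using hi
    have h2 := CfsgLib.SchurRing.Rel.inv hb h1
    rw [← map_inv e.symm, DihedralGroup.inv_sr] at h2
    exact h1.trans h2.symm
  have hS : CfsgLib.SchurDihedral.SymRing (Orb a e) :=
    { hI with
      symm := fun f hf c => by
        have := hf (e.symm c) (e.symm c)⁻¹ (hinv _)
        simpa using this.symm }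
  have h := hS.trivial (hcls d) (hne d hd) ⟨e d, hself d⟩
  have : e d' ∈ cls d := by
    rw [h]
    exact Finset.mem_erase.mpr ⟨fun h' => hd' ((map_eq_one_iff e e.injective).mp h'), Finset.mem_univ _⟩
  exact (hmem d d').mp this

end

/-- A finite primitive permutation group containing a dihedral subgroup that acts regularly (transitively with trivial point stabilizers) is doubly transitive. -/
theorem result {G Ω : Type*} [Group G] [Finite G] [MulAction G Ω] [FaithfulSMul G Ω] [Finite Ω]
    (hprim : MulAction.IsPreprimitive G Ω) (D : Subgroup G) (m : ℕ) (hD : Nonempty (↥D ≃* DihedralGroup m))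
    (hDreg : MulAction.IsPretransitive ↥D Ω ∧ ∀ a : Ω, MulAction.stabilizer ↥D a = ⊥) :
    MulAction.IsMultiplyPretransitive G Ω 2 := by
  obtain ⟨e⟩ := hD
  haveI := hDreg.1
  haveI : NeZero m := ⟨fun h0 => by
    subst h0
    have h := Nat.card_congr e.toEquiv
    rw [DihedralGroup.nat_card, Nat.mul_zero] at h
    exact Nat.card_pos.ne' h⟩
  haveI : MulAction.IsPretransitive G Ω := hprim.toIsPretransitive
  refine MulAction.is_two_pretransitive_iff.mpr fun {b b' d d'} hbb hdd => ?_
  have hb : Function.Bijective fun c : D => (c : G) • b := by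
    refine ⟨fun c c' h => ?_, fun w => ?_⟩
    · have hm : c'⁻¹ * c ∈ MulAction.stabilizer D b := by
        rw [MulAction.mem_stabilizer_iff, mul_smul, inv_smul_eq_iff]
        exact h
      rw [hDreg.2 b, Subgroup.mem_bot] at hm
      exact (inv_mul_eq_one.mp hm).symm
    · exact MulAction.exists_smul_eq D b w
  haveI : Nontrivial Ω := ⟨⟨b, b', hbb⟩⟩
  have hH : IsCoatom (MulAction.stabilizer G b) := (MulAction.isCoatom_stabilizer_iff_preprimitive G b).mpr hprim
  obtain ⟨k, hk⟩ := MulAction.exists_smul_eq G d b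
  obtain ⟨x, hx⟩ := hb.2 b'
  obtain ⟨y, hy⟩ := hb.2 (k • d')
  have hx1 : x ≠ 1 := fun h => hbb (by rw [← hx, h]; simp)
  have hy1 : y ≠ 1 := fun h => hdd (smul_left_cancel k (hk.trans (by rw [← hy, h]; simp)))
  obtain ⟨g, ga, gx⟩ := rel_of_ne_one hb hH e hx1 hy1
  simp only at hx hy
  rw [hx, hy] at gx
  exact ⟨k⁻¹ * g, by rw [mul_smul, ga, inv_smul_eq_iff, hk], by rw [mul_smul, gx, inv_smul_smul]⟩

end Cfsg.Agent.S3572
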