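import Cfsg.Statements.S3573
import Mathlib

set_option autoImplicit false
open Cfsg

namespace Cfsg.Agent.S3573

open Equiv.Perm in
theorem criterion (n k r : ℕ) (hkn : k ≤ n) (hr : r.Prime) (hrn : r ≤ n) :
    (∀ σ : Equiv.Perm (Fin n), orderOf σ = r → ∃ s : Finset (Fin n), s.card = k ∧ s.image σ = s) ↔
      k % r ≤ n % r := by
  classical
  haveI : Fact r.Prime := ⟨hr⟩
  constructor
  · intro h
    obtain ⟨σ, hσ⟩ := (exists_with_cycleType_iff (α := Fin n) (m := Multiset.replicate (n / r) r)).2
      ⟨by rw [Multiset.sum_replicate, smul_eq_mul, Fintype.card_fin]; exact Nat.div_mul_le_self n r,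
        fun a ha => by rw [Multiset.eq_of_mem_replicate ha]; exact hr.two_le⟩
    have hpow : σ ^ r = 1 := pow_prime_eq_one_iff.2 fun c hc => Multiset.eq_of_mem_replicate (hσ ▸ hc)
    have hsup : σ.support.card = n / r * r := by
      rw [← sum_cycleType, hσ, Multiset.sum_replicate, smul_eq_mul]
    have hne : σ ≠ 1 := by
      intro h1
      rw [h1, Equiv.Perm.support_one, Finset.card_empty] at hsup
      exact (Nat.mul_pos (Nat.div_pos hrn hr.pos) hr.pos).ne hsup
    obtain ⟨s, hs, hsi⟩ := h σ (orderOf_eq_prime hpow hne)
    have hmem : ∀ x, σ x ∈ s ↔ x ∈ s := by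
      intro x
      conv_lhs => rw [← hsi]
      exact σ.injective.mem_finset_image
    set τ := σ.subtypePerm (p := fun x => x ∈ s) hmem
    have hτ : τ ^ r ^ 1 = 1 := by
      rw [pow_one]
      ext x
      have := congrArg (fun f : Equiv.Perm (Fin n) => f x.1) hpow
      simp only [τ, Equiv.Perm.subtypePerm_pow, Equiv.Perm.subtypePerm_apply, Equiv.Perm.one_apply] at this ⊢
      exact congrArg Fin.val this
    set F := s.filter (fun x => σ x = x)
    have hF : F.card ≤ n % r := by
      have h1 : F ⊆ σ.supportᶜ := by
        intro x hx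
        simp only [F, Finset.mem_filter] at hx
        simp [hx.2]
      have h2 := Finset.card_le_card h1
      rw [Finset.card_compl, Fintype.card_fin, hsup] at h2
      have := Nat.mod_add_div n r
      rw [mul_comm] at this
      omega
    have hmod : F.card ≡ k [MOD r] := by
      have h1 := Equiv.Perm.card_compl_support_modEq hτ
      have h2 : τ.supportᶜ.card = F.card := by
        rw [← Finset.card_map (Function.Embedding.subtype _)]
        congr 1
        ext x
        simp [F, τ, Subtype.ext_iff, and_comm]
      rw [h2, Fintype.card_coe, hs] at h1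
      exact h1
    have h3 : F.card % r = k % r := hmod
    rw [← h3]
    exact (Nat.mod_le _ _).trans hF
  · intro hle σ hσ
    obtain ⟨c', hc'⟩ := cycleType_prime_order (hσ.symm ▸ hr)
    rw [hσ] at hc'
    set C := σ.cycleFactorsFinset
    have hCcard : C.card = c' + 1 := by
      have := congrArg Multiset.card hc'
      rwa [cycleType_def, Multiset.card_map, Multiset.card_replicate] at this
    have hsz : ∀ c ∈ C, c.support.card = r := fun c hc => by
      have : c.support.card ∈ σ.cycleType := by
        rw [cycleType_def]
        exact Multiset.mem_map_of_mem (Finset.card ∘ Equiv.Perm.support) hc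
      rw [hc'] at this
      exact Multiset.eq_of_mem_replicate this
    have hsup : σ.support.card = C.card * r := by
      rw [← sum_cycleType, hc', Multiset.sum_replicate, smul_eq_mul, hCcard]
    have hsn : C.card * r ≤ n := by
      rw [← hsup]; exact (Finset.card_le_univ _).trans (by rw [Fintype.card_fin])
    set a := min C.card (k / r) with ha
    obtain ⟨C0, hC0, hC0c⟩ := Finset.exists_subset_card_eq (min_le_left C.card (k / r))
    have hak : a * r ≤ k := (Nat.mul_le_mul_right r (min_le_right _ _)).trans (Nat.div_mul_le_self k r)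
    have hb : k - a * r ≤ σ.supportᶜ.card := by
      rw [Finset.card_compl, Fintype.card_fin, hsup]
      rcases le_total C.card (k / r) with hl | hl
      · rw [ha, min_eq_left hl]; omega
      · rw [ha, min_eq_right hl]
        have h1 : n % r ≤ n - C.card * r := by
          have h2 : (n - C.card * r) % r = n % r := by
            conv_rhs => rw [← Nat.sub_add_cancel hsn]
            rw [Nat.add_mul_mod_self_right]
          rw [← h2]; exact Nat.mod_le _ _
        have := Nat.mod_add_div k r
        rw [mul_comm] at this
        omega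
    obtain ⟨B, hB, hBc⟩ := Finset.exists_subset_card_eq hb
    set U := C0.biUnion Equiv.Perm.support
    have hU : U.card = a * r := by
      rw [Finset.card_biUnion, Finset.sum_const_nat (fun c hc => hsz c (hC0 hc)), hC0c]
      intro c hc d hd hcd
      exact Equiv.Perm.Disjoint.disjoint_support (cycleFactorsFinset_pairwise_disjoint σ (hC0 hc) (hC0 hd) hcd)
    have hdisj : _root_.Disjoint U B := by
      rw [Finset.disjoint_left]
      intro x hx hxB
      obtain ⟨c, hc, hxc⟩ := Finset.mem_biUnion.1 hx
      exact Finset.mem_compl.1 (hB hxB) (mem_cycleFactorsFinset_support_le (hC0 hc) hxc)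
    refine ⟨U ∪ B, ?_, ?_⟩
    · rw [Finset.card_union_of_disjoint hdisj, hU, hBc]; omega
    · refine Finset.eq_of_subset_of_card_le ?_ (le_of_eq (Finset.card_image_of_injective _ σ.injective).symm)
      intro y hy
      obtain ⟨x, hx, rfl⟩ := Finset.mem_image.1 hy
      rcases Finset.mem_union.1 hx with hx | hx
      · obtain ⟨c, hc, hxc⟩ := Finset.mem_biUnion.1 hx
        refine Finset.mem_union_left _ (Finset.mem_biUnion.2 ⟨c, hc, ?_⟩)
        rw [← ((mem_cycleFactorsFinset_iff.1 (hC0 hc)).2 x hxc)]
        exact apply_mem_support.2 hxc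
      · have : σ x = x := notMem_support.1 (Finset.mem_compl.1 (hB hx))
        rw [this]
        exact Finset.mem_union_right _ hx

theorem mod_lt_of_dvd_choose {n k r : ℕ} (hr : r.Prime) (hkr : k < r) (hrd : r ∣ Nat.choose n k) : n % r < k := by
  have h : r ∣ n.descFactorial k := by
    rw [Nat.descFactorial_eq_factorial_mul_choose]; exact hrd.mul_left _
  rw [Nat.descFactorial_eq_prod_range] at h
  obtain ⟨i, hi, hd⟩ := (hr.prime.dvd_finsetProd_iff _).1 h
  rw [Finset.mem_range] at hi
  obtain ⟨q, hq⟩ := hd
  rcases Nat.lt_or_ge n i with hn | hn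
  · exact lt_of_le_of_lt (Nat.mod_le _ _) (hn.trans hi)
  · have : n = i + r * q := by omega
    rw [this, Nat.add_mul_mod_self_left, Nat.mod_eq_of_lt (hi.trans hkr)]
    exact hi


/-- Let 1 ≤ k with 2k < n and consider the symmetric group of degree n acting on the k-subsets of an n-set. Let r be a prime dividing the number C(n,k) of k-subsets. If r is odd, then every permutation of order r fixes some k-subset if and only if r ≤ k and the remainder of k modulo r is at most the remainder of n modulo r. If r = 2, then every involution fixes some k-subset if and only if k is even or n is odd. -/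
theorem result (n k : ℕ) (hk : 1 ≤ k) (hkn : 2 * k < n) (r : ℕ) (hr : r.Prime) (hrd : r ∣ Nat.choose n k) :
    (r ≠ 2 → ((∀ σ : Equiv.Perm (Fin n), orderOf σ = r → ∃ s : Finset (Fin n), s.card = k ∧ s.image σ = s) ↔
      (r ≤ k ∧ k % r ≤ n % r))) ∧
    (r = 2 → ((∀ σ : Equiv.Perm (Fin n), orderOf σ = 2 → ∃ s : Finset (Fin n), s.card = k ∧ s.image σ = s) ↔
      (Even k ∨ Odd n))) := by
  have hrn : r ≤ n := by
    by_contra h
    have hdvd : r ∣ n.factorial := by
      rw [← Nat.choose_mul_factorial_mul_factorial (show k ≤ n by omega)]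
      exact (hrd.mul_right _).mul_right _
    exact h ((hr.dvd_factorial).1 hdvd)
  rw [criterion n k r (by omega) hr hrn]
  constructor
  · intro _
    refine ⟨fun h => ⟨?_, h⟩, fun h => h.2⟩
    by_contra hlt
    have := mod_lt_of_dvd_choose hr (by omega) hrd
    rw [Nat.mod_eq_of_lt (show k < r by omega)] at h
    omega
  · intro h2
    subst h2
    rw [criterion n k 2 (by omega) hr hrn]
    rw [Nat.even_iff, Nat.odd_iff]
    omega

end Cfsg.Agent.S3573
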