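import Cfsg.Statements.S3575
import Mathlib

set_option autoImplicit false
open Cfsg

namespace Cfsg.Agent.S3575

theorem moved_dvd {α : Type*} [Fintype α] [DecidableEq α] {r : ℕ} [Fact r.Prime] {σ : Equiv.Perm α} (h : σ ^ r = 1) :
    r ∣ Nat.card {x : α // σ x ≠ x} := by
  have e : Nat.card {x : α // σ x ≠ x} = σ.support.card := by
    rw [Nat.card_eq_fintype_card, Fintype.card_subtype]; rfl
  rw [e]
  rcases eq_or_ne σ 1 with rfl | h1
  · simp
  have ho : orderOf σ = r := orderOf_eq_prime h h1
  obtain ⟨n, hn⟩ := Equiv.Perm.cycleType_prime_order (σ := σ) (by rw [ho]; exact Fact.out)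
  rw [← Equiv.Perm.sum_cycleType, hn, Multiset.sum_replicate, ho]
  exact Dvd.intro_left _ rfl

theorem conj_of_moved {α : Type*} [Fintype α] [DecidableEq α] {r : ℕ} [Fact r.Prime] {σ τ : Equiv.Perm α}
    (hσ : orderOf σ = r) (hτ : orderOf τ = r)
    (h : Nat.card {x : α // σ x ≠ x} = Nat.card {x : α // τ x ≠ x}) : IsConj σ τ := by
  rw [Equiv.Perm.isConj_iff_cycleType_eq]
  obtain ⟨n, hn⟩ := Equiv.Perm.cycleType_prime_order (σ := σ) (by rw [hσ]; exact Fact.out)
  obtain ⟨k, hk⟩ := Equiv.Perm.cycleType_prime_order (σ := τ) (by rw [hτ]; exact Fact.out)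
  have e : ∀ ρ : Equiv.Perm α, Nat.card {x : α // ρ x ≠ x} = ρ.cycleType.sum := fun ρ => by
    rw [Equiv.Perm.sum_cycleType, Nat.card_eq_fintype_card, Fintype.card_subtype]; rfl
  rw [e, e, hn, hk, Multiset.sum_replicate, Multiset.sum_replicate, hσ, hτ, smul_eq_mul, smul_eq_mul] at h
  rw [hn, hk, hσ, hτ, Nat.eq_of_mul_eq_mul_right (Fact.out : r.Prime).pos h]

/-- `j` cycles of length `r` and `n` fixed points. -/
abbrev Z (r j n : ℕ) : Type := (Fin j × ZMod r) ⊕ Fin n

def zperm (r j n : ℕ) : Equiv.Perm (Z r j n) :=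
  Equiv.sumCongr (Equiv.prodCongr (Equiv.refl _) (Equiv.addRight 1)) (Equiv.refl _)

theorem zperm_pow {r j n : ℕ} (i : ℕ) (x : Fin j × ZMod r) : (zperm r j n ^ i) (Sum.inl x) = Sum.inl (x.1, x.2 + i) := by
  induction i with
  | zero => simp
  | succ i ih =>
    rw [pow_succ', Equiv.Perm.mul_apply, ih]
    simp [zperm, add_assoc]

theorem zperm_pow' {r j n : ℕ} (i : ℕ) (x : Fin n) : (zperm r j n ^ i) (Sum.inr x) = Sum.inr x := by
  induction i with
  | zero => rfl
  | succ i ih => rw [pow_succ', Equiv.Perm.mul_apply, ih]; rfl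

/-- The arithmetic: the achievable numbers of cycles cover everything. -/
theorem cover {a b r A B k l c : ℕ} (hA : a = r * A + l) (hB : b = r * B + k) (hkl : k * l < r)
    (hg : B = 0 ∨ l ≤ k * A + 1) (hc : c * r ≤ a * b) :
    ∃ m ≤ B, m * a ≤ c ∧ c ≤ b * A + m * l := by
  have hB' : c ≤ b * A + B * l := by
    by_contra hne
    have h1 : (b * A + B * l + 1) * r ≤ c * r := Nat.mul_le_mul_right r (by omega)
    have h2 : a * b = (b * A + B * l) * r + k * l := by rw [hA, hB]; ring
    rw [add_mul] at h1
    omega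
  have hex : ∃ m, c ≤ b * A + m * l := ⟨B, hB'⟩
  refine ⟨Nat.find hex, Nat.find_min' hex hB', ?_, Nat.find_spec hex⟩
  rcases h : Nat.find hex with _ | m
  · simp
  have hmB : m + 1 ≤ B := h ▸ Nat.find_min' hex hB'
  have hlow : b * A + m * l < c := not_le.1 (Nat.find_min hex (by omega))
  rcases hg with hg | hg
  · omega
  refine le_trans ?_ hlow
  have h1 : r * A * (m + 1) ≤ r * A * B := Nat.mul_le_mul_left _ hmB
  rw [hA, hB]
  nlinarith [h1, hg]

theorem exists_dist : ∀ (t A s : ℕ), s ≤ t * A → ∃ j : Fin t → ℕ, (∀ i, j i ≤ A) ∧ ∑ i, j i = s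
  | 0, A, s, h => ⟨fun _ => 0, fun i => i.elim0, by simp at h ⊢; omega⟩
  | t + 1, A, s, h => by
    obtain ⟨j, hj, hs⟩ := exists_dist t A (s - A) (by rw [Nat.succ_mul] at h; omega)
    refine ⟨Fin.cons (min s A) j, fun i => ?_, ?_⟩
    · refine Fin.cases ?_ ?_ i
      · simp
      · intro i; simpa using hj i
    · rw [Fin.sum_cons, hs]; omega

/-- Let a, b ≥ 2 and consider the symmetric group of degree a·b acting on the partitions of an (a·b)-set into b parts of size a (encoded as maps onto a b-element set all of whose fibres have a elements; a permutation fixes such a partition when it permutes the fibres). Let r be a prime dividing the number (ab)!/((a!)^b·b!) of such partitions, and let ℓ and k be the remainders of a and b modulo r. Then every permutation of order r fixes some such partition if and only if r ≤ a and one of the following holds: ℓ = 0; or k = 0 and ℓ = 1; or ℓ and k are non-zero, k·ℓ < r, and either b < r or (k + r)·ℓ ≤ k·a + r. -/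
theorem result (a b : ℕ) (ha : 2 ≤ a) (hb : 2 ≤ b) (r : ℕ) (hr : r.Prime)
    (hrd : r ∣ (a * b).factorial / (a.factorial ^ b * b.factorial)) :
    (∀ σ : Equiv.Perm (Fin (a * b)), orderOf σ = r →
        ∃ f : Fin (a * b) → Fin b, (∀ j : Fin b, Nat.card {x : Fin (a * b) // f x = j} = a) ∧
          ∃ π : Equiv.Perm (Fin b), ∀ x : Fin (a * b), f (σ x) = π (f x)) ↔
      (r ≤ a ∧ (a % r = 0 ∨ (b % r = 0 ∧ a % r = 1) ∨
        (a % r ≠ 0 ∧ b % r ≠ 0 ∧ (b % r) * (a % r) < r ∧ (b < r ∨ (b % r + r) * (a % r) ≤ (b % r) * a + r)))) := by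
  classical
  haveI : Fact r.Prime := ⟨hr⟩
  haveI : NeZero r := ⟨hr.ne_zero⟩
  obtain ⟨A, l, hl, hA, hl'⟩ : ∃ A l, l < r ∧ a = r * A + l ∧ a % r = l :=
    ⟨a / r, a % r, Nat.mod_lt _ hr.pos, (Nat.div_add_mod a r).symm, rfl⟩
  obtain ⟨B, k, hk, hB, hk'⟩ : ∃ B k, k < r ∧ b = r * B + k ∧ b % r = k :=
    ⟨b / r, b % r, Nat.mod_lt _ hr.pos, (Nat.div_add_mod b r).symm, rfl⟩
  rw [hl', hk']
  have hab : a * b = (b * A + B * l) * r + k * l := by rw [hA, hB]; ring
  have hrab : r ≤ a * b := by
    rw [← hr.dvd_factorial]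
    have hd : a.factorial ^ b * b.factorial ∣ (a * b).factorial := by
      refine Dvd.intro_left (Nat.uniformBell b a) ?_
      rw [← mul_assoc, Nat.uniformBell_mul_eq b (by omega : a ≠ 0), mul_comm]
    exact hrd.trans (Nat.div_dvd_of_dvd hd)
  have harith : (r ≤ a ∧ (l = 0 ∨ (k = 0 ∧ l = 1) ∨
      (l ≠ 0 ∧ k ≠ 0 ∧ k * l < r ∧ (b < r ∨ (k + r) * l ≤ k * a + r)))) ↔
      (1 ≤ A ∧ k * l < r ∧ (B = 0 ∨ l ≤ k * A + 1)) := by
    have hA1 : r ≤ a ↔ 1 ≤ A := by
      constructor
      · intro h; by_contra hc
        obtain rfl : A = 0 := by omega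
        simp at hA; omega
      · intro h
        have := Nat.mul_le_mul_left r h
        omega
    have hB0 : b < r ↔ B = 0 := by
      constructor
      · intro h; by_contra hc
        have := Nat.mul_le_mul_left r (show 1 ≤ B by omega)
        omega
      · rintro rfl; simp at hB; omega
    have hdiv : (k + r) * l ≤ k * a + r ↔ l ≤ k * A + 1 := by
      have e1 : (k + r) * l = k * l + r * l := by ring
      have e2 : k * a + r = k * l + r * (k * A + 1) := by rw [hA]; ring
      rw [e1, e2, Nat.add_le_add_iff_left]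
      exact Nat.mul_le_mul_left_iff hr.pos
    rw [hA1, hB0, hdiv]
    constructor
    · rintro ⟨h1, rfl | ⟨rfl, rfl⟩ | ⟨-, -, h2, h3⟩⟩
      · exact ⟨h1, by simp [hr.pos], Or.inr (by omega)⟩
      · exact ⟨h1, by simp [hr.pos], Or.inr (by omega)⟩
      · exact ⟨h1, h2, h3⟩
    · rintro ⟨h1, h2, h3⟩
      refine ⟨h1, ?_⟩
      rcases Nat.eq_zero_or_pos l with h | h
      · exact Or.inl h
      rcases Nat.eq_zero_or_pos k with h' | h'
      · right; left
        subst h'
        refine ⟨rfl, ?_⟩
        rcases h3 with rfl | h3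
        · simp at hB; omega
        · simp at h3; omega
      · exact Or.inr (Or.inr ⟨by omega, by omega, h2, h3⟩)
  rw [harith]
  constructor
  · intro hall
    -- what a fixed partition says about the number of cycles
    have key : ∀ c, 1 ≤ c → c * r ≤ a * b → ∃ m ≤ B, m * a ≤ c ∧ c ≤ m * a + (b - m * r) * A := by
      intro c hc hcr
      have e : Z r c (a * b - c * r) ≃ Fin (a * b) :=
        Fintype.equivFinOfCardEq (by rw [Fintype.card_sum, Fintype.card_prod, Fintype.card_fin, ZMod.card, Fintype.card_fin]; omega)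
      set σ : Equiv.Perm (Fin (a * b)) := e.permCongr (zperm r c (a * b - c * r)) with hσ
      have hne : ∀ y, σ (e y) = e y ↔ ∃ w, y = Sum.inr w := by
        intro y
        simp only [hσ, Equiv.permCongr_apply, Equiv.symm_apply_apply, e.injective.eq_iff]
        rcases y with ⟨u, v⟩ | w <;> simp [zperm]
      have hpow : σ ^ r = 1 := by
        have : (zperm r c (a * b - c * r)) ^ r = 1 := Equiv.ext fun y => by
          rcases y with y | y
          · rw [zperm_pow]; simp
          · rw [zperm_pow']; rfl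
        have hh : σ = e.permCongrHom (zperm r c (a * b - c * r)) := rfl
        rw [hh, ← map_pow, this, map_one]
      have hmoved : Nat.card {x // σ x ≠ x} = c * r := by
        rw [Nat.card_congr ((e.subtypeEquiv (p := fun y => ¬ ∃ w, y = Sum.inr w) fun y => not_congr (hne y).symm).symm)]
        have e2 : {y : Z r c (a * b - c * r) // ¬ ∃ w, y = Sum.inr w} ≃ Fin c × ZMod r :=
          { toFun := fun y => match y with
              | ⟨Sum.inl u, _⟩ => u
              | ⟨Sum.inr w, h⟩ => absurd ⟨w, rfl⟩ h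
            invFun := fun u => ⟨Sum.inl u, fun ⟨w, hw⟩ => Sum.inl_ne_inr hw⟩
            left_inv := fun y => by
              rcases y with ⟨u | w, h⟩
              · rfl
              · exact absurd ⟨w, rfl⟩ h
            right_inv := fun u => rfl }
        rw [Nat.card_congr e2, Nat.card_prod, Nat.card_fin, Nat.card_zmod]
      have hord : orderOf σ = r := orderOf_eq_prime hpow fun h => by
        have : Nat.card {x // σ x ≠ x} = 0 := by simp [h]
        rw [hmoved] at this
        rcases Nat.mul_eq_zero.1 this with h0 | h0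
        · omega
        · exact hr.ne_zero h0
      obtain ⟨f, hf, π, hπ⟩ := hall σ hord
      have hfib : ∀ i, ∃ x, f x = i := fun i => by
        by_contra h
        push Not at h
        have h0 := hf i
        haveI : IsEmpty {x // f x = i} := ⟨fun x => h x.1 x.2⟩
        rw [Nat.card_of_isEmpty] at h0
        omega
      have hfpow : ∀ n x, f ((σ ^ n) x) = (π ^ n) (f x) := fun n x => by
        induction n with
        | zero => rfl
        | succ n ih => rw [pow_succ', Equiv.Perm.mul_apply, hπ, ih, pow_succ', Equiv.Perm.mul_apply]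
      have hπr : π ^ r = 1 := Equiv.ext fun i => by
        obtain ⟨x, rfl⟩ := hfib i
        rw [← hfpow, hpow]; rfl
      obtain ⟨m, hm⟩ := moved_dvd hπr
      have hsum : c * r = ∑ i, Nat.card {x : {x // f x = i} // σ x.1 ≠ x.1} := by
        rw [← hmoved, ← Nat.card_sigma]
        exact Nat.card_congr
          { toFun := fun x => ⟨f x.1, ⟨⟨x.1, rfl⟩, x.2⟩⟩
            invFun := fun x => ⟨x.2.1.1, x.2.2⟩
            left_inv := fun x => rfl
            right_inv := fun ⟨i, ⟨⟨x, hx⟩, h⟩⟩ => by subst hx; rfl }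
      have hM : ∀ i, π i ≠ i → Nat.card {x : {x // f x = i} // σ x.1 ≠ x.1} = a := fun i hi => by
        refine Eq.trans ?_ (hf i)
        refine Nat.card_congr (Equiv.subtypeUnivEquiv fun x h => hi ?_)
        have := hπ x.1
        rw [h, x.2] at this
        exact this.symm
      have hF : ∀ i, π i = i → ∃ j ≤ A, Nat.card {x : {x // f x = i} // σ x.1 ≠ x.1} = r * j := by
        intro i hi
        have hinv : ∀ x, f (σ x) = i ↔ f x = i := fun x => by
          rw [hπ]; exact ⟨fun h => π.injective (h.trans hi.symm), fun h => h.symm ▸ hi⟩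
        set τ : Equiv.Perm {x // f x = i} := σ.subtypePerm hinv with hτ
        have hτr : τ ^ r = 1 := by
          rw [hτ, Equiv.Perm.subtypePerm_pow]
          simp only [hpow]
          exact Equiv.ext fun x => rfl
        obtain ⟨j, hj⟩ := moved_dvd hτr
        have e3 : Nat.card {x : {x // f x = i} // σ x.1 ≠ x.1} = Nat.card {x : {x // f x = i} // τ x ≠ x} :=
          Nat.card_congr (Equiv.subtypeEquivRight fun x => by simp [hτ, Subtype.ext_iff])
        refine ⟨j, ?_, e3.trans hj⟩
        have h1 : r * j ≤ a := by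
          rw [← hj]
          exact le_of_le_of_eq (Nat.card_le_card_of_injective _ Subtype.val_injective) (hf i)
        by_contra hAj
        have := Nat.mul_le_mul_left r (show A + 1 ≤ j by omega)
        rw [mul_add, mul_one] at this
        omega
      choose! j hj hjc using hF
      rw [← Finset.sum_filter_add_sum_filter_not (s := Finset.univ) (p := fun i => π i ≠ i),
        Finset.sum_congr rfl (fun i hi => hM i (Finset.mem_filter.1 hi).2),
        Finset.sum_congr rfl (fun i hi => hjc i (not_not.1 (Finset.mem_filter.1 hi).2)), Finset.sum_const,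
        smul_eq_mul, ← Finset.mul_sum] at hsum
      have hcard : (Finset.univ.filter fun i => π i ≠ i).card = r * m := by
        rw [← hm, Nat.card_eq_fintype_card, Fintype.card_subtype]
      have hle : ∑ i ∈ Finset.univ.filter (fun i => ¬π i ≠ i), j i ≤ (b - m * r) * A := by
        refine le_trans (Finset.sum_le_card_nsmul _ _ A fun i hi => hj i (not_not.1 (Finset.mem_filter.1 hi).2)) ?_
        rw [smul_eq_mul]
        refine Nat.mul_le_mul_right _ ?_
        have := Finset.card_filter_add_card_filter_not (s := (Finset.univ : Finset (Fin b))) (fun i => π i ≠ i)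
        rw [hcard, Finset.card_univ, Fintype.card_fin, mul_comm r m] at this
        omega
      rw [hcard] at hsum
      generalize (∑ i ∈ Finset.univ.filter (fun i => ¬π i ≠ i), j i) = J at hle hsum
      have hc' : c = m * a + J := Nat.eq_of_mul_eq_mul_left hr.pos (by rw [mul_comm] at hsum; rw [hsum]; ring)
      refine ⟨m, ?_, by omega, by omega⟩
      have hmb : r * m ≤ b := by
        rw [← hcard]; exact le_trans (Finset.card_filter_le _ _) (by simp)
      by_contra hmB
      have := Nat.mul_le_mul_left r (show B + 1 ≤ m by omega)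
      rw [mul_add, mul_one] at this
      omega
    -- upper end of the intervals
    have hup : ∀ m ≤ B, m * a + (b - m * r) * A = b * A + m * l := by
      intro m hm
      have h1 : m * r ≤ b := by have := Nat.mul_le_mul_left r hm; rw [mul_comm m r]; omega
      obtain ⟨t, ht⟩ := Nat.exists_eq_add_of_le h1
      rw [ht, Nat.add_sub_cancel_left, hA]; ring
    refine ⟨?_, ?_, ?_⟩
    · by_contra hA0
      obtain rfl : A = 0 := by omega
      obtain ⟨m, -, h1, h2⟩ := key 1 le_rfl (by omega)
      rcases m with _ | m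
      · simp at h2
      · rw [Nat.succ_mul] at h1; omega
    · by_contra hkl
      push Not at hkl
      obtain ⟨m, hm, -, h2⟩ := key (b * A + B * l + 1) (by omega) (by rw [hab, add_mul, one_mul]; omega)
      rw [hup m hm] at h2
      have := Nat.mul_le_mul_right l hm
      omega
    · by_contra hg
      push Not at hg
      obtain ⟨hB0, hl1⟩ := hg
      obtain ⟨B', rfl⟩ : ∃ B', B = B' + 1 := ⟨B - 1, by omega⟩
      have hBa : 2 ≤ (B' + 1) * a := le_trans ha (Nat.le_mul_of_pos_left a (by omega))
      obtain ⟨m, hm, h1, h2⟩ := key ((B' + 1) * a - 1) (by omega) (by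
        refine le_trans (Nat.mul_le_mul_right r (Nat.sub_le _ 1)) ?_
        rw [hB]
        have : (B' + 1) * a * r = a * (r * (B' + 1)) := by ring
        rw [this]
        exact Nat.mul_le_mul_left a (Nat.le_add_right _ _))
      rw [hup m hm] at h2
      rcases Nat.lt_or_ge m (B' + 1) with hm' | hm'
      · have h3 : m * l ≤ B' * l := Nat.mul_le_mul_right l (by omega)
        have h4 : b * A = r * A * (B' + 1) + k * A := by rw [hB]; ring
        have h5 : (B' + 1) * a = r * A * (B' + 1) + B' * l + l := by rw [hA]; ring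
        omega
      · obtain rfl : m = B' + 1 := by omega
        omega
  · rintro ⟨hA1, hkl, hg⟩ σ hσ
    obtain ⟨c, hc⟩ := moved_dvd (r := r) (σ := σ) (by rw [← hσ]; exact pow_orderOf_eq_one σ)
    have hcab : c * r ≤ a * b := by
      rw [mul_comm, ← hc]
      refine le_trans (Finite.card_subtype_le _) ?_
      rw [Nat.card_fin]
    obtain ⟨m, hm, h1, h2⟩ := cover hA hB hkl hg hcab
    have hmr : m * r ≤ b := by have := Nat.mul_le_mul_left r hm; rw [mul_comm m r]; omega
    obtain ⟨t, ht⟩ := Nat.exists_eq_add_of_le hmr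
    obtain ⟨j, hj, hjs⟩ := exists_dist t A (c - m * a) (by
      have : b * A + m * l = m * a + t * A := by rw [ht, hA]; ring
      omega)
    have hja : ∀ i, j i * r ≤ a := fun i => by
      have := Nat.mul_le_mul_right r (hj i)
      rw [mul_comm A r] at this
      omega
    let X := (Fin m × ZMod r × Fin a) ⊕ (Σ i : Fin t, Z r (j i) (a - j i * r))
    let shift : Equiv.Perm (Fin m × ZMod r × Fin a) :=
      Equiv.prodCongr (Equiv.refl _) (Equiv.prodCongr (Equiv.addRight 1) (Equiv.refl _))
    let τ : Equiv.Perm X := Equiv.sumCongr shift (Equiv.sigmaCongrRight fun i => zperm r (j i) (a - j i * r))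
    let f₀ : X → (Fin m × ZMod r) ⊕ Fin t := Sum.map (fun x => (x.1, x.2.1)) Sigma.fst
    let π₀ : Equiv.Perm ((Fin m × ZMod r) ⊕ Fin t) :=
      Equiv.sumCongr (Equiv.prodCongr (Equiv.refl _) (Equiv.addRight 1)) (Equiv.refl _)
    have hcomm : ∀ x, f₀ (τ x) = π₀ (f₀ x) := by
      rintro (⟨u, v, w⟩ | ⟨i, z⟩) <;> rfl
    have hfib : ∀ y, Nat.card {x // f₀ x = y} = a := by
      rintro (⟨u, v⟩ | i)
      · rw [← Nat.card_fin a]
        refine Nat.card_congr
          { toFun := fun x => match x with
              | ⟨Sum.inl p, _⟩ => p.2.2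
              | ⟨Sum.inr q, h⟩ => absurd h Sum.inr_ne_inl
            invFun := fun w => ⟨Sum.inl (u, v, w), rfl⟩
            left_inv := ?_
            right_inv := fun w => rfl }
        rintro ⟨⟨u', v', w⟩ | q, h⟩
        · simp only [f₀, Sum.map_inl, Sum.inl.injEq, Prod.mk.injEq] at h
          obtain ⟨rfl, rfl⟩ := h
          rfl
        · exact absurd h Sum.inr_ne_inl
      · have e4 : Z r (j i) (a - j i * r) ≃ {x // f₀ x = Sum.inr i} := Equiv.ofBijective
          (fun z => ⟨Sum.inr ⟨i, z⟩, rfl⟩) ⟨fun z z' h => eq_of_heq (Sigma.mk.inj_iff.1 (Sum.inr.inj (congrArg Subtype.val h))).2, by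
            rintro ⟨p | ⟨i', z⟩, h⟩
            · exact absurd h Sum.inl_ne_inr
            · obtain rfl : i' = i := Sum.inr.inj h
              exact ⟨z, rfl⟩⟩
        rw [← Nat.card_congr e4, Nat.card_sum, Nat.card_prod, Nat.card_fin, Nat.card_zmod, Nat.card_fin]
        have := hja i
        omega
    have e : X ≃ Fin (a * b) := Fintype.equivFinOfCardEq (by
      have h3 : ∀ i, Fintype.card (Z r (j i) (a - j i * r)) = a := fun i => by
        rw [Fintype.card_sum, Fintype.card_prod, Fintype.card_fin, ZMod.card, Fintype.card_fin]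
        have := hja i
        omega
      rw [Fintype.card_sum, Fintype.card_sigma, Finset.sum_congr rfl fun i _ => h3 i, Finset.sum_const,
        Finset.card_univ, Fintype.card_fin, smul_eq_mul, Fintype.card_prod, Fintype.card_prod, Fintype.card_fin,
        ZMod.card, Fintype.card_fin, ht]
      ring)
    have e5 : (Fin m × ZMod r) ⊕ Fin t ≃ Fin b := Fintype.equivFinOfCardEq (by
      rw [Fintype.card_sum, Fintype.card_prod, Fintype.card_fin, ZMod.card, Fintype.card_fin, ht])
    set τ' : Equiv.Perm (Fin (a * b)) := e.permCongrHom τ with hτ'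
    have happ : ∀ x, τ' (e x) = e (τ x) := fun x => by simp [hτ', Equiv.permCongrHom, Equiv.permCongr_apply]
    have hmov : Nat.card {x // τ' x ≠ x} = r * c := by
      rw [Nat.card_congr ((e.subtypeEquiv (p := fun y => τ y ≠ y) fun y => by rw [happ, ne_eq, ne_eq, e.injective.eq_iff]).symm)]
      rw [Nat.card_congr (Equiv.subtypeSum (p := fun y : X => τ y ≠ y)), Nat.card_sum]
      have hL : Nat.card {p : Fin m × ZMod r × Fin a // τ (Sum.inl p) ≠ Sum.inl p} = m * r * a := by
        rw [Nat.card_congr (Equiv.subtypeUnivEquiv fun p h => ?_), Nat.card_prod, Nat.card_prod, Nat.card_fin,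
          Nat.card_zmod, Nat.card_fin, mul_assoc]
        have h' := congrArg (fun z : X => Sum.elim (fun q => q.2.1) (fun _ => (0 : ZMod r)) z) h
        have h'' : p.2.1 + 1 = p.2.1 := h'
        simp at h''
      have hR : Nat.card {q : Σ i : Fin t, Z r (j i) (a - j i * r) // τ (Sum.inr q) ≠ Sum.inr q} = ∑ i, j i * r := by
        rw [show ∑ i, j i * r = Nat.card (Σ i : Fin t, Fin (j i) × ZMod r) by
          rw [Nat.card_sigma]; simp [Nat.card_eq_fintype_card]]
        refine Nat.card_congr
          { toFun := fun q => match q with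
              | ⟨⟨i, Sum.inl u⟩, _⟩ => ⟨i, u⟩
              | ⟨⟨i, Sum.inr w⟩, h⟩ => absurd rfl h
            invFun := fun u => ⟨⟨u.1, Sum.inl u.2⟩, fun h => by
              have h' := Sum.inr.inj h
              have h'' := eq_of_heq (Sigma.mk.inj_iff.1 h').2
              simp [zperm, Prod.ext_iff] at h''⟩
            left_inv := ?_
            right_inv := fun u => rfl }
        rintro ⟨⟨i, u | w⟩, h⟩
        · rfl
        · exact absurd rfl h
      rw [hL, hR, ← Finset.sum_mul, hjs]
      have : c - m * a + m * a = c := Nat.sub_add_cancel h1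
      calc m * r * a + (c - m * a) * r = (c - m * a + m * a) * r := by ring
        _ = r * c := by rw [this, mul_comm]
    have hτr : τ' ^ r = 1 := by
      rw [hτ', ← map_pow]
      have : τ ^ r = 1 := Equiv.ext fun x => by
        have hs : ∀ n : ℕ, ∀ p : Fin m × ZMod r × Fin a, (τ ^ n) (Sum.inl p) = Sum.inl (p.1, p.2.1 + n, p.2.2) := by
          intro n p
          induction n with
          | zero => simp
          | succ n ih => rw [pow_succ', Equiv.Perm.mul_apply, ih]; show Sum.inl (p.1, p.2.1 + (n : ZMod r) + 1, p.2.2) = _; simp [add_assoc]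
        have hz : ∀ n : ℕ, ∀ q : Σ i : Fin t, Z r (j i) (a - j i * r),
            (τ ^ n) (Sum.inr q) = Sum.inr ⟨q.1, (zperm _ _ _ ^ n) q.2⟩ := by
          intro n q
          induction n with
          | zero => rfl
          | succ n ih => rw [pow_succ', Equiv.Perm.mul_apply, ih, pow_succ']; rfl
        rcases x with p | ⟨i, u | w⟩
        · rw [hs]; simp
        · rw [hz, zperm_pow]; simp
        · rw [hz, zperm_pow']; rfl
      rw [this, map_one]
    have hτ1 : τ' ≠ 1 := fun h => by
      have : Nat.card {x // τ' x ≠ x} = 0 := by simp [h]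
      rw [hmov, ← hc] at this
      have hσ0 : σ = 1 := Equiv.ext fun x => by
        by_contra hx
        haveI hne' : Nonempty {x // σ x ≠ x} := ⟨⟨x, hx⟩⟩
        exact Nat.card_pos.ne' this
      rw [hσ0, orderOf_one] at hσ
      exact hr.one_lt.ne hσ
    obtain ⟨g, hg'⟩ := isConj_iff.1 (conj_of_moved (orderOf_eq_prime hτr hτ1) hσ (hmov.trans hc.symm))
    refine ⟨fun x => e5 (f₀ (e.symm (g⁻¹ x))), fun i => ?_, e5.permCongrHom π₀, fun x => ?_⟩
    · refine Eq.trans ?_ (hfib (e5.symm i))
      exact Nat.card_congr ((g⁻¹ : Equiv.Perm _).trans e.symm |>.subtypeEquiv fun x => by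
        simp [Equiv.eq_symm_apply])
    · have h3 : g⁻¹ (σ x) = τ' (g⁻¹ x) := by rw [← hg']; simp
      have h4 : τ' (g⁻¹ x) = e (τ (e.symm (g⁻¹ x))) := by rw [← happ, e.apply_symm_apply]
      show e5 (f₀ (e.symm (g⁻¹ (σ x)))) = _
      rw [h3, h4, e.symm_apply_apply, hcomm]
      simp [Equiv.permCongrHom, Equiv.permCongr_apply]

end Cfsg.Agent.S3575
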