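import Cfsg.Statements.S3580
import Cfsg.Agent.Lib.SylowFixedRatio

set_option autoImplicit false
open scoped Pointwise
open Cfsg

namespace Cfsg.Agent.S3580

open Cfsg.Agent.SylowFixedRatio in
/-- In a faithful transitive action every point is moved by some Sylow `p`-subgroup, and so the
fixed-point ratio applies. -/
theorem fixed_le {G : Type*} [Group G] [Finite G] {Ω' : Type*} [MulAction G Ω'] [Finite Ω']
    [FaithfulSMul G Ω'] (htrans : MulAction.IsPretransitive G Ω') (p : ℕ) [Fact p.Prime]
    (hpG : p ∣ Nat.card G) (P : Sylow p G) :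
    (2 * p - 1) * Nat.card (MulAction.fixedPoints (P : Subgroup G) Ω') ≤ (p - 1) * Nat.card Ω' := by
  rcases isEmpty_or_nonempty Ω' with h | h
  · simp
  obtain ⟨a₀⟩ := h
  -- transport the action to the cosets, a type in the universe of `G`
  haveI := htrans
  have he : ∀ (g : G) (q : G ⧸ MulAction.stabilizer G a₀),
      MulAction.ofQuotientStabilizer G a₀ (g • q) = g • MulAction.ofQuotientStabilizer G a₀ q :=
    fun g q => MulAction.ofQuotientStabilizer_smul G a₀ g q
  have hbij : Function.Bijective (MulAction.ofQuotientStabilizer G a₀) := by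
    refine ⟨MulAction.injective_ofQuotientStabilizer G a₀, fun b => ?_⟩
    obtain ⟨g, rfl⟩ := MulAction.exists_smul_eq G a₀ b
    exact ⟨g, rfl⟩
  let F := Equiv.ofBijective _ hbij
  have hfix : ∀ (R : Sylow p G) (q : G ⧸ MulAction.stabilizer G a₀),
      R ∈ fixSyl p G q ↔ ∀ x ∈ (R : Subgroup G), x • F q = F q := by
    intro R q
    rw [mem_fixSyl]
    refine forall₂_congr fun x _ => ?_
    show x • q = q ↔ x • MulAction.ofQuotientStabilizer G a₀ q = _
    rw [← he]
    exact ⟨fun h => by rw [h]; rfl, fun h => hbij.1 h⟩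
  have hng : ∀ q : G ⧸ MulAction.stabilizer G a₀, ∃ R : Sylow p G, R ∉ fixSyl p G q := by
    intro q
    by_contra hall
    push_neg at hall
    obtain ⟨y, hy⟩ := exists_prime_orderOf_dvd_card' p hpG
    have hyp : IsPGroup p (Subgroup.zpowers y) :=
      IsPGroup.of_card (n := 1) (by rw [Nat.card_zpowers, hy, pow_one])
    obtain ⟨R, hR⟩ := hyp.exists_le_sylow
    have hy1 : y = 1 := by
      apply FaithfulSMul.eq_of_smul_eq_smul (α := Ω')
      intro b
      obtain ⟨g, rfl⟩ := MulAction.exists_smul_eq G (F q) b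
      rw [one_smul]
      have h := (hfix _ q).mp (hall (g⁻¹ • R)) (g⁻¹ * y * g) ?_
      · rw [mul_smul, mul_smul, inv_smul_eq_iff] at h
        exact h
      · have hc : ((g⁻¹ • R : Sylow p G) : Subgroup G) = MulAut.conj g⁻¹ • (R : Subgroup G) :=
          Sylow.coe_subgroup_smul
        rw [hc]
        have h2 := Subgroup.smul_mem_pointwise_smul y (MulAut.conj g⁻¹) (R : Subgroup G)
          (hR (Subgroup.mem_zpowers y))
        simpa [MulAut.smul_def] using h2
    rw [hy1, orderOf_one] at hy
    exact (Fact.out : p.Prime).ne_one hy.symm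
  have h := fixed_ratio (p := p) hng P
  rwa [Nat.card_congr F, Nat.card_congr (Equiv.subtypeEquiv F (fun q => ?_) :
    {q // P ∈ fixSyl p G q} ≃ MulAction.fixedPoints (P : Subgroup G) Ω')] at h
  rw [hfix P q]
  exact ⟨fun h x => h x.1 x.2, fun h x hx => h ⟨x, hx⟩⟩

/-- Orbits of a `p`-group are singletons or have at least `p` points. -/
theorem orbit_count {P : Type*} [Group P] {p : ℕ} [Fact p.Prime] (hP : IsPGroup p P) {α : Type*}
    [MulAction P α] [Finite α] :
    p * Nat.card (MulAction.orbitRel.Quotient P α)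
      ≤ Nat.card α + (p - 1) * Nat.card (MulAction.fixedPoints P α) := by
  classical
  haveI := Fintype.ofFinite α
  haveI := Fintype.ofFinite (MulAction.orbitRel.Quotient P α)
  have hp := (Fact.out : p.Prime).two_le
  have hn := Nat.card_congr (MulAction.selfEquivSigmaOrbits P α)
  rw [Nat.card_sigma] at hn
  set S := (Finset.univ : Finset (MulAction.orbitRel.Quotient P α)).filter
    (fun ω => (Quotient.out ω : α) ∈ MulAction.fixedPoints P α) with hS
  have hterm : ∀ ω : MulAction.orbitRel.Quotient P α,
      p ≤ Nat.card (MulAction.orbit P (Quotient.out ω : α)) + (if ω ∈ S then p - 1 else 0) := by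
    intro ω
    obtain ⟨k, hk⟩ := hP.card_orbit (Quotient.out ω : α)
    rcases Nat.eq_zero_or_pos k with rfl | hk0
    · have hfixed : (Quotient.out ω : α) ∈ MulAction.fixedPoints P α := by
        intro g
        rw [pow_zero, Nat.card_coe_set_eq, Set.ncard_eq_one] at hk
        obtain ⟨b, hb⟩ := hk
        have h1 : g • (Quotient.out ω : α) ∈ ({b} : Set α) := hb ▸ MulAction.mem_orbit _ g
        have h2 : (Quotient.out ω : α) ∈ ({b} : Set α) := hb ▸ MulAction.mem_orbit_self _
        rw [Set.mem_singleton_iff.mp h1, Set.mem_singleton_iff.mp h2]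
      rw [hk, pow_zero, if_pos (Finset.mem_filter.mpr ⟨Finset.mem_univ ω, hfixed⟩)]
      omega
    · rw [hk]
      exact le_add_right (Nat.le_self_pow hk0.ne' p)
  have hcard : S.card ≤ Nat.card (MulAction.fixedPoints P α) := by
    rw [← Nat.card_eq_finsetCard]
    refine Nat.card_le_card_of_injective
      (fun ω : S => (⟨Quotient.out ω.1, (Finset.mem_filter.mp ω.2).2⟩ :
        MulAction.fixedPoints P α)) ?_
    intro ω ω' h
    exact Subtype.ext (Quotient.out_inj.mp (congrArg Subtype.val h))
  calc p * Nat.card (MulAction.orbitRel.Quotient P α)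
      = ∑ _ω : MulAction.orbitRel.Quotient P α, p := by
        rw [Finset.sum_const, Finset.card_univ, smul_eq_mul, Nat.card_eq_fintype_card]; ring
    _ ≤ ∑ ω : MulAction.orbitRel.Quotient P α,
          (Nat.card (MulAction.orbit P (Quotient.out ω : α)) + (if ω ∈ S then p - 1 else 0)) :=
        Finset.sum_le_sum fun ω _ => hterm ω
    _ = Nat.card α + S.card * (p - 1) := by
        rw [Finset.sum_add_distrib, hn, Finset.sum_ite_mem, Finset.univ_inter, Finset.sum_const,
          smul_eq_mul]
    _ ≤ Nat.card α + (p - 1) * Nat.card (MulAction.fixedPoints P α) := by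
        rw [mul_comm S.card]
        exact Nat.add_le_add_left (Nat.mul_le_mul_left _ hcard) _

/-- Let G act faithfully and transitively on a finite set Ω, let p be an odd prime dividing the order of G and P a Sylow p-subgroup of G. Then the number of orbits of P on Ω is at most (p/(2p − 1))·(number of points). -/
theorem result {G Ω : Type*} [Group G] [Finite G] [MulAction G Ω] [FaithfulSMul G Ω] [Finite Ω]
    (htrans : MulAction.IsPretransitive G Ω) (p : ℕ) [Fact p.Prime] (hp2 : p ≠ 2) (hpG : p ∣ Nat.card G)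
    (P : Sylow p G) :
    (2 * p - 1) * Nat.card (MulAction.orbitRel.Quotient ↥(P : Subgroup G) Ω) ≤ p * Nat.card Ω := by
  have h1 := fixed_le (Ω' := Ω) htrans p hpG P
  have h2 := orbit_count P.2 (α := Ω)
  set r := Nat.card (MulAction.orbitRel.Quotient ↥(P : Subgroup G) Ω)
  set f := Nat.card (MulAction.fixedPoints (P : Subgroup G) Ω)
  set n := Nat.card Ω
  obtain ⟨q, rfl⟩ : ∃ q, p = q + 1 := ⟨p - 1, by have := (Fact.out : p.Prime).two_le; omega⟩
  have e : 2 * (q + 1) - 1 = 2 * q + 1 := by omega
  rw [e] at h1 ⊢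
  simp only [Nat.add_sub_cancel] at h1 h2
  refine Nat.le_of_mul_le_mul_left ?_ (Nat.succ_pos q)
  nlinarith

end Cfsg.Agent.S3580
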