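import Cfsg.Statements.S3596
import Cfsg.Agent.Lib.M24Det.Main
import Cfsg.Agent.Lib.M24Det.Table

set_option autoImplicit false
open Cfsg

namespace Cfsg.Agent.S3596

/-- Let M be the Mathieu group M₂₄ (order 244823040). If a finite group G has the same order as M and the same set of values of the function 'number of elements of order n' (taken over the element orders n that occur), then G is isomorphic to M. -/
theorem result {G : Type*} [Group G] [Finite G]
    (hcard : Nat.card G = Nat.card ↥Cfsg.M24)
    (hnse : {c : ℕ | 0 < c ∧ ∃ n : ℕ, c = Nat.card {g : G // orderOf g = n}} =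
      {c : ℕ | 0 < c ∧ ∃ n : ℕ, c = Nat.card {g : ↥Cfsg.M24 // orderOf g = n}}) :
    Nonempty (G ≃* ↥Cfsg.M24) := by
  have : Nat.card G = 244823040 := hcard.trans CfsgM24Det.card_M
  refine CfsgM24Det.nonempty_iso ⟨this, fun c => ?_⟩
  have h : c ∈ {c : ℕ | 0 < c ∧ ∃ n : ℕ, c = Nat.card {g : G // orderOf g = n}} ↔
      c ∈ {c : ℕ | c ∈ CfsgM24Det.target.map Prod.snd} := by
    rw [hnse]
    exact Set.ext_iff.mp CfsgM24Det.values_M c
  refine h.trans ?_
  show c ∈ CfsgM24Det.target.map Prod.snd ↔ c ∈ CfsgM24Det.vals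
  simp only [CfsgM24Det.target, CfsgM24Det.vals, List.map_cons, List.map_nil, List.mem_cons, List.not_mem_nil,
    or_false, Finset.mem_insert, Finset.mem_singleton]

end Cfsg.Agent.S3596
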