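import Cfsg.Statements.S3599
import Cfsg.Agent.Lib.CriticalProducts
-- import your own Cfsg.Agent.* helpers here

set_option autoImplicit false
open Cfsg

namespace Cfsg.Agent.S3599

/-- A finite group is critical with respect to a set Ω of natural numbers when its set of element orders is Ω while no proper section H/N (H a subgroup, N normal in H, (H, N) ≠ (whole group, 1)) has Ω as its set of element orders. Let s ≥ 1 and let p(j,0), p(j,1) (j < s) be 2s pairwise distinct primes, and let Ω be the set of all products c(0)·…·c(s−1) with each c(j) ∈ {1, p(j,0), p(j,1)}. Then there are 2^s pairwise non-isomorphic finite groups critical with respect to Ω. -/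
theorem result (s : ℕ) (hs : 1 ≤ s) (p : Fin s → Fin 2 → ℕ)
    (hp : ∀ j i, (p j i).Prime) (hinj : ∀ j i j' i', p j i = p j' i' → j = j' ∧ i = i') :
    ∃ (G : Fin (2 ^ s) → Type) (_ : ∀ a, Group (G a)) (_ : ∀ a, Fintype (G a)),
      (∀ a b, a ≠ b → ¬ Nonempty (G a ≃* G b)) ∧
      ∀ a, Set.range (orderOf : (G a) → ℕ) = {m : ℕ | ∃ c : Fin s → ℕ, (∀ j, c j = 1 ∨ c j = p j 0 ∨ c j = p j 1) ∧ m = ∏ j, c j} ∧
      ∀ (H : Subgroup (G a)) (N : Subgroup ↥H) [N.Normal], (H ≠ ⊤ ∨ N ≠ ⊥) → Set.range (orderOf : (↥H ⧸ N) → ℕ) ≠ {m : ℕ | ∃ c : Fin s → ℕ, (∀ j, c j = 1 ∨ c j = p j 0 ∨ c j = p j 1) ∧ m = ∏ j, c j} := by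
  classical
  have hne : ∀ (j : Fin s) (i : Fin 2), p j i ≠ p j i.rev := fun j i h => by
    have := (hinj j i j i.rev h).2
    revert this; fin_cases i <;> decide
  let c : Fin (2 ^ s) ≃ (Fin s → Fin 2) := finFunctionFinEquiv.symm
  have hex : ∀ (j : Fin s) (i : Fin 2), _ := fun j i =>
    CfsgLib.CriticalProd.exists_factor (p j i) (p j i.rev) (hp j i) (hp j i.rev) (hne j i)
  choose F iG iF hcases hP hcomm hnc hfull hnormal using hex
  letI : ∀ (j : Fin s) (i : Fin 2), Group (F j i) := iG
  letI : ∀ (j : Fin s) (i : Fin 2), Fintype (F j i) := iF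
  have hcases' : ∀ j i (x : F j i), orderOf x = 1 ∨ orderOf x = p j 0 ∨ orderOf x = p j 1 := by
    intro j i x
    rcases hcases j i x with h | h | h
    · exact Or.inl h
    · fin_cases i
      · exact Or.inr (Or.inl h)
      · exact Or.inr (Or.inr h)
    · fin_cases i
      · exact Or.inr (Or.inr h)
      · exact Or.inr (Or.inl h)
  have hq : ∀ j i, ∃ x : F j i, orderOf x = p j i.rev := fun j i => by
    obtain ⟨x, y, hx, -, -⟩ := hnc j i
    exact ⟨x, hx⟩
  have hany : ∀ j i (k : Fin 2), ∃ x : F j i, orderOf x = p j k := fun j i k => by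
    by_cases h : k = i
    · subst h; exact hP j k
    · obtain rfl : k = i.rev := by revert h; fin_cases i <;> fin_cases k <;> decide
      exact hq j i
  have hpp : ∀ j k j' k', j ≠ j' → (p j k).Coprime (p j' k') := fun j k j' k' h =>
    (Nat.coprime_primes (hp j k) (hp j' k')).mpr fun e => h (hinj _ _ _ _ e).1
  have hcop : ∀ (v : Fin s → Fin 2) (i j : Fin s), i ≠ j → ∀ (x : F i (v i)) (y : F j (v j)),
      (orderOf x).Coprime (orderOf y) := fun v i j hij x y => by
    rcases hcases' _ _ x with h | h | h <;> rcases hcases' _ _ y with h' | h' | h' <;>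
      first
        | (rw [h]; exact Nat.coprime_one_left _)
        | (rw [h']; exact Nat.coprime_one_right _)
        | (rw [h, h']; exact hpp _ _ _ _ hij)
  refine ⟨fun a => ∀ j, F j (c a j), fun a => inferInstance, fun a => inferInstance, ?_, fun a => ?_⟩
  · -- pairwise different
    intro a b hab ⟨e⟩
    obtain ⟨j, hj⟩ : ∃ j, c a j ≠ c b j := Function.ne_iff.mp fun h => hab (c.injective h)
    -- elements of the first prime commute in the first group
    have hone : ∀ (x : ∀ j, F j (c a j)), orderOf x = p j (c a j) → ∀ i, i ≠ j → x i = 1 := by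
      intro x hx i hi
      rw [← orderOf_eq_one_iff]
      have h1 : orderOf (x i) ∣ p j (c a j) := (orderOf_map_dvd (Pi.evalMonoidHom _ i) x).trans hx.dvd
      rcases hcases' i _ (x i) with h | h | h
      · exact h
      · exact Nat.eq_one_of_dvd_coprimes (hpp _ _ _ _ (Ne.symm hi)) h1 (h.dvd)
      · exact Nat.eq_one_of_dvd_coprimes (hpp _ _ _ _ (Ne.symm hi)) h1 (h.dvd)
    have hcab : p j (c a j) = p j (c b j).rev := by
      congr 1
      revert hj
      generalize c a j = u
      generalize c b j = v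
      revert u v; decide
    obtain ⟨x, y, hx, hy, hxy⟩ := hnc j (c b j)
    refine hxy ?_
    have hord : ∀ z : F j (c b j), orderOf (e.symm (Pi.mulSingle j z)) = orderOf z := fun z => by
      rw [MulEquiv.orderOf_eq]
      exact orderOf_injective (MonoidHom.mulSingle (fun j => F j (c b j)) j) (Pi.mulSingle_injective (M := fun j => F j (c b j)) j) z
    have hxa := hone _ ((hord x).trans (hx.trans hcab.symm))
    have hya := hone _ ((hord y).trans (hy.trans hcab.symm))
    have hjo : ∀ z : ∀ j, F j (c a j), orderOf z = p j (c a j) → (∀ i, i ≠ j → z i = 1) →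
        orderOf (z j) = p j (c a j) := fun z hz h1 => by
      rw [← hz]
      conv_rhs => rw [CfsgLib.CriticalProd.orderOf_pi (hcop (c a))]
      rw [Finset.prod_eq_single j (fun i _ hi => by rw [h1 i hi, orderOf_one]) (fun h => absurd (Finset.mem_univ j) h)]
    have hcm : e.symm (Pi.mulSingle j x) * e.symm (Pi.mulSingle j y) =
        e.symm (Pi.mulSingle j y) * e.symm (Pi.mulSingle j x) := funext fun i => by
      rw [Pi.mul_apply, Pi.mul_apply]
      by_cases hi : i = j
      · subst hi
        exact hcomm _ _ _ _ (hjo _ ((hord x).trans (hx.trans hcab.symm)) hxa)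
          (hjo _ ((hord y).trans (hy.trans hcab.symm)) hya)
      · rw [hxa i hi, hya i hi]
    rw [← map_mul, ← map_mul, e.symm.injective.eq_iff] at hcm
    have := congrFun hcm j
    simpa using this
  -- spectrum and criticality
  have hspec : Set.range (orderOf : (∀ j, F j (c a j)) → ℕ) =
      {m : ℕ | ∃ d : Fin s → ℕ, (∀ j, d j = 1 ∨ d j = p j 0 ∨ d j = p j 1) ∧ m = ∏ j, d j} := by
    ext m
    constructor
    · rintro ⟨x, rfl⟩
      exact ⟨fun j => orderOf (x j), fun j => hcases' _ _ _, CfsgLib.CriticalProd.orderOf_pi (hcop (c a)) x⟩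
    · rintro ⟨d, hd, rfl⟩
      have hd' : ∀ j, ∃ x : F j (c a j), orderOf x = d j := fun j => by
        rcases hd j with h | h | h
        · exact ⟨1, by rw [h, orderOf_one]⟩
        · rw [h]; exact hany j _ 0
        · rw [h]; exact hany j _ 1
      choose x hx using hd'
      exact ⟨x, by rw [CfsgLib.CriticalProd.orderOf_pi (hcop (c a))]; exact Finset.prod_congr rfl fun j _ => hx j⟩
  refine ⟨hspec, fun H N hN hproper heq => ?_⟩
  -- each prime occurs in the section
  have hocc : ∀ j k, ∃ x : ↥H ⧸ N, orderOf x = p j k := by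
    intro j k
    have hm : p j k ∈ {m : ℕ | ∃ d : Fin s → ℕ, (∀ j, d j = 1 ∨ d j = p j 0 ∨ d j = p j 1) ∧ m = ∏ j, d j} := by
      refine ⟨Function.update (fun _ => 1) j (p j k), fun i => ?_, ?_⟩
      · by_cases hi : i = j
        · subst hi
          rw [Function.update_self]
          fin_cases k <;> simp
        · rw [Function.update_of_ne hi]; exact Or.inl rfl
      · rw [Finset.prod_eq_single j (fun i _ hi => by rw [Function.update_of_ne hi])
          (fun h => absurd (Finset.mem_univ j) h), Function.update_self]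
    rw [← heq] at hm
    exact hm
  -- elements of these orders in the subgroup
  have hlift : ∀ j k, ∃ z : F j (c a j), Pi.mulSingle j z ∈ H ∧ orderOf z = p j k := by
    intro j k
    obtain ⟨x, hx⟩ := hocc j k
    haveI : Fact (p j k).Prime := ⟨hp j k⟩
    have hdvd : p j k ∣ Nat.card H := by
      rw [← hx]
      exact (orderOf_dvd_natCard x).trans (Subgroup.card_quotient_dvd_card N)
    obtain ⟨y, hy⟩ := exists_prime_orderOf_dvd_card' (G := H) (p j k) hdvd
    rw [← Subgroup.orderOf_coe, CfsgLib.CriticalProd.orderOf_pi (hcop (c a))] at hy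
    have hd : orderOf ((y : ∀ j, F j (c a j)) j) = p j k := by
      have h1 : ∀ i, orderOf ((y : ∀ j, F j (c a j)) i) ∣ p j k := fun i =>
        hy ▸ Finset.dvd_prod_of_mem (fun i => orderOf ((y : ∀ j, F j (c a j)) i)) (Finset.mem_univ i)
      rcases (Nat.dvd_prime (hp j k)).mp (h1 j) with h | h
      · exfalso
        have : ∀ i, orderOf ((y : ∀ j, F j (c a j)) i) = 1 := fun i => by
          by_cases hi : i = j
          · subst hi; exact h
          · rcases hcases' i _ ((y : ∀ j, F j (c a j)) i) with h' | h' | h'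
            · exact h'
            · exact Nat.eq_one_of_dvd_coprimes (hpp _ _ _ _ (Ne.symm hi)) (h1 i) h'.dvd
            · exact Nat.eq_one_of_dvd_coprimes (hpp _ _ _ _ (Ne.symm hi)) (h1 i) h'.dvd
        rw [Finset.prod_eq_one fun i _ => this i] at hy
        exact (hp j k).one_lt.ne hy
      · exact h
    exact ⟨_, CfsgLib.CriticalProd.single_mem (hcop (c a)) H y.2 j, hd⟩
  have hH : H = ⊤ := by
    rw [eq_top_iff]
    intro x _
    rw [← Finset.noncommProd_mulSingle x]
    refine Subgroup.noncommProd_mem _ _ fun j _ => ?_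
    have htop : H.comap (MonoidHom.mulSingle (fun j => F j (c a j)) j) = ⊤ := by
      refine hfull j (c a j) _ ?_ ?_
      · obtain ⟨z, hz, hz'⟩ := hlift j (c a j); exact ⟨z, hz, hz'⟩
      · obtain ⟨z, hz, hz'⟩ := hlift j (c a j).rev; exact ⟨z, hz, hz'⟩
    exact Subgroup.mem_comap.mp (htop.ge (Subgroup.mem_top (x j)))
  have hN0 : N ≠ ⊥ := hproper.resolve_left (fun h => h hH)
  subst hH
  -- a factor meeting the normal subgroup
  obtain ⟨y, hyN, hy1⟩ : ∃ y ∈ N, y ≠ 1 := by
    by_contra h
    push Not at h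
    exact hN0 (N.eq_bot_iff_forall.mpr h)
  obtain ⟨j, hj⟩ : ∃ j, (y : ∀ j, F j (c a j)) j ≠ 1 := Function.ne_iff.mp fun h => hy1 (Subtype.ext h)
  let M : Subgroup (∀ j, F j (c a j)) := N.map (Subgroup.subtype _)
  have hMn : M.Normal := ⟨by
    rintro _ ⟨z, hz, rfl⟩ g
    exact ⟨_, hN.conj_mem z hz ⟨g, Subgroup.mem_top g⟩, rfl⟩⟩
  have hMj : Pi.mulSingle j ((y : ∀ j, F j (c a j)) j) ∈ M :=
    CfsgLib.CriticalProd.single_mem (hcop (c a)) M ⟨y, hyN, rfl⟩ j
  set P := p j (c a j) with hP'
  have hall : ∀ z : ∀ j, F j (c a j), orderOf z = P → z ∈ M := by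
    intro z hz
    have h1 : ∀ i, i ≠ j → z i = 1 := fun i hi => by
      rw [← orderOf_eq_one_iff]
      have h1 : orderOf (z i) ∣ P := (orderOf_map_dvd (Pi.evalMonoidHom _ i) z).trans hz.dvd
      rcases hcases' i _ (z i) with h | h | h
      · exact h
      · exact Nat.eq_one_of_dvd_coprimes (hpp _ _ _ _ (Ne.symm hi)) h1 (h.dvd)
      · exact Nat.eq_one_of_dvd_coprimes (hpp _ _ _ _ (Ne.symm hi)) h1 (h.dvd)
    have hzj : orderOf (z j) = P := by
      rw [← hz]
      conv_rhs => rw [CfsgLib.CriticalProd.orderOf_pi (hcop (c a))]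
      rw [Finset.prod_eq_single j (fun i _ hi => by rw [h1 i hi, orderOf_one]) (fun h => absurd (Finset.mem_univ j) h)]
    have hcn : (M.comap (MonoidHom.mulSingle (fun j => F j (c a j)) j)).Normal := hMn.comap _
    have hmem := hnormal j (c a j) _ hcn (fun h => hj (by
      have h' : (y : ∀ j, F j (c a j)) j ∈ M.comap (MonoidHom.mulSingle (fun j => F j (c a j)) j) := hMj
      rw [h] at h'
      exact Subgroup.mem_bot.mp h')) (z j) hzj
    have hz' : z = Pi.mulSingle j (z j) := funext fun i => by
      by_cases hi : i = j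
      · subst hi; rw [Pi.mulSingle_eq_same]
      · rw [Pi.mulSingle_eq_of_ne hi, h1 i hi]
    rw [hz']; exact hmem
  -- so the section has no element of that order
  obtain ⟨x, hx⟩ : ∃ x, orderOf (x : ↥(⊤ : Subgroup (∀ j, F j (c a j))) ⧸ N) = P := hocc j (c a j)
  obtain ⟨g, rfl⟩ := QuotientGroup.mk'_surjective N x
  haveI : Fact P.Prime := ⟨hp _ _⟩
  obtain ⟨m, hm⟩ : P ∣ orderOf (g : ∀ j, F j (c a j)) := by
    rw [Subgroup.orderOf_coe, ← hx]
    exact orderOf_map_dvd _ g
  obtain ⟨d, hd, hdm⟩ : ∃ d : Fin s → ℕ, (∀ j, d j = 1 ∨ d j = p j 0 ∨ d j = p j 1) ∧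
      orderOf (g : ∀ j, F j (c a j)) = ∏ j, d j := hspec.le ⟨_, rfl⟩
  have hm0 : m ≠ 0 := fun h => (orderOf_pos (g : ∀ j, F j (c a j))).ne' (by rw [hm, h, mul_zero])
  -- the power of order the first prime lies in the normal subgroup
  have hgm : ((g : ∀ j, F j (c a j))) ^ m ∈ M := hall _ (by
    rw [orderOf_pow' _ hm0, hm, Nat.gcd_eq_right (dvd_mul_left _ _), Nat.mul_div_cancel _ (Nat.pos_of_ne_zero hm0)])
  obtain ⟨n, hn, hne'⟩ := hgm
  have hgN : g ^ m ∈ N := by
    have : n = g ^ m := Subtype.ext hne'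
    exact this ▸ hn
  have hPm : P ∣ m := by
    rw [← hx]
    refine orderOf_dvd_of_pow_eq_one ?_
    rw [← map_pow]
    exact (QuotientGroup.eq_one_iff _).mpr hgN
  -- but the order is squarefree
  have hsf : Squarefree (orderOf (g : ∀ j, F j (c a j))) := by
    rw [hdm]
    have hs : ∀ t : Finset (Fin s), Squarefree (∏ j ∈ t, d j) := by
      intro t
      induction t using Finset.induction_on with
      | empty => simp
      | insert i t hi ih =>
        rw [Finset.prod_insert hi]
        have hcp : ∀ i', i' ∈ t → (d i).Coprime (d i') := fun i' hi' => by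
          have hne : i ≠ i' := fun h => hi (h ▸ hi')
          rcases hd i with h | h | h <;> rcases hd i' with h' | h' | h' <;>
            first
              | (rw [h]; exact Nat.coprime_one_left _)
              | (rw [h']; exact Nat.coprime_one_right _)
              | (rw [h, h']; exact hpp _ _ _ _ hne)
        refine Nat.squarefree_mul_iff.mpr ⟨Nat.Coprime.prod_right hcp, ?_, ih⟩
        rcases hd i with h | h | h
        · rw [h]; exact squarefree_one
        · rw [h]; exact (hp i 0).prime.squarefree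
        · rw [h]; exact (hp i 1).prime.squarefree
    exact hs Finset.univ
  exact (hp j (c a j)).not_isUnit (hsf P (by rw [hm]; exact mul_dvd_mul_left _ hPm))

end Cfsg.Agent.S3599
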