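import Cfsg.Statements.S3600
import Cfsg.Agent.Lib.SpecFive.Affine
import Cfsg.Agent.S3433

set_option autoImplicit false
open Cfsg

namespace Cfsg.Agent.S3600

/-- A finite group is critical with respect to a set Ω of natural numbers when its set of element orders is Ω while no proper section has Ω as its set of element orders. A finite group critical with respect to {1, 2, 3, 4, 5} (the set of element orders of the alternating group of degree 6) is isomorphic either to the alternating group of degree 6 or to the affine group F² ⋊ SL(2,F) over the field F with four elements (realised as the matrices of SL(3,F) with last row (0, 0, 1)). -/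
theorem result {G : Type*} [Group G] [Finite G]
    (hcrit : Set.range (orderOf : G → ℕ) = ({1, 2, 3, 4, 5} : Set ℕ) ∧
      ∀ (H : Subgroup G) (N : Subgroup ↥H) [N.Normal], (H ≠ ⊤ ∨ N ≠ ⊥) → Set.range (orderOf : (↥H ⧸ N) → ℕ) ≠ ({1, 2, 3, 4, 5} : Set ℕ)) :
    Nonempty (G ≃* alternatingGroup (Fin 6)) ∨
      ∃ (F : Type) (_ : Field F) (_ : Fintype F), Fintype.card F = 4 ∧
        Nonempty (G ≃* ↥(Subgroup.closure {M : Matrix.SpecialLinearGroup (Fin 3) F |
          (M : Matrix (Fin 3) (Fin 3) F) 2 0 = 0 ∧ (M : Matrix (Fin 3) (Fin 3) F) 2 1 = 0 ∧ (M : Matrix (Fin 3) (Fin 3) F) 2 2 = 1})) := by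
  classical
  haveI : Fact (Nat.Prime 2) := ⟨Nat.prime_two⟩
  obtain ⟨hspec, hsec⟩ := hcrit
  have hset : ({1, 2, 3, 4, 5} : Set ℕ) = {k : ℕ | 1 ≤ k ∧ k ≤ 5} := by
    ext k; simp only [Set.mem_insert_iff, Set.mem_singleton_iff, Set.mem_setOf_eq]; omega
  have h5 : CfsgLib.SpecFive.Spec5 G := fun g => by
    have : orderOf g ∈ Set.range (orderOf : G → ℕ) := ⟨g, rfl⟩
    rw [hspec, hset] at this
    exact this.2
  rcases Cfsg.Agent.S3433.result (hspec.trans hset) with hA6 | ⟨V, hVn, hVe, ⟨e⟩⟩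
  · exact Or.inl hA6
  refine Or.inr ?_
  obtain ⟨hcomm, hexp⟩ := hVe
  have hexp' : ∀ v ∈ V, v ^ 2 = 1 := hexp
  let π : G →* alternatingGroup (Fin 5) := e.toMonoidHom.comp (QuotientGroup.mk' V)
  have hπs : Function.Surjective π := e.surjective.comp (QuotientGroup.mk'_surjective V)
  have hπk : ∀ g, π g = 1 ↔ g ∈ V := fun g => by
    show e (QuotientGroup.mk' V g) = 1 ↔ _
    rw [map_eq_one_iff _ e.injective]
    exact QuotientGroup.eq_one_iff g
  have hmem : ∀ k, 1 ≤ k → k ≤ 5 → ∃ g : G, orderOf g = k := fun k h1 h2 => by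
    have hk : k ∈ Set.range (orderOf : G → ℕ) := by rw [hspec, hset]; exact ⟨h1, h2⟩
    exact hk
  have hV : V ≠ ⊥ := by
    intro hb
    obtain ⟨g, hg⟩ := hmem 4 (by norm_num) (by norm_num)
    have h2 := CfsgLib.SpecFive.AltFive.no_four (π g) (by rw [← map_pow, ← hg, pow_orderOf_eq_one, map_one])
    rw [← map_pow, hπk, hb, Subgroup.mem_bot] at h2
    have := orderOf_le_of_pow_eq_one (by norm_num) h2
    omega
  refine CfsgLib.SpecFive.affine h5 V hcomm hexp' hV e fun W hWn hWV => ?_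
  by_cases hW1 : W = ⊥
  · exact Or.inl hW1
  refine Or.inr (le_antisymm hWV fun v hv => ?_)
  by_contra hvW
  -- the quotient by `W` has the same spectrum, against criticality
  haveI := hWn
  have h5q : CfsgLib.SpecFive.Spec5 (G ⧸ W) := h5.quotient W
  have horder : ∀ p : ℕ, p.Prime → p ≠ 2 → ∀ g : G, orderOf g = p → orderOf (g : G ⧸ W) = p := by
    intro p hp hp2 g hg
    haveI := Fact.mk hp
    refine orderOf_eq_prime (by rw [← QuotientGroup.mk_pow, ← hg, pow_orderOf_eq_one, QuotientGroup.mk_one]) ?_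
    intro hg1
    have h2 : g ^ 2 = 1 := hexp' g (hWV ((QuotientGroup.eq_one_iff g).mp hg1))
    have hle := orderOf_le_of_pow_eq_one (by norm_num) h2
    have := hp.two_le
    omega
  have hfour : ∃ q : G ⧸ W, orderOf q = 4 := by
    by_contra hno
    push Not at hno
    have hsq : ∀ g : G, π g ^ 2 = 1 → (g : G ⧸ W) ^ 2 = 1 := by
      intro g hg
      rw [← map_pow, hπk] at hg
      have h4 : (g : G ⧸ W) ^ 4 = 1 := by
        rw [← QuotientGroup.mk_pow, show 4 = 2 * 2 by norm_num, pow_mul, hexp' _ hg, QuotientGroup.mk_one]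
      obtain ⟨k, hk, hk'⟩ := (Nat.dvd_prime_pow Nat.prime_two).mp
        (show orderOf (g : G ⧸ W) ∣ 2 ^ 2 from orderOf_dvd_of_pow_eq_one h4)
      have hk1 : k ≤ 1 := by
        by_contra hk1
        exact hno _ (by rw [hk', show k = 2 by omega]; norm_num)
      exact orderOf_dvd_iff_pow_eq_one.mp (by rw [hk']; exact pow_dvd_pow 2 hk1)
    let C : Subgroup G := (Subgroup.centralizer (((V.map (QuotientGroup.mk' W)) : Subgroup (G ⧸ W)) : Set (G ⧸ W))).comap
      (QuotientGroup.mk' W)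
    haveI : (V.map (QuotientGroup.mk' W)).Normal := hVn.map _ (QuotientGroup.mk'_surjective W)
    haveI : C.Normal := Subgroup.Normal.comap inferInstance _
    haveI : IsSimpleGroup (alternatingGroup (Fin 5)) := alternatingGroup.isSimpleGroup_five
    obtain ⟨u, hu⟩ := hπs CfsgLib.SpecFive.AltFive.u
    have huC : u ∈ C := by
      show (u : G ⧸ W) ∈ Subgroup.centralizer _
      rw [Subgroup.mem_centralizer_iff]
      rintro _ ⟨w, hw, rfl⟩
      have e1 : (u : G ⧸ W) ^ 2 = 1 := hsq u (by rw [hu]; exact CfsgLib.SpecFive.AltFive.rels.2.2.2.2.2.1)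
      have e2 : (w : G ⧸ W) ^ 2 = 1 := by rw [← QuotientGroup.mk_pow, hexp' w hw, QuotientGroup.mk_one]
      have e3 : ((w : G ⧸ W) * (u : G ⧸ W)) ^ 2 = 1 := by
        rw [← QuotientGroup.mk_mul]
        refine hsq _ ?_
        rw [map_mul, (hπk w).mpr hw, one_mul, hu]
        exact CfsgLib.SpecFive.AltFive.rels.2.2.2.2.2.1
      rw [pow_two] at e1 e2 e3
      show (w : G ⧸ W) * (u : G ⧸ W) = (u : G ⧸ W) * (w : G ⧸ W)
      calc (w : G ⧸ W) * (u : G ⧸ W) = ((w : G ⧸ W) * (u : G ⧸ W))⁻¹ := (inv_eq_of_mul_eq_one_right e3).symm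
        _ = _ := by rw [_root_.mul_inv_rev, inv_eq_of_mul_eq_one_right e1, inv_eq_of_mul_eq_one_right e2]
    rcases ((inferInstance : C.Normal).map π hπs).eq_bot_or_eq_top with hb | ht
    · have : π u ∈ C.map π := ⟨u, huC, rfl⟩
      rw [hb, Subgroup.mem_bot, hu] at this
      exact CfsgLib.SpecFive.AltFive.rels.2.2.2.2.2.2.1 this
    · obtain ⟨g, hg⟩ := hmem 3 (by norm_num) (by norm_num)
      obtain ⟨y, hy, hyg⟩ : π g ∈ C.map π := ht ▸ Subgroup.mem_top _
      have hgC : g ∈ C := by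
        have hyv : y⁻¹ * g ∈ V := by rw [← hπk, map_mul, map_inv, hyg, inv_mul_cancel]
        have hVC : V ≤ C := by
          intro a ha
          show (a : G ⧸ W) ∈ Subgroup.centralizer _
          rw [Subgroup.mem_centralizer_iff]
          rintro _ ⟨w, hw, rfl⟩
          have := congrArg Subtype.val (hcomm.is_comm.comm (⟨w, hw⟩ : V) ⟨a, ha⟩)
          show (w : G ⧸ W) * (a : G ⧸ W) = (a : G ⧸ W) * (w : G ⧸ W)
          rw [← QuotientGroup.mk_mul, ← QuotientGroup.mk_mul]
          exact congrArg _ this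
        have := C.mul_mem hy (hVC hyv)
        rwa [mul_inv_cancel_left] at this
      have hcom := Subgroup.mem_centralizer_iff.mp hgC (v : G ⧸ W) ⟨v, hv, rfl⟩
      refine h5q.not_commute Nat.prime_two Nat.prime_three (by norm_num) hcom ?_
        (dvd_of_eq (horder 3 Nat.prime_three (by norm_num) g hg).symm)
      exact dvd_of_eq (orderOf_eq_prime (by rw [← QuotientGroup.mk_pow, hexp' v hv, QuotientGroup.mk_one])
        (fun e => hvW ((QuotientGroup.eq_one_iff v).mp e))).symm
  -- assemble the spectrum of the quotient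
  let N : Subgroup (⊤ : Subgroup G) := W.subgroupOf ⊤
  refine hsec ⊤ N (Or.inr fun hN => hW1 ?_) ?_
  · rw [Subgroup.subgroupOf_eq_bot] at hN
    exact hN.eq_bot_of_le le_top
  let eq : (↥(⊤ : Subgroup G) ⧸ N) ≃* G ⧸ W := QuotientGroup.congr N W Subgroup.topEquiv (by
    ext g
    constructor
    · rintro ⟨a, ha, rfl⟩; exact ha
    · intro hg; exact ⟨⟨g, Subgroup.mem_top g⟩, hg, rfl⟩)
  have hrange : Set.range (orderOf : (↥(⊤ : Subgroup G) ⧸ N) → ℕ) = Set.range (orderOf : G ⧸ W → ℕ) := by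
    ext k
    constructor
    · rintro ⟨a, rfl⟩; exact ⟨eq a, MulEquiv.orderOf_eq eq a⟩
    · rintro ⟨a, rfl⟩; exact ⟨eq.symm a, MulEquiv.orderOf_eq eq.symm a⟩
  rw [hrange, hset]
  ext k
  constructor
  · rintro ⟨a, rfl⟩; exact ⟨orderOf_pos a, h5q a⟩
  · rintro ⟨hk1, hk5⟩
    obtain ⟨q, hq⟩ := hfour
    interval_cases k
    · exact ⟨1, orderOf_one⟩
    · exact ⟨q ^ 2, by rw [orderOf_pow' q two_ne_zero, hq]; norm_num⟩
    · obtain ⟨g, hg⟩ := hmem 3 (by norm_num) (by norm_num)
      exact ⟨_, horder 3 Nat.prime_three (by norm_num) g hg⟩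
    · exact ⟨q, hq⟩
    · obtain ⟨g, hg⟩ := hmem 5 (by norm_num) (by norm_num)
      exact ⟨_, horder 5 Nat.prime_five (by norm_num) g hg⟩

end Cfsg.Agent.S3600
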