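import Cfsg.Statements.S3611
import Cfsg.Agent.Lib.Perm.HalfNormalizer

set_option autoImplicit false
open Cfsg

namespace Cfsg.Agent.S3611

/-- Let G be an insoluble group acting faithfully and transitively on a finite set of prime size p, and suppose the normalizer of a Sylow p-subgroup of G has order p(p-1)/2. If p ≡ 3 (mod 4), then G is triply transitive, or for any two distinct points the stabilizer of both has exactly four orbits on the set (the two fixed points and exactly two orbits on the remaining p - 2 points). -/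
theorem result {G Ω : Type*} [Group G] [Finite G] [MulAction G Ω] [FaithfulSMul G Ω] [Finite Ω]
    (p : ℕ) (hp : p.Prime) (hΩ : Nat.card Ω = p) (htrans : MulAction.IsPretransitive G Ω)
    (hins : ¬ Group.IsSolvable G) (P : Sylow p G)
    (hN : 2 * Nat.card ↥(Subgroup.normalizer ((P : Subgroup G) : Set G)) = p * (p - 1))
    (hp3 : p % 4 = 3) :
    MulAction.IsMultiplyPretransitive G Ω 3 ∨
    ∀ α β : Ω, α ≠ β →
      Nat.card (MulAction.orbitRel.Quotient ↥(MulAction.stabilizer G α ⊓ MulAction.stabilizer G β) Ω) = 4 := by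
  classical
  haveI := Fact.mk hp
  rw [or_iff_not_imp_left]
  intro h3 α β hαβ
  have h2t : MulAction.IsMultiplyPretransitive G Ω 2 := by
    by_contra h
    obtain ⟨e', he'⟩ := CfsgLib.PrimeDegree.affine_coordinates hΩ h
    exact hins (CfsgLib.PrimeDegree.isSolvable_of_affine e' he')
  have h2' : ∀ {x y z u : Ω} (_ : x ≠ y) (_ : z ≠ u), ∃ g : G, g • x = z ∧ g • y = u :=
    MulAction.is_two_pretransitive_iff.1 h2t
  set H := MulAction.stabilizer G α ⊓ MulAction.stabilizer G β with hH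
  let Rel : Ω → Ω → Prop := fun a b => ∃ g : G, g • α = α ∧ g • β = β ∧ g • a = b
  have hRel : ∀ a b, (Quotient.mk'' a : MulAction.orbitRel.Quotient H Ω) = Quotient.mk'' b ↔ Rel b a := by
    intro a b
    rw [Quotient.eq'']
    show a ∈ MulAction.orbit H b ↔ _
    constructor
    · rintro ⟨⟨g, hg1, hg2⟩, rfl⟩
      exact ⟨g, hg1, hg2, rfl⟩
    · rintro ⟨g, hg1, hg2, rfl⟩
      exact ⟨⟨g, hg1, hg2⟩, rfl⟩
  have hsymm : ∀ a b, Rel a b → Rel b a := fun a b ⟨g, h1, h2, h3⟩ =>
    ⟨g⁻¹, by rw [inv_smul_eq_iff, h1], by rw [inv_smul_eq_iff, h2], by rw [inv_smul_eq_iff, h3]⟩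
  obtain ⟨a, b, ha, hb, hab⟩ : ∃ a b : Ω, (a ≠ α ∧ a ≠ β) ∧ (b ≠ α ∧ b ≠ β) ∧ ¬ Rel a b := by
    by_contra hcon
    push Not at hcon
    refine h3 ⟨fun i j => ?_⟩
    have hi : ∀ k l : Fin 3, k ≠ l → i k ≠ i l := fun k l h e => h (i.injective e)
    have hj : ∀ k l : Fin 3, k ≠ l → j k ≠ j l := fun k l h e => h (j.injective e)
    obtain ⟨g, g0, g1⟩ := h2' (hi 0 1 (by decide)) hαβ
    obtain ⟨h, h0, h1⟩ := h2' (hj 0 1 (by decide)) hαβ
    obtain ⟨k, k0, k1, k2⟩ := hcon (g • i 2) (h • j 2)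
      ⟨fun e => hi 2 0 (by decide) (smul_left_cancel g (e.trans g0.symm)),
        fun e => hi 2 1 (by decide) (smul_left_cancel g (e.trans g1.symm))⟩
      ⟨fun e => hj 2 0 (by decide) (smul_left_cancel h (e.trans h0.symm)),
        fun e => hj 2 1 (by decide) (smul_left_cancel h (e.trans h1.symm))⟩
    refine ⟨h⁻¹ * k * g, ?_⟩
    ext l
    fin_cases l
    · show (h⁻¹ * k * g) • i 0 = j 0
      rw [mul_smul, mul_smul, g0, k0, inv_smul_eq_iff, h0]
    · show (h⁻¹ * k * g) • i 1 = j 1
      rw [mul_smul, mul_smul, g1, k1, inv_smul_eq_iff, h1]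
    · show (h⁻¹ * k * g) • i 2 = j 2
      rw [mul_smul, mul_smul, k2, inv_smul_smul]
  let f : Fin 4 → MulAction.orbitRel.Quotient H Ω := fun k => Quotient.mk'' (![α, β, a, b] k)
  have hfix1 : ∀ c, Rel α c → c = α := fun c ⟨g, h1, _, h⟩ => h.symm.trans h1
  have hfix2 : ∀ c, Rel β c → c = β := fun c ⟨g, _, h2, h⟩ => h.symm.trans h2
  have hf : Function.Bijective f := by
    refine ⟨fun k l hkl => ?_, fun q => ?_⟩
    · have h := (hRel _ _).1 hkl
      have h' := hsymm _ _ h
      fin_cases k <;> fin_cases l <;> simp at h h' ⊢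
      all_goals first
        | exact absurd (hfix1 _ h).symm hαβ
        | exact absurd (hfix1 _ h').symm hαβ
        | exact ha.1 (hfix1 _ h)
        | exact ha.1 (hfix1 _ h')
        | exact hb.1 (hfix1 _ h)
        | exact hb.1 (hfix1 _ h')
        | exact ha.2 (hfix2 _ h)
        | exact ha.2 (hfix2 _ h')
        | exact hb.2 (hfix2 _ h)
        | exact hb.2 (hfix2 _ h')
        | exact hab h
        | exact hab h'
    · obtain ⟨c, rfl⟩ := Quotient.mk''_surjective q
      by_cases hcα : c = α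
      · exact ⟨0, by subst hcα; rfl⟩
      by_cases hcβ : c = β
      · exact ⟨1, by subst hcβ; rfl⟩
      obtain ⟨i, j, hij, g, g0, g1, g2⟩ := CfsgLib.HalfNormalizer.orbits_le_two hΩ hp3 hins P hN α β hαβ
        ![a, b, c] (by intro i; fin_cases i <;> simp [ha, hb, hcα, hcβ])
      have hr : Rel (![a, b, c] i) (![a, b, c] j) := ⟨g, g0, g1, g2⟩
      have hr' := hsymm _ _ hr
      fin_cases i <;> fin_cases j <;> simp at hr hr' hij
      all_goals first
        | exact absurd hr hab
        | exact absurd hr' hab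
        | exact ⟨2, (hRel _ _).2 hr⟩
        | exact ⟨2, (hRel _ _).2 hr'⟩
        | exact ⟨3, (hRel _ _).2 hr⟩
        | exact ⟨3, (hRel _ _).2 hr'⟩
  rw [← Nat.card_eq_of_bijective f hf, Nat.card_fin]

end Cfsg.Agent.S3611
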