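import Cfsg.Statements.S3612
import Cfsg.Agent.Lib.Perm.HalfBlocks

set_option autoImplicit false
open Cfsg

namespace Cfsg.Agent.S3612

/-- Let G be an insoluble group acting faithfully and transitively on a finite set of prime size p, and suppose the normalizer of a Sylow p-subgroup of G has order p(p-1)/2. If p > 7, then the stabilizer of a point acts primitively on the remaining p - 1 points. -/
theorem result {G Ω : Type*} [Group G] [Finite G] [MulAction G Ω] [FaithfulSMul G Ω] [Finite Ω]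
    (p : ℕ) (hp : p.Prime) (hΩ : Nat.card Ω = p) (htrans : MulAction.IsPretransitive G Ω)
    (hins : ¬ Group.IsSolvable G) (P : Sylow p G)
    (hN : 2 * Nat.card ↥(Subgroup.normalizer ((P : Subgroup G) : Set G)) = p * (p - 1))
    (hp7 : 7 < p) (α : Ω) :
    MulAction.IsPreprimitive ↥(MulAction.stabilizer G α) ↥(SubMulAction.ofStabilizer G α) := by
  classical
  haveI := Fact.mk hp
  have h2t : MulAction.IsMultiplyPretransitive G Ω 2 := by
    by_contra h
    obtain ⟨e', he'⟩ := CfsgLib.PrimeDegree.affine_coordinates hΩ h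
    exact hins (CfsgLib.PrimeDegree.isSolvable_of_affine e' he')
  haveI htr : MulAction.IsPretransitive ↥(MulAction.stabilizer G α) ↥(SubMulAction.ofStabilizer G α) := ⟨fun u v => by
    obtain ⟨g, g0, g1⟩ := MulAction.is_two_pretransitive_iff.1 h2t
      (Ne.symm u.2 : α ≠ (u : Ω)) (Ne.symm v.2 : α ≠ (v : Ω))
    exact ⟨⟨g, g0⟩, Subtype.ext g1⟩⟩
  refine ⟨fun {B} hB => ?_⟩
  by_contra hcon
  rw [MulAction.IsTrivialBlock, not_or, Set.not_subsingleton_iff, ← ne_eq, Set.ne_univ_iff_exists_notMem] at hcon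
  obtain ⟨⟨y, hy, a, ha, hya⟩, o, ho⟩ := hcon
  refine CfsgLib.HalfBlocks.no_block hΩ hp7 hins P hN α (Subtype.val '' B) ?_ ?_ (y : Ω) (a : Ω) (o : Ω)
    ⟨y, hy, rfl⟩ ⟨a, ha, rfl⟩ (fun h => hya (Subtype.ext h).symm) (fun ⟨o', ho', e⟩ => ho (Subtype.ext e ▸ ho'))
    o.2
  · rintro g hg _ ⟨u, hu, rfl⟩ ⟨u', hu', e⟩ _ ⟨v, hv, rfl⟩
    have h := hB.smul_eq_of_mem (g := (⟨g, hg⟩ : ↥(MulAction.stabilizer G α))) hu
      (show (⟨g, hg⟩ : ↥(MulAction.stabilizer G α)) • u ∈ B from (Subtype.ext e : u' = (⟨g, hg⟩ : ↥(MulAction.stabilizer G α)) • u) ▸ hu')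
    exact ⟨_, h ▸ Set.smul_mem_smul_set hv, rfl⟩
  · rintro ⟨u, -, hu⟩
    exact u.2 hu

end Cfsg.Agent.S3612
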