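import Cfsg.Statements.S3614
import Cfsg.Agent.Lib.Perm.TwinPrime
import Cfsg.Agent.Lib.Perm.TwinAlt

set_option autoImplicit false
open Cfsg

namespace Cfsg.Agent.S3614

/-- Let G be an insoluble group acting faithfully and transitively on a finite set of prime size p, and suppose the normalizer of a Sylow p-subgroup of G has order p(p-1)/2. If p = q + 2 = 2r + 3 > 9 or p = q + 2 = 3r + 4 > 13 with q and r prime, then G is isomorphic to the alternating group of degree p. -/
theorem result {G Ω : Type*} [Group G] [Finite G] [MulAction G Ω] [FaithfulSMul G Ω] [Finite Ω]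
    (p : ℕ) (hp : p.Prime) (hΩ : Nat.card Ω = p) (htrans : MulAction.IsPretransitive G Ω)
    (hins : ¬ Group.IsSolvable G) (P : Sylow p G)
    (hN : 2 * Nat.card ↥(Subgroup.normalizer ((P : Subgroup G) : Set G)) = p * (p - 1))
    (q r : ℕ) (hq : q.Prime) (hr : r.Prime)
    (hcases : (p = q + 2 ∧ p = 2 * r + 3 ∧ 9 < p) ∨ (p = q + 2 ∧ p = 3 * r + 4 ∧ 13 < p)) :
    Nonempty (G ≃* alternatingGroup (Fin p)) := by
  classical
  haveI := Fact.mk hp
  haveI := Fintype.ofFinite Ω
  have hΩ' : Fintype.card Ω = p := by rw [← Nat.card_eq_fintype_card, hΩ]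
  obtain ⟨hpq, hq5, hr5, hshape⟩ : p = q + 2 ∧ 5 < q ∧ 5 ≤ r ∧
      ∃ m₀ f, p = m₀ * r + f ∧ ((f = 3 ∧ m₀ = 2) ∨ (f = 4 ∧ m₀ = 3)) := by
    have h4 : r ≠ 4 := fun h => by rw [h] at hr; norm_num at hr
    rcases hcases with ⟨h1, h2, h3⟩ | ⟨h1, h2, h3⟩
    · exact ⟨h1, by omega, by omega, 2, 3, h2, Or.inl ⟨rfl, rfl⟩⟩
    · exact ⟨h1, by omega, by omega, 3, 4, h2, Or.inr ⟨rfl, rfl⟩⟩
  obtain ⟨m₀, f, hn, hmf⟩ := hshape
  have h5 := CfsgLib.TwinPrime.five hΩ hins P hN hq hq5 hpq
  have hA := CfsgLib.TwinAlt.alt_le (G := G) (α := Ω) (hΩ'.symm ▸ hp) hr hr5 (hΩ'.trans hn) hmf h5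
  let φ := MulAction.toPermHom G Ω
  have hφ : Function.Injective φ := MulAction.toPerm_injective
  haveI : Nontrivial Ω := Fintype.one_lt_card_iff_nontrivial.1 (by rw [hΩ']; exact hp.one_lt)
  have hidx : φ.range.index ∣ 2 := by
    rw [← alternatingGroup.index_eq_two (α := Ω)]
    exact Subgroup.index_dvd_of_le hA
  rcases (Nat.dvd_prime Nat.prime_two).1 hidx with h | h
  · exfalso
    have hcard : Nat.card G = p.factorial := by
      have hall := Subgroup.index_eq_one.1 h
      rw [← hΩ, ← Nat.card_perm, ← Subgroup.card_top (G := Equiv.Perm Ω), ← hall]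
      exact Nat.card_congr (MonoidHom.ofInjective hφ).toEquiv
    set N := Subgroup.normalizer ((P : Subgroup G) : Set G)
    have hnp := Sylow.card_eq_index_normalizer P
    have hmod : Nat.card (Sylow p G) ≡ 1 [MOD p] := card_sylow_modEq_one p G
    rw [hnp] at hmod
    replace hmod : N.index ≡ 1 [MOD p] := hmod
    have hci := N.card_mul_index
    rw [hcard] at hci
    have hfac : p.factorial = p * (p - 1) * (p - 2).factorial := by
      have e1 := Nat.mul_factorial_pred hp.ne_zero
      have e2 := Nat.mul_factorial_pred (show p - 1 ≠ 0 by omega)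
      rw [← e1, ← e2, show p - 1 - 1 = p - 2 by omega]
      ring
    have hix : N.index = 2 * (p - 2).factorial := by
      refine Nat.eq_of_mul_eq_mul_left (Nat.mul_pos hp.pos (show 0 < p - 1 by omega)) ?_
      calc p * (p - 1) * N.index = 2 * Nat.card N * N.index := by rw [hN]
        _ = 2 * p.factorial := by rw [mul_assoc, hci]
        _ = p * (p - 1) * (2 * (p - 2).factorial) := by rw [hfac]; ring
    rw [hix, ← ZMod.natCast_eq_natCast_iff] at hmod
    have hw := ZMod.wilsons_lemma p
    have e3 := Nat.mul_factorial_pred (show p - 1 ≠ 0 by omega)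
    rw [show p - 1 - 1 = p - 2 by omega] at e3
    rw [← e3, Nat.cast_mul, Nat.cast_sub hp.one_le, ZMod.natCast_self] at hw
    push_cast at hmod hw
    have : (1 : ZMod p) = 0 := by linear_combination hmod + 2 * hw
    exact one_ne_zero this
  · have heq : φ.range = alternatingGroup Ω := Equiv.Perm.eq_alternatingGroup_of_index_eq_two h
    exact ⟨((MonoidHom.ofInjective hφ).trans (MulEquiv.subgroupCongr heq)).trans
      (Equiv.altCongrHom (Fintype.equivFinOfCardEq hΩ'))⟩

end Cfsg.Agent.S3614
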