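import Cfsg.Statements.S3616
import Cfsg.Agent.S3572
import Cfsg.Agent.S3612
import Cfsg.Agent.S0739
import Cfsg.Agent.Lib.Perm.TwinPrime
import Cfsg.Agent.Lib.Perm.ZassenhausOdd
import Cfsg.Agent.Lib.DicksonFull.Subgroups
import Cfsg.Agent.Lib.PSL2Max.Poly

set_option autoImplicit false
set_option maxHeartbeats 800000
open Cfsg

namespace Cfsg.Agent.S3616

/-- Let p > 7 be prime and let X be a finite group acting faithfully on a set of p + 1 points by even permutations. Suppose X has a proper subgroup isomorphic to PSL(2, p) that acts doubly transitively on the set (such an action is necessarily the natural one on the projective line). Then X is 4-fold transitive. -/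
theorem result {X Ω : Type*} [Group X] [Finite X] [MulAction X Ω] [FaithfulSMul X Ω] [Fintype Ω] [DecidableEq Ω]
    (p : ℕ) (hp : p.Prime) (hp7 : 7 < p) (hΩ : Fintype.card Ω = p + 1)
    (heven : ∀ x : X, Equiv.Perm.sign (MulAction.toPerm x : Equiv.Perm Ω) = 1)
    (L : Subgroup X) (hL : Nonempty (↥L ≃* Matrix.ProjectiveSpecialLinearGroup (Fin 2) (ZMod p)))
    (hLt : MulAction.IsMultiplyPretransitive ↥L Ω 2) (hLX : L ≠ ⊤) :
    MulAction.IsMultiplyPretransitive X Ω 4 := by
  classical
  haveI := Fact.mk hp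
  haveI : NeZero p := ⟨hp.ne_zero⟩
  haveI : Fintype L := Fintype.ofFinite L
  obtain ⟨φL⟩ := hL
  obtain ⟨m, hm⟩ : ∃ m, p = 2 * m + 1 := ⟨p / 2, by rcases hp.eq_two_or_odd with h | h <;> omega⟩
  have hLcard : Nat.card L = p * (p + 1) * m := by
    have h := CfsgLib.DicksonFull.card_psl (F := ZMod p)
    rw [ZMod.card, Nat.gcd_eq_left (by omega : 2 ∣ p - 1)] at h
    rw [Nat.card_congr φL.toEquiv]
    refine Nat.eq_of_mul_eq_mul_left (show 0 < 2 by norm_num) (h.trans ?_)
    rw [show p ^ 2 - 1 = (p + 1) * (p - 1) by simpa using Nat.sq_sub_sq p 1, show p - 1 = 2 * m by omega]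
    ring
  haveI hsimpP : IsSimpleGroup (Matrix.ProjectiveSpecialLinearGroup (Fin 2) (ZMod p)) :=
    CfsgLib.PSL2Max.isSimple (by rw [ZMod.card]; omega)
  haveI hsimp : IsSimpleGroup L := φL.isSimpleGroup
  haveI : FaithfulSMul L Ω := ⟨fun {g g'} h => Subtype.ext (eq_of_smul_eq_smul (α := Ω) h)⟩
  haveI := hLt
  haveI hLtr : MulAction.IsPretransitive L Ω := MulAction.isPretransitive_of_is_two_pretransitive
  have hL2 : ∀ {x y z u : Ω} (_ : x ≠ y) (_ : z ≠ u), ∃ g : L, g • x = z ∧ g • y = u :=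
    MulAction.is_two_pretransitive_iff.1 hLt
  -- point stabilisers of `L`
  have hM : ∀ a : Ω, Nat.card (MulAction.stabilizer L a) = p * m := by
    intro a
    refine Nat.eq_of_mul_eq_mul_left (show 0 < p + 1 by omega) ?_
    have h := (MulAction.stabilizer L a).card_mul_index
    rw [MulAction.index_stabilizer_of_transitive, Nat.card_eq_fintype_card (α := Ω), hΩ, hLcard] at h
    rw [mul_comm, h]; ring
  have hPM : ∀ a : Ω, ∀ P : Sylow p (MulAction.stabilizer L a), (P : Subgroup (MulAction.stabilizer L a)).Normal ∧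
      Nat.card (P : Subgroup (MulAction.stabilizer L a)) = p := by
    intro a P
    have hPc : Nat.card (P : Subgroup (MulAction.stabilizer L a)) = p := by
      rw [P.card_eq_multiplicity, hM, Nat.factorization_mul hp.ne_zero (by omega), Finsupp.add_apply,
        hp.factorization_self, Nat.factorization_eq_zero_of_not_dvd, add_zero, pow_one]
      exact fun h => by have := Nat.le_of_dvd (by omega) h; omega
    refine ⟨?_, hPc⟩
    have h1 : Nat.card (Sylow p (MulAction.stabilizer L a)) ≡ 1 [MOD p] := card_sylow_modEq_one _ _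
    have h2 : Nat.card (Sylow p (MulAction.stabilizer L a)) ∣ m := by
      have h3 := (P : Subgroup (MulAction.stabilizer L a)).card_mul_index
      rw [hPc, hM] at h3
      exact (P.card_dvd_index).trans (dvd_of_eq (Nat.eq_of_mul_eq_mul_left hp.pos h3))
    have hone : Nat.card (Sylow p (MulAction.stabilizer L a)) = 1 := by
      have h4 := Nat.le_of_dvd (by omega) h2
      rwa [Nat.ModEq, Nat.mod_eq_of_lt (show _ < p by omega), Nat.mod_eq_of_lt hp.one_lt] at h1
    haveI : Subsingleton (Sylow p (MulAction.stabilizer L a)) := (Nat.card_eq_one_iff_unique.1 hone).1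
    exact P.normal_of_subsingleton
  have hreg : ∀ a : Ω, ∀ σ : L, σ • a = a → orderOf σ = p → ∀ b c, b ≠ a → c ≠ a → ∃ i : ℕ, σ ^ i • b = c := by
    intro a σ hσa hσ
    have hfix1 : ∀ b, b ≠ a → σ • b = b → ∀ z, z ≠ a → ∀ i : ℕ, σ ^ i • b = b := by
      intro b _ hb z _ i
      exact MulAction.mem_stabilizer_iff.1 (pow_mem (show σ ∈ MulAction.stabilizer L b from hb) i)
    obtain ⟨b₀, hb₀⟩ : ∃ b : Ω, σ • b ≠ b := by
      refine not_forall.1 fun h => ?_
      have : σ = 1 := eq_of_smul_eq_smul (α := Ω) fun b => by rw [h b, one_smul]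
      rw [this, orderOf_one] at hσ
      exact hp.ne_one hσ.symm
    have hper : Function.minimalPeriod (σ • ·) b₀ = p := by
      have hd : Function.minimalPeriod (σ • ·) b₀ ∣ p := by
        rw [← MulAction.pow_smul_eq_iff_minimalPeriod_dvd, ← hσ, pow_orderOf_eq_one, one_smul]
      rcases (Nat.dvd_prime hp).1 hd with h | h
      · exact absurd (by simpa using (MulAction.pow_smul_eq_iff_minimalPeriod_dvd (n := 1) (a := σ) (b := b₀)).2 (by rw [h])) hb₀
      · exact h
    have hσpa : ∀ i : ℕ, σ ^ i • a = a := fun i =>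
      MulAction.mem_stabilizer_iff.1 (pow_mem (show σ ∈ MulAction.stabilizer L a from hσa) i)
    have hba : b₀ ≠ a := fun h => hb₀ (by rw [h]; exact hσa)
    let S := (Finset.range p).image fun i => σ ^ i • b₀
    have hS : S = Finset.univ.erase a := by
      refine Finset.eq_of_subset_of_card_le (fun z hz => ?_) ?_
      · obtain ⟨i, -, rfl⟩ := Finset.mem_image.1 hz
        exact Finset.mem_erase.2 ⟨fun h => hba (smul_left_cancel (σ ^ i) (h.trans (hσpa i).symm)), Finset.mem_univ _⟩
      · rw [Finset.card_erase_of_mem (Finset.mem_univ a), Finset.card_univ, hΩ, Finset.card_image_of_injOn,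
          Finset.card_range]
        · omega
        intro i hi j hj hij
        simp only [Finset.coe_range, Set.mem_Iio] at hi hj
        rcases Nat.lt_trichotomy i j with h | h | h
        · exfalso
          have h1 : σ ^ (j - i) • b₀ = b₀ := smul_left_cancel (σ ^ i) (by
            rw [← mul_smul, ← pow_add, show i + (j - i) = j by omega]; exact hij.symm)
          rw [MulAction.pow_smul_eq_iff_minimalPeriod_dvd, hper] at h1
          have := Nat.le_of_dvd (by omega) h1
          omega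
        · exact h
        · exfalso
          have h1 : σ ^ (i - j) • b₀ = b₀ := smul_left_cancel (σ ^ j) (by
            rw [← mul_smul, ← pow_add, show j + (i - j) = i by omega]; exact hij)
          rw [MulAction.pow_smul_eq_iff_minimalPeriod_dvd, hper] at h1
          have := Nat.le_of_dvd (by omega) h1
          omega
    intro b c hb hc
    obtain ⟨i, hi, rfl⟩ := Finset.mem_image.1 (hS.symm ▸ Finset.mem_erase.2 ⟨hb, Finset.mem_univ b⟩ : b ∈ S)
    obtain ⟨j, -, rfl⟩ := Finset.mem_image.1 (hS.symm ▸ Finset.mem_erase.2 ⟨hc, Finset.mem_univ c⟩ : c ∈ S)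
    simp only [Finset.mem_range] at hi
    refine ⟨j + (p - i), ?_⟩
    rw [← mul_smul, ← pow_add, show j + (p - i) + i = j + p by omega, pow_add, ← hσ, pow_orderOf_eq_one, mul_one]
  have hthree : ∀ g : L, ∀ a b c : Ω, a ≠ b → b ≠ c → a ≠ c → g • a = a → g • b = b → g • c = c → g = 1 := by
    intro g a b c hab hbc hac ha hb hc
    let P : Sylow p (MulAction.stabilizer L a) := default
    obtain ⟨hPn, hPc⟩ := hPM a P
    obtain ⟨⟨s, hsP⟩, hs⟩ := exists_prime_orderOf_dvd_card' (G := (P : Subgroup (MulAction.stabilizer L a))) p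
      (dvd_of_eq hPc.symm)
    rw [Subgroup.orderOf_mk] at hs
    have hsσ : orderOf (s : L) = p := by rw [Subgroup.orderOf_coe, hs]
    have hPz : (P : Subgroup (MulAction.stabilizer L a)) = Subgroup.zpowers s :=
      (Subgroup.eq_of_le_of_card_ge (Subgroup.zpowers_le.2 hsP) (by rw [Nat.card_zpowers, hs, hPc])).symm
    obtain ⟨k, hk⟩ := Subgroup.mem_zpowers_iff.1 (hPz ▸ hPn.conj_mem s hsP ⟨g, ha⟩)
    have hk' : g * (s : L) * g⁻¹ = (s : L) ^ k := (congrArg Subtype.val hk).symm
    obtain ⟨n, hn⟩ : ∃ n : ℕ, (s : L) ^ k = (s : L) ^ n := by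
      obtain ⟨n, -, hn⟩ := (isOfFinOrder_of_finite (s : L)).mem_zpowers_iff_mem_range_orderOf.1
        (Subgroup.mem_zpowers_iff.2 ⟨k, rfl⟩) |> Finset.mem_image.1
      exact ⟨n, hn.symm⟩
    rw [hn] at hk'
    obtain ⟨i, hi⟩ := hreg a s s.2 hsσ b c hab.symm hac.symm
    have h1 : (s : L) ^ (n * i) • b = (s : L) ^ i • b := by
      rw [pow_mul, ← hk', conj_pow, mul_smul, mul_smul, inv_smul_eq_iff.2 hb.symm, hi, hc]
    have hsi : ¬ p ∣ i := fun hd => by
      rw [← hsσ, orderOf_dvd_iff_pow_eq_one] at hd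
      rw [hd, one_smul] at hi
      exact hbc hi
    have hn1 : (s : L) ^ n = s := by
      have hper : ∀ u : ℕ, (s : L) ^ u • b = b → p ∣ u := by
        intro u hu
        by_contra hnd
        obtain ⟨e, he⟩ := exists_pow_eq_self_of_coprime (x := (s : L)) (n := u) (by
          rw [hsσ, Nat.coprime_comm]; exact (Nat.Prime.coprime_iff_not_dvd hp).2 hnd)
        have hsb : (s : L) • b = b := by
          rw [← he]
          exact MulAction.mem_stabilizer_iff.1 (pow_mem (show (s : L) ^ u ∈ MulAction.stabilizer L b from hu) e)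
        exact hbc ((hi.symm.trans (MulAction.mem_stabilizer_iff.1
          (pow_mem (show (s : L) ∈ MulAction.stabilizer L b from hsb) i))).symm)
      have hmod : (n * i : ℕ) % p = i % p := by
        rcases Nat.le_total i (n * i) with hle | hle
        · refine ((Nat.modEq_iff_dvd' hle).2 (hper _ (smul_left_cancel ((s : L) ^ i) ?_))).symm
          rw [← mul_smul, ← pow_add, show i + (n * i - i) = n * i by omega, h1]
        · refine (Nat.modEq_iff_dvd' hle).2 (hper _ (smul_left_cancel ((s : L) ^ (n * i)) ?_))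
          rw [← mul_smul, ← pow_add, show n * i + (i - n * i) = i by omega, h1]
      have hn1' : n % p = 1 % p := by
        refine Nat.ModEq.cancel_right_of_coprime ?_ (show n * i ≡ 1 * i [MOD p] by rw [one_mul]; exact hmod)
        exact (Nat.Prime.coprime_iff_not_dvd hp).2 hsi
      nth_rewrite 2 [← pow_one (s : L)]
      rw [pow_eq_pow_iff_modEq, hsσ]
      exact hn1'
    rw [hn1] at hk'
    refine eq_of_smul_eq_smul (α := Ω) fun z => ?_
    rw [one_smul]
    by_cases hz : z = a
    · rw [hz, ha]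
    obtain ⟨j, rfl⟩ := hreg a s s.2 hsσ b z hab.symm hz
    calc g • (s : L) ^ j • b = (g * (s : L) * g⁻¹) ^ j • g • b := by
          rw [conj_pow, ← mul_smul, ← mul_smul]; congr 1; group
      _ = (s : L) ^ j • b := by rw [hk', hb]
  have hcS : ∀ a b : Ω, a ≠ b → Nat.card ↥(MulAction.stabilizer L a ⊓ MulAction.stabilizer L b) = m := by
    intro a b hab
    haveI : MulAction.IsPretransitive ↥(MulAction.stabilizer L a) ↥(SubMulAction.ofStabilizer L a) := ⟨fun u v => by
      obtain ⟨g, g0, g1⟩ := hL2 (Ne.symm u.2 : a ≠ (u : Ω)) (Ne.symm v.2 : a ≠ (v : Ω))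
      exact ⟨⟨g, g0⟩, Subtype.ext g1⟩⟩
    have e2 := (MulAction.stabilizer (MulAction.stabilizer L a)
      (⟨b, hab.symm⟩ : SubMulAction.ofStabilizer L a)).card_mul_index
    rw [MulAction.index_stabilizer_of_transitive, hM, SubMulAction.nat_card_ofStabilizer_eq,
      Nat.card_eq_fintype_card (α := Ω), hΩ, Nat.add_sub_cancel, mul_comm p m] at e2
    rw [← Nat.eq_of_mul_eq_mul_right hp.pos e2]
    exact Nat.card_congr
      { toFun := fun g => ⟨⟨(g : L), g.2.1⟩, Subtype.ext g.2.2⟩
        invFun := fun g => ⟨((g : MulAction.stabilizer L a) : L), (g : MulAction.stabilizer L a).2,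
          congrArg Subtype.val g.2⟩
        left_inv := fun g => rfl
        right_inv := fun g => rfl }
  obtain ⟨a, b, hab⟩ : ∃ a b : Ω, a ≠ b := Fintype.exists_pair_of_one_lt_card (by omega)
  haveI : MulAction.IsPretransitive X Ω := ⟨fun x y => by
    obtain ⟨g, hg⟩ := MulAction.exists_smul_eq L x y
    exact ⟨g, hg⟩⟩
  -- the stabiliser of `a` in `X`
  let G := MulAction.stabilizer X a
  let β := ↥(SubMulAction.ofStabilizer X a)
  haveI : Fintype β := Fintype.ofFinite β
  have hβ : Nat.card β = p := by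
    rw [SubMulAction.nat_card_ofStabilizer_eq, Nat.card_eq_fintype_card, hΩ, Nat.add_sub_cancel]
  haveI : MulAction.IsPretransitive G β := ⟨fun u v => by
    obtain ⟨g, g0, g1⟩ := hL2 (Ne.symm u.2 : a ≠ (u : Ω)) (Ne.symm v.2 : a ≠ (v : Ω))
    exact ⟨⟨g, g0⟩, Subtype.ext g1⟩⟩
  haveI : FaithfulSMul G β := ⟨fun {g g'} h => Subtype.ext (eq_of_smul_eq_smul (α := Ω) fun z => by
    by_cases hz : z = a
    · rw [hz, MulAction.mem_stabilizer_iff.1 g.2, MulAction.mem_stabilizer_iff.1 g'.2]
    · exact congrArg Subtype.val (h ⟨z, hz⟩))⟩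
  let P : Sylow p G := default
  set N := Subgroup.normalizer ((P : Subgroup G) : Set G) with hNdef
  -- the part coming from `L`
  let ι : MulAction.stabilizer L a →* G :=
    { toFun := fun g => ⟨((g : L) : X), g.2⟩
      map_one' := rfl
      map_mul' := fun _ _ => rfl }
  have hι : Function.Injective ι := fun g g' h => Subtype.ext (Subtype.ext (congrArg (fun t : G => (t : X)) h))
  have hGp : Nat.card G ∣ p.factorial := by
    rw [← hβ, ← Nat.card_perm]
    exact Subgroup.card_dvd_of_injective (MulAction.toPermHom G β) MulAction.toPerm_injective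
  have hpG : p ∣ Nat.card G := by
    rw [← hβ]
    obtain ⟨z⟩ : Nonempty β := ⟨⟨b, hab.symm⟩⟩
    rw [← MulAction.index_stabilizer_of_transitive G z]
    exact Subgroup.index_dvd_card _
  have hsylp : ∀ Q : Sylow p G, Nat.card (Q : Subgroup G) = p := by
    intro Q
    obtain ⟨j, hj⟩ := IsPGroup.iff_card.1 Q.2
    have h1 : p ∣ p ^ j := hj ▸ Q.dvd_card_of_dvd_card hpG
    have h2 : p ^ j ∣ p.factorial := hj ▸ ((Q : Subgroup G).card_subgroup_dvd_card.trans hGp)
    rcases Nat.lt_or_ge j 2 with h | h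
    · interval_cases j
      · rw [pow_zero] at h1; exact absurd h1 hp.not_dvd_one
      · rw [hj, pow_one]
    · exfalso
      have h3 := (pow_dvd_pow p h).trans h2
      rw [sq, ← Nat.mul_factorial_pred hp.ne_zero, Nat.mul_dvd_mul_iff_left hp.pos, hp.dvd_factorial] at h3
      omega
  have hNge : p * m ≤ Nat.card N := by
    let Q : Sylow p (MulAction.stabilizer L a) := default
    obtain ⟨hQn, hQc⟩ := hPM a Q
    have hQ' : Nat.card ((Q : Subgroup (MulAction.stabilizer L a)).map ι) = p := by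
      rw [Subgroup.card_map_of_injective hι, hQc]
    obtain ⟨P₁, hP₁⟩ := (IsPGroup.of_card (p := p) (n := 1)
      (G := (Q : Subgroup (MulAction.stabilizer L a)).map ι) (by rw [hQ', pow_one])).exists_le_sylow
    have heq : (Q : Subgroup (MulAction.stabilizer L a)).map ι = (P₁ : Subgroup G) :=
      Subgroup.eq_of_le_of_card_ge hP₁ (by rw [hQ', hsylp])
    have hle : ι.range ≤ Subgroup.normalizer (((Q : Subgroup (MulAction.stabilizer L a)).map ι : Subgroup G) : Set G) := by
      rw [MonoidHom.range_eq_map]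
      refine le_trans ?_ (Subgroup.le_normalizer_map ι)
      rw [Subgroup.normalizer_eq_top_iff.2 hQn]
    rw [heq] at hle
    have h1 := Subgroup.card_le_of_le hle
    rw [← Nat.card_congr (MonoidHom.ofInjective hι).toEquiv, hM] at h1
    obtain ⟨g, hg⟩ := MulAction.exists_smul_eq G P₁ P
    have h2 : Nat.card ↥(Subgroup.normalizer ((P₁ : Subgroup G) : Set G)) = Nat.card N := by
      have i1 : (Subgroup.normalizer ((P₁ : Subgroup G) : Set G)).index = N.index :=
        (Sylow.card_eq_index_normalizer P₁).symm.trans (Sylow.card_eq_index_normalizer P)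
      refine Nat.eq_of_mul_eq_mul_right (Nat.pos_of_ne_zero Subgroup.index_ne_zero_of_finite : 0 < N.index) ?_
      rw [Subgroup.card_mul_index, ← i1, Subgroup.card_mul_index]
    rw [← h2]; exact h1
  -- coordinates
  obtain ⟨⟨σ, hσP⟩, hσ⟩ := exists_prime_orderOf_dvd_card' (G := (P : Subgroup G)) p (dvd_of_eq (hsylp P).symm)
  rw [Subgroup.orderOf_mk] at hσ
  have hPσ : (P : Subgroup G) = Subgroup.zpowers σ :=
    (Subgroup.eq_of_le_of_card_ge (Subgroup.zpowers_le.2 hσP) (by rw [Nat.card_zpowers, hσ, hsylp])).symm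
  let φ := MulAction.toPermHom G β
  have hφ : Function.Injective φ := MulAction.toPerm_injective
  have hσ' : orderOf (⟨φ σ, σ, rfl⟩ : φ.range) = p := by
    refine (Subgroup.orderOf_mk _ _).trans ?_
    rw [orderOf_injective φ hφ, hσ]
  obtain ⟨e, -, he'⟩ := CfsgLib.CycleCoords.exists_coords (by rw [← Nat.card_eq_fintype_card, hβ])
    φ.range ⟨φ σ, σ, rfl⟩ hσ'
  have he : ∀ (z : ℤ) x, σ ^ z • e x = e (x + z) := fun z x => by
    have h := he' z x
    rw [Subgroup.smul_def, Subgroup.coe_zpow, Equiv.Perm.smul_def] at h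
    change (φ σ ^ z) (e x) = _ at h
    rw [← map_zpow] at h
    exact h
  have haff : ∀ n : N, ∃ k c : ZMod p, ∀ x, (n : G) • e x = e (k * x + c) := fun n => by
    obtain ⟨k, hk⟩ : ∃ k : ℤ, (n : G) * σ * (n : G)⁻¹ = σ ^ k := by
      have := (Subgroup.mem_normalizer_iff.1 n.2 σ).1 hσP
      rw [hPσ, Subgroup.mem_zpowers_iff] at this
      obtain ⟨k, hk⟩ := this
      exact ⟨k, hk.symm⟩
    refine ⟨k, e.symm ((n : G) • e 0), fun x => ?_⟩
    have h1 : e x = σ ^ (x.val : ℤ) • e 0 := by
      rw [he, zero_add, Int.cast_natCast, ZMod.natCast_zmod_val]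
    rw [h1, ← mul_smul, show (n : G) * σ ^ (x.val : ℤ) = ((n : G) * σ * (n : G)⁻¹) ^ (x.val : ℤ) * n by
      rw [conj_zpow, inv_mul_cancel_right], hk, ← zpow_mul, mul_smul]
    obtain ⟨c, hc⟩ := e.surjective ((n : G) • e 0)
    rw [← hc, he, Int.cast_mul, Int.cast_natCast, ZMod.natCast_zmod_val, Equiv.symm_apply_apply, add_comm]
  choose K C hKC using haff
  have hmul : ∀ g h : N, K (g * h) = K g * K h := fun g h => by
    have key : ∀ x, K (g * h) * x + C (g * h) = K g * (K h * x + C h) + C g := fun x =>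
      e.injective (by rw [← hKC, Subgroup.coe_mul, mul_smul, hKC, hKC])
    have h0 := key 0
    have h1 := key 1
    simp only [mul_zero, zero_add, mul_one] at h0 h1
    linear_combination h1 - h0
  have hK1 : K 1 = 1 := by
    have k0 : K 1 * 0 + C 1 = 0 := e.injective (by rw [← hKC, Subgroup.coe_one, one_smul])
    have k1 : K 1 * 1 + C 1 = 1 := e.injective (by rw [← hKC, Subgroup.coe_one, one_smul])
    linear_combination k1 - k0
  let ψ : N →* (ZMod p)ˣ := ({ toFun := K, map_one' := hK1, map_mul' := hmul } : N →* ZMod p).toHomUnits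
  have hψ : ∀ n, ((ψ n : (ZMod p)ˣ) : ZMod p) = K n := fun n => rfl
  have hker : Nat.card ψ.ker ≤ p := by
    refine le_trans (Nat.card_le_card_of_injective (fun n : ψ.ker => C n) fun u v huv => ?_) (Nat.card_zmod p).le
    have hk1 : ∀ w : ψ.ker, K w = 1 := fun w => congrArg Units.val (MonoidHom.mem_ker.1 w.2)
    refine Subtype.ext (Subtype.ext (eq_of_smul_eq_smul (α := β) fun z => ?_))
    obtain ⟨x, rfl⟩ := e.surjective z
    show ((u : N) : G) • e x = ((v : N) : G) • e x
    rw [hKC, hKC, hk1, hk1]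
    exact congrArg (fun t => e (1 * x + t)) huv
  have hnot : ψ.range ≠ ⊤ := by
    intro htop
    haveI : IsCyclic (ZMod p)ˣ := inferInstance
    obtain ⟨u, hu⟩ := IsCyclic.exists_generator (α := (ZMod p)ˣ)
    obtain ⟨n, hn⟩ : u ∈ ψ.range := htop ▸ Subgroup.mem_top u
    -- fix a point
    obtain ⟨g, hg⟩ : ∃ g : G, ∀ x, g • e x = e ((u : ZMod p) * x) :=
      ⟨σ ^ (-((C n).val : ℤ)) * n, fun x => by
        rw [mul_smul, hKC, he, ← hψ, hn, Int.cast_neg, Int.cast_natCast, ZMod.natCast_zmod_val, add_neg_cancel_right]⟩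
    let π : Equiv.Perm Ω := MulAction.toPerm (g : X)
    have hπ : ∀ x : ZMod p, π ((e x : β) : Ω) = ((e ((u : ZMod p) * x) : β) : Ω) := fun x =>
      congrArg Subtype.val (hg x)
    have hπpow : ∀ (j : ℕ) (x : ZMod p), (π ^ j) ((e x : β) : Ω) = ((e ((u : ZMod p) ^ j * x) : β) : Ω) := by
      intro j
      induction j with
      | zero => simp
      | succ j ih =>
        intro x
        rw [pow_succ', Equiv.Perm.mul_apply, ih, hπ, pow_succ', mul_assoc]
    have hu1 : u ≠ 1 := by
      rintro rfl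
      have h2 : (-1 : (ZMod p)ˣ) = 1 := by simpa using hu (-1)
      have h3 := congrArg Units.val h2
      haveI : Fact (2 < p) := ⟨by omega⟩
      exact ZMod.neg_one_ne_one h3
    have hsupp : ∀ z : Ω, π z ≠ z ↔ z ≠ a ∧ z ≠ ((e 0 : β) : Ω) := by
      intro z
      by_cases hza : z = a
      · subst hza
        exact iff_of_false (not_not.2 (MulAction.mem_stabilizer_iff.1 g.2)) (fun h => h.1 rfl)
      obtain ⟨x, hx⟩ := e.surjective ⟨z, hza⟩
      have hz : z = ((e x : β) : Ω) := by rw [hx]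
      rw [hz, hπ, ne_eq, ne_eq, ne_eq, Subtype.coe_inj, Subtype.coe_inj, e.injective.eq_iff, e.injective.eq_iff]
      refine ⟨fun h => ⟨(e x).2, fun hx0 => h (by rw [hx0, mul_zero])⟩, fun ⟨_, hx0⟩ h => hu1 (Units.ext ?_)⟩
      exact mul_right_cancel₀ hx0 (h.trans (one_mul x).symm)
    have hcyc : π.IsCycle := by
      have h01 : ((e 1 : β) : Ω) ≠ ((e 0 : β) : Ω) := fun h => one_ne_zero (e.injective (Subtype.coe_injective h))
      refine ⟨((e 1 : β) : Ω), (hsupp _).2 ⟨(e 1).2, h01⟩, fun z hz => ?_⟩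
      obtain ⟨hza, hz0⟩ := (hsupp z).1 hz
      obtain ⟨x, hx⟩ := e.surjective ⟨z, hza⟩
      have hz' : z = ((e x : β) : Ω) := by rw [hx]
      have hx0 : x ≠ 0 := fun h => hz0 (by rw [hz', h])
      obtain ⟨j, hj⟩ := (isOfFinOrder_of_finite u).mem_powers_iff_mem_zpowers.2 (hu (Units.mk0 x hx0))
      refine ⟨(j : ℤ), ?_⟩
      rw [zpow_natCast, hπpow, mul_one, hz']
      rw [show (u : ZMod p) ^ j = x by rw [← Units.val_pow_eq_pow_val, show u ^ j = Units.mk0 x hx0 from hj]; rfl]
    have hcard : π.support.card = p - 1 := by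
      rw [show π.support = ({a, ((e 0 : β) : Ω)} : Finset Ω)ᶜ by ext z; simp [Equiv.Perm.mem_support, hsupp],
        Finset.card_compl, Finset.card_pair (Ne.symm (e 0).2), hΩ]
      omega
    have hs := heven (g : X)
    rw [show (MulAction.toPerm (g : X) : Equiv.Perm Ω) = π from rfl, hcyc.sign, hcard,
      Even.neg_one_pow ⟨m, by omega⟩] at hs
    exact absurd hs (by decide)
  have hN : 2 * Nat.card N = p * (p - 1) := by
    have h2 := Subgroup.card_mul_index ψ.ker
    rw [Subgroup.index_ker] at h2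
    have h3 := Subgroup.card_mul_index ψ.range
    rw [Nat.card_eq_fintype_card (α := (ZMod p)ˣ), ZMod.card_units_eq_totient, Nat.totient_prime hp] at h3
    have hi2 : 2 ≤ ψ.range.index := Subgroup.one_lt_index_of_ne_top hnot
    have hr : Nat.card ψ.range ≤ m := by
      have : Nat.card ψ.range * 2 ≤ p - 1 := h3 ▸ Nat.mul_le_mul_left _ hi2
      omega
    have hle : Nat.card N ≤ p * m := h2 ▸ Nat.mul_le_mul hker hr
    rw [le_antisymm hle hNge, show p - 1 = 2 * m by omega]; ring
  have hins : ¬ Group.IsSolvable G := by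
    intro hsol
    haveI := hsol
    obtain ⟨d, hd, hGd⟩ := CfsgLib.TwinPrime.card_of_solvable (H := G) (β := β) hp hβ
    have hd0 : 0 < d := Nat.pos_of_ne_zero fun h => by rw [h, mul_zero] at hGd; exact Nat.card_pos.ne' hGd
    have hone : Nat.card (Sylow p G) = 1 := by
      have h1 : Nat.card (Sylow p G) ≡ 1 [MOD p] := card_sylow_modEq_one _ _
      have h3 := (P : Subgroup G).card_mul_index
      rw [hsylp, hGd] at h3
      have h2 : Nat.card (Sylow p G) ∣ d := P.card_dvd_index.trans (dvd_of_eq (Nat.eq_of_mul_eq_mul_left hp.pos h3))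
      have h4 := Nat.le_of_dvd hd0 h2
      have h5 := Nat.le_of_dvd (by omega) hd
      rwa [Nat.ModEq, Nat.mod_eq_of_lt (show _ < p by omega), Nat.mod_eq_of_lt hp.one_lt] at h1
    have hGN : Nat.card G = Nat.card N := by
      have h := N.card_mul_index
      have hi : N.index = 1 := (Sylow.card_eq_index_normalizer P).symm.trans hone
      rw [hi, mul_one] at h
      exact h.symm
    refine hLX (Subgroup.eq_top_of_le_card L ?_)
    have hX := (MulAction.stabilizer X a).card_mul_index
    rw [MulAction.index_stabilizer_of_transitive, Nat.card_eq_fintype_card (α := Ω), hΩ] at hX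
    rw [hLcard, ← hX]
    have : 2 * Nat.card G = p * (2 * m) := by rw [hGN, hN, show p - 1 = 2 * m by omega]
    have hGv : Nat.card ↥(MulAction.stabilizer X a) = p * m := by
      show Nat.card G = p * m
      nlinarith
    rw [hGv]; exact le_of_eq (by ring)
  -- it is enough that the stabiliser be triply transitive
  suffices h3 : MulAction.IsMultiplyPretransitive G β 3 by
    refine ⟨fun i j => ?_⟩
    have hmk : ∀ (g : X) (i : Fin 4 ↪ Ω), g • i 0 = a → ∃ i' : Fin 3 ↪ β, ∀ k : Fin 3, ((i' k : β) : Ω) = g • i k.succ := by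
      intro g i g0
      refine ⟨⟨fun k => ⟨g • i k.succ, fun e => Fin.succ_ne_zero k (i.injective (smul_left_cancel g (e.trans g0.symm)))⟩,
        fun k l e => Fin.succ_injective _ (i.injective (smul_left_cancel g (congrArg Subtype.val e)))⟩, fun k => rfl⟩
    obtain ⟨g, hg⟩ := MulAction.exists_smul_eq X (i 0) a
    obtain ⟨h, hh⟩ := MulAction.exists_smul_eq X (j 0) a
    obtain ⟨i', hi'⟩ := hmk g i hg
    obtain ⟨j', hj'⟩ := hmk h j hh
    obtain ⟨k, hk⟩ := h3.exists_smul_eq i' j'
    refine ⟨h⁻¹ * k * g, ?_⟩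
    ext l
    show (h⁻¹ * (k : X) * g) • i l = j l
    rw [mul_smul, mul_smul, inv_smul_eq_iff]
    refine Fin.cases ?_ (fun l => ?_) l
    · rw [hg, hh]; exact k.2
    · rw [← hi', ← hj']
      exact congrArg (fun f : Fin 3 ↪ β => ((f l : β) : Ω)) hk
  have hp4 : p % 4 = 1 ∨ p % 4 = 3 := by omega
  rcases hp4 with h4 | h4
  · exact CfsgLib.HalfBlocks.three_of_mod_one hβ h4 hins P hN
  have hmodd : Odd m := by rw [Nat.odd_iff]; omega
  -- `L` is a Zassenhaus group
  have hZ : Cfsg.IsZassenhausGroup L Ω := by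
    refine ⟨inferInstance, hLt, hthree, ?_, ?_⟩
    · have h : 1 < Nat.card ↥(MulAction.stabilizer L a ⊓ MulAction.stabilizer L b) := by rw [hcS a b hab]; omega
      haveI := Finite.one_lt_card_iff_nontrivial.1 h
      obtain ⟨g, hg⟩ := exists_ne (1 : ↥(MulAction.stabilizer L a ⊓ MulAction.stabilizer L b))
      exact ⟨g, fun h => hg (Subtype.ext h), a, b, hab, g.2.1, g.2.2⟩
    · intro Nn hNn htrN
      rcases hNn.eq_bot_or_eq_top with h | h
      · exfalso
        obtain ⟨g, hg⟩ := MulAction.exists_smul_eq Nn a b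
        have : (g : L) = 1 := (Subgroup.mem_bot).1 (h ▸ g.2)
        exact hab (by rw [← hg]; show a = (g : L) • a; rw [this, one_smul])
      · refine ⟨a, fun hbot => ?_⟩
        have hi := (MulAction.stabilizer Nn a).card_mul_index
        rw [MulAction.index_stabilizer_of_transitive, hbot, Subgroup.card_bot, Nat.card_eq_fintype_card (α := Ω), hΩ,
          h, Subgroup.card_top, hLcard] at hi
        have : p * m = 1 := Nat.eq_of_mul_eq_mul_left (show 0 < p + 1 by omega) (by linarith)
        have := Nat.le_of_dvd one_pos (this ▸ dvd_mul_right p m : p ∣ 1)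
        omega
  have hodd : ∀ c d : Ω, c ≠ d → Odd (Nat.card ↥(MulAction.stabilizer L c ⊓ MulAction.stabilizer L d)) :=
    fun c d h => by rw [hcS c d h]; exact hmodd
  obtain ⟨hcyc, -, hinv⟩ := Cfsg.Agent.S0739.result hZ hab (hodd a b hab) (by
    rintro q hq hqd ⟨Nn, hNn, hidx⟩
    have hqL : q ∣ Nat.card L := hqd.trans (Subgroup.card_subgroup_dvd_card _)
    haveI := Fact.mk hq
    rcases hNn.eq_bot_or_eq_top with h | h
    · rw [h, Subgroup.index_bot] at hidx
      have h2 : p ∣ q ^ (Nat.card L).factorization q := hidx ▸ (hLcard ▸ dvd_mul_of_dvd_left (dvd_mul_right p _) _)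
      obtain rfl := (Nat.prime_dvd_prime_iff_eq hp hq).1 (hp.dvd_of_dvd_pow h2)
      rw [hcS a b hab] at hqd
      have := Nat.le_of_dvd (by omega) hqd
      omega
    · rw [h, Subgroup.index_top] at hidx
      have := hq.factorization_pos_of_dvd Nat.card_pos.ne' hqL
      exact absurd hidx.symm (Nat.one_lt_pow this.ne' hq.one_lt).ne')
  obtain ⟨w, hww, hwa, hwb⟩ := CfsgLib.ZassenhausOdd.exists_swap hZ hodd hab
  obtain ⟨⟨s, hsab⟩, hsgen⟩ := hcyc.exists_generator
  have hs : orderOf s = m := by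
    have h := orderOf_eq_card_of_forall_mem_zpowers hsgen
    rwa [Subgroup.orderOf_mk, hcS a b hab] at h
  haveI : NeZero m := ⟨by omega⟩
  let f : ZMod m → L := fun i => s ^ i.val
  have hfadd : ∀ i j, f (i + j) = f i * f j := fun i j => by
    simp only [f]
    rw [← pow_add, pow_eq_pow_iff_modEq, hs, ZMod.val_add]
    exact Nat.mod_modEq _ _
  have hf0 : f 0 = 1 := by simp [f]
  have hfneg : ∀ i, f (-i) = (f i)⁻¹ := fun i => eq_inv_of_mul_eq_one_left (by rw [← hfadd, neg_add_cancel, hf0])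
  have hfS : ∀ i, f i ∈ MulAction.stabilizer L a ⊓ MulAction.stabilizer L b := fun i => pow_mem hsab _
  have hwf : ∀ i, f i * w = w * f (-i) := by
    intro i
    have hwi : w⁻¹ = w := inv_eq_of_mul_eq_one_right hww
    have h := hinv w hwa hwb (f i) (hfS i)
    rw [hwi] at h
    rw [hfneg, ← h, ← mul_assoc, ← mul_assoc, hww, one_mul]
  let δ : DihedralGroup m →* L :=
    { toFun := fun x => match x with
        | .r i => f i
        | .sr i => w * f i
      map_one' := hf0
      map_mul' := fun x y => by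
        cases x with
        | r i => cases y with
          | r j => simp only [DihedralGroup.r_mul_r]; exact hfadd i j
          | sr j =>
            simp only [DihedralGroup.r_mul_sr]
            rw [← mul_assoc, hwf, mul_assoc, ← hfadd, neg_add_eq_sub]
        | sr i => cases y with
          | r j => simp only [DihedralGroup.sr_mul_r]; rw [hfadd, mul_assoc]
          | sr j =>
            simp only [DihedralGroup.sr_mul_sr]
            rw [mul_assoc, ← mul_assoc (f i), hwf, ← mul_assoc, ← mul_assoc, hww, one_mul, ← hfadd, neg_add_eq_sub] }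
  have hδpair : ∀ x, ∀ u, ((δ x : L) • u = a ∨ (δ x : L) • u = b) ↔ (u = a ∨ u = b) := by
    have h1 : ∀ g ∈ MulAction.stabilizer L a ⊓ MulAction.stabilizer L b, ∀ u : Ω,
        (g • u = a ∨ g • u = b) ↔ (u = a ∨ u = b) := by
      rintro g ⟨g0, g1⟩ u
      exact or_congr ⟨fun h => smul_left_cancel g (h.trans (MulAction.mem_stabilizer_iff.1 g0).symm), fun h => h ▸ g0⟩
        ⟨fun h => smul_left_cancel g (h.trans (MulAction.mem_stabilizer_iff.1 g1).symm), fun h => h ▸ g1⟩
    rintro (i | i) u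
    · exact h1 _ (hfS i) u
    · show ((w * f i) • u = a ∨ (w * f i) • u = b) ↔ _
      rw [← h1 _ (hfS i) u, mul_smul]
      constructor
      · rintro (h | h)
        · exact Or.inr (smul_left_cancel w (h.trans hwb.symm))
        · exact Or.inl (smul_left_cancel w (h.trans hwa.symm))
      · rintro (h | h)
        · exact Or.inr (by rw [h, hwa])
        · exact Or.inl (by rw [h, hwb])
  have hδfree : ∀ x, ∀ u : Ω, u ≠ a → u ≠ b → (δ x : L) • u = u → δ x = 1 := by
    have hwfree : ∀ (g : L), g * g = 1 → g • a = b → ∀ u : Ω, g • u ≠ u := by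
      intro g hgg hga u hu
      have hord : orderOf g = 2 := CfsgLib.ZassenhausOdd.orderOf_of_swap hZ hodd hab hgg hga
      have h := (MulAction.stabilizer L u).orderOf_dvd_natCard (show g ∈ MulAction.stabilizer L u from hu)
      rw [hord, hM u] at h
      rcases (Nat.prime_two.dvd_mul).1 h with h' | h'
      · omega
      · exact hmodd.not_two_dvd_nat h'
    rintro (i | i) u hua hub hu
    · exact hthree (f i) a b u hab hub.symm hua.symm (hfS i).1 (hfS i).2 hu
    · exact absurd hu (hwfree (w * f i) (by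
        rw [mul_assoc, ← mul_assoc (f i), hwf, ← mul_assoc, ← mul_assoc, hww, one_mul, ← hfadd, neg_add_cancel, hf0])
        (by rw [mul_smul, MulAction.mem_stabilizer_iff.1 (hfS i).1, hwa]) u)
  have hδinj : Function.Injective δ := by
    rw [injective_iff_map_eq_one]
    rintro (i | i) hi
    · have h : s ^ i.val = 1 := hi
      rw [← orderOf_dvd_iff_pow_eq_one, hs] at h
      have : i.val = 0 := Nat.eq_zero_of_dvd_of_lt h (ZMod.val_lt i)
      rw [DihedralGroup.one_def, (ZMod.val_eq_zero i).1 this]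
    · exfalso
      have h : w * f i = 1 := hi
      have := congrArg (fun g : L => g • a) h
      simp only [mul_smul, one_smul, MulAction.mem_stabilizer_iff.1 (hfS i).1, hwa] at this
      exact hab this.symm
  -- the setwise stabiliser of the pair, on the remaining points
  let Ks : Subgroup X :=
    { carrier := {g | ∀ u, (g • u = a ∨ g • u = b) ↔ (u = a ∨ u = b)}
      one_mem' := fun u => by rw [one_smul]
      mul_mem' := fun {g h} hg hh u => by rw [mul_smul, hg, hh]
      inv_mem' := fun {g} hg u => by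
        have h := hg (g⁻¹ • u)
        rw [smul_inv_smul] at h
        exact h.symm }
  let Cm := {u : Ω // ¬ (u = a ∨ u = b)}
  letI : MulAction Ks Cm :=
    { smul := fun g u => ⟨(g : X) • u.1, fun h => u.2 ((g.2 u.1).1 h)⟩
      one_smul := fun u => Subtype.ext (one_smul X u.1)
      mul_smul := fun g g' u => Subtype.ext (mul_smul (g : X) (g' : X) u.1) }
  have hKcases : ∀ g : Ks, ((g : X) • a = a ∧ (g : X) • b = b) ∨ ((g : X) • a = b ∧ (g : X) • b = a) := by
    intro g
    rcases (g.2 a).2 (Or.inl rfl) with h | h <;> rcases (g.2 b).2 (Or.inr rfl) with h' | h'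
    · exact absurd (smul_left_cancel (g : X) (h.trans h'.symm)) hab
    · exact Or.inl ⟨h, h'⟩
    · exact Or.inr ⟨h, h'⟩
    · exact absurd (smul_left_cancel (g : X) (h.trans h'.symm)) hab
  haveI : FaithfulSMul Ks Cm := ⟨fun {g g'} h => by
    have hk : ∀ u : Ω, ¬ (u = a ∨ u = b) → ((g' : X)⁻¹ * g) • u = u := fun u hu => by
      rw [mul_smul, inv_smul_eq_iff]
      exact congrArg Subtype.val (h ⟨u, hu⟩)
    refine Subtype.ext (inv_mul_eq_one.1 ?_).symm
    rcases hKcases (g'⁻¹ * g) with ⟨e1, e2⟩ | ⟨e1, e2⟩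
    · refine eq_of_smul_eq_smul (α := Ω) fun u => ?_
      rw [one_smul]
      by_cases hu : u = a ∨ u = b
      · rcases hu with rfl | rfl
        · exact e1
        · exact e2
      · exact hk u hu
    · exfalso
      have hsw : (MulAction.toPerm ((g' : X)⁻¹ * g) : Equiv.Perm Ω) = Equiv.swap a b := by
        refine Equiv.ext fun u => ?_
        show ((g' : X)⁻¹ * g) • u = _
        by_cases hu : u = a ∨ u = b
        · rcases hu with rfl | rfl
          · rw [Equiv.swap_apply_left]; exact e1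
          · rw [Equiv.swap_apply_right]; exact e2
        · obtain ⟨h1, h2⟩ := not_or.1 hu
          rw [Equiv.swap_apply_of_ne_of_ne h1 h2]; exact hk u hu
      have h1 := heven ((g' : X)⁻¹ * g)
      rw [hsw, Equiv.Perm.sign_swap hab] at h1
      exact absurd h1 (by decide)⟩
  have hprim : MulAction.IsPreprimitive (MulAction.stabilizer G (⟨b, hab.symm⟩ : β))
      (SubMulAction.ofStabilizer G (⟨b, hab.symm⟩ : β)) :=
    Cfsg.Agent.S3612.result p hp hβ inferInstance hins P hN hp7 _
  have hG2 : ∀ u v : Ω, ¬ (u = a ∨ u = b) → ¬ (v = a ∨ v = b) → ∃ g : X, g • a = a ∧ g • b = b ∧ g • u = v := by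
    intro u v hu hv
    obtain ⟨hu1, hu2⟩ := not_or.1 hu
    obtain ⟨hv1, hv2⟩ := not_or.1 hv
    obtain ⟨g, hg⟩ := hprim.toIsPretransitive.exists_smul_eq ⟨⟨u, hu1⟩, fun h => hu2 (congrArg Subtype.val h)⟩
      ⟨⟨v, hv1⟩, fun h => hv2 (congrArg Subtype.val h)⟩
    exact ⟨((g : G) : X), (g : G).2, congrArg Subtype.val g.2,
      congrArg (fun z : SubMulAction.ofStabilizer G (⟨b, hab.symm⟩ : β) => ((z : β) : Ω)) hg⟩
  have hKmem : ∀ g : X, g • a = a → g • b = b → g ∈ Ks := fun g g0 g1 u =>
    or_congr ⟨fun h => smul_left_cancel g (h.trans g0.symm), fun h => h ▸ g0⟩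
      ⟨fun h => smul_left_cancel g (h.trans g1.symm), fun h => h ▸ g1⟩
  haveI : MulAction.IsPretransitive Ks Cm := ⟨fun u v => by
    obtain ⟨g, g0, g1, g2⟩ := hG2 u.1 v.1 u.2 v.2
    exact ⟨⟨g, hKmem g g0 g1⟩, Subtype.ext g2⟩⟩
  have hprimK : MulAction.IsPreprimitive Ks Cm := by
    refine ⟨fun {B} hB => ?_⟩
    let mkC : ↥(SubMulAction.ofStabilizer G (⟨b, hab.symm⟩ : β)) → Cm := fun z =>
      ⟨((z : β) : Ω), fun h => h.elim (z : β).2 fun h => z.2 (Subtype.ext h)⟩
    have hbl : MulAction.IsBlock (MulAction.stabilizer G (⟨b, hab.symm⟩ : β)) (mkC ⁻¹' B) := by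
      rw [MulAction.isBlock_iff_smul_eq_of_mem]
      intro g z hz hgz
      let g' : Ks := ⟨((g : G) : X), hKmem _ (g : G).2 (congrArg Subtype.val g.2)⟩
      have h := hB.smul_eq_of_mem (g := g') hz hgz
      ext y
      rw [Set.mem_smul_set_iff_inv_smul_mem, Set.mem_preimage, Set.mem_preimage]
      conv_rhs => rw [← h, Set.mem_smul_set_iff_inv_smul_mem]
      rfl
    have hsurj : Function.Surjective mkC := fun u =>
      ⟨⟨⟨u.1, fun h => u.2 (Or.inl h)⟩, fun h => u.2 (Or.inr (congrArg Subtype.val h))⟩, rfl⟩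
    rcases hprim.isTrivialBlock_of_isBlock hbl with h | h
    · refine Or.inl fun u hu v hv => ?_
      obtain ⟨u', rfl⟩ := hsurj u
      obtain ⟨v', rfl⟩ := hsurj v
      exact congrArg mkC (h hu hv)
    · refine Or.inr (Set.eq_univ_of_forall fun u => ?_)
      obtain ⟨u', rfl⟩ := hsurj u
      exact h.ge (Set.mem_univ u')
  let δX : DihedralGroup m →* X := L.subtype.comp δ
  let δK : DihedralGroup m →* Ks := δX.codRestrict Ks (fun x => hδpair x)
  have hδK : Function.Injective δK := fun x y h => hδinj (Subtype.ext (congrArg (fun t : Ks => (t : X)) h))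
  let D : Subgroup Ks := δK.range
  have hfree : ∀ u : Cm, MulAction.stabilizer D u = ⊥ := fun u => (Subgroup.eq_bot_iff_forall _).2 fun d hd => by
    obtain ⟨x, hx⟩ := d.2
    have hx1 : δ x = 1 := by
      refine hδfree x u.1 (fun h => u.2 (Or.inl h)) (fun h => u.2 (Or.inr h)) ?_
      have h := congrArg Subtype.val hd
      show ((δ x : L) : X) • u.1 = u.1
      rw [show ((δ x : L) : X) = ((d : Ks) : X) from congrArg (fun t : Ks => (t : X)) hx]
      exact h
    refine Subtype.ext ?_
    rw [← hx, show x = 1 from hδinj (hx1.trans (map_one δ).symm), map_one]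
    rfl
  have hCm : Nat.card Cm = 2 * m := by
    rw [Nat.card_eq_fintype_card, Fintype.card_subtype_compl, hΩ]
    have : Fintype.card {u : Ω // u = a ∨ u = b} = 2 := by
      rw [Fintype.card_subtype, ← Finset.card_pair hab]
      congr 1; ext u; simp
    omega
  have hDc : Nat.card D = 2 * m := by
    rw [← Nat.card_congr (MonoidHom.ofInjective hδK).toEquiv, DihedralGroup.nat_card]
  have hDtr : MulAction.IsPretransitive D Cm := by
    refine ⟨fun u v => ?_⟩
    have hb : Function.Bijective fun d : D => d • u := by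
      refine (Nat.bijective_iff_injective_and_card _).2 ⟨fun d d' h => ?_, hDc.trans hCm.symm⟩
      have h1 : d'⁻¹ * d ∈ MulAction.stabilizer D u := by
        rw [MulAction.mem_stabilizer_iff, mul_smul, inv_smul_eq_iff]; exact h
      rw [hfree u, Subgroup.mem_bot] at h1
      exact (inv_mul_eq_one.1 h1).symm
    exact hb.2 v
  have hK2 := Cfsg.Agent.S3572.result hprimK D m ⟨(MonoidHom.ofInjective hδK).symm⟩ ⟨hDtr, hfree⟩
  have hKp : ∀ {u v u' v' : Cm}, u ≠ v → u' ≠ v' → ∃ g : Ks, g • u = u' ∧ g • v = v' :=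
    MulAction.is_two_pretransitive_iff.1 hK2
  -- hence two point stabilisers are transitive beyond a third point
  have h3pt : ∀ c u v : Ω, ¬ (c = a ∨ c = b) → ¬ (u = a ∨ u = b) → ¬ (v = a ∨ v = b) → u ≠ c → v ≠ c →
      ∃ g : X, g • a = a ∧ g • b = b ∧ g • c = c ∧ g • u = v := by
    intro c u v hc hu hv huc hvc
    let A := Finset.univ.filter fun z : Ω => ∃ g : X, g • a = a ∧ g • b = b ∧ g • c = c ∧ g • u = z
    by_contra hno
    have hvA : v ∉ A := fun h => hno (Finset.mem_filter.1 h).2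
    have hAne : ∀ z ∈ A, ¬ (z = a ∨ z = b) ∧ z ≠ c := by
      intro z hz
      obtain ⟨g, g0, g1, gc, gu⟩ := (Finset.mem_filter.1 hz).2
      subst gu
      exact ⟨fun h => hu ((hKmem g g0 g1 u).1 h), fun h => huc (smul_left_cancel g (h.trans gc.symm))⟩
    obtain ⟨k, hkc, hku⟩ := hKp (u := ⟨c, hc⟩) (v := ⟨u, hu⟩) (u' := ⟨c, hc⟩) (v' := ⟨v, hv⟩)
      (fun h => huc (congrArg Subtype.val h).symm) (fun h => hvc (congrArg Subtype.val h).symm)
    have hkc' : (k : X) • c = c := congrArg Subtype.val hkc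
    have hku' : (k : X) • u = v := congrArg Subtype.val hku
    rcases hKcases k with ⟨k0, k1⟩ | ⟨k0, k1⟩
    · exact hno ⟨k, k0, k1, hkc', hku'⟩
    let f₂ : Ω ↪ Ω := ⟨fun z => (k : X) • z, MulAction.injective (k : X)⟩
    have hdis : Disjoint A (A.map f₂) := by
      rw [Finset.disjoint_left]
      intro z hz hz'
      obtain ⟨y, hy, rfl⟩ := Finset.mem_map.1 hz'
      obtain ⟨r, r0, r1, rc, ru⟩ := (Finset.mem_filter.1 hz).2
      obtain ⟨r', r0', r1', rc', ru'⟩ := (Finset.mem_filter.1 hy).2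
      refine hno ⟨(k : X) * r'⁻¹ * (k : X)⁻¹ * r, ?_, ?_, ?_, ?_⟩
      · rw [mul_smul, r0, mul_smul, inv_smul_eq_iff.2 k1.symm, mul_smul, inv_smul_eq_iff.2 r1'.symm, k1]
      · rw [mul_smul, r1, mul_smul, inv_smul_eq_iff.2 k0.symm, mul_smul, inv_smul_eq_iff.2 r0'.symm, k0]
      · rw [mul_smul, rc, mul_smul, inv_smul_eq_iff.2 hkc'.symm, mul_smul, inv_smul_eq_iff.2 rc'.symm, hkc']
      · rw [mul_smul, ru, show f₂ y = (k : X) • y from rfl, mul_smul, inv_smul_smul, mul_smul,
          inv_smul_eq_iff.2 ru'.symm, hku']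
    have hun : A ∪ A.map f₂ = ({a, b, c} : Finset Ω)ᶜ := by
      ext z
      simp only [Finset.mem_union, Finset.mem_compl, Finset.mem_insert, Finset.mem_singleton]
      refine ⟨?_, fun hz => ?_⟩
      · rintro (hz | hz)
        · obtain ⟨h1, h2⟩ := hAne z hz
          rintro (e | e | e)
          · exact h1 (Or.inl e)
          · exact h1 (Or.inr e)
          · exact h2 e
        · obtain ⟨y, hy, rfl⟩ := Finset.mem_map.1 hz
          obtain ⟨h1, h2⟩ := hAne y hy
          rintro (e | e | e)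
          · exact h1 ((k.2 y).1 (Or.inl e))
          · exact h1 ((k.2 y).1 (Or.inr e))
          · exact h2 (smul_left_cancel (k : X) (e.trans hkc'.symm))
      · obtain ⟨hza, hzb, hzc⟩ : z ≠ a ∧ z ≠ b ∧ z ≠ c := by simpa [not_or] using hz
        obtain ⟨r, hrc, hru⟩ := hKp (u := ⟨c, hc⟩) (v := ⟨u, hu⟩) (u' := ⟨c, hc⟩) (v' := ⟨z, not_or.2 ⟨hza, hzb⟩⟩)
          (fun h => huc (congrArg Subtype.val h).symm) (fun h => hzc (congrArg Subtype.val h).symm)
        have hrc' : (r : X) • c = c := congrArg Subtype.val hrc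
        have hru' : (r : X) • u = z := congrArg Subtype.val hru
        rcases hKcases r with ⟨r0, r1⟩ | ⟨r0, r1⟩
        · exact Or.inl (Finset.mem_filter.2 ⟨Finset.mem_univ _, r, r0, r1, hrc', hru'⟩)
        · refine Or.inr (Finset.mem_map.2 ⟨(k : X)⁻¹ • z, Finset.mem_filter.2 ⟨Finset.mem_univ _, (k : X)⁻¹ * r,
            ?_, ?_, ?_, ?_⟩, smul_inv_smul (k : X) z⟩)
          · rw [mul_smul, r0, inv_smul_eq_iff, k0]
          · rw [mul_smul, r1, inv_smul_eq_iff, k1]
          · rw [mul_smul, hrc', inv_smul_eq_iff, hkc']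
          · rw [mul_smul, hru']
    have hcard := congrArg Finset.card hun
    rw [Finset.card_union_of_disjoint hdis, Finset.card_map, Finset.card_compl, hΩ, Finset.card_eq_three.2
      ⟨a, b, c, hab, fun h => hc (Or.inl h.symm), fun h => hc (Or.inr h.symm), rfl⟩] at hcard
    omega
  refine ⟨fun i j => ?_⟩
  have hi : ∀ k l : Fin 3, k ≠ l → ((i k : β) : Ω) ≠ (i l : Ω) := fun k l h e => h (i.injective (Subtype.ext e))
  have hj : ∀ k l : Fin 3, k ≠ l → ((j k : β) : Ω) ≠ (j l : Ω) := fun k l h e => h (j.injective (Subtype.ext e))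
  obtain ⟨g, g0, g1⟩ := hL2 (show a ≠ ((i 0 : β) : Ω) from Ne.symm (i 0).2) hab
  obtain ⟨h, h0, h1⟩ := hL2 (show a ≠ ((j 0 : β) : Ω) from Ne.symm (j 0).2) hab
  have hout : ∀ (g : L) (z : β) (z₀ : β), g • a = a → g • (z₀ : Ω) = b → (z : Ω) ≠ z₀ →
      ¬ (((g : X) • (z : Ω)) = a ∨ ((g : X) • (z : Ω)) = b) := by
    rintro g z z₀ g0 g1 hne (e | e)
    · exact z.2 (smul_left_cancel (g : X) (e.trans g0.symm))
    · exact hne (smul_left_cancel (g : X) (e.trans g1.symm))
  have hp1 := hout g (i 1) (i 0) g0 g1 (hi 1 0 (by decide))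
  have hp2 := hout g (i 2) (i 0) g0 g1 (hi 2 0 (by decide))
  have hq1 := hout h (j 1) (j 0) h0 h1 (hj 1 0 (by decide))
  have hq2 := hout h (j 2) (j 0) h0 h1 (hj 2 0 (by decide))
  obtain ⟨r, r0, r1, r2⟩ := hG2 _ _ hp1 hq1
  obtain ⟨t, t0, t1, tc, tu⟩ := h3pt _ ((r : X) • (g : X) • ((i 2 : β) : Ω)) _ hq1
    (fun e => hp2 ((hKmem r r0 r1 _).1 e)) hq2
    (fun e => hi 2 1 (by decide) (smul_left_cancel (g : X) (smul_left_cancel r (e.trans r2.symm))))
    (fun e => hj 2 1 (by decide) (smul_left_cancel (h : X) e))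
  have g0' : (g : X) • a = a := g0
  have g1' : (g : X) • ((i 0 : β) : Ω) = b := g1
  have h0' : (h : X) • a = a := h0
  have h1' : (h : X) • ((j 0 : β) : Ω) = b := h1
  have hkey : ((h : X)⁻¹ * t * r * g) • a = a := by
    rw [mul_smul, g0', mul_smul, r0, mul_smul, t0, inv_smul_eq_iff, h0']
  refine ⟨⟨_, hkey⟩, ?_⟩
  ext l
  show ((h : X)⁻¹ * t * r * g) • ((i l : β) : Ω) = ((j l : β) : Ω)
  rw [mul_smul, mul_smul, mul_smul]
  fin_cases l
  · show (h : X)⁻¹ • t • r • (g : X) • ((i 0 : β) : Ω) = ((j 0 : β) : Ω)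
    rw [g1', r1, t1, inv_smul_eq_iff, h1']
  · show (h : X)⁻¹ • t • r • (g : X) • ((i 1 : β) : Ω) = ((j 1 : β) : Ω)
    rw [r2, tc, inv_smul_smul]
  · show (h : X)⁻¹ • t • r • (g : X) • ((i 2 : β) : Ω) = ((j 2 : β) : Ω)
    rw [tu, inv_smul_smul]

end Cfsg.Agent.S3616
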