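import Cfsg.Statements.S3619
import Mathlib

set_option autoImplicit false
open Cfsg

namespace Cfsg.Agent.S3619

open scoped Pointwise

theorem prim_of_quasi {G Ω : Type*} [Group G] [MulAction G Ω] [FaithfulSMul G Ω] [Finite Ω]
    (hqp : ∀ N : Subgroup G, N.Normal → N ≠ ⊥ → MulAction.IsPretransitive ↥N Ω)
    (Γ : Set Ω) (hΓ1 : 1 < Γ.ncard)
    (hJp : MulAction.IsPreprimitive ↥(fixingSubgroup G Γᶜ) ↥(SubMulAction.ofFixingSubgroup G Γᶜ)) :
    MulAction.IsPreprimitive G Ω := by
  classical
  set K := fixingSubgroup G Γᶜ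
  have hmove : ∀ x ∈ Γ, ∀ y ∈ Γ, ∃ k : G, k ∈ K ∧ k • x = y := by
    intro x hx y hy
    haveI := hJp.toIsPretransitive
    obtain ⟨k, hk⟩ := MulAction.exists_smul_eq K (⟨x, not_not_intro hx⟩ : SubMulAction.ofFixingSubgroup G Γᶜ) ⟨y, not_not_intro hy⟩
    exact ⟨k, k.2, congrArg Subtype.val hk⟩
  have hfix : ∀ k ∈ K, ∀ z ∉ Γ, k • z = z := fun k hk z hz => (mem_fixingSubgroup_iff G).1 hk z hz
  obtain ⟨x, hx, y, hy, hxy⟩ := (Set.one_lt_ncard (Set.toFinite Γ)).1 hΓ1
  obtain ⟨k, hk, hkxy⟩ := hmove x hx y hy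
  haveI hGt : MulAction.IsPretransitive G Ω := by
    have h := hqp ⊤ inferInstance fun h => by
      have h1 : k = 1 := Subgroup.mem_bot.1 (h ▸ Subgroup.mem_top k)
      rw [h1, one_smul] at hkxy
      exact hxy hkxy
    exact ⟨fun a b => by obtain ⟨g, hg⟩ := h.exists_smul_eq a b; exact ⟨g, hg⟩⟩
  refine { isTrivialBlock_of_isBlock := fun {B} hB => ?_ }
  by_contra hnt
  simp only [MulAction.IsTrivialBlock, not_or] at hnt
  obtain ⟨hBns, hBu⟩ := hnt
  have htr : ∀ (g : G) (C : Set Ω), MulAction.IsBlock G C → ∀ z ∈ C, g • z ∈ C → g • C = C :=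
    fun g C hC z hz hgz => hC.smul_eq_of_mem hz hgz
  -- the trace of a translate on `Γ`
  have hdich : ∀ g : G, (∀ a ∈ g • B, a ∈ Γ → ∀ b ∈ g • B, b ∈ Γ → a = b) ∨ Γ ⊆ g • B := by
    intro g
    set C := g • B
    have hC : MulAction.IsBlock G C := hB.translate g
    have hblk : MulAction.IsBlock K ((fun z : SubMulAction.ofFixingSubgroup G Γᶜ => (z : Ω)) ⁻¹' C) := by
      rw [MulAction.isBlock_iff_smul_eq_of_nonempty]
      rintro k ⟨z, hz1, hz2⟩
      obtain ⟨w, hw, hwz⟩ := hz1
      have hkC : (k : G) • C = C := htr k C hC (w : Ω) hw (by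
        have : (k : G) • (w : Ω) = z := congrArg Subtype.val hwz
        rw [this]; exact hz2)
      ext u
      constructor
      · rintro ⟨v, hv, rfl⟩
        show (k : G) • (v : Ω) ∈ C
        rw [← hkC]; exact Set.smul_mem_smul_set hv
      · intro hu
        refine ⟨k⁻¹ • u, ?_, smul_inv_smul _ _⟩
        show (k : G)⁻¹ • (u : Ω) ∈ C
        rw [← Set.mem_smul_set_iff_inv_smul_mem, hkC]; exact hu
    rcases hJp.isTrivialBlock_of_isBlock hblk with h | h
    · left
      intro a ha haΓ b hb hbΓ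
      exact congrArg Subtype.val (h (x := ⟨a, not_not_intro haΓ⟩) ha (y := ⟨b, not_not_intro hbΓ⟩) hb)
    · right
      intro a ha
      have : (⟨a, not_not_intro ha⟩ : SubMulAction.ofFixingSubgroup G Γᶜ) ∈ (Set.univ : Set _) := trivial
      rw [← h] at this
      exact this
  by_cases hcase : ∃ g₀ : G, Γ ⊆ g₀ • B
  · obtain ⟨g₀, hg₀⟩ := hcase
    let L : Subgroup G :=
      { carrier := {u | ∀ g : G, u • (g • B) = g • B}
        one_mem' := fun g => one_smul _ _
        mul_mem' := fun {u v} hu hv g => by rw [mul_smul, hv, hu]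
        inv_mem' := fun {u} hu g => by rw [inv_smul_eq_iff, hu] }
    have hLn : L.Normal := ⟨fun u hu v g => by
      show (v * u * v⁻¹) • (g • B) = g • B
      rw [mul_smul, mul_smul, ← mul_smul v⁻¹ g, hu (v⁻¹ * g), mul_smul, smul_inv_smul]⟩
    have hKL : K ≤ L := by
      intro u hu g
      by_cases h : ∃ z ∈ g • B, z ∈ Γ
      · obtain ⟨z, hz, hzΓ⟩ := h
        have he : g • B = g₀ • B :=
          (hB.smul_eq_smul_of_nonempty (g₁ := g) (g₂ := g₀) ⟨z, hz, hg₀ hzΓ⟩)
        have huz : u • z ∈ g • B := by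
          by_cases h2 : u • z ∈ Γ
          · rw [he]; exact hg₀ h2
          · exfalso
            have : u • (u • z) = u • z := hfix u hu _ h2
            rw [smul_left_cancel_iff] at this
            exact h2 (by rw [this]; exact hzΓ)
        exact htr u _ (hB.translate g) z hz huz
      · simp only [not_exists, not_and] at h
        ext z
        constructor
        · rintro ⟨w, hw, rfl⟩
          show u • w ∈ g • B
          rw [hfix u hu w (h w hw)]; exact hw
        · intro hz
          exact ⟨z, hz, hfix u hu z (h z hz)⟩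
    have hLne : L ≠ ⊥ := fun h => by
      have h1 : k = 1 := Subgroup.mem_bot.1 (h ▸ hKL hk)
      rw [h1, one_smul] at hkxy
      exact hxy hkxy
    haveI := hqp L hLn hLne
    apply hBu
    obtain ⟨b, hb⟩ : B.Nonempty := by
      by_contra h
      exact hBns (by rw [Set.not_nonempty_iff_eq_empty.1 h]; exact Set.subsingleton_empty)
    refine Set.eq_univ_of_forall fun z => ?_
    obtain ⟨u, hu⟩ := MulAction.exists_smul_eq L b z
    have h1 : (u : G) • B = B := by simpa using u.2 1
    rw [← h1, ← hu]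
    exact Set.smul_mem_smul_set hb
  · simp only [not_exists] at hcase
    obtain ⟨b, hb⟩ : B.Nonempty := by
      by_contra h
      exact hBns (by rw [Set.not_nonempty_iff_eq_empty.1 h]; exact Set.subsingleton_empty)
    obtain ⟨g, hg⟩ := MulAction.exists_smul_eq G b x
    have hxC : x ∈ g • B := hg ▸ Set.smul_mem_smul_set hb
    have honly := (hdich g).resolve_right (hcase g)
    obtain ⟨w, hw, hwx⟩ : ∃ w ∈ g • B, w ≠ x := by
      by_contra hcon
      simp only [not_exists, not_and, not_not] at hcon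
      refine hBns fun p hp q hq => MulAction.injective g ?_
      show g • p = g • q
      rw [hcon _ (Set.smul_mem_smul_set hp), hcon _ (Set.smul_mem_smul_set hq)]
    have hwΓ : w ∉ Γ := fun h => hwx (honly w hw h x hxC hx)
    have hkC : k • (g • B) = g • B := htr k _ (hB.translate g) w hw (by rw [hfix k hk w hwΓ]; exact hw)
    have hyC : y ∈ g • B := by
      rw [← hkxy, ← hkC]; exact Set.smul_mem_smul_set hxC
    exact hxy (honly x hxC hx y hyC hy)


/-- Let G act faithfully on a finite set in such a way that every non-trivial normal subgroup of G is transitive (G is quasiprimitive). Let Γ be a subset with more than one point and not the whole set, such that the pointwise stabilizer of the complement of Γ acts transitively on Γ (a Jordan set). If that pointwise stabilizer acts primitively on Γ, then G is k-fold transitive where k is one more than the number of points outside Γ (the Jordan set is a trivial one). -/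
theorem result {G Ω : Type*} [Group G] [Finite G] [MulAction G Ω] [FaithfulSMul G Ω] [Finite Ω]
    (hqp : ∀ N : Subgroup G, N.Normal → N ≠ ⊥ → MulAction.IsPretransitive ↥N Ω)
    (Γ : Set Ω) (hΓ1 : 1 < Γ.ncard) (hΓ2 : Γ.ncard < Nat.card Ω)
    (hJ : MulAction.IsPretransitive ↥(fixingSubgroup G Γᶜ) ↥(SubMulAction.ofFixingSubgroup G Γᶜ))
    (hJp : MulAction.IsPreprimitive ↥(fixingSubgroup G Γᶜ) ↥(SubMulAction.ofFixingSubgroup G Γᶜ)) :
    MulAction.IsMultiplyPretransitive G Ω (Nat.card Ω - Γ.ncard + 1) := by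
  have hprim := prim_of_quasi hqp Γ hΓ1 hJp
  have hc : Γᶜ.ncard = Nat.card Ω - Γ.ncard := Set.ncard_compl Γ
  obtain ⟨n, hn⟩ : ∃ n, Γᶜ.ncard = n + 1 := ⟨Γᶜ.ncard - 1, by omega⟩
  have h := hprim.isMultiplyPreprimitive hn (by omega) hJp
  rw [show Nat.card Ω - Γ.ncard + 1 = n + 2 by omega]
  exact MulAction.IsMultiplyPreprimitive.isMultiplyPretransitive G Ω _

end Cfsg.Agent.S3619
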