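import Cfsg.Statements.S3626
import Cfsg.Agent.S1159
import Cfsg.Agent.Lib.SpecRee.Cube

set_option autoImplicit false
open Cfsg

namespace Cfsg.Agent.S3626

/-- Let R be the small Ree group over the field with q = 3^(2m+1) ≥ 27 elements. Then there are finite groups of arbitrarily large order with exactly the same set of element orders as R × R × R. -/
theorem result {K : Type*} [Field K] [Fintype K] {m : ℕ} (hm : 1 ≤ m) (hK : Fintype.card K = 3 ^ (2 * m + 1)) (N : ℕ) :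
    ∃ (H : Type) (_ : Group H) (_ : Fintype H), N < Fintype.card H ∧
      Set.range (orderOf : H → ℕ) = Set.range (orderOf : ↥(Cfsg.Lie.twistedG2 K (3 ^ m)) × ↥(Cfsg.Lie.twistedG2 K (3 ^ m)) × ↥(Cfsg.Lie.twistedG2 K (3 ^ m)) → ℕ) := by
  classical
  haveI : Fact (Nat.Prime 3) := ⟨Nat.prime_three⟩
  set R := ↥(Cfsg.Lie.twistedG2 K (3 ^ m)) with hR
  let K₀ := GaloisField 3 (2 * m + 1)
  letI : Fintype K₀ := Fintype.ofFinite K₀
  have hK₀ : Fintype.card K₀ = 3 ^ (2 * m + 1) := by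
    rw [← Nat.card_eq_fintype_card, GaloisField.card 3 (2 * m + 1) (by omega)]
  obtain ⟨M, iM, fM, hlarge, hrange⟩ := CfsgLib.SpecRee.exists_factor (K := K₀) m hm hK₀ N
  haveI : Finite R := inferInstance
  obtain ⟨S, iS, fS, ⟨e⟩⟩ := CfsgLib.PrimeGraphModule.exists_small (H := R)
  letI := iM; letI := fM; letI := iS; letI := fS
  refine ⟨M × S × S, inferInstance, inferInstance, ?_, ?_⟩
  · rw [Fintype.card_prod, Fintype.card_prod]
    exact hlarge.trans_le (Nat.le_mul_of_pos_right _ (Nat.mul_pos Fintype.card_pos Fintype.card_pos))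
  · refine CfsgLib.SpecRee.range_cube [6, 9, 3 ^ (2 * m + 1) - 1, (3 ^ (2 * m + 1) + 1) / 2]
      (3 ^ (2 * m + 1) - 3 ^ (m + 1) + 1) (3 ^ (2 * m + 1) + 3 ^ (m + 1) + 1) (fun n => ?_) (fun n => ?_) (fun n => ?_)
    · rw [Cfsg.Agent.S1159.result hm hK n]
      simp [or_assoc]
    · exact Set.ext_iff.mp hrange n
    · exact ⟨fun ⟨g, hg⟩ => ⟨e g, by rw [e.orderOf_eq, hg]⟩, fun ⟨g, hg⟩ => ⟨e.symm g, by rw [e.symm.orderOf_eq, hg]⟩⟩

end Cfsg.Agent.S3626
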