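import Mathlib
import Cfsg.Statements.S3627
import Cfsg.Agent.Lib.J1.Spectrum

set_option autoImplicit false
open Cfsg

namespace Cfsg.Agent.S3627

/-- The parity of an element of `D₆`: `0` for rotations. -/
def par : DihedralGroup 3 → ZMod 2
  | DihedralGroup.r _ => 0
  | DihedralGroup.sr _ => 1

theorem par_mul (x y : DihedralGroup 3) : par (x * y) = par x + par y := by
  revert x y; decide

theorem par_inv (x : DihedralGroup 3) : par x⁻¹ = par x := by revert x; decide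

theorem pow_of_par : ∀ x : DihedralGroup 3, (par x = 0 → x ^ 3 = 1) ∧ (par x = 1 → x ^ 2 = 1) := by
  decide

/-- Tuples in `D₆` of constant parity: a generalised dihedral group `3^k : 2`. -/
def bigDih (k : ℕ) : Subgroup (Fin k → DihedralGroup 3) where
  carrier := {f | ∀ i j, par (f i) = par (f j)}
  mul_mem' := fun {f g} hf hg i j => by simp only [Pi.mul_apply, par_mul]; rw [hf i j, hg i j]
  one_mem' := fun _ _ => rfl
  inv_mem' := fun {f} hf i j => by simp only [Pi.inv_apply, par_inv]; exact hf i j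

theorem bigDih_orders (k : ℕ) (f : bigDih k) : orderOf f ∣ 3 ∨ orderOf f ∣ 2 := by
  by_cases h : ∀ i, par (f.1 i) = 0
  · exact Or.inl (orderOf_dvd_of_pow_eq_one (Subtype.ext (funext fun i => (pow_of_par _).1 (h i))))
  · push Not at h
    obtain ⟨i0, hi0⟩ := h
    refine Or.inr (orderOf_dvd_of_pow_eq_one (Subtype.ext (funext fun i => (pow_of_par _).2 ?_)))
    rw [f.2 i i0]
    generalize par (f.1 i0) = z at hi0
    revert hi0; revert z; decide

theorem lt_card_bigDih (k : ℕ) : k < Nat.card (bigDih k) := by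
  refine lt_of_lt_of_le (Nat.lt_pow_self (show 1 < 3 by norm_num)) ?_
  refine le_of_eq_of_le (show 3 ^ k = Nat.card (Fin k → ZMod 3) by simp) ?_
  refine Nat.card_le_card_of_injective
    (fun v => (⟨fun i => DihedralGroup.r (v i), fun _ _ => rfl⟩ : bigDih k)) fun u v h => ?_
  funext i
  exact DihedralGroup.r.inj (congrFun (congrArg Subtype.val h) i)

theorem exists_mem_two_three (k : ℕ) :
    (∃ f : bigDih (k + 1), orderOf f = 2) ∧ ∃ f : bigDih (k + 1), orderOf f = 3 := by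
  haveI : Fact (Nat.Prime 2) := ⟨Nat.prime_two⟩
  haveI : Fact (Nat.Prime 3) := ⟨Nat.prime_three⟩
  constructor
  · refine ⟨⟨fun _ => DihedralGroup.sr 0, fun _ _ => rfl⟩, orderOf_eq_prime ?_ ?_⟩
    · exact Subtype.ext (funext fun _ => (pow_of_par _).2 rfl)
    · intro h
      have h0 : DihedralGroup.sr (0 : ZMod 3) = (1 : DihedralGroup 3) := congrFun (congrArg Subtype.val h) 0
      exact absurd h0 (by clear h h0; decide +revert)
  · refine ⟨⟨fun _ => DihedralGroup.r 1, fun _ _ => rfl⟩, orderOf_eq_prime ?_ ?_⟩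
    · exact Subtype.ext (funext fun _ => (pow_of_par _).1 rfl)
    · intro h
      have h0 : DihedralGroup.r (1 : ZMod 3) = (1 : DihedralGroup 3) := congrFun (congrArg Subtype.val h) 0
      exact absurd h0 (by clear h h0; decide +revert)

theorem dihedral_orders (p : ℕ) (x : DihedralGroup p) : orderOf x ∣ p ∨ orderOf x ∣ 2 := by
  cases x with
  | r i =>
    left
    apply orderOf_dvd_of_pow_eq_one
    rw [DihedralGroup.r_pow, ZMod.natCast_self, mul_zero]
    rfl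
  | sr i => right; rw [DihedralGroup.orderOf_sr]

/-- The common spectrum. -/
def Spec (n : ℕ) : Prop := n ∣ 43890 ∧ n ≠ 43890

theorem spec_missing {n : ℕ} (h : Spec n) : ∃ p ∈ [2, 3, 5, 7, 11, 19], n ∣ 43890 / p := by
  have hk : ∀ n ∈ Nat.divisors 43890, n = 43890 ∨ ∃ p ∈ [2, 3, 5, 7, 11, 19], n ∣ 43890 / p := by
    decide +kernel
  exact (hk n (Nat.mem_divisors.mpr ⟨h.1, by norm_num⟩)).resolve_left h.2

theorem range_eq {K : Type*} [Group K] [Finite K] (h1 : ∀ x : K, Spec (orderOf x))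
    (h2 : ∀ p ∈ [2, 3, 5, 7, 11, 19], ∃ x : K, orderOf x = 43890 / p) :
    Set.range (orderOf : K → ℕ) = {n | Spec n} := by
  ext n
  constructor
  · rintro ⟨x, rfl⟩; exact h1 x
  · intro hn
    obtain ⟨p, hp, m, hm⟩ := spec_missing hn
    obtain ⟨x, hx⟩ := h2 p hp
    refine ⟨x ^ m, ?_⟩
    have hpos : 0 < n * m := by rw [← hm, ← hx]; exact orderOf_pos x
    have hm0 : 0 < m := Nat.pos_of_mul_pos_left hpos
    rw [orderOf_pow' _ hm0.ne', hx, hm, Nat.gcd_mul_left_left, Nat.mul_div_cancel _ hm0]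

theorem j1_exponent (x : Spor.J1) : ∃ e ∈ CfsgLib.J1.expo, orderOf x ∣ e := by
  obtain ⟨e, he, h⟩ := CfsgLib.J1.exists_exponent x.2
  exact ⟨e, he, orderOf_dvd_of_pow_eq_one (Subtype.ext h)⟩

theorem lcm_mono {a b c d : ℕ} (h : a ∣ b) (h' : c ∣ d) : a.lcm c ∣ b.lcm d :=
  Nat.lcm_dvd (h.trans (Nat.dvd_lcm_left _ _)) (h'.trans (Nat.dvd_lcm_right _ _))

theorem spec_of_dvd {n m : ℕ} (h : n ∣ m) (hm : Spec m) : Spec n :=
  ⟨h.trans hm.1, fun e => hm.2 (Nat.dvd_antisymm hm.1 (e ▸ h))⟩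

theorem range_j1_pow :
    Set.range (orderOf : ↥Spor.J1 × ↥Spor.J1 × ↥Spor.J1 × ↥Spor.J1 → ℕ) = {n | Spec n} := by
  apply range_eq
  · intro x
    obtain ⟨a, b, c, d⟩ := x
    obtain ⟨ea, hea, ha⟩ := j1_exponent a
    obtain ⟨eb, heb, hb⟩ := j1_exponent b
    obtain ⟨ec, hec, hc⟩ := j1_exponent c
    obtain ⟨ed, hed, hd⟩ := j1_exponent d
    refine spec_of_dvd (m := ea.lcm (eb.lcm (ec.lcm ed))) ?_ ?_
    · simp only [Prod.orderOf_mk]
      exact lcm_mono ha (lcm_mono hb (lcm_mono hc hd))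
    · have hk : ∀ a ∈ CfsgLib.J1.expo, ∀ b ∈ CfsgLib.J1.expo, ∀ c ∈ CfsgLib.J1.expo,
          ∀ d ∈ CfsgLib.J1.expo, a.lcm (b.lcm (c.lcm d)) ∣ 43890 ∧ a.lcm (b.lcm (c.lcm d)) ≠ 43890 := by
        decide +kernel
      exact hk ea hea eb heb ec hec ed hed
  · intro p hp
    have ex : ∀ a ∈ CfsgLib.J1.expo, ∃ g : Spor.J1, orderOf g = a := fun a ha => by
      obtain ⟨g, hg, h⟩ := CfsgLib.J1.exists_orderOf ha
      exact ⟨⟨g, hg⟩, by rwa [Subgroup.orderOf_mk]⟩
    have hk : ∀ p ∈ [2, 3, 5, 7, 11, 19], ∃ a ∈ CfsgLib.J1.expo, ∃ b ∈ CfsgLib.J1.expo,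
        ∃ c ∈ CfsgLib.J1.expo, ∃ d ∈ CfsgLib.J1.expo, a.lcm (b.lcm (c.lcm d)) = 43890 / p := by
      decide +kernel
    obtain ⟨a, ha, b, hb, c, hc, d, hd, h⟩ := hk p hp
    obtain ⟨ga, hga⟩ := ex a ha
    obtain ⟨gb, hgb⟩ := ex b hb
    obtain ⟨gc, hgc⟩ := ex c hc
    obtain ⟨gd, hgd⟩ := ex d hd
    exact ⟨(ga, gb, gc, gd), by simp only [Prod.orderOf_mk, hga, hgb, hgc, hgd]; exact h⟩

/-- The large group with the spectrum of `J1⁴`. -/
abbrev Big (k : ℕ) : Type :=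
  ↥(bigDih (k + 1)) × DihedralGroup 5 × DihedralGroup 7 × DihedralGroup 11 × DihedralGroup 19

theorem range_big (k : ℕ) : Set.range (orderOf : Big k → ℕ) = {n | Spec n} := by
  apply range_eq
  · rintro ⟨a, b, c, d, e⟩
    have hk : ∀ a ∈ [3, 2], ∀ b ∈ [5, 2], ∀ c ∈ [7, 2], ∀ d ∈ [11, 2], ∀ e ∈ [19, 2],
        Nat.lcm a (Nat.lcm b (Nat.lcm c (Nat.lcm d e))) ∣ 43890 ∧
        Nat.lcm a (Nat.lcm b (Nat.lcm c (Nat.lcm d e))) ≠ 43890 := by decide +kernel
    have sel : ∀ {n p : ℕ}, n ∣ p ∨ n ∣ 2 → ∃ q ∈ [p, 2], n ∣ q := fun {n p} h => by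
      rcases h with h | h
      · exact ⟨p, by simp, h⟩
      · exact ⟨2, by simp, h⟩
    obtain ⟨qa, hqa, ha⟩ := sel (bigDih_orders _ a)
    obtain ⟨qb, hqb, hb⟩ := sel (dihedral_orders 5 b)
    obtain ⟨qc, hqc, hc⟩ := sel (dihedral_orders 7 c)
    obtain ⟨qd, hqd, hd⟩ := sel (dihedral_orders 11 d)
    obtain ⟨qe, hqe, he⟩ := sel (dihedral_orders 19 e)
    refine spec_of_dvd (m := qa.lcm (qb.lcm (qc.lcm (qd.lcm qe)))) ?_
      (hk qa hqa qb hqb qc hqc qd hqd qe hqe)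
    simp only [Prod.orderOf_mk]
    exact lcm_mono ha (lcm_mono hb (lcm_mono hc (lcm_mono hd he)))
  · intro p hp
    obtain ⟨⟨f2, h2⟩, f3, h3⟩ := exists_mem_two_three k
    have hd : ∀ q : ℕ, orderOf (DihedralGroup.r (1 : ZMod q)) = q := fun q => DihedralGroup.orderOf_r_one
    have hs : ∀ q : ℕ, orderOf (DihedralGroup.sr (0 : ZMod q)) = 2 := fun q => DihedralGroup.orderOf_sr 0
    simp only [List.mem_cons, List.not_mem_nil, or_false] at hp
    rcases hp with rfl | rfl | rfl | rfl | rfl | rfl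
    · refine ⟨(f3, .r 1, .r 1, .r 1, .r 1), ?_⟩; simp only [Prod.orderOf_mk, h3, hd]; decide +kernel
    · refine ⟨(f2, .r 1, .r 1, .r 1, .r 1), ?_⟩; simp only [Prod.orderOf_mk, h2, hd]; decide +kernel
    · refine ⟨(f3, .sr 0, .r 1, .r 1, .r 1), ?_⟩; simp only [Prod.orderOf_mk, h3, hd, hs]; decide +kernel
    · refine ⟨(f3, .r 1, .sr 0, .r 1, .r 1), ?_⟩; simp only [Prod.orderOf_mk, h3, hd, hs]; decide +kernel
    · refine ⟨(f3, .r 1, .r 1, .sr 0, .r 1), ?_⟩; simp only [Prod.orderOf_mk, h3, hd, hs]; decide +kernel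
    · refine ⟨(f3, .r 1, .r 1, .r 1, .sr 0), ?_⟩; simp only [Prod.orderOf_mk, h3, hd, hs]; decide +kernel

/-- Let J be the first Janko group. Then there are finite groups of arbitrarily large order with exactly the same set of element orders as J × J × J × J. -/
theorem result (N : ℕ) : ∃ (H : Type) (_ : Group H) (_ : Fintype H), N < Fintype.card H ∧
      Set.range (orderOf : H → ℕ) = Set.range (orderOf : ↥Cfsg.Spor.J1 × ↥Cfsg.Spor.J1 × ↥Cfsg.Spor.J1 × ↥Cfsg.Spor.J1 → ℕ) := by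
  haveI : NeZero (5 : ℕ) := ⟨by norm_num⟩
  refine ⟨Big N, inferInstance, Fintype.ofFinite _, ?_, (range_big N).trans range_j1_pow.symm⟩
  rw [Fintype.card_eq_nat_card]
  simp only [Nat.card_prod]
  calc N < N + 1 := Nat.lt_succ_self _
    _ < Nat.card (bigDih (N + 1)) := lt_card_bigDih _
    _ ≤ _ := Nat.le_mul_of_pos_right _ (by simp only [← Nat.card_prod]; exact Nat.card_pos)

end Cfsg.Agent.S3627
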