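import Cfsg.Statements.S3634
import Mathlib

set_option autoImplicit false
open Cfsg

namespace Cfsg.Agent.S3634

open Subgroup

variable {G : Type*} [Group G]

theorem pq_element [Finite G] {p q : ℕ} (hp : p.Prime) (hq : q.Prime) (hpq : p ≠ q) {u v : G} (h : Commute u v)
    (hu : u ≠ 1) (hv : v ≠ 1) (hup : ∃ k, u ^ p ^ k = 1) (hvq : ∃ k, v ^ q ^ k = 1) : ∃ x : G, orderOf x = p * q := by
  have key : ∀ {p : ℕ} {u : G}, p.Prime → u ≠ 1 → (∃ k, u ^ p ^ k = 1) → ∃ j, orderOf (u ^ j) = p := by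
    intro p u hp hu hk
    obtain ⟨k, hk⟩ := hk
    obtain ⟨j, hj, hj'⟩ := (Nat.dvd_prime_pow hp).1 (orderOf_dvd_of_pow_eq_one hk)
    refine ⟨orderOf u / p, orderOf_pow_orderOf_div (orderOf_pos u).ne' ?_⟩
    rw [hj']
    refine dvd_pow_self p fun h0 => hu ?_
    rw [← orderOf_eq_one_iff, hj', h0, pow_zero]
  obtain ⟨i, hi⟩ := key hp hu hup
  obtain ⟨j, hj⟩ := key hq hv hvq
  refine ⟨u ^ i * v ^ j, ?_⟩
  rw [(h.pow_pow i j).orderOf_mul_eq_mul_orderOf_of_coprime (by rw [hi, hj]; exact (Nat.coprime_primes hp hq).2 hpq),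
    hi, hj]

theorem conj_pow_eq_one {g x : G} {n : ℕ} (hx : x ^ n = 1) : (g * x * g⁻¹) ^ n = 1 := by
  rw [conj_pow, hx, mul_one, mul_inv_cancel]

/-- no `Q ⋊ ⟨x⟩` can act on `E` with all three pairs fixed point free. -/
theorem no_chain [Finite G] {p q r : ℕ} (hp : p.Prime) (hq : q.Prime) (hr : r.Prime) (hpq : p ≠ q) (hpr : p ≠ r)
    (hqr : q ≠ r) (E Q : Subgroup G) (hEc : IsMulCommutative E) (hQc : IsMulCommutative Q)
    (hEp : IsPGroup p E) (hQq : IsPGroup q Q) (hE : E ≠ ⊥) (hQ : Q ≠ ⊥) (x : G) (hx : orderOf x = r)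
    (hQE : ∀ s ∈ Q, ∀ e ∈ E, s * e * s⁻¹ ∈ E) (hxE : ∀ e ∈ E, x * e * x⁻¹ ∈ E) (hxQ : ∀ s ∈ Q, x * s * x⁻¹ ∈ Q) :
    (∃ x : G, orderOf x = p * q) ∨ (∃ x : G, orderOf x = p * r) ∨ (∃ x : G, orderOf x = q * r) := by
  classical
  by_contra hcon
  simp only [not_or] at hcon
  obtain ⟨hn1, hn2, hn3⟩ := hcon
  haveI := Fintype.ofFinite Q
  letI : CommGroup E := { (inferInstance : Group E) with mul_comm := fun a b => hEc.is_comm.comm a b }
  have hpw : ∀ {p : ℕ} {H : Subgroup G}, IsPGroup p H → ∀ a ∈ H, ∃ k, a ^ p ^ k = 1 := fun hH a ha => by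
    obtain ⟨k, hk⟩ := hH ⟨a, ha⟩
    exact ⟨k, congrArg Subtype.val hk⟩
  have hx1 : x ≠ 1 := fun h => by rw [h, orderOf_one] at hx; exact hr.ne_one hx.symm
  have hxr : ∀ i : ℕ, ∃ k, (x ^ i) ^ r ^ k = 1 := fun i => ⟨1, by rw [pow_one, ← pow_mul, mul_comm, pow_mul, ← hx, pow_orderOf_eq_one, one_pow]⟩
  have hxi : ∀ {H : Subgroup G}, (∀ e ∈ H, x * e * x⁻¹ ∈ H) → ∀ (i : ℕ), ∀ e ∈ H, x ^ i * e * (x ^ i)⁻¹ ∈ H := by
    intro H hH i
    induction i with
    | zero => simp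
    | succ i ih =>
      intro e he
      have := hH _ (ih e he)
      rwa [show x ^ (i + 1) * e * (x ^ (i + 1))⁻¹ = x * (x ^ i * e * (x ^ i)⁻¹) * x⁻¹ by rw [pow_succ']; group]
  let cj : ∀ g : G, (∀ e ∈ E, g * e * g⁻¹ ∈ E) → (E →* E) := fun g hg =>
    { toFun := fun e => ⟨g * e * g⁻¹, hg e e.2⟩
      map_one' := Subtype.ext (by simp)
      map_mul' := fun a b => Subtype.ext (by simp [mul_assoc]) }
  -- products over `Q` vanish
  have hsumQ : ∀ w : E, ∏ s : Q, cj s (hQE s s.2) w = 1 := by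
    intro w
    set P := ∏ s : Q, cj s (hQE s s.2) w
    by_contra hP
    obtain ⟨⟨t, ht⟩, ht1⟩ := Subgroup.ne_bot_iff_exists_ne_one.1 hQ
    have hfix : cj t (hQE t ht) P = P := by
      rw [map_prod]
      refine Fintype.prod_equiv (Equiv.mulLeft (⟨t, ht⟩ : Q)) _ _ fun s => Subtype.ext ?_
      show t * (s * w * (s : G)⁻¹) * t⁻¹ = (t * s : G) * w * (t * s : G)⁻¹
      group
    have hc : Commute (P : G) t := by
      have h1 : t * (P : G) * t⁻¹ = P := congrArg Subtype.val hfix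
      exact (mul_inv_eq_iff_eq_mul.1 h1).symm
    exact hn1 (pq_element hp hq hpq hc (fun h => hP (Subtype.ext h)) (fun h => ht1 (Subtype.ext h))
      (hpw hEp _ P.2) (hpw hQq _ ht))
  have hsumX : ∀ w : E, ∏ i ∈ Finset.range r, cj (x ^ i) (hxi hxE i) w = 1 := by
    intro w
    set P := ∏ i ∈ Finset.range r, cj (x ^ i) (hxi hxE i) w
    by_contra hP
    have hfix : cj x hxE P = P := by
      rw [map_prod]
      let f : ℕ → E := fun i => cj (x ^ i) (hxi hxE i) w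
      have e1 : ∀ i, cj x hxE (cj (x ^ i) (hxi hxE i) w) = f (i + 1) := fun i => Subtype.ext (by
        show x * (x ^ i * w * (x ^ i)⁻¹) * x⁻¹ = x ^ (i + 1) * w * (x ^ (i + 1))⁻¹
        rw [pow_succ']; group)
      simp only [e1]
      show ∏ i ∈ Finset.range r, f (i + 1) = ∏ i ∈ Finset.range r, f i
      have h2 := (Finset.prod_range_succ f r).symm.trans (Finset.prod_range_succ' f r)
      have h3 : f r = f 0 := Subtype.ext (by
        show x ^ r * w * (x ^ r)⁻¹ = x ^ 0 * w * (x ^ 0)⁻¹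
        rw [← hx, pow_orderOf_eq_one, pow_zero])
      rw [h3] at h2
      exact (mul_right_cancel h2).symm
    have hc : Commute (P : G) x := (mul_inv_eq_iff_eq_mul.1 (congrArg Subtype.val hfix : x * (P : G) * x⁻¹ = P)).symm
    exact hn2 (pq_element hp hr hpr hc (fun h => hP (Subtype.ext h)) hx1 (hpw hEp _ P.2) (by simpa using hxr 1))
  -- the group `Q ⟨x⟩`
  have key : ∀ v : E, v ^ Fintype.card Q = 1 := by
    intro v
    have e1 : ∏ s : Q, ∏ i ∈ Finset.range r, cj (x ^ i) (hxi hxE i) v = 1 := by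
      simp [hsumX]
    have e2 : ∀ s : Q, ∏ i ∈ Finset.range r, cj s (hQE s s.2) (cj (x ^ i) (hxi hxE i) (cj (s : G)⁻¹ (hQE _ (inv_mem s.2)) v)) = 1 :=
      fun s => by rw [← map_prod, hsumX, map_one]
    have e3 : ∏ i ∈ Finset.range r, ∏ s : Q, cj s (hQE s s.2) (cj (x ^ i) (hxi hxE i) (cj (s : G)⁻¹ (hQE _ (inv_mem s.2)) v)) = 1 := by
      rw [Finset.prod_comm]; simp [e2]
    rw [Finset.prod_eq_single_of_mem 0 (Finset.mem_range.2 hr.pos)] at e3
    · rw [← Finset.card_univ, ← Finset.prod_const]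
      convert e3 using 2
      rename_i s _
      apply Subtype.ext
      show (v : G) = s * (x ^ 0 * ((s : G)⁻¹ * v * (s : G)⁻¹⁻¹) * (x ^ 0)⁻¹) * (s : G)⁻¹
      rw [pow_zero]; group
    · intro i hi hi0
      rw [Finset.mem_range] at hi
      -- `s ↦ s x^i s⁻¹ x^-i` is a bijection of `Q`
      let β : Q → Q := fun s => ⟨s * (x ^ i * (s : G)⁻¹ * (x ^ i)⁻¹), mul_mem s.2 (hxi hxQ i _ (inv_mem s.2))⟩
      have hβ : Function.Bijective β := by
        refine Finite.injective_iff_bijective.1 fun s t hst => ?_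
        have h1 : (s : G) * (x ^ i * (s : G)⁻¹ * (x ^ i)⁻¹) = t * (x ^ i * (t : G)⁻¹ * (x ^ i)⁻¹) := congrArg Subtype.val hst
        have hd : Commute ((t⁻¹ * s : Q) : G) (x ^ i) := by
          have h2 : ((t⁻¹ * s : Q) : G) = x ^ i * ((t : G)⁻¹ * s) * (x ^ i)⁻¹ := by
            calc ((t⁻¹ * s : Q) : G) = (t : G)⁻¹ * ((s : G) * (x ^ i * (s : G)⁻¹ * (x ^ i)⁻¹)) * (x ^ i * (s : G) * (x ^ i)⁻¹) := by
                  push_cast; group
              _ = x ^ i * ((t : G)⁻¹ * s) * (x ^ i)⁻¹ := by rw [h1]; group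
          calc ((t⁻¹ * s : Q) : G) * x ^ i = x ^ i * ((t : G)⁻¹ * s) * (x ^ i)⁻¹ * x ^ i := by rw [h2]
            _ = x ^ i * ((t⁻¹ * s : Q) : G) := by push_cast; group
        by_contra hne
        refine hn3 (pq_element hq hr hqr hd ?_ ?_ (hpw hQq _ (t⁻¹ * s : Q).2) (hxr i))
        · intro h
          exact hne (inv_mul_eq_one.1 (Subtype.ext h : t⁻¹ * s = 1)).symm
        · intro h
          rw [← orderOf_dvd_iff_pow_eq_one, hx] at h
          exact absurd (Nat.le_of_dvd (Nat.pos_of_ne_zero hi0) h) (by omega)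
      rw [← hsumQ (cj (x ^ i) (hxi hxE i) v)]
      refine Fintype.prod_equiv (Equiv.ofBijective β hβ) _ _ fun s => Subtype.ext ?_
      show (s : G) * (x ^ i * ((s : G)⁻¹ * v * (s : G)⁻¹⁻¹) * (x ^ i)⁻¹) * (s : G)⁻¹ =
        (s * (x ^ i * (s : G)⁻¹ * (x ^ i)⁻¹)) * (x ^ i * v * (x ^ i)⁻¹) * (s * (x ^ i * (s : G)⁻¹ * (x ^ i)⁻¹))⁻¹
      group
  obtain ⟨v, hv⟩ := Subgroup.ne_bot_iff_exists_ne_one.1 hE
  haveI : Fact p.Prime := ⟨hp⟩
  haveI : Fact q.Prime := ⟨hq⟩
  obtain ⟨k, hk⟩ := hEp v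
  obtain ⟨l, hl⟩ := IsPGroup.iff_card.1 hQq
  apply hv
  have h1 := key v
  rw [← Nat.card_eq_fintype_card, hl] at h1
  have h2 := Nat.dvd_gcd (orderOf_dvd_of_pow_eq_one hk) (orderOf_dvd_of_pow_eq_one h1)
  rw [((Nat.coprime_primes hp hq).2 hpq).pow k l] at h2
  exact orderOf_eq_one_iff.1 (Nat.dvd_one.1 h2)


/-- Let G be a finite group with normal subgroups K ≤ M, and let p, q, r be distinct primes with p dividing the order of K, q dividing the order of M/K and r dividing the order of G/M. Then p, q, r are not pairwise non-adjacent in the prime graph of G: G has an element of order pq, pr or qr. -/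
theorem result {G : Type*} [Group G] [Finite G] (K M : Subgroup G) [K.Normal] [M.Normal] (hKM : K ≤ M)
    (p q r : ℕ) (hp : p.Prime) (hq : q.Prime) (hr : r.Prime) (hpq : p ≠ q) (hpr : p ≠ r) (hqr : q ≠ r)
    (hpK : p ∣ Nat.card ↥K) (hqM : q ∣ Nat.card ↥M / Nat.card ↥K) (hrG : r ∣ Nat.card G / Nat.card ↥M) :
    (∃ x : G, orderOf x = p * q) ∨ (∃ x : G, orderOf x = p * r) ∨ (∃ x : G, orderOf x = q * r) := by
  classical
  haveI : Fact p.Prime := ⟨hp⟩
  haveI : Fact q.Prime := ⟨hq⟩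
  haveI : Fact r.Prime := ⟨hr⟩
  obtain ⟨P⟩ : Nonempty (Sylow p K) := inferInstance
  set N1 : Subgroup G := Subgroup.normalizer ((((P : Subgroup K).map K.subtype : Subgroup G)) : Set G)
  have hfr : N1 ⊔ K = ⊤ := P.normalizer_sup_eq_top
  -- `N1` covers `M` modulo `K`
  have hcov : ∀ g : G, ∃ n ∈ N1, ∃ k ∈ K, g = n * k := fun g => by
    have h : g ∈ ((N1 ⊔ K : Subgroup G) : Set G) := by rw [hfr]; trivial
    rw [Subgroup.mul_normal] at h
    obtain ⟨n, hn, k, hk, rfl⟩ := h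
    exact ⟨n, hn, k, hk, rfl⟩
  set L : Subgroup N1 := M.subgroupOf N1
  have hqL : q ∣ Nat.card L := by
    let f : L →* M ⧸ K.subgroupOf M :=
      (QuotientGroup.mk' _).comp { toFun := fun l => (⟨((l : N1) : G), l.2⟩ : M), map_one' := rfl, map_mul' := fun _ _ => rfl }
    have hf : Function.Surjective f := by
      intro y
      obtain ⟨⟨m, hm⟩, rfl⟩ := QuotientGroup.mk'_surjective _ y
      obtain ⟨n, hn, k, hk, rfl⟩ := hcov m
      have hnM : n ∈ M := by
        have := mul_mem hm (inv_mem (hKM hk))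
        rwa [mul_inv_cancel_right] at this
      refine ⟨⟨⟨n, hn⟩, hnM⟩, QuotientGroup.eq.2 ?_⟩
      show n⁻¹ * (n * k) ∈ K
      rwa [inv_mul_cancel_left]
    refine dvd_trans ?_ (Subgroup.card_dvd_of_surjective f hf)
    rw [← Subgroup.index_eq_card, ← Subgroup.relIndex]
    have h := Subgroup.relIndex_mul_relIndex (⊥ : Subgroup G) K M bot_le hKM
    rw [Subgroup.relIndex_bot_left, Subgroup.relIndex_bot_left] at h
    rwa [← h, Nat.mul_div_cancel_left _ Nat.card_pos] at hqM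
  obtain ⟨Q⟩ : Nonempty (Sylow q L) := inferInstance
  set N2 : Subgroup N1 := Subgroup.normalizer ((((Q : Subgroup L).map L.subtype : Subgroup N1)) : Set N1)
  have hfr2 : N2 ⊔ L = ⊤ := Q.normalizer_sup_eq_top
  obtain ⟨x, hx⟩ : ∃ x : N2, orderOf x = r := by
    apply exists_prime_orderOf_dvd_card'
    let f : N2 →* G ⧸ M := (QuotientGroup.mk' M).comp (N1.subtype.comp N2.subtype)
    have hf : Function.Surjective f := by
      intro y
      obtain ⟨g, rfl⟩ := QuotientGroup.mk'_surjective M y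
      obtain ⟨n, hn, k, hk, rfl⟩ := hcov g
      have h : (⟨n, hn⟩ : N1) ∈ ((N2 ⊔ L : Subgroup N1) : Set N1) := by rw [hfr2]; trivial
      rw [Subgroup.mul_normal] at h
      obtain ⟨a, ha, l, hl, hal⟩ := h
      refine ⟨⟨a, ha⟩, QuotientGroup.eq.2 ?_⟩
      show (a : G)⁻¹ * (n * k) ∈ M
      have : n = (a : G) * (l : G) := (congrArg Subtype.val hal).symm
      rw [this, mul_assoc, inv_mul_cancel_left]
      exact mul_mem hl (hKM hk)
    refine dvd_trans ?_ (Subgroup.card_dvd_of_surjective f hf)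
    rw [← Subgroup.index_eq_card]
    rwa [← M.index_mul_card, Nat.mul_div_cancel _ Nat.card_pos] at hrG
  have hPne : (P : Subgroup K) ≠ ⊥ := fun h => by
    have := P.card_eq_multiplicity
    rw [h, Subgroup.card_bot] at this
    exact (Nat.one_lt_pow (hp.factorization_pos_of_dvd Nat.card_pos.ne' hpK).ne' hp.one_lt).ne this
  have hQne : (Q : Subgroup L) ≠ ⊥ := fun h => by
    have := Q.card_eq_multiplicity
    rw [h, Subgroup.card_bot] at this
    exact (Nat.one_lt_pow (hq.factorization_pos_of_dvd Nat.card_pos.ne' hqL).ne' hq.one_lt).ne this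
  set P' : Subgroup G := (P : Subgroup K).map K.subtype
  set Q' : Subgroup G := (((Q : Subgroup L).map L.subtype).map N1.subtype)
  let E : Subgroup G := P' ⊓ Subgroup.centralizer (P' : Set G)
  let F : Subgroup G := Q' ⊓ Subgroup.centralizer (Q' : Set G)
  have hEc : ∀ (H : Subgroup G), IsMulCommutative (H ⊓ Subgroup.centralizer (H : Set G) : Subgroup G) := fun H =>
    ⟨⟨fun a b => Subtype.ext (Subgroup.mem_centralizer_iff.1 b.2.2 _ a.2.1)⟩⟩
  have hne : ∀ {p : ℕ} [Fact p.Prime] (H : Subgroup G), IsPGroup p H → H ≠ ⊥ → H ⊓ Subgroup.centralizer (H : Set G) ≠ ⊥ := by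
    intro p _ H hH hne h
    haveI : Nontrivial H := (Subgroup.nontrivial_iff_ne_bot H).2 hne
    obtain ⟨z, hz, hz1⟩ := (Subgroup.bot_or_exists_ne_one (Subgroup.center H)).resolve_left ((Subgroup.nontrivial_iff_ne_bot _).1 hH.center_nontrivial)
    refine hz1 (Subtype.ext ?_)
    have : (z : G) ∈ H ⊓ Subgroup.centralizer (H : Set G) := ⟨z.2, Subgroup.mem_centralizer_iff.2 fun y hy =>
      congrArg Subtype.val (Subgroup.mem_center_iff.1 hz ⟨y, hy⟩)⟩
    rw [h, Subgroup.mem_bot] at this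
    exact this
  have hP'p : IsPGroup p P' := P.isPGroup'.map _
  have hQ'q : IsPGroup q Q' := (Q.isPGroup'.map _).map _
  have hP'ne : P' ≠ ⊥ := fun h => hPne ((Subgroup.map_eq_bot_iff_of_injective _ K.subtype_injective).1 h)
  have hQ'ne : Q' ≠ ⊥ := fun h => hQne ((Subgroup.map_eq_bot_iff_of_injective _ L.subtype_injective).1
    ((Subgroup.map_eq_bot_iff_of_injective _ N1.subtype_injective).1 h))
  have hnorm : ∀ (H : Subgroup G) (g : G), g ∈ Subgroup.normalizer (H : Set G) →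
      ∀ e ∈ H ⊓ Subgroup.centralizer (H : Set G), g * e * g⁻¹ ∈ H ⊓ Subgroup.centralizer (H : Set G) := by
    intro H g hg e he
    refine ⟨(Subgroup.mem_normalizer_iff.1 hg e).1 he.1, Subgroup.mem_centralizer_iff.2 fun y hy => ?_⟩
    have hy' : g⁻¹ * y * g ∈ H := by
      have := (Subgroup.mem_normalizer_iff.1 (inv_mem hg) y).1 hy
      rwa [inv_inv] at this
    have h1 := Subgroup.mem_centralizer_iff.1 he.2 _ hy'
    calc y * (g * e * g⁻¹) = g * ((g⁻¹ * y * g) * e) * g⁻¹ := by group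
      _ = g * (e * (g⁻¹ * y * g)) * g⁻¹ := by rw [h1]
      _ = g * e * g⁻¹ * y := by group
  have hxN : ((x : N1) : G) ∈ Subgroup.normalizer (Q' : Set G) :=
    Subgroup.le_normalizer_map N1.subtype ⟨(x : N1), x.2, rfl⟩
  exact no_chain hp hq hr hpq hpr hqr E F (hEc P') (hEc Q') (hP'p.to_le inf_le_left) (hQ'q.to_le inf_le_left)
    (hne P' hP'p hP'ne) (hne Q' hQ'q hQ'ne) ((x : N1) : G)
    (by rw [orderOf_submonoid, orderOf_submonoid, hx])
    (fun s hs e he => by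
      obtain ⟨⟨y, hy⟩, -, rfl⟩ := hs.1
      exact hnorm P' _ hy e he)
    (fun e he => hnorm P' _ (x : N1).2 e he) (fun s hs => hnorm Q' _ hxN s hs)

end Cfsg.Agent.S3634
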