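import Cfsg.Statements.S3639
import Mathlib
import Cfsg.Agent.Lib.SuzukiBasic
import Cfsg.Agent.Lib.PrimeGraphModule

set_option autoImplicit false
open Cfsg

namespace Cfsg.Agent.S3639



/-- Let S be the Suzuki group over the field with q = 2^(2m+1) ≥ 8 elements. Then there are finite groups of arbitrarily large order with the same prime graph as S. -/
theorem result {F : Type*} [Field F] [Fintype F] {m : ℕ} (hm : 1 ≤ m) (hF : Fintype.card F = 2 ^ (2 * m + 1)) (N : ℕ) :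
    ∃ (H : Type) (_ : Group H) (_ : Fintype H), N < Fintype.card H ∧ ((∀ r : ℕ, r.Prime → (r ∣ Nat.card ↥(Cfsg.Lie.Sz F (2 ^ (m + 1))) ↔ r ∣ Nat.card H)) ∧
      (∀ r s : ℕ, r.Prime → s.Prime → r ≠ s → ((∃ x : ↥(Cfsg.Lie.Sz F (2 ^ (m + 1))), orderOf x = r * s) ↔ (∃ y : H, orderOf y = r * s)))) := by
  classical
  haveI : CharP F 2 := by
    obtain ⟨p, hp⟩ := CharP.exists F
    obtain ⟨k, hpp, hk⟩ := FiniteField.card F p
    have : p ∣ 2 ^ (2 * m + 1) := by rw [← hF, hk]; exact dvd_pow_self p k.pos.ne'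
    rw [(Nat.prime_dvd_prime_iff_eq hpp Nat.prime_two).1 (hpp.dvd_of_dvd_pow this)] at hp
    exact hp
  refine CfsgLib.PrimeGraphModule.exists_large (Cfsg.Lie.Sz F (2 ^ (m + 1))).subtype (by norm_num)
    ?_ ?_ N
  · obtain ⟨g, hg, hg1, hg2⟩ :=
      CfsgLib.Suzuki.exists_involution (F := F) (2 ^ (m + 1)) (by positivity)
    have h : orderOf (⟨g, hg⟩ : ↥(Cfsg.Lie.Sz F (2 ^ (m + 1)))) = 2 :=
      orderOf_eq_prime (Subtype.ext hg2) (fun e => hg1 (congrArg Subtype.val e))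
    have h2 := orderOf_dvd_natCard (⟨g, hg⟩ : ↥(Cfsg.Lie.Sz F (2 ^ (m + 1))))
    rw [h] at h2
    exact h2
  · intro g v hv hfix
    refine ⟨2, Subtype.ext ?_⟩
    exact CfsgLib.Suzuki.pow_four_eq_one (CfsgLib.Suzuki.mem_Sz_iff.1 g.2) hv hfix

end Cfsg.Agent.S3639
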