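import Cfsg.Statements.S3641
import Cfsg.Agent.Lib.SylowNumbers18.Numbers
import Cfsg.Agent.Lib.SylowNumbers18.Kernel
-- import your own Cfsg.Agent.* helpers here

set_option autoImplicit false
open Cfsg

namespace Cfsg.Agent.S3641

/-- Let G be a finite group with trivial centre whose set of Sylow numbers (numbers of Sylow r-subgroups, r over the prime divisors of its order) is exactly {18, 136, 153}. Then G is isomorphic to PSL(2, 17) or to PGL(2, 17). -/
theorem result {G : Type*} [Group G] [Finite G] (hZ : Subgroup.center G = ⊥) (hNS : {c : ℕ | ∃ r : ℕ, r.Prime ∧ r ∣ Nat.card G ∧ c = Nat.card (Sylow r G)} = ({18, 136, 153} : Set ℕ))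
    {F : Type*} [Field F] [Fintype F] (hF : Fintype.card F = 17) :
    Nonempty (G ≃* Matrix.ProjectiveSpecialLinearGroup (Fin 2) F) ∨ Nonempty (G ≃* (GL (Fin 2) F ⧸ Subgroup.center (GL (Fin 2) F))) := by
  classical
  haveI : Fact (Nat.Prime 17) := ⟨by norm_num⟩
  have hmem : ∀ r : ℕ, r.Prime → r ∣ Nat.card G →
      Nat.card (Sylow r G) = 18 ∨ Nat.card (Sylow r G) = 136 ∨ Nat.card (Sylow r G) = 153 := fun r hr hrG => by
    have h : Nat.card (Sylow r G) ∈ ({18, 136, 153} : Set ℕ) := hNS ▸ ⟨r, hr, hrG, rfl⟩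
    simpa using h
  have hmod : ∀ r : ℕ, r.Prime → Nat.card (Sylow r G) % r = 1 := fun r hr => by
    haveI := Fact.mk hr
    have h := card_sylow_modEq_one r G
    rwa [Nat.ModEq, Nat.mod_eq_of_lt hr.one_lt] at h
  -- the primes
  have hprime : ∀ r : ℕ, r.Prime → r ∣ Nat.card G →
      r = 2 ∧ Nat.card (Sylow r G) = 153 ∨ r = 3 ∧ Nat.card (Sylow r G) = 136 ∨ r = 5 ∧ Nat.card (Sylow r G) = 136 ∨
        r = 19 ∧ Nat.card (Sylow r G) = 153 ∨ r = 17 ∧ Nat.card (Sylow r G) = 18 := fun r hr hrG => by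
    have hr2 := hr.two_le
    have hm := hmod r hr
    rcases hmem r hr hrG with h | h | h <;> rw [h] at hm <;> rw [h]
    · have : r ∈ Nat.divisors 17 := Nat.mem_divisors.mpr ⟨⟨18 / r, by have := Nat.div_add_mod 18 r; omega⟩, by norm_num⟩
      rw [show Nat.divisors 17 = {1, 17} by decide +kernel] at this
      simp only [Finset.mem_insert, Finset.mem_singleton] at this
      omega
    · have : r ∈ Nat.divisors 135 := Nat.mem_divisors.mpr ⟨⟨136 / r, by have := Nat.div_add_mod 136 r; omega⟩, by norm_num⟩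
      rw [show Nat.divisors 135 = {1, 3, 5, 9, 15, 27, 45, 135} by decide +kernel] at this
      simp only [Finset.mem_insert, Finset.mem_singleton] at this
      rcases this with rfl | rfl | rfl | rfl | rfl | rfl | rfl | rfl <;> first | omega | (exfalso; norm_num at hr)
    · have : r ∈ Nat.divisors 152 := Nat.mem_divisors.mpr ⟨⟨153 / r, by have := Nat.div_add_mod 153 r; omega⟩, by norm_num⟩
      rw [show Nat.divisors 152 = {1, 2, 4, 8, 19, 38, 76, 152} by decide +kernel] at this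
      simp only [Finset.mem_insert, Finset.mem_singleton] at this
      rcases this with rfl | rfl | rfl | rfl | rfl | rfl | rfl | rfl <;> first | omega | (exfalso; norm_num at hr)
  obtain ⟨r₀, hr₀, hr₀G, hn₀⟩ : (18 : ℕ) ∈ {c : ℕ | ∃ r : ℕ, r.Prime ∧ r ∣ Nat.card G ∧ c = Nat.card (Sylow r G)} := by
    rw [hNS]; simp
  obtain ⟨h17G, hn17⟩ : 17 ∣ Nat.card G ∧ Nat.card (Sylow 17 G) = 18 := by
    rcases hprime r₀ hr₀ hr₀G with ⟨-, h⟩ | ⟨-, h⟩ | ⟨-, h⟩ | ⟨-, h⟩ | ⟨e, h⟩
    · omega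
    · omega
    · omega
    · omega
    · exact ⟨e ▸ hr₀G, e ▸ h⟩
  have h18G : 18 ∣ Nat.card G := by
    obtain ⟨P⟩ : Nonempty (Sylow 17 G) := inferInstance
    rw [← hn17, P.card_eq_index_normalizer]
    exact Subgroup.index_dvd_card _
  have hn2 : Nat.card (Sylow 2 G) = 153 := by
    have := hprime 2 Nat.prime_two ((by norm_num : 2 ∣ 18).trans h18G)
    omega
  have hn3 : Nat.card (Sylow 3 G) = 136 := by
    have := hprime 3 Nat.prime_three ((by norm_num : 3 ∣ 18).trans h18G)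
    omega
  -- the action on the Sylow `17`-subgroups
  let α := Sylow 17 G
  haveI : Fintype α := Fintype.ofFinite α
  have hα : Fintype.card α = 18 := by rw [← Nat.card_eq_fintype_card]; exact hn17
  obtain ⟨P₀⟩ : Nonempty (Sylow 17 G) := inferInstance
  let φ : G →* Equiv.Perm α := MulAction.toPermHom G α
  let H : Subgroup (Equiv.Perm α) := φ.range
  let ψ : G →* H := φ.rangeRestrict
  have hψ : Function.Surjective ψ := φ.rangeRestrict_surjective
  have hsm : ∀ (g : G) (c : α), ψ g • c = g • c := fun g c => rfl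
  haveI : MulAction.IsPretransitive H α := ⟨fun a b => by
    obtain ⟨g, hg⟩ := MulAction.exists_smul_eq G a b
    exact ⟨ψ g, hg⟩⟩
  -- an element of `P₀` moving a point
  obtain ⟨a, ha, hna⟩ : ∃ a ∈ (P₀ : Subgroup G), φ a ≠ 1 := by
    by_contra hh
    push Not at hh
    haveI : Nontrivial α := Fintype.one_lt_card_iff_nontrivial.mp (by omega)
    obtain ⟨S, hS⟩ := exists_ne P₀
    refine hS (Sylow.ext (P₀.3 S.2 (P₀.2.sylow_mem_fixedPoints_iff.mp fun c => ?_)))
    exact Equiv.Perm.ext_iff.mp (hh c c.2) S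
  let u : H := ψ a
  have hu : orderOf u = 17 := by
    obtain ⟨j, hj⟩ := P₀.2 ⟨a, ha⟩
    have hj' : u ^ 17 ^ j = 1 := by
      show ψ a ^ 17 ^ j = 1
      rw [← map_pow, show a ^ 17 ^ j = 1 from congrArg Subtype.val hj, map_one]
    obtain ⟨i, -, hi⟩ := (Nat.dvd_prime_pow (Fact.out : Nat.Prime 17)).mp (orderOf_dvd_of_pow_eq_one hj')
    have hdvd : orderOf u ∣ Nat.factorial 18 := by
      rw [← hα, ← Fintype.card_perm, ← Subgroup.orderOf_coe]
      exact orderOf_dvd_card
    rcases i with _ | _ | i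
    · exfalso
      rw [pow_zero, orderOf_eq_one_iff] at hi
      exact hna (congrArg Subtype.val hi)
    · rw [hi, pow_one]
    · exfalso
      have : 17 ^ 2 ∣ Nat.factorial 18 := (pow_dvd_pow 17 (by omega : 2 ≤ i + 2)).trans (hi ▸ hdvd)
      norm_num [Nat.factorial] at this
  have hux : u • P₀ = P₀ := Sylow.smul_eq_iff_mem_normalizer.mpr (Subgroup.le_normalizer ha)
  have hnorm : ∀ g : H, g • P₀ = P₀ → ∃ k : ℕ, g * u * g⁻¹ = u ^ k := by
    intro g hg
    obtain ⟨g, rfl⟩ := hψ g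
    rw [hsm] at hg
    have hga : g * a * g⁻¹ ∈ (P₀ : Subgroup G) :=
      (Subgroup.mem_normalizer_iff.mp (Sylow.smul_eq_iff_mem_normalizer.mp hg) a).mp ha
    have hle : Subgroup.zpowers u = (P₀ : Subgroup G).map ψ := by
      refine Subgroup.eq_of_le_of_card_ge (Subgroup.zpowers_le.mpr ⟨a, ha, rfl⟩) ?_
      rw [Nat.card_zpowers, hu]
      obtain ⟨i, hi⟩ := (P₀.2.map ψ).exists_card_eq
      have hdvd : Nat.card ↥((P₀ : Subgroup G).map ψ) ∣ Nat.factorial 18 := by
        rw [← hα, ← Fintype.card_perm, ← Nat.card_eq_fintype_card]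
        exact (Subgroup.card_subgroup_dvd_card _).trans (Subgroup.card_subgroup_dvd_card H)
      rw [hi] at hdvd ⊢
      rcases i with _ | _ | i
      · norm_num
      · norm_num
      · exfalso
        have : 17 ^ 2 ∣ Nat.factorial 18 := (pow_dvd_pow 17 (by omega : 2 ≤ i + 2)).trans hdvd
        norm_num [Nat.factorial] at this
    have h1 : ψ g * u * (ψ g)⁻¹ ∈ Subgroup.zpowers u := by
      rw [hle]
      exact ⟨g * a * g⁻¹, hga, by simp [u]⟩
    rw [← mem_powers_iff_mem_zpowers] at h1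
    obtain ⟨k, hk⟩ := h1
    exact ⟨k, hk.symm⟩
  haveI : Nontrivial α := Fintype.one_lt_card_iff_nontrivial.mp (by omega)
  obtain ⟨y, hy⟩ := exists_ne P₀
  -- Sylow numbers modulo the kernel
  let K : Subgroup G := φ.ker
  have hquot : ∀ p : ℕ, p.Prime → Nat.card (Sylow p (G ⧸ K)) = Nat.card (Sylow p H) := fun p hp => by
    haveI := Fact.mk hp
    exact CfsgLib.SylowNumbers18.card_sylow_congr (QuotientGroup.quotientKerEquivRange φ) p
  have hn3H : Nat.card (Sylow 3 H) ∣ 136 := by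
    haveI : Fact (Nat.Prime 3) := ⟨Nat.prime_three⟩
    obtain ⟨P⟩ : Nonempty (Sylow 3 G) := inferInstance
    rw [← hn3, CfsgLib.card_sylow_eq_mul_relIndex P K, hquot 3 Nat.prime_three]
    exact dvd_mul_right _ _
  have hK17 : ∀ P : Sylow 17 G, K ≤ Subgroup.normalizer ((P : Subgroup G) : Set G) := by
    refine CfsgLib.SylowNumbers18.le_normalizer_of_card_eq K ?_
    rw [hquot 17 (by norm_num), hn17, CfsgLib.SylowNumbers18.card_sylow_seventeen hα hu hux hnorm]
  have hd := CfsgLib.SylowNumbers18.d_cases hα hu hux hnorm hy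
  obtain ⟨-, -, hHc⟩ := CfsgLib.SylowNumbers18.card_eqs hα hu hux hnorm hy
  have hKc : Nat.card (G ⧸ K) = Nat.card H := Nat.card_congr (QuotientGroup.quotientKerEquivRange φ).toEquiv
  have hpi : ∀ r : ℕ, r.Prime → r ∣ Nat.card G → r = 2 ∨ r = 3 ∨ r = 17 := fun r hr hrG => by
    by_contra hne
    haveI := Fact.mk hr
    have hcases := hprime r hr hrG
    have hr' : r = 5 ∧ Nat.card (Sylow r G) = 136 ∨ r = 19 ∧ Nat.card (Sylow r G) = 153 := by omega
    refine CfsgLib.SylowNumbers18.not_dvd_card_sylow K hK17 ?_ ?_ ?_ (?_ : 17 ∣ Nat.card (Sylow r G))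
    · rw [hKc, hHc]
      rcases hr' with ⟨rfl, -⟩ | ⟨rfl, -⟩ <;> rcases hd with e | e <;> rw [e] <;> norm_num
    · rcases hr' with ⟨-, e⟩ | ⟨-, e⟩ <;> rw [e] <;> norm_num
    · rcases hr' with ⟨rfl, -⟩ | ⟨rfl, -⟩ <;> decide
    · rcases hr' with ⟨-, e⟩ | ⟨-, e⟩ <;> rw [e] <;> norm_num
  have hKp : ∀ p : ℕ, p.Prime → p ∣ Nat.card G → ∀ [Fact p.Prime] (P : Sylow p G),
      K ≤ Subgroup.normalizer ((P : Subgroup G) : Set G) := by
    intro p hp hpG _ P
    refine CfsgLib.SylowNumbers18.le_normalizer_of_card_eq K ?_ P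
    rw [hquot p hp]
    rcases hpi p hp hpG with rfl | rfl | rfl
    · rw [hn2, CfsgLib.SylowNumbers18.card_sylow_two hα hu hux hnorm]
    · rw [hn3, CfsgLib.SylowNumbers18.card_sylow_three hα hu hux hnorm hn3H]
    · rw [hn17, CfsgLib.SylowNumbers18.card_sylow_seventeen hα hu hux hnorm]
  -- the kernel is trivial
  have hKbot : K = ⊥ := by
    by_contra hne
    obtain ⟨p, hp, hpK⟩ := Nat.exists_prime_and_dvd (n := Nat.card K) (fun e => hne (Subgroup.card_eq_one.mp e))
    haveI := Fact.mk hp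
    have hpG : p ∣ Nat.card G := hpK.trans (Subgroup.card_subgroup_dvd_card K)
    obtain ⟨b, hb⟩ := exists_prime_orderOf_dvd_card' (G := K) p hpK
    obtain ⟨P⟩ : Nonempty (Sylow p G) := inferInstance
    haveI := CfsgLib.SylowNumbers18.inf_sylow_normal K (hKp p hp hpG) P
    have hbP : (b : G) ∈ (P : Subgroup G) := CfsgLib.SylowNumbers18.mem_sylow_of_normalize P
      (IsPGroup.of_card (p := p) (n := 1) (G := Subgroup.zpowers (b : G))
        (by rw [Nat.card_zpowers, Subgroup.orderOf_coe, hb, pow_one]))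
      (Subgroup.mem_zpowers _) (hKp p hp hpG P b.2)
    have hAne : K ⊓ (P : Subgroup G) ≠ ⊥ := fun e => by
      have hb1 : (b : G) = 1 := by
        have : (b : G) ∈ K ⊓ (P : Subgroup G) := ⟨b.2, hbP⟩
        rwa [e, Subgroup.mem_bot] at this
      rw [← Subgroup.orderOf_coe, hb1, orderOf_one] at hb
      exact hp.one_lt.ne hb
    obtain ⟨z, hz, hz1, hzP⟩ := CfsgLib.SylowNumbers18.exists_central P inf_le_right hAne
    apply hz1
    rw [← Subgroup.mem_bot, ← hZ]
    suffices hC : Subgroup.centralizer ({z} : Set G) = ⊤ by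
      refine Subgroup.mem_center_iff.mpr fun g => ?_
      have := Subgroup.mem_centralizer_iff.mp (hC ▸ Subgroup.mem_top g : g ∈ Subgroup.centralizer ({z} : Set G)) z rfl
      exact this.symm
    rw [← Subgroup.index_eq_one]
    by_contra hidx
    obtain ⟨q, hq, hqi⟩ := Nat.exists_prime_and_dvd hidx
    haveI := Fact.mk hq
    have hqG : q ∣ Nat.card G := hqi.trans (Subgroup.index_dvd_card _)
    by_cases hpq : q = p
    · subst hpq
      refine P.not_dvd_index (hqi.trans (Subgroup.index_dvd_of_le fun v hv => ?_))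
      rw [Subgroup.mem_centralizer_singleton_iff]
      exact hzP v hv
    · obtain ⟨Q⟩ : Nonempty (Sylow q G) := inferInstance
      refine Q.not_dvd_index (hqi.trans (Subgroup.index_dvd_of_le fun v hv => ?_))
      rw [Subgroup.mem_centralizer_singleton_iff]
      exact CfsgLib.SylowNumbers18.commute_sylow (Ne.symm hpq) (P.2.to_le inf_le_right) Q hz (hKp q hq hqG Q hz.1) hv
  have hinj : Function.Injective φ := (MonoidHom.ker_eq_bot_iff φ).mp hKbot
  let e0 : G ≃* H := MonoidHom.ofInjective hinj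
  let σ : ZMod 17 ≃+* F := ZMod.ringEquivOfPrime F (by norm_num) hF
  rcases CfsgLib.SylowNumbers18.iso_cases hα hu hux hnorm hy with ⟨-, ⟨e⟩⟩ | ⟨-, ⟨e⟩⟩
  · obtain ⟨e'⟩ := Cfsg.Agent.S0732.pgl_congr' σ
    exact Or.inr ⟨(e0.trans e).trans e'⟩
  · obtain ⟨e'⟩ := Cfsg.Agent.S0732.psl_congr' σ
    exact Or.inl ⟨(e0.trans e).trans e'⟩

end Cfsg.Agent.S3641
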