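import Cfsg.Statements.S3648
import Cfsg.Agent.Lib.NsePGL.Group
import Cfsg.Agent.Lib.NsePGL.Model
-- import your own Cfsg.Agent.* helpers here

set_option autoImplicit false
open Cfsg

namespace Cfsg.Agent.S3648

/-- For a finite group X let nse(X) be the set of values of the function 'number of elements of order k' over the element orders k that occur. Let F be a finite field of odd order q > 3 and P = PGL(2, F) = GL(2, F) modulo its centre. If G is a finite group with the same order as P and nse(G) = nse(P), then G is isomorphic to P. -/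
theorem result {F : Type*} [Field F] [Fintype F] (hodd : Odd (Fintype.card F)) (h3 : 3 < Fintype.card F)
    {G : Type*} [Group G] [Finite G] (hcard : Nat.card G = Nat.card (GL (Fin 2) F ⧸ Subgroup.center (GL (Fin 2) F)))
    (hnse : {c : ℕ | 0 < c ∧ ∃ n : ℕ, c = Nat.card {g : G // orderOf g = n}} = {c : ℕ | 0 < c ∧ ∃ n : ℕ, c = Nat.card {g : (GL (Fin 2) F ⧸ Subgroup.center (GL (Fin 2) F)) // orderOf g = n}}) :
    Nonempty (G ≃* (GL (Fin 2) F ⧸ Subgroup.center (GL (Fin 2) F))) := by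
  classical
  letI := Fintype.ofFinite G
  letI := Fintype.ofFinite (GL (Fin 2) F ⧸ Subgroup.center (GL (Fin 2) F))
  obtain ⟨p, hcp⟩ := CharP.exists F
  haveI := hcp
  obtain ⟨k, hp, hq⟩ := FiniteField.card F p
  haveI : Fact p.Prime := ⟨hp⟩
  have hp2 : p ≠ 2 := by
    rintro rfl
    exact (Nat.not_even_iff_odd.2 hodd) (hq ▸ Nat.even_pow.2 ⟨even_two, k.ne_zero⟩)
  have h2 : (2 : F) ≠ 0 := fun e => hp2 ((Nat.prime_dvd_prime_iff_eq hp Nat.prime_two).1
    ((CharP.cast_eq_zero_iff F p 2).1 (by exact_mod_cast e)))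
  have hP := CfsgLib.NsePGL.ord_pgl (F := F) hp k.pos hp2 hq
  have hPiso := CfsgLib.NsePGL.isolated_pgl (F := F) k.pos hq h2
  have hPc := hP.cnt_p_of_isolated hPiso
  have hN2 := CfsgLib.NsePGL.le_cnt_two (F := F) h2
  rw [hq] at hN2
  have hG : CfsgLib.NsePGL.Ord G p k := ⟨hp, hp2, k.pos, hcard.trans hP.card⟩
  have hval : ∀ c : ℕ, (0 < c ∧ ∃ n, c = CfsgLib.NsePGL.cnt G n) ↔
      (0 < c ∧ ∃ n, c = CfsgLib.NsePGL.cnt (GL (Fin 2) F ⧸ Subgroup.center (GL (Fin 2) F)) n) := by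
    intro c
    have e := Set.ext_iff.1 hnse c
    simp only [Set.mem_setOf_eq, CfsgLib.NsePGL.cnt_eq_nat_card] at e
    exact e
  have hV : ∀ n, 0 < CfsgLib.NsePGL.cnt G n → CfsgLib.NsePGL.cnt G n = 1 ∨
      CfsgLib.NsePGL.cnt G n = (p ^ (k : ℕ)) ^ 2 - 1 ∨ p ^ (k : ℕ) ∣ CfsgLib.NsePGL.cnt G n := by
    intro n hn
    obtain ⟨-, m, hm⟩ := (hval _).1 ⟨hn, n, rfl⟩
    rcases eq_or_ne m 1 with rfl | hm1
    · exact Or.inl (hm.trans CfsgLib.NsePGL.cnt_one)
    rcases eq_or_ne m p with rfl | hmp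
    · exact Or.inr (Or.inl (hm.trans hPc))
    · exact Or.inr (Or.inr (hm ▸ hP.dvd_cnt_of_isolated hPiso hm1 hmp))
  -- the number of involutions
  have hPodd : ¬ Even (CfsgLib.NsePGL.cnt (GL (Fin 2) F ⧸ Subgroup.center (GL (Fin 2) F)) 2) := by
    have hf := CfsgLib.frobenius_solutions (G := GL (Fin 2) F ⧸ Subgroup.center (GL (Fin 2) F)) 2
    have hd : 2 ∣ (p ^ (k : ℕ)) ^ 2 - 1 := by
      rw [← even_iff_two_dvd, Nat.even_sub (Nat.one_le_iff_ne_zero.2 (pow_ne_zero _ (pow_ne_zero _ hp.ne_zero)))]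
      simp [Nat.even_pow, Nat.not_even_iff_odd.2 (hp.odd_of_ne_two hp2)]
    rw [Nat.gcd_eq_left (hP.card ▸ dvd_mul_of_dvd_right hd _), Nat.card_eq_fintype_card,
      Fintype.card_subtype, show (Finset.univ.filter fun x : GL (Fin 2) F ⧸ Subgroup.center (GL (Fin 2) F) =>
        x ^ 2 = 1) = insert 1 (Finset.univ.filter fun x => orderOf x = 2) by
          haveI : Fact (Nat.Prime 2) := ⟨Nat.prime_two⟩
          ext x
          simp only [Finset.mem_filter, Finset.mem_univ, true_and, Finset.mem_insert]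
          refine ⟨fun e => ?_, fun e => ?_⟩
          · rcases eq_or_ne x 1 with rfl | hx
            · exact Or.inl rfl
            · exact Or.inr (orderOf_eq_prime e hx)
          · rcases e with rfl | e
            · exact one_pow 2
            · exact orderOf_dvd_iff_pow_eq_one.1 e.dvd,
      Finset.card_insert_of_notMem (by simp)] at hf
    intro he
    rw [← even_iff_two_dvd, Nat.even_add_one] at hf
    exact hf he
  have hG2 : CfsgLib.NsePGL.cnt G 2 =
      CfsgLib.NsePGL.cnt (GL (Fin 2) F ⧸ Subgroup.center (GL (Fin 2) F)) 2 := by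
    have hq3 := hP.three_le
    have hpos : 9 ≤ CfsgLib.NsePGL.cnt (GL (Fin 2) F ⧸ Subgroup.center (GL (Fin 2) F)) 2 :=
      le_trans (by nlinarith) hN2
    obtain ⟨-, n, hn⟩ := (hval _).2 ⟨by omega, 2, rfl⟩
    rcases (by omega : n = 0 ∨ n = 1 ∨ n = 2 ∨ 3 ≤ n) with rfl | rfl | rfl | h3'
    · exfalso
      have : CfsgLib.NsePGL.cnt G 0 = 0 := Finset.card_eq_zero.2
        (Finset.filter_eq_empty_iff.2 fun x _ => (orderOf_pos x).ne')
      omega
    · rw [CfsgLib.NsePGL.cnt_one] at hn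
      omega
    · exact hn.symm
    · exact absurd (hn ▸ CfsgLib.NsePGL.even_cnt (H := G) h3') hPodd
  have h21 : CfsgLib.NsePGL.cnt G 2 ≠ 1 := by
    have hq3 := hP.three_le
    have : 9 ≤ (p ^ (k : ℕ)) ^ 2 := by nlinarith
    omega
  obtain ⟨-, hiso⟩ := hG.isolated_of_vals hV h21
  have hI : CfsgLib.NsePGL.Iso G p k := { toOrd := hG, iso := hiso, inv := hG2 ▸ hN2 }
  obtain ⟨K, iK, iKf, hK, ⟨e⟩⟩ := hI.iso_pgl
  obtain ⟨f⟩ := CfsgLib.NsePGL.pglEquiv (FiniteField.ringEquivOfCardEq (K := K) (K' := F) (hK.trans hq.symm))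
  exact ⟨e.trans f⟩

end Cfsg.Agent.S3648
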