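import Cfsg.Statements.S3664
import Cfsg.Agent.Lib.PrimeGraphSp63.Model

set_option autoImplicit false
open Cfsg

namespace Cfsg.Agent.S3664

/-- The prime graph of a finite group has the prime divisors of its order as vertices, two distinct primes p, q being joined when the group has an element of order pq; two groups have the same prime graph when they have the same prime divisors and the same joined pairs. Let F be the field with 3 elements and L = PSp(6,F). There are finite groups of arbitrarily large order with the same prime graph as L (a prime graph shared by the orthogonal groups Ω₇(3) and PΩ⁺₈(3)). -/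
theorem result {F : Type*} [Field F] [Fintype F] (hF : Fintype.card F = 3) (N : ℕ) :
    ∃ (H : Type) (_ : Group H) (_ : Finite H), N < Nat.card H ∧
      ((∀ p : ℕ, p.Prime → (p ∣ Nat.card (Cfsg.PSp 3 F) ↔ p ∣ Nat.card H)) ∧
      (∀ p q : ℕ, p.Prime → q.Prime → p ≠ q → ((∃ g : (Cfsg.PSp 3 F), orderOf g = p * q) ↔ (∃ g : H, orderOf g = p * q)))) := by
  haveI : Fact (Nat.Prime 2) := ⟨Nat.prime_two⟩
  classical
  let F8 := GaloisField 2 3
  haveI : Finite F8 := Module.finite_of_finite (ZMod 2)
  letI : Fintype F8 := Fintype.ofFinite F8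
  have h8 : Fintype.card F8 = 2 ^ (2 * 1 + 1) := by
    rw [← Nat.card_eq_fintype_card, GaloisField.card 2 3 (by norm_num)]
  have hk : 0 < N + 1 := Nat.succ_pos N
  refine ⟨CfsgLib.PrimeGraphSp63.Big h8 (N + 1), inferInstance, CfsgLib.PrimeGraphSp63.finite_big h8 _, ?_, ?_, ?_⟩
  · rw [CfsgLib.PrimeGraphSp63.card_big h8]
    have h1 : N < 8 ^ (16 * (N + 1)) :=
      lt_trans (Nat.lt_pow_self (by norm_num : 1 < 8)) (Nat.pow_lt_pow_right (by norm_num) (by omega))
    exact lt_of_lt_of_le h1 (Nat.le_mul_of_pos_right _ (by norm_num))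
  · intro p hp
    rw [CfsgLib.PrimeGraphSp63.prime_dvd_iff hF p hp, CfsgLib.PrimeGraphSp63.dvd_big_iff h8 hk p hp]
  · intro p q hp hq hpq
    rw [CfsgLib.PrimeGraphSp63.graph_psp hF p q hp hq hpq,
      CfsgLib.PrimeGraphSp63.graph_big h8 hk p q hp hq hpq]

end Cfsg.Agent.S3664
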