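import Cfsg.Statements.S3669
import Mathlib
import Cfsg.Agent.Lib.SmallOrder
import Cfsg.Agent.S0494
import Cfsg.Agent.S0157
import Cfsg.Agent.Lib.CharTheory.Degree

set_option autoImplicit false
open Cfsg

namespace Cfsg.Agent.S3669

open CfsgLib.SmallOrder

/-- A Sylow 5-subgroup inside a normal subgroup with a unique one is normal. -/
theorem normal_of_le {G : Type*} [Group G] [Finite G] {p : ℕ} [Fact p.Prime] (P : Sylow p G)
    {N : Subgroup G} [N.Normal] (hle : (P : Subgroup G) ≤ N) (h : Nat.card (Sylow p N) = 1) :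
    Nat.card (Sylow p G) = 1 := by
  haveI : Subsingleton (Sylow p N) := (Nat.card_eq_one_iff_unique.mp h).1
  haveI := Sylow.characteristic_of_subsingleton (P.subtype hle)
  have h1 : (((P.subtype hle : Sylow p N) : Subgroup N).map N.subtype).Normal := inferInstance
  rw [Sylow.coe_subtype, Subgroup.map_subgroupOf_eq_of_le hle] at h1
  rw [P.card_eq_index_normalizer, Subgroup.index_eq_one]
  exact Subgroup.normalizer_eq_top_iff.mpr h1

/-- A group of order 30 has a unique Sylow 5-subgroup. -/
theorem order_thirty {G : Type*} [Group G] [Finite G] (h : Nat.card G = 30) :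
    Nat.card (Sylow 5 G) = 1 := by
  haveI : Fact (Nat.Prime 2) := ⟨Nat.prime_two⟩
  haveI : Fact (Nat.Prime 5) := ⟨by norm_num⟩
  obtain ⟨T⟩ : Nonempty (Sylow 2 G) := inferInstance
  have hT : Nat.card T = 2 ^ 1 := card_sylow_eq T (by rw [h]; norm_num) (by rw [h]; norm_num)
  haveI : IsCyclic T := isCyclic_of_prime_card (p := 2) (by simpa using hT)
  have hNC := IsCyclic.normalizer_le_centralizer (P := T) (by rw [h]; norm_num) inferInstance
  set K := (MonoidHom.transferSylow T hNC).ker
  have hK := (MonoidHom.ker_transferSylow_isComplement' T hNC).card_mul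
  change Nat.card K * Nat.card T = _ at hK
  rw [hT, h] at hK
  have hK15 : Nat.card K = 15 := by omega
  obtain ⟨P⟩ : Nonempty (Sylow 5 G) := inferInstance
  obtain ⟨Q⟩ : Nonempty (Sylow 5 K) := inferInstance
  have hP : Nat.card P = 5 ^ 1 := card_sylow_eq P (by rw [h]; norm_num) (by rw [h]; norm_num)
  have hQ : Nat.card Q = 5 ^ 1 := card_sylow_eq Q (by rw [hK15]; norm_num) (by rw [hK15]; norm_num)
  obtain ⟨R, hR⟩ := (Q.isPGroup'.map K.subtype).exists_le_sylow
  have he : (Q : Subgroup K).map K.subtype = (R : Subgroup G) :=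
    Subgroup.eq_of_le_of_card_ge hR (by
      rw [Subgroup.card_subtype]
      change Nat.card R ≤ Nat.card Q
      rw [hQ, card_sylow_eq (k := 1) R (by rw [h]; norm_num) (by rw [h]; norm_num)])
  refine normal_of_le R (N := K) (he ▸ Subgroup.map_subtype_le _) ?_
  have hn := card_sylow_mem_filter Q (n := 3) hQ (by rw [hK15]; norm_num) (by norm_num)
  rw [show (Nat.divisors 3).filter (fun d => d % 5 = 1) = {1} by decide] at hn
  simpa using hn

/-- A group of order 60 with six Sylow 5-subgroups is simple. -/
theorem simple_of_six {G : Type*} [Group G] [Finite G] (h : Nat.card G = 60)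
    (h6 : Nat.card (Sylow 5 G) = 6) : IsSimpleGroup G := by
  haveI : Fact (Nat.Prime 2) := ⟨Nat.prime_two⟩
  haveI : Fact (Nat.Prime 3) := ⟨by norm_num⟩
  haveI : Fact (Nat.Prime 5) := ⟨by norm_num⟩
  haveI : Nontrivial G := Finite.one_lt_card_iff_nontrivial.mp (by omega)
  have hPc : ∀ P : Sylow 5 G, Nat.card P = 5 ^ 1 := fun P =>
    card_sylow_eq P (by rw [h]; norm_num) (by rw [h]; norm_num)
  -- small subgroups normalised by a Sylow 5-subgroup
  have hC : ∀ (P : Sylow 5 G) (N : Subgroup G), Nat.card N ≤ 4 →
      (P : Subgroup G) ≤ Subgroup.normalizer (N : Set G) → Nat.card N ∣ 10 := by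
    intro P N hN hPN
    let toPermHom : MulAut N →* Equiv.Perm N :=
      { toFun := fun α => α.toEquiv, map_one' := rfl, map_mul' := fun _ _ => rfl }
    let f : (P : Subgroup G) →* Equiv.Perm N :=
      toPermHom.comp ((Subgroup.normalizerMonoidHom N).comp (Subgroup.inclusion hPN))
    have h1 : Nat.card f.range ∣ 5 := by
      have := Subgroup.card_range_dvd f
      change _ ∣ Nat.card P at this
      rwa [hPc P, pow_one] at this
    have h2 : Nat.card f.range ∣ Nat.factorial 4 := by
      refine ((Subgroup.card_subgroup_dvd_card f.range).trans ?_)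
      rw [Nat.card_perm]; exact Nat.factorial_dvd_factorial hN
    have hf : f.range = ⊥ := Subgroup.card_eq_one.mp
      (Nat.eq_one_of_dvd_coprimes (a := 5) (b := Nat.factorial 4) (by decide) h1 h2)
    have hle : N ≤ Subgroup.normalizer ((P : Subgroup G) : Set G) := by
      refine le_trans ?_ (Subgroup.centralizer_le_normalizer _)
      intro v hv x hx
      have h3 : f ⟨x, hx⟩ = 1 := by
        have : f ⟨x, hx⟩ ∈ f.range := ⟨_, rfl⟩
        rwa [hf, Subgroup.mem_bot] at this
      have h4 := congrArg Subtype.val (Equiv.ext_iff.mp h3 ⟨v, hv⟩)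
      exact mul_inv_eq_iff_eq_mul.mp h4
    have h10 : Nat.card (Subgroup.normalizer ((P : Subgroup G) : Set G)) = 10 := by
      have := card_normalizer_mul_card_sylow P
      rw [h6, h] at this
      change Nat.card (Subgroup.normalizer (P : Set G)) = 10
      omega
    exact h10 ▸ Subgroup.card_dvd_of_le hle
  -- normal subgroups of order divisible by five
  have hA : ∀ N : Subgroup G, N.Normal → 5 ∣ Nat.card N → N = ⊤ := by
    intro N hNn h5
    by_contra hne
    obtain ⟨Q⟩ : Nonempty (Sylow 5 N) := inferInstance
    obtain ⟨R, hR⟩ := (Q.isPGroup'.map N.subtype).exists_le_sylow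
    have h25 : ¬ 5 ^ 2 ∣ Nat.card N := fun hh =>
      absurd ((hh.trans (Subgroup.card_subgroup_dvd_card N)).trans (dvd_of_eq h)) (by norm_num)
    have hQ : Nat.card Q = 5 ^ 1 := card_sylow_eq Q (by simpa using h5) h25
    have he : (Q : Subgroup N).map N.subtype = (R : Subgroup G) :=
      Subgroup.eq_of_le_of_card_ge hR (by
        rw [Subgroup.card_subtype]
        change Nat.card R ≤ Nat.card Q
        rw [hQ, hPc R])
    obtain ⟨m, hm⟩ := h5
    have hm60 : m ∈ Nat.divisors 12 := by
      rw [Nat.mem_divisors]
      refine ⟨?_, by norm_num⟩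
      have := Subgroup.card_subgroup_dvd_card N
      rw [hm, h, show 60 = 5 * 12 from rfl] at this
      exact Nat.dvd_of_mul_dvd_mul_left (by norm_num) this
    have hm12 : m ≠ 12 := fun e => hne (Subgroup.eq_top_of_card_eq N (by rw [hm, e, h]))
    have h1 : Nat.card (Sylow 5 N) = 1 := by
      by_cases e : m = 6
      · exact order_thirty (by rw [hm, e])
      have hn := card_sylow_mem_filter Q (n := m) hQ (by rw [hm, pow_one]) (by norm_num)
      rw [show Nat.divisors 12 = {1, 2, 3, 4, 6, 12} by decide] at hm60
      simp only [Finset.mem_insert, Finset.mem_singleton] at hm60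
      rcases hm60 with rfl | rfl | rfl | rfl | rfl | rfl
      all_goals first
        | exact absurd rfl e
        | exact absurd rfl hm12
        | (simp only [Finset.mem_filter, Nat.mem_divisors] at hn
           have := Nat.le_of_dvd (by norm_num) hn.1.1
           omega)
    have := normal_of_le R (N := N) (he ▸ Subgroup.map_subtype_le _) h1
    omega
  obtain ⟨P⟩ : Nonempty (Sylow 5 G) := inferInstance
  have hnorm : ∀ N : Subgroup G, N.Normal → (P : Subgroup G) ≤ Subgroup.normalizer (N : Set G) :=
    fun N hN => by haveI := hN; rw [Subgroup.normalizer_eq_top]; exact le_top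
  -- order two
  have h2 : ∀ N : Subgroup G, N.Normal → Nat.card N ≠ 2 := by
    intro N hNn hN
    have hq : Nat.card (G ⧸ N) = 30 := by
      have := Subgroup.card_eq_card_quotient_mul_card_subgroup N
      rw [hN, h] at this; omega
    obtain ⟨Q⟩ : Nonempty (Sylow 5 (G ⧸ N)) := inferInstance
    haveI : Subsingleton (Sylow 5 (G ⧸ N)) := (Nat.card_eq_one_iff_unique.mp (order_thirty hq)).1
    haveI := Sylow.characteristic_of_subsingleton Q
    have hQ : Nat.card Q = 5 ^ 1 := card_sylow_eq Q (by rw [hq]; norm_num) (by rw [hq]; norm_num)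
    have hM := hA _ ((inferInstance : (Q : Subgroup (G ⧸ N)).Normal).comap (QuotientGroup.mk' N)) (by
      have hs : Function.Surjective (QuotientGroup.mk' N) := QuotientGroup.mk'_surjective N
      have h3 := Subgroup.card_dvd_of_surjective ((QuotientGroup.mk' N).subgroupComap (Q : Subgroup (G ⧸ N)))
        (MonoidHom.subgroupComap_surjective_of_surjective _ _ hs)
      change Nat.card Q ∣ _ at h3
      rw [hQ, pow_one] at h3
      exact h3)
    have h4 : (Q : Subgroup (G ⧸ N)) = ⊤ := by
      rw [← Subgroup.map_comap_eq_self_of_surjective (QuotientGroup.mk'_surjective N) (Q : Subgroup (G ⧸ N)),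
        hM, Subgroup.map_top_of_surjective _ (QuotientGroup.mk'_surjective N)]
    change Nat.card (Q : Subgroup (G ⧸ N)) = _ at hQ
    rw [h4, Subgroup.card_top, hq] at hQ
    norm_num at hQ
  have h34 : ∀ N : Subgroup G, N.Normal → Nat.card N = 3 ∨ Nat.card N = 4 → False := by
    rintro N hNn hN
    have := hC P N (by omega) (hnorm N hNn)
    rcases hN with e | e <;> rw [e] at this <;> norm_num at this
  refine ⟨fun N hNn => ?_⟩
  by_cases h5 : 5 ∣ Nat.card N
  · exact Or.inr (hA N hNn h5)
  left
  by_contra hne
  have hd : Nat.card N ∈ Nat.divisors 60 :=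
    Nat.mem_divisors.mpr ⟨h ▸ Subgroup.card_subgroup_dvd_card N, by norm_num⟩
  rw [show Nat.divisors 60 = {1, 2, 3, 4, 5, 6, 10, 12, 15, 20, 30, 60} by decide] at hd
  simp only [Finset.mem_insert, Finset.mem_singleton] at hd
  obtain ⟨T⟩ : Nonempty (Sylow 3 N) := inferInstance
  rcases hd with e | e | e | e | e | e | e | e | e | e | e | e
  · exact hne (Subgroup.card_eq_one.mp e)
  · exact h2 N hNn e
  · exact h34 N hNn (Or.inl e)
  · exact h34 N hNn (Or.inr e)
  all_goals first
    | (rw [e] at h5; norm_num at h5; done)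
    | skip
  · -- order six
    have hT : Nat.card T = 3 ^ 1 := card_sylow_eq T (by rw [e]; norm_num) (by rw [e]; norm_num)
    have hn := card_sylow_mem_filter T (n := 2) hT (by rw [e]; norm_num) (by norm_num)
    rw [show (Nat.divisors 2).filter (fun d => d % 3 = 1) = {1} by decide, Finset.mem_singleton] at hn
    haveI : Subsingleton (Sylow 3 N) := (Nat.card_eq_one_iff_unique.mp hn).1
    haveI := Sylow.characteristic_of_subsingleton T
    refine h34 ((T : Subgroup N).map N.subtype) inferInstance (Or.inl ?_)
    rw [Subgroup.card_subtype]; simpa using hT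
  · -- order twelve
    have hT : Nat.card T = 3 ^ 1 := card_sylow_eq T (by rw [e]; norm_num) (by rw [e]; norm_num)
    set R := (T : Subgroup N).map N.subtype with hR
    have hsup : Subgroup.normalizer (R : Set G) ⊔ N = ⊤ := Sylow.normalizer_sup_eq_top T
    have h5H : 5 ∣ Nat.card (Subgroup.normalizer (R : Set G)) := by
      have hi : N.relIndex (Subgroup.normalizer (R : Set G)) = 5 := by
        rw [← Subgroup.relIndex_sup_right (Subgroup.normalizer (R : Set G)) N, hsup,
          Subgroup.relIndex_top_right]
        have := N.card_mul_index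
        rw [e, h] at this; omega
      exact hi ▸ Subgroup.relIndex_dvd_card _ _
    obtain ⟨x, hx⟩ := exists_prime_orderOf_dvd_card' 5 h5H
    have hxc : Nat.card (Subgroup.zpowers (x : G)) = 5 ^ 1 := by
      rw [Nat.card_zpowers, Subgroup.orderOf_coe, hx, pow_one]
    obtain ⟨P', hP'⟩ := (IsPGroup.of_card hxc).exists_le_sylow
    have he : Subgroup.zpowers (x : G) = (P' : Subgroup G) := Subgroup.eq_of_le_of_card_ge hP' (by
      rw [hxc]; exact le_of_eq (hPc P'))
    have hR3 : Nat.card R = 3 := by rw [hR, Subgroup.card_subtype]; simpa using hT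
    have := hC P' R (by omega) (he ▸ Subgroup.zpowers_le.mpr x.2)
    rw [hR3] at this
    norm_num at this

/-- With six Sylow 5-subgroups there is a character of degree five. -/
theorem five_mem {G : Type*} [Group G] [Finite G] (h : Nat.card G = 60)
    (h6 : Nat.card (Sylow 5 G) = 6) : 5 ∈ Cfsg.degreePrimes G := by
  haveI : Fact (Nat.Prime 5) := ⟨by norm_num⟩
  have h2 : MulAction.IsMultiplyPretransitive G (Sylow 5 G) 2 := by
    rw [MulAction.is_two_pretransitive_iff]
    intro a b c d hab hcd
    obtain ⟨g, hg⟩ := MulAction.exists_smul_eq G a c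
    have hb : g • b ≠ c := fun e => hab (MulAction.injective g (hg.trans e.symm))
    let H : Subgroup G := c
    have hHc : Nat.card H = 5 ^ 1 := card_sylow_eq c (by rw [h]; norm_num) (by rw [h]; norm_num)
    have hall : ∀ x : Sylow 5 G, x ≠ c → x ∈ MulAction.orbit H (g • b) := by
      obtain ⟨k, hk⟩ := (c.isPGroup').card_orbit (g • b)
      have hne1 : k ≠ 0 := by
        intro h0
        rw [h0, pow_zero, Nat.card_eq_one_iff_unique] at hk
        have hfix : g • b ∈ MulAction.fixedPoints H (Sylow 5 G) := fun y => by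
          haveI := hk.1
          exact congrArg Subtype.val (Subsingleton.elim
            (⟨y • g • b, MulAction.mem_orbit _ y⟩ : MulAction.orbit H (g • b)) ⟨g • b, MulAction.mem_orbit_self _⟩)
        have hle := (c.isPGroup').sylow_mem_fixedPoints_iff.mp hfix
        exact hb (Sylow.ext (Subgroup.eq_of_le_of_card_ge hle (by
          change Nat.card (g • b : Sylow 5 G) ≤ Nat.card H
          rw [hHc, card_sylow_eq (k := 1) (g • b) (by rw [h]; norm_num) (by rw [h]; norm_num)])).symm)
      have hsub : MulAction.orbit H (g • b) ⊆ ({c}ᶜ : Set (Sylow 5 G)) := by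
        rintro _ ⟨y, rfl⟩ e
        have hy : y • c = c := by
          show (y : G) • c = c
          exact Sylow.smul_eq_iff_mem_normalizer.mpr (Subgroup.le_normalizer y.2)
        exact hb (MulAction.injective y (Eq.trans e hy.symm))
      have hcompl : ({c}ᶜ : Set (Sylow 5 G)).ncard = 5 := by
        rw [Set.ncard_compl, Set.ncard_singleton, h6]
      intro x hx
      have hge : ({c}ᶜ : Set (Sylow 5 G)).ncard ≤ (MulAction.orbit H (g • b)).ncard := by
        rw [hcompl, ← Nat.card_coe_set_eq, hk]
        exact le_self_pow₀ (by norm_num) hne1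
      rw [Set.eq_of_subset_of_ncard_le hsub hge (Set.toFinite _)]
      exact hx
    obtain ⟨y, hy⟩ := hall d hcd.symm
    refine ⟨(y : G) * g, ?_, ?_⟩
    · rw [mul_smul, hg]
      exact Sylow.smul_eq_iff_mem_normalizer.mpr (Subgroup.le_normalizer y.2)
    · rw [mul_smul]; exact hy
  have hirr := (Cfsg.Agent.S0157.result (G := G) (Sylow 5 G) (by omega)).mpr h2
  refine ⟨by norm_num, 5, ⟨⟨_, hirr⟩, ?_⟩, dvd_rfl⟩
  simp only [Cfsg.charDegree]
  have : (MulAction.fixedBy (Sylow 5 G) (1 : G)) = Set.univ := by ext; simp
  rw [this, Nat.card_congr (Equiv.Set.univ _), h6]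
  norm_num

/-- The character degree graph of a finite group has as vertices the primes dividing some irreducible complex character degree, two distinct primes being joined when their product divides some irreducible character degree; two groups have the same character degree graph when they have the same vertices and the same joined pairs. A finite group of order 60 with the same character degree graph as the alternating group A₅ (whose character degrees are 1, 3, 4, 5, so the graph has vertices 2, 3, 5 and no edges) is isomorphic to A₅. -/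
theorem result {G : Type*} [Group G] [Finite G] (hcard : Nat.card G = 60)
    (hΓ : Cfsg.degreePrimes G = Cfsg.degreePrimes (alternatingGroup (Fin 5)) ∧ Cfsg.degreeGraph G = Cfsg.degreeGraph (alternatingGroup (Fin 5))) : Nonempty (G ≃* alternatingGroup (Fin 5)) := by
  haveI : Fact (Nat.Prime 5) := ⟨by norm_num⟩
  have hA5 : Nat.card (alternatingGroup (Fin 5)) = 60 := by
    rw [nat_card_alternatingGroup, Nat.card_fin]; rfl
  have hn5 : ∀ (X : Type _) [Group X] [Finite X], Nat.card X = 60 →
      Nat.card (Sylow 5 X) = 1 ∨ Nat.card (Sylow 5 X) = 6 := by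
    intro X _ _ hX
    obtain ⟨P⟩ : Nonempty (Sylow 5 X) := inferInstance
    have hP : Nat.card P = 5 ^ 1 := card_sylow_eq P (by rw [hX]; norm_num) (by rw [hX]; norm_num)
    have hn := card_sylow_mem_filter P (n := 12) hP (by rw [hX]; norm_num) (by norm_num)
    rw [show (Nat.divisors 12).filter (fun d => d % 5 = 1) = {1, 6} by decide] at hn
    simpa using hn
  haveI : IsSimpleGroup (alternatingGroup (Fin 5)) := alternatingGroup.isSimpleGroup (by simp)
  have h6A : Nat.card (Sylow 5 (alternatingGroup (Fin 5))) = 6 := by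
    obtain ⟨P⟩ : Nonempty (Sylow 5 (alternatingGroup (Fin 5))) := inferInstance
    have hP : Nat.card P = 5 ^ 1 := card_sylow_eq P (by rw [hA5]; norm_num) (by rw [hA5]; norm_num)
    have hno := card_sylow_ne_one P (by rw [hP]; norm_num) (by rw [hA5, hP]; norm_num)
    obtain ⟨k, hk⟩ : ∃ k, Nat.card (Sylow 5 (alternatingGroup (Fin 5))) = k := ⟨_, rfl⟩
    have hn := card_sylow_mem_filter P (n := 12) hP (by rw [hA5]; norm_num) (by norm_num)
    rw [show (Nat.divisors 12).filter (fun d => d % 5 = 1) = {1, 6} by decide] at hn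
    simp only [Finset.mem_insert, Finset.mem_singleton] at hn
    omega
  have h5 : 5 ∈ Cfsg.degreePrimes G := hΓ.1 ▸ five_mem hA5 h6A
  rcases hn5 G hcard with h1 | h6
  · exfalso
    obtain ⟨P⟩ : Nonempty (Sylow 5 G) := inferInstance
    haveI : Subsingleton (Sylow 5 G) := (Nat.card_eq_one_iff_unique.mp h1).1
    haveI := Sylow.characteristic_of_subsingleton P
    have hP : Nat.card P = 5 ^ 1 := card_sylow_eq P (by rw [hcard]; norm_num) (by rw [hcard]; norm_num)
    haveI : IsCyclic (P : Subgroup G) := isCyclic_of_prime_card (p := 5) (by simpa using hP)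
    have hidx : (P : Subgroup G).index = 12 := by
      have := (P : Subgroup G).card_mul_index
      change Nat.card P * _ = _ at this
      rw [hP, hcard] at this; omega
    obtain ⟨-, d, ⟨⟨χ, m, ρ, hρ, rfl⟩, rfl⟩, hdvd⟩ := h5
    haveI := hρ
    have hdeg := CfsgLib.CharTheory.degree_dvd_index_of_abelian_normal ρ (P : Subgroup G)
      (fun a ha b hb => congrArg Subtype.val ((IsCyclic.commutative (α := (P : Subgroup G))).is_comm.comm ⟨a, ha⟩ ⟨b, hb⟩))
    rw [hidx] at hdeg
    simp only [Cfsg.charDegree, Representation.char_one, Complex.natCast_re, Nat.floor_natCast] at hdvd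
    exact absurd (hdvd.trans hdeg) (by norm_num)
  · haveI := simple_of_six hcard h6
    exact Cfsg.Agent.S0494.result hcard

end Cfsg.Agent.S3669
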