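import Cfsg.Agent.Lib.U33Degrees.Model
import Cfsg.Agent.Lib.U33Degrees.Solvable
import Cfsg.Statements.S3670

set_option autoImplicit false
open Cfsg

namespace Cfsg.Agent.S3670

universe u

theorem graph_key {X : Type u} [Group X] [Fintype X] (hX : Nat.card X = 6048)
    (hk : ∀ k ∈ [6, 14, 21], ∃ d ∈ Cfsg.charDegrees X, k ∣ d) :
      Cfsg.degreePrimes X = ({2, 3, 7} : Set ℕ) ∧
        ∀ p q : ℕ, (Cfsg.degreeGraph X).Adj p q ↔
          p ≠ q ∧ p ∈ ({2, 3, 7} : Set ℕ) ∧ q ∈ ({2, 3, 7} : Set ℕ) := by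
  have hprimes : ∀ p : ℕ, p.Prime → (∃ d ∈ Cfsg.charDegrees X, p ∣ d) → p ∈ ({2, 3, 7} : Set ℕ) := by
    rintro p hp ⟨d, ⟨φ, rfl⟩, hd⟩
    have h := hd.trans (CfsgLib.Blocks.charDegree_dvd_card φ)
    rw [hX, show 6048 = 2 ^ 5 * 3 ^ 3 * 7 by norm_num] at h
    simp only [Set.mem_insert_iff, Set.mem_singleton_iff]
    rcases hp.dvd_mul.1 h with h | h
    · rcases hp.dvd_mul.1 h with h | h
      · exact Or.inl ((Nat.prime_dvd_prime_iff_eq hp Nat.prime_two).1 (hp.dvd_of_dvd_pow h))
      · exact Or.inr (Or.inl ((Nat.prime_dvd_prime_iff_eq hp Nat.prime_three).1 (hp.dvd_of_dvd_pow h)))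
    · exact Or.inr (Or.inr ((Nat.prime_dvd_prime_iff_eq hp (by norm_num)).1 h))
  obtain ⟨d6, hd6, h6⟩ := hk 6 (by simp)
  obtain ⟨d14, hd14, h14⟩ := hk 14 (by simp)
  obtain ⟨d21, hd21, h21⟩ := hk 21 (by simp)
  constructor
  · ext p
    refine ⟨fun h => hprimes p h.1 h.2, ?_⟩
    rintro (rfl | rfl | rfl)
    · exact ⟨Nat.prime_two, d6, hd6, (by norm_num : 2 ∣ 6).trans h6⟩
    · exact ⟨Nat.prime_three, d6, hd6, (by norm_num : 3 ∣ 6).trans h6⟩
    · exact ⟨by norm_num, d14, hd14, (by norm_num : 7 ∣ 14).trans h14⟩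
  · intro p q
    constructor
    · rintro ⟨hne, hp, hq, d, hd, hpq⟩
      exact ⟨hne, hprimes p hp ⟨d, hd, (dvd_mul_right p q).trans hpq⟩,
        hprimes q hq ⟨d, hd, (dvd_mul_left q p).trans hpq⟩⟩
    · rintro ⟨hne, hp, hq⟩
      simp only [Set.mem_insert_iff, Set.mem_singleton_iff] at hp hq
      rcases hp with rfl | rfl | rfl <;> rcases hq with rfl | rfl | rfl <;>
        (first | exact absurd rfl hne | refine ⟨hne, by norm_num, by norm_num, ?_⟩) <;>
        first
          | (refine ⟨d6, hd6, dvd_trans ?_ h6⟩; norm_num; done)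
          | (refine ⟨d14, hd14, dvd_trans ?_ h14⟩; norm_num; done)
          | (refine ⟨d21, hd21, dvd_trans ?_ h21⟩; norm_num; done)

/-- The character degree graph of a finite group has as vertices the primes dividing some irreducible complex character degree, two distinct primes being joined when their product divides some irreducible character degree; two groups have the same character degree graph when they have the same vertices and the same joined pairs. Let F be the field with 9 elements and L = PSU(3,3) realised over F (order 6048). There is a finite solvable group of order 6048 with the same character degree graph as L; so L is not determined by its order together with its character degree graph. -/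
theorem result {F : Type*} [Field F] [Fintype F] (hF : Fintype.card F = 9) :
    ∃ (H : Type) (_ : Group H) (_ : Fintype H), Group.IsSolvable H ∧ Nat.card H = 6048 ∧ Cfsg.degreePrimes H = Cfsg.degreePrimes (Cfsg.PSU 3 F 3) ∧ Cfsg.degreeGraph H = Cfsg.degreeGraph (Cfsg.PSU 3 F 3) := by
  classical
  haveI : Finite (Cfsg.PSU 3 F 3) := inferInstance
  haveI : Fintype (Cfsg.PSU 3 F 3) := Fintype.ofFinite _
  haveI : Fintype CfsgLib.U33Degrees.Grp6048 := Fintype.ofFinite _
  obtain ⟨hcard, hsimple, y, z, D⟩ := CfsgLib.U33Degrees.exists_data hF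
  haveI := hsimple
  have hL := CfsgLib.U33Degrees.exists_degrees hcard D
  obtain ⟨χ, hχ⟩ := CfsgLib.U33Degrees.exists_degree
  obtain ⟨hH1, hH2⟩ := graph_key (X := CfsgLib.U33Degrees.Grp6048) CfsgLib.U33Degrees.card_grp fun k hk =>
    ⟨_, ⟨χ, rfl⟩, hχ ▸ (by simp at hk; rcases hk with rfl | rfl | rfl <;> norm_num)⟩
  obtain ⟨hL1, hL2⟩ := graph_key (X := Cfsg.PSU 3 F 3) hcard fun k hk => by
    obtain ⟨φ, hφ⟩ := hL k hk
    exact ⟨_, ⟨φ, rfl⟩, hφ⟩
  refine ⟨CfsgLib.U33Degrees.Grp6048, inferInstance, inferInstance,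
    CfsgLib.U33Degrees.grp_solvable, CfsgLib.U33Degrees.card_grp, hH1.trans hL1.symm, ?_⟩
  ext p q
  rw [hH2, hL2]

end Cfsg.Agent.S3670
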