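import Cfsg.Statements.S3678
import Mathlib
import Cfsg.Agent.Lib.PrimeGraphExt

set_option autoImplicit false
open Cfsg

namespace Cfsg.Agent.S3678

theorem no_edge {G : Type*} [Group G] (h : ∀ x : G, ∃ n ∈ ({2, 3, 4, 7, 9} : Finset ℕ), x ^ n = 1)
    (p q : ℕ) (hp : p.Prime) (hq : q.Prime) (hpq : p ≠ q) : ¬ ∃ g : G, orderOf g = p * q := by
  rintro ⟨g, hg⟩
  obtain ⟨n, hn, hgn⟩ := h g
  have hd := orderOf_dvd_of_pow_eq_one hgn
  rw [hg] at hd
  obtain ⟨r, k, hr, hnr⟩ : ∃ r k : ℕ, r.Prime ∧ n = r ^ k := by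
    simp only [Finset.mem_insert, Finset.mem_singleton] at hn
    rcases hn with rfl | rfl | rfl | rfl | rfl
    exacts [⟨2, 1, Nat.prime_two, rfl⟩, ⟨3, 1, Nat.prime_three, rfl⟩, ⟨2, 2, Nat.prime_two, rfl⟩,
      ⟨7, 1, by norm_num, rfl⟩, ⟨3, 2, Nat.prime_three, rfl⟩]
  rw [hnr] at hd
  have e1 := (Nat.prime_dvd_prime_iff_eq hp hr).mp (hp.dvd_of_dvd_pow ((dvd_mul_right p q).trans hd))
  have e2 := (Nat.prime_dvd_prime_iff_eq hq hr).mp (hq.dvd_of_dvd_pow ((dvd_mul_left q p).trans hd))
  exact hpq (e1.trans e2.symm)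

/-- The prime graph of a finite group has the prime divisors of its order as vertices, two distinct primes p, q being joined when the group has an element of order pq; two groups have the same prime graph when they have the same prime divisors and the same joined pairs. Let F be the field with 7 elements. There are finite groups of arbitrarily large order with the same prime graph as PSL(2,F) (the graph on {2, 3, 7} with no edges, which is also the prime graph of PSL(2,8)). -/
theorem result {F : Type*} [Field F] [Fintype F] (hF : Fintype.card F = 7) (N : ℕ) :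
    ∃ (H : Type) (_ : Group H) (_ : Finite H), N < Nat.card H ∧
      ((∀ p : ℕ, p.Prime → (p ∣ Nat.card (Matrix.ProjectiveSpecialLinearGroup (Fin 2) F) ↔ p ∣ Nat.card H)) ∧
      (∀ p q : ℕ, p.Prime → q.Prime → p ≠ q → ((∃ g : (Matrix.ProjectiveSpecialLinearGroup (Fin 2) F), orderOf g = p * q) ↔ (∃ g : H, orderOf g = p * q)))) := by
  classical
  haveI : Fact (Nat.Prime 2) := ⟨Nat.prime_two⟩
  haveI : Fact (Nat.Prime 7) := ⟨by norm_num⟩
  let K := GaloisField 2 3
  letI : Fintype K := Fintype.ofFinite K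
  have hK : Fintype.card K = 8 := by
    rw [← Nat.card_eq_fintype_card, GaloisField.card 2 3 (by norm_num)]; norm_num
  haveI : CharP F 7 := by
    obtain ⟨r, hr⟩ := CharP.exists F
    haveI := hr
    obtain ⟨m, hr1, hr2⟩ := FiniteField.card F r
    have : r ∣ 7 := hF ▸ hr2 ▸ dvd_pow_self r m.pos.ne'
    have := (Nat.prime_dvd_prime_iff_eq hr1 (by norm_num)).mp this
    subst this; exact hr
  obtain ⟨H, iG, iF, hN, h1, h2⟩ := CfsgLib.PrimeGraphExt.exists_large (F := K) N
  have hP : Nat.card (Matrix.ProjectiveSpecialLinearGroup (Fin 2) F) = 168 := by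
    have h := CfsgLib.SLCard.gcd_mul_card_PSL (F := F) (n := 2) (by norm_num)
    rw [CfsgLib.SLCard.card_SL_two, hF] at h
    norm_num [-Nat.card_eq_fintype_card] at h; omega
  have hS : Nat.card (Matrix.SpecialLinearGroup (Fin 2) K) = 504 := by
    rw [CfsgLib.SLCard.card_SL_two, hK]; norm_num
  refine ⟨H, iG, iF, hN, fun p hp => ?_, fun p q hp hq hpq => ?_⟩
  · rw [← h1 p hp, hP, hS]
    exact ⟨fun h => h.trans (by norm_num), fun h => hp.dvd_of_dvd_pow (n := 2) (h.trans (by norm_num))⟩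
  · rw [← h2 p q hp hq hpq]
    refine iff_of_false (no_edge (fun x => ?_) p q hp hq hpq) (no_edge (fun x => ?_) p q hp hq hpq)
    · rcases CfsgLib.SL2Orders.psl_pow_cases 7 (by rw [hF]; decide) x with h | h | h <;> (try rw [hF] at h)
      exacts [⟨3, by simp, h⟩, ⟨4, by simp, h⟩, ⟨7, by simp, h⟩]
    · rcases CfsgLib.SL2Orders.pow_cases_char_two x with h | h | h <;> (try rw [hK] at h)
      exacts [⟨7, by simp, h⟩, ⟨9, by simp, h⟩, ⟨2, by simp, h⟩]

end Cfsg.Agent.S3678
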