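import Cfsg.Statements.S3680
import Mathlib
import Cfsg.Agent.Lib.Perm.SocleApps

set_option autoImplicit false
open Cfsg

namespace Cfsg.Agent.S3680

open CfsgLib.Socle in
theorem regular_iso {G : Type*} [Group G] {Ω : Type*} [MulAction G Ω] [FaithfulSMul G Ω] (A B : Subgroup G) (a : Ω)
    (hA : ∀ x y : Ω, ∃ m ∈ A, m • x = y) (hB : ∀ x y : Ω, ∃ m ∈ B, m • x = y)
    (hc : ∀ x ∈ A, ∀ y ∈ B, x * y = y * x) : Nonempty (A ≃* B) := by
  have hsA : ∀ x ∈ A, ∀ ω : Ω, x • ω = ω → x = 1 := fun x hx ω h => semiregular_of_comm hB (hc x hx) h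
  have hsB : ∀ x ∈ B, ∀ ω : Ω, x • ω = ω → x = 1 := fun x hx ω h =>
    semiregular_of_comm hA (fun m hm => (hc m hm x hx).symm) h
  have bij : ∀ (S : Subgroup G), (∀ x y : Ω, ∃ m ∈ S, m • x = y) → (∀ x ∈ S, ∀ ω : Ω, x • ω = ω → x = 1) →
      Function.Bijective (fun x : S => (x : G) • a) := fun S ht hs =>
    ⟨fun x y e => by
      have := hs _ (S.mul_mem (S.inv_mem y.2) x.2) a (by rw [mul_smul]; exact inv_smul_eq_iff.mpr e)
      exact (Subtype.ext (inv_mul_eq_one.mp this)).symm,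
     fun y => by obtain ⟨m, hm, e⟩ := ht a y; exact ⟨⟨m, hm⟩, e⟩⟩
  let e : A ≃ B := ((Equiv.inv A).trans (Equiv.ofBijective _ (bij A hA hsA))).trans
    (Equiv.ofBijective _ (bij B hB hsB)).symm
  have he : ∀ x : A, (e x : G) • a = (x : G)⁻¹ • a := fun x =>
    Equiv.apply_symm_apply (Equiv.ofBijective _ (bij B hB hsB)) _
  refine ⟨{ e with map_mul' := fun x y => (bij B hB hsB).1 ?_ }⟩
  show (e (x * y) : G) • a = ((e x * e y : B) : G) • a
  rw [he, Subgroup.coe_mul, Subgroup.coe_mul, mul_smul, he, mul_inv_rev, mul_smul, ← he x, ← mul_smul,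
    hc _ (A.inv_mem y.2) _ (e x).2, mul_smul]

/-- The socle of a finite primitive permutation group. Let a finite group G act faithfully and primitively on a set Ω, and let N be the subgroup generated by the minimal normal subgroups of G. Then either N is an elementary abelian p-group for some prime p and acts regularly on Ω (transitively with trivial point stabilizers), or N is isomorphic to a direct product of m ≥ 1 copies of a non-abelian simple group. -/
theorem result {G Ω : Type*} [Group G] [Finite G] [MulAction G Ω] [FaithfulSMul G Ω] [Finite Ω]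
    (hprim : MulAction.IsPreprimitive G Ω) (N : Subgroup G)
    (hN : N = sSup {V : Subgroup G | V.Normal ∧ V ≠ ⊥ ∧ ∀ M : Subgroup G, M.Normal → M ≤ V → M = ⊥ ∨ M = V}) :
    (∃ p : ℕ, p.Prime ∧ IsMulCommutative N ∧ (∀ x : N, x ^ p = 1) ∧
      MulAction.IsPretransitive N Ω ∧ ∀ ω : Ω, MulAction.stabilizer N ω = ⊥) ∨
    (∃ (T : Type) (_ : Group T) (m : ℕ), 1 ≤ m ∧ IsSimpleGroup T ∧ ¬ IsMulCommutative T ∧ Nonempty (N ≃* (Fin m → T))) := by
  classical
  obtain ⟨htransG⟩ : MulAction.IsPretransitive G Ω := hprim.toIsPretransitive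
  by_cases htop : (⊤ : Subgroup G) = ⊥
  · have h1 : ∀ g : G, g = 1 := fun g => Subgroup.mem_bot.mp (htop ▸ Subgroup.mem_top g)
    refine Or.inl ⟨2, Nat.prime_two, ⟨⟨fun x y => Subtype.ext ((h1 _).trans (h1 _).symm)⟩⟩,
      fun x => Subtype.ext (h1 _), ⟨fun x y => ?_⟩, fun ω => (Subgroup.eq_bot_iff_forall _).mpr fun x _ => Subtype.ext (h1 _)⟩
    obtain ⟨g, hg⟩ := htransG x y
    refine ⟨1, ?_⟩
    rw [one_smul, ← hg, h1 g, one_smul]
  have hΩ : 2 ≤ Nat.card Ω := by
    by_contra h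
    refine htop ((Subgroup.eq_bot_iff_forall _).mpr fun g _ => eq_of_smul_eq_smul (α := Ω) fun x => ?_)
    have : Subsingleton Ω := (Finite.card_le_one_iff_subsingleton).mp (by omega)
    exact Subsingleton.elim _ _
  obtain ⟨N₀, hNn, hN0, hmin, htr⟩ := CfsgLib.Socle.exists_minimal hprim hΩ
  obtain ⟨a⟩ : Nonempty Ω := (Nat.card_pos_iff.mp (by omega)).1
  have hN₀mem : N₀ ∈ {V : Subgroup G | V.Normal ∧ V ≠ ⊥ ∧ ∀ M : Subgroup G, M.Normal → M ≤ V → M = ⊥ ∨ M = V} :=
    ⟨hNn, hN0, hmin⟩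
  have hN₀N : N₀ ≤ N := hN ▸ le_sSup hN₀mem
  have hother : ∀ V : Subgroup G, V.Normal → V ≠ ⊥ →
      (∀ M : Subgroup G, M.Normal → M ≤ V → M = ⊥ ∨ M = V) → V ≠ N₀ → ∀ v ∈ V, ∀ n ∈ N₀, v * n = n * v := by
    intro V hV hV0 hVmin hne v hv n hn
    refine (Subgroup.commute_of_normal_of_disjoint V N₀ hV hNn ?_ v n hv hn).eq
    rw [disjoint_iff]
    rcases hmin (V ⊓ N₀) inferInstance inf_le_right with h | h
    · exact h
    · rcases hVmin N₀ hNn (h.ge.trans inf_le_left) with e | e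
      · exact absurd e hN0
      · exact absurd e.symm hne
  by_cases hab : IsMulCommutative N₀
  · obtain ⟨hsr, p, hp, hpow⟩ := CfsgLib.Socle.abelian_regular hN0 hmin hab htr
    have heq : N = N₀ := by
      refine le_antisymm (hN ▸ sSup_le ?_) hN₀N
      rintro V ⟨hV, hV0, hVmin⟩ v hv
      by_cases hne : V = N₀
      · exact hne ▸ hv
      obtain ⟨m, hm, hma⟩ := htr a (v • a)
      have : m⁻¹ * v = 1 := CfsgLib.Socle.semiregular_of_comm htr (fun n hn => by
        have h1 : v * n = n * v := hother V hV hV0 hVmin hne v hv n hn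
        have h2 : m⁻¹ * n = n * m⁻¹ := congrArg Subtype.val (hab.is_comm.comm ⟨m⁻¹, N₀.inv_mem hm⟩ ⟨n, hn⟩)
        rw [mul_assoc, h1, ← mul_assoc, h2, mul_assoc]) (x := a) (by rw [mul_smul, ← hma, inv_smul_smul])
      rw [← inv_mul_eq_one.mp this]; exact hm
    subst heq
    refine Or.inl ⟨p, hp, hab, fun x => Subtype.ext (by simpa using hpow x x.2), ⟨fun x y => ?_⟩, fun ω =>
      (Subgroup.eq_bot_iff_forall _).mpr fun n hn => Subtype.ext (hsr n n.2 ω hn)⟩
    obtain ⟨m, hm, e⟩ := htr x y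
    exact ⟨⟨m, hm⟩, e⟩
  obtain ⟨T, iT, k, hTs, hk, ⟨eT⟩⟩ := CfsgLib.MinimalNormal.power_of_simple N₀ hN0 hmin
  have hTna : ¬ IsMulCommutative T := fun h => hab
    ⟨⟨fun x y => eT.injective (by rw [map_mul, map_mul]; funext i; exact h.is_comm.comm _ _)⟩⟩
  by_cases hC : Subgroup.centralizer (N₀ : Set G) = ⊥
  · have heq : N = N₀ := by
      refine le_antisymm (hN ▸ sSup_le ?_) hN₀N
      rintro V ⟨hV, hV0, hVmin⟩
      by_cases hne : V = N₀
      · exact hne.le
      exfalso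
      refine hV0 (le_bot_iff.mp (hC ▸ fun v hv => Subgroup.mem_centralizer_iff.mpr fun n hn => ?_))
      exact (hother V hV hV0 hVmin hne v hv n hn).symm
    subst heq
    exact Or.inr ⟨T, iT, k, hk, hTs, hTna, ⟨eT⟩⟩
  obtain ⟨M, hMn, hMC, hM0, hMmin⟩ := CfsgLib.exists_minimal_normal hC
  have hMtr := CfsgLib.Socle.trans_of_normal hprim M hM0
  have hcomm : ∀ x ∈ N₀, ∀ y ∈ M, x * y = y * x := fun x hx y hy =>
    Subgroup.mem_centralizer_iff.mp (hMC hy) x hx
  have hdisj : N₀ ⊓ M = ⊥ := by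
    refine (Subgroup.eq_bot_iff_forall _).mpr fun x ⟨hx, hx'⟩ => ?_
    obtain ⟨D⟩ := CfsgLib.Socle.exists_data N₀ hN0 hmin hab
    exact D.centerN x hx fun y hy => (hcomm y hy x hx').symm
  have heq : N = N₀ ⊔ M := by
    refine le_antisymm (hN ▸ sSup_le ?_) (sup_le hN₀N (hN ▸ le_sSup ⟨hMn, hM0, hMmin⟩))
    rintro V ⟨hV, hV0, hVmin⟩
    by_cases hne : V = N₀
    · exact hne ▸ le_sup_left
    refine le_trans (fun v hv => ?_) le_sup_right
    obtain ⟨m, hm, hma⟩ := hMtr a (v • a)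
    have : m⁻¹ * v = 1 := CfsgLib.Socle.semiregular_of_comm htr (fun n hn => by
      rw [mul_assoc, hother V hV hV0 hVmin hne v hv n hn, ← mul_assoc, ← hcomm n hn m⁻¹ (M.inv_mem hm), mul_assoc])
      (x := a) (by rw [mul_smul, ← hma, inv_smul_smul])
    rw [← inv_mul_eq_one.mp this]; exact hm
  obtain ⟨eM⟩ := regular_iso N₀ M a htr hMtr hcomm
  let φ : N₀ × M →* G :=
    { toFun := fun p => (p.1 : G) * p.2
      map_one' := by simp
      map_mul' := fun p q => by
        show ((p.1 * q.1 : N₀) : G) * ((p.2 * q.2 : M) : G) = (p.1 : G) * p.2 * ((q.1 : G) * q.2)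
        rw [Subgroup.coe_mul, Subgroup.coe_mul, mul_assoc, ← mul_assoc (q.1 : G), hcomm _ q.1.2 _ p.2.2]
        group }
  have hφi : Function.Injective φ := by
    rw [injective_iff_map_eq_one]
    intro p hp
    have h1 : (p.1 : G) = (p.2 : G)⁻¹ := eq_inv_of_mul_eq_one_left hp
    have h2 : (p.1 : G) = 1 := Subgroup.mem_bot.mp (hdisj ▸ ⟨p.1.2, h1 ▸ M.inv_mem p.2.2⟩)
    have h3 : (p.2 : G) = 1 := by rw [h2] at h1; exact inv_eq_one.mp h1.symm
    exact Prod.ext (Subtype.ext h2) (Subtype.ext h3)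
  have hφr : φ.range = N := by
    rw [heq]
    refine le_antisymm ?_ (sup_le ?_ ?_)
    · rintro _ ⟨p, rfl⟩
      exact Subgroup.mul_mem _ (Subgroup.mem_sup_left p.1.2) (Subgroup.mem_sup_right p.2.2)
    · exact fun x hx => ⟨(⟨x, hx⟩, 1), by simp [φ]⟩
    · exact fun x hx => ⟨(1, ⟨x, hx⟩), by simp [φ]⟩
  refine Or.inr ⟨T, iT, k + k, by omega, hTs, hTna, ⟨?_⟩⟩
  exact ((MonoidHom.ofInjective hφi).trans (MulEquiv.subgroupCongr hφr)).symm.trans
    ((MulEquiv.prodCongr eT (eM.symm.trans eT)).trans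
      { toFun := fun p => Fin.addCases p.1 p.2
        invFun := fun f => (fun i => f (Fin.castAdd k i), fun i => f (Fin.natAdd k i))
        left_inv := fun p => by
          refine Prod.ext ?_ ?_ <;> funext i
          · exact Fin.addCases_left (motive := fun _ => T) (left := p.1) (right := p.2) i
          · exact Fin.addCases_right (motive := fun _ => T) (left := p.1) (right := p.2) i
        right_inv := fun f => by
          funext i
          refine Fin.addCases (fun j => ?_) (fun j => ?_) i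
          · exact Fin.addCases_left j
          · exact Fin.addCases_right j
        map_mul' := fun p q => by
          funext i
          refine Fin.addCases (fun j => ?_) (fun j => ?_) i
          · simp only [Pi.mul_apply, Fin.addCases_left, Prod.fst_mul]
          · simp only [Pi.mul_apply, Fin.addCases_right, Prod.snd_mul] })

end Cfsg.Agent.S3680
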