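import Cfsg.Statements.S3682
import Cfsg.Agent.Lib.WielandtSuborbit

set_option autoImplicit false
open Cfsg

namespace Cfsg.Agent.S3682

/-- Wielandt's bound toward the Sims conjecture. Let a finite group G act faithfully and primitively on a set Ω, let a and b be points, and suppose the orbit of b under the stabilizer of a has length d ≥ 2. Then there are a prime p and a normal p-subgroup P of the stabilizer of a, all of whose elements fix b, such that the index of P in the stabilizer of a divides d! · ((d - 1)!)^d. -/
theorem result {G Ω : Type*} [Group G] [Finite G] [MulAction G Ω] [FaithfulSMul G Ω] [Finite Ω]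
    (hprim : MulAction.IsPreprimitive G Ω) (a b : Ω) (d : ℕ) (hd : Nat.card (MulAction.orbit (MulAction.stabilizer G a) b) = d) (h2 : 2 ≤ d) :
    ∃ p : ℕ, p.Prime ∧ ∃ P : Subgroup (MulAction.stabilizer G a), P.Normal ∧ IsPGroup p P ∧ (∀ g : P, ((g : MulAction.stabilizer G a) : G) • b = b) ∧
      P.index ∣ Nat.factorial d * (Nat.factorial (d - 1)) ^ d := by
  have h : CfsgLib.WielandtSuborbit.Data G a b d := ⟨inferInstance, inferInstance, inferInstance, hprim, hd, h2⟩
  rcases h.main with hdvd | ⟨p, hp, hpg, -, -⟩
  · refine ⟨2, Nat.prime_two, ⊥, inferInstance, IsPGroup.of_bot, fun g => ?_, by rwa [Subgroup.index_bot]⟩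
    rw [show ((g : MulAction.stabilizer G a) : G) = 1 from congrArg Subtype.val (Subgroup.mem_bot.1 g.2), one_smul]
  · set K := CfsgLib.WielandtSuborbit.K2 G a b
    have hle1 : K ≤ MulAction.stabilizer G a ⊓ MulAction.stabilizer G b :=
      (CfsgLib.WielandtSuborbit.K2_le.trans inf_le_left).trans CfsgLib.WielandtSuborbit.K1_le
    have hle : K ≤ MulAction.stabilizer G a := hle1.trans inf_le_left
    refine ⟨p, hp, K.subgroupOf (MulAction.stabilizer G a),
      Subgroup.normal_subgroupOf_of_le_normalizer CfsgLib.WielandtSuborbit.le_normalizer_K2,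
      hpg.of_equiv (Subgroup.subgroupOfEquivOfLe hle).symm, fun g => (hle1 g.2).2, ?_⟩
    have := h.card_dvd
    rw [← Subgroup.card_mul_index (K.subgroupOf (MulAction.stabilizer G a)), mul_comm _ (Nat.card K),
      Nat.card_congr (Subgroup.subgroupOfEquivOfLe hle).toEquiv] at this
    exact Nat.dvd_of_mul_dvd_mul_left Nat.card_pos this

end Cfsg.Agent.S3682
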