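import Cfsg.Statements.S3683
import Mathlib
import Cfsg.Agent.Lib.Local

set_option autoImplicit false
open Cfsg
open scoped Pointwise

namespace Cfsg.Agent.S3683



/-- Let a finite group G act faithfully and primitively on a set Ω, and suppose the stabilizer of a point a fixes a second point b ≠ a (a suborbit of length 1 other than {a}). Then the stabilizer of a is trivial and G is cyclic of prime order. -/
theorem result {G Ω : Type*} [Group G] [Finite G] [MulAction G Ω] [FaithfulSMul G Ω] [Finite Ω]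
    (hprim : MulAction.IsPreprimitive G Ω) (a b : Ω) (hab : a ≠ b) (hfix : ∀ g : G, g • a = a → g • b = b) :
    MulAction.stabilizer G a = ⊥ ∧ IsCyclic G ∧ (Nat.card G).Prime := by
  classical
  haveI := hprim.toIsPretransitive
  haveI : Nontrivial Ω := ⟨a, b, hab⟩
  haveI := hprim
  have hmax := MulAction.IsPreprimitive.isCoatom_stabilizer_of_isPreprimitive G a
  set A := MulAction.stabilizer G a with hA
  obtain ⟨g, hg⟩ := MulAction.exists_smul_eq G a b
  have hle : A ≤ MulAction.stabilizer G b := fun x hx => hfix x hx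
  have hb : MulAction.stabilizer G b = A.map (MulAut.conj g).toMonoidHom := by
    rw [← hg, MulAction.stabilizer_smul_eq_stabilizer_map_conj]
  have heq : A = MulAction.stabilizer G b :=
    Subgroup.eq_of_le_of_card_ge hle (le_of_eq (by rw [hb, Subgroup.card_map_of_injective (MulEquiv.injective _)]))
  have hgN : g ∈ Subgroup.normalizer (A : Set G) :=
    CfsgLib.Local.mem_normalizer_of_map_conj_eq (hb.symm.trans heq.symm)
  have hgA : g ∉ A := fun h => hab (by rw [← hg]; exact (MulAction.mem_stabilizer_iff.mp h).symm)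
  have hN : Subgroup.normalizer (A : Set G) = ⊤ :=
    hmax.2 _ (lt_of_le_of_ne Subgroup.le_normalizer fun e => hgA (e ▸ hgN))
  haveI : A.Normal := Subgroup.normalizer_eq_top_iff.mp hN
  have hbot : A = ⊥ := by
    rw [Subgroup.eq_bot_iff_forall]
    intro x hx
    refine eq_of_smul_eq_smul fun ω : Ω => ?_
    obtain ⟨c, hc⟩ := MulAction.exists_smul_eq G a ω
    have : c⁻¹ * x * c ∈ A := by
      have := (inferInstance : A.Normal).conj_mem x hx c⁻¹
      rwa [inv_inv] at this
    rw [one_smul, ← hc, ← mul_smul, show x * c = c * (c⁻¹ * x * c) by group, mul_smul, MulAction.mem_stabilizer_iff.mp this]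
  rw [hbot] at hmax
  obtain ⟨x, hx⟩ : ∃ x : G, x ≠ 1 := ⟨g, fun e => hgA (e ▸ A.one_mem)⟩
  have hz : Subgroup.zpowers x = ⊤ := hmax.2 _ (bot_lt_iff_ne_bot.mpr (by simpa using hx))
  refine ⟨hbot, ⟨⟨x, fun y => Subgroup.mem_zpowers_iff.mp (hz ▸ Subgroup.mem_top y)⟩⟩, ?_⟩
  have hne : Nat.card G ≠ 1 := fun e => hx ((Nat.card_eq_one_iff_unique.mp e).1.elim x 1)
  obtain ⟨q, hq, hdvd⟩ := Nat.exists_prime_and_dvd hne
  haveI := Fact.mk hq
  obtain ⟨y, hy⟩ := exists_prime_orderOf_dvd_card' q hdvd
  have : Subgroup.zpowers y = ⊤ := hmax.2 _ (bot_lt_iff_ne_bot.mpr (by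
    simp only [ne_eq, Subgroup.zpowers_eq_bot]; intro e; rw [e, orderOf_one] at hy; exact hq.ne_one hy.symm))
  rw [← Subgroup.card_top (G := G), ← this, Nat.card_zpowers, hy]
  exact hq

end Cfsg.Agent.S3683
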