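import Cfsg.Statements.S3684
import Mathlib
import Cfsg.Agent.Lib.Chev.Twist.Dihedral

set_option autoImplicit false
open Cfsg

namespace Cfsg.Agent.S3684



/-- Let a finite group G act faithfully and primitively on a set Ω, and suppose the stabilizer of a point a has an orbit of length 2. Then the stabilizer of a has order 2 and G is isomorphic to the dihedral group of order 2p for some prime p. -/
theorem result {G Ω : Type*} [Group G] [Finite G] [MulAction G Ω] [FaithfulSMul G Ω] [Finite Ω]
    (hprim : MulAction.IsPreprimitive G Ω) (a b : Ω) (h2 : Nat.card (MulAction.orbit (MulAction.stabilizer G a) b) = 2) :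
    Nat.card (MulAction.stabilizer G a) = 2 ∧ ∃ p : ℕ, p.Prime ∧ Nonempty (G ≃* DihedralGroup p) := by
----
  classical
  haveI := hprim
  set H := MulAction.stabilizer G a with hH
  have hab : a ≠ b := by
    rintro rfl
    have hsing : MulAction.orbit H a = {a} := Set.eq_singleton_iff_unique_mem.2
      ⟨MulAction.mem_orbit_self a, by rintro _ ⟨h, rfl⟩; exact MulAction.mem_stabilizer_iff.1 h.2⟩
    rw [hsing, Nat.card_coe_set_eq, Set.ncard_singleton] at h2
    omega
  haveI : Nontrivial Ω := ⟨a, b, hab⟩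
  set K := MulAction.stabilizer G b with hK
  obtain ⟨hmax, hmax'⟩ : IsCoatom H ∧ IsCoatom K :=
    ⟨MulAction.IsPreprimitive.isCoatom_stabilizer_of_isPreprimitive G a,
     MulAction.IsPreprimitive.isCoatom_stabilizer_of_isPreprimitive G b⟩
  -- the two point stabiliser
  have hidx : K.relIndex H = 2 := by
    have h1 : MulAction.stabilizer H b = K.subgroupOf H := by ext x; rfl
    rw [Subgroup.relIndex, ← h1, MulAction.index_stabilizer, ← Nat.card_coe_set_eq]
    exact h2
  have hKH : Nat.card H = Nat.card K := by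
    obtain ⟨g, hg⟩ := MulAction.exists_smul_eq G a b
    subst hg
    exact Nat.card_congr (MulAction.stabilizerEquivStabilizer (g := g) (a := a) (b := g • a) rfl).toEquiv
  have hmulH : Nat.card (H ⊓ K : Subgroup G) * 2 = Nat.card H := by
    have := Subgroup.relIndex_mul_relIndex (⊥ : Subgroup G) (H ⊓ K) H bot_le inf_le_left
    rwa [Subgroup.relIndex_bot_left, Subgroup.inf_relIndex_left, hidx, Subgroup.relIndex_bot_left] at this
  have hidx' : (H ⊓ K).relIndex K = 2 := by
    have := Subgroup.relIndex_mul_relIndex (⊥ : Subgroup G) (H ⊓ K) K bot_le inf_le_right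
    rw [Subgroup.relIndex_bot_left, Subgroup.relIndex_bot_left, ← hKH, ← hmulH] at this
    exact Nat.eq_of_mul_eq_mul_left Nat.card_pos this
  have hnorm : ∀ L : Subgroup G, H ⊓ K ≤ L → (H ⊓ K).relIndex L = 2 → L ≤ Subgroup.normalizer ((H ⊓ K : Subgroup G) : Set G) := by
    intro L hle h
    haveI : ((H ⊓ K).subgroupOf L).Normal := Subgroup.normal_of_index_eq_two h
    exact (Subgroup.normal_subgroupOf_iff_le_normalizer hle).1 inferInstance
  have hne : H ≠ K := by
    intro h
    rw [← h, Subgroup.relIndex_self] at hidx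
    omega
  have hD : (H ⊓ K : Subgroup G) = ⊥ := by
    have htop : Subgroup.normalizer ((H ⊓ K : Subgroup G) : Set G) = ⊤ := by
      have h1 := hnorm H inf_le_left (by rw [Subgroup.inf_relIndex_left, hidx])
      rcases hmax.le_iff.1 h1 with h | h
      · exact h
      · exfalso
        have h3 := hnorm K inf_le_right hidx'
        rw [h] at h3
        rcases hmax'.le_iff.1 h3 with h4 | h4
        · exact hmax.ne_top h4
        · exact hne h4
    haveI : (H ⊓ K).Normal := Subgroup.normalizer_eq_top_iff.1 htop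
    refine le_bot_iff.1 fun x hx => Subgroup.mem_bot.2 (FaithfulSMul.eq_of_smul_eq_smul fun ω : Ω => ?_)
    obtain ⟨g, rfl⟩ := MulAction.exists_smul_eq G a ω
    have hc := (inferInstance : (H ⊓ K).Normal).conj_mem x hx g⁻¹
    rw [one_smul]
    have := MulAction.mem_stabilizer_iff.1 hc.1
    rwa [inv_inv, mul_smul, mul_smul, inv_smul_eq_iff] at this
  have hH2 : Nat.card H = 2 := by rw [← hmulH, hD, Subgroup.card_bot, one_mul]
  refine ⟨hH2, ?_⟩
  haveI : Fact (Nat.Prime 2) := ⟨Nat.prime_two⟩
  -- involutions generating `G`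
  have invol : ∀ L : Subgroup G, Nat.card L = 2 → ∃ t : G, t * t = 1 ∧ t ≠ 1 ∧ Subgroup.zpowers t = L := by
    intro L hL
    obtain ⟨x, hx⟩ := (isCyclic_of_prime_card (α := L) hL).exists_generator
    have ho : orderOf (x : G) = 2 := by
      rw [orderOf_submonoid, orderOf_eq_card_of_forall_mem_zpowers hx, hL]
    refine ⟨x, ?_, ?_, ?_⟩
    · rw [← pow_two, ← ho, pow_orderOf_eq_one]
    · intro h; rw [h, orderOf_one] at ho; omega
    · exact Subgroup.eq_of_le_of_card_ge (Subgroup.zpowers_le.2 x.2) (by rw [hL, Nat.card_zpowers, ho])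
  obtain ⟨t, ht, ht1, htH⟩ := invol H hH2
  obtain ⟨s, hs, hs1, hsK⟩ := invol K (hKH ▸ hH2)
  have hgen : Subgroup.closure {t, s} = ⊤ := by
    have hle : H ≤ Subgroup.closure {t, s} := by
      rw [← htH, Subgroup.zpowers_le]; exact Subgroup.subset_closure (Or.inl rfl)
    have hle' : K ≤ Subgroup.closure {t, s} := by
      rw [← hsK, Subgroup.zpowers_le]; exact Subgroup.subset_closure (Or.inr rfl)
    rcases hmax.le_iff.1 hle with h | h
    · exact h
    · rw [h] at hle'
      rcases hmax'.le_iff.1 hle' with h4 | h4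
      · exact absurd h4 hmax.ne_top
      · exact absurd h4 hne
  set r := t * s with hr
  have hti : t⁻¹ = t := inv_eq_of_mul_eq_one_right ht
  have hsi : s⁻¹ = s := inv_eq_of_mul_eq_one_right hs
  have htr : t * r * t = r⁻¹ := by rw [hr, mul_inv_rev, hti, hsi, ← mul_assoc, ht, one_mul]
  have hpw : ∀ i : ℤ, t * r ^ i = r ^ (-i) * t := by
    intro i
    have h1 : MulAut.conj t (r ^ i) = r ^ (-i) := by
      rw [map_zpow, MulAut.conj_apply, hti, htr, inv_zpow, zpow_neg]
    rw [← h1, MulAut.conj_apply, hti, mul_assoc, ht, mul_one]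
  -- the subgroup `{r^(di), r^(di) t}`
  let S : ℤ → Subgroup G := fun d =>
    { carrier := {x | ∃ i : ℤ, x = r ^ (d * i) ∨ x = r ^ (d * i) * t}
      one_mem' := ⟨0, Or.inl (by simp)⟩
      inv_mem' := by
        rintro x ⟨i, rfl | rfl⟩
        · exact ⟨-i, Or.inl (by rw [mul_neg, zpow_neg])⟩
        · exact ⟨i, Or.inr (by rw [mul_inv_rev, hti, ← zpow_neg, hpw, neg_neg])⟩
      mul_mem' := by
        rintro x y ⟨i, rfl | rfl⟩ ⟨j, rfl | rfl⟩
        · exact ⟨i + j, Or.inl (by rw [mul_add, zpow_add])⟩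
        · exact ⟨i + j, Or.inr (by rw [mul_add, zpow_add, mul_assoc])⟩
        · exact ⟨i - j, Or.inr (by rw [mul_assoc, hpw, ← mul_assoc, ← zpow_add, mul_sub, sub_eq_add_neg])⟩
        · exact ⟨i - j, Or.inl (by
            rw [← mul_assoc, mul_assoc (r ^ (d * i)), hpw, ← mul_assoc, mul_assoc, ht, mul_one, ← zpow_add, mul_sub,
              sub_eq_add_neg])⟩ }
  have hSH : ∀ d : ℤ, H ≤ S d := fun d => by
    rw [← htH, Subgroup.zpowers_le]; exact ⟨0, Or.inr (by simp)⟩
  have hS1 : S 1 = ⊤ := by
    rw [eq_top_iff, ← hgen, Subgroup.closure_le]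
    rintro x (rfl | rfl)
    · exact ⟨0, Or.inr (by simp)⟩
    · refine ⟨-1, Or.inr ?_⟩
      rw [one_mul, zpow_neg_one, hr, mul_inv_rev, hti, hsi, mul_assoc, ht, mul_one]
  have hr1 : r ≠ 1 := by
    intro h
    have : t = s := by rw [hr, mul_eq_one_iff_eq_inv, hsi] at h; exact h
    exact hne (by rw [← htH, this, hsK])
  set n := orderOf r with hn
  -- `t` is not a power of `r`
  have htr' : ∀ i : ℤ, t ≠ r ^ i := by
    intro i h
    have hc : t * r = r * t := by rw [h]; exact ((Commute.refl r).zpow_left i).eq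
    have h2' : r⁻¹ = r := by rw [← htr, hc, mul_assoc, ht, mul_one]
    rcases Int.even_or_odd i with ⟨k, hk⟩ | ⟨k, hk⟩
    · rw [h, hk, ← two_mul, zpow_mul, zpow_two] at ht1
      apply ht1
      rw [show r * r = 1 by nth_rw 1 [← h2']; exact inv_mul_cancel r, one_zpow]
    · have : t = r := by
        rw [h, hk, zpow_add, zpow_one, zpow_mul, zpow_two,
          show r * r = 1 by nth_rw 1 [← h2']; exact inv_mul_cancel r, one_zpow, one_mul]
      have hs' : s = 1 := by
        rw [hr] at this
        exact mul_left_cancel (a := t) (by rw [← this, mul_one])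
      exact hs1 hs'
  have hnpos : 0 < n := orderOf_pos r
  have hp : n.Prime := by
    rw [Nat.prime_def]
    refine ⟨?_, fun d hd => ?_⟩
    · have : n ≠ 1 := fun h => hr1 (orderOf_eq_one_iff.1 h)
      omega
    · rcases hmax.le_iff.1 (hSH d) with h | h
      · left
        obtain ⟨i, hi | hi⟩ := (h ▸ Subgroup.mem_top r : r ∈ S (d : ℤ))
        · have : (n : ℤ) ∣ (d : ℤ) * i - 1 := by
            rw [hn, orderOf_dvd_iff_zpow_eq_one, zpow_sub, zpow_one, ← hi, mul_inv_cancel]
          have h1 : (d : ℤ) ∣ 1 := by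
            have := (Int.natCast_dvd_natCast.2 hd).trans this
            exact (dvd_sub_right (dvd_mul_right _ i)).1 this
          exact Nat.eq_one_of_dvd_one (Int.natCast_dvd_natCast.1 h1)
        · exfalso
          refine htr' (-((d : ℤ) * i) + 1) ?_
          have : t = (r ^ ((d : ℤ) * i))⁻¹ * r := by
            rw [eq_inv_mul_iff_mul_eq]
            exact hi.symm
          rw [this, zpow_add, zpow_neg, zpow_one]
      · right
        have hd' : r ^ (d : ℤ) ∈ H := h ▸ ⟨1, Or.inl (by rw [mul_one])⟩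
        have hd1 : r ^ (d : ℤ) = 1 := by
          rw [← htH] at hd'
          obtain ⟨j, hj⟩ := Subgroup.mem_zpowers_iff.1 hd'
          rcases Int.even_or_odd j with ⟨k, hk⟩ | ⟨k, hk⟩
          · rw [← hj, hk, ← two_mul, zpow_mul, zpow_two, ht, one_zpow]
          · exfalso
            rw [hk, zpow_add, zpow_one, zpow_mul, zpow_two, ht, one_zpow, one_mul] at hj
            exact htr' _ hj
        rw [zpow_natCast, ← orderOf_dvd_iff_pow_eq_one] at hd1
        exact Nat.dvd_antisymm hd hd1
  refine ⟨n, hp, ?_⟩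
  haveI : NeZero n := ⟨hnpos.ne'⟩
  refine CfsgLib.Chev.nonempty_dihedral t s ht hs (pow_orderOf_eq_one r) hgen ?_
  have hmap : Function.Bijective (fun x : Subgroup.zpowers r × Bool => (x.1 : G) * if x.2 then t else 1) := by
    constructor
    · rintro ⟨⟨_, i, rfl⟩, b1⟩ ⟨⟨_, j, rfl⟩, b2⟩ h
      simp only at h
      cases b1 <;> cases b2 <;> simp only [Bool.false_eq_true, if_false, if_true, mul_one] at h
      · simp only [Prod.mk.injEq, and_true]; exact Subtype.ext h
      · exact absurd (show t = r ^ (-j + i) by rw [zpow_add, h, zpow_neg]; group) (htr' _)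
      · exact absurd (show t = r ^ (-i + j) by rw [zpow_add, ← h, zpow_neg]; group) (htr' _)
      · simp only [Prod.mk.injEq, and_true]; exact Subtype.ext (mul_right_cancel h)
    · intro g
      obtain ⟨i, hi | hi⟩ := (hS1 ▸ Subgroup.mem_top g : g ∈ S 1)
      · exact ⟨(⟨r ^ i, i, rfl⟩, false), by simp [hi]⟩
      · exact ⟨(⟨r ^ i, i, rfl⟩, true), by simp [hi]⟩
  rw [← Nat.card_congr (Equiv.ofBijective _ hmap), Nat.card_prod, Nat.card_zpowers, Nat.card_eq_fintype_card (α := Bool),
    Fintype.card_bool, mul_comm]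

end Cfsg.Agent.S3684
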