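import Cfsg.Statements.S3696
import Mathlib

set_option autoImplicit false
open Cfsg

namespace Cfsg.Agent.S3696

open scoped Classical in
theorem amgm {t u x y : ℕ} (ht : 0 < t) :
    x ^ t * y ^ u * (t + u) ^ (t + u) ≤ (x + y) ^ (t + u) * (t ^ t * u ^ u) := by
  rcases Nat.eq_zero_or_pos u with rfl | hu
  · simp only [pow_zero, mul_one, add_zero]
    exact Nat.mul_le_mul (Nat.pow_le_pow_left (Nat.le_add_right x y) t) le_rfl
  set w : ℝ := (t : ℝ) + u with hw
  have hwpos : 0 < w := by positivity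
  have h := Real.geom_mean_le_arith_mean2_weighted (w₁ := (t : ℝ) / w) (w₂ := (u : ℝ) / w) (p₁ := (x : ℝ) / t)
    (p₂ := (y : ℝ) / u) (by positivity) (by positivity) (by positivity) (by positivity) (by field_simp; exact hw.symm)
  have h' : ((x : ℝ) / t) ^ t * ((y : ℝ) / u) ^ u ≤ (((x : ℝ) + y) / w) ^ (t + u) := by
    have h2 := pow_le_pow_left₀ (by positivity) h (t + u)
    have e : (t : ℝ) / w * ((x : ℝ) / t) + (u : ℝ) / w * ((y : ℝ) / u) = ((x : ℝ) + y) / w := by
      have : (t : ℝ) ≠ 0 := by positivity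
      have : (u : ℝ) ≠ 0 := by positivity
      field_simp
    rw [e, mul_pow] at h2
    refine le_trans (le_of_eq ?_) h2
    rw [← Real.rpow_natCast (((x : ℝ) / t) ^ _) (t + u), ← Real.rpow_natCast (((y : ℝ) / u) ^ _) (t + u),
      ← Real.rpow_mul (by positivity), ← Real.rpow_mul (by positivity), Nat.cast_add, ← hw,
      div_mul_cancel₀ _ hwpos.ne', div_mul_cancel₀ _ hwpos.ne', Real.rpow_natCast, Real.rpow_natCast]
  rw [div_pow, div_pow, div_pow, div_mul_div_comm, div_le_div_iff₀ (by positivity) (by positivity)] at h'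
  rw [hw] at h'
  exact_mod_cast h'

theorem arith_step {p t q : ℕ} (hp : 2 ≤ p) (ht : 1 ≤ t) (hq : p ^ t ≤ q) : q * t ^ t ≤ q ^ t := by
  obtain ⟨s, rfl⟩ : ∃ s, t = s + 1 := ⟨t - 1, by omega⟩
  have h1 : s + 1 ≤ 2 ^ s := Nat.lt_two_pow_self
  rw [pow_succ' q]
  refine Nat.mul_le_mul_left q ?_
  calc (s + 1) ^ (s + 1) ≤ (2 ^ s) ^ (s + 1) := Nat.pow_le_pow_left h1 _
    _ = (2 ^ (s + 1)) ^ s := by rw [← pow_mul, ← pow_mul, mul_comm]
    _ ≤ q ^ s := Nat.pow_le_pow_left ((Nat.pow_le_pow_left hp _).trans hq) _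

section Gen
variable {A Ω : Type*} [CommGroup A] [Finite A] [MulAction A Ω] [Finite Ω] [FaithfulSMul A Ω]

/-- The points moved by `K`. -/
def moved (K : Subgroup A) : Set Ω := {ω | ∃ g ∈ K, g • ω ≠ ω}

theorem main (p : ℕ) [Fact p.Prime] (hA : IsPGroup p A) : ∀ (n : ℕ) (K : Subgroup A), Nat.card K = n →
    ∀ k : ℕ, Nat.card (K ⊓ (powMonoidHom p : A →* A).ker : Subgroup A) = p ^ k →
      Nat.card K * k ^ k ≤ (moved (Ω := Ω) K).ncard ^ k := by
  intro n
  induction n using Nat.strong_induction_on with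
  | _ n ih =>
  intro K hn k hk
  have hp : p.Prime := Fact.out
  rcases eq_or_ne K ⊥ with rfl | hK
  · rw [bot_inf_eq, Subgroup.card_bot] at hk
    have : k = 0 := by
      by_contra h
      exact (Nat.one_lt_pow h hp.one_lt).ne hk
    subst this
    simp
  -- an element of order `p` in `K` and a point moved by it
  have hdvd : p ∣ Nat.card K := by
    obtain ⟨m, hm⟩ := IsPGroup.iff_card.1 (hA.to_subgroup K)
    rw [hm]
    refine dvd_pow_self p fun h => hK (Subgroup.card_eq_one.1 ?_)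
    rw [hm, h, pow_zero]
  obtain ⟨⟨x, hxK⟩, hx⟩ := exists_prime_orderOf_dvd_card' p hdvd
  have hxp : x ^ p = 1 := by
    have := pow_orderOf_eq_one (⟨x, hxK⟩ : K)
    rw [hx] at this
    exact congrArg Subtype.val this
  have hx1 : x ≠ 1 := by
    intro h
    rw [show (⟨x, hxK⟩ : K) = 1 from Subtype.ext h, orderOf_one] at hx
    exact hp.ne_one hx.symm
  obtain ⟨ω, hω⟩ : ∃ ω : Ω, x • ω ≠ ω := by
    by_contra h
    simp only [not_exists, not_not] at h
    exact hx1 (FaithfulSMul.eq_of_smul_eq_smul fun y : Ω => by rw [h y, one_smul])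
  set K' : Subgroup A := K ⊓ MulAction.stabilizer A ω with hK'
  set E : Subgroup A := (powMonoidHom p : A →* A).ker
  set O : Set Ω := MulAction.orbit K ω
  have hidx : K'.relIndex K = O.ncard := by
    have h1 : MulAction.stabilizer K ω = (MulAction.stabilizer A ω).subgroupOf K := by ext y; rfl
    rw [hK', Subgroup.inf_relIndex_left, Subgroup.relIndex, ← h1, MulAction.index_stabilizer]
  have hcardK : Nat.card K' * O.ncard = Nat.card K := by
    have := Subgroup.relIndex_mul_relIndex (⊥ : Subgroup A) K' K bot_le inf_le_left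
    rwa [Subgroup.relIndex_bot_left, hidx, Subgroup.relIndex_bot_left] at this
  have hlt : Nat.card K' < n := by
    rw [← hn]
    refine lt_of_le_of_ne (Nat.le_of_dvd Nat.card_pos (Subgroup.card_dvd_of_le inf_le_left)) fun h => ?_
    have : K' = K := Subgroup.eq_of_le_of_card_ge inf_le_left h.ge
    exact hω (MulAction.mem_stabilizer_iff.1 (this.ge hxK).2)
  obtain ⟨u, hu⟩ := IsPGroup.iff_card.1 (hA.to_subgroup (K' ⊓ E))
  have hrel : (K' ⊓ E).relIndex (K ⊓ E) * p ^ u = p ^ k := by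
    have := Subgroup.relIndex_mul_relIndex (⊥ : Subgroup A) (K' ⊓ E) (K ⊓ E) bot_le
      (inf_le_inf_right _ inf_le_left)
    rw [Subgroup.relIndex_bot_left, hu, Subgroup.relIndex_bot_left, hk] at this
    rw [← this, mul_comm]
  have hne1 : (K' ⊓ E).relIndex (K ⊓ E) ≠ 1 := fun h =>
    hω (MulAction.mem_stabilizer_iff.1 ((Subgroup.relIndex_eq_one.1 h) ⟨hxK, hxp⟩).1.2)
  have huk : u < k := by
    by_contra h
    have h1 : p ^ k ≤ p ^ u := Nat.pow_le_pow_right hp.pos (by omega)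
    have h2 : (K' ⊓ E).relIndex (K ⊓ E) * p ^ u ≤ 1 * p ^ u := by rw [hrel, one_mul]; exact h1
    have := Nat.le_of_mul_le_mul_right h2 (pow_pos hp.pos u)
    have h3 : (K' ⊓ E).relIndex (K ⊓ E) ≠ 0 := Subgroup.index_ne_zero_of_finite
    omega
  obtain ⟨t, rfl⟩ : ∃ t, k = t + u := ⟨k - u, by omega⟩
  have hrel' : (K' ⊓ E).relIndex (K ⊓ E) = p ^ t :=
    Nat.eq_of_mul_eq_mul_right (pow_pos hp.pos u) (by rw [hrel, pow_add])
  have hq : p ^ t ≤ O.ncard := by
    rw [← hrel', ← hidx]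
    have : (K' ⊓ E).relIndex (K ⊓ E) = K'.relIndex (K ⊓ E) := by
      rw [← Subgroup.inf_relIndex_right (K' ⊓ E), ← Subgroup.inf_relIndex_right K']
      congr 1
      rw [hK']
      ext y
      simp only [Subgroup.mem_inf]
      tauto
    rw [this]
    exact Subgroup.relIndex_le_of_le_right inf_le_left Subgroup.index_ne_zero_of_finite
  have IH := ih _ hlt K' rfl u hu
  set y := (moved (Ω := Ω) K').ncard
  have hmov : O.ncard + y ≤ (moved (Ω := Ω) K).ncard := by
    rw [← Set.ncard_union_eq ?_ (Set.toFinite _) (Set.toFinite _)]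
    · refine Set.ncard_le_ncard ?_ (Set.toFinite _)
      rintro z (⟨g, rfl⟩ | ⟨g, hg, hz⟩)
      · refine ⟨x, hxK, fun h => hω ?_⟩
        have h' : x • ((g : A) • ω) = (g : A) • ω := h
        rw [smul_smul, mul_comm, mul_smul] at h'
        exact smul_left_cancel _ h'
      · exact ⟨g, hg.1, hz⟩
    · rw [Set.disjoint_left]
      rintro _ ⟨g, rfl⟩ ⟨c, hc, hz⟩
      apply hz
      show c • ((g : A) • ω) = (g : A) • ω
      rw [smul_smul, mul_comm, mul_smul, MulAction.mem_stabilizer_iff.1 hc.2]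
  have htu : 0 < t ^ t * u ^ u := Nat.mul_pos (pow_pos (by omega) _) Nat.pow_self_pos
  refine Nat.le_of_mul_le_mul_right ?_ htu
  calc Nat.card K * (t + u) ^ (t + u) * (t ^ t * u ^ u)
      = (Nat.card K' * u ^ u) * (O.ncard * t ^ t) * (t + u) ^ (t + u) := by rw [← hcardK]; ring
    _ ≤ y ^ u * O.ncard ^ t * (t + u) ^ (t + u) :=
        Nat.mul_le_mul_right _ (Nat.mul_le_mul IH (arith_step hp.two_le (by omega) hq))
    _ = O.ncard ^ t * y ^ u * (t + u) ^ (t + u) := by ring
    _ ≤ (O.ncard + y) ^ (t + u) * (t ^ t * u ^ u) := amgm (by omega)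
    _ ≤ (moved (Ω := Ω) K).ncard ^ (t + u) * (t ^ t * u ^ u) :=
        Nat.mul_le_mul_right _ (Nat.pow_le_pow_left hmov _)

end Gen


/-- Let p be a prime, Ω a finite set with n ≥ p elements, and A an abelian p-subgroup of the symmetric group on Ω whose elements of order dividing p number p^k (so k is the rank of A). Then |A| · k^k ≤ n^k, that is, |A| ≤ (n/k)^k. -/
theorem result {Ω : Type*} [Fintype Ω] [DecidableEq Ω]
    (p : ℕ) (hp : p.Prime) (hn : p ≤ Fintype.card Ω) (A : Subgroup (Equiv.Perm Ω)) (hA : IsPGroup p A) (hab : IsMulCommutative A)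
    (k : ℕ) (hk : Nat.card {x : A // x ^ p = 1} = p ^ k) :
    Nat.card A * k ^ k ≤ Fintype.card Ω ^ k := by
  classical
  haveI : Fact p.Prime := ⟨hp⟩
  letI : CommGroup A := { (inferInstance : Group A) with mul_comm := fun a b => hab.is_comm.comm a b }
  have hker : Nat.card ((⊤ : Subgroup A) ⊓ (powMonoidHom p : A →* A).ker : Subgroup A) = p ^ k := by
    rw [top_inf_eq, ← hk]
    exact Nat.card_congr (Equiv.subtypeEquivRight fun x => Iff.rfl)
  have h := main (Ω := Ω) p hA _ ⊤ rfl k hker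
  rw [Subgroup.card_top] at h
  refine h.trans (Nat.pow_le_pow_left ?_ k)
  rw [← Nat.card_eq_fintype_card, ← Set.ncard_univ]
  exact Set.ncard_le_ncard (Set.subset_univ _) (Set.toFinite _)

end Cfsg.Agent.S3696
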