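import Cfsg.Statements.S3702
import Cfsg.Agent.Lib.A9Local.Whole
-- import your own Cfsg.Agent.* helpers here

set_option autoImplicit false
open Cfsg

namespace Cfsg.Agent.S3702

open CfsgLib.A9Local

theorem theta_range : theta.range = Subgroup.closure ({Equiv.swap (0 : Fin 9) 1 * Equiv.swap 1 2,
        Equiv.swap (0 : Fin 9) 3 * Equiv.swap 3 6 * (Equiv.swap (1 : Fin 9) 4 * Equiv.swap 4 7) * (Equiv.swap (2 : Fin 9) 5 * Equiv.swap 5 8),
        Equiv.swap (0 : Fin 9) 1 * Equiv.swap 3 4, Equiv.swap (0 : Fin 9) 3 * Equiv.swap 1 4 * Equiv.swap 2 5 * Equiv.swap 6 7} : Set (Equiv.Perm (Fin 9))) := by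
  obtain ⟨e1, -, -, e4, e5, -, e7⟩ := theta_gens
  rw [← e1, ← e4, ← e5, ← e7]
  refine le_antisymm ?_ ((Subgroup.closure_le _).mpr ?_)
  · set C := Subgroup.closure ({theta ⟨(1, 0, 0), 0⟩, theta ⟨0, 16⟩, theta ⟨(1, 1, 0), 3⟩, theta ⟨(0, 0, 1), 8⟩} :
      Set (Equiv.Perm (Fin 9))) with hC
    have g0 : basisVec 0 ∈ C.comap theta := Subgroup.subset_closure (by simp [basisVec, single])
    have g16 : (⟨0, 16⟩ : HM) ∈ C.comap theta := Subgroup.subset_closure (by simp)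
    have g1 : basisVec 1 ∈ C.comap theta := by
      rw [basis_conj.1]; exact mul_mem (mul_mem g16 g0) (inv_mem g16)
    have g2 : basisVec 2 ∈ C.comap theta := by
      rw [basis_conj.2]; exact mul_mem (mul_mem g16 g1) (inv_mem g16)
    have hT := transl_subgroup_eq g0 g1 g2
    have g3 : (⟨0, 3⟩ : HM) ∈ C.comap theta := by
      rw [flat_eq.1]; exact mul_mem (inv_mem (hT rfl)) (Subgroup.subset_closure (by simp))
    have g8 : (⟨0, 8⟩ : HM) ∈ C.comap theta := by
      rw [flat_eq.2.2]; exact mul_mem (inv_mem (hT rfl)) (Subgroup.subset_closure (by simp))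
    rintro _ ⟨h, rfl⟩
    obtain ⟨e, f, a, b, hw⟩ := rot_words h.g
    show h ∈ C.comap theta
    rw [split_eq h, hw]
    exact mul_mem (hT rfl) (mul_mem (mul_mem (mul_mem (pow_mem g8 _) (pow_mem g16 _)) (pow_mem g3 _))
      (pow_mem (mul_mem (mul_mem g16 g3) (inv_mem g16)) _))
  · rintro x (rfl | rfl | rfl | rfl) <;> exact ⟨_, rfl⟩

theorem pCore_eq : Cfsg.pCore 3 HM = transl := by
  haveI : Fact (Nat.Prime 3) := ⟨Nat.prime_three⟩
  haveI := transl_normal
  refine le_antisymm (fun h hh => ?_)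
    (CfsgLib.le_pCore (IsPGroup.of_card (n := 3) (by rw [card_transl]; rfl)))
  haveI hn : (Cfsg.pCore 3 HM).Normal :=
    ⟨fun x hx g => by
      have hle : (Cfsg.pCore 3 HM).map (MulAut.conj g).toMonoidHom ≤ Cfsg.pCore 3 HM := by
        rw [Subgroup.map_le_iff_le_comap]
        refine sSup_le fun N hN => ?_
        intro y hy
        exact (le_sSup hN : N ≤ Cfsg.pCore 3 HM) (hN.1.conj_mem y hy g)
      exact hle ⟨x, hx, rfl⟩⟩
  have key : ∀ y : HM, y ∈ Cfsg.pCore 3 HM → y * y ∈ transl → y ∈ transl := fun y hy h2 => by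
    obtain ⟨k, hk⟩ := CfsgLib.isPGroup_pCore (G := HM) 3 ⟨y, hy⟩
    have hy3 : y ^ 3 ^ k = 1 := congrArg Subtype.val hk
    obtain ⟨n, hn'⟩ : ∃ n, 3 ^ k = 2 * n + 1 := (Odd.pow (by decide : Odd 3))
    rw [hn', pow_succ, pow_mul, pow_two] at hy3
    rw [show y = ((y * y) ^ n)⁻¹ from eq_inv_of_mul_eq_one_right hy3]
    exact inv_mem (pow_mem h2 _)
  rcases eq_or_ne h.g 0 with e | e
  · exact e
  rcases no_three_normal h.g e with h2 | h4 | ⟨k, hk1, hk2⟩
  · exact key h hh h2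
  · exact key h hh (key _ (mul_mem hh hh) h4)
  · exact absurd (key (h * ⟨0, k⟩ * h⁻¹ * (⟨0, k⟩ : HM)⁻¹)
      (by rw [mul_assoc h, mul_assoc h]; exact mul_mem hh (hn.conj_mem _ (inv_mem hh) _)) hk2) hk1

/-- Let K ≤ Sym(9) be generated by (1 2 3), (1 4 7)(2 5 8)(3 6 9), (1 2)(4 5) and (1 4)(2 5)(3 6)(7 8) (the normalizer in Alt(9) of the elementary abelian group generated by (1 2 3), (4 5 6), (7 8 9)). Let G be a finite group with a subgroup H ≅ K and J = O₃(H). If C_G(j) ≤ H for every j ≠ 1 in J and J is strongly closed in H with respect to G (a G-conjugate of an element of J lying in H lies in J), then G = H. -/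
theorem result {G : Type*} [Group G] [Finite G] (H : Subgroup G)
    (hH : Nonempty (↥H ≃* ↥(Subgroup.closure ({Equiv.swap (0 : Fin 9) 1 * Equiv.swap 1 2,
        Equiv.swap (0 : Fin 9) 3 * Equiv.swap 3 6 * (Equiv.swap (1 : Fin 9) 4 * Equiv.swap 4 7) * (Equiv.swap (2 : Fin 9) 5 * Equiv.swap 5 8),
        Equiv.swap (0 : Fin 9) 1 * Equiv.swap 3 4, Equiv.swap (0 : Fin 9) 3 * Equiv.swap 1 4 * Equiv.swap 2 5 * Equiv.swap 6 7} : Set (Equiv.Perm (Fin 9))))))
    (J : Subgroup G) (hJ : J = (Cfsg.pCore 3 ↥H).map H.subtype)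
    (hC : ∀ j ∈ J, j ≠ 1 → Subgroup.centralizer ({j} : Set G) ≤ H) (hsc : Cfsg.IsStronglyClosed J H) : H = ⊤ := by
  obtain ⟨e⟩ := hH
  rw [← theta_range] at e
  let eM : HM ≃* H :=
    (MonoidHom.ofInjective ((injective_iff_map_eq_one theta).mpr theta_ker)).trans e.symm
  obtain ⟨ι, hι, hrange, hJ'⟩ : ∃ ι : HM →* G, Function.Injective ι ∧ ι.range = H ∧ J = transl.map ι := by
    refine ⟨H.subtype.comp eM.toMonoidHom, H.subtype_injective.comp eM.injective, ?_, ?_⟩
    · rw [MonoidHom.range_comp, MonoidHom.range_eq_top.mpr eM.surjective, ← MonoidHom.range_eq_map, Subgroup.range_subtype]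
    · have hcore : (Cfsg.pCore 3 HM).map eM.toMonoidHom = Cfsg.pCore 3 ↥H := by
        refine le_antisymm ?_ fun x hx => ?_
        · haveI : (Cfsg.pCore 3 HM).Normal := pCore_eq ▸ transl_normal
          haveI := ‹(Cfsg.pCore 3 HM).Normal›.map eM.toMonoidHom eM.surjective
          exact CfsgLib.le_pCore ((CfsgLib.isPGroup_pCore 3).map _)
        · refine ⟨eM.symm x, ?_, eM.apply_symm_apply x⟩
          have hle : (Cfsg.pCore 3 ↥H).map eM.symm.toMonoidHom ≤ Cfsg.pCore 3 HM := by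
            rw [Subgroup.map_le_iff_le_comap]
            refine sSup_le fun N hN => ?_
            rw [← Subgroup.map_le_iff_le_comap]
            haveI := hN.1.map eM.symm.toMonoidHom eM.symm.surjective
            exact CfsgLib.le_pCore (hN.2.map _)
          exact hle ⟨x, hx, rfl⟩
      rw [hJ, ← hcore, pCore_eq, Subgroup.map_map]
  have hmemJ : ∀ k : HM, k.g = 0 → ι k ∈ J := fun k hk => hJ' ▸ Subgroup.mem_map_of_mem ι hk
  have hne : ∀ k : HM, k ≠ 1 → ι k ≠ 1 := fun k hk e' => hk (hι (e'.trans (map_one ι).symm))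
  have hcent : ∀ k : HM, k.g = 0 → k ≠ 1 → Subgroup.centralizer ({ι k} : Set G) ≤ ι.range := fun k hk hk1 =>
    hrange.symm ▸ hC _ (hmemJ k hk) (hne k hk1)
  have hcard : ∀ k : HM, k.g = 0 → k ≠ 1 →
      Nat.card (Subgroup.centralizer ({ι k} : Set G)) = (Finset.univ.filter fun h : HM => h * k = k * h).card := by
    intro k hk hk1
    rw [← Nat.subtype_card (p := fun h : HM => h * k = k * h) (Finset.univ.filter fun h : HM => h * k = k * h)
      (fun h => by simp only [Finset.mem_filter, Finset.mem_univ, true_and])]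
    refine (Nat.card_congr (Equiv.ofBijective (fun j : {j : HM // j * k = k * j} =>
      (⟨ι j.1, Subgroup.mem_centralizer_singleton_iff.mpr (by rw [← map_mul, j.2, map_mul])⟩ :
        Subgroup.centralizer ({ι k} : Set G))) ⟨fun a b h => Subtype.ext (hι (congrArg (fun z : Subgroup.centralizer ({ι k} : Set G) => (z : G)) h)),
        fun y => ?_⟩)).symm
    obtain ⟨j, hj⟩ := hcent k hk hk1 y.2
    exact ⟨⟨j, hι (by rw [map_mul, map_mul, hj]; exact Subgroup.mem_centralizer_singleton_iff.mp y.2)⟩, Subtype.ext hj⟩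
  have hctrl : ∀ k : HM, k.g = 0 → k ≠ 1 → ∀ g : G, g * ι k * g⁻¹ ∈ ι.range → g ∈ ι.range := by
    intro k hk hk1 g hg
    have hgJ := hsc.2 _ (hmemJ k hk) g (hrange ▸ hg)
    rw [hJ'] at hgJ
    obtain ⟨k', hk'g, hk'⟩ := hgJ
    have hk'1 : k' ≠ 1 := fun e' => by
      rw [e', map_one] at hk'
      exact hne k hk1 (conj_eq_one_iff.mp hk'.symm)
    have hceq : Nat.card (Subgroup.centralizer ({ι k} : Set G)) = Nat.card (Subgroup.centralizer ({ι k'} : Set G)) := by
      refine Nat.card_congr ((MulAut.conj g).toEquiv.subtypeEquiv fun z => ?_)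
      simp only [Subgroup.mem_centralizer_singleton_iff]
      rw [hk']
      show _ ↔ g * z * g⁻¹ * (g * ι k * g⁻¹) = g * ι k * g⁻¹ * (g * z * g⁻¹)
      constructor
      · intro hz
        rw [show g * z * g⁻¹ * (g * ι k * g⁻¹) = g * (z * ι k) * g⁻¹ by group, hz]
        group
      · intro hz
        rw [show g * z * g⁻¹ * (g * ι k * g⁻¹) = g * (z * ι k) * g⁻¹ by group,
          show g * ι k * g⁻¹ * (g * z * g⁻¹) = g * (ι k * z) * g⁻¹ by group] at hz
        exact mul_left_cancel (mul_right_cancel hz)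
    obtain ⟨v, r0⟩ := k
    obtain ⟨w, r1⟩ := k'
    simp only [mem_transl] at hk hk'g
    subst hk hk'g
    have hv : v ≠ 0 := fun e' => hk1 (by rw [e']; rfl)
    have hw : w ≠ 0 := fun e' => hk'1 (by rw [e']; rfl)
    rw [hcard _ rfl hk1, hcard _ rfl hk'1, cent_transl, cent_transl] at hceq
    obtain ⟨r, hr⟩ := same_stab v w hv hw (by omega)
    have hgr : (ι ⟨0, r⟩)⁻¹ * g ∈ ι.range := hcent _ rfl hk1 (Subgroup.mem_centralizer_singleton_iff.mpr (by
      have e2 : g * ι ⟨v, 0⟩ * g⁻¹ = ι ⟨0, r⟩ * ι ⟨v, 0⟩ * (ι ⟨0, r⟩)⁻¹ := by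
        rw [← hk', ← map_inv, ← map_mul, ← map_mul, conj_transl, hr]
      calc (ι ⟨0, r⟩)⁻¹ * g * ι ⟨v, 0⟩ = (ι ⟨0, r⟩)⁻¹ * (g * ι ⟨v, 0⟩ * g⁻¹) * g := by group
        _ = ι ⟨v, 0⟩ * ((ι ⟨0, r⟩)⁻¹ * g) := by rw [e2]; group))
    have := mul_mem (⟨⟨0, r⟩, rfl⟩ : ι ⟨0, r⟩ ∈ ι.range) hgr
    rwa [mul_inv_cancel_left] at this
  have := (⟨ι, hι, fun k hk hk1 k' _ g hg => hctrl k hk hk1 g ⟨k', hg.symm⟩, fun g hg => hctrl _ rfl (by decide +kernel) g hg, hcent⟩ : Emb G).top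
  exact hrange ▸ this

end Cfsg.Agent.S3702
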