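import Cfsg.Statements.S3703
import Mathlib
import Cfsg.Agent.Lib.CoprimeGen
import Cfsg.Agent.Lib.Elementary
import Cfsg.Agent.Lib.Frobenius.Kernel

set_option autoImplicit false
open Cfsg

namespace Cfsg.Agent.S3703

open scoped Pointwise

open Classical in
noncomputable def w {G : Type*} [Group G] (P : Subgroup G) (g v : G) : Abelianization P :=
  if hm : g * v * g⁻¹ ∈ P then Abelianization.of ⟨g * v * g⁻¹, hm⟩ else 1

theorem w_eq {G : Type*} [Group G] {P : Subgroup G} {g v : G}
    (hg : g ∈ Subgroup.normalizer (P : Set G)) (hv : v ∈ P) :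
    w P g v = Abelianization.of ⟨g * v * g⁻¹, (Subgroup.mem_normalizer_iff.mp hg v).mp hv⟩ :=
  dif_pos _

theorem norm_prod {G : Type*} [Group G] {P : Subgroup G} {h v : G}
    (hh : h ∈ Subgroup.normalizer (P : Set G)) (hv : v ∈ P) (m : ℕ) :
    ∃ hm : (h * v) ^ m * (h ^ m)⁻¹ ∈ P, Abelianization.of (⟨_, hm⟩ : P) =
      ∏ i ∈ Finset.range m, w P (h ^ (i + 1)) v := by
  induction m with
  | zero =>
    refine ⟨by simp, ?_⟩
    simp [show (⟨(1 : G), P.one_mem⟩ : P) = 1 from rfl]
  | succ m ih =>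
    obtain ⟨hm, e⟩ := ih
    have hc : h ^ (m + 1) * v * (h ^ (m + 1))⁻¹ ∈ P :=
      (Subgroup.mem_normalizer_iff.mp (pow_mem hh _) v).mp hv
    have e2 : (h * v) ^ (m + 1) * (h ^ (m + 1))⁻¹ =
        ((h * v) ^ m * (h ^ m)⁻¹) * (h ^ (m + 1) * v * (h ^ (m + 1))⁻¹) := by
      rw [pow_succ (h * v), pow_succ h]; group
    refine ⟨e2 ▸ P.mul_mem hm hc, ?_⟩
    rw [Finset.prod_range_succ, ← e, w_eq (pow_mem hh _) hv, ← map_mul]
    exact congrArg _ (Subtype.ext e2)

theorem trick {G : Type*} [Group G] [Finite G] {P F : Subgroup G} {h : G} {n : ℕ} (hn : n ≠ 0)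
    (hF : F ≤ Subgroup.normalizer (P : Set G)) (hh : h ∈ Subgroup.normalizer (P : Set G))
    (hhF : h ∈ Subgroup.normalizer (F : Set G)) (hhn : h ^ n = 1)
    (hfpf : ∀ j, 0 < j → j < n → ∀ f ∈ F, f * h ^ j = h ^ j * f → f = 1)
    (hall : ∀ f ∈ F, ∀ v ∈ P, (f * h * f⁻¹ * v) ^ n = 1)
    (hcop : (Nat.card F).Coprime (Nat.card P)) :
    ∀ f ∈ F, ∀ v ∈ P, f * v * f⁻¹ * v⁻¹ ∈ (commutator P).map P.subtype := by
  classical
  have : Fintype F := Fintype.ofFinite F
  let S : ℕ → G → Abelianization P := fun j v => ∏ f : F, w P ((f : G) * h ^ j) v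
  obtain ⟨m, rfl⟩ := Nat.exists_eq_succ_of_ne_zero hn
  have hnorm : ∀ f : F, ∀ v ∈ P,
      ∏ i ∈ Finset.range (m + 1), w P (((f : G) * h * (f : G)⁻¹) ^ (i + 1)) v = 1 := by
    intro f v hv
    have hg : (f : G) * h * (f : G)⁻¹ ∈ Subgroup.normalizer (P : Set G) :=
      mul_mem (mul_mem (hF f.2) hh) (inv_mem (hF f.2))
    obtain ⟨hm, e⟩ := norm_prod hg hv (m + 1)
    rw [← e]
    have : (⟨_, hm⟩ : P) = 1 := Subtype.ext (by
      show _ * _ = (1 : G)
      rw [hall f f.2 v hv, conj_pow, hhn]; simp)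
    rw [this, map_one]
  have key : ∀ v ∈ P, w P 1 v ^ Nat.card F = S 0 v := by
    intro v hv
    have h1 : ∏ i ∈ Finset.range (m + 1), S (i + 1) v = 1 := by
      show ∏ i ∈ Finset.range (m + 1), ∏ f : F, w P ((f : G) * h ^ (i + 1)) v = 1
      rw [Finset.prod_comm]
      refine Finset.prod_eq_one fun f _ => ?_
      have hv' : (f : G) * v * (f : G)⁻¹ ∈ P := (Subgroup.mem_normalizer_iff.mp (hF f.2) v).mp hv
      refine (Finset.prod_congr rfl fun i _ => ?_).trans (hnorm f _ hv')
      rw [w_eq (mul_mem (hF f.2) (pow_mem hh _)) hv,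
        w_eq (pow_mem (mul_mem (mul_mem (hF f.2) hh) (inv_mem (hF f.2))) _) hv']
      refine congrArg _ (Subtype.ext ?_)
      show _ = ((f : G) * h * (f : G)⁻¹) ^ (i + 1) * _ * (((f : G) * h * (f : G)⁻¹) ^ (i + 1))⁻¹
      rw [conj_pow]; group
    have h2 : (∏ i ∈ Finset.range m, S (i + 1) v) * w P 1 v ^ Nat.card F = 1 := by
      have h3 : ∏ f : F, ∏ i ∈ Finset.range (m + 1),
          w P (((f : G) * h * (f : G)⁻¹) ^ (i + 1)) v = 1 :=
        Finset.prod_eq_one fun f _ => hnorm f v hv
      rw [Finset.prod_comm, Finset.prod_range_succ] at h3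
      refine Eq.trans ?_ h3
      congr 1
      · refine Finset.prod_congr rfl fun i hi => ?_
        have hi' : i < m := Finset.mem_range.mp hi
        let σ : F → F := fun f => ⟨(f : G) * (h ^ (i + 1) * (f : G)⁻¹ * (h ^ (i + 1))⁻¹),
          F.mul_mem f.2 ((Subgroup.mem_normalizer_iff.mp (pow_mem hhF _) _).mp (F.inv_mem f.2))⟩
        have hσ : Function.Bijective σ := by
          refine Finite.injective_iff_bijective.mp fun a b hab => ?_
          have e1 : (a : G) * (h ^ (i + 1) * (a : G)⁻¹ * (h ^ (i + 1))⁻¹) =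
              (b : G) * (h ^ (i + 1) * (b : G)⁻¹ * (h ^ (i + 1))⁻¹) := congrArg Subtype.val hab
          have e2 : (b : G)⁻¹ * a * h ^ (i + 1) = h ^ (i + 1) * ((b : G)⁻¹ * a) := by
            calc (b : G)⁻¹ * a * h ^ (i + 1) = (b : G)⁻¹ *
                  ((a : G) * (h ^ (i + 1) * (a : G)⁻¹ * (h ^ (i + 1))⁻¹)) * h ^ (i + 1) * a := by group
              _ = _ := by rw [e1]; group
          have := hfpf (i + 1) (Nat.succ_pos i) (Nat.succ_lt_succ hi') _
            (F.mul_mem (F.inv_mem b.2) a.2) e2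
          exact Subtype.ext (inv_mul_eq_one.mp this).symm
        symm
        refine Fintype.prod_bijective σ hσ _ _ fun f => ?_
        rw [conj_pow]
        show w P _ v = w P ((f : G) * (h ^ (i + 1) * (f : G)⁻¹ * (h ^ (i + 1))⁻¹) * h ^ (i + 1)) v
        congr 1; group
      · simp [conj_pow, hhn, Nat.card_eq_fintype_card]
    rw [Finset.prod_range_succ] at h1
    have h4 := mul_left_cancel (h2.trans h1.symm)
    rw [h4]
    show ∏ f : F, w P ((f : G) * h ^ (m + 1)) v = ∏ f : F, w P ((f : G) * h ^ 0) v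
    rw [hhn, pow_zero]
  intro f₀ hf₀ v hv
  have hv' : f₀ * v * f₀⁻¹ ∈ P := (Subgroup.mem_normalizer_iff.mp (hF hf₀) v).mp hv
  have hS : S 0 (f₀ * v * f₀⁻¹) = S 0 v := by
    refine Fintype.prod_bijective (fun f : F => f * ⟨f₀, hf₀⟩) (Group.mulRight_bijective _) _ _
      fun f => ?_
    simp only [pow_zero, mul_one]
    rw [Subgroup.coe_mul, w_eq (hF f.2) hv', w_eq (hF (F.mul_mem f.2 hf₀)) hv]
    exact congrArg _ (Subtype.ext (by simp [mul_assoc]))
  have hA : (Nat.card (Abelianization P)).Coprime (Nat.card F) :=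
    (hcop.symm).coprime_dvd_left (Subgroup.card_quotient_dvd_card _)
  have h5 : w P 1 (f₀ * v * f₀⁻¹) = w P 1 v :=
    (powCoprime hA).injective (((key _ hv').trans hS).trans (key v hv).symm)
  rw [w_eq (one_mem _) hv', w_eq (one_mem _) hv] at h5
  refine ⟨⟨f₀ * v * f₀⁻¹, hv'⟩ / ⟨v, hv⟩, ?_, by simp [div_eq_mul_inv]⟩
  rw [← Abelianization.ker_of P, SetLike.mem_coe, MonoidHom.mem_ker, map_div, div_eq_one]
  refine Eq.trans ?_ (h5.trans ?_) <;> exact congrArg _ (Subtype.ext (by simp))

/-- Let N be a normal subgroup of the finite group G such that G/N is a Frobenius group with kernel F and cyclic complement H, where the order of F is coprime to that of N and F is not contained in the image of C_G(N) in G/N. Then G has an element of order p·#H for some prime p dividing the order of N. (A standard tool in recognising groups by their element orders.) -/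
theorem result {G : Type*} [Group G] [Finite G] (N : Subgroup G) [N.Normal]
    (Fb Hb : Subgroup (G ⧸ N)) [Fb.Normal] (hHb : Cfsg.IsFrobeniusComplement Hb) (hker : Cfsg.frobeniusKernel Hb = (Fb : Set (G ⧸ N)))
    (hcyc : IsCyclic Hb) (hcop : (Nat.card Fb).Coprime (Nat.card N))
    (hnot : ¬ Fb ≤ (Subgroup.centralizer (N : Set G)).map (QuotientGroup.mk' N)) :
    ∃ p : ℕ, p.Prime ∧ p ∣ Nat.card N ∧ ∃ g : G, orderOf g = p * Nat.card Hb := by
  classical
  set π := QuotientGroup.mk' N with hπ
  have hπs : Function.Surjective π := QuotientGroup.mk'_surjective N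
  by_contra hcon
  push Not at hcon
  have hd : Disjoint Fb Hb := by
    rw [Subgroup.disjoint_def]
    intro x hxF hxH
    have h1 : x ∈ Cfsg.frobeniusKernel Hb := by rw [hker]; exact hxF
    rcases h1 with h1 | h1
    · exact h1
    · exact absurd (by simpa using hxH) (h1 1)
  obtain ⟨⟨hb, hbm⟩, hgen⟩ := hcyc.exists_generator
  have hord : orderOf hb = Nat.card Hb := by
    rw [show hb = ((⟨hb, hbm⟩ : Hb) : G ⧸ N) from rfl, Subgroup.orderOf_coe]
    exact orderOf_eq_card_of_forall_mem_zpowers hgen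
  set n := Nat.card Hb with hn
  have hpow : ∀ g : G, π g = hb → g ^ n = 1 := by
    intro g hg
    obtain ⟨s, hs⟩ : n ∣ orderOf g := hord ▸ hg ▸ orderOf_map_dvd π g
    have hnpos : 0 < n := Nat.card_pos
    have h1 : orderOf (g ^ n) = s := by
      rw [orderOf_pow_of_dvd hnpos.ne' ⟨s, hs⟩, hs, Nat.mul_div_cancel_left _ hnpos]
    by_contra hne
    obtain ⟨p, hp, t, rfl⟩ := Nat.exists_prime_and_dvd (n := s)
      (fun e => hne (orderOf_eq_one_iff.mp (h1.trans e)))
    have h2 : g ^ n ∈ N := by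
      rw [← QuotientGroup.ker_mk' N, MonoidHom.mem_ker, map_pow, hg, ← hord, pow_orderOf_eq_one]
    have h3 : p * t ∣ Nat.card N := h1 ▸ Subgroup.orderOf_dvd_natCard N h2
    refine hcon p hp ((dvd_mul_right p t).trans h3) (g ^ t) ?_
    have ht : t ≠ 0 := by
      intro e
      exact (orderOf_pos g).ne' (by simp [hs, e])
    rw [orderOf_pow_of_dvd ht ⟨n * p, by rw [hs]; ring⟩, hs, ← mul_assoc,
      Nat.mul_div_cancel _ (Nat.pos_of_ne_zero ht), mul_comm]
  set K := Fb.comap π with hK
  have hNK : N ≤ K := fun x hx => by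
    show π x ∈ Fb
    rw [show π x = 1 from (QuotientGroup.eq_one_iff x).mpr hx]; exact one_mem _
  have hidx : (N.subgroupOf K).index = Nat.card Fb := by
    show N.relIndex K = _
    have h1 := Subgroup.relIndex_comap (f := π) (⊥ : Subgroup (G ⧸ N)) K
    rw [Subgroup.map_comap_eq_self_of_surjective hπs, MonoidHom.comap_bot, QuotientGroup.ker_mk',
      Subgroup.relIndex_bot_left] at h1
    exact h1
  have hcopK : (Nat.card (N.subgroupOf K)).Coprime (N.subgroupOf K).index := by
    rw [hidx, Nat.card_congr (Subgroup.subgroupOfEquivOfLe hNK).toEquiv]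
    exact hcop.symm
  obtain ⟨F1, hF1⟩ := Subgroup.exists_right_complement'_of_coprime hcopK
  set F := F1.map K.subtype with hFdef
  have hFK : F ≤ K := Subgroup.map_subtype_le F1
  have hFcard : Nat.card F = Nat.card Fb := by
    rw [hFdef, Subgroup.card_map_of_injective K.subtype_injective, ← hF1.symm.index_eq_card, hidx]
  have hcopF : (Nat.card F).Coprime (Nat.card N) := hFcard ▸ hcop
  have hFinj : ∀ x ∈ F, π x = 1 → x = 1 := fun x hx hx1 => Subgroup.disjoint_def.mp
    (Subgroup.disjoint_of_coprime_natCard hcopF) hx ((QuotientGroup.eq_one_iff x).mp hx1)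
  have hnot' : ¬ F ≤ Subgroup.centralizer (N : Set G) := by
    intro hle
    refine hnot fun y hy => ?_
    obtain ⟨x, rfl⟩ := hπs y
    obtain ⟨⟨a, b⟩, hab⟩ :=
      (show Function.Surjective fun z : (N.subgroupOf K) × F1 => (z.1 : K) * z.2 from hF1.2) ⟨x, hy⟩
    refine ⟨((b : K) : G), hle ⟨b, b.2, rfl⟩, ?_⟩
    have h' : ((a : K) : G) * ((b : K) : G) = x := congrArg Subtype.val hab
    rw [← h', map_mul, show π ((a : K) : G) = 1 from (QuotientGroup.eq_one_iff _).mpr a.2, one_mul]
  have hFsol : Group.IsSolvable F := by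
    have := CfsgLib.Frob.kernel_nilpotent hHb hd
    have hsFb : Group.IsSolvable Fb := inferInstance
    refine Group.isSolvable_of_isSolvable_injective
      (f := (π.comp F.subtype).codRestrict Fb fun x => hFK x.2) ?_
    intro a b hab
    have h' : π a = π b := congrArg Subtype.val hab
    refine Subtype.ext (eq_of_div_eq_one (hFinj _ (F.div_mem a.2 b.2) ?_))
    rw [map_div, h', div_self']
  have hFN : F ≤ Subgroup.normalizer (N : Set G) := by
    rw [Subgroup.normalizer_eq_top]; exact le_top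
  -- a Sylow subgroup of `N`, invariant and not centralised
  obtain ⟨p, hp, hpN, P, hPF, hPc⟩ : ∃ p : ℕ, p.Prime ∧ p ∣ Nat.card N ∧ ∃ P : Sylow p N,
      F ≤ Subgroup.normalizer (((P : Subgroup N).map N.subtype : Subgroup G) : Set G) ∧
      ¬ F ≤ Subgroup.centralizer (((P : Subgroup N).map N.subtype : Subgroup G) : Set G) := by
    by_contra hno
    push Not at hno
    refine hnot' ?_
    rw [Subgroup.le_centralizer_iff]
    set C := (Subgroup.centralizer (F : Set G)).subgroupOf N with hC
    suffices C = ⊤ from Subgroup.subgroupOf_eq_top.mp this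
    apply Subgroup.index_eq_one.mp
    by_contra hne
    obtain ⟨q, hq, hqd⟩ := Nat.exists_prime_and_dvd hne
    have := Fact.mk hq
    obtain ⟨Q, hQ⟩ := CfsgLib.coprime_exists_invariant_sylow hFN hcopF (Or.inl hFsol) q
    have h1 := hno q hq (hqd.trans C.index_dvd_card) Q hQ
    have h2 : (Q : Subgroup N) ≤ C := fun x hx =>
      (Subgroup.le_centralizer_iff.mp h1) ⟨x, hx, rfl⟩
    exact Q.not_dvd_index (hqd.trans (Subgroup.index_dvd_of_le h2))
  have := Fact.mk hp
  set P' := (P : Subgroup N).map N.subtype with hP'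
  -- a lift of the generator normalising both
  obtain ⟨h, hhb, hhF, hhP⟩ : ∃ h : G, π h = hb ∧ h ∈ Subgroup.normalizer (F : Set G) ∧
      h ∈ Subgroup.normalizer (P' : Set G) := by
    obtain ⟨g, hg⟩ := hπs hb
    have hKn : K.Normal := Subgroup.Normal.comap inferInstance π
    let e : MulAut K := MulAut.conjNormal g
    have hc2 : Subgroup.IsComplement' (N.subgroupOf K) (F1.map e.toMonoidHom) := by
      refine CfsgLib.isComplement'_of_card hcopK ?_
      rw [Subgroup.card_map_of_injective (f := e.toMonoidHom) e.injective, ← hF1.symm.index_eq_card]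
    have hs : Group.IsSolvable (N.subgroupOf K) ∨ Group.IsSolvable (K ⧸ N.subgroupOf K) := by
      right
      have hs1 : Group.IsSolvable F1 := Group.isSolvable_of_isSolvable_injective
        (f := (F1.equivMapOfInjective K.subtype K.subtype_injective).toMonoidHom)
        (F1.equivMapOfInjective K.subtype K.subtype_injective).injective
      exact Group.isSolvable_of_surjective (f := hF1.symm.QuotientMulEquiv.symm.toMonoidHom)
        hF1.symm.QuotientMulEquiv.symm.surjective
    obtain ⟨c, hc, hce⟩ := CfsgLib.complements_conj_mem hcopK hs hF1 hc2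
    have hgF : (c : G)⁻¹ * g ∈ Subgroup.normalizer (F : Set G) := by
      have hsub : ∀ x ∈ F, (c : G)⁻¹ * g * x * ((c : G)⁻¹ * g)⁻¹ ∈ F := by
        rintro _ ⟨b, hb', rfl⟩
        have h1 : e b ∈ MulAut.conj c • F1 := hce ▸ ⟨b, hb', rfl⟩
        rw [CfsgLib.mem_conj_smul_iff] at h1
        refine ⟨_, h1, ?_⟩
        show (((c⁻¹ * e b * c) : K) : G) = _
        simp only [Subgroup.coe_mul, Subgroup.coe_inv, e, MulAut.conjNormal_apply, mul_inv_rev,
          inv_inv, Subgroup.coe_subtype]
        group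
      refine Subgroup.mem_normalizer_iff.mpr fun x => ⟨hsub x, fun hx => ?_⟩
      set k := (c : G)⁻¹ * g with hk
      let φ : F → F := fun y => ⟨k * y * k⁻¹, hsub y y.2⟩
      have hφ : Function.Surjective φ := by
        refine (Finite.injective_iff_surjective).mp fun a b hab => ?_
        exact Subtype.ext (by simpa [φ] using congrArg Subtype.val hab)
      obtain ⟨y, hy⟩ := hφ ⟨_, hx⟩
      have : (y : G) = x := by simpa [φ] using congrArg Subtype.val hy
      exact this ▸ y.2
    have hg1 : π ((c : G)⁻¹ * g) = hb := by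
      rw [map_mul, hg, map_inv, show π (c : G) = 1 from (QuotientGroup.eq_one_iff _).mpr hc]
      simp
    set k := (c : G)⁻¹ * g with hk
    let ek : MulAut N := MulAut.conjNormal k
    let Q : Sylow p N := P.mapSurjective (f := ek.toMonoidHom) ek.surjective
    have hQ' : (Q : Subgroup N).map N.subtype = MulAut.conj k • P' := by
      show ((P : Subgroup N).map ek.toMonoidHom).map N.subtype = _
      ext x
      simp only [Subgroup.map_map, CfsgLib.mem_conj_smul_iff, hP']
      constructor
      · rintro ⟨y, hy, rfl⟩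
        refine ⟨y, hy, ?_⟩
        simp [ek, mul_assoc]
      · rintro ⟨y, hy, hyx⟩
        refine ⟨y, hy, ?_⟩
        simp only [Subgroup.coe_subtype] at hyx
        simp [ek, hyx, mul_assoc]
    have hQF : F ≤ Subgroup.normalizer (((Q : Subgroup N).map N.subtype : Subgroup G) : Set G) := by
      intro f hf
      have hf' : k⁻¹ * f * k ∈ F := (Subgroup.mem_normalizer_iff''.mp hgF f).mp hf
      rw [hQ', Subgroup.mem_normalizer_iff]
      intro x
      rw [CfsgLib.mem_conj_smul_iff, CfsgLib.mem_conj_smul_iff,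
        Subgroup.mem_normalizer_iff.mp (hPF hf') (k⁻¹ * x * k)]
      simp [mul_assoc]
    obtain ⟨d, hdc, hdQ⟩ := CfsgLib.coprime_invariant_sylow_conj hFN hcopF (Or.inl hFsol) P Q hPF hQF
    refine ⟨(d : G)⁻¹ * k, ?_, ?_, ?_⟩
    · rw [map_mul, hg1, map_inv, show π (d : G) = 1 from (QuotientGroup.eq_one_iff _).mpr d.2]
      simp
    · refine mul_mem (inv_mem ?_) hgF
      exact Subgroup.centralizer_le_normalizer _ hdc
    · have h1 : MulAut.conj k • P' = MulAut.conj (d : G) • P' := by
        rw [← hQ', ← hdQ]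
        ext x
        show x ∈ (MulAut.conj d • (P : Subgroup N)).map N.subtype ↔ _
        simp only [hP', CfsgLib.mem_conj_smul_iff]
        constructor
        · rintro ⟨y, hy, rfl⟩
          rw [SetLike.mem_coe, CfsgLib.mem_conj_smul_iff] at hy
          exact ⟨_, hy, by simp⟩
        · rintro ⟨y, hy, hyx⟩
          simp only [Subgroup.coe_subtype] at hyx
          refine ⟨d * y * d⁻¹, ?_, ?_⟩
          · rw [SetLike.mem_coe, CfsgLib.mem_conj_smul_iff]
            exact (show d⁻¹ * (d * y * d⁻¹) * d = y by group).symm ▸ hy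
          · simp [hyx, mul_assoc]
      rw [Subgroup.mem_normalizer_iff]
      intro x
      have h2 := SetLike.ext_iff.mp h1 (k * x * k⁻¹)
      rw [CfsgLib.mem_conj_smul_iff, CfsgLib.mem_conj_smul_iff] at h2
      simpa [mul_assoc] using h2
  have hv : ∀ v ∈ P', v ∈ N := fun v hv => Subgroup.map_subtype_le _ hv
  have hres := trick (P := P') (F := F) (h := h) (n := n) Nat.card_pos.ne' hPF hhP hhF (hpow h hhb)
    (by
      intro j hj0 hjn f hf hfj
      refine hFinj f hf ?_
      have h1 : hb ^ j ≠ 1 := pow_ne_one_of_lt_orderOf hj0.ne' (hord ▸ hjn)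
      have h2 : π f ∈ Fb ⊓ Subgroup.centralizer {hb ^ j} :=
        ⟨hFK hf, Subgroup.mem_centralizer_singleton_iff.mpr (by
          rw [← hhb, ← map_pow, ← map_mul, ← map_mul, hfj])⟩
      rw [CfsgLib.Frob.fpf_of_frob hd hHb (pow_mem hbm j) h1, Subgroup.mem_bot] at h2
      exact h2)
    (by
      intro f hf v hvP
      have h1 : f * h * f⁻¹ * v = f * (h * (f⁻¹ * v * f)) * f⁻¹ := by group
      rw [h1, conj_pow, hpow _ (by
        rw [map_mul, hhb, show π (f⁻¹ * v * f) = 1 from (QuotientGroup.eq_one_iff _).mpr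
          ((inferInstance : N.Normal).conj_mem' v (hv v hvP) f), mul_one])]
      simp)
    (hcopF.coprime_dvd_right (Subgroup.card_dvd_of_le (Subgroup.map_subtype_le _)))
  refine hPc (CfsgLib.centralize_of_trivial_mod_frattini hPF ?_ fun a ha v hv' => ?_)
  · exact hcopF.coprime_dvd_right ((Subgroup.card_subgroup_dvd_card _).trans
      (Subgroup.card_dvd_of_le (Subgroup.map_subtype_le _)))
  · exact Subgroup.map_mono (CfsgLib.commutator_le_frattini_pGroup (P.2.map N.subtype)) (hres a ha v hv')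

end Cfsg.Agent.S3703
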