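import Cfsg.Statements.S3704
import Mathlib
import Cfsg.Agent.Lib.CharTheory
import Cfsg.Agent.S0157

set_option autoImplicit false
open Cfsg

namespace Cfsg.Agent.S3704

open CfsgLib.CharTheory

/-- Let G be a finite group acting faithfully and 2-transitively on a finite set Ω of size n, and let H be a subgroup of index n in G which is not transitive on Ω and fixes no point of Ω. Then H has exactly two orbits on Ω. -/
theorem result {G Ω : Type*} [Group G] [Finite G] [MulAction G Ω] [FaithfulSMul G Ω] [Finite Ω] (h2 : MulAction.IsMultiplyPretransitive G Ω 2) (H : Subgroup G) (hidx : H.index = Nat.card Ω) (hnt : ¬ MulAction.IsPretransitive H Ω) (hfix : ∀ a : Ω, ∃ h : H, h • a ≠ a) : Nat.card (MulAction.orbitRel.Quotient H Ω) = 2 := by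
  classical
  cases nonempty_fintype G
  cases nonempty_fintype Ω
  haveI := Fintype.ofFinite H
  set Q := MulAction.orbitRel.Quotient H Ω
  haveI := Fintype.ofFinite Q
  -- at least two orbits
  have hr : 2 ≤ Nat.card Q := by
    by_contra h
    refine hnt ⟨fun x y => ?_⟩
    have hs : Subsingleton Q := Finite.card_le_one_iff_subsingleton.mp (by omega)
    obtain ⟨g, hg⟩ := MulAction.orbitRel_apply.mp
      (Quotient.exact (Subsingleton.elim (Quotient.mk _ y : Q) (Quotient.mk _ x)))
    exact ⟨g, hg⟩
  have hn : 2 ≤ Nat.card Ω :=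
    hr.trans (Nat.card_le_card_of_surjective (Quotient.mk _ : Ω → Q) Quotient.mk_surjective)
  haveI : MulAction.IsPretransitive G Ω := by haveI := h2; exact MulAction.isPretransitive_of_is_two_pretransitive
  set χ : G → ℂ := fun g => (Nat.card (MulAction.fixedBy Ω g) : ℂ) - 1 with hχdef
  have hχ : Cfsg.IsIrrCharacter G χ := (Cfsg.Agent.S0157.result Ω hn).mpr h2
  set one : G → ℂ := fun _ => 1 with hone
  have hone' : Cfsg.IsIrrCharacter G one := isIrrCharacter_one
  have hχ1 : χ 1 = (Nat.card Ω : ℂ) - 1 := by simp [χ]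
  have hχne : χ ≠ one := by
    intro h
    obtain ⟨a, b, hab⟩ := Finite.one_lt_card_iff_nontrivial.mp (show 1 < Nat.card Ω by omega)
    obtain ⟨g, hg⟩ := MulAction.exists_smul_eq G a b
    have h1 : (Nat.card (MulAction.fixedBy Ω g) : ℂ) = 2 := by
      have := congrFun h g
      simp only [χ, one] at this
      linear_combination this
    have h2' : (Nat.card Ω : ℂ) = 2 := by
      have := congrFun h 1
      rw [hχ1] at this
      simp only [one] at this
      linear_combination this
    have e : MulAction.fixedBy Ω g = Set.univ := by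
      refine Set.eq_univ_of_univ_subset ?_
      refine (Set.eq_of_subset_of_ncard_le (Set.subset_univ _) ?_ (Set.toFinite _)).ge
      rw [Set.ncard_univ, ← Nat.card_coe_set_eq]
      exact le_of_eq (Nat.cast_injective (h2'.trans h1.symm))
    have : g • a = a := by
      have := e ▸ Set.mem_univ a
      exact this
    exact hab (this ▸ hg)
  set ρ : G → ℂ := Cfsg.indFun H (fun _ => 1) with hρ
  have hρc : Cfsg.IsCharacter G ρ := isCharacter_indFun H isCharacter_one
  have hρ1 : Cfsg.classInner ρ one = 1 := by
    rw [hρ, frobenius_reciprocity H _ (isClassFunction_irr hone')]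
    exact classInner_irr_self (χ := fun _ : H => (1 : ℂ)) isIrrCharacter_one
  have hρχ : Cfsg.classInner ρ χ = (Nat.card Q : ℂ) - 1 := by
    rw [hρ, frobenius_reciprocity H _ (isClassFunction_irr hχ)]
    have hb : (∑ h : H, Nat.card (MulAction.fixedBy Ω h)) = Nat.card Q * Nat.card H := by
      simp only [Nat.card_eq_fintype_card]
      exact MulAction.sum_card_fixedBy_eq_card_orbits_mul_card_group H Ω
    simp only [Cfsg.classInner, one_mul, χ]
    rw [← map_sum, Finset.sum_sub_distrib]
    have : (∑ h : H, (Nat.card (MulAction.fixedBy Ω (h : G)) : ℂ)) = ((Nat.card Q * Nat.card H : ℕ) : ℂ) := by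
      rw [← hb, Nat.cast_sum]
      rfl
    rw [this, Finset.sum_const, Finset.card_univ, ← Nat.card_eq_fintype_card, nsmul_eq_mul, mul_one,
      map_sub, Complex.conj_natCast, Complex.conj_natCast, Nat.cast_mul]
    field_simp [Nat.cast_ne_zero.mpr (Nat.card_pos (α := H)).ne']
  have hoχ : Cfsg.classInner one χ = 0 := classInner_irr_ne hone' hχ hχne.symm
  have hχo : Cfsg.classInner χ one = 0 := classInner_irr_ne hχ hone' hχne
  -- subtract the known constituents
  set D : G → ℂ := ρ - one - ((Nat.card Q : ℂ) - 1) • χ with hD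
  have hDc : Cfsg.IsCharacter G D := by
    refine isCharacter_iff_coeff_nat.mpr ⟨isClassFunction_sub (isClassFunction_sub (isClassFunction_char hρc)
      (isClassFunction_irr hone')) (isClassFunction_smul _ (isClassFunction_irr hχ)), fun ψ hψ => ?_⟩
    rw [hD, classInner_sub_left, classInner_sub_left, classInner_smul_left]
    by_cases h1 : ψ = one
    · subst h1
      exact ⟨0, by rw [hρ1, hχo, classInner_irr_self hone']; simp⟩
    by_cases h2 : ψ = χ
    · subst h2
      exact ⟨0, by rw [hρχ, hoχ, classInner_irr_self hχ]; simp⟩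
    obtain ⟨m, hm⟩ := classInner_char_nat hρc (isCharacter_of_irr hψ)
    exact ⟨m, by rw [hm, classInner_irr_ne hone' hψ (Ne.symm h1), classInner_irr_ne hχ hψ (Ne.symm h2)]; simp⟩
  obtain ⟨d, hd⟩ := char_one_eq_natCast hDc
  have hρ11 : ρ 1 = (Nat.card Ω : ℂ) := by rw [hρ, indFun_apply_one, hidx, mul_one]
  simp only [hD, Pi.sub_apply, Pi.smul_apply, hρ11, hχ1, one, smul_eq_mul] at hd
  obtain ⟨n', hn'⟩ := Nat.exists_eq_add_of_le hn
  obtain ⟨r', hr'⟩ := Nat.exists_eq_add_of_le hr
  have : ((r' * (n' + 1) + d : ℕ) : ℂ) = ((0 : ℕ) : ℂ) := by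
    rw [hn', hr'] at hd
    push_cast at hd ⊢
    linear_combination (-1 : ℂ) * hd
  have h0 := Nat.cast_injective this
  have : r' = 0 := by
    by_contra h
    have := Nat.mul_pos (Nat.pos_of_ne_zero h) (Nat.succ_pos n')
    simp only [Nat.succ_eq_add_one] at this
    omega
  omega

end Cfsg.Agent.S3704
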