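import Cfsg.Statements.S3713
import Cfsg.Agent.Lib.SpAmalgam.Main

set_option autoImplicit false
open Cfsg

namespace Cfsg.Agent.S3713

open CfsgLib.SpAmalgam CfsgLib.SympGen

theorem graph_injOn {H K : Type*} [Group H] [Group K] {P : Subgroup K} (f : ↥P →* H) :
    Set.InjOn (MonoidHom.snd H K) ↑(f.prod P.subtype).range := by
  rintro _ ⟨a, rfl⟩ _ ⟨b, rfl⟩ e
  have : a = b := Subtype.ext e
  rw [this]

theorem range_le {H K : Type*} [Group H] [Group K] {P Q : Subgroup K} (hPQ : P ≤ Q) (f : ↥P →* H) (g : ↥Q →* H)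
    (h : ∀ (x : K) (hx : x ∈ P), g ⟨x, hPQ hx⟩ = f ⟨x, hx⟩) :
    (f.prod P.subtype).range ≤ (g.prod Q.subtype).range := by
  rintro _ ⟨a, rfl⟩
  exact ⟨⟨a.1, hPQ a.2⟩, Prod.ext (h a.1 a.2) rfl⟩


/-- A presentation of the symplectic group as the universal completion of an amalgam of small subgroups. Let F be a field with more than two elements, n ≥ 2, and Sp the group of 2n × 2n matrices over F preserving the standard alternating form, acting on column vectors; write e_k, f_k for the standard basis vectors of the two halves (a hyperbolic basis). For each k let S_k be the subgroup of Sp fixing e_l and f_l for all l ≠ k (a copy of SL(2, F) on the plane of e_k, f_k), and for each i with i + 1 < n let M_i be the subgroup fixing every e_l and fixing f_l for all l other than i, i+1 (an abelian group isomorphic to the additive group of F³). Then Sp is the universal completion of the amalgam formed by the S_k, the M_i and the subgroups generated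 by two of them: for every group H and homomorphisms σ_k : S_k → H, μ_i : M_i → H such that for each pair of these subgroups some homomorphism on the subgroup they generate restricts to the given ones, there is exactly one homomorphism Sp → H restricting to every σ_k and μ_i. -/
theorem result
    (F : Type*) [Field F] (hF : ∃ a : F, a ≠ 0 ∧ a ≠ 1) (n : ℕ) (hn : 2 ≤ n)
    (S M : Fin n → Subgroup ↥(Matrix.symplecticGroup (Fin n) F))
    (hS : ∀ j : Fin n, S j = Subgroup.closure {A : ↥(Matrix.symplecticGroup (Fin n) F) | ∀ k : Fin n, k ≠ j →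
      ((A : ↥(Matrix.symplecticGroup (Fin n) F)) : Matrix (Fin n ⊕ Fin n) (Fin n ⊕ Fin n) F).mulVec (Pi.single (Sum.inl k) (1 : F)) = (Pi.single (Sum.inl k) (1 : F)) ∧ ((A : ↥(Matrix.symplecticGroup (Fin n) F)) : Matrix (Fin n ⊕ Fin n) (Fin n ⊕ Fin n) F).mulVec (Pi.single (Sum.inr k) (1 : F)) = (Pi.single (Sum.inr k) (1 : F))})
    (hM : ∀ i : Fin n, (i : ℕ) + 1 < n → M i = Subgroup.closure {A : ↥(Matrix.symplecticGroup (Fin n) F) |
      (∀ k : Fin n, ((A : ↥(Matrix.symplecticGroup (Fin n) F)) : Matrix (Fin n ⊕ Fin n) (Fin n ⊕ Fin n) F).mulVec (Pi.single (Sum.inl k) (1 : F)) = (Pi.single (Sum.inl k) (1 : F))) ∧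
        ∀ k : Fin n, (k : ℕ) ≠ i → (k : ℕ) ≠ (i : ℕ) + 1 → ((A : ↥(Matrix.symplecticGroup (Fin n) F)) : Matrix (Fin n ⊕ Fin n) (Fin n ⊕ Fin n) F).mulVec (Pi.single (Sum.inr k) (1 : F)) = (Pi.single (Sum.inr k) (1 : F))})
    {H : Type*} [Group H] (σ : ∀ j : Fin n, ↥(S j) →* H) (μ : ∀ i : Fin n, ↥(M i) →* H)
    (hSS : ∀ j l : Fin n, j ≠ l → ∃ Ψ : ↥(S j ⊔ S l) →* H,
      (∀ (g : ↥(Matrix.symplecticGroup (Fin n) F)) (hg : g ∈ S j), Ψ ⟨g, Subgroup.mem_sup_left hg⟩ = σ j ⟨g, hg⟩) ∧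
        (∀ (g : ↥(Matrix.symplecticGroup (Fin n) F)) (hg : g ∈ S l), Ψ ⟨g, Subgroup.mem_sup_right hg⟩ = σ l ⟨g, hg⟩))
    (hMM : ∀ i i' : Fin n, i ≠ i' → (i : ℕ) + 1 < n → (i' : ℕ) + 1 < n → ∃ Ψ : ↥(M i ⊔ M i') →* H,
      (∀ (g : ↥(Matrix.symplecticGroup (Fin n) F)) (hg : g ∈ M i), Ψ ⟨g, Subgroup.mem_sup_left hg⟩ = μ i ⟨g, hg⟩) ∧
        (∀ (g : ↥(Matrix.symplecticGroup (Fin n) F)) (hg : g ∈ M i'), Ψ ⟨g, Subgroup.mem_sup_right hg⟩ = μ i' ⟨g, hg⟩))
    (hMS : ∀ i j : Fin n, (i : ℕ) + 1 < n → ∃ Ψ : ↥(M i ⊔ S j) →* H,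
      (∀ (g : ↥(Matrix.symplecticGroup (Fin n) F)) (hg : g ∈ M i), Ψ ⟨g, Subgroup.mem_sup_left hg⟩ = μ i ⟨g, hg⟩) ∧
        (∀ (g : ↥(Matrix.symplecticGroup (Fin n) F)) (hg : g ∈ S j), Ψ ⟨g, Subgroup.mem_sup_right hg⟩ = σ j ⟨g, hg⟩)) :
    ∃! Φ : ↥(Matrix.symplecticGroup (Fin n) F) →* H,
      (∀ (j : Fin n) (g : ↥(Matrix.symplecticGroup (Fin n) F)) (hg : g ∈ S j), Φ g = σ j ⟨g, hg⟩) ∧
        (∀ (i : Fin n), (i : ℕ) + 1 < n → ∀ (g : ↥(Matrix.symplecticGroup (Fin n) F)) (hg : g ∈ M i), Φ g = μ i ⟨g, hg⟩) := by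
  classical
  have memS : ∀ (j : Fin n) (g : ↥(Matrix.symplecticGroup (Fin n) F)), g ∈ S j ↔ InS j g := by
    intro j g
    rw [hS j]
    refine ⟨fun hg => ?_, fun hg => Subgroup.subset_closure hg⟩
    induction hg using Subgroup.closure_induction with
    | mem y hy => exact hy
    | one => exact InS.one j
    | mul a b _ _ ha hb => exact ha.mul hb
    | inv a _ ha => exact ha.inv
  have adjlt : ∀ {i i' : Fin n}, Adj i i' → (i : ℕ) + 1 < n := fun {i i'} h => by
    have := i'.isLt; unfold Adj at h; omega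
  have memM : ∀ (i i' : Fin n), Adj i i' → ∀ g : ↥(Matrix.symplecticGroup (Fin n) F), g ∈ M i ↔ InM i i' g := by
    intro i i' h g
    rw [hM i (adjlt h)]
    unfold Adj at h
    refine ⟨fun hg => ?_, fun hg => Subgroup.subset_closure ⟨hg.1, fun k hk hk' => hg.2 k
      (fun e => hk (congrArg Fin.val e)) (fun e => hk' (by rw [e, h]))⟩⟩
    induction hg using Subgroup.closure_induction with
    | mem y hy => exact ⟨hy.1, fun k hk hk' => hy.2 k (fun e => hk (Fin.ext e))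
        (fun e => hk' (Fin.ext (e.trans h.symm)))⟩
    | one => exact InM.one i i'
    | mul a b _ _ ha hb => exact ha.mul hb
    | inv a _ ha => exact ha.inv
  let A : Amalg F n (H × ↥(Matrix.symplecticGroup (Fin n) F)) :=
    { π := MonoidHom.snd _ _
      Sg := fun j => ((σ j).prod (S j).subtype).range
      Mg := fun i _ => ((μ i).prod (M i).subtype).range
      surjS := fun j g hg => ⟨(σ j ⟨g, (memS j g).2 hg⟩, g), ⟨⟨g, (memS j g).2 hg⟩, rfl⟩, rfl⟩
      mapS := by rintro j _ ⟨s, rfl⟩; exact (memS j _).1 s.2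
      surjM := fun i i' h g hg =>
        ⟨(μ i ⟨g, (memM i i' h g).2 hg⟩, g), ⟨⟨g, (memM i i' h g).2 hg⟩, rfl⟩, rfl⟩
      mapM := by rintro i i' h _ ⟨s, rfl⟩; exact (memM i i' h _).1 s.2
      injSS := by
        intro j l
        by_cases hjl : j = l
        · subst hjl; rw [sup_idem]; exact graph_injOn _
        obtain ⟨Ψ, h1, h2⟩ := hSS j l hjl
        exact (graph_injOn Ψ).mono (SetLike.coe_subset_coe.2
          (sup_le (range_le le_sup_left _ Ψ h1) (range_le le_sup_right _ Ψ h2)))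
      injMS := by
        intro i i' j h
        obtain ⟨Ψ, h1, h2⟩ := hMS i j (adjlt h)
        exact (graph_injOn Ψ).mono (SetLike.coe_subset_coe.2
          (sup_le (range_le le_sup_left _ Ψ h1) (range_le le_sup_right _ Ψ h2)))
      injMM := by
        intro i i' l l' h h'
        by_cases hil : i = l
        · subst hil; rw [sup_idem]; exact graph_injOn _
        obtain ⟨Ψ, h1, h2⟩ := hMM i l hil (adjlt h) (adjlt h')
        exact (graph_injOn Ψ).mono (SetLike.coe_subset_coe.2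
          (sup_le (range_le le_sup_left _ Ψ h1) (range_le le_sup_right _ Ψ h2))) }
  let r : ↥(A.Gam 0) →* ↥(Matrix.symplecticGroup (Fin n) F) := A.π.comp (A.Gam 0).subtype
  have hr : Function.Bijective r := by
    refine ⟨fun x y e => Subtype.ext (A.injOn_gam hF x.2 y.2 e), fun g => ?_⟩
    obtain ⟨x, hx, e⟩ := A.surj_gam hF (by omega) g
    exact ⟨⟨x, hx⟩, e⟩
  let e : ↥(A.Gam 0) ≃* ↥(Matrix.symplecticGroup (Fin n) F) := MulEquiv.ofBijective r hr
  let Φ : ↥(Matrix.symplecticGroup (Fin n) F) →* H :=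
    ((MonoidHom.fst _ _).comp (A.Gam 0).subtype).comp e.symm.toMonoidHom
  have key : ∀ x : H × ↥(Matrix.symplecticGroup (Fin n) F), x ∈ A.Gam 0 → Φ x.2 = x.1 := by
    intro x hx
    have : e.symm x.2 = ⟨x, hx⟩ := e.symm_apply_eq.2 rfl
    show (e.symm x.2 : H × ↥(Matrix.symplecticGroup (Fin n) F)).1 = x.1
    rw [this]
  refine ⟨Φ, ⟨fun j g hg => key (σ j ⟨g, hg⟩, g) (A.S_le (Nat.zero_le _) ⟨⟨g, hg⟩, rfl⟩), ?_⟩, ?_⟩
  · intro i hi g hg
    exact key (μ i ⟨g, hg⟩, g) (A.M_le (i' := ⟨(i : ℕ) + 1, hi⟩) rfl (Nat.zero_le _) ⟨⟨g, hg⟩, rfl⟩)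
  · rintro Φ' ⟨h1, h2⟩
    refine MonoidHom.ext fun g => ?_
    obtain ⟨x, hx, rfl⟩ := A.surj_gam hF (by omega) g
    refine Eq.trans ?_ (key x hx).symm
    show Φ' x.2 = x.1
    induction hx using Subgroup.closure_induction with
    | mem y hy =>
      rcases hy with ⟨j, -, a, rfl⟩ | ⟨i, i', h, -, a, rfl⟩
      · exact h1 j a.1 a.2
      · exact h2 i (adjlt h) a.1 a.2
    | one => exact map_one Φ'
    | mul a b _ _ ha hb => rw [Prod.snd_mul, map_mul, ha, hb, Prod.fst_mul]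
    | inv a _ ha => rw [Prod.snd_inv, map_inv, ha, Prod.fst_inv]

end Cfsg.Agent.S3713
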