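import Cfsg.Statements.S3716
import Cfsg.Agent.Lib.ThreeCC.Wreath.Final

set_option autoImplicit false
open Cfsg

namespace Cfsg.Agent.S3716

/-- Let G be a finite group with an elementary abelian Sylow 3-subgroup M of order 9 which is self-centralizing (C_G(M) = M), let N = N_G(M), and suppose C_G(g) ≤ N for every nonidentity g ∈ M. If the Sylow 2-subgroups of N are dihedral of order 8, then G is not simple. -/
theorem result {G : Type*} [Group G] [Finite G] (M : Sylow 3 G) (hM9 : Nat.card ↥(M : Subgroup G) = 9)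
    (hMel : ∀ m ∈ (M : Subgroup G), m ^ 3 = 1)
    (hCM : Subgroup.centralizer ((M : Subgroup G) : Set G) = (M : Subgroup G))
    (N : Subgroup G) (hN : N = Subgroup.normalizer ((M : Subgroup G) : Set G))
    (hCg : ∀ g ∈ (M : Subgroup G), g ≠ 1 → Subgroup.centralizer ({g} : Set G) ≤ N)
    (hS : ∀ S : Sylow 2 ↥N, Nonempty (↥(S : Subgroup ↥N) ≃* DihedralGroup 4)) :
    ¬ IsSimpleGroup G := by
  classical
  intro hsimp
  haveI : Fact (Nat.Prime 2) := ⟨Nat.prime_two⟩
  haveI : Fact (Nat.Prime 3) := ⟨Nat.prime_three⟩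
  subst hN
  let d : CfsgLib.ThreeCC.Setting G :=
    { T := M
      ab := fun s hs t ht => by
        haveI := IsPGroup.isMulCommutative_of_card_eq_prime_sq (p := 3) (G := (M : Subgroup G)) (by rw [hM9]; norm_num)
        exact congrArg Subtype.val (mul_comm' (⟨s, hs⟩ : (M : Subgroup G)) ⟨t, ht⟩)
      exp := hMel
      self := hCM.le
      cent := hCg }
  set N := Subgroup.normalizer ((M : Subgroup G) : Set G) with hNdef
  obtain ⟨S⟩ := (inferInstance : Nonempty (Sylow 2 N))
  obtain ⟨e⟩ := hS S
  have hS8 : Nat.card (S : Subgroup N) = 8 := by rw [Nat.card_congr e.toEquiv, DihedralGroup.nat_card]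
  have h9 : 9 ∣ Nat.card N := hM9 ▸ Subgroup.card_dvd_of_le Subgroup.le_normalizer
  have h8 : 8 ∣ Nat.card N := hS8 ▸ Subgroup.card_subgroup_dvd_card _
  obtain ⟨r, hr⟩ : 72 ∣ Nat.card N := Nat.Coprime.mul_dvd_of_dvd_of_dvd (show Nat.Coprime 8 9 by norm_num) h8 h9
  have hr1 : r = 1 := by
    by_contra h
    obtain ⟨q, hq, hqr⟩ := Nat.exists_prime_and_dvd h
    haveI : Fact q.Prime := ⟨hq⟩
    have hq2 : q ≠ 2 := by
      rintro rfl
      have hidx := S.not_dvd_index
      apply hidx
      have := (S : Subgroup N).card_mul_index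
      rw [hS8, hr, show 72 * r = 8 * (9 * r) by ring] at this
      rw [Nat.eq_of_mul_eq_mul_left (by norm_num) this]
      exact hqr.mul_left 9
    have hq3 : q ≠ 3 := by
      rintro rfl
      apply M.not_dvd_index
      have hdvd : Nat.card N ∣ Nat.card G := Subgroup.card_subgroup_dvd_card N
      obtain ⟨c, hc⟩ := hdvd
      have := (M : Subgroup G).card_mul_index
      rw [hM9, hc, hr, show 72 * r * c = 9 * (8 * c * r) by ring] at this
      rw [Nat.eq_of_mul_eq_mul_left (by norm_num) this]
      exact hqr.mul_left _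
    obtain ⟨x, hx⟩ := exists_prime_orderOf_dvd_card' (G := N) q (hqr.trans ⟨72, by rw [hr]; ring⟩)
    have hX : IsPGroup q (Subgroup.zpowers x) := IsPGroup.of_card (n := 1) (by rw [Nat.card_zpowers, hx, pow_one])
    let act : MulAction (Subgroup.zpowers x) (M : Subgroup G) :=
      { smul := fun g t => ⟨((g : N) : G) * t * ((g : N) : G)⁻¹, (Subgroup.mem_normalizer_iff.mp (g : N).2 _).mp t.2⟩
        one_smul := fun t => Subtype.ext (by
          show ((1 : N) : G) * (t : G) * ((1 : N) : G)⁻¹ = t
          simp)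
        mul_smul := fun g h t => Subtype.ext (by
          show (((g : N) * (h : N) : N) : G) * (t : G) * (((g : N) * (h : N) : N) : G)⁻¹ =
            ((g : N) : G) * (((h : N) : G) * t * ((h : N) : G)⁻¹) * ((g : N) : G)⁻¹
          simp [mul_assoc]) }
    letI := act
    let F : Subgroup G := (M : Subgroup G) ⊓ Subgroup.centralizer {(x : G)}
    have hfix : Nat.card (MulAction.fixedPoints (Subgroup.zpowers x) (M : Subgroup G)) = Nat.card F := by
      refine Nat.card_congr
        { toFun := fun t => ⟨(t.1 : G), t.1.2, Subgroup.mem_centralizer_singleton_iff.mpr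
            (mul_inv_eq_iff_eq_mul.mp (congrArg Subtype.val (t.2 ⟨x, Subgroup.mem_zpowers x⟩))).symm⟩
          invFun := fun t => ⟨⟨t.1, t.2.1⟩, fun g => ?_⟩
          left_inv := fun t => rfl
          right_inv := fun t => rfl }
      obtain ⟨k, hk⟩ := Subgroup.mem_zpowers_iff.mp g.2
      refine Subtype.ext ?_
      show ((g : N) : G) * (t : G) * ((g : N) : G)⁻¹ = t
      rw [← hk, mul_inv_eq_iff_eq_mul, Subgroup.coe_zpow]
      exact (Commute.zpow_left ((Subgroup.mem_centralizer_singleton_iff.mp t.2.2).symm : Commute (x : G) t) k).eq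
    have hmod := hX.card_modEq_card_fixedPoints (M : Subgroup G)
    rw [hfix, hM9] at hmod
    have hd : Nat.card F ∣ 3 ^ 2 := by norm_num; exact hM9 ▸ Subgroup.card_dvd_of_le inf_le_left
    obtain ⟨k, hk, hkc⟩ := (Nat.dvd_prime_pow Nat.prime_three).mp hd
    rw [hkc] at hmod
    have hq5 : 5 ≤ q := by
      have := hq.two_le
      rcases (show q = 4 ∨ q ≠ 4 by omega) with rfl | h4
      · exact absurd hq (by norm_num)
      · omega
    interval_cases k
    · have h := (Nat.modEq_iff_dvd' (by norm_num : 1 ≤ 9)).mp hmod.symm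
      have : q ≤ 8 := Nat.le_of_dvd (by norm_num) h
      interval_cases q <;> first | omega | exact absurd hq (by norm_num)
    · have h := (Nat.modEq_iff_dvd' (by norm_num : 3 ≤ 9)).mp hmod.symm
      have : q ≤ 6 := Nat.le_of_dvd (by norm_num) h
      interval_cases q <;> first | omega | exact absurd hq (by norm_num)
    · have hFM : F = (M : Subgroup G) := Subgroup.eq_of_le_of_card_ge inf_le_left (by rw [hM9, hkc]; norm_num)
      have hxM : (x : G) ∈ (M : Subgroup G) := hCM.le (Subgroup.mem_centralizer_iff.mpr fun t ht =>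
        Subgroup.mem_centralizer_singleton_iff.mp (hFM ▸ ht : t ∈ F).2)
      have := Subgroup.orderOf_dvd_natCard _ hxM
      rw [Subgroup.orderOf_coe, hx, hM9] at this
      exact hq3 ((Nat.prime_dvd_prime_iff_eq hq Nat.prime_three).mp (hq.dvd_of_dvd_pow (show q ∣ 3 ^ 2 by simpa using this)))
  let f : DihedralGroup 4 →* G := N.subtype.comp ((S : Subgroup N).subtype.comp e.symm.toMonoidHom)
  obtain ⟨m⟩ := CfsgLib.ThreeCC.Wreath.nonempty_model d hM9
    (show Nat.card N = 72 by rw [hr, hr1]) f
    (N.subtype_injective.comp ((S : Subgroup N).subtype_injective.comp e.symm.injective))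
    (fun x => (e.symm x : N).2)
  obtain ⟨lin, hlin⟩ := CfsgLib.ThreeCC.Wreath.exists_linear_hom m hM9
  rcases hsimp.eq_bot_or_eq_top_of_normal lin.ker inferInstance with h | h
  · have hinj : Function.Injective lin := lin.ker_eq_bot_iff.mp h
    have hcomm : f (DihedralGroup.r 1) * f (DihedralGroup.sr 0) = f (DihedralGroup.sr 0) * f (DihedralGroup.r 1) :=
      hinj (by rw [map_mul, map_mul, mul_comm])
    rw [← map_mul, ← map_mul] at hcomm
    exact absurd (N.subtype_injective.comp ((S : Subgroup N).subtype_injective.comp e.symm.injective) hcomm) (by decide)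
  · exact hlin (MonoidHom.ker_eq_top_iff.mp h)

end Cfsg.Agent.S3716
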