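import Cfsg.Statements.S3733
import Mathlib
-- import your own Cfsg.Agent.* helpers here

set_option autoImplicit false
open Cfsg

namespace Cfsg.Agent.S3733

/-- Let A and V be subgroups of a finite group with V abelian and nontrivial and A normalizing V. Suppose a nonempty finite family of proper subgroups of A partitions A: every non-identity element of A lies in exactly one member. If the number of members minus one is coprime to the order of V, then some member B of the family has a non-identity fixed point on V, that is V ∩ C(B) ≠ 1. -/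
theorem result {G : Type*} [Group G] [Finite G] (A V : Subgroup G) (hVab : IsMulCommutative V) (hV : V ≠ ⊥) (hAV : A ≤ Subgroup.normalizer (V : Set G)) (𝒜 : Finset (Subgroup G)) (hne : 𝒜.Nonempty) (hprop : ∀ B ∈ 𝒜, B < A) (hpart : ∀ a ∈ A, a ≠ 1 → ∃! B, B ∈ 𝒜 ∧ a ∈ B) (hk : (𝒜.card - 1).Coprime (Nat.card V)) : ∃ B ∈ 𝒜, V ⊓ Subgroup.centralizer (B : Set G) ≠ ⊥ := by
  classical
  have := Fintype.ofFinite G
  letI : CommGroup V := { (inferInstance : Group V) with mul_comm := fun a b => hVab.is_comm.comm a b }
  let act : G → V → V := fun a v => if h : a ∈ A then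
    ⟨a * v * a⁻¹, (Subgroup.mem_normalizer_iff.mp (hAV h) v).mp v.2⟩ else 1
  have hact : ∀ a ∈ A, ∀ v : V, ((act a v : V) : G) = a * v * a⁻¹ := fun a ha v => by simp [act, ha]
  let N : Subgroup G → V → V := fun B v => ∏ a ∈ Finset.univ.filter (· ∈ B), act a v
  by_contra hcon
  push Not at hcon
  have hfixed : ∀ B : Subgroup G, B ≤ A → ∀ b ∈ B, ∀ v, act b (N B v) = N B v := by
    intro B hB b hb v
    let f : V →* V := MonoidHom.mk' (act b) (fun x y => Subtype.ext (by
      show ((act b (x * y) : V) : G) = ((act b x : V) : G) * ((act b y : V) : G)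
      rw [hact b (hB hb), hact b (hB hb), hact b (hB hb), Subgroup.coe_mul]; group))
    show f (∏ a ∈ Finset.univ.filter (· ∈ B), act a v) = _
    rw [map_prod]
    refine Finset.prod_nbij' (fun a => b * a) (fun a => b⁻¹ * a) ?_ ?_ (by simp) (by simp) ?_
    · intro a ha; simp only [Finset.mem_filter, Finset.mem_univ, true_and, Finset.coe_filter, Set.mem_ofPred_eq] at ha ⊢
      exact mul_mem hb ha
    · intro a ha; simp only [Finset.mem_filter, Finset.mem_univ, true_and, Finset.coe_filter, Set.mem_ofPred_eq] at ha ⊢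
      exact mul_mem (inv_mem hb) ha
    · intro a ha
      simp only [Finset.mem_filter, Finset.mem_univ, true_and] at ha
      apply Subtype.ext
      show ((act b (act a v) : V) : G) = _
      rw [hact b (hB hb), hact a (hB ha), hact _ (mul_mem (hB hb) (hB ha))]
      group
  have hN1 : ∀ B ∈ 𝒜, ∀ v, N B v = 1 := by
    intro B hB v
    apply Subtype.ext
    have hm : ((N B v : V) : G) ∈ V ⊓ Subgroup.centralizer (B : Set G) := by
      refine Subgroup.mem_inf.mpr ⟨(N B v).2, Subgroup.mem_centralizer_iff.mpr fun b hb => ?_⟩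
      have := congrArg Subtype.val (hfixed B (hprop B hB).le b hb v)
      rw [hact b ((hprop B hB).le hb)] at this
      exact mul_inv_eq_iff_eq_mul.mp this
    rw [hcon B hB, Subgroup.mem_bot] at hm
    exact hm
  have hNA : ∀ v, N A v = 1 := by
    intro v
    obtain ⟨B, hB⟩ := hne
    apply Subtype.ext
    have hm : ((N A v : V) : G) ∈ V ⊓ Subgroup.centralizer (B : Set G) := by
      refine Subgroup.mem_inf.mpr ⟨(N A v).2, Subgroup.mem_centralizer_iff.mpr fun b hb => ?_⟩
      have := congrArg Subtype.val (hfixed A le_rfl b ((hprop B hB).le hb) v)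
      rw [hact b ((hprop B hB).le hb)] at this
      exact mul_inv_eq_iff_eq_mul.mp this
    rw [hcon B hB, Subgroup.mem_bot] at hm
    exact hm
  have hkey : ∀ v : V, v ^ (𝒜.card - 1) = 1 := by
    intro v
    have h1 : ∏ B ∈ 𝒜, N B v = ∏ a ∈ Finset.univ.filter (· ∈ A), act a v ^ (𝒜.filter (fun B => a ∈ B)).card := by
      have hsplit : ∀ B ∈ 𝒜, N B v = ∏ a ∈ Finset.univ.filter (· ∈ A), if a ∈ B then act a v else 1 := by
        intro B hB
        rw [← Finset.prod_filter, Finset.filter_filter]
        refine Finset.prod_congr (Finset.filter_congr fun a _ => ?_) (fun _ _ => rfl)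
        exact ⟨fun h => ⟨(hprop B hB).le h, h⟩, fun h => h.2⟩
      rw [Finset.prod_congr rfl hsplit, Finset.prod_comm]
      refine Finset.prod_congr rfl fun a _ => ?_
      rw [← Finset.prod_filter, Finset.prod_const]
    have h2 : ∀ a ∈ Finset.univ.filter (· ∈ A), act a v ^ (𝒜.filter (fun B => a ∈ B)).card =
        act a v * (if a = 1 then v ^ (𝒜.card - 1) else 1) := by
      intro a ha
      simp only [Finset.mem_filter, Finset.mem_univ, true_and] at ha
      by_cases ha1 : a = 1
      · subst ha1
        have e : act 1 v = v := Subtype.ext (by rw [hact 1 (one_mem A)]; simp)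
        rw [if_pos rfl, e, Finset.filter_true_of_mem (fun B _ => one_mem B), ← pow_succ',
          Nat.sub_add_cancel hne.card_pos]
      · obtain ⟨B₀, hB₀, huniq⟩ := hpart a ha ha1
        rw [if_neg ha1, mul_one]
        have : 𝒜.filter (fun B => a ∈ B) = {B₀} := by
          ext B
          rw [Finset.mem_filter, Finset.mem_singleton]
          exact ⟨fun h => huniq B h, fun h => h ▸ hB₀⟩
        rw [this, Finset.card_singleton, pow_one]
    rw [Finset.prod_eq_one (fun B hB => hN1 B hB v), Finset.prod_congr rfl h2, Finset.prod_mul_distrib,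
      Finset.prod_ite_eq', if_pos (by simp)] at h1
    have hA : ∏ a ∈ Finset.univ.filter (· ∈ A), act a v = 1 := hNA v
    rw [hA, one_mul] at h1
    exact h1.symm
  apply hV
  rw [Subgroup.eq_bot_iff_forall]
  intro v hv
  have := Nat.eq_one_of_dvd_coprimes hk (orderOf_dvd_of_pow_eq_one (hkey ⟨v, hv⟩)) (orderOf_dvd_natCard _)
  exact congrArg Subtype.val (orderOf_eq_one_iff.mp this)

end Cfsg.Agent.S3733
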