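import Cfsg.Statements.S3734
import Mathlib
import Cfsg.Agent.Lib.CoprimeGen
import Cfsg.Agent.Lib.Coprime
-- import your own Cfsg.Agent.* helpers here

set_option autoImplicit false
open Cfsg

namespace Cfsg.Agent.S3734

open scoped Pointwise commutatorElement

/-- Let A and G be subgroups of a finite group with A abelian, A normalizing G and the orders of A and G coprime. Then G is generated by the fixed-point subgroups C_G(B) of those subgroups B of A for which A/B is cyclic (that is, A = ⟨B, a⟩ for some a), and [G, A] is generated by the commutator subgroups [C_G(B), A] over the same subgroups B. -/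
theorem result {X : Type*} [Group X] [Finite X] (A G : Subgroup X) (hAab : IsMulCommutative A) (hAG : A ≤ Subgroup.normalizer (G : Set X)) (hcop : (Nat.card A).Coprime (Nat.card G)) : (⨆ B ∈ {B : Subgroup X | B ≤ A ∧ ∃ a ∈ A, B ⊔ Subgroup.zpowers a = A}, G ⊓ Subgroup.centralizer (B : Set X)) = G ∧ (⨆ B ∈ {B : Subgroup X | B ≤ A ∧ ∃ a ∈ A, B ⊔ Subgroup.zpowers a = A}, ⁅G ⊓ Subgroup.centralizer (B : Set X), A⁆) = ⁅G, A⁆ := by
  classical
  set S := {B : Subgroup X | B ≤ A ∧ ∃ a ∈ A, B ⊔ Subgroup.zpowers a = A}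
  set D := ⨆ B ∈ S, G ⊓ Subgroup.centralizer (B : Set X) with hD
  have hAc : ∀ a ∈ A, ∀ b ∈ A, a * b = b * a := fun a ha b hb =>
    congrArg Subtype.val (hAab.is_comm.comm (⟨a, ha⟩ : A) ⟨b, hb⟩)
  have hAs : Group.IsSolvable A := by
    let : CommGroup A := { (inferInstance : Group A) with mul_comm := hAab.is_comm.comm }
    infer_instance
  have main : ∀ (n : ℕ) (K : Subgroup X), Nat.card A - Nat.card (A ⊓ Subgroup.centralizer (K : Set X) : Subgroup X) = n →
      K ≤ G → A ≤ Subgroup.normalizer (K : Set X) → K ≤ D := by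
    intro n
    induction n using Nat.strong_induction_on with
    | _ n ih =>
    intro K hn hKG hAK
    set A₀ := A ⊓ Subgroup.centralizer (K : Set X) with hA₀
    by_cases hcyc : ∃ a ∈ A, A₀ ⊔ Subgroup.zpowers a = A
    · refine le_trans ?_ (le_iSup₂ (f := fun B (_ : B ∈ S) => G ⊓ Subgroup.centralizer (B : Set X)) A₀
        ⟨inf_le_left, hcyc⟩)
      exact le_inf hKG (Subgroup.le_centralizer_iff.mp inf_le_right)
    set D' := ⨆ a ∈ {a : X | a ∈ A ∧ a ∉ A₀}, K ⊓ Subgroup.centralizer ({a} : Set X) with hD'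
    suffices hKD : K ≤ D' by
      refine hKD.trans (iSup₂_le fun a ha => ih _ ?_ _ rfl (inf_le_left.trans hKG) ?_)
      · rw [← hn]
        have hlt : A₀ < A ⊓ Subgroup.centralizer ((K ⊓ Subgroup.centralizer ({a} : Set X) : Subgroup X) : Set X) := by
          refine lt_of_le_of_ne (inf_le_inf_left _ (Subgroup.centralizer_le fun z hz => (Subgroup.mem_inf.mp hz).1)) fun e => ha.2 ?_
          rw [e]
          refine Subgroup.mem_inf.mpr ⟨ha.1, Subgroup.mem_centralizer_iff.mpr fun z hz => ?_⟩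
          exact Subgroup.mem_centralizer_singleton_iff.mp (Subgroup.mem_inf.mp hz).2
        have h1 : Nat.card A₀ < Nat.card
            (A ⊓ Subgroup.centralizer ((K ⊓ Subgroup.centralizer ({a} : Set X) : Subgroup X) : Set X) : Subgroup X) := by
          refine lt_of_le_of_ne (Subgroup.card_le_of_le hlt.le) fun e => hlt.ne ?_
          exact Subgroup.eq_of_le_of_card_ge hlt.le e.ge
        have h2 := Subgroup.card_le_of_le (inf_le_left :
          A ⊓ Subgroup.centralizer ((K ⊓ Subgroup.centralizer ({a} : Set X) : Subgroup X) : Set X) ≤ A)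
        have h3 : Nat.card A₀ = Nat.card (A ⊓ Subgroup.centralizer (K : Set X) : Subgroup X) := rfl
        omega
      · refine le_trans ?_ Subgroup.inf_normalizer_le_normalizer_inf
        refine le_inf hAK (le_trans ?_ Subgroup.le_normalizer)
        exact fun z hz => Subgroup.mem_centralizer_singleton_iff.mpr (hAc z hz a ha.1)
    -- work modulo the kernel of the action
    set L := K ⊔ A
    have hA₀c : ∀ z ∈ A₀, ∀ w ∈ L, w * z = z * w := by
      intro z hz w hw
      have : L ≤ Subgroup.centralizer ({z} : Set X) := sup_le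
        (fun k hk => Subgroup.mem_centralizer_singleton_iff.mpr
          (Subgroup.mem_centralizer_iff.mp (Subgroup.mem_inf.mp hz).2 k hk))
        (fun b hb => Subgroup.mem_centralizer_singleton_iff.mpr (hAc b hb z (Subgroup.mem_inf.mp hz).1))
      exact Subgroup.mem_centralizer_singleton_iff.mp (this hw)
    have hA₀L : A₀ ≤ L := inf_le_left.trans le_sup_right
    have hn0 : (A₀.subgroupOf L).Normal := ⟨fun z hz w => by
      have e : (w : X) * z * (w : X)⁻¹ = z := by rw [hA₀c z hz w w.2, mul_inv_cancel_right]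
      show (w : X) * z * (w : X)⁻¹ ∈ A₀
      rw [e]; exact hz⟩
    set f := QuotientGroup.mk' (A₀.subgroupOf L)
    have hKL : K ≤ L := le_sup_left
    have hAL : A ≤ L := le_sup_right
    set A' := (A.subgroupOf L).map f
    set K' := (K.subgroupOf L).map f
    have hA'ab : IsMulCommutative A' := ⟨⟨by
      rintro ⟨_, x, hx, rfl⟩ ⟨_, y, hy, rfl⟩
      refine Subtype.ext ?_
      show f x * f y = f y * f x
      rw [← map_mul, ← map_mul, show x * y = y * x from Subtype.ext (hAc x hx y hy)]⟩⟩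
    have hA'cyc : ¬ IsCyclic A' := by
      rintro ⟨⟨⟨_, a, ha, rfl⟩, hgen⟩⟩
      refine hcyc ⟨a, ha, le_antisymm (sup_le inf_le_left (Subgroup.zpowers_le.mpr ha)) fun z hz => ?_⟩
      obtain ⟨i, hi⟩ := hgen ⟨f ⟨z, hAL hz⟩, Subgroup.mem_map_of_mem f (show (⟨z, hAL hz⟩ : L) ∈ A.subgroupOf L from hz)⟩
      have h1 : f a ^ i = f ⟨z, hAL hz⟩ := congrArg Subtype.val hi
      rw [← map_zpow, QuotientGroup.mk'_apply, QuotientGroup.mk'_apply, QuotientGroup.eq,
        Subgroup.mem_subgroupOf] at h1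
      simp only [Subgroup.coe_mul, Subgroup.coe_inv, Subgroup.coe_zpow] at h1
      have h2 : z = (a : X) ^ i * (((a : X) ^ i)⁻¹ * z) := (mul_inv_cancel_left _ z).symm
      rw [h2]
      exact mul_mem (Subgroup.mem_sup_right (Subgroup.zpow_mem _ (Subgroup.mem_zpowers _) i)) (Subgroup.mem_sup_left h1)
    have hA'K' : A' ≤ Subgroup.normalizer (K' : Set (L ⧸ A₀.subgroupOf L)) := by
      refine le_trans (Subgroup.map_mono ?_) (Subgroup.le_normalizer_map f)
      intro z hz
      rw [Subgroup.mem_normalizer_iff]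
      intro w
      exact Subgroup.mem_normalizer_iff.mp (hAK hz) (w : X)
    have hcop' : (Nat.card A').Coprime (Nat.card K') := by
      refine (hcop.coprime_dvd_left ?_).coprime_dvd_right ?_
      · exact (Subgroup.card_map_dvd _ f).trans (Nat.card_congr (Subgroup.subgroupOfEquivOfLe hAL).toEquiv).dvd
      · exact ((Subgroup.card_map_dvd _ f).trans (Nat.card_congr (Subgroup.subgroupOfEquivOfLe hKL).toEquiv).dvd).trans
          (Subgroup.card_dvd_of_le hKG)
    have hgenK := CfsgLib.coprime_generated_by_centralizers hA'cyc hA'K' hcop'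
    have hle : K' ≤ (D'.subgroupOf L).map f := by
      rw [← hgenK]
      refine iSup₂_le fun a ha => ?_
      obtain ⟨⟨a, ha', rfl⟩, ha1⟩ := ha
      intro y hy
      obtain ⟨⟨k, hk, rfl⟩, hc⟩ := Subgroup.mem_inf.mp hy
      refine Subgroup.mem_map_of_mem f ?_
      have haN : (a : X) ∉ A₀ := fun h => ha1 ((QuotientGroup.eq_one_iff a).mpr h)
      rw [Subgroup.mem_subgroupOf]
      refine (le_iSup₂ (f := fun a (_ : a ∈ {a : X | a ∈ A ∧ a ∉ A₀}) => K ⊓ Subgroup.centralizer ({a} : Set X))
        (a : X) ⟨ha', haN⟩) (Subgroup.mem_inf.mpr ⟨hk, Subgroup.mem_centralizer_singleton_iff.mpr ?_⟩)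
      have h1 := Subgroup.mem_centralizer_singleton_iff.mp hc
      rw [← map_mul, ← map_mul, QuotientGroup.mk'_apply, QuotientGroup.mk'_apply, QuotientGroup.eq,
        Subgroup.mem_subgroupOf] at h1
      simp only [Subgroup.coe_mul, Subgroup.coe_inv, mul_inv_rev] at h1
      have hK1 : (a : X)⁻¹ * (k : X)⁻¹ * ((a : X) * k) ∈ K := by
        have h2 := (Subgroup.mem_normalizer_iff''.mp (hAK ha') _).mp (K.inv_mem hk)
        simpa [mul_assoc] using K.mul_mem h2 hk
      have h3 := Subgroup.disjoint_def.mp (Subgroup.disjoint_of_coprime_natCard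
        ((hcop.coprime_dvd_right (Subgroup.card_dvd_of_le hKG)))) (Subgroup.mem_inf.mp h1).1 hK1
      rw [inv_mul_eq_one.symm]
      rw [← mul_inv_rev] at h3
      exact h3
    intro k hk
    obtain ⟨d, hd, hdk⟩ := hle (Subgroup.mem_map_of_mem f (show (⟨k, hKL hk⟩ : L) ∈ K.subgroupOf L from hk))
    rw [QuotientGroup.mk'_apply, QuotientGroup.mk'_apply, QuotientGroup.eq, Subgroup.mem_subgroupOf] at hdk
    simp only [Subgroup.coe_mul, Subgroup.coe_inv] at hdk
    have hD'K : D' ≤ K := iSup₂_le fun _ _ => inf_le_left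
    have h3 := Subgroup.disjoint_def.mp (Subgroup.disjoint_of_coprime_natCard
      ((hcop.coprime_dvd_right (Subgroup.card_dvd_of_le hKG)))) (Subgroup.mem_inf.mp hdk).1
      (K.mul_mem (K.inv_mem (hD'K hd)) hk)
    rw [inv_mul_eq_one] at h3
    rw [← h3]; exact hd
  have h1 : D = G := le_antisymm (iSup₂_le fun _ _ => inf_le_left) (main _ G rfl le_rfl hAG)
  refine ⟨h1, ?_⟩
  set E := ⨆ B ∈ S, ⁅G ⊓ Subgroup.centralizer (B : Set X), A⁆ with hE
  refine le_antisymm (iSup₂_le fun B _ => Subgroup.commutator_mono inf_le_left le_rfl) ?_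
  -- E is normalized by G
  have hTA : ∀ B ∈ S, A ≤ Subgroup.normalizer ((G ⊓ Subgroup.centralizer (B : Set X) : Subgroup X) : Set X) := by
    intro B hB
    refine le_trans (le_inf hAG (le_trans ?_ Subgroup.le_normalizer)) Subgroup.inf_normalizer_le_normalizer_inf
    exact fun z hz => Subgroup.mem_centralizer_iff.mpr fun b hb => hAc b (hB.1 hb) z hz
  set C := G ⊓ Subgroup.centralizer (A : Set X)
  have hGEC : G ≤ E ⊔ C := by
    refine le_of_eq_of_le h1.symm (iSup₂_le fun B hB => ?_)
    rw [← CfsgLib.coprime_commutator_sup (hTA B hB)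
      (hcop.coprime_dvd_right (Subgroup.card_dvd_of_le inf_le_left)) (Or.inl hAs)]
    exact sup_le_sup (le_iSup₂ (f := fun B (_ : B ∈ S) => ⁅G ⊓ Subgroup.centralizer (B : Set X), A⁆) B hB)
      (inf_le_inf_right _ inf_le_left)
  have hCE : C ≤ Subgroup.normalizer (E : Set X) := by
    have key : ∀ z ∈ C, ∀ e ∈ E, z * e * z⁻¹ ∈ E := by
      intro z hz e he
      obtain ⟨hzG, hzA⟩ := Subgroup.mem_inf.mp hz
      have hle : E ≤ E.comap (MulAut.conj z).toMonoidHom := iSup₂_le fun B hB => by
        rw [Subgroup.commutator_le]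
        intro x hx a ha
        rw [Subgroup.mem_comap, MulEquiv.coe_toMonoidHom, map_commutatorElement, MulAut.conj_apply, MulAut.conj_apply]
        refine le_iSup₂ (f := fun B (_ : B ∈ S) => ⁅G ⊓ Subgroup.centralizer (B : Set X), A⁆) B hB
          (Subgroup.commutator_mem_commutator ?_ ?_)
        · obtain ⟨hxG, hxB⟩ := Subgroup.mem_inf.mp hx
          have hzB : z ∈ Subgroup.centralizer (B : Set X) := Subgroup.centralizer_le hB.1 hzA
          exact Subgroup.mem_inf.mpr ⟨G.mul_mem (G.mul_mem hzG hxG) (G.inv_mem hzG),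
            mul_mem (mul_mem hzB hxB) (inv_mem hzB)⟩
        · rw [show z * a * z⁻¹ = a by rw [← Subgroup.mem_centralizer_iff.mp hzA a ha, mul_inv_cancel_right]]
          exact ha
      exact hle he
    intro z hz
    rw [Subgroup.mem_normalizer_iff]
    intro w
    refine ⟨key z hz w, fun hw => ?_⟩
    simpa [mul_assoc] using key z⁻¹ (inv_mem hz) _ hw
  rw [Subgroup.commutator_le]
  intro g hg a ha
  obtain ⟨e, he, c, hc, rfl⟩ := CfsgLib.mem_sup_of_le_normalizer hCE (hGEC hg)
  have hce : c * a * c⁻¹ = a := by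
    rw [← Subgroup.mem_centralizer_iff.mp (Subgroup.mem_inf.mp hc).2 a ha, mul_inv_cancel_right]
  have h4 : ⁅e * c, a⁆ = e * (a * e⁻¹ * a⁻¹) := by
    rw [commutatorElement_def]
    calc e * c * a * (e * c)⁻¹ * a⁻¹ = e * (c * a * c⁻¹) * e⁻¹ * a⁻¹ := by group
      _ = _ := by rw [hce]; group
  rw [h4]
  refine E.mul_mem he ?_
  have hAE : E ≤ E.comap (MulAut.conj a).toMonoidHom := iSup₂_le fun B hB => by
    rw [Subgroup.commutator_le]
    intro x hx b hb
    rw [Subgroup.mem_comap, MulEquiv.coe_toMonoidHom, map_commutatorElement, MulAut.conj_apply, MulAut.conj_apply]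
    refine le_iSup₂ (f := fun B (_ : B ∈ S) => ⁅G ⊓ Subgroup.centralizer (B : Set X), A⁆) B hB
      (Subgroup.commutator_mem_commutator ((Subgroup.mem_normalizer_iff.mp (hTA B hB ha) x).mp hx) ?_)
    exact A.mul_mem (A.mul_mem ha hb) (A.inv_mem ha)
  exact hAE (E.inv_mem he)

end Cfsg.Agent.S3734
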