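import Cfsg.Statements.S3735
import Mathlib
import Cfsg.Agent.Lib.Coprime
-- import your own Cfsg.Agent.* helpers here

set_option autoImplicit false
open Cfsg

namespace Cfsg.Agent.S3735

open scoped Pointwise

/-- Clifford's Theorem for actions on finite abelian groups, first part. Let H and V be subgroups of a finite group with V abelian and H normalizing V, and let A be a normal subgroup of H. If every H-invariant subgroup of V has an H-invariant complement in V, then every A-invariant subgroup of V has an A-invariant complement in V. -/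
theorem result {G : Type*} [Group G] [Finite G] (H A V : Subgroup G) (hVab : IsMulCommutative V) (hHV : H ≤ Subgroup.normalizer (V : Set G)) (hAH : A ≤ H) (hAn : H ≤ Subgroup.normalizer (A : Set G)) (hss : ∀ U : Subgroup G, U ≤ V → H ≤ Subgroup.normalizer (U : Set G) → ∃ W : Subgroup G, W ≤ V ∧ H ≤ Subgroup.normalizer (W : Set G) ∧ U ⊓ W = ⊥ ∧ U ⊔ W = V) (U : Subgroup G) (hUV : U ≤ V) (hAU : A ≤ Subgroup.normalizer (U : Set G)) : ∃ W : Subgroup G, W ≤ V ∧ A ≤ Subgroup.normalizer (W : Set G) ∧ U ⊓ W = ⊥ ∧ U ⊔ W = V := by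
  classical
  have hinv : ∀ (B X : Subgroup G), (∀ b ∈ B, ∀ x ∈ X, b * x * b⁻¹ ∈ X) → B ≤ Subgroup.normalizer (X : Set G) :=
    fun B X h => Subgroup.le_normalizer_iff.mpr h
  have hconj : ∀ (B X : Subgroup G), B ≤ Subgroup.normalizer (X : Set G) → ∀ b ∈ B, ∀ x ∈ X, b * x * b⁻¹ ∈ X :=
    fun B X h b hb x hx => (Subgroup.mem_normalizer_iff.mp (h hb) x).mp hx
  -- inside `V` elements commute
  have hcomm : ∀ x ∈ V, ∀ y ∈ V, x * y = y * x := fun x hx y hy =>
    Subgroup.le_centralizer_iff_isMulCommutative.mpr hVab hy x hx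
  have hmem : ∀ X Y : Subgroup G, X ≤ V → Y ≤ V → ∀ z ∈ X ⊔ Y, ∃ x ∈ X, ∃ y ∈ Y, x * y = z := by
    intro X Y hX hY z hz
    refine CfsgLib.mem_sup_of_le_normalizer (hinv Y X fun y hy x hx => ?_) hz
    rw [hcomm y (hY hy) x (hX hx), mul_inv_cancel_right]
    exact hx
  have hsupinv : ∀ X Y : Subgroup G, A ≤ Subgroup.normalizer (X : Set G) → A ≤ Subgroup.normalizer (Y : Set G) →
      A ≤ Subgroup.normalizer ((X ⊔ Y : Subgroup G) : Set G) := by
    intro X Y hX hY
    refine hinv A _ fun a ha z hz => ?_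
    exact (sup_le (fun x hx => Subgroup.mem_sup_left (hconj A X hX a ha x hx))
      (fun y hy => Subgroup.mem_sup_right (hconj A Y hY a ha y hy)) :
      X ⊔ Y ≤ (X ⊔ Y).comap (MulAut.conj a).toMonoidHom) hz
  let IsMin : Subgroup G → Prop := fun T => T ≤ V ∧ A ≤ Subgroup.normalizer (T : Set G) ∧ T ≠ ⊥ ∧
    ∀ X : Subgroup G, X ≤ T → A ≤ Subgroup.normalizer (X : Set G) → X = ⊥ ∨ X = T
  set S := sSup {T : Subgroup G | IsMin T} with hS
  have hSV : S ≤ V := sSup_le fun T hT => hT.1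
  have hSH : H ≤ Subgroup.normalizer (S : Set G) := by
    refine hinv H S fun h hh x hx => ?_
    refine (sSup_le fun T hT => ?_ : S ≤ S.comap (MulAut.conj h).toMonoidHom) hx
    rw [← Subgroup.map_le_iff_le_comap]
    refine le_sSup ?_
    obtain ⟨hTV, hTA, hT0, hTmin⟩ := hT
    refine ⟨?_, ?_, ?_, fun X hX hXA => ?_⟩
    · rintro _ ⟨t, ht, rfl⟩
      exact hconj H V hHV h hh t (hTV ht)
    · refine hinv A _ ?_
      rintro a ha _ ⟨t, ht, rfl⟩
      have ha' : h⁻¹ * a * h ∈ A := by simpa using hconj H A hAn h⁻¹ (inv_mem hh) a ha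
      refine ⟨(h⁻¹ * a * h) * t * (h⁻¹ * a * h)⁻¹, hconj A T hTA _ ha' t ht, ?_⟩
      simp [mul_assoc]
    · exact fun e => hT0 ((Subgroup.map_eq_bot_iff_of_injective T (MulAut.conj h).injective).mp e)
    · have hX' : X.comap (MulAut.conj h).toMonoidHom ≤ T := by
        intro y hy
        exact (Subgroup.mem_map_iff_mem (MulAut.conj h).injective).mp (hX hy)
      have hX'A : A ≤ Subgroup.normalizer ((X.comap (MulAut.conj h).toMonoidHom : Subgroup G) : Set G) := by
        refine hinv A _ fun a ha y hy => ?_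
        have h1 := hconj A X hXA (h * a * h⁻¹) (hconj H A hAn h hh a ha) _ hy
        simpa [mul_assoc] using h1
      have hback : (X.comap (MulAut.conj h).toMonoidHom).map (MulAut.conj h).toMonoidHom = X :=
        Subgroup.map_comap_eq_self_of_surjective (MulAut.conj h).surjective X
      rcases hTmin _ hX' hX'A with e | e
      · left; rw [← hback, e, Subgroup.map_bot]
      · right; rw [← hback, e]
  -- `V` is generated by minimal invariant subgroups
  have hStop : S = V := by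
    obtain ⟨W, hWV, hWH, hSW, hSWV⟩ := hss S hSV hSH
    by_cases hW : W = ⊥
    · rw [hW, sup_bot_eq] at hSWV; exact hSWV
    exfalso
    obtain ⟨T, ⟨hTW, hTA, hT0⟩, hTmin⟩ := (Set.toFinite {T : Subgroup G | T ≤ W ∧ A ≤ Subgroup.normalizer (T : Set G) ∧ T ≠ ⊥}).exists_minimal
      ⟨W, le_rfl, hAH.trans hWH, hW⟩
    have hT : IsMin T := ⟨hTW.trans hWV, hTA, hT0, fun X hX hXA => by
      by_cases hX0 : X = ⊥
      · exact Or.inl hX0
      · exact Or.inr (le_antisymm hX (hTmin ⟨hX.trans hTW, hXA, hX0⟩ hX))⟩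
    exact hT0 (le_bot_iff.mp (hSW ▸ le_inf (le_sSup hT) hTW))
  obtain ⟨W, ⟨hWV, hWA, hUW⟩, hWmax⟩ := (Set.toFinite {W : Subgroup G | W ≤ V ∧ A ≤ Subgroup.normalizer (W : Set G) ∧ U ⊓ W = ⊥}).exists_maximal
    ⟨⊥, bot_le, by rw [Subgroup.normalizer_eq_top_iff.mpr inferInstance]; exact le_top, inf_bot_eq _⟩
  refine ⟨W, hWV, hWA, hUW, le_antisymm (sup_le hUV hWV) ?_⟩
  rw [← hStop]
  refine sSup_le fun T hT => ?_
  obtain ⟨hTV, hTA, hT0, hTmin⟩ := hT
  have hI : A ≤ Subgroup.normalizer ((T ⊓ (U ⊔ W) : Subgroup G) : Set G) := by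
    refine hinv A _ fun a ha x hx => ?_
    exact ⟨hconj A T hTA a ha x hx.1, hconj A _ (hsupinv U W hAU hWA) a ha x hx.2⟩
  rcases hTmin _ inf_le_left hI with e | e
  · exfalso
    have h1 : U ⊓ (W ⊔ T) = ⊥ := by
      rw [Subgroup.eq_bot_iff_forall]
      rintro u ⟨hu, huWT⟩
      obtain ⟨w, hw, t, ht, hwt⟩ := hmem W T hWV hTV u huWT
      have h2 : t ∈ T ⊓ (U ⊔ W) := ⟨ht, by
        rw [show t = w⁻¹ * u by rw [← hwt, inv_mul_cancel_left]]
        exact (U ⊔ W).mul_mem (Subgroup.mem_sup_right (W.inv_mem hw)) (Subgroup.mem_sup_left hu)⟩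
      rw [e, Subgroup.mem_bot] at h2
      rw [h2, mul_one] at hwt
      exact (Subgroup.eq_bot_iff_forall _).mp hUW u ⟨hu, hwt ▸ hw⟩
    have h2 : T ≤ W := le_sup_right.trans (hWmax ⟨sup_le hWV hTV, hsupinv W T hWA hTA, h1⟩ le_sup_left)
    exact hT0 (by rw [← e, eq_comm, inf_eq_left]; exact h2.trans le_sup_right)
  · exact e ▸ inf_le_right

end Cfsg.Agent.S3735
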