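import Cfsg.Statements.S3736
import Mathlib
import Cfsg.Agent.Lib.Coprime
import Cfsg.Agent.Lib.CoprimeGen
import Cfsg.Agent.Lib.CoprimeAbelian
import Cfsg.Agent.Lib.PGroup.CyclicMax
import Cfsg.Agent.Lib.Elementary
-- import your own Cfsg.Agent.* helpers here

set_option autoImplicit false
open Cfsg

namespace Cfsg.Agent.S3736

open scoped commutatorElement

/-- The Hall–Higman reduction for a minimal non-trivial action. Let B, A and P be subgroups of a finite group with P a p-group, B normalizing P, and A a normal subgroup of B of order prime to p. Suppose A does not centralize P but centralizes every proper B-invariant subgroup of P. Then [P, A] = P; P is elementary abelian or special; B acts irreducibly on P/Φ(P), that is, the only B-invariant subgroups of P containing Φ(P) are Φ(P) and P; and if p is odd then every element of P has order dividing p. -/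
theorem result {X : Type*} [Group X] [Finite X] {p : ℕ} [Fact p.Prime] (B A P : Subgroup X) (hP : IsPGroup p P) (hBP : B ≤ Subgroup.normalizer (P : Set X)) (hAB : A ≤ B) (hAn : B ≤ Subgroup.normalizer (A : Set X)) (hAp : (Nat.card A).Coprime p) (hnt : ⁅P, A⁆ ≠ ⊥) (hmin : ∀ U : Subgroup X, U < P → B ≤ Subgroup.normalizer (U : Set X) → ⁅U, A⁆ = ⊥) : ⁅P, A⁆ = P ∧ (Cfsg.IsElementaryAbelian p P ∨ Cfsg.IsSpecial p ↥P) ∧ (∀ U : Subgroup X, (frattini ↥P).map P.subtype ≤ U → U ≤ P → B ≤ Subgroup.normalizer (U : Set X) → U = (frattini ↥P).map P.subtype ∨ U = P) ∧ (p ≠ 2 → ∀ x ∈ P, x ^ p = 1) := by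
  obtain ⟨n, hn⟩ := IsPGroup.iff_card.mp hP
  have hAP : A ≤ Subgroup.normalizer (P : Set X) := hAB.trans hBP
  have hcop : (Nat.card A).Coprime (Nat.card P) := by rw [hn]; exact hAp.pow_right n
  have hsolv : Group.IsSolvable A ∨ Group.IsSolvable P := by
    have := hP.isNilpotent
    exact Or.inr inferInstance
  -- invariant proper subgroups are centralised
  have hcen : ∀ U : Subgroup X, U < P → B ≤ Subgroup.normalizer (U : Set X) →
      U ≤ P ⊓ Subgroup.centralizer (A : Set X) := fun U hU hB =>
    le_inf hU.le (Subgroup.commutator_eq_bot_iff_le_centralizer.mp (hmin U hU hB))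
  have hBconj : ∀ b ∈ B, ∀ a ∈ A, b * a * b⁻¹ ∈ A := fun b hb a ha =>
    (Subgroup.mem_normalizer_iff.mp (hAn hb) a).mp ha
  have hBcomm : B ≤ Subgroup.normalizer ((⁅P, A⁆ : Subgroup X) : Set X) := by
    refine Subgroup.le_normalizer_iff.mpr fun b hb x hx => ?_
    have hle : ⁅P, A⁆ ≤ (⁅P, A⁆).comap (MulAut.conj b).toMonoidHom := by
      rw [Subgroup.commutator_le]
      intro y hy a ha
      rw [Subgroup.mem_comap, MulEquiv.coe_toMonoidHom, map_commutatorElement]
      exact Subgroup.commutator_mem_commutator ((Subgroup.mem_normalizer_iff.mp (hBP hb) y).mp hy) (hBconj b hb a ha)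
    exact hle hx
  have hPA : ⁅P, A⁆ = P := by
    by_contra hne
    apply hnt
    rw [← CfsgLib.coprime_commutator_commutator hAP hcop hsolv]
    exact hmin _ (lt_of_le_of_ne (CfsgLib.commutator_le_of_le_normalizer hAP) hne) hBcomm
  set Φ := (frattini ↥P).map P.subtype with hΦ
  set P' := ⁅P, P⁆ with hP'
  have hPne : P ≠ ⊥ := fun e => hnt (by rw [e]; exact Subgroup.commutator_bot_left A)
  have hΦlt : Φ < P := by
    refine lt_of_le_of_ne (Subgroup.map_subtype_le _) fun e => hPne ?_
    have h1 : frattini ↥P = ⊤ := Subgroup.map_injective P.subtype_injective (by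
      rw [← hΦ, e, ← MonoidHom.range_eq_map, Subgroup.range_subtype])
    have h2 : (⊥ : Subgroup ↥P) = ⊤ := frattini_nongenerating (by rw [h1, sup_top_eq])
    have : Subsingleton (Subgroup ↥P) := subsingleton_of_bot_eq_top h2
    have : Subsingleton ↥P := Subgroup.subsingleton_iff.mp this
    exact Subgroup.eq_bot_of_subsingleton P
  obtain ⟨hBΦ, hPΦ⟩ := CfsgLib.le_normalizer_map_characteristic hBP (frattini ↥P)
  have hΦA := hcen Φ hΦlt hBΦ
  have hP'Φ : P' ≤ Φ := by
    rw [hP', hΦ, ← Subgroup.map_subtype_commutator]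
    exact Subgroup.map_mono (CfsgLib.commutator_le_frattini_pGroup hP)
  -- fixed points lie in the derived subgroup
  have hfix : P ⊓ Subgroup.centralizer (A : Set X) ≤ P' := by
    set N := Subgroup.normalizer (P' : Set X) with hN
    have hPN : P ≤ N := CfsgLib.right_le_normalizer_commutator P P
    have hAN : A ≤ N := by
      refine Subgroup.le_normalizer_iff.mpr fun a ha x hx => ?_
      have hle : P' ≤ P'.comap (MulAut.conj a).toMonoidHom := by
        rw [hP', Subgroup.commutator_le]
        intro y hy z hz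
        rw [Subgroup.mem_comap, MulEquiv.coe_toMonoidHom, map_commutatorElement]
        exact Subgroup.commutator_mem_commutator ((Subgroup.mem_normalizer_iff.mp (hAP ha) y).mp hy)
          ((Subgroup.mem_normalizer_iff.mp (hAP ha) z).mp hz)
      exact hle hx
    have hWn : (P'.subgroupOf N).Normal := Subgroup.normal_in_normalizer
    let f := QuotientGroup.mk' (P'.subgroupOf N)
    set V := (P.subgroupOf N).map f with hV
    set A' := (A.subgroupOf N).map f with hA'
    have hVc : IsMulCommutative V := by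
      refine ⟨⟨?_⟩⟩
      rintro ⟨_, x, hx, rfl⟩ ⟨_, y, hy, rfl⟩
      refine Subtype.ext ?_
      show f x * f y = f y * f x
      rw [← map_mul, ← map_mul, QuotientGroup.mk'_apply, QuotientGroup.mk'_apply, QuotientGroup.eq,
        Subgroup.mem_subgroupOf]
      show ((x : X) * (y : X))⁻¹ * ((y : X) * (x : X)) ∈ P'
      rw [show ((x : X) * (y : X))⁻¹ * ((y : X) * (x : X)) = ⁅(y : X)⁻¹, (x : X)⁻¹⁆ by
        rw [commutatorElement_def]; group]
      exact Subgroup.commutator_mem_commutator (P.inv_mem hy) (P.inv_mem hx)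
    have hA'V : A' ≤ Subgroup.normalizer (V : Set _) := by
      refine Subgroup.le_normalizer_iff.mpr ?_
      rintro _ ⟨a, ha, rfl⟩ _ ⟨x, hx, rfl⟩
      refine ⟨a * x * a⁻¹, ?_, by simp⟩
      exact (Subgroup.mem_normalizer_iff.mp (hAP ha) (x : X)).mp hx
    have hcard : ∀ (H : Subgroup X) (hH : H ≤ N), Nat.card ((H.subgroupOf N).map f) ∣ Nat.card H := fun H hH =>
      (Subgroup.card_map_dvd _ f).trans (dvd_of_eq (Nat.card_congr (Subgroup.subgroupOfEquivOfLe hH).toEquiv))
    have hdis := CfsgLib.coprime_abelian_disjoint A' V hA'V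
      ((hcop.coprime_dvd_left (hcard A hAN)).coprime_dvd_right (hcard P hPN))
    have hVA : V ≤ ⁅V, A'⁆ := by
      rintro _ ⟨x, hx, rfl⟩
      rw [hV, hA', ← Subgroup.map_commutator]
      refine Subgroup.mem_map_of_mem f ?_
      have h1 : (x : X) ∈ (⁅P.subgroupOf N, A.subgroupOf N⁆).map N.subtype := by
        rw [Subgroup.map_commutator, Subgroup.map_subgroupOf_eq_of_le hPN, Subgroup.map_subgroupOf_eq_of_le hAN, hPA]
        exact hx
      exact (Subgroup.mem_map_iff_mem N.subtype_injective).mp h1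
    rintro c ⟨hc, hcA⟩
    have h1 : f ⟨c, hPN hc⟩ ∈ (V ⊓ Subgroup.centralizer (A' : Set _)) ⊓ ⁅V, A'⁆ := by
      have hcV : f ⟨c, hPN hc⟩ ∈ V := ⟨⟨c, hPN hc⟩, hc, rfl⟩
      refine ⟨⟨hcV, ?_⟩, hVA hcV⟩
      rintro _ ⟨a, ha, rfl⟩
      rw [← map_mul, ← map_mul]
      exact congrArg f (Subtype.ext (hcA (a : X) ha))
    rw [hdis, Subgroup.mem_bot, QuotientGroup.mk'_apply, QuotientGroup.eq_one_iff] at h1
    exact h1
  have hΦP' : Φ = P' := le_antisymm (hΦA.trans hfix) hP'Φ
  -- the Frattini subgroup is central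
  have hcentral : ∀ c ∈ Φ, ∀ x ∈ P, c * x = x * c := by
    have h1 : ⁅⁅P, A⁆, Φ⁆ = ⊥ := by
      refine Subgroup.commutator_commutator_eq_bot_of_rotate ?_ ?_
      · rw [Subgroup.commutator_comm A Φ, Subgroup.commutator_eq_bot_iff_le_centralizer.mpr (hΦA.trans inf_le_right),
          Subgroup.commutator_bot_left]
      · rw [← le_bot_iff, ← Subgroup.commutator_eq_bot_iff_le_centralizer.mpr (hΦA.trans inf_le_right)]
        exact Subgroup.commutator_mono (by
          rw [Subgroup.commutator_le]
          intro c hc x hx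
          rw [commutatorElement_def, mul_assoc, mul_assoc, ← mul_assoc x]
          exact Φ.mul_mem hc ((Subgroup.mem_normalizer_iff.mp (hPΦ hx) _).mp (Φ.inv_mem hc))) le_rfl
    rw [hPA] at h1
    exact fun c hc x hx => Subgroup.commutator_eq_bot_iff_le_centralizer.mp h1 hx c hc
  have hmem' : ∀ y : ↥P, y ∈ frattini ↥P ↔ (y : X) ∈ Φ := fun y =>
    (Subgroup.mem_map_iff_mem P.subtype_injective).symm
  have hfc : commutator ↥P = frattini ↥P := by
    apply Subgroup.map_injective P.subtype_injective
    rw [Subgroup.map_subtype_commutator]; exact hΦP'.symm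
  have hfcen : frattini ↥P ≤ Subgroup.center ↥P := fun c hc => Subgroup.mem_center_iff.mpr fun x =>
    Subtype.ext (hcentral c ((hmem' c).mp hc) x x.2).symm
  have hpow : ∀ y : ↥P, (y : X) ^ p ∈ Φ := fun y => by
    have h1 := (hmem' _).mp (CfsgLib.pow_mem_frattini_pGroup hP y)
    simpa using h1
  refine ⟨hPA, ?_, ?_, ?_⟩
  · by_cases hab : IsMulCommutative P
    · refine Or.inl ⟨hab, fun a ha => ?_⟩
      have h1 := hpow ⟨a, ha⟩
      have h2 : P' = ⊥ := Subgroup.commutator_eq_bot_iff_le_centralizer.mpr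
        (Subgroup.le_centralizer_iff_isMulCommutative.mpr hab)
      rw [hΦP', h2, Subgroup.mem_bot] at h1
      exact h1
    · right
      refine ⟨hP, le_antisymm hfcen ?_, ?_⟩
      · intro z hz
        rw [hmem']
        have hZlt : (Subgroup.center ↥P).map P.subtype < P := by
          refine lt_of_le_of_ne (Subgroup.map_subtype_le _) fun e => hab ?_
          refine ⟨⟨fun x y => ?_⟩⟩
          have hx : (x : X) ∈ (Subgroup.center ↥P).map P.subtype := e.ge x.2
          exact (Subgroup.mem_center_iff.mp ((Subgroup.mem_map_iff_mem P.subtype_injective).mp hx) y).symm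
        exact hP'Φ (hfix (hcen _ hZlt (CfsgLib.le_normalizer_map_characteristic hBP (Subgroup.center ↥P)).1 ⟨z, hz, rfl⟩))
      · rw [hfc]
        refine le_antisymm hfcen fun z hz => ?_
        rw [hmem']
        have hZlt : (Subgroup.center ↥P).map P.subtype < P := by
          refine lt_of_le_of_ne (Subgroup.map_subtype_le _) fun e => hab ?_
          refine ⟨⟨fun x y => ?_⟩⟩
          have hx : (x : X) ∈ (Subgroup.center ↥P).map P.subtype := e.ge x.2
          exact (Subgroup.mem_center_iff.mp ((Subgroup.mem_map_iff_mem P.subtype_injective).mp hx) y).symm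
        exact hP'Φ (hfix (hcen _ hZlt (CfsgLib.le_normalizer_map_characteristic hBP (Subgroup.center ↥P)).1 ⟨z, hz, rfl⟩))
  · intro U hU hUP hBU
    rcases eq_or_lt_of_le hUP with h | h
    · exact Or.inr h
    · exact Or.inl (le_antisymm (((hcen U h hBU).trans hfix).trans hP'Φ) hU)
  · intro hp2 x hx
    have hcc : commutator ↥P ≤ Subgroup.center ↥P := hfc.le.trans hfcen
    have hexp : ∀ c ∈ commutator ↥P, c ^ p = 1 := by
      have hgen : ∀ u v : ↥P, ⁅u, v⁆ ^ p = 1 := by
        intro u v
        have hc : ⁅u, v⁆ ∈ Subgroup.center ↥P :=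
          hcc (Subgroup.commutator_mem_commutator (Subgroup.mem_top u) (Subgroup.mem_top v))
        have huv : ∀ m : ℕ, u ^ m * v * (u ^ m)⁻¹ * v⁻¹ = ⁅u, v⁆ ^ m := by
          intro m
          induction m with
          | zero => simp
          | succ m ih =>
            have h2 := Subgroup.mem_center_iff.mp hc (u ^ m)
            calc u ^ (m + 1) * v * (u ^ (m + 1))⁻¹ * v⁻¹
                = (u ^ m * ⁅u, v⁆) * v * (u ^ m)⁻¹ * v⁻¹ := by rw [commutatorElement_def, pow_succ]; group
              _ = ⁅u, v⁆ * (u ^ m * v * (u ^ m)⁻¹ * v⁻¹) := by rw [h2]; group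
              _ = ⁅u, v⁆ ^ (m + 1) := by rw [ih, pow_succ']
        rw [← huv p, mul_inv_eq_one, mul_inv_eq_iff_eq_mul]
        exact (Subgroup.mem_center_iff.mp (hfcen (CfsgLib.pow_mem_frattini_pGroup hP u)) v).symm
      intro c hc
      rw [commutator_def, Subgroup.commutator_def] at hc
      induction hc using Subgroup.closure_induction with
      | mem y hy => obtain ⟨u, -, v, -, rfl⟩ := hy; exact hgen u v
      | one => exact one_pow p
      | mul u v hu hv hu1 hv1 =>
        have hu' : u ∈ commutator ↥P := by rw [commutator_def, Subgroup.commutator_def]; exact hu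
        rw [(show Commute u v from (Subgroup.mem_center_iff.mp (hcc hu') v).symm).mul_pow, hu1, hv1, one_mul]
      | inv u _ hu1 => rw [inv_pow, hu1, inv_one]
    let F : ↥P →* ↥P := MonoidHom.mk' (fun y => y ^ p) (CfsgLib.CyclicMax.mul_pow_of_central_commutators hp2 hcc hexp)
    have hle : ⁅P, A⁆ ≤ F.ker.map P.subtype := by
      rw [Subgroup.commutator_le]
      intro y hy a ha
      have hay : a * y⁻¹ * a⁻¹ ∈ P := (Subgroup.mem_normalizer_iff.mp (hAP ha) _).mp (P.inv_mem hy)
      refine ⟨⟨y, hy⟩ * ⟨_, hay⟩, ?_, ?_⟩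
      · show F _ = 1
        rw [map_mul]
        refine Subtype.ext ?_
        show y ^ p * (a * y⁻¹ * a⁻¹) ^ p = 1
        rw [conj_pow, inv_pow, (hΦA (Φ.inv_mem (hpow ⟨y, hy⟩))).2 a ha, mul_inv_cancel_right, mul_inv_cancel]
      · show y * (a * y⁻¹ * a⁻¹) = ⁅y, a⁆
        rw [commutatorElement_def]; group
    obtain ⟨y, hy, hyx⟩ := hle (hPA.ge hx)
    have h1 : y ^ p = 1 := hy
    rw [← show (y : X) = x from hyx, ← SubgroupClass.coe_pow, h1, Subgroup.coe_one]

end Cfsg.Agent.S3736
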