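import Cfsg.Statements.S3738
import Mathlib
import Cfsg.Agent.Lib.CentralizerMaximal
-- import your own Cfsg.Agent.* helpers here

set_option autoImplicit false
open Cfsg

namespace Cfsg.Agent.S3738

section

open Subgroup

variable {Q : Type*} [Group Q] [Finite Q]

theorem free_dvd {H : Type*} [Group H] [Finite H] [MulAction H Q] (s : Set Q) (hs : ∀ g : H, ∀ x ∈ s, g • x ∈ s)
    (hfree : ∀ g : H, ∀ x ∈ s, g • x = x → g = 1) : Nat.card H ∣ s.ncard := by
  classical
  let Y : SubMulAction H Q := ⟨s, fun g x hx => hs g x hx⟩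
  haveI : Fintype (MulAction.orbitRel.Quotient H Y) := Fintype.ofFinite _
  have hstab : ∀ y : Y, MulAction.stabilizer H y = ⊥ := fun y => by
    rw [Subgroup.eq_bot_iff_forall]
    intro g hg
    exact hfree g y.1 y.2 (congrArg Subtype.val hg)
  have e := Nat.card_congr (MulAction.selfEquivSigmaOrbitsQuotientStabilizer H Y)
  rw [Nat.card_sigma] at e
  simp only [hstab, ← Subgroup.index_eq_card, Subgroup.index_bot, Finset.sum_const, smul_eq_mul] at e
  rw [show s.ncard = Nat.card Y from (Nat.card_coe_set_eq s).symm, e]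
  exact dvd_mul_left _ _

/-- Commutator. -/
def cm (a b : Q) : Q := a * b * a⁻¹ * b⁻¹

theorem squares_ne_top (hQ : IsPGroup 2 Q) [Nontrivial Q] : closure (Set.range fun x : Q => x * x) ≠ ⊤ := by
  haveI : Fact (Nat.Prime 2) := ⟨Nat.prime_two⟩
  obtain ⟨M, hM, -⟩ := (eq_top_or_exists_le_coatom (⊥ : Subgroup Q)).resolve_left bot_ne_top
  haveI := hQ.isNilpotent
  haveI : M.Normal := NormalizerCondition.normal_of_coatom M Group.normalizerCondition_of_isNilpotent hM
  obtain ⟨hp, -⟩ := CfsgLib.CentMax.normal_coatom hM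
  obtain ⟨k, hk⟩ := hQ.index M
  have h2 : M.index = 2 := by
    have : M.index ∣ 2 ^ k := hk ▸ dvd_rfl
    exact (Nat.prime_dvd_prime_iff_eq hp Nat.prime_two).mp (hp.dvd_of_dvd_pow this)
  intro h
  refine hM.1 (top_le_iff.mp (h ▸ (closure_le M).mpr ?_))
  rintro _ ⟨x, rfl⟩
  exact mul_self_mem_of_index_two h2 x

theorem arith {a k : ℕ} (S : ℤ) (ha : 8 ≤ a) (h3 : 3 * S = 16 - 2 ^ a) (h2 : S ^ 2 = 0 ∨ S ^ 2 = 2 ^ k) : False := by
  obtain ⟨b, rfl⟩ : ∃ b, a = b + 4 := ⟨a - 4, by omega⟩
  rw [pow_add] at h3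
  have hb : (16 : ℤ) ≤ 2 ^ b :=
    le_trans (by norm_num) (pow_le_pow_right₀ (by norm_num) (show 4 ≤ b by omega))
  rcases h2 with h | h
  · rw [pow_eq_zero_iff two_ne_zero] at h
    subst h
    omega
  · set m : ℤ := 2 ^ b - 1 with hm
    have h9 : (256 : ℤ) * (m * m) = 9 * 2 ^ k := by
      rw [← h, hm]
      linear_combination (-(3 * S + 16 - 2 ^ b * 2 ^ 4)) * h3
    have hodd : IsCoprime m 2 := ⟨-1, 2 ^ (b - 1), by
      rw [hm, ← pow_succ, Nat.sub_add_cancel (by omega : 1 ≤ b)]; ring⟩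
    have hdvd : m * m ∣ 9 * 2 ^ k := ⟨256, by linear_combination -h9⟩
    have := Int.le_of_dvd (by norm_num) ((hodd.mul_left hodd).pow_right.dvd_of_dvd_mul_right hdvd)
    nlinarith

set_option maxHeartbeats 1600000 in
theorem core (hQ : IsPGroup 2 Q) (σ : MulAut Q) (n : ℕ) (hn : 2 ≤ n) (hord : σ ^ 3 ^ n = 1)
    (hfix : ∀ x, σ x = x → x = 1) {φ : MulAut Q} (hφ : φ = σ ^ 3 ^ (n - 1)) (hne : φ ≠ 1)
    (hmin : ∀ H : Subgroup Q, (∀ x ∈ H, σ x ∈ H) → H ≠ ⊤ → ∀ x ∈ H, φ x = x)
    (hrank : ∀ A : Subgroup Q, IsMulCommutative A → (∀ a ∈ A, a ^ 2 = 1) → Nat.card A ≤ 2 ^ 2) : False := by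
  classical
  haveI : Fintype Q := Fintype.ofFinite Q
  haveI : Nontrivial Q := by
    by_contra h
    rw [not_nontrivial_iff_subsingleton] at h
    exact hne (MulEquiv.ext fun x => Subsingleton.elim _ _)
  have hφ3 : φ ^ 3 = 1 := by
    rw [hφ, ← pow_mul, ← pow_succ, Nat.sub_add_cancel (by omega)]; exact hord
  have hφσ : ∀ x, σ (φ x) = φ (σ x) := fun x => by
    rw [hφ]; exact DFunLike.congr_fun ((Commute.refl σ).pow_right _).eq x
  have hcoe : ∀ u x : Q, φ x = u * x → φ u = u → u = 1 := by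
    intro u x h hu
    have h3 := DFunLike.congr_fun hφ3 x
    simp only [pow_succ, pow_zero, one_mul, MulAut.mul_apply, MulAut.one_apply, h, map_mul, hu, ← mul_assoc] at h3
    rw [mul_eq_right, ← pow_three'] at h3
    obtain ⟨k, hk⟩ := hQ u
    have h1 := Nat.dvd_gcd (orderOf_dvd_of_pow_eq_one h3) (orderOf_dvd_of_pow_eq_one hk)
    rw [(Nat.Coprime.pow_right k (by norm_num : Nat.Coprime 3 2)).gcd_eq_one] at h1
    exact orderOf_eq_one_iff.mp (Nat.dvd_one.mp h1)
  set F := closure (Set.range fun x : Q => x * x) with hF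
  have hsq : ∀ x : Q, x * x ∈ F := fun x => subset_closure ⟨x, rfl⟩
  have hFσ : ∀ x ∈ F, σ x ∈ F := by
    intro x hx
    induction hx using closure_induction with
    | mem y hy => obtain ⟨z, rfl⟩ := hy; rw [map_mul]; exact hsq _
    | one => rw [map_one]; exact one_mem _
    | mul a b _ _ ha hb => rw [map_mul]; exact mul_mem ha hb
    | inv a _ ha => rw [map_inv]; exact inv_mem ha
  have hFne : F ≠ ⊤ := squares_ne_top hQ
  have hFfix := hmin F hFσ hFne
  have hFn : F.Normal := ⟨fun x hx g => by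
    induction hx using closure_induction with
    | mem y hy =>
      obtain ⟨z, rfl⟩ := hy
      have e : g * (z * z) * g⁻¹ = (g * z * g⁻¹) * (g * z * g⁻¹) := by group
      show g * (z * z) * g⁻¹ ∈ F
      rw [e]; exact hsq _
    | one => rw [mul_one, mul_inv_cancel]; exact one_mem _
    | mul a b _ _ ha hb =>
      have e : g * (a * b) * g⁻¹ = (g * a * g⁻¹) * (g * b * g⁻¹) := by group
      rw [e]; exact mul_mem ha hb
    | inv a _ ha =>
      have e : g * a⁻¹ * g⁻¹ = (g * a * g⁻¹)⁻¹ := by group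
      rw [e]; exact inv_mem ha⟩
  set D := closure (Set.range fun x : Q => φ x * x⁻¹) with hD
  have hDσ : ∀ x ∈ D, σ x ∈ D := by
    intro x hx
    induction hx using closure_induction with
    | mem y hy =>
      obtain ⟨z, rfl⟩ := hy
      rw [map_mul, map_inv, hφσ]; exact subset_closure ⟨σ z, rfl⟩
    | one => rw [map_one]; exact one_mem _
    | mul a b _ _ ha hb => rw [map_mul]; exact mul_mem ha hb
    | inv a _ ha => rw [map_inv]; exact inv_mem ha
  have hDtop : D = ⊤ := by
    by_contra h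
    refine hne (MulEquiv.ext fun x => ?_)
    have hu := hmin D hDσ h _ (subset_closure ⟨x, rfl⟩)
    exact mul_inv_eq_one.mp (hcoe _ x (inv_mul_cancel_right _ _).symm hu)
  have hcen : ∀ w ∈ F, ∀ y : Q, y * w = w * y := by
    intro w hw y
    have hy : y ∈ D := hDtop ▸ mem_top y
    have hle : D ≤ centralizer {w} := (closure_le _).mpr fun _ ⟨x, hx⟩ => by
      have h1 := hFfix _ (hFn.conj_mem w hw x⁻¹)
      simp only [map_mul, map_inv, hFfix w hw, inv_inv] at h1
      rw [SetLike.mem_coe, mem_centralizer_singleton_iff, ← hx]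
      show φ x * x⁻¹ * w = w * (φ x * x⁻¹)
      calc φ x * x⁻¹ * w = φ x * (x⁻¹ * w * x) * x⁻¹ := by group
        _ = φ x * ((φ x)⁻¹ * w * φ x) * x⁻¹ := by rw [h1]
        _ = w * (φ x * x⁻¹) := by group
    exact mem_centralizer_singleton_iff.mp (hle hy)
  have hcm : ∀ a b : Q, cm a b ∈ F := by
    intro a b
    have e : cm a b = (a * b) * (a * b) * (b⁻¹ * (a * a)⁻¹ * b⁻¹⁻¹) * (b * b)⁻¹ := by
      unfold cm; group
    rw [e]
    exact mul_mem (mul_mem (hsq _) (hFn.conj_mem _ (inv_mem (hsq _)) _)) (inv_mem (hsq _))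
  have hsqmul : ∀ x t : Q, x * t * (x * t) = (x * x) * (t * t) * cm t x := by
    intro x t
    rw [mul_assoc (x * x), hcen _ (hcm t x), ← mul_assoc (x * x)]
    calc x * t * (x * t) = x * (t * x * t⁻¹ * x⁻¹) * (x * t * t) := by group
      _ = (cm t x * x) * (x * t * t) := by rw [show t * x * t⁻¹ * x⁻¹ = cm t x from rfl, hcen _ (hcm t x)]
      _ = cm t x * (x * x) * (t * t) := by group
      _ = x * x * cm t x * (t * t) := by rw [hcen _ (hcm t x)]
      _ = _ := by group
  have hcmr : ∀ t x y : Q, cm t (x * y) = cm t x * cm t y := by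
    intro t x y
    calc cm t (x * y) = cm t x * (x * cm t y * x⁻¹) := by unfold cm; group
      _ = cm t x * cm t y := by rw [hcen _ (hcm t y), mul_inv_cancel_right]
  have hcml : ∀ t s x : Q, cm (t * s) x = cm t x * cm s x := by
    intro t s x
    calc cm (t * s) x = t * cm s x * t⁻¹ * cm t x := by unfold cm; group
      _ = cm s x * cm t x := by rw [hcen _ (hcm s x), mul_inv_cancel_right]
      _ = cm t x * cm s x := (hcen _ (hcm s x) _).symm
  have hc2 : ∀ t x : Q, cm t x * cm t x = 1 := by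
    intro t x
    rw [← hcml, cm, ← hcen _ (hsq t) x]
    group
  have hp4 : ∀ x y : Q, (x * y) ^ 4 = x ^ 4 * y ^ 4 := by
    intro x y
    have e : ∀ z : Q, z ^ 4 = (z * z) * (z * z) := fun z => by rw [show (4 : ℕ) = 2 + 2 from rfl, pow_add, pow_two]
    rw [e (x * y), e x, e y, hsqmul x y]
    have c1 : Commute (cm y x) (x * x * (y * y)) := (hcen _ (hcm y x) _).symm
    have c2 : Commute (y * y) (x * x) := hcen _ (hsq x) _
    show x * x * (y * y) * cm y x * (x * x * (y * y) * cm y x) = _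
    rw [c1.mul_mul_mul_comm, hc2, mul_one, c2.mul_mul_mul_comm]
  have hexp : ∀ x : Q, x ^ 4 = 1 := by
    let f : Q →* Q := MonoidHom.mk' (fun x => x ^ 4) hp4
    have hle : D ≤ f.ker := (closure_le _).mpr fun _ ⟨x, hx⟩ => by
      show f _ = 1
      subst hx
      show (φ x * x⁻¹) ^ 4 = 1
      rw [hp4, inv_pow, mul_inv_eq_one, ← map_pow]
      refine hFfix _ ?_
      rw [show (4 : ℕ) = 2 + 2 from rfl, pow_add, pow_two]
      exact mul_mem (hsq x) (hsq x)
    intro x
    exact hle (hDtop ▸ mem_top x)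
  have hF2 : ∀ w ∈ F, w * w = 1 := by
    intro w hw
    induction hw using closure_induction with
    | mem y hy => obtain ⟨z, rfl⟩ := hy; rw [← hexp z]; show z * z * (z * z) = _; rw [show (4 : ℕ) = 2 + 2 from rfl, pow_add, pow_two]
    | one => rw [one_mul]
    | mul a b ha _ iha ihb =>
      rw [mul_assoc, ← mul_assoc b, hcen a ha b, mul_assoc a, ihb, mul_one, iha]
    | inv a _ iha => rw [← mul_inv_rev, iha, inv_one]
  haveI hFc : IsMulCommutative F := ⟨⟨fun a b => Subtype.ext (hcen b b.2 a)⟩⟩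
  -- centralizer of `φ`
  haveI : IsMulCommutative (Q ⧸ F) := ⟨⟨fun a b => by
    obtain ⟨a, rfl⟩ := QuotientGroup.mk_surjective a
    obtain ⟨b, rfl⟩ := QuotientGroup.mk_surjective b
    have h1 : ((cm a b : Q) : Q ⧸ F) = 1 := (QuotientGroup.eq_one_iff _).mpr (hcm a b)
    rw [cm, QuotientGroup.mk_mul, QuotientGroup.mk_mul, QuotientGroup.mk_mul, QuotientGroup.mk_inv,
      QuotientGroup.mk_inv, mul_inv_eq_one, mul_inv_eq_iff_eq_mul] at h1
    exact h1⟩⟩
  let τ : Q →* Q ⧸ F := MonoidHom.mk' (fun x => ((φ x * x⁻¹ : Q) : Q ⧸ F)) fun x y => by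
    have hc : ∀ a b : Q ⧸ F, a * b = b * a := fun a b => IsMulCommutative.is_comm.comm a b
    simp only [map_mul, mul_inv_rev, QuotientGroup.mk_mul, QuotientGroup.mk_inv]
    rw [hc (y : Q ⧸ F)⁻¹ (x : Q ⧸ F)⁻¹]
    rw [mul_assoc, ← mul_assoc (φ y : Q ⧸ F), hc (φ y : Q ⧸ F) (x : Q ⧸ F)⁻¹]
    group
  have hτs : τ.range = ⊤ := by
    rw [eq_top_iff, ← Subgroup.map_top_of_surjective (QuotientGroup.mk' F) (QuotientGroup.mk'_surjective F),
      ← hDtop, hD, MonoidHom.map_closure, closure_le]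
    rintro _ ⟨_, ⟨x, rfl⟩, rfl⟩
    exact ⟨x, rfl⟩
  have hτk : ∀ x, τ x = 1 → φ x = x := fun x hx =>
    mul_inv_eq_one.mp (hcoe _ x (inv_mul_cancel_right _ _).symm (hFfix _ ((QuotientGroup.eq_one_iff _).mp hx)))
  have hker : F = τ.ker := by
    refine Subgroup.eq_of_le_of_card_ge (fun x hx => ?_) (le_of_eq ?_)
    · show ((φ x * x⁻¹ : Q) : Q ⧸ F) = 1
      rw [hFfix x hx, mul_inv_cancel]; rfl
    · have e : τ.ker.index = F.index := by rw [Subgroup.index_ker, hτs, card_top]; rfl
      have h1 := τ.ker.card_mul_index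
      rw [e, ← F.card_mul_index] at h1
      exact Nat.eq_of_mul_eq_mul_right (Nat.pos_of_ne_zero index_ne_zero_of_finite) h1
  have hfixF : ∀ x, φ x = x → x ∈ F := fun x hx => by
    rw [hker]
    show ((φ x * x⁻¹ : Q) : Q ⧸ F) = 1
    rw [hx, mul_inv_cancel]; rfl
  -- orbits of `σ`
  have hσo : orderOf σ = 3 ^ n := by
    haveI : Fact (Nat.Prime 3) := ⟨Nat.prime_three⟩
    have e := orderOf_eq_prime_pow (x := σ) (p := 3) (n := n - 1) (by rw [← hφ]; exact hne)
      (by rw [Nat.sub_add_cancel (by omega)]; exact hord)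
    rwa [Nat.sub_add_cancel (by omega)] at e
  have hσk : ∀ (g : MulAut Q), g ∈ zpowers σ → ∀ x, x ∉ F → g x ∉ F := by
    intro g hg x hx h
    obtain ⟨m, rfl⟩ := mem_zpowers_iff.mp hg
    refine hx (hfixF x ?_)
    have h1 := hFfix _ h
    have hc : Commute φ (σ ^ m) := by rw [hφ]; exact ((Commute.refl σ).pow_left _).zpow_right m
    rw [← MulAut.mul_apply, hc.eq, MulAut.mul_apply] at h1
    exact (σ ^ m).injective h1
  have h9 : 9 ∣ Set.ncard ((F : Set Q)ᶜ) := by
    have h := free_dvd (H := zpowers σ) ((F : Set Q)ᶜ) (fun g x hx => hσk g g.2 x hx) (by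
      rintro ⟨g, hg⟩ x hx hgx
      by_contra hg1
      haveI : Fact (Nat.Prime 3) := ⟨Nat.prime_three⟩
      obtain ⟨j, hj, hjo⟩ := (Nat.dvd_prime_pow Nat.prime_three).mp (hσo ▸ orderOf_dvd_of_mem_zpowers hg)
      have hj0 : j ≠ 0 := by
        rintro rfl
        exact hg1 (Subtype.ext (orderOf_eq_one_iff.mp (by simpa using hjo)))
      have hmem : φ ∈ zpowers g := by
        obtain ⟨i, rfl⟩ := (isOfFinOrder_of_finite σ).mem_powers_iff_mem_zpowers.mpr hg
        set h := (σ ^ i) ^ 3 ^ (j - 1) with hh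
        have hh1 : h ≠ 1 := by
          intro e
          have := orderOf_dvd_of_pow_eq_one e
          rw [hjo, Nat.pow_dvd_pow_iff_le_right (by norm_num)] at this
          omega
        have h3 : σ ^ (i * 3 ^ (j - 1) * 3) = 1 := by
          rw [mul_assoc, pow_mul, ← pow_succ, Nat.sub_add_cancel (by omega), ← hjo]
          exact pow_orderOf_eq_one _
        have h4 : 3 ^ (n - 1) * 3 ∣ i * 3 ^ (j - 1) * 3 := by
          rw [← pow_succ, Nat.sub_add_cancel (by omega), ← hσo]
          exact orderOf_dvd_of_pow_eq_one h3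
        obtain ⟨k, hk⟩ := Nat.eq_mul_of_div_eq_right (Nat.dvd_of_mul_dvd_mul_right (by norm_num) h4) rfl
          |> fun e => (⟨_, e⟩ : ∃ k, i * 3 ^ (j - 1) = 3 ^ (n - 1) * k)
        have hhk : h = φ ^ (k % 3) := by
          rw [hh, ← pow_mul, hk, pow_mul, ← hφ]
          exact pow_eq_pow_mod k hφ3
        have hk3 : k % 3 = 1 ∨ k % 3 = 2 := by
          have : k % 3 ≠ 0 := fun e => hh1 (by rw [hhk, e, pow_zero])
          omega
        have hhm : h ∈ zpowers (σ ^ i) := pow_mem (mem_zpowers _) _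
        rcases hk3 with e | e <;> rw [e] at hhk
        · rw [pow_one] at hhk; exact hhk ▸ hhm
        · have : φ = h ^ 2 := by rw [hhk, ← pow_mul]; exact (pow_eq_pow_mod 4 hφ3).trans (by simp) |>.symm
          exact this ▸ pow_mem hhm 2
      obtain ⟨m, hm⟩ := mem_zpowers_iff.mp hmem
      refine hx (hfixF x ?_)
      have : g ∈ MulAction.stabilizer (MulAut Q) x := hgx
      rw [← hm]
      exact zpow_mem this m)
    rw [Nat.card_zpowers, hσo] at h
    exact (pow_dvd_pow 3 hn).trans h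
  obtain ⟨a, ha⟩ := IsPGroup.iff_card.mp hQ
  obtain ⟨f, hf⟩ := IsPGroup.iff_card.mp (hQ.to_subgroup F)
  have hFcard : Nat.card F ≤ 4 := hrank F hFc fun w hw => by rw [pow_two]; exact hF2 w hw
  have hFlt : f < a := by
    refine (Nat.pow_lt_pow_iff_right (show 1 < 2 by norm_num)).mp ?_
    rw [← ha, ← hf]
    exact lt_of_le_of_ne (Subgroup.card_le_card_group F) fun e => hFne (Subgroup.eq_top_of_card_eq F e)
  have hcompl : Set.ncard ((F : Set Q)ᶜ) = 2 ^ a - 2 ^ f := by
    rw [Set.ncard_compl, ← Nat.card_coe_set_eq, ha]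
    exact congrArg (2 ^ a - ·) hf
  rw [hcompl] at h9
  have ha6 : f + 6 ≤ a := by
    by_contra hlt
    rw [hf] at hFcard
    have hf2 : f ≤ 2 := (Nat.pow_le_pow_iff_right (show 1 < 2 by norm_num)).mp hFcard
    have : a ≤ 7 := by omega
    interval_cases f <;> interval_cases a <;> omega
  -- an elementary abelian subgroup from an involution
  have hinv : ∀ t, t * t = 1 → t ∉ F → 2 * Nat.card F ≤ 4 := by
    intro t ht htF
    set A := closure (insert t (F : Set Q)) with hA
    have hcomm : ∀ u ∈ insert t (F : Set Q), ∀ v ∈ insert t (F : Set Q), u * v = v * u := by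
      rintro u (rfl | hu) v (rfl | hv)
      · rfl
      · exact hcen v hv _
      · exact (hcen u hu _).symm
      · exact hcen v hv u
    haveI hAc : IsMulCommutative A := Subgroup.isMulCommutative_closure hcomm
    have h2 : ∀ x ∈ A, x ^ 2 = 1 := by
      intro x hx
      induction hx using closure_induction with
      | mem y hy => rcases hy with rfl | hy <;> rw [pow_two]; exacts [ht, hF2 y hy]
      | one => exact one_pow 2
      | mul p q hp hq ihp ihq =>
        have : Commute p q := congrArg Subtype.val (IsMulCommutative.is_comm.comm (⟨p, hp⟩ : A) ⟨q, hq⟩)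
        rw [this.mul_pow, ihp, ihq, one_mul]
      | inv p _ ihp => rw [inv_pow, ihp, inv_one]
    have hlt : F < A := lt_of_le_of_ne (fun x hx => subset_closure (Or.inr hx)) fun e =>
      htF (e ▸ subset_closure (Or.inl rfl))
    obtain ⟨c, hc⟩ := IsPGroup.iff_card.mp (hQ.to_subgroup A)
    have h4 := hrank A hAc h2
    rw [hc] at h4
    have h5 : Nat.card F < Nat.card A := lt_of_le_of_ne (Subgroup.card_le_of_le hlt.le) fun e =>
      hlt.ne (Subgroup.eq_of_le_of_card_ge hlt.le e.ge)
    rw [hf, hc] at h5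
    rw [hf, ← pow_succ']
    exact le_trans (Nat.pow_le_pow_right (by norm_num) ((Nat.pow_lt_pow_iff_right (by norm_num)).mp h5)) h4
  have hF4 : Nat.card F = 4 := by
    have h3 : Nat.card F ≠ 2 := by
      intro h
      haveI : Nontrivial F := Finite.one_lt_card_iff_nontrivial.mp (by omega)
      obtain ⟨w, hw⟩ := exists_ne (1 : F)
      have := Nat.card_eq_two_iff' (1 : F) |>.mp h
      obtain ⟨y, -, hy⟩ := this
      have e := (hy ⟨σ w, hFσ w w.2⟩ (fun e => hw (Subtype.ext (σ.injective (by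
        simpa using congrArg Subtype.val e))))).trans (hy w hw).symm
      exact hw (Subtype.ext (hfix w (congrArg Subtype.val e)))
    have h1 : Nat.card F ≠ 1 := by
      intro h
      have hbot := Subgroup.eq_bot_of_card_eq F h
      have hall : ∀ x : Q, x * x = 1 := fun x => by
        have := hsq x; rwa [hbot, Subgroup.mem_bot] at this
      haveI : IsMulCommutative (⊤ : Subgroup Q) := ⟨⟨fun p q => Subtype.ext (by
        have := hcm p q
        rw [hbot, Subgroup.mem_bot, cm, mul_inv_eq_one, mul_inv_eq_iff_eq_mul] at this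
        exact this)⟩⟩
      have := hrank ⊤ inferInstance fun x _ => by rw [pow_two]; exact hall x
      rw [card_top, ha] at this
      have := (Nat.pow_le_pow_iff_right (show 1 < 2 by norm_num)).mp this
      omega
    rw [hf] at hFcard h3 h1 ⊢
    have : f ≤ 2 := (Nat.pow_le_pow_iff_right (show 1 < 2 by norm_num)).mp hFcard
    interval_cases f
    · exact absurd rfl h1
    · exact absurd rfl h3
    · rfl
  have hf2 : f = 2 := Nat.pow_right_injective (le_refl 2) (hf.symm.trans hF4)
  have hinv' : ∀ x : Q, x * x = 1 ↔ x ∈ F := fun x => ⟨fun h => by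
    by_contra hx
    have := hinv x h hx
    omega, hF2 x⟩
  -- the three characters
  obtain ⟨⟨w, hw⟩, hw1⟩ : ∃ w : F, w ≠ 1 := by
    haveI : Nontrivial F := Finite.one_lt_card_iff_nontrivial.mp (by omega)
    exact exists_ne 1
  replace hw1 : w ≠ 1 := fun e => hw1 (Subtype.ext e)
  let χ : Q → Q → ℤ := fun u v => if v = 1 ∨ v = u then 1 else -1
  let ψ : Q → Q → ℤ := fun u x => χ u (x * x)
  let S : Q → ℤ := fun u => ∑ x, ψ u x
  have hne1 : σ w ≠ w := fun e => hw1 (hfix w e)
  have hne2 : σ (σ w) ≠ w := by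
    intro e
    have hodd : ∀ m : ℕ, (σ ^ (2 * m + 1)) w = σ w := fun m => by
      induction m with
      | zero => simp
      | succ m ih =>
        rw [show 2 * (m + 1) + 1 = 2 * m + 1 + 2 by ring, pow_add, pow_two, MulAut.mul_apply, MulAut.mul_apply, e, ih]
    obtain ⟨m, hm⟩ : Odd (3 ^ n) := Odd.pow (by decide)
    have := hodd m
    rw [← hm, hord, MulAut.one_apply] at this
    exact hne1 this.symm
  have hne3 : σ (σ w) ≠ σ w := fun e => hne1 (σ.injective e)
  have hσw1 : σ w ≠ 1 := fun e => hw1 (σ.injective (e.trans (map_one σ).symm))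
  have hσσw1 : σ (σ w) ≠ 1 := fun e => hσw1 (σ.injective (e.trans (map_one σ).symm))
  have hFset : ∀ v ∈ F, v = 1 ∨ v = w ∨ v = σ w ∨ v = σ (σ w) := by
    intro v hv
    by_contra h
    push Not at h
    have h5 : ({1, w, σ w, σ (σ w), v} : Finset Q).card ≤ Nat.card F := by
      rw [Nat.card_eq_fintype_card, ← Finset.card_univ, ← Finset.card_map ⟨Subtype.val, Subtype.val_injective⟩]
      refine Finset.card_le_card fun y hy => ?_
      simp only [Finset.mem_insert, Finset.mem_singleton] at hy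
      simp only [Finset.mem_map, Finset.mem_univ, true_and, Function.Embedding.coeFn_mk]
      refine ⟨⟨y, ?_⟩, rfl⟩
      rcases hy with rfl | rfl | rfl | rfl | rfl
      exacts [one_mem F, hw, hFσ _ hw, hFσ _ (hFσ _ hw), hv]
    obtain ⟨h1, h2, h3, h4⟩ := h
    rw [Finset.card_insert_of_notMem (by simp [hw1.symm, hσw1.symm, hσσw1.symm, Ne.symm h1]),
      Finset.card_insert_of_notMem (by simp [hne1.symm, hne2.symm, Ne.symm h2]),
      Finset.card_insert_of_notMem (by simp [hne3.symm, Ne.symm h3]),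
      Finset.card_insert_of_notMem (by simp [Ne.symm h4]), Finset.card_singleton, hF4] at h5
    omega
  have hsum : ∀ x, ψ w x + ψ (σ w) x + ψ (σ (σ w)) x = if x ∈ F then 3 else -1 := by
    intro x
    by_cases hx : x ∈ F
    · rw [if_pos hx]
      simp only [ψ, χ, (hinv' x).mpr hx, true_or, if_true]
      norm_num
    · rw [if_neg hx]
      have h1 : x * x ≠ 1 := fun e => hx ((hinv' x).mp e)
      rcases hFset _ (hsq x) with e | e | e | e
      · exact absurd e h1
      all_goals
        simp only [ψ, χ, e, hw1, hσw1, hσσw1, hne1, hne2, hne3, hne1.symm, hne2.symm, hne3.symm, or_self, or_true, false_or, if_true, if_false]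
        norm_num
  have hSσ : ∀ u, S (σ u) = S u := by
    intro u
    refine (Fintype.sum_equiv σ.toEquiv _ _ fun x => ?_).symm
    show ψ u x = ψ (σ u) (σ x)
    simp only [ψ, χ, ← map_mul, σ.injective.eq_iff, map_eq_one_iff σ σ.injective]
  have h3S : 3 * S w = 16 - 2 ^ a := by
    calc 3 * S w = S w + S (σ w) + S (σ (σ w)) := by rw [hSσ (σ w), hSσ w]; ring
      _ = ∑ x, (if x ∈ F then (3 : ℤ) else -1) := by
          simp only [S, ← Finset.sum_add_distrib, hsum]
      _ = ∑ x, ((if x ∈ F then (4 : ℤ) else 0) - 1) := Finset.sum_congr rfl fun x _ => by split_ifs <;> norm_num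
      _ = 16 - 2 ^ a := by
          rw [Finset.sum_sub_distrib, ← Finset.sum_filter, Finset.sum_const, Finset.sum_const, Finset.card_univ,
            ← Fintype.card_subtype, ← Nat.card_eq_fintype_card, ← Nat.card_eq_fintype_card, hF4, ha]
          simp
  -- multiplicativity
  have hχ : ∀ u ∈ F, ∀ v ∈ F, χ w (u * v) = χ w u * χ w v := by
    intro u hu v hv
    have hww : w * w = 1 := hF2 w hw
    have hp : σ w * σ (σ w) = w := by
      rcases hFset _ (mul_mem (hFσ _ hw) (hFσ _ (hFσ _ hw))) with e | e | e | e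
      · exfalso
        have h1 : σ (σ w) = (σ w)⁻¹ := eq_inv_of_mul_eq_one_right e
        rw [inv_eq_of_mul_eq_one_right (hF2 _ (hFσ _ hw))] at h1
        exact hne3 h1
      · exact e
      · exact absurd (mul_eq_left.mp e) hσσw1
      · exact absurd (mul_eq_right.mp e) hσw1
    have hp' : σ (σ w) * σ w = w := (hcen _ (hFσ _ hw) _).trans hp
    have hKv : ∀ v ∈ F, χ w (w * v) = χ w v := by
      intro v _
      have e1 : w * v = 1 ↔ v = w := by
        rw [mul_eq_one_iff_inv_eq, inv_eq_of_mul_eq_one_right hww, eq_comm]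
      have e2 : w * v = w ↔ v = 1 := mul_eq_left
      simp only [χ, e1, e2, or_comm]
    have hχ1 : χ w 1 = 1 := if_pos (Or.inl rfl)
    have hχw : χ w w = 1 := if_pos (Or.inr rfl)
    rcases hFset u hu with rfl | rfl | rfl | rfl
    · rw [one_mul, hχ1, one_mul]
    · rw [hKv v hv, hχw, one_mul]
    all_goals
      rcases hFset v hv with rfl | rfl | rfl | rfl
      · rw [mul_one, hχ1, mul_one]
      · rw [hcen _ hw, hKv _ (by first | exact hFσ _ hw | exact hFσ _ (hFσ _ hw)), hχw, mul_one]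
      all_goals
        first
          | rw [hp]
          | rw [hp']
          | rw [hF2 _ hu]
        simp only [χ, hne1, hne2, hσw1, hσσw1, or_self, or_true, true_or, if_true, if_false]
        norm_num
  have hψmul : ∀ x t, ψ w (x * t) = ψ w x * ψ w t * χ w (cm t x) := by
    intro x t
    simp only [ψ]
    rw [hsqmul, hχ _ (mul_mem (hsq x) (hsq t)) _ (hcm t x), hχ _ (hsq x) _ (hsq t)]
  have hψ2 : ∀ x, ψ w x * ψ w x = 1 := fun x => by simp only [ψ, χ]; split_ifs <;> norm_num
  let R : Subgroup Q :=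
    { carrier := {t | ∀ x, χ w (cm t x) = 1}
      one_mem' := fun x => by simp [cm, χ]
      mul_mem' := fun {s t} hs ht x => by rw [hcml, hχ _ (hcm s x) _ (hcm t x), hs x, ht x, one_mul]
      inv_mem' := fun {t} ht x => by
        have e : cm t⁻¹ x = (cm t x)⁻¹ := eq_inv_of_mul_eq_one_left (by rw [← hcml]; simp [cm])
        rw [e, inv_eq_of_mul_eq_one_right (hF2 _ (hcm t x))]; exact ht x }
  have hB : ∀ t, (∑ x, χ w (cm t x)) = if t ∈ R then (2 : ℤ) ^ a else 0 := by
    intro t
    split_ifs with h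
    · rw [Finset.sum_congr rfl fun x _ => h x, Finset.sum_const, Finset.card_univ, ← Nat.card_eq_fintype_card, ha]
      simp
    · obtain ⟨x0, hx0⟩ := not_forall.mp h
      have hm : χ w (cm t x0) = -1 := if_neg fun hh => hx0 (if_pos hh)
      have := Fintype.sum_equiv (Equiv.mulRight x0) (fun x => χ w (cm t (x * x0))) (fun x => χ w (cm t x)) fun x => rfl
      simp only [hcmr, fun x => hχ _ (hcm t x) _ (hcm t x0), hm, mul_neg, mul_one, Finset.sum_neg_distrib] at this
      linarith
  have hS2 : S w ^ 2 = 2 ^ a * ∑ t : R, ψ w t := by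
    calc S w ^ 2 = ∑ x, ∑ t, ψ w x * ψ w t := by rw [pow_two, Finset.sum_mul_sum]
      _ = ∑ x, ∑ t, ψ w x * ψ w (x * t) := Finset.sum_congr rfl fun x _ =>
          (Fintype.sum_equiv (Equiv.mulLeft x) _ _ fun t => rfl).symm
      _ = ∑ x, ∑ t, ψ w t * χ w (cm t x) := Finset.sum_congr rfl fun x _ => Finset.sum_congr rfl fun t _ => by
          rw [hψmul, ← mul_assoc, ← mul_assoc, hψ2, one_mul]
      _ = ∑ t, ψ w t * ∑ x, χ w (cm t x) := by rw [Finset.sum_comm]; simp only [Finset.mul_sum]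
      _ = ∑ t, if t ∈ R then 2 ^ a * ψ w t else 0 := Finset.sum_congr rfl fun t _ => by
          rw [hB]; split_ifs <;> ring
      _ = 2 ^ a * ∑ t : R, ψ w t := by
          rw [← Finset.sum_filter, ← Finset.mul_sum]
          congr 1
          exact Finset.sum_subtype _ (by simp) _
  have hfin : ∃ k : ℕ, S w ^ 2 = 0 ∨ S w ^ 2 = 2 ^ k := by
    by_cases h : ∀ t : R, ψ w t = 1
    · obtain ⟨r, hr⟩ := IsPGroup.iff_card.mp (hQ.to_subgroup R)
      refine ⟨a + r, Or.inr ?_⟩
      rw [hS2, Finset.sum_congr rfl fun t _ => h t, Finset.sum_const, Finset.card_univ, ← Nat.card_eq_fintype_card, hr]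
      simp [pow_add]
    · obtain ⟨t0, ht0⟩ := not_forall.mp h
      refine ⟨0, Or.inl ?_⟩
      have hm : ψ w t0 = -1 := if_neg fun hh => ht0 (if_pos hh)
      have e := Fintype.sum_equiv (Equiv.mulRight t0) (fun t : R => ψ w ((t * t0 : R) : Q)) (fun t : R => ψ w t) fun t => rfl
      have e2 : ∀ t : R, ψ w ((t * t0 : R) : Q) = - ψ w t := fun t => by
        rw [Subgroup.coe_mul, hψmul, hm, t0.2 t]; ring
      simp only [e2, Finset.sum_neg_distrib] at e
      rw [hS2, show (∑ t : R, ψ w t) = 0 by linarith, mul_zero]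
  obtain ⟨k, hk⟩ := hfin
  exact arith (S w) (by omega : 8 ≤ a) h3S hk

end

/-- Let d be a non-identity 3-element of a finite group and P a 2-subgroup normalized by d on which ⟨d⟩ acts faithfully (no non-identity power of d centralizes P) and without non-identity fixed points (C_P(d) = 1). If every abelian subgroup of P has 2-rank at most 2, then d has order 3. -/
theorem result {X : Type*} [Group X] [Finite X] (d : X) (n : ℕ) (hn : 1 ≤ n) (hd : orderOf d = 3 ^ n) (P : Subgroup X) (hP : IsPGroup 2 P) (hdP : d ∈ Subgroup.normalizer (P : Set X)) (hfaith : Subgroup.zpowers d ⊓ Subgroup.centralizer (P : Set X) = ⊥) (hfpf : P ⊓ Subgroup.centralizer {d} = ⊥) (hrank : ∀ V : Subgroup X, V ≤ P → IsMulCommutative V → Cfsg.PRankLE 2 2 V) : orderOf d = 3 := by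
  classical
  haveI : Fact (Nat.Prime 3) := ⟨Nat.prime_three⟩
  by_contra hne
  have hn2 : 2 ≤ n := by
    rcases Nat.lt_or_ge n 2 with h | h
    · exfalso; exact hne (by rw [hd, show n = 1 by omega, pow_one])
    · exact h
  set z := d ^ 3 ^ (n - 1) with hz
  let Inv : Subgroup X → Prop := fun H => H ≤ P ∧ d ∈ Subgroup.normalizer (H : Set X) ∧ ∃ x ∈ H, z * x ≠ x * z
  have hz1 : z ≠ 1 := by
    intro e
    have := orderOf_dvd_of_pow_eq_one e
    rw [hd, Nat.pow_dvd_pow_iff_le_right (by norm_num)] at this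
    omega
  have hInvP : Inv P := by
    refine ⟨le_rfl, hdP, ?_⟩
    by_contra h
    push Not at h
    refine hz1 (Subgroup.mem_bot.mp (hfaith ▸ Subgroup.mem_inf.mpr ⟨pow_mem (Subgroup.mem_zpowers d) _, ?_⟩))
    exact Subgroup.mem_centralizer_iff.mpr fun x hx => (h x hx).symm
  obtain ⟨H, hH⟩ := Set.Finite.exists_minimal (s := {H | Inv H}) (Set.toFinite _) ⟨P, hInvP⟩
  obtain ⟨hHP, hdH, x0, hx0, hx0z⟩ := hH.1
  set σ := Subgroup.normalizerMonoidHom H ⟨d, hdH⟩ with hσ
  have hσa : ∀ x : H, (σ x : X) = d * x * d⁻¹ := fun x => rfl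
  have hσp : ∀ (m : ℕ) (x : H), (((σ ^ m) x : H) : X) = d ^ m * x * (d ^ m)⁻¹ := fun m x => by
    rw [hσ, ← map_pow]; rfl
  refine core ((hP.to_le hHP)) σ n hn2 ?_ ?_ rfl ?_ ?_ ?_
  · ext x
    rw [hσp, ← hd, pow_orderOf_eq_one]; simp
  · intro x hx
    have h1 : (x : X) ∈ P ⊓ Subgroup.centralizer {d} := Subgroup.mem_inf.mpr ⟨hHP x.2,
      Subgroup.mem_centralizer_singleton_iff.mpr (by
        have := congrArg Subtype.val hx
        rw [hσa, mul_inv_eq_iff_eq_mul] at this
        first | exact this | exact this.symm)⟩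
    rw [hfpf, Subgroup.mem_bot] at h1
    exact Subtype.ext h1
  · intro e
    refine hx0z (mul_inv_eq_iff_eq_mul.mp ?_)
    have := congrArg Subtype.val (DFunLike.congr_fun e ⟨x0, hx0⟩)
    rwa [hσp] at this
  · intro K hK hKtop x hx
    have hKd : d ∈ Subgroup.normalizer ((K.map H.subtype : Subgroup X) : Set X) := by
      rw [Subgroup.mem_normalizer_iff_map_conj_eq]
      refine Subgroup.eq_of_le_of_card_ge ?_ (Subgroup.card_map_of_injective (MulAut.conj d).injective).ge
      rintro _ ⟨_, ⟨y, hy, rfl⟩, rfl⟩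
      exact ⟨σ y, hK y hy, hσa y⟩
    by_contra hne
    refine hKtop ?_
    have h2 := hH.2 (show K.map H.subtype ∈ {H | Inv H} from ⟨(Subgroup.map_subtype_le K).trans hHP, hKd, x,
      ⟨x, hx, rfl⟩, fun e => hne (Subtype.ext (by rw [hσp, ← hz, e, mul_inv_cancel_right]))⟩) (Subgroup.map_subtype_le K)
    rw [eq_top_iff]
    intro y _
    obtain ⟨y', hy', e⟩ := h2 y.2
    exact Subtype.ext e ▸ hy'
  · intro A hA hA2
    have hAc : IsMulCommutative (A.map H.subtype) := Subgroup.map_isMulCommutative _ _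
    have := hrank (A.map H.subtype) ((Subgroup.map_subtype_le A).trans hHP) hAc ⊤ inferInstance (by
      rintro ⟨_, a, ha, rfl⟩ -
      exact Subtype.ext (show ((a : X)) ^ 2 = 1 from congrArg Subtype.val (hA2 a ha)))
    rwa [Subgroup.card_top, Subgroup.card_map_of_injective H.subtype_injective] at this

end Cfsg.Agent.S3738
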