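import Cfsg.Statements.S3739
import Mathlib
import Cfsg.Agent.Lib.Elementary
import Cfsg.Agent.Lib.KInf.Stable
-- import your own Cfsg.Agent.* helpers here

set_option autoImplicit false
open Cfsg

namespace Cfsg.Agent.S3739

namespace Aux

open scoped commutatorElement

universe u

theorem fixed_modEq {α : Type u} [Finite α] (f : α → α) (hf : ∀ a, f (f (f a)) = a) :
    Nat.card α % 3 = Nat.card {a // f a = a} % 3 := by
  classical
  haveI := Fintype.ofFinite α
  haveI : Fact (Nat.Prime 3) := ⟨Nat.prime_three⟩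
  let g : Function.End α := f
  have hp : g ^ 3 ^ 1 = 1 := by
    rw [pow_one, pow_succ, pow_succ, pow_one]
    exact funext hf
  have h := Equiv.Perm.card_fixedPoints_modEq (α := α) (p := 3) (n := 1) hp
  rw [Nat.card_eq_fintype_card, Nat.card_eq_fintype_card]
  refine Eq.trans h ?_
  congr 1
  try exact Fintype.card_congr (Equiv.refl _)

set_option maxHeartbeats 2000000 in
theorem arith (k j n a b c : ℕ) (hk8 : k < 8) (hj8 : j < 8) (hk : 2 ^ k = 4 + 3 * n) (hj : 2 ^ j = 4 + a + b + c)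
    (hle : 2 ^ j ≤ 2 ^ k) (ca : 4 ∣ a) (cb : 4 ∣ b) (cc : 4 ∣ c) (ma : n % 3 = a % 3) (mb : n % 3 = b % 3)
    (mc : n % 3 = c % 3) : 2 ^ k ≤ 2 ^ j := by
  have ea : a % 12 = 4 * n % 12 := by omega
  have eb : b % 12 = 4 * n % 12 := by omega
  have ec : c % 12 = 4 * n % 12 := by omega
  interval_cases k <;> interval_cases j <;> simp only [Nat.reducePow] at * <;> omega

variable {G : Type u} [Group G] [Finite G]

/-- A union of cosets has order divisible by that of the subgroup. -/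
theorem dvd_card_of_cosets (W : Subgroup G) (s : Set G) (hs : ∀ a ∈ s, ∀ w ∈ W, a * w ∈ s) :
    Nat.card W ∣ Nat.card s := by
  have e : (QuotientGroup.mk ⁻¹' ((QuotientGroup.mk : G → G ⧸ W) '' s)) = s := by
    ext a
    refine ⟨?_, fun ha => ⟨a, ha, rfl⟩⟩
    rintro ⟨b, hb, hba⟩
    have := hs b hb _ (QuotientGroup.eq.mp hba)
    rwa [mul_inv_cancel_left] at this
  rw [← e, Nat.card_congr (QuotientGroup.preimageMkEquivSubgroupProdSet W _), Nat.card_prod]
  exact dvd_mul_right _ _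

theorem exists_eight {B : Subgroup G} (hc : ∀ a ∈ B, ∀ b ∈ B, a * b = b * a) (he : ∀ a ∈ B, a * a = 1)
    (hB : 4 < Nat.card B) : ∃ E : Subgroup G, Cfsg.IsElementaryAbelian 2 E ∧ Nat.card E = 8 := by
  haveI : Fact (Nat.Prime 2) := ⟨Nat.prime_two⟩
  have hp : IsPGroup 2 B := fun a => ⟨1, Subtype.ext (by simpa [pow_two] using he a a.2)⟩
  obtain ⟨k, hk⟩ := IsPGroup.iff_card.mp hp
  have hk3 : 3 ≤ k := by
    by_contra hlt
    have : 2 ^ k ≤ 2 ^ 2 := Nat.pow_le_pow_right two_pos (by omega)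
    omega
  obtain ⟨H, hH⟩ := Sylow.exists_subgroup_card_pow_prime 2 (G := B) (n := 3) (by rw [hk]; exact pow_dvd_pow 2 hk3)
  refine ⟨H.map B.subtype, ⟨⟨⟨fun a b => Subtype.ext ?_⟩⟩, fun a ha => ?_⟩, ?_⟩
  · exact hc _ (Subgroup.map_subtype_le H a.2) _ (Subgroup.map_subtype_le H b.2)
  · rw [pow_two]; exact he _ (Subgroup.map_subtype_le H ha)
  · rw [← Nat.card_congr (H.equivMapOfInjective _ B.subtype_injective).toEquiv, hH]; norm_num

theorem join_eight {W : Subgroup G} (hWc : ∀ a ∈ W, ∀ b ∈ W, a * b = b * a) (hWe : ∀ a ∈ W, a * a = 1)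
    (hW4 : Nat.card W = 4) {u : G} (hu : u * u = 1) (huW : u ∉ W) (huc : ∀ w ∈ W, u * w = w * u) :
    ∃ E : Subgroup G, Cfsg.IsElementaryAbelian 2 E ∧ Nat.card E = 8 := by
  let B : Subgroup G := Subgroup.closure ((W : Set G) ∪ {u})
  have hBc : IsMulCommutative B := Subgroup.isMulCommutative_closure (by
    rintro a (ha | ha) b (hb | hb)
    · exact hWc a ha b hb
    · rw [Set.mem_singleton_iff.mp hb]; exact (huc a ha).symm
    · rw [Set.mem_singleton_iff.mp ha]; exact huc b hb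
    · rw [Set.mem_singleton_iff.mp ha, Set.mem_singleton_iff.mp hb])
  have hBe : ∀ a ∈ B, a * a = 1 := by
    intro a ha
    induction ha using Subgroup.closure_induction with
    | mem a ha => rcases ha with ha | rfl; exacts [hWe a ha, hu]
    | one => exact one_mul 1
    | mul a b ha hb e1 e2 =>
      have : Commute a b := congrArg Subtype.val (hBc.is_comm.comm ⟨a, ha⟩ ⟨b, hb⟩)
      rw [this.symm.mul_mul_mul_comm, e1, e2, one_mul]
    | inv a _ e1 => rw [← mul_inv_rev, e1, inv_one]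
  refine exists_eight (fun a ha b hb => congrArg Subtype.val (hBc.is_comm.comm ⟨a, ha⟩ ⟨b, hb⟩)) hBe ?_
  have hlt : W < B := lt_of_le_of_ne (fun a ha => Subgroup.subset_closure (Or.inl ha))
    fun e => huW (e ▸ Subgroup.subset_closure (Or.inr rfl))
  have := Subgroup.card_le_of_le hlt.le
  rcases eq_or_lt_of_le this with e | e
  · exact absurd (Subgroup.eq_of_le_of_card_ge hlt.le e.ge) hlt.ne
  · omega

/-- An element of order three centralizing the four-group centralizes the class two group. -/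
theorem core (Q W A : Subgroup G) (hQ : IsPGroup 2 Q) (hWQ : W ≤ Q) (hW4 : Nat.card W = 4)
    (hWe : ∀ w ∈ W, w * w = 1) (hWc : ∀ q ∈ Q, ∀ w ∈ W, q * w = w * q)
    (hinv : ∀ q ∈ Q, q * q = 1 → q ∈ W) [A.Normal] (hAQ : A ≤ Q)
    (hcom : ∀ a ∈ A, ∀ b ∈ A, ∀ c ∈ A, ⁅a, b⁆ * c = c * ⁅a, b⁆) (hsq : ∀ a ∈ A, ∀ b ∈ A, a * a * b = b * (a * a))
    (d : G) (hdW : d ∈ Subgroup.normalizer (W : Set G)) (hd : ∀ w ∈ W, w ≠ 1 → d * w * d⁻¹ ≠ w)
    (hd2 : ∀ w ∈ W, w ≠ 1 → d * (d * w * d⁻¹) * d⁻¹ ≠ w)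
    (x : G) (hx3 : x * x * x = 1) (hxW : ∀ w ∈ W, x * w * x⁻¹ = w) : ∀ c ∈ A, x * c * x⁻¹ = c := by
  classical
  have hfour : ∀ c ∈ A, ∀ w, c * c = w → w ∈ W → c * c * (c * c) = 1 := fun c hc w e hw => by rw [e]; exact hWe w hw
  have hcW : ∀ a ∈ A, ∀ b ∈ A, ⁅a, b⁆ ∈ W := by
    intro a ha b hb
    have hmem : ⁅a, b⁆ ∈ A := by
      rw [commutatorElement_def]; exact mul_mem (mul_mem (mul_mem ha hb) (inv_mem ha)) (inv_mem hb)
    refine hinv _ (hAQ hmem) ?_
    have h1 : a * ⁅a, b⁆ * a⁻¹ = ⁅a, b⁆ := by rw [← hcom a ha b hb a ha, mul_inv_cancel_right]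
    calc ⁅a, b⁆ * ⁅a, b⁆ = a * ⁅a, b⁆ * a⁻¹ * ⁅a, b⁆ := by rw [h1]
      _ = (a * a * b) * (a * a)⁻¹ * b⁻¹ := by simp only [commutatorElement_def]; group
      _ = 1 := by rw [hsq a ha b hb]; group
  have hWA : ∀ a ∈ A, ∀ w ∈ W, a * w = w * a := fun a ha w hw => hWc a (hAQ ha) w hw
  let V : Subgroup G :=
    { carrier := {v | v ∈ A ∧ v * v ∈ W}
      one_mem' := ⟨one_mem A, by rw [one_mul]; exact one_mem W⟩
      mul_mem' := fun {a b} ha hb => ⟨mul_mem ha.1 hb.1, by
        have e : a * b * (a * b) = (a * a) * ⁅a⁻¹, b⁆ * (b * b) := by simp only [commutatorElement_def]; group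
        rw [e]; exact mul_mem (mul_mem ha.2 (hcW _ (inv_mem ha.1) b hb.1)) hb.2⟩
      inv_mem' := fun {a} ha => ⟨inv_mem ha.1, by rw [← mul_inv_rev]; exact inv_mem ha.2⟩ }
  have hAn : ∀ g : G, ∀ a ∈ A, g * a * g⁻¹ ∈ A := fun g a ha => (inferInstance : A.Normal).conj_mem a ha g
  have hdmem : ∀ w ∈ W, d * w * d⁻¹ ∈ W := fun w hw => (Subgroup.mem_normalizer_iff.mp hdW w).mp hw
  have hfour' : ∀ v ∈ V, v * v * (v * v) = 1 := fun v hv => hWe _ hv.2
  -- the main counting
  have hV : ∀ v ∈ V, x * v * x⁻¹ = v := by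
    by_cases hWV : ∀ v ∈ V, v ∈ W
    · exact fun v hv => hxW v (hWV v hv)
    push Not at hWV
    obtain ⟨u, hu, huW⟩ := hWV
    -- elements of given square
    let N : G → Set G := fun w => {v | v ∈ V ∧ v * v = w}
    let N' : G → Set G := fun w => {v | v ∈ V ∧ v * v = w ∧ x * v * x⁻¹ = v}
    let F : Subgroup G :=
      { carrier := {v | v ∈ V ∧ x * v * x⁻¹ = v}
        one_mem' := ⟨one_mem V, by group⟩
        mul_mem' := fun {a b} ha hb => ⟨mul_mem ha.1 hb.1, by
          calc x * (a * b) * x⁻¹ = (x * a * x⁻¹) * (x * b * x⁻¹) := by group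
            _ = a * b := by rw [ha.2, hb.2]⟩
        inv_mem' := fun {a} ha => ⟨inv_mem ha.1, by
          calc x * a⁻¹ * x⁻¹ = (x * a * x⁻¹)⁻¹ := by group
            _ = a⁻¹ := by rw [ha.2]⟩ }
    -- translation invariance
    have hN1 : ∀ v, v ∈ N 1 → v ∈ W := fun v hv => hinv v (hAQ hv.1.1) hv.2
    have hW1 : ∀ w ∈ W, w ∈ A → w ∈ N 1 := fun w hw hwA => ⟨⟨hwA, by rw [hWe w hw]; exact one_mem W⟩, hWe w hw⟩
    have hWleA : W ≤ A := by
      -- squares of elements outside `W` provide all of `W`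
      have hu2 : u * u ∈ A ∧ u * u ∈ W ∧ u * u ≠ 1 :=
        ⟨mul_mem hu.1 hu.1, hu.2, fun e => huW (hinv u (hAQ hu.1) e)⟩
      intro w hw
      set w₁ := u * u
      have hw1 := hu2.2.1
      have hw1A := hu2.1
      have hw2A : d * w₁ * d⁻¹ ∈ A := hAn d _ hw1A
      have hw2 := hdmem _ hw1
      have hne := hd _ hw1 hu2.2.2
      by_cases h1 : w = 1
      · rw [h1]; exact one_mem A
      by_cases h2 : w = w₁
      · rw [h2]; exact hw1A
      by_cases h3 : w = d * w₁ * d⁻¹
      · rw [h3]; exact hw2A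
      have hw3 : w = w₁ * (d * w₁ * d⁻¹) := by
        by_contra h4
        have hw2ne : d * w₁ * d⁻¹ ≠ 1 := fun e => hu2.2.2 (by
          calc w₁ = d⁻¹ * (d * w₁ * d⁻¹) * d := by group
            _ = 1 := by rw [e]; group)
        have hw3ne : w₁ * (d * w₁ * d⁻¹) ≠ 1 := fun e => hne (by
          rw [eq_inv_of_mul_eq_one_right e, inv_eq_of_mul_eq_one_right (hWe _ hw1)])
        have h5 : Nat.card ({1, w₁, d * w₁ * d⁻¹, w₁ * (d * w₁ * d⁻¹), w} : Set G) ≤ Nat.card W :=
          Nat.card_mono (Set.toFinite _) (by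
            rintro y (rfl | rfl | rfl | rfl | rfl)
            exacts [one_mem W, hw1, hw2, mul_mem hw1 hw2, hw])
        rw [hW4, Nat.card_coe_set_eq] at h5
        rw [Set.ncard_insert_of_notMem (by simp [Ne.symm hu2.2.2, Ne.symm hw2ne, Ne.symm hw3ne, Ne.symm h1]),
          Set.ncard_insert_of_notMem (by simp [Ne.symm hne, hw2ne, Ne.symm h2]),
          Set.ncard_insert_of_notMem (by simp [hu2.2.2, Ne.symm h3]), Set.ncard_pair (Ne.symm h4)] at h5
        omega
      rw [hw3]; exact mul_mem hw1A hw2A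
    have hWV' : ∀ w ∈ W, w ∈ V := fun w hw => (hW1 w hw (hWleA hw)).1
    have hWF : ∀ w ∈ W, w ∈ F := fun w hw => ⟨hWV' w hw, hxW w hw⟩
    have hN1card : Nat.card (N 1) = 4 := by
      rw [← hW4]
      exact Nat.card_congr (Equiv.setCongr (Set.ext fun v => ⟨hN1 v, fun hv => hW1 v hv (hWleA hv)⟩))
    have hN'1card : Nat.card (N' 1) = 4 := by
      rw [← hW4]
      exact Nat.card_congr (Equiv.setCongr (Set.ext fun v =>
        ⟨fun hv => hN1 v ⟨hv.1, hv.2.1⟩, fun hv => ⟨hWV' v hv, hWe v hv, hxW v hv⟩⟩))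
    have hsum : ∀ (M : Subgroup G), M ≤ V → Nat.card M = ∑ᶠ w : W, Nat.card {v : M // (v : G) * (v : G) = (w : G)} := by
      intro M hM
      haveI := Fintype.ofFinite W
      rw [finsum_eq_sum_of_fintype, ← Nat.card_sigma]
      exact Nat.card_congr ⟨fun v => ⟨⟨(v : G) * (v : G), (hM v.2).2⟩, v, rfl⟩, fun s => s.2.1, fun v => rfl,
        fun ⟨w, v, hv⟩ => Sigma.subtype_ext (Subtype.ext hv) rfl⟩
    obtain ⟨w₁, hw₁, hw₁1⟩ : ∃ w ∈ W, w ≠ 1 := ⟨u * u, hu.2, fun e => huW (hinv u (hAQ hu.1) e)⟩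
    set w₂ := d * w₁ * d⁻¹ with hw₂def
    set w₃ := d * w₂ * d⁻¹ with hw₃def
    have hw₂ : w₂ ∈ W := hdmem _ hw₁
    have hw₃ : w₃ ∈ W := hdmem _ hw₂
    have hw₂1 : w₂ ≠ 1 := fun e => hw₁1 (by
      calc w₁ = d⁻¹ * w₂ * d := by rw [hw₂def]; group
        _ = 1 := by rw [e]; group)
    have hw₃1 : w₃ ≠ 1 := fun e => hw₂1 (by
      calc w₂ = d⁻¹ * w₃ * d := by rw [hw₃def]; group
        _ = 1 := by rw [e]; group)
    have h12 : w₁ ≠ w₂ := Ne.symm (hd _ hw₁ hw₁1)
    have h23 : w₂ ≠ w₃ := Ne.symm (hd _ hw₂ hw₂1)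
    have h13 : w₁ ≠ w₃ := Ne.symm (hd2 _ hw₁ hw₁1)
    have huniv : ∀ w : W, (w : G) = 1 ∨ (w : G) = w₁ ∨ (w : G) = w₂ ∨ (w : G) = w₃ := by
      intro w
      by_contra hc
      push Not at hc
      have h5 : Nat.card ({1, w₁, w₂, w₃, (w : G)} : Set G) ≤ Nat.card W := Nat.card_mono (Set.toFinite _) (by
        rintro y (rfl | rfl | rfl | rfl | rfl)
        exacts [one_mem W, hw₁, hw₂, hw₃, w.2])
      rw [hW4, Nat.card_coe_set_eq] at h5
      rw [Set.ncard_insert_of_notMem (by simp [hw₁1.symm, hw₂1.symm, hw₃1.symm, Ne.symm hc.1]),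
        Set.ncard_insert_of_notMem (by simp [h12, h13, Ne.symm hc.2.1]),
        Set.ncard_insert_of_notMem (by simp [h23, Ne.symm hc.2.2.1]), Set.ncard_pair (Ne.symm hc.2.2.2)] at h5
      omega
    have hsplit : ∀ f : G → ℕ, ∑ᶠ w : W, f w = f 1 + f w₁ + f w₂ + f w₃ := by
      intro f
      haveI := Fintype.ofFinite W
      rw [finsum_eq_sum_of_fintype]
      have e : (Finset.univ : Finset W) = {1, ⟨w₁, hw₁⟩, ⟨w₂, hw₂⟩, ⟨w₃, hw₃⟩} := by
        ext w
        simp only [Finset.mem_univ, Finset.mem_insert, Finset.mem_singleton, true_iff, Subtype.ext_iff, OneMemClass.coe_one]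
        exact huniv w
      rw [e, Finset.sum_insert (by simp [Subtype.ext_iff, hw₁1.symm, hw₂1.symm, hw₃1.symm]),
        Finset.sum_insert (by simp [Subtype.ext_iff, h12, h13]), Finset.sum_insert (by simp [Subtype.ext_iff, h23]),
        Finset.sum_singleton]
      simp [add_assoc]
    have hVcard : Nat.card V = 4 + Nat.card (N w₁) + Nat.card (N w₂) + Nat.card (N w₃) := by
      rw [hsum V le_rfl, hsplit (fun w => Nat.card {v : V // (v : G) * (v : G) = w}), ← hN1card]
      have e : ∀ w, Nat.card {v : V // (v : G) * (v : G) = w} = Nat.card (N w) := fun w =>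
        Nat.card_congr ⟨fun v => ⟨v.1, v.1.2, v.2⟩, fun v => ⟨⟨v.1, v.2.1⟩, v.2.2⟩, fun v => rfl, fun v => rfl⟩
      simp only [e]
    have hFcard : Nat.card F = 4 + Nat.card (N' w₁) + Nat.card (N' w₂) + Nat.card (N' w₃) := by
      rw [hsum F (fun v hv => hv.1), hsplit (fun w => Nat.card {v : F // (v : G) * (v : G) = w}), ← hN'1card]
      have e : ∀ w, Nat.card {v : F // (v : G) * (v : G) = w} = Nat.card (N' w) := fun w =>
        Nat.card_congr ⟨fun v => ⟨v.1, v.1.2.1, v.2, v.1.2.2⟩, fun v => ⟨⟨v.1, v.2.1, v.2.2.2⟩, v.2.2.1⟩,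
          fun v => rfl, fun v => rfl⟩
      simp only [e]
    have hdN : ∀ w, w ∈ W → Nat.card (N w) ≤ Nat.card (N (d * w * d⁻¹)) := by
      intro w hw
      refine Nat.card_le_card_of_injective (fun v => ⟨d * v.1 * d⁻¹, ⟨hAn d _ v.2.1.1, ?_⟩, ?_⟩) ?_
      · rw [show d * v.1 * d⁻¹ * (d * v.1 * d⁻¹) = d * (v.1 * v.1) * d⁻¹ by group]; exact hdmem _ v.2.1.2
      · rw [show d * v.1 * d⁻¹ * (d * v.1 * d⁻¹) = d * (v.1 * v.1) * d⁻¹ by group, v.2.2]
      · intro a b e
        exact Subtype.ext (mul_left_cancel (mul_right_cancel (congrArg Subtype.val e)))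
    have hd3 : d * w₃ * d⁻¹ = w₁ := by
      rcases huniv ⟨_, hdmem _ hw₃⟩ with e | e | e | e
      · exact absurd (by calc w₃ = d⁻¹ * (d * w₃ * d⁻¹) * d := by group
            _ = 1 := by rw [show d * w₃ * d⁻¹ = 1 from e]; group) hw₃1
      · exact e
      · exact absurd e (hd2 _ hw₂ hw₂1)
      · exact absurd e (hd _ hw₃ hw₃1)
    have a1 := hdN _ hw₁
    have a2 := hdN _ hw₂
    have a3 := hdN _ hw₃
    rw [← hw₂def] at a1
    rw [← hw₃def] at a2
    rw [hd3] at a3
    set n := Nat.card (N w₁) with hn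
    have hVn : Nat.card V = 4 + 3 * n := by omega
    -- fixed points
    have hcongr : ∀ w ∈ W, Nat.card (N w) % 3 = Nat.card (N' w) % 3 := by
      intro w hw
      let f : N w → N w := fun v => ⟨x * v.1 * x⁻¹, ⟨hAn x _ v.2.1.1, by
        rw [show x * v.1 * x⁻¹ * (x * v.1 * x⁻¹) = x * (v.1 * v.1) * x⁻¹ by group, v.2.2, hxW w hw]; exact hw⟩, by
        rw [show x * v.1 * x⁻¹ * (x * v.1 * x⁻¹) = x * (v.1 * v.1) * x⁻¹ by group, v.2.2, hxW w hw]⟩
      rw [fixed_modEq f fun v => Subtype.ext (by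
        show x * (x * (x * v.1 * x⁻¹) * x⁻¹) * x⁻¹ = v.1
        calc _ = (x * x * x) * v.1 * (x * x * x)⁻¹ := by group
          _ = v.1 := by rw [hx3]; group)]
      congr 1
      exact Nat.card_congr ⟨fun v => ⟨v.1.1, v.1.2.1, v.1.2.2, congrArg Subtype.val v.2⟩,
        fun v => ⟨⟨v.1, v.2.1, v.2.2.1⟩, Subtype.ext v.2.2.2⟩, fun v => rfl, fun v => rfl⟩
    have hfour4 : ∀ w ∈ W, 4 ∣ Nat.card (N' w) := by
      intro w hw
      rw [← hW4]
      refine dvd_card_of_cosets W (N' w) fun a ha t ht => ?_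
      have e : a * t * (a * t) = a * a * (t * t) := (show Commute t a from (hWA a ha.1.1 t ht).symm).mul_mul_mul_comm a t
      refine ⟨mul_mem ha.1 (hWV' t ht), by rw [e, ha.2.1, hWe t ht, mul_one], ?_⟩
      calc x * (a * t) * x⁻¹ = (x * a * x⁻¹) * (x * t * x⁻¹) := by group
        _ = a * t := by rw [ha.2.2, hxW t ht]
    -- the size of `V`
    have h128 : Nat.card V ≤ 128 := by
      let H : Subgroup G := V ⊓ Subgroup.centralizer {u}
      have hH : ∀ {y}, y ∈ H → y ∈ V ∧ u * y = y * u := fun hy =>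
        ⟨hy.1, (Subgroup.mem_centralizer_singleton_iff.mp hy.2).symm⟩
      set w := u * u with hw
      have hwW : w ∈ W := hu.2
      have huu : ∀ y ∈ H, y * y = w → y ∈ W ∨ u * y ∈ W := by
        intro y hy e
        right
        refine hinv _ (hAQ (mul_mem hu.1 (hH hy).1.1)) ?_
        rw [(show Commute y u from (hH hy).2.symm).mul_mul_mul_comm, e]
        exact hWe w hwW
      let W' : Set G := {y | y ∈ W ∨ u * y ∈ W}
      have hW'8 : Nat.card W' ≤ 8 := by
        have h : Nat.card W' ≤ Nat.card (Bool × W) := by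
          refine Nat.card_le_card_of_surjective (fun t : Bool × W => (⟨(bif t.1 then u⁻¹ else 1) * t.2, ?_⟩ : W')) ?_
          · cases t.1
            · exact Or.inl (by rw [cond_false, one_mul]; exact t.2.2)
            · exact Or.inr (by rw [cond_true, mul_inv_cancel_left]; exact t.2.2)
          · rintro ⟨y, hy | hy⟩
            · exact ⟨(false, ⟨y, hy⟩), Subtype.ext (one_mul y)⟩
            · exact ⟨(true, ⟨u * y, hy⟩), Subtype.ext (inv_mul_cancel_left u y)⟩
        simpa [hW4] using h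
      have hH32 : Nat.card H ≤ 32 := by
        by_cases hall : ∀ y ∈ H, y ∈ W'
        · exact ((Nat.card_mono (Set.toFinite _) hall).trans hW'8).trans (by norm_num)
        push Not at hall
        obtain ⟨v, hv, hvW⟩ := hall
        have hsqne : ∀ y ∈ H, y * y = 1 ∨ y * y = w → y ∈ W' := fun y hy h => h.elim
          (fun e => Or.inl (hinv y (hAQ (hH hy).1.1) e)) (huu y hy)
        let K : Set G := {y | y ∈ H ∧ (⁅v, y⁆ = 1 ∨ ⁅v, y⁆ = w)}
        have hK : K ⊆ W' ∪ (fun y => v⁻¹ * y) '' W' := by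
          rintro y ⟨hy, hc⟩
          by_cases hyW : y ∈ W'
          · exact Or.inl hyW
          refine Or.inr ⟨v * y, ?_, inv_mul_cancel_left v y⟩
          refine hsqne _ (mul_mem hv hy) ?_
          have e : v * y * (v * y) = (v * v) * (y * y) * ⁅v, y⁆ := by
            have hc1 : ⁅v⁻¹, y⁆ = ⁅v, y⁆ := by
              have h1 := hcW v (hH hv).1.1 y (hH hy).1.1
              calc ⁅v⁻¹, y⁆ = v⁻¹ * ⁅v, y⁆⁻¹ * v := by simp only [commutatorElement_def]; group
                _ = v⁻¹ * (⁅v, y⁆ * v) := by rw [inv_eq_of_mul_eq_one_right (hWe _ h1), mul_assoc]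
                _ = ⁅v, y⁆ := by rw [← hWA v (hH hv).1.1 _ h1, inv_mul_cancel_left]
            calc v * y * (v * y) = (v * v) * ⁅v⁻¹, y⁆ * (y * y) := by simp only [commutatorElement_def]; group
              _ = _ := by rw [hc1, mul_assoc _ ⁅v, y⁆, ← hWA _ (mul_mem (hH hy).1.1 (hH hy).1.1) _ (hcW v (hH hv).1.1 y (hH hy).1.1)]; group
          have hv2 : v * v ≠ 1 ∧ v * v ≠ w := ⟨fun e => hvW (hsqne v hv (Or.inl e)), fun e => hvW (hsqne v hv (Or.inr e))⟩
          have hy2 : y * y ≠ 1 ∧ y * y ≠ w := ⟨fun e => hyW (hsqne y hy (Or.inl e)), fun e => hyW (hsqne y hy (Or.inr e))⟩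
          have hwne : w ≠ 1 := fun e => huW (hinv u (hAQ hu.1) e)
          have hprod : v * v * (y * y) = 1 ∨ v * v * (y * y) = w := by
            by_cases e1 : v * v = y * y
            · left; rw [← e1]; exact hWe _ (hH hv).1.2
            right
            by_contra e2
            have h5 : Nat.card ({1, w, v * v, y * y, v * v * (y * y)} : Set G) ≤ Nat.card W :=
              Nat.card_mono (Set.toFinite _) (by
                rintro t (rfl | rfl | rfl | rfl | rfl)
                exacts [one_mem W, hwW, (hH hv).1.2, (hH hy).1.2, mul_mem (hH hv).1.2 (hH hy).1.2])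
            have p0 : v * v * (y * y) ≠ 1 := fun e => e1 ((eq_inv_of_mul_eq_one_left e).trans (inv_eq_of_mul_eq_one_right (hWe _ (hH hy).1.2)))
            have p1 : v * v * (y * y) ≠ v * v := fun e => hy2.1 (mul_eq_left.mp e)
            have p2 : v * v * (y * y) ≠ y * y := fun e => hv2.1 (mul_eq_right.mp e)
            rw [hW4, Nat.card_coe_set_eq] at h5
            rw [Set.ncard_insert_of_notMem (by simp [hwne.symm, Ne.symm hv2.1, Ne.symm hy2.1, Ne.symm p0]),
              Set.ncard_insert_of_notMem (by simp [Ne.symm hv2.2, Ne.symm hy2.2, Ne.symm e2]),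
              Set.ncard_insert_of_notMem (by simp [e1, Ne.symm p1]), Set.ncard_pair (Ne.symm p2)] at h5
            omega
          rw [e]
          rcases hprod with e1 | e1 <;> rcases hc with e2 | e2 <;> rw [e1, e2] <;> simp [hWe w hwW]
        have hK16 : Nat.card K ≤ 16 := by
          rw [Nat.card_coe_set_eq] at hW'8 ⊢
          refine (Set.ncard_le_ncard hK (Set.toFinite _)).trans ((Set.ncard_union_le _ _).trans ?_)
          have := Set.ncard_image_le (f := fun y => v⁻¹ * y) (Set.toFinite W')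
          omega
        have hmul : ∀ a ∈ H, ∀ b ∈ H, ⁅v, a * b⁆ = ⁅v, a⁆ * ⁅v, b⁆ := by
          intro a ha b hb
          calc ⁅v, a * b⁆ = ⁅v, a⁆ * (a * ⁅v, b⁆ * a⁻¹) := by simp only [commutatorElement_def]; group
            _ = _ := by rw [hWA a (hH ha).1.1 _ (hcW v (hH hv).1.1 b (hH hb).1.1), mul_inv_cancel_right]
        by_cases hall2 : ∀ y ∈ H, y ∈ K
        · exact ((Nat.card_mono (Set.toFinite _) hall2).trans hK16).trans (by norm_num)
        push Not at hall2
        obtain ⟨h₀, hh₀, hh₀K⟩ := hall2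
        have hsub : (H : Set G) ⊆ K ∪ (fun y => h₀⁻¹ * y) '' K := by
          intro y hy
          by_cases hyK : y ∈ K
          · exact Or.inl hyK
          refine Or.inr ⟨h₀ * y, ⟨mul_mem hh₀ hy, ?_⟩, inv_mul_cancel_left h₀ y⟩
          rw [hmul h₀ hh₀ y hy]
          have na : ¬ (⁅v, h₀⁆ = 1 ∨ ⁅v, h₀⁆ = w) := fun e => hh₀K ⟨hh₀, e⟩
          have nb : ¬ (⁅v, y⁆ = 1 ∨ ⁅v, y⁆ = w) := fun e => hyK ⟨hy, e⟩
          have ma := hcW v (hH hv).1.1 h₀ (hH hh₀).1.1
          have mb := hcW v (hH hv).1.1 y (hH hy).1.1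
          push Not at na nb
          by_cases e1 : ⁅v, h₀⁆ = ⁅v, y⁆
          · left; rw [← e1]; exact hWe _ ma
          right
          by_contra e2
          have hwne : w ≠ 1 := fun e => huW (hinv u (hAQ hu.1) e)
          have h5 : Nat.card ({1, w, ⁅v, h₀⁆, ⁅v, y⁆, ⁅v, h₀⁆ * ⁅v, y⁆} : Set G) ≤ Nat.card W :=
            Nat.card_mono (Set.toFinite _) (by
              rintro t (rfl | rfl | rfl | rfl | rfl)
              exacts [one_mem W, hwW, ma, mb, mul_mem ma mb])
          have p0 : ⁅v, h₀⁆ * ⁅v, y⁆ ≠ 1 := fun e => e1 ((eq_inv_of_mul_eq_one_left e).trans (inv_eq_of_mul_eq_one_right (hWe _ mb)))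
          have p1 : ⁅v, h₀⁆ * ⁅v, y⁆ ≠ ⁅v, h₀⁆ := fun e => nb.1 (mul_eq_left.mp e)
          have p2 : ⁅v, h₀⁆ * ⁅v, y⁆ ≠ ⁅v, y⁆ := fun e => na.1 (mul_eq_right.mp e)
          rw [hW4, Nat.card_coe_set_eq] at h5
          rw [Set.ncard_insert_of_notMem (by simp [hwne.symm, Ne.symm na.1, Ne.symm nb.1, Ne.symm p0]),
            Set.ncard_insert_of_notMem (by simp [Ne.symm na.2, Ne.symm nb.2, Ne.symm e2]),
            Set.ncard_insert_of_notMem (by simp [e1, Ne.symm p1]), Set.ncard_pair (Ne.symm p2)] at h5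
          omega
        rw [Nat.card_coe_set_eq] at hK16
        rw [← SetLike.coe_sort_coe, Nat.card_coe_set_eq]
        refine (Set.ncard_le_ncard hsub (Set.toFinite _)).trans ((Set.ncard_union_le _ _).trans ?_)
        have := Set.ncard_image_le (f := fun y => h₀⁻¹ * y) (Set.toFinite K)
        omega
      -- fibres of the commutator with `u`
      choose! rep hrep hrepc using fun (t : G) (ht : ∃ y ∈ V, ⁅u, y⁆ = t) => ht
      have hcl : Nat.card V ≤ Nat.card (W × H) := by
        refine Nat.card_le_card_of_injective (fun y => (⟨⁅u, (y : G)⁆, hcW u hu.1 y y.2.1⟩, ⟨(rep ⁅u, (y : G)⁆)⁻¹ * y, ?_⟩)) ?_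
        · have hr := hrep _ ⟨y, y.2, rfl⟩
          have hrc := hrepc _ ⟨y, y.2, rfl⟩
          set r := rep ⁅u, (y : G)⁆
          have hm : r⁻¹ * (y : G) ∈ V := mul_mem (inv_mem hr) y.2
          refine ⟨hm, Subgroup.mem_centralizer_singleton_iff.mpr (commutatorElement_eq_one_iff_mul_comm.mp ?_).symm⟩
          have e : ⁅u, (y : G)⁆ = ⁅u, r⁆ * ⁅u, r⁻¹ * y⁆ := by
            calc ⁅u, (y : G)⁆ = ⁅u, r⁆ * (r * ⁅u, r⁻¹ * y⁆ * r⁻¹) := by simp only [commutatorElement_def]; group
              _ = _ := by rw [hWA r hr.1 _ (hcW u hu.1 _ hm.1), mul_inv_cancel_right]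
          rw [hrc] at e
          exact left_eq_mul.mp e
        · intro a b e
          simp only [Prod.mk.injEq, Subtype.mk.injEq] at e
          rw [e.1] at e
          exact Subtype.ext (mul_left_cancel e.2)
      rw [Nat.card_prod, hW4] at hcl
      omega
    -- conclusion
    haveI : Fact (Nat.Prime 2) := ⟨Nat.prime_two⟩
    obtain ⟨k, hk⟩ := IsPGroup.iff_card.mp (hQ.to_le (show V ≤ Q from fun v hv => hAQ hv.1))
    obtain ⟨j, hj⟩ := IsPGroup.iff_card.mp (hQ.to_le (show F ≤ Q from fun v hv => hAQ hv.1.1))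
    have hFV : F ≤ V := fun v hv => hv.1
    suffices hge : Nat.card V ≤ Nat.card F by
      intro v hv
      rw [← Subgroup.eq_of_le_of_card_ge hFV hge] at hv
      exact hv.2
    have hFV' := Subgroup.card_le_of_le hFV
    have b1 := hcongr _ hw₁
    have b2 := hcongr _ hw₂
    have b3 := hcongr _ hw₃
    have c1 := hfour4 _ hw₁
    have c2 := hfour4 _ hw₂
    have c3 := hfour4 _ hw₃
    have hk8 : k < 8 := by
      by_contra hc
      have := Nat.pow_le_pow_right two_pos (Nat.le_of_not_lt hc)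
      omega
    have hj8 : j < 8 := by
      by_contra hc
      have := Nat.pow_le_pow_right two_pos (Nat.le_of_not_lt hc)
      omega
    rw [hk, hj]
    exact arith k j n _ _ _ hk8 hj8 (hk ▸ hVn) (hj ▸ hFcard) (hk ▸ hj ▸ hFV') c1 c2 c3 b1 (by omega) (by omega)
  -- from `V` to all of `A`
  have hstep : ∀ k : ℕ, ∀ c ∈ A, c ^ 2 ^ k = 1 → x * c * x⁻¹ = c := by
    intro k
    induction k with
    | zero => intro c _ e; rw [pow_zero, pow_one] at e; rw [e]; group
    | succ k ih =>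
      intro c hc e
      have h1 : x * (c * c) * x⁻¹ = c * c := ih _ (mul_mem hc hc) (by rw [← pow_two, ← pow_mul, ← pow_succ', e])
      set t := c⁻¹ * (x * c * x⁻¹) with ht
      have htA : t ∈ A := mul_mem (inv_mem hc) (hAn x c hc)
      have hy : x * c * x⁻¹ = c * t := by rw [ht, mul_inv_cancel_left]
      have h2 : c * t * (c * t) = c * c := by
        rw [← hy, show x * c * x⁻¹ * (x * c * x⁻¹) = x * (c * c) * x⁻¹ by group, h1]
      have h3 : t * t ∈ W := by
        have h4 : t * t = ⁅c⁻¹, t⁆⁻¹ := by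
          calc t * t = ⁅c⁻¹, t⁆⁻¹ * ((c * c)⁻¹ * (c * t * (c * t))) := by simp only [commutatorElement_def]; group
            _ = _ := by rw [h2, inv_mul_cancel, mul_one]
        rw [h4]; exact inv_mem (hcW _ (inv_mem hc) t htA)
      have htfix : x * t * x⁻¹ = t := hV t ⟨htA, h3⟩
      have h5 : t * t * t = 1 := by
        have e1 : x * (x * (x * c * x⁻¹) * x⁻¹) * x⁻¹ = c := by
          calc _ = (x * x * x) * c * (x * x * x)⁻¹ := by group
            _ = c := by rw [hx3]; group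
        have hct : ∀ s, x * s * x⁻¹ = s → x * (c * s) * x⁻¹ = c * (t * s) := fun s hs => by
          calc x * (c * s) * x⁻¹ = (x * c * x⁻¹) * (x * s * x⁻¹) := by group
            _ = _ := by rw [hy, hs, mul_assoc]
        have htt : x * (t * t) * x⁻¹ = t * t := by
          calc x * (t * t) * x⁻¹ = (x * t * x⁻¹) * (x * t * x⁻¹) := by group
            _ = t * t := by rw [htfix]
        rw [hy, hct t htfix, hct (t * t) htt] at e1
        rw [mul_assoc]
        exact mul_eq_left.mp e1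
      have ht1 : t = 1 := by
        have h6 : t * t * (t * t) = 1 := hWe _ h3
        calc t = (t * t * (t * t)) * (t * t * t)⁻¹ := by group
          _ = 1 := by rw [h6, h5]; group
      rw [hy, ht1, mul_one]
  intro c hc
  obtain ⟨k, hk⟩ := hQ ⟨c, hAQ hc⟩
  exact hstep k c hc (congrArg Subtype.val hk)

theorem goal (hchar : Subgroup.centralizer (Cfsg.pCore 2 G : Set G) ≤ Cfsg.pCore 2 G) (hsix : ∃ g : G, orderOf g = 6)
    (d : G) (hd1 : d ≠ 1) (hd : IsPGroup 3 ↥(Subgroup.zpowers d)) (W : Subgroup G) (hW : Cfsg.IsElementaryAbelian 2 W)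
    (hW1 : W ≠ ⊥) (hdW : d ∈ Subgroup.normalizer (W : Set G)) (hfpf : W ⊓ Subgroup.centralizer {d} = ⊥) :
    ∃ E : Subgroup G, Cfsg.IsElementaryAbelian 2 E ∧ Nat.card E = 8 := by
  classical
  haveI : Fact (Nat.Prime 2) := ⟨Nat.prime_two⟩
  by_contra hno
  have hWc : ∀ a ∈ W, ∀ b ∈ W, a * b = b * a := fun a ha b hb => congrArg Subtype.val (hW.1.is_comm.comm ⟨a, ha⟩ ⟨b, hb⟩)
  have hWe : ∀ a ∈ W, a * a = 1 := fun a ha => by rw [← pow_two]; exact hW.2 a ha
  have hdconj : ∀ w ∈ W, d * w * d⁻¹ ∈ W := fun w hw => (Subgroup.mem_normalizer_iff.mp hdW w).mp hw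
  have hdne : ∀ w ∈ W, w ≠ 1 → d * w * d⁻¹ ≠ w := fun w hw hw1 e => hw1 (Subgroup.mem_bot.mp
    (hfpf.le ⟨hw, Subgroup.mem_centralizer_singleton_iff.mpr (mul_inv_eq_iff_eq_mul.mp e).symm⟩))
  have hodd : Odd (orderOf d) := by
    obtain ⟨k, hk⟩ := IsPGroup.iff_orderOf.mp hd ⟨d, Subgroup.mem_zpowers d⟩
    rw [← Subgroup.orderOf_coe] at hk
    rw [show orderOf d = 3 ^ k from hk]
    exact (show Odd 3 by decide).pow
  have hd2ne : ∀ w ∈ W, w ≠ 1 → d * (d * w * d⁻¹) * d⁻¹ ≠ w := by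
    intro w hw hw1 e
    obtain ⟨k, hk⟩ := hodd
    have h2 : Commute (d ^ 2) w := by
      have : d ^ 2 * w * (d ^ 2)⁻¹ = w := by
        rw [pow_two]
        calc _ = d * (d * w * d⁻¹) * d⁻¹ := by group
          _ = w := e
      exact mul_inv_eq_iff_eq_mul.mp this
    have h3 := h2.pow_left (k + 1)
    rw [← pow_mul, show 2 * (k + 1) = orderOf d + 1 by omega, pow_succ, pow_orderOf_eq_one, one_mul] at h3
    exact hdne w hw hw1 (by rw [h3.eq, mul_inv_cancel_right])
  have hW4 : Nat.card W = 4 := by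
    have hp : IsPGroup 2 W := fun a => ⟨1, Subtype.ext (by simpa [pow_two] using hWe a a.2)⟩
    obtain ⟨k, hk⟩ := IsPGroup.iff_card.mp hp
    have hle : Nat.card W ≤ 4 := by
      by_contra hlt
      exact hno (exists_eight hWc hWe (by omega))
    obtain ⟨⟨w, hw⟩, hw1⟩ := (Subgroup.ne_bot_iff_exists_ne_one).mp hW1
    have hw1' : w ≠ 1 := fun e => hw1 (Subtype.ext e)
    have h3 : Nat.card ({1, w, d * w * d⁻¹} : Set G) ≤ Nat.card W := Nat.card_mono (Set.toFinite _) (by
      rintro y (rfl | rfl | rfl)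
      exacts [one_mem W, hw, hdconj w hw])
    have hd1' : d * w * d⁻¹ ≠ 1 := fun e => hw1' (by
      calc w = d⁻¹ * (d * w * d⁻¹) * d := by group
        _ = 1 := by rw [e]; group)
    rw [Nat.card_coe_set_eq, Set.ncard_insert_of_notMem (by simp [hw1'.symm, hd1'.symm]),
      Set.ncard_pair (hdne w hw hw1').symm] at h3
    rcases (show k = 0 ∨ k = 1 ∨ k = 2 ∨ 3 ≤ k by omega) with rfl | rfl | rfl | h
    · omega
    · omega
    · exact hk
    · have : 2 ^ 3 ≤ 2 ^ k := Nat.pow_le_pow_right two_pos h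
      omega
  set Q := Cfsg.pCore 2 G with hQ
  have hQp : IsPGroup 2 Q := CfsgLib.isPGroup_pCore 2
  -- the central involutions of `Q`
  let U : Subgroup G :=
    { carrier := {q | q ∈ Q ∧ q * q = 1 ∧ ∀ r ∈ Q, q * r = r * q}
      one_mem' := ⟨one_mem Q, one_mul 1, fun r _ => by rw [one_mul, mul_one]⟩
      mul_mem' := fun {a b} ha hb => ⟨mul_mem ha.1 hb.1, by
        rw [(show Commute b a from hb.2.2 a ha.1).mul_mul_mul_comm, ha.2.1, hb.2.1, one_mul], fun r hr => by
        rw [mul_assoc, hb.2.2 r hr, ← mul_assoc, ha.2.2 r hr, mul_assoc]⟩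
      inv_mem' := fun {a} ha => by rw [inv_eq_of_mul_eq_one_right ha.2.1]; exact ha }
  haveI hQn : Q.Normal := inferInstance
  have hUn : ∀ g : G, ∀ q ∈ U, g * q * g⁻¹ ∈ U := fun g q hq => ⟨hQn.conj_mem q hq.1 g, by
    rw [show g * q * g⁻¹ * (g * q * g⁻¹) = g * (q * q) * g⁻¹ by group, hq.2.1]; group, fun r hr => by
    have := hq.2.2 _ (hQn.conj_mem r hr g⁻¹)
    rw [inv_inv] at this
    calc g * q * g⁻¹ * r = g * (q * (g⁻¹ * r * g)) * g⁻¹ := by group
      _ = g * ((g⁻¹ * r * g) * q) * g⁻¹ := by rw [this]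
      _ = r * (g * q * g⁻¹) := by group⟩
  have hU1 : U ≠ ⊥ := by
    intro e
    obtain ⟨g, hg⟩ := hsix
    haveI : Nontrivial Q := by
      rw [Subgroup.nontrivial_iff_ne_bot]
      intro e0
      have : g ∈ Q := hchar (by rw [e0, Subgroup.mem_centralizer_iff]; rintro y rfl; rw [one_mul, mul_one])
      rw [e0, Subgroup.mem_bot] at this
      rw [this, orderOf_one] at hg
      omega
    haveI := hQp.center_nontrivial
    obtain ⟨n, hn, hn'⟩ := (hQp.to_subgroup (Subgroup.center Q)).nontrivial_iff_card.mp inferInstance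
    obtain ⟨⟨⟨q, hq⟩, hqc⟩, hqo⟩ := exists_prime_orderOf_dvd_card' 2 (hn' ▸ dvd_pow_self 2 (by omega) : 2 ∣ Nat.card (Subgroup.center Q))
    rw [← Subgroup.orderOf_coe, ← Subgroup.orderOf_coe] at hqo
    have hmem : q ∈ U := ⟨hq, by rw [← pow_two, ← (show orderOf q = 2 from hqo), pow_orderOf_eq_one],
      fun r hr => congrArg Subtype.val (Subgroup.mem_center_iff.mp hqc ⟨r, hr⟩).symm⟩
    rw [e, Subgroup.mem_bot] at hmem
    rw [show orderOf q = 1 by rw [hmem, orderOf_one]] at hqo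
    omega
  -- `U` is the four-group
  have hUW : ∀ q ∈ U, q ∈ W := by
    by_contra hc
    push Not at hc
    obtain ⟨u, hu, huW⟩ := hc
    have hU4 : Nat.card U ≤ 4 := by
      by_contra hlt
      exact hno (exists_eight (B := U) (fun a ha b hb => ha.2.2 b hb.1) (fun a ha => ha.2.1) (by omega))
    have hWU : ∀ w ∈ W, w ∈ U → w = 1 := by
      intro w hw hwU
      by_contra hw1
      have hsub : W ≤ U := by
        intro t ht
        have h2 := hUn d w hwU
        have h3 := mul_mem hwU h2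
        by_contra htU
        have hd1' : d * w * d⁻¹ ≠ 1 := fun e => hw1 (by
          calc w = d⁻¹ * (d * w * d⁻¹) * d := by group
            _ = 1 := by rw [e]; group)
        have p3 : w * (d * w * d⁻¹) ≠ 1 := fun e => hdne w hw hw1
          ((eq_inv_of_mul_eq_one_right e).trans (inv_eq_of_mul_eq_one_right (hWe w hw)))
        have h5 : Nat.card ({1, w, d * w * d⁻¹, w * (d * w * d⁻¹), t} : Set G) ≤ Nat.card W :=
          Nat.card_mono (Set.toFinite _) (by
            rintro y (rfl | rfl | rfl | rfl | rfl)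
            exacts [one_mem W, hw, hdconj w hw, mul_mem hw (hdconj w hw), ht])
        rw [hW4, Nat.card_coe_set_eq] at h5
        rw [Set.ncard_insert_of_notMem (by simp [Ne.symm hw1, hd1'.symm, p3.symm]; exact fun e => htU (e ▸ one_mem U)),
          Set.ncard_insert_of_notMem (by simp [(hdne w hw hw1).symm, hd1']; exact fun e => htU (e ▸ hwU)),
          Set.ncard_insert_of_notMem (by simp [hw1]; exact fun e => htU (e ▸ h2)),
          Set.ncard_pair (show w * (d * w * d⁻¹) ≠ t from fun e => htU (e ▸ h3))] at h5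
        omega
      have hlt : W < U := lt_of_le_of_ne hsub fun e => huW (e ▸ hu)
      have := Subgroup.card_le_of_le hlt.le
      rcases eq_or_lt_of_le this with e | e
      · exact hlt.ne (Subgroup.eq_of_le_of_card_ge hlt.le e.ge)
      · omega
    -- `W` centralizes `U`
    have hcent : ∀ w ∈ W, ∀ q ∈ U, w * q = q * w := by
      let W₀ : Subgroup G := W ⊓ Subgroup.centralizer (U : Set G)
      by_contra hc
      push Not at hc
      obtain ⟨w, hw, q, hq, hne⟩ := hc
      have hW₀ : ∀ t ∈ W₀, t = 1 := by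
        intro t ht
        by_contra ht1
        have htd : d * t * d⁻¹ ∈ W₀ := ⟨hdconj t ht.1, Subgroup.mem_centralizer_iff.mpr fun r hr => by
          have := Subgroup.mem_centralizer_iff.mp ht.2 _ (hUn d⁻¹ r hr)
          rw [inv_inv] at this
          calc r * (d * t * d⁻¹) = d * ((d⁻¹ * r * d) * t) * d⁻¹ := by group
            _ = d * (t * (d⁻¹ * r * d)) * d⁻¹ := by rw [this]
            _ = _ := by group⟩
        refine hne ((Subgroup.mem_centralizer_iff.mp (?_ : w ∈ W₀).2) q hq).symm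
        by_contra hwn
        have p3 : t * (d * t * d⁻¹) ≠ 1 := fun e => hdne t ht.1 ht1
          ((eq_inv_of_mul_eq_one_right e).trans (inv_eq_of_mul_eq_one_right (hWe t ht.1)))
        have hd1' : d * t * d⁻¹ ≠ 1 := fun e => ht1 (by
          calc t = d⁻¹ * (d * t * d⁻¹) * d := by group
            _ = 1 := by rw [e]; group)
        have h5 : Nat.card ({1, t, d * t * d⁻¹, t * (d * t * d⁻¹), w} : Set G) ≤ Nat.card W :=
          Nat.card_mono (Set.toFinite _) (by
            rintro y (rfl | rfl | rfl | rfl | rfl)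
            exacts [one_mem W, ht.1, hdconj t ht.1, mul_mem ht.1 (hdconj t ht.1), hw])
        rw [hW4, Nat.card_coe_set_eq] at h5
        rw [Set.ncard_insert_of_notMem (by simp [Ne.symm ht1, hd1'.symm, p3.symm]; exact fun e => hwn (e ▸ one_mem W₀)),
          Set.ncard_insert_of_notMem (by simp [(hdne t ht.1 ht1).symm, hd1']; exact fun e => hwn (e ▸ ht)),
          Set.ncard_insert_of_notMem (by simp [ht1]; exact fun e => hwn (e ▸ htd)),
          Set.ncard_pair (show t * (d * t * d⁻¹) ≠ w from fun e => hwn (e ▸ mul_mem ht htd))] at h5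
        omega
      -- a faithful action of a four-group on at most three points
      let π : W → Equiv.Perm {r : U // r ≠ 1} := fun t =>
        { toFun := fun r => ⟨⟨(t : G) * r.1 * (t : G)⁻¹, hUn t _ r.1.2⟩, fun e => r.2 (Subtype.ext (conj_eq_one_iff.mp (congrArg Subtype.val e)))⟩
          invFun := fun r => ⟨⟨(t : G) * r.1 * (t : G)⁻¹, hUn t _ r.1.2⟩, fun e => r.2 (Subtype.ext (conj_eq_one_iff.mp (congrArg Subtype.val e)))⟩
          left_inv := fun r => Subtype.ext (Subtype.ext (by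
            show (t : G) * ((t : G) * r.1 * (t : G)⁻¹) * (t : G)⁻¹ = r.1
            calc _ = ((t : G) * t) * r.1 * ((t : G) * t)⁻¹ := by group
              _ = _ := by rw [hWe t t.2]; group))
          right_inv := fun r => Subtype.ext (Subtype.ext (by
            show (t : G) * ((t : G) * r.1 * (t : G)⁻¹) * (t : G)⁻¹ = r.1
            calc _ = ((t : G) * t) * r.1 * ((t : G) * t)⁻¹ := by group
              _ = _ := by rw [hWe t t.2]; group)) }
      let φ : W →* Equiv.Perm {r : U // r ≠ 1} := MonoidHom.mk' π fun a b => Equiv.ext fun r => Subtype.ext (Subtype.ext (by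
        show ((a : G) * b) * r.1 * ((a : G) * b)⁻¹ = (a : G) * ((b : G) * r.1 * (b : G)⁻¹) * (a : G)⁻¹
        group))
      have hφ : Function.Injective φ := by
        rw [← MonoidHom.ker_eq_bot_iff, Subgroup.eq_bot_iff_forall]
        intro t ht
        refine Subtype.ext (hW₀ _ ⟨t.2, Subgroup.mem_centralizer_iff.mpr fun r hr => ?_⟩)
        by_cases hr1 : r = 1
        · rw [hr1, one_mul, mul_one]
        have h := DFunLike.congr_fun (MonoidHom.mem_ker.mp ht) ⟨⟨r, hr⟩, fun e => hr1 (congrArg Subtype.val e)⟩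
        have h' : (t : G) * r * (t : G)⁻¹ = r := congrArg (fun z => ((z.1 : U) : G)) h
        exact (mul_inv_eq_iff_eq_mul.mp h').symm
      have hdvd := Subgroup.card_dvd_of_injective φ hφ
      have hm : Nat.card {r : U // r ≠ 1} ≤ 3 := by
        haveI := Fintype.ofFinite U
        rw [Nat.card_eq_fintype_card, Fintype.card_subtype_compl, Fintype.card_subtype_eq]
        rw [Nat.card_eq_fintype_card] at hU4
        omega
      rw [hW4, Nat.card_perm] at hdvd
      revert hdvd hm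
      generalize Nat.card {r : U // r ≠ 1} = m
      intro hdvd hm
      interval_cases m <;> simp [Nat.factorial] at hdvd
    exact hno (join_eight hWc hWe hW4 hu.2.1 huW fun w hw => (hcent w hw u hu).symm)
  have hWU : ∀ w ∈ W, w ∈ U := by
    intro t ht
    obtain ⟨⟨w, hwU⟩, hw1⟩ := (Subgroup.ne_bot_iff_exists_ne_one).mp hU1
    have hw1' : w ≠ 1 := fun e => hw1 (Subtype.ext e)
    have hw := hUW w hwU
    have h2 := hUn d w hwU
    by_contra htU
    have hd1' : d * w * d⁻¹ ≠ 1 := fun e => hw1' (by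
      calc w = d⁻¹ * (d * w * d⁻¹) * d := by group
        _ = 1 := by rw [e]; group)
    have p3 : w * (d * w * d⁻¹) ≠ 1 := fun e => hdne w hw hw1'
      ((eq_inv_of_mul_eq_one_right e).trans (inv_eq_of_mul_eq_one_right (hWe w hw)))
    have h5 : Nat.card ({1, w, d * w * d⁻¹, w * (d * w * d⁻¹), t} : Set G) ≤ Nat.card W :=
      Nat.card_mono (Set.toFinite _) (by
        rintro y (rfl | rfl | rfl | rfl | rfl)
        exacts [one_mem W, hw, hdconj w hw, mul_mem hw (hdconj w hw), ht])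
    rw [hW4, Nat.card_coe_set_eq] at h5
    rw [Set.ncard_insert_of_notMem (by simp [Ne.symm hw1', hd1'.symm, p3.symm]; exact fun e => htU (e ▸ one_mem U)),
      Set.ncard_insert_of_notMem (by simp [(hdne w hw hw1').symm, hd1']; exact fun e => htU (e ▸ hwU)),
      Set.ncard_insert_of_notMem (by simp [hw1']; exact fun e => htU (e ▸ h2)),
      Set.ncard_pair (show w * (d * w * d⁻¹) ≠ t from fun e => htU (e ▸ mul_mem hwU h2))] at h5
    omega
  have hinvQ : ∀ q ∈ Q, q * q = 1 → q ∈ W := fun q hq hq2 => by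
    by_contra hqW
    exact hno (join_eight hWc hWe hW4 hq2 hqW fun w hw => ((hWU w hw).2.2 q hq).symm)
  have hWn : ∀ g : G, ∀ w ∈ W, g * w * g⁻¹ ∈ W := fun g w hw => hUW _ (hUn g w (hWU w hw))
  -- an element of order three centralizing `W`
  obtain ⟨g, hg⟩ := hsix
  set x := g ^ 2 with hx
  set t := g ^ 3 with ht
  have hx3 : x * x * x = 1 := by rw [hx, ← pow_add, ← pow_add, show 2 + 2 + 2 = 6 from rfl, ← hg, pow_orderOf_eq_one]
  have ht2 : t * t = 1 := by rw [ht, ← pow_add, show 3 + 3 = 6 from rfl, ← hg, pow_orderOf_eq_one]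
  have ht1 : t ≠ 1 := fun e => by
    have := Nat.le_of_dvd (by norm_num) (orderOf_dvd_of_pow_eq_one (show g ^ 3 = 1 from e))
    omega
  have hx1 : x ≠ 1 := fun e => by
    have := Nat.le_of_dvd (by norm_num) (orderOf_dvd_of_pow_eq_one (show g ^ 2 = 1 from e))
    omega
  have hxt : x * t = t * x := by rw [hx, ht, ← pow_add, ← pow_add]
  obtain ⟨w₀, hw₀, hw₀1, htfix, honly⟩ : ∃ w₀ ∈ W, w₀ ≠ 1 ∧ t * w₀ * t⁻¹ = w₀ ∧
      ((t ∈ W ∧ t = w₀) ∨ ∀ w ∈ W, t * w * t⁻¹ = w → w = 1 ∨ w = w₀) := by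
    by_cases htW : t ∈ W
    · exact ⟨t, htW, ht1, by rw [mul_inv_cancel_right], Or.inl ⟨htW, rfl⟩⟩
    obtain ⟨a, ha, hane⟩ : ∃ a ∈ W, t * a * t⁻¹ ≠ a := by
      by_contra hc
      push Not at hc
      exact hno (join_eight hWc hWe hW4 ht2 htW fun w hw => (mul_inv_eq_iff_eq_mul.mp (hc w hw)))
    set b := t * a * t⁻¹ with hb
    have hbW : b ∈ W := hWn t a ha
    have htb : t * b * t⁻¹ = a := by
      rw [hb]
      calc _ = (t * t) * a * (t * t)⁻¹ := by group
        _ = a := by rw [ht2]; group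
    refine ⟨a * b, mul_mem ha hbW, fun e => hane ((eq_inv_of_mul_eq_one_right e).trans (inv_eq_of_mul_eq_one_right (hWe a ha))),
      by rw [show t * (a * b) * t⁻¹ = b * (t * b * t⁻¹) by rw [hb]; group, htb, hWc b hbW a ha], Or.inr fun w hw hwt => ?_⟩
    by_contra hc
    push Not at hc
    have ha1 : a ≠ 1 := fun e => hane (by rw [hb, e]; group)
    have hb1 : b ≠ 1 := fun e => ha1 (by rw [← htb, e]; group)
    have hab : a * b ≠ 1 := fun e => hane ((eq_inv_of_mul_eq_one_right e).trans (inv_eq_of_mul_eq_one_right (hWe a ha)))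
    have hwa : w ≠ a := fun e => hane (by rw [hb, ← e]; exact hwt)
    have hwb : w ≠ b := fun e => by
      subst e
      rw [htb] at hwt
      exact hane hwt.symm
    have h5 : Nat.card ({1, a * b, w, a, b} : Set G) ≤ Nat.card W := Nat.card_mono (Set.toFinite _) (by
      rintro y (rfl | rfl | rfl | rfl | rfl)
      exacts [one_mem W, mul_mem ha hbW, hw, ha, hbW])
    rw [hW4, Nat.card_coe_set_eq] at h5
    rw [Set.ncard_insert_of_notMem (by simp [hab.symm, Ne.symm hc.1, ha1.symm, hb1.symm]),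
      Set.ncard_insert_of_notMem (by simp [Ne.symm hc.2, hb1, ha1]),
      Set.ncard_insert_of_notMem (by simp [hwa, hwb]), Set.ncard_pair (Ne.symm hane)] at h5
    omega
  have hxw₀ : x * w₀ * x⁻¹ = w₀ := by
    rcases honly with ⟨-, e⟩ | honly
    · rw [← e, hxt, mul_inv_cancel_right]
    · rcases honly _ (hWn x w₀ hw₀) (by
        calc t * (x * w₀ * x⁻¹) * t⁻¹ = (t * x) * w₀ * (t * x)⁻¹ := by group
          _ = x * (t * w₀ * t⁻¹) * x⁻¹ := by rw [← hxt]; group
          _ = x * w₀ * x⁻¹ := by rw [htfix]) with e | e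
      · exact absurd (conj_eq_one_iff.mp e) hw₀1
      · exact e
  have hxW : ∀ w ∈ W, x * w * x⁻¹ = w := by
    intro w hw
    by_cases h1 : w = 1
    · rw [h1]; group
    by_cases h0 : w = w₀
    · rw [h0, hxw₀]
    by_contra hne
    have e2 : x * w * x⁻¹ = w₀ * w := by
      by_contra hne2
      have p1 : x * w * x⁻¹ ≠ 1 := fun e => h1 (conj_eq_one_iff.mp e)
      have p2 : x * w * x⁻¹ ≠ w₀ := fun e => h0 (mul_left_cancel (mul_right_cancel (e.trans hxw₀.symm)))
      have p3 : w₀ * w ≠ 1 := fun e => h0 ((eq_inv_of_mul_eq_one_right e).trans (inv_eq_of_mul_eq_one_right (hWe w₀ hw₀)))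
      have h5 : Nat.card ({1, w₀, w, w₀ * w, x * w * x⁻¹} : Set G) ≤ Nat.card W := Nat.card_mono (Set.toFinite _) (by
        rintro y (rfl | rfl | rfl | rfl | rfl)
        exacts [one_mem W, hw₀, hw, mul_mem hw₀ hw, hWn x w hw])
      rw [hW4, Nat.card_coe_set_eq] at h5
      rw [Set.ncard_insert_of_notMem (by simp [hw₀1.symm, Ne.symm h1, p3.symm, p1.symm]),
        Set.ncard_insert_of_notMem (by simp [Ne.symm h0, h1, p2.symm]),
        Set.ncard_insert_of_notMem (by simp [hw₀1, Ne.symm hne]), Set.ncard_pair (Ne.symm hne2)] at h5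
      omega
    have e3 : x * (w₀ * w) * x⁻¹ = w := by
      rw [show x * (w₀ * w) * x⁻¹ = (x * w₀ * x⁻¹) * (x * w * x⁻¹) by group, hxw₀, e2, ← mul_assoc, hWe w₀ hw₀, one_mul]
    have e4 : w₀ * w = w := by
      calc w₀ * w = (x * x * x) * (w₀ * w) * (x * x * x)⁻¹ := by rw [hx3]; group
        _ = x * (x * (x * (w₀ * w) * x⁻¹) * x⁻¹) * x⁻¹ := by group
        _ = w := by rw [e3, e2, e3]
    exact hw₀1 (mul_eq_right.mp e4)
  -- the critical subgroup
  obtain ⟨A, hcrit, -, hpow, -⟩ := CfsgLib.KInf.exists_crit (G := G) (p := 2)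
  haveI := hcrit.normal
  have hA : ∀ c ∈ A, x * c * x⁻¹ = c := core Q W A hQp (fun w hw => (hWU w hw).1) hW4 hWe
    (fun q hq w hw => ((hWU w hw).2.2 q hq).symm) hinvQ hcrit.le
    (fun a ha b hb c hc => ((hcrit.three (Subgroup.commutator_mem_commutator (hcrit.le ha) hb)).2 c hc).symm)
    (fun a ha b hb => by rw [← pow_two]; exact ((hpow a ha).2 b hb).symm)
    d hdW hdne hd2ne x hx3 hxW
  let φ : MulAut Q := MulAut.conjNormal x
  have hφ3 : φ ^ 3 = 1 := by
    show (MulAut.conjNormal x : MulAut Q) ^ 3 = 1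
    rw [← map_pow, show x ^ 3 = 1 by rw [pow_succ, pow_two]; exact hx3, map_one]
  have hφ : φ = 1 := hcrit.aut φ
    ((show Nat.Coprime 3 2 by norm_num).coprime_dvd_left (orderOf_dvd_of_pow_eq_one hφ3))
    fun a ha => Subtype.ext ((MulAut.conjNormal_apply x a).trans (hA a ha))
  have hxc : x ∈ Q := hchar (Subgroup.mem_centralizer_iff.mpr fun q hq => by
    have h := congrArg Subtype.val (DFunLike.congr_fun hφ ⟨q, hq⟩)
    rw [MulAut.conjNormal_apply] at h
    exact (mul_inv_eq_iff_eq_mul.mp h).symm)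
  obtain ⟨k, hk⟩ := IsPGroup.iff_orderOf.mp hQp ⟨x, hxc⟩
  rw [← Subgroup.orderOf_coe] at hk
  haveI : Fact (Nat.Prime 3) := ⟨Nat.prime_three⟩
  rw [show orderOf x = 3 from orderOf_eq_prime (by rw [pow_succ, pow_two]; exact hx3) hx1] at hk
  rcases k with _ | k
  · simp at hk
  · rw [pow_succ] at hk; omega

end Aux

/-- Let G be a finite group with C_G(O₂(G)) ≤ O₂(G) containing an element of order 6, and let d be a non-identity 3-element of G normalizing a nontrivial elementary abelian 2-subgroup W with C_W(d) = 1. Then G has an elementary abelian subgroup of order 8. -/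
theorem result {G : Type*} [Group G] [Finite G] (hchar : Subgroup.centralizer (Cfsg.pCore 2 G : Set G) ≤ Cfsg.pCore 2 G) (hsix : ∃ g : G, orderOf g = 6) (d : G) (hd1 : d ≠ 1) (hd : IsPGroup 3 ↥(Subgroup.zpowers d)) (W : Subgroup G) (hW : Cfsg.IsElementaryAbelian 2 W) (hW1 : W ≠ ⊥) (hdW : d ∈ Subgroup.normalizer (W : Set G)) (hfpf : W ⊓ Subgroup.centralizer {d} = ⊥) : ∃ E : Subgroup G, Cfsg.IsElementaryAbelian 2 E ∧ Nat.card E = 8 := by
  exact Aux.goal hchar hsix d hd1 hd W hW hW1 hdW hfpf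

end Cfsg.Agent.S3739
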