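import Cfsg.Statements.S3740
import Mathlib
import Cfsg.Agent.Lib.QuaternionSection
import Cfsg.Agent.Lib.SL2Centralizer
import Cfsg.Agent.Lib.Coprime
-- import your own Cfsg.Agent.* helpers here

set_option autoImplicit false
open Cfsg

namespace Cfsg.Agent.S3740

namespace Aux

open Subgroup CfsgLib.QuatSection
open scoped commutatorElement

universe u
variable {F : Type} [Field F] [Fintype F] {p : ℕ} [Fact p.Prime] [CharP F p]

local notation "M2" => Matrix (Fin 2) (Fin 2) F
local notation "SL2" => Matrix.SpecialLinearGroup (Fin 2) F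

theorem ch (x : SL2) : x.1 * x.1 = x.1.trace • x.1 - (1 : M2) := by
  have hd : x.1 0 0 * x.1 1 1 - x.1 0 1 * x.1 1 0 = 1 := by rw [← Matrix.det_fin_two]; exact x.2
  ext i j
  fin_cases i <;> fin_cases j <;> simp [Matrix.mul_apply, Fin.sum_univ_two, Matrix.trace_fin_two] <;>
    first | linear_combination hd | linear_combination -hd | ring1

theorem two_ne (hp : p ≠ 2) : (2 : F) ≠ 0 := by
  intro h
  have h' : ((2 : ℕ) : F) = 0 := by simpa using h
  rw [CharP.cast_eq_zero_iff F p] at h'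
  exact hp ((Nat.prime_dvd_prime_iff_eq (Fact.out) Nat.prime_two).mp h')

theorem sq_one (hp : p ≠ 2) (x : SL2) (h : x * x = 1) : x = 1 ∨ x = -1 := by
  have h1 : x.1 * x.1 = 1 := congrArg Subtype.val h
  have h2 : x.1.trace • x.1 = (2 : F) • (1 : M2) := by
    have := ch x
    rw [h1, eq_sub_iff_add_eq] at this
    rw [← this, two_smul]
  have ht : x.1.trace ≠ 0 := by
    intro ht
    rw [ht, zero_smul] at h2
    have e := congrFun (congrFun h2 0) 0
    simp at e
    exact two_ne hp e.symm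
  set c := x.1.trace⁻¹ * 2 with hc
  have hx : x.1 = c • (1 : M2) := by
    rw [hc, mul_smul, ← h2, inv_smul_smul₀ ht]
  have hc1 : c * c = 1 := by
    have e := congrFun (congrFun h1 0) 0
    rw [hx] at e
    simpa using e
  rcases mul_self_eq_one_iff.mp hc1 with h3 | h3
  · left; ext i j; rw [hx, h3]; simp
  · right; ext i j; rw [hx, h3]; simp [Matrix.one_apply]; split_ifs <;> simp

theorem uniq (hp : p ≠ 2) (Q : Subgroup SL2) : CfsgLib.Frob.UniqSub 2 Q := by
  intro H K hH hK
  have key : ∀ H : Subgroup Q, Nat.card H = 2 → ∀ x : Q, (x ∈ H ↔ ((x : SL2) = 1 ∨ (x : SL2) = -1)) := by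
    intro H hH x
    constructor
    · intro hx
      refine sq_one hp _ ?_
      have := orderOf_dvd_iff_pow_eq_one.mp ((H.orderOf_dvd_natCard hx).trans hH.dvd)
      rw [pow_two] at this
      exact congrArg Subtype.val this
    · intro hx
      obtain ⟨y, hy, hy1⟩ : ∃ y ∈ H, y ≠ 1 := by
        by_contra h
        push Not at h
        have : H = ⊥ := eq_bot_iff.mpr fun y hy => mem_bot.mpr (h y hy)
        rw [this, Subgroup.card_bot] at hH
        omega
      rcases hx with hx | hx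
      · rw [show x = 1 from Subtype.ext hx]; exact one_mem H
      · have h2 := orderOf_dvd_iff_pow_eq_one.mp ((H.orderOf_dvd_natCard hy).trans hH.dvd)
        rw [pow_two] at h2
        rcases sq_one hp _ (congrArg Subtype.val h2) with e | e
        · exact absurd (Subtype.ext e) hy1
        · rw [show x = y from Subtype.ext (hx.trans e.symm)]; exact hy
  ext x
  rw [key H hH, key K hK]

theorem unip {a : SL2} {k : ℕ} (ha : a ^ p ^ k = 1) : (a.1 - 1) * (a.1 - 1) = 0 := by
  haveI : CharP M2 p := inferInstance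
  have h1 : (a.1 - 1) ^ p ^ k = 0 := by
    rw [sub_pow_char_pow_of_commute _ _ (Commute.one_right a.1), one_pow,
      show a.1 ^ p ^ k = 1 from by rw [← Matrix.SpecialLinearGroup.coe_pow, ha]; rfl, sub_self]
  have hdet : (a.1 - 1).det = 0 := by
    have := congrArg Matrix.det h1
    rw [Matrix.det_pow, Matrix.det_zero] at this
    exact pow_eq_zero_iff (pow_ne_zero _ (Fact.out : p.Prime).pos.ne') |>.mp this
  have hd : a.1 0 0 * a.1 1 1 - a.1 0 1 * a.1 1 0 = 1 := by rw [← Matrix.det_fin_two]; exact a.2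
  simp [Matrix.det_fin_two] at hdet
  ext i j
  fin_cases i <;> fin_cases j <;> simp [Matrix.mul_apply, Fin.sum_univ_two]
  · linear_combination (a.1 0 0 - 1) * (hd - hdet) - hdet
  · linear_combination (a.1 0 1) * (hd - hdet)
  · linear_combination (a.1 1 0) * (hd - hdet)
  · linear_combination (a.1 1 1 - 1) * (hd - hdet) - hdet

theorem lin_pow (M : M2) (x y : F) (hM : M * M = 0) (n : ℕ) :
    (x • (1 : M2) + y • M) ^ (n + 1) = x ^ (n + 1) • (1 : M2) + (((n + 1 : ℕ) : F) * x ^ n * y) • M := by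
  induction n with
  | zero => simp
  | succ n ih =>
    rw [pow_succ, ih, add_mul, mul_add, mul_add]
    simp [smul_mul_smul_comm, hM, smul_smul]
    module

theorem fix_eq (hp : p ≠ 2) {a x : SL2} (ha : IsPGroup p (zpowers a)) (ha1 : a ≠ 1) (hx : (orderOf x).Coprime p)
    (hc : a * x = x * a) : x = 1 ∨ x = -1 := by
  obtain ⟨k, hk⟩ := ha ⟨a, mem_zpowers a⟩
  have hk' : a ^ p ^ k = 1 := congrArg Subtype.val hk
  set N := a.1 - 1 with hN
  have hN2 : N * N = 0 := unip hk'
  have hns : ∀ c : F, N ≠ c • (1 : M2) := by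
    intro c e
    rw [e] at hN2
    have e2 := congrFun (congrFun hN2 0) 0
    simp at e2
    apply ha1
    ext i j
    have e3 := congrFun (congrFun e i) j
    rw [e2] at e3
    simp [hN, sub_eq_zero] at e3
    simpa using e3
  have hcN : Commute x.1 N := (show Commute x.1 a.1 from (congrArg Subtype.val hc).symm).sub_right (Commute.one_right _)
  obtain ⟨s, t, hst⟩ := CfsgLib.SL2Centralizer.exists_of_commute hns hcN
  have hxp : (x ^ p).1 = s ^ p • (1 : M2) := by
    obtain ⟨n, hn⟩ : ∃ n, p = n + 1 := ⟨p - 1, by have := (Fact.out : p.Prime).pos; omega⟩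
    rw [Matrix.SpecialLinearGroup.coe_pow, hst, hn, lin_pow N s t hN2]
    rw [← hn, CharP.cast_eq_zero F p, zero_mul, zero_mul, zero_smul, add_zero]
  have hs : s ^ p * s ^ p = 1 := by
    have := (x ^ p).2
    rw [hxp, Matrix.det_smul, Matrix.det_one, mul_one, Fintype.card_fin, pow_two] at this
    exact this
  have h2 : (x * x) ^ p = 1 := by
    rw [(Commute.refl x).mul_pow]
    ext i j
    rw [Matrix.SpecialLinearGroup.coe_mul, hxp]
    simp only [Matrix.smul_mul, Matrix.one_mul, smul_smul, hs, one_smul, Matrix.SpecialLinearGroup.coe_one]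
  refine sq_one hp x ?_
  have h3 : orderOf (x * x) ∣ p := orderOf_dvd_of_pow_eq_one h2
  have h4 : orderOf (x * x) ∣ orderOf x := by rw [← pow_two]; exact orderOf_pow_dvd 2
  exact orderOf_eq_one_iff.mp (Nat.eq_one_of_dvd_coprimes hx h4 h3)

theorem conj_in_line (hp : p ≠ 2) {z w : SL2} (hz : z.1.trace ^ 2 ≠ 4) (hw : w.1.trace = z.1.trace)
    (hc : w * z = z * w) : w = z ∨ w = z⁻¹ := by
  obtain ⟨s, t, hst⟩ := CfsgLib.SL2Centralizer.exists_of_commute (CfsgLib.SL2Centralizer.not_scalar_of_trace hz)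
    (show Commute w.1 z.1 from congrArg Subtype.val hc)
  set T := z.1.trace with hT
  have h1 : 2 * s + T * t = T := by
    have := congrArg Matrix.trace hst
    rw [hw, Matrix.trace_add, Matrix.trace_smul, Matrix.trace_smul, Matrix.trace_one, Fintype.card_fin] at this
    simp at this
    linear_combination -this
  have h2 : s * s + T * s * t + t * t = 1 := by
    have := congrArg Matrix.det hst
    rw [w.2, CfsgLib.SL2Centralizer.det_lin] at this
    exact this.symm
  have h3 : (t * t - 1) * (T ^ 2 - 4) = 0 := by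
    linear_combination (-4 : F) * h2 + (2 * s + T * t + T) * h1
  have h4 : t * t = 1 := by
    rcases mul_eq_zero.mp h3 with h | h
    · exact sub_eq_zero.mp h
    · exact absurd (sub_eq_zero.mp h) hz
  rcases mul_self_eq_one_iff.mp h4 with rfl | rfl
  · left
    have hs : s = 0 := by
      have : 2 * s = 0 := by linear_combination h1
      exact (mul_eq_zero.mp this).resolve_left (two_ne hp)
    ext i j; rw [hst, hs]; simp
  · right
    have hs : s = T := by
      have : 2 * (s - T) = 0 := by linear_combination h1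
      exact sub_eq_zero.mp ((mul_eq_zero.mp this).resolve_left (two_ne hp))
    ext i j
    rw [hst, hs, Matrix.SpecialLinearGroup.coe_inv, Matrix.adjugate_fin_two, hT, Matrix.trace_fin_two]
    fin_cases i <;> fin_cases j <;> simp

theorem no_odd (hp : p ≠ 2) {a : SL2} (ha : IsPGroup p (zpowers a)) (ha1 : a ≠ 1) {q : ℕ} [Fact q.Prime]
    (hq : q ≠ 2) (hqp : q ≠ p) {Q : Subgroup SL2} (hQ : IsPGroup q Q) (haQ : a ∈ normalizer (Q : Set SL2)) :
    Q = ⊥ := by
  by_contra hne
  haveI : Nontrivial Q := (Subgroup.nontrivial_iff_ne_bot Q).mpr hne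
  haveI := hQ.center_nontrivial
  obtain ⟨z₀, hz₀⟩ := exists_ne (1 : center Q)
  set z : SL2 := ((z₀ : Q) : SL2) with hz
  have hzQ : z ∈ Q := (z₀ : Q).2
  have hzc : ∀ u ∈ Q, u * z = z * u := fun u hu => congrArg Subtype.val (mem_center_iff.mp z₀.2 ⟨u, hu⟩)
  have hz1 : z ≠ 1 := fun e => hz₀ (Subtype.ext (Subtype.ext e))
  obtain ⟨j, hj⟩ := IsPGroup.iff_orderOf.mp hQ ⟨z, hzQ⟩
  rw [Subgroup.orderOf_mk] at hj
  have hqo : Odd (orderOf z) := hj ▸ ((Fact.out : q.Prime).odd_of_ne_two hq).pow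
  have hcp : (orderOf z).Coprime p := hj ▸ Nat.Coprime.pow_left _ ((Nat.coprime_primes Fact.out Fact.out).mpr hqp)
  have hzm : z ≠ -1 := by
    intro e
    have h2 : z * z = 1 := by rw [e]; ext i j; simp
    have : orderOf z ∣ 2 := orderOf_dvd_of_pow_eq_one (by rw [pow_two, h2])
    have := Nat.eq_one_of_dvd_coprimes (Nat.coprime_two_right.mpr hqo) dvd_rfl this
    exact hz1 (orderOf_eq_one_iff.mp this)
  have hoa : Odd (orderOf a) := by
    obtain ⟨k, hk⟩ := IsPGroup.iff_orderOf.mp ha ⟨a, mem_zpowers a⟩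
    rw [Subgroup.orderOf_mk] at hk
    exact hk ▸ ((Fact.out : p.Prime).odd_of_ne_two hp).pow
  have htr : z.1.trace ^ 2 ≠ 4 := by
    intro h
    set T := z.1.trace with hT
    obtain ⟨c, hc, hTc⟩ : ∃ c : F, c * c = 1 ∧ T = 2 * c := by
      refine ⟨T / 2, ?_, by field_simp [two_ne hp]⟩
      field_simp [two_ne hp]
      linear_combination h
    have hM : (z.1 - c • (1 : M2)) * (z.1 - c • (1 : M2)) = 0 := by
      rw [sub_mul, mul_sub, mul_sub, ch z, ← hT, hTc]
      simp [smul_smul, hc]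
      module
    have hzs : z.1 = c • (1 : M2) + (1 : F) • (z.1 - c • (1 : M2)) := by simp
    obtain ⟨n, hn⟩ : ∃ n, p = n + 1 := ⟨p - 1, by have := (Fact.out : p.Prime).pos; omega⟩
    have hzp : (z ^ p).1 = c ^ p • (1 : M2) := by
      rw [Matrix.SpecialLinearGroup.coe_pow, hzs, hn, lin_pow _ c 1 hM]
      rw [← hn, CharP.cast_eq_zero F p, zero_mul, zero_mul, zero_smul, add_zero]
    have h2 : (z * z) ^ p = 1 := by
      rw [(Commute.refl z).mul_pow]
      ext i j
      rw [Matrix.SpecialLinearGroup.coe_mul, hzp]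
      simp only [Matrix.smul_mul, Matrix.one_mul, smul_smul, ← mul_pow, hc, one_pow, one_smul, Matrix.SpecialLinearGroup.coe_one]
    have h3 := sq_one hp z (orderOf_eq_one_iff.mp (Nat.eq_one_of_dvd_coprimes hcp
      (by rw [← pow_two]; exact orderOf_pow_dvd 2) (orderOf_dvd_of_pow_eq_one h2)))
    exact h3.elim hz1 hzm
  have hconj : a * z * a⁻¹ = z ∨ a * z * a⁻¹ = z⁻¹ := by
    refine conj_in_line hp htr ?_ (hzc _ ((mem_normalizer_iff.mp haQ z).mp hzQ))
    rw [Matrix.SpecialLinearGroup.coe_mul, Matrix.SpecialLinearGroup.coe_mul, Matrix.trace_mul_cycle,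
      ← Matrix.SpecialLinearGroup.coe_mul, inv_mul_cancel, Matrix.SpecialLinearGroup.coe_one, Matrix.one_mul]
  have h2 : a ^ 2 * z * (a ^ 2)⁻¹ = z := by
    rw [show a ^ 2 * z * (a ^ 2)⁻¹ = a * (a * z * a⁻¹) * a⁻¹ by simp [pow_two, mul_assoc]]
    rcases hconj with h | h
    · rw [h, h]
    · rw [h, show a * z⁻¹ * a⁻¹ = (a * z * a⁻¹)⁻¹ by group, h, inv_inv]
  have h3 : a ∈ centralizer ({z} : Set SL2) :=
    CfsgLib.LocalFusion.mem_of_pow_two (k := 1) hoa (mem_centralizer_singleton_iff.mpr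
      (mul_inv_eq_iff_eq_mul.mp (by simpa using h2)))
  rcases fix_eq hp ha ha1 hcp (mem_centralizer_singleton_iff.mp h3) with h | h
  · exact hz1 h
  · exact hzm h

theorem main (hp : p ≠ 2) (a : SL2) (ha : IsPGroup p (zpowers a)) (R : Subgroup SL2) (hR : (Nat.card R).Coprime p)
    (haR : a ∈ normalizer (R : Set SL2)) (hnt : ⁅R, zpowers a⁆ ≠ ⊥) :
    p = 3 ∧ Nonempty (R ≃* QuaternionGroup 2) ∧ Nonempty (↥(R ⊔ zpowers a) ≃* SL23) := by
  classical
  have hC : a ∉ centralizer (R : Set SL2) := fun h => hnt (commutator_eq_bot_iff_le_centralizer.mpr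
    (le_centralizer_iff.mp (zpowers_le.mpr h)))
  have ha1 : a ≠ 1 := fun e => hC (e ▸ one_mem _)
  obtain ⟨k, hk⟩ := IsPGroup.iff_orderOf.mp ha ⟨a, mem_zpowers a⟩
  rw [Subgroup.orderOf_mk] at hk
  have hoa : Odd (orderOf a) := hk ▸ ((Fact.out : p.Prime).odd_of_ne_two hp).pow
  have hcop : (Nat.card (zpowers a)).Coprime (Nat.card R) := by
    rw [Nat.card_zpowers, hk]; exact Nat.Coprime.pow_left _ hR.symm
  have hR2 : IsPGroup 2 R := by
    refine IsPGroup.of_card (Nat.eq_prime_pow_of_unique_prime_dvd Nat.card_pos.ne' fun {q} hq hqR => ?_)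
    by_contra hq2
    haveI := Fact.mk hq
    obtain ⟨Q, hQ⟩ := CfsgLib.coprime_exists_invariant_sylow (zpowers_le.mpr haR) hcop
      (Or.inl (by letI := IsCyclic.commGroup (α := zpowers a); exact inferInstance)) q
    have hQb := no_odd hp ha ha1 hq2 (fun e => (Fact.out : p.Prime).not_dvd_one (hR ▸ Nat.dvd_gcd (e ▸ hqR) dvd_rfl))
      (Q.2.map R.subtype) (hQ (mem_zpowers a))
    rw [Subgroup.map_eq_bot_iff_of_injective _ R.subtype_injective] at hQb
    exact Q.not_dvd_index (by rw [hQb, index_bot]; exact hqR)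
  obtain ⟨e⟩ := q8_of_moved hR2 (uniq hp R) haR hC hoa
  obtain ⟨φ, hinj, hrange, hrot⟩ := exists_param e haR hC hoa
  have hiter : ∀ (t : ℕ) q, a ^ t * φ q * (a ^ t)⁻¹ = φ (CfsgLib.Quat.rotFun^[t] q) := by
    intro t
    induction t with
    | zero => intro q; simp
    | succ t ih =>
      intro q
      rw [Function.iterate_succ_apply', ← hrot, ← ih]
      rw [pow_succ']; group
  have h3c : a ^ 3 ∈ centralizer (R : Set SL2) := by
    intro r hr
    obtain ⟨q, rfl⟩ := hrange.ge hr
    have := hiter 3 q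
    rw [show CfsgLib.Quat.rotFun^[3] q = q from CfsgLib.Quat.rotFun_cube q] at this
    exact (mul_inv_eq_iff_eq_mul.mp this).symm
  have hp3 : p = 3 := by
    by_contra h3
    obtain ⟨j, hj⟩ := exists_pow_eq_self_of_coprime (x := a) (n := 3)
      (hk ▸ Nat.Coprime.pow_right _ ((Nat.coprime_primes Nat.prime_three Fact.out).mpr (Ne.symm h3)))
    exact hC (hj ▸ pow_mem h3c j)
  have ha3 : a ^ 3 = 1 := by
    obtain ⟨k, hk⟩ := ha ⟨a, mem_zpowers a⟩
    have hk' : a ^ p ^ k = 1 := congrArg Subtype.val hk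
    have hN := unip hk'
    haveI : CharP M2 p := inferInstance
    have h1 : (a.1 - 1) ^ p = 0 := by
      rw [show p = 2 + (p - 2) by omega, pow_add, pow_two, hN, zero_mul]
    rw [sub_pow_char_of_commute _ (Commute.one_right a.1), one_pow, sub_eq_zero] at h1
    rw [← hp3]
    exact Subtype.ext (by rw [Matrix.SpecialLinearGroup.coe_pow]; exact h1)
  have hval : ∀ t t' : ZMod 3, a ^ (t + t').val = a ^ (t.val + t'.val) := fun t t' => by
    conv_rhs => rw [← Nat.mod_add_div (t.val + t'.val) 3, pow_add, pow_mul, ha3, one_pow, mul_one]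
    rw [ZMod.val_add]
  let E := Equiv.ofBijective _ slMap_bijective
  let ψ : QuaternionGroup 2 × ZMod 3 → SL2 := fun u => φ u.1 * a ^ u.2.val
  let θ : SL23 →* SL2 := MonoidHom.mk' (fun s => ψ (E.symm s)) (fun s₁ s₂ => by
    obtain ⟨⟨q, t⟩, rfl⟩ := E.surjective s₁
    obtain ⟨⟨q', t'⟩, rfl⟩ := E.surjective s₂
    have hm : E (q, t) * E (q', t') = E (q * (CfsgLib.Quat.rotFun^[t.val] q'), t + t') := slMap_mul q q' t t'
    rw [hm, E.symm_apply_apply, E.symm_apply_apply, E.symm_apply_apply]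
    show φ (q * _) * a ^ (t + t').val = φ q * a ^ t.val * (φ q' * a ^ t'.val)
    rw [hval, map_mul, ← hiter, pow_add]
    group)
  have hrng : θ.range = R ⊔ zpowers a := by
    refine le_antisymm ?_ (sup_le ?_ (zpowers_le.mpr ?_))
    · rintro _ ⟨s, rfl⟩
      exact Subgroup.mul_mem_sup (hrange.le ⟨_, rfl⟩) (pow_mem (mem_zpowers a) _)
    · intro r hr
      obtain ⟨q, rfl⟩ := hrange.ge hr
      refine ⟨E (q, 0), ?_⟩
      show ψ (E.symm (E (q, 0))) = φ q
      rw [E.symm_apply_apply]; simp [ψ]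
    · refine ⟨E (1, 1), ?_⟩
      show ψ (E.symm (E (1, 1))) = a
      rw [E.symm_apply_apply]; simp [ψ, ZMod.val_one]
  have hinjθ : Function.Injective θ := by
    have h24 : Nat.card SL23 = 24 := by
      rw [← Nat.card_congr E, Nat.card_prod, CfsgLib.Quat.nat_card, Nat.card_zmod]
    have hc8 : Nat.card R = 8 := CfsgLib.Quat.card_of_q8 e
    have hca : Nat.card (zpowers a) = 3 := by
      rw [Nat.card_zpowers, orderOf_eq_prime (hp := ⟨Nat.prime_three⟩) ha3 ha1]
    have h8 : 8 ∣ Nat.card θ.range := hc8 ▸ card_dvd_of_le (le_sup_left.trans hrng.ge)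
    have h3 : 3 ∣ Nat.card θ.range := dvd_trans hca.symm.dvd (card_dvd_of_le (le_sup_right.trans hrng.ge))
    have hd : 24 ∣ Nat.card θ.range := Nat.Coprime.mul_dvd_of_dvd_of_dvd (by norm_num : Nat.Coprime 8 3) h8 h3
    have hker : Nat.card θ.ker * θ.ker.index = 24 := h24 ▸ θ.ker.card_mul_index
    rw [Subgroup.index_ker] at hker
    have hpos := Nat.card_pos (α := θ.range)
    have : 24 ≤ Nat.card θ.range := Nat.le_of_dvd hpos hd
    refine (MonoidHom.ker_eq_bot_iff θ).mp (card_eq_one.mp ?_)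
    have := Nat.card_pos (α := θ.ker)
    nlinarith
  exact ⟨hp3, ⟨e⟩, ⟨((MonoidHom.ofInjective hinjθ).trans (MulEquiv.subgroupCongr hrng)).symm⟩⟩

end Aux

/-- Let F be a finite field of odd characteristic p and let a be a p-element of SL₂(F) normalizing a subgroup R of order prime to p with [R, a] ≠ 1. Then p = 3, R is a quaternion group of order 8, and R⟨a⟩ is isomorphic to SL₂(3). -/
theorem result (F : Type) [Field F] [Fintype F] {p : ℕ} [Fact p.Prime] [CharP F p] (hp : p ≠ 2) (a : Matrix.SpecialLinearGroup (Fin 2) F) (ha : IsPGroup p ↥(Subgroup.zpowers a)) (R : Subgroup (Matrix.SpecialLinearGroup (Fin 2) F)) (hR : (Nat.card R).Coprime p) (haR : a ∈ Subgroup.normalizer (R : Set (Matrix.SpecialLinearGroup (Fin 2) F))) (hnt : ⁅R, Subgroup.zpowers a⁆ ≠ ⊥) : p = 3 ∧ Nonempty (↥R ≃* QuaternionGroup 2) ∧ Nonempty (↥(R ⊔ Subgroup.zpowers a) ≃* Matrix.SpecialLinearGroup (Fin 2) (ZMod 3)) := by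
  exact Aux.main hp a ha R hR haR hnt

end Cfsg.Agent.S3740
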