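import Cfsg.Statements.S3746
import Mathlib
import Cfsg.Agent.Lib.Components
-- import your own Cfsg.Agent.* helpers here

set_option autoImplicit false
open Cfsg

namespace Cfsg.Agent.S3746

open scoped commutatorElement

/-- Let Z ≤ Z(G) be a central subgroup of a finite group G and E a subgroup of G containing Z whose image E/Z is a component of G/Z (subnormal and quasisimple). Then the derived subgroup [E, E] is a component of G. -/
theorem result {G : Type*} [Group G] [Finite G] (Z : Subgroup G) (hZ : Z ≤ Subgroup.center G) [Z.Normal] (E : Subgroup G) (hZE : Z ≤ E) (hE : Cfsg.IsComponent (E.map (QuotientGroup.mk' Z))) : Cfsg.IsComponent ⁅E, E⁆ := by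
  classical
  set π := QuotientGroup.mk' Z with hπ
  set D : Subgroup G := ⁅E, E⁆ with hD
  set Eb := E.map π with hEb
  have hEbp : ⁅Eb, Eb⁆ = Eb := CfsgLib.isComponent_commutator_self hE
  have hDb : D.map π = Eb := by rw [hD, Subgroup.map_commutator]; exact hEbp
  have hDE : D ≤ E := Subgroup.commutator_le.mpr fun a ha b hb => by
    rw [commutatorElement_def]
    exact mul_mem (mul_mem (mul_mem ha hb) (inv_mem ha)) (inv_mem hb)
  have hED : E ≤ D ⊔ Z := by
    intro e he
    obtain ⟨d, hd, hde⟩ : π e ∈ D.map π := hDb ▸ Subgroup.mem_map_of_mem π he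
    have h1 : d⁻¹ * e ∈ Z := (QuotientGroup.eq_one_iff _).mp (by
      show π (d⁻¹ * e) = 1
      rw [map_mul, map_inv, hde, inv_mul_cancel])
    simpa using mul_mem (Subgroup.mem_sup_left hd : d ∈ D ⊔ Z) (Subgroup.mem_sup_right h1)
  have hDD : ⁅D, D⁆ = D := by
    refine le_antisymm (Subgroup.commutator_mono hDE hDE) ?_
    conv_lhs => rw [hD]
    rw [Subgroup.commutator_le]
    intro a ha b hb
    obtain ⟨a₁, ha₁, z, hz, rfl⟩ := Subgroup.mem_sup_of_normal_right.mp (hED ha)
    obtain ⟨b₁, hb₁, w, hw, rfl⟩ := Subgroup.mem_sup_of_normal_right.mp (hED hb)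
    have e : a₁ * z * (b₁ * w) * (a₁ * z)⁻¹ * (b₁ * w)⁻¹ = a₁ * b₁ * a₁⁻¹ * b₁⁻¹ := by
      have hzc : ∀ t, t * z = z * t := Subgroup.mem_center_iff.mp (hZ hz)
      have hwc : ∀ t, t * w = w * t := Subgroup.mem_center_iff.mp (hZ hw)
      calc a₁ * z * (b₁ * w) * (a₁ * z)⁻¹ * (b₁ * w)⁻¹ = a₁ * (z * b₁) * (w * z⁻¹) * a₁⁻¹ * w⁻¹ * b₁⁻¹ := by group
        _ = a₁ * (b₁ * z) * (z⁻¹ * w) * a₁⁻¹ * w⁻¹ * b₁⁻¹ := by rw [← hzc b₁, hwc z⁻¹]
        _ = a₁ * b₁ * (w * a₁⁻¹) * w⁻¹ * b₁⁻¹ := by group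
        _ = a₁ * b₁ * (a₁⁻¹ * w) * w⁻¹ * b₁⁻¹ := by rw [← hwc a₁⁻¹]
        _ = a₁ * b₁ * a₁⁻¹ * b₁⁻¹ := by group
    have e' : ⁅a₁ * z, b₁ * w⁆ = ⁅a₁, b₁⁆ := by simp only [commutatorElement_def]; exact e
    rw [e']
    exact Subgroup.commutator_mem_commutator ha₁ hb₁
  have hperf : Group.IsPerfect D := (Subgroup.isPerfect_iff).mpr hDD
  constructor
  · have hEs : E.IsSubnormal := by
      have := hE.1.comap π
      rwa [hEb, Subgroup.comap_map_eq_self (by rw [hπ, QuotientGroup.ker_mk']; exact hZE)] at this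
    refine Subgroup.IsSubnormal.trans hDE ?_ hEs
    apply Subgroup.Normal.isSubnormal
    rw [Subgroup.normal_subgroupOf_iff_le_normalizer hDE]
    intro e he
    rw [Subgroup.mem_normalizer_iff]
    have key : ∀ e ∈ E, ∀ d ∈ D, e * d * e⁻¹ ∈ D := by
      intro e he d hd
      have : ⁅e, d⁆ * d ∈ D := mul_mem (Subgroup.commutator_mem_commutator he (hDE hd)) hd
      rwa [commutatorElement_def, inv_mul_cancel_right] at this
    exact fun d => ⟨key e he d, fun h => by simpa [mul_assoc] using key e⁻¹ (inv_mem he) _ h⟩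
  refine ⟨hperf, ?_⟩
  have hsimp : IsSimpleGroup (↥Eb ⧸ Subgroup.center ↥Eb) := hE.2.2
  let f : D →* Eb := (π.comp D.subtype).codRestrict Eb (fun d => hDb ▸ Subgroup.mem_map_of_mem π d.2)
  have hf : Function.Surjective f := by
    rintro ⟨u, hu⟩
    obtain ⟨d, hd, rfl⟩ : u ∈ D.map π := hDb.symm ▸ hu
    exact ⟨⟨d, hd⟩, rfl⟩
  let g : D →* ↥Eb ⧸ Subgroup.center ↥Eb := (QuotientGroup.mk' _).comp f
  have hg : Function.Surjective g := (QuotientGroup.mk'_surjective _).comp hf
  have hna : ∀ z : ↥Eb ⧸ Subgroup.center ↥Eb, z ∈ Subgroup.center (↥Eb ⧸ Subgroup.center ↥Eb) → z = 1 := by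
    intro z hz
    rcases (inferInstance : (Subgroup.center (↥Eb ⧸ Subgroup.center ↥Eb)).Normal).eq_bot_or_eq_top with h | h
    · rw [h] at hz; exact Subgroup.mem_bot.mp hz
    · exfalso
      have hp : Group.IsPerfect (↥Eb ⧸ Subgroup.center ↥Eb) := Group.IsPerfect.ofSurjective (f := g) hg
      have h1 : _root_.commutator (↥Eb ⧸ Subgroup.center ↥Eb) = ⊥ := by
        rw [commutator_def, Subgroup.commutator_eq_bot_iff_le_centralizer]
        exact fun a _ => Subgroup.mem_centralizer_iff.mpr fun b _ => Subgroup.mem_center_iff.mp (h ▸ Subgroup.mem_top a) b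
      rw [hp.commutator_eq_top] at h1
      exact top_ne_bot h1
  have hker : g.ker = Subgroup.center D := by
    refine le_antisymm (fun x hx => ?_) (fun x hx => ?_)
    · have hxc : f x ∈ Subgroup.center ↥Eb := (QuotientGroup.eq_one_iff _).mp hx
      have hz : ∀ d : D, (x : G) * d * (x : G)⁻¹ * (d : G)⁻¹ ∈ Z := by
        intro d
        apply (QuotientGroup.eq_one_iff _).mp
        have h1 : π d * π x = π x * π d := congrArg Subtype.val (Subgroup.mem_center_iff.mp hxc (f d))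
        show π ((x : G) * d * (x : G)⁻¹ * (d : G)⁻¹) = 1
        rw [map_mul, map_mul, map_mul, map_inv, map_inv, ← h1]; group
      let k : D →* G := MonoidHom.mk' (fun d => (x : G) * d * (x : G)⁻¹ * (d : G)⁻¹) (fun a b => by
        show (x : G) * (a * b) * (x : G)⁻¹ * ((a : G) * b)⁻¹ = ((x : G) * a * (x : G)⁻¹ * (a : G)⁻¹) * ((x : G) * b * (x : G)⁻¹ * (b : G)⁻¹)
        have hc := Subgroup.mem_center_iff.mp (hZ (hz b)) (a : G)
        calc (x : G) * (a * b) * (x : G)⁻¹ * ((a : G) * b)⁻¹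
            = (x : G) * a * (x : G)⁻¹ * ((x : G) * b * (x : G)⁻¹ * (b : G)⁻¹) * (a : G)⁻¹ := by group
          _ = (x : G) * a * (x : G)⁻¹ * ((a : G)⁻¹ * a) * ((x : G) * b * (x : G)⁻¹ * (b : G)⁻¹) * (a : G)⁻¹ := by group
          _ = ((x : G) * a * (x : G)⁻¹ * (a : G)⁻¹) * ((a : G) * ((x : G) * b * (x : G)⁻¹ * (b : G)⁻¹)) * (a : G)⁻¹ := by group
          _ = _ := by rw [hc]; group)
      have hk : _root_.commutator D ≤ k.ker := by
        rw [commutator_def, Subgroup.commutator_le]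
        intro a _ b _
        rw [MonoidHom.mem_ker, map_commutatorElement, commutatorElement_eq_one_iff_mul_comm]
        exact Subgroup.mem_center_iff.mp (hZ (hz b)) (k a)
      rw [hperf.commutator_eq_top] at hk
      rw [Subgroup.mem_center_iff]
      intro d
      apply Subtype.ext
      have h2 : (x : G) * d * (x : G)⁻¹ * (d : G)⁻¹ = 1 := hk (Subgroup.mem_top d)
      show (d : G) * x = x * d
      rw [mul_inv_eq_one, mul_inv_eq_iff_eq_mul] at h2
      exact h2.symm
    · refine hna _ (Subgroup.mem_center_iff.mpr fun u => ?_)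
      obtain ⟨d, rfl⟩ := hg u
      rw [← map_mul, ← map_mul, Subgroup.mem_center_iff.mp hx d]
  exact ((QuotientGroup.quotientMulEquivOfEq hker.symm).trans
    (QuotientGroup.quotientKerEquivOfSurjective g hg)).isSimpleGroup_congr.mpr hsimp

end Cfsg.Agent.S3746
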