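import Cfsg.Statements.S3747
import Mathlib
import Cfsg.Agent.Lib.Components
-- import your own Cfsg.Agent.* helpers here

set_option autoImplicit false
open Cfsg

namespace Cfsg.Agent.S3747

theorem isNilpotent_of_comm' {A : Type*} [Group A] (h : ∀ a b : A, a * b = b * a) : Group.IsNilpotent A := by
  letI : CommGroup A := { (inferInstance : Group A) with mul_comm := h }
  infer_instance

/-- Let G be a finite group. (a) If K is a component of G with trivial centre, then the normal closure of K in G is a minimal normal subgroup of G. (b) If the Fitting subgroup of G is trivial, then the layer E(G) is generated by the minimal normal subgroups of G. -/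
theorem result {G : Type*} [Group G] [Finite G] : (∀ K : Subgroup G, Cfsg.IsComponent K → Subgroup.center ↥K = ⊥ → (Subgroup.normalClosure (K : Set G) ≠ ⊥ ∧ ∀ N : Subgroup G, N.Normal → N ≤ Subgroup.normalClosure (K : Set G) → N = ⊥ ∨ N = Subgroup.normalClosure (K : Set G))) ∧ (Cfsg.fittingSubgroup G = ⊥ → sSup {N : Subgroup G | N ≠ ⊥ ∧ N.Normal ∧ ∀ N' : Subgroup G, N'.Normal → N' ≤ N → N' = ⊥ ∨ N' = N} = Cfsg.layer G) := by
  classical
  have hconj : ∀ (K : Subgroup G) (g : G), Cfsg.IsComponent K → Cfsg.IsComponent (K.map (MulAut.conj g).toMonoidHom) :=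
    fun K g h => CfsgLib.isComponent_map_equiv (MulAut.conj g) h
  have part1 : ∀ K : Subgroup G, Cfsg.IsComponent K → Subgroup.center ↥K = ⊥ →
      (Subgroup.normalClosure (K : Set G) ≠ ⊥ ∧ ∀ N : Subgroup G, N.Normal → N ≤ Subgroup.normalClosure (K : Set G) → N = ⊥ ∨ N = Subgroup.normalClosure (K : Set G)) := by
    intro K hK hKc
    refine ⟨fun e => CfsgLib.isComponent_ne_bot hK (le_bot_iff.mp (e ▸ (fun k hk => Subgroup.subset_normalClosure hk))), fun N hN hle => ?_⟩
    have := hN
    rcases CfsgLib.component_le_or_commutator_eq_bot hK N with h | h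
    · exact Or.inr (le_antisymm hle (Subgroup.normalClosure_le_normal h))
    left
    set S : Set (Subgroup G) := Set.range fun g => K.map (MulAut.conj g).toMonoidHom with hS
    have hSc : ∀ L ∈ S, Cfsg.IsComponent L ∧ Subgroup.center ↥L = ⊥ ∧ ⁅L, N⁆ = ⊥ := by
      rintro _ ⟨g, rfl⟩
      refine ⟨hconj K g hK, ?_, ?_⟩
      · rw [Subgroup.eq_bot_iff_forall]
        rintro ⟨x, hx⟩ hxc
        obtain ⟨k, hk, rfl⟩ := hx
        have : (⟨k, hk⟩ : K) ∈ Subgroup.center ↥K := by
          rw [Subgroup.mem_center_iff]
          intro u
          apply Subtype.ext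
          apply (MulAut.conj g).injective
          rw [Subgroup.coe_mul, Subgroup.coe_mul, map_mul, map_mul]
          exact congrArg Subtype.val (Subgroup.mem_center_iff.mp hxc ⟨_, Subgroup.mem_map_of_mem _ u.2⟩)
        rw [hKc, Subgroup.mem_bot] at this
        apply Subtype.ext
        show (MulAut.conj g).toMonoidHom k = 1
        rw [show k = 1 from congrArg Subtype.val this, map_one]
      · have h1 := congrArg (Subgroup.map (MulAut.conj g).toMonoidHom) h
        rwa [Subgroup.map_commutator, Subgroup.map_bot, show N.map (MulAut.conj g).toMonoidHom = N from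
          Subgroup.Normal.map_conj_eq N g] at h1
    -- a join of centreless components has trivial centre
    have key : ∀ s : Finset (Subgroup G), (∀ L ∈ s, L ∈ S) →
        ∀ z ∈ s.sup id, (∀ w ∈ s.sup id, w * z = z * w) → z = 1 := by
      intro s
      induction s using Finset.induction_on with
      | empty => intro _ z hz _; rw [Finset.sup_empty] at hz; exact Subgroup.mem_bot.mp hz
      | @insert L s hLs ih =>
        intro hs z hz hzc
        rw [Finset.sup_insert, id_eq] at hz hzc
        have hL := hSc L (hs L (Finset.mem_insert_self _ _))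
        have hcen : s.sup id ≤ Subgroup.centralizer (L : Set G) := by
          refine Finset.sup_le fun M hM => ?_
          have hM' := hSc M (hs M (Finset.mem_insert_of_mem hM))
          refine Subgroup.commutator_eq_bot_iff_le_centralizer.mp ?_
          rw [id_eq]
          exact (CfsgLib.components_eq_or_commute hM'.1 hL.1).resolve_left (fun e => hLs (e ▸ hM))
        have hn : L ≤ Subgroup.normalizer ((s.sup id : Subgroup G) : Set G) := by
          refine le_trans ?_ (Subgroup.centralizer_le_normalizer _)
          exact fun l hl => Subgroup.mem_centralizer_iff.mpr fun w hw =>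
            ((Subgroup.mem_centralizer_iff.mp (hcen hw)) l hl).symm
        obtain ⟨l, hl, t, ht, rfl⟩ : ∃ l ∈ L, ∃ t ∈ s.sup id, l * t = z := by
          rw [← SetLike.mem_coe, Subgroup.coe_mul_of_left_le_normalizer_right L _ hn] at hz
          obtain ⟨l, hl, t, ht, rfl⟩ := hz
          exact ⟨l, hl, t, ht, rfl⟩
        have hl1 : (⟨l, hl⟩ : L) ∈ Subgroup.center ↥L := by
          rw [Subgroup.mem_center_iff]
          intro u
          apply Subtype.ext
          show (u : G) * l = l * u
          have h1 := hzc u (Subgroup.mem_sup_left u.2)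
          have h2 : (u : G) * t = t * u := Subgroup.mem_centralizer_iff.mp (hcen ht) u u.2
          have h3 : (u : G) * l * t = l * u * t := by rw [mul_assoc, h1, mul_assoc, mul_assoc, h2]
          exact mul_right_cancel h3
        rw [hL.2.1, Subgroup.mem_bot] at hl1
        have hl' : l = 1 := congrArg Subtype.val hl1
        rw [hl', one_mul]
        rw [hl', one_mul] at hzc
        exact ih (fun M hM => hs M (Finset.mem_insert_of_mem hM)) t ht (fun w hw => hzc w (Subgroup.mem_sup_right hw))
    have := Fintype.ofFinite (Subgroup G)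
    set s : Finset (Subgroup G) := Finset.univ.filter (· ∈ S) with hs
    have hMle : Subgroup.normalClosure (K : Set G) ≤ s.sup id := by
      rw [Subgroup.normalClosure, Subgroup.closure_le]
      intro x hx
      obtain ⟨k, hk, hkx⟩ := Group.mem_conjugatesOfSet_iff.mp hx
      obtain ⟨c, hc⟩ := isConj_iff.mp hkx
      exact (Finset.le_sup (f := id) (show K.map (MulAut.conj c).toMonoidHom ∈ s by
        rw [hs, Finset.mem_filter]; exact ⟨Finset.mem_univ _, c, rfl⟩)) ⟨k, hk, hc⟩
    rw [Subgroup.eq_bot_iff_forall]
    intro n hn
    refine key s (fun L hL => (Finset.mem_filter.mp hL).2) n (hMle (hle hn)) fun w hw => ?_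
    have hcN : s.sup id ≤ Subgroup.centralizer (N : Set G) := Finset.sup_le fun L hL =>
      Subgroup.commutator_eq_bot_iff_le_centralizer.mp (hSc L (Finset.mem_filter.mp hL).2).2.2
    exact (Subgroup.mem_centralizer_iff.mp (hcN hw) n hn).symm
  refine ⟨part1, fun hF => le_antisymm (sSup_le ?_) (sSup_le ?_)⟩
  · rintro N ⟨hN1, hN, hmin⟩
    -- a minimal non-trivial subnormal subgroup inside `N`
    obtain ⟨S, ⟨hSsn, hSN, hS1⟩, hSmin⟩ := (Set.toFinite {S : Subgroup G | S.IsSubnormal ∧ S ≤ N ∧ S ≠ ⊥}).exists_minimal
      ⟨N, hN.isSubnormal, le_rfl, hN1⟩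
    have hsimple : IsSimpleGroup S := by
      have := (Subgroup.nontrivial_iff_ne_bot S).mpr hS1
      refine ⟨fun T hT => or_iff_not_imp_left.mpr fun hT1 => ?_⟩
      have hTS : T.map S.subtype ≤ S := Subgroup.map_subtype_le _
      have h1 := hSmin (y := T.map S.subtype) ⟨hT.isSubnormal.trans' hSsn, hTS.trans hSN,
        fun e => hT1 ((Subgroup.map_eq_bot_iff_of_injective _ S.subtype_injective).mp e)⟩ hTS
      refine Subgroup.map_injective S.subtype_injective (le_antisymm (Subgroup.map_mono le_top) ?_)
      exact (Subgroup.map_subtype_le _).trans h1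
    have hcen : Subgroup.center S = ⊥ := by
      rcases (inferInstance : (Subgroup.center S).Normal).eq_bot_or_eq_top with h | h
      · exact h
      exfalso
      apply hS1
      rw [eq_bot_iff, ← hF]
      have : IsMulCommutative S := ⟨⟨fun a b => Subgroup.mem_center_iff.mp (h ▸ Subgroup.mem_top b) a⟩⟩
      have : Group.IsNilpotent S := isNilpotent_of_comm' (fun a b => this.is_comm.comm a b)
      exact CfsgLib.isSubnormal_nilpotent_le_fitting hSsn this
    have hcomp : Cfsg.IsComponent S := by
      refine ⟨hSsn, ?_, ?_⟩
      · rw [Group.isPerfect_def]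
        rcases (inferInstance : (_root_.commutator S).Normal).eq_bot_or_eq_top with h | h
        · exfalso
          rw [commutator_def, Subgroup.commutator_eq_bot_iff_le_centralizer] at h
          have htop : Subgroup.center S = ⊤ := eq_top_iff.mpr fun a _ =>
            Subgroup.mem_center_iff.mpr fun b => Subgroup.mem_centralizer_iff.mp (h (Subgroup.mem_top a)) b trivial
          rw [hcen] at htop
          have := hsimple.toNontrivial
          exact bot_ne_top htop
        · exact h
      · exact ((QuotientGroup.quotientMulEquivOfEq hcen).trans QuotientGroup.quotientBot).isSimpleGroup_congr.mpr hsimple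
    rcases hmin (Subgroup.normalClosure (S : Set G)) inferInstance (Subgroup.normalClosure_le_normal hSN) with h | h
    · exact absurd h (part1 S hcomp hcen).1
    · rw [← h]
      exact Subgroup.normalClosure_le_normal (CfsgLib.le_layer hcomp)
  · intro K hK
    have hKc : Subgroup.center ↥K = ⊥ := by
      have h1 : ((Subgroup.center ↥K).map K.subtype).IsSubnormal :=
        (inferInstance : (Subgroup.center ↥K).Normal).isSubnormal.trans' hK.1
      have hc : IsMulCommutative ((Subgroup.center ↥K).map K.subtype) := inferInstance
      have : Group.IsNilpotent ((Subgroup.center ↥K).map K.subtype) := isNilpotent_of_comm' (fun a b => hc.is_comm.comm a b)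
      have h2 := CfsgLib.isSubnormal_nilpotent_le_fitting h1 this
      rw [hF, le_bot_iff] at h2
      exact (Subgroup.map_eq_bot_iff_of_injective _ K.subtype_injective).mp h2
    obtain ⟨h1, h2⟩ := part1 K hK hKc
    exact (Subgroup.le_normalClosure (H := K)).trans (le_sSup ⟨h1, inferInstance, h2⟩)

end Cfsg.Agent.S3747
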