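import Cfsg.Statements.S3748
import Mathlib
import Cfsg.Agent.Lib.Basic
import Cfsg.Agent.Lib.Subnormal
-- import your own Cfsg.Agent.* helpers here

set_option autoImplicit false
open Cfsg

namespace Cfsg.Agent.S3748

open scoped Pointwise

/-- Call a proper subgroup M of G primitive when M = N_G(N) for every non-trivial normal subgroup N of M. If M is a primitive subgroup of the finite group G, then no non-trivial subnormal subgroup of G is contained in M; in particular M ∩ F(G) = 1. -/
theorem result {G : Type*} [Group G] [Finite G] (M : Subgroup G) (hM : M ≠ ⊤) (hprim : ∀ N : Subgroup G, N ≤ M → M ≤ Subgroup.normalizer (N : Set G) → N ≠ ⊥ → Subgroup.normalizer (N : Set G) = M) : (∀ L : Subgroup G, L.IsSubnormal → L ≤ M → L = ⊥) ∧ M ⊓ Cfsg.fittingSubgroup G = ⊥ := by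
  have key : ∀ L : Subgroup G, L.IsSubnormal → L ≤ M → L = ⊥ := by
    intro L hL hLM
    by_contra hne
    set K := sSup {S : Subgroup G | S.IsSubnormal ∧ S ≤ M} with hK
    have hKs : K.IsSubnormal ∧ K ≤ M :=
      CfsgLib.sSup_prop_of_closed_sup (fun S : Subgroup G => S.IsSubnormal ∧ S ≤ M)
        ⟨(inferInstance : (⊥ : Subgroup G).Normal).isSubnormal, bot_le⟩
        (fun A B hA hB => ⟨CfsgLib.isSubnormal_sup hA.1 hB.1, sup_le hA.2 hB.2⟩)
        (S := {S : Subgroup G | S.IsSubnormal ∧ S ≤ M}) fun _ h => h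
    have hconj : ∀ (x : G) (S : Subgroup G), S.IsSubnormal → (MulAut.conj x • S).IsSubnormal := fun x S hS => by
      rw [Subgroup.pointwise_smul_def]
      exact hS.map (f := MulDistribMulAction.toMonoidEnd (MulAut G) G (MulAut.conj x)) (MulAut.conj x).surjective
    have hcard : ∀ x : G, MulAut.conj x • K ≤ K → MulAut.conj x • K = K := fun x h =>
      Subgroup.eq_of_le_of_card_ge h (CfsgLib.card_conj_smul x K).ge
    have hMn : M ≤ Subgroup.normalizer (K : Set G) := by
      intro m hm
      have h1 : MulAut.conj m • K ≤ K := le_sSup ⟨hconj m K hKs.1, fun x hx => by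
        have := M.mul_mem (M.mul_mem hm (hKs.2 (CfsgLib.mem_conj_smul_iff.mp hx))) (M.inv_mem hm)
        simpa [mul_assoc] using this⟩
      rw [Subgroup.mem_normalizer_iff]
      intro z
      conv_rhs => rw [← hcard m h1, CfsgLib.mem_conj_smul_iff]
      simp [mul_assoc]
    have hK0 : K ≠ ⊥ := fun e => hne (le_bot_iff.mp (e ▸ le_sSup ⟨hL, hLM⟩))
    have hN := hprim K hKs.2 hMn hK0
    have hnn : ¬ K.Normal := fun hn => hM (by rw [← hN]; exact Subgroup.normalizer_eq_top_iff.mpr hn)
    obtain ⟨x, hxne, hxle⟩ := CfsgLib.exists_conj_ne_le_normalizer hKs.1 hnn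
    rw [hN] at hxle
    exact hxne (hcard x (le_sSup ⟨hconj x K hKs.1, hxle⟩))
  refine ⟨key, key _ ?_ inf_le_left⟩
  have := CfsgLib.isNilpotent_fittingSubgroup (G := G)
  exact Subgroup.IsSubnormal.trans inf_le_right (CfsgLib.isSubnormal_of_nilpotent _)
    (inferInstance : (Cfsg.fittingSubgroup G).Normal).isSubnormal

end Cfsg.Agent.S3748
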