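import Cfsg.Statements.S3749
import Mathlib
import Cfsg.Agent.Lib.Coprime
import Cfsg.Agent.Lib.Basic
-- import your own Cfsg.Agent.* helpers here

set_option autoImplicit false
open Cfsg

namespace Cfsg.Agent.S3749

/-- Call a proper subgroup M of G primitive when M = N_G(N) for every non-trivial normal subgroup N of M. Let M be a primitive subgroup of the finite group G, p a prime with O_p(M) ≠ 1, and N a normal subgroup of G with M ∩ N = 1. Then p does not divide the order of N; for every prime q there is exactly one Sylow q-subgroup of N normalized by M; and if the order of N has at least two prime divisors then M is not a maximal subgroup of G. -/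
theorem result {G : Type*} [Group G] [Finite G] (M : Subgroup G) (hM : M ≠ ⊤) (hprim : ∀ N : Subgroup G, N ≤ M → M ≤ Subgroup.normalizer (N : Set G) → N ≠ ⊥ → Subgroup.normalizer (N : Set G) = M) {p : ℕ} [Fact p.Prime] (hOp : Cfsg.pCore p ↥M ≠ ⊥) (N : Subgroup G) [N.Normal] (hMN : M ⊓ N = ⊥) : ¬ p ∣ Nat.card N ∧ (∀ q : ℕ, [Fact q.Prime] → ∃! Q : Sylow q ↥N, M ≤ Subgroup.normalizer ((Q : Subgroup ↥N).map N.subtype : Set G)) ∧ ((∃ q r : ℕ, q.Prime ∧ r.Prime ∧ q ≠ r ∧ q ∣ Nat.card N ∧ r ∣ Nat.card N) → ¬ IsCoatom M) := by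
  classical
  have hp : p.Prime := Fact.out
  set Q := (Cfsg.pCore p ↥M).map M.subtype with hQdef
  have hQM : Q ≤ M := Subgroup.map_subtype_le _
  have hQp : IsPGroup p Q := (CfsgLib.isPGroup_pCore p).map _
  have hQ0 : Q ≠ ⊥ := fun h => hOp ((Subgroup.map_eq_bot_iff_of_injective _ M.subtype_injective).mp h)
  have hMQ : M ≤ Subgroup.normalizer (Q : Set G) := by
    intro x hx
    refine Subgroup.le_normalizer_map M.subtype ⟨⟨x, hx⟩, ?_, rfl⟩
    rw [Subgroup.normalizer_eq_top]
    exact Subgroup.mem_top _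
  have hNQ := hprim Q hQM hMQ hQ0
  have hfix : ∀ n ∈ N, (∀ x ∈ Q, x * n = n * x) → n = 1 := by
    intro n hn h
    have h1 : n ∈ Subgroup.normalizer (Q : Set G) := by
      refine Subgroup.mem_normalizer_fintype fun x hx => ?_
      rw [SetLike.mem_coe, ← h x hx, mul_inv_cancel_right]
      exact hx
    rw [hNQ] at h1
    exact Subgroup.mem_bot.mp (hMN.le ⟨h1, hn⟩)
  have hpN : ¬ p ∣ Nat.card N := by
    intro hdvd
    letI : MulAction Q N := MulAction.compHom N ((MulAut.conjNormal (H := N)).comp Q.subtype)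
    have h := hQp.card_modEq_card_fixedPoints N
    have hfp : Nat.card (MulAction.fixedPoints Q N) = 1 := by
      rw [Nat.card_eq_one_iff_unique]
      refine ⟨⟨fun a b => ?_⟩, ⟨⟨1, fun x => map_one ((MulAut.conjNormal (H := N)).comp Q.subtype x)⟩⟩⟩
      have key : ∀ a : MulAction.fixedPoints Q N, (a.1 : G) = 1 := fun a => hfix _ a.1.2 fun x hx => by
        have h' : x * (a.1 : G) * x⁻¹ = a.1 := congrArg Subtype.val (a.2 ⟨x, hx⟩)
        exact mul_inv_eq_iff_eq_mul.mp h'
      exact Subtype.ext (Subtype.ext ((key a).trans (key b).symm))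
    rw [hfp] at h
    have := ((Nat.modEq_zero_iff_dvd.mpr hdvd).symm.trans h)
    have h1 : p ∣ 1 := Nat.modEq_zero_iff_dvd.mp this.symm
    exact hp.one_lt.ne' (Nat.dvd_one.mp h1)
  have hcop : (Nat.card Q).Coprime (Nat.card N) := by
    obtain ⟨k, hk⟩ := IsPGroup.iff_card.mp hQp
    rw [hk]
    exact (hp.coprime_iff_not_dvd.mpr hpN).pow_left k
  have hsolv : Group.IsSolvable Q ∨ Group.IsSolvable N := by
    have := hQp.isNilpotent
    exact Or.inl inferInstance
  have hAN : ∀ A : Subgroup G, A ≤ Subgroup.normalizer (N : Set G) := fun A =>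
    Subgroup.normalizer_eq_top (H := N) ▸ le_top
  have hex : ∀ q : ℕ, [Fact q.Prime] → ∃! S : Sylow q ↥N,
      M ≤ Subgroup.normalizer ((S : Subgroup ↥N).map N.subtype : Set G) := by
    intro q _
    have huniq : ∀ S T : Sylow q ↥N, Q ≤ Subgroup.normalizer ((S : Subgroup ↥N).map N.subtype : Set G) →
        Q ≤ Subgroup.normalizer ((T : Subgroup ↥N).map N.subtype : Set G) → S = T := by
      intro S T hS hT
      obtain ⟨c, hc, e⟩ := CfsgLib.coprime_invariant_sylow_conj (hAN Q) hcop hsolv S T hS hT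
      have : c = 1 := Subtype.ext (hfix c c.2 fun x hx => Subgroup.mem_centralizer_iff.mp hc x hx)
      rw [this, map_one, one_smul] at e
      exact e
    obtain ⟨S, hS⟩ := CfsgLib.coprime_exists_invariant_sylow (hAN Q) hcop hsolv q
    refine ⟨S, ?_, fun T hT => huniq T S (hQM.trans hT) hS⟩
    intro m hm
    -- the conjugate by `m` is again invariant
    set e := MulAut.conjNormal (H := N) m with he
    have hmap : ((e • S : Sylow q ↥N) : Subgroup ↥N).map N.subtype =
        ((S : Subgroup ↥N).map N.subtype).map (MulAut.conj m).toMonoidHom := by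
      change ((S : Subgroup ↥N).map e.toMonoidHom).map N.subtype = _
      rw [Subgroup.map_map, Subgroup.map_map]
      congr 1
    have hSm : Q ≤ Subgroup.normalizer (((e • S : Sylow q ↥N) : Subgroup ↥N).map N.subtype : Set G) := by
      rw [hmap]
      intro x hx
      refine Subgroup.le_normalizer_map (MulAut.conj m).toMonoidHom ⟨m⁻¹ * x * m, hS ?_, by simp [mul_assoc]⟩
      have := (Subgroup.mem_normalizer_iff.mp (hMQ (M.inv_mem hm)) x).mp hx
      simpa using this
    have heq := huniq _ S hSm hS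
    refine Subgroup.mem_normalizer_fintype fun x hx => ?_
    rw [← heq, hmap]
    exact ⟨x, (heq ▸ hx : x ∈ (S : Subgroup ↥N).map N.subtype), rfl⟩
  refine ⟨hpN, hex, ?_⟩
  rintro ⟨q, r, hq, hr, hqr, hqN, hrN⟩ hco
  haveI := Fact.mk hq
  haveI := Fact.mk hr
  obtain ⟨S, hS, -⟩ := hex q
  set S' := (S : Subgroup ↥N).map N.subtype with hS'
  have hS'N : S' ≤ N := Subgroup.map_subtype_le _
  have hScard : Nat.card S' = q ^ (Nat.card N).factorization q := by
    rw [hS', Subgroup.card_map_of_injective N.subtype_injective, S.card_eq_multiplicity]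
  have hlt : M < S' ⊔ M := by
    refine lt_of_le_of_ne le_sup_right fun h => ?_
    have : S' ≤ M ⊓ N := le_inf (h ▸ le_sup_left) hS'N
    rw [hMN, le_bot_iff] at this
    rw [this, Subgroup.card_bot] at hScard
    have := hq.factorization_pos_of_dvd Nat.card_pos.ne' hqN
    exact (Nat.one_lt_pow this.ne' hq.one_lt).ne hScard
  have htop := hco.2 _ hlt
  have hNS : N ≤ S' := by
    intro n hn
    obtain ⟨s, hs, m, hm, e⟩ := CfsgLib.mem_sup_of_le_normalizer hS (htop.ge (Subgroup.mem_top n))
    have : m = 1 := Subgroup.mem_bot.mp (hMN.le ⟨hm, by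
      have := N.mul_mem (N.inv_mem (hS'N hs)) hn
      rwa [← e, inv_mul_cancel_left] at this⟩)
    rw [← e, this, mul_one]
    exact hs
  have : r ∣ q ^ (Nat.card N).factorization q := hScard ▸ hrN.trans (Subgroup.card_dvd_of_le hNS)
  exact hqr ((Nat.prime_dvd_prime_iff_eq hr hq).mp (hr.dvd_of_dvd_pow this)).symm

end Cfsg.Agent.S3749
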