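import Cfsg.Statements.S3750
import Mathlib
import Cfsg.Agent.Lib.Components
import Cfsg.Agent.Lib.Elementary
-- import your own Cfsg.Agent.* helpers here

set_option autoImplicit false
open Cfsg

namespace Cfsg.Agent.S3750

/-- Call a proper subgroup M of G primitive when M = N_G(N) for every non-trivial normal subgroup N of M. Let M be a primitive subgroup of the finite group G and N a normal subgroup of G with M ∩ F*(N) ≠ 1. Then F(G) = 1 and F*(N) = F*(G) = E(G); in particular every minimal normal subgroup of G is contained in N. -/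
theorem result {G : Type*} [Group G] [Finite G] (M : Subgroup G) (hM : M ≠ ⊤) (hprim : ∀ N : Subgroup G, N ≤ M → M ≤ Subgroup.normalizer (N : Set G) → N ≠ ⊥ → Subgroup.normalizer (N : Set G) = M) (N : Subgroup G) [N.Normal] (hMF : M ⊓ (Cfsg.generalizedFittingSubgroup ↥N).map N.subtype ≠ ⊥) : Cfsg.fittingSubgroup G = ⊥ ∧ (Cfsg.generalizedFittingSubgroup ↥N).map N.subtype = Cfsg.generalizedFittingSubgroup G ∧ Cfsg.generalizedFittingSubgroup G = Cfsg.layer G ∧ ∀ K : Subgroup G, K.Normal → K ≠ ⊥ → (∀ K' : Subgroup G, K'.Normal → K' ≤ K → K' = ⊥ ∨ K' = K) → K ≤ N := by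
  classical
  set F := (Cfsg.generalizedFittingSubgroup ↥N).map N.subtype with hF
  haveI hFn : F.Normal := by
    haveI : (Cfsg.generalizedFittingSubgroup ↥N).Characteristic :=
      Subgroup.characteristic_iff_map_eq.mpr fun e => CfsgLib.map_generalizedFittingSubgroup_equiv e
    rw [hF]; infer_instance
  set A := M ⊓ F with hA
  have hMA : M ≤ Subgroup.normalizer (A : Set G) := by
    intro m hm
    refine Subgroup.mem_normalizer_fintype fun x hx => ?_
    exact ⟨M.mul_mem (M.mul_mem hm hx.1) (M.inv_mem hm), hFn.conj_mem x hx.2 m⟩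
  have hNA := hprim A inf_le_left hMA hMF
  -- normal subgroups centralising `F` are trivial
  have hcen : ∀ K : Subgroup G, K.Normal → ⁅K, F⁆ = ⊥ → K = ⊥ := by
    intro K hKn hKF
    have hKM : K ≤ M := by
      rw [← hNA]
      intro k hk
      refine Subgroup.mem_normalizer_fintype fun x hx => ?_
      have := Subgroup.mem_centralizer_iff.mp (Subgroup.commutator_eq_bot_iff_le_centralizer.mp hKF hk) x hx.2
      rw [SetLike.mem_coe, ← this, mul_inv_cancel_right]
      exact hx
    by_contra hK0
    have h1 := hprim K hKM (Subgroup.normalizer_eq_top (H := K) ▸ le_top) hK0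
    rw [Subgroup.normalizer_eq_top] at h1
    exact hM h1.symm
  have hFN : F ≤ N := Subgroup.map_subtype_le _
  have hdisj : ∀ K : Subgroup G, K.Normal → K ⊓ N = ⊥ → K = ⊥ := by
    intro K hKn h
    refine hcen K hKn ?_
    rw [eq_bot_iff]
    refine le_trans (le_inf ?_ ?_) h.le
    · exact (Subgroup.commutator_mono le_rfl le_top).trans (Subgroup.commutator_le_left K ⊤)
    · exact (Subgroup.commutator_mono le_top hFN).trans (Subgroup.commutator_le_right ⊤ N)
  -- the centre of `F*(N)` is trivial
  have hCF : Subgroup.centralizer (F : Set G) = ⊥ := hcen _ Subgroup.normal_centralizer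
    (Subgroup.commutator_eq_bot_iff_le_centralizer.mpr le_rfl)
  have hFitN : Cfsg.fittingSubgroup ↥N = ⊥ := by
    by_contra h0
    haveI := CfsgLib.isNilpotent_fittingSubgroup (G := N)
    haveI : Nontrivial (Cfsg.fittingSubgroup ↥N) := (Subgroup.nontrivial_iff_ne_bot _).mpr h0
    haveI : Nontrivial (Subgroup.center (Cfsg.fittingSubgroup ↥N)) := by
      have h2 := CfsgLib.inf_center_ne_bot_of_nilpotent (G := Cfsg.fittingSubgroup ↥N) (N := ⊤) top_ne_bot
      rw [top_inf_eq] at h2
      exact (Subgroup.nontrivial_iff_ne_bot _).mpr h2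
    obtain ⟨z, hz⟩ := exists_ne (1 : Subgroup.center (Cfsg.fittingSubgroup ↥N))
    have hzC : ((z.1 : ↥N) : G) ∈ Subgroup.centralizer (F : Set G) := by
      have h1 : Cfsg.generalizedFittingSubgroup ↥N ≤ Subgroup.centralizer ({(z.1 : ↥N)} : Set ↥N) := by
        refine sup_le (fun x hx => ?_) (fun x hx => ?_)
        · rw [Subgroup.mem_centralizer_iff]
          simp only [Set.mem_singleton_iff, forall_eq]
          exact Subgroup.mem_centralizer_iff.mp (CfsgLib.layer_le_centralizer_fitting hx) _ z.1.2
        · rw [Subgroup.mem_centralizer_iff]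
          simp only [Set.mem_singleton_iff, forall_eq]
          exact (congrArg Subtype.val (Subgroup.mem_center_iff.mp z.2 ⟨x, hx⟩)).symm
      rw [Subgroup.mem_centralizer_iff]
      rintro _ ⟨x, hx, rfl⟩
      exact (congrArg Subtype.val (Subgroup.mem_centralizer_iff.mp (h1 hx) _ rfl)).symm
    rw [hCF, Subgroup.mem_bot] at hzC
    exact hz (Subtype.ext (Subtype.ext (Subtype.ext hzC)))
  have hFit : Cfsg.fittingSubgroup G = ⊥ := by
    refine hdisj _ inferInstance ?_
    have h1 : (Cfsg.fittingSubgroup G).subgroupOf N ≤ Cfsg.fittingSubgroup ↥N := by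
      refine CfsgLib.le_fittingSubgroup ?_
      haveI := CfsgLib.isNilpotent_fittingSubgroup (G := G)
      refine Subgroup.isNilpotent_of_ker_le_center (N.subtype.subgroupComap (Cfsg.fittingSubgroup G)) ?_
      exact le_of_eq_of_le ((MonoidHom.ker_eq_bot_iff _).mpr (fun a b h =>
        Subtype.ext (Subtype.ext (congrArg (fun t : Cfsg.fittingSubgroup G => (t : G)) h)))) bot_le
    rw [hFitN, le_bot_iff, Subgroup.subgroupOf_eq_bot, disjoint_iff] at h1
    exact h1
  have hgen : Cfsg.generalizedFittingSubgroup G = Cfsg.layer G := by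
    rw [Cfsg.generalizedFittingSubgroup, hFit, sup_bot_eq]
  refine ⟨hFit, ?_, hgen, ?_⟩
  · rw [hgen]
    refine le_antisymm ?_ (sSup_le fun K hK => ?_)
    · have hlay : Cfsg.generalizedFittingSubgroup ↥N = Cfsg.layer ↥N := by
        rw [Cfsg.generalizedFittingSubgroup, hFitN, sup_bot_eq]
      rw [hF, hlay]
      exact CfsgLib.map_layer_le N
    · rcases CfsgLib.component_le_or_commutator_eq_bot hK N with h | h
      · rw [hF, ← Subgroup.map_subgroupOf_eq_of_le h]
        exact Subgroup.map_mono ((CfsgLib.le_layer (CfsgLib.isComponent_subgroupOf hK h)).trans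
          CfsgLib.layer_le_generalized)
      · exfalso
        have hKC : K ≤ Subgroup.centralizer (F : Set G) :=
          (Subgroup.commutator_eq_bot_iff_le_centralizer.mp h).trans (Subgroup.centralizer_le hFN)
        rw [hCF, le_bot_iff] at hKC
        exact CfsgLib.isComponent_ne_bot hK hKC
  · intro K hKn hK0 hKmin
    haveI := hKn
    rcases hKmin (K ⊓ N) inferInstance inf_le_left with h | h
    · exact absurd (hdisj K hKn h) hK0
    · exact h ▸ inf_le_right

end Cfsg.Agent.S3750
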