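import Cfsg.Statements.S3751
import Mathlib
import Cfsg.Agent.Lib.Basic
-- import your own Cfsg.Agent.* helpers here

set_option autoImplicit false
open Cfsg

namespace Cfsg.Agent.S3751

namespace Aux

variable {G : Type*} [Group G] [Finite G] {p : ℕ} [Fact p.Prime]

/-- A `p`-local subgroup. -/
def Loc (p : ℕ) (M : Subgroup G) : Prop :=
  ∃ T : Subgroup G, IsPGroup p T ∧ T ≠ ⊥ ∧ M = Subgroup.normalizer (T : Set G)

/-- A maximal `p`-local subgroup. -/
def MaxLoc (p : ℕ) (M : Subgroup G) : Prop :=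
  Loc p M ∧ ∀ L : Subgroup G, Loc p L → M ≤ L → L = M

omit [Fact p.Prime] in
theorem exists_maxLoc {M : Subgroup G} (h : Loc p M) : ∃ L, MaxLoc p L ∧ M ≤ L := by
  obtain ⟨L, ⟨hL, hML⟩, hmax⟩ := (Set.toFinite {L : Subgroup G | Loc p L ∧ M ≤ L}).exists_maximal ⟨M, h, le_rfl⟩
  exact ⟨L, ⟨hL, fun L' hL' hle => le_antisymm (hmax ⟨hL', hML.trans hle⟩ hle) hle⟩, hML⟩

/-- The `p`-core of a subgroup, inside the group. -/
abbrev R (p : ℕ) (M : Subgroup G) : Subgroup G := (Cfsg.pCore p ↥M).map M.subtype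

omit [Fact p.Prime] [Finite G] in
theorem le_normalizer_map {M : Subgroup G} (N : Subgroup M) [N.Normal] :
    M ≤ Subgroup.normalizer (N.map M.subtype : Set G) := by
  intro x hx
  refine Subgroup.le_normalizer_map M.subtype ⟨⟨x, hx⟩, ?_, rfl⟩
  rw [Subgroup.normalizer_eq_top]
  exact Subgroup.mem_top _

theorem R_ne_bot {M : Subgroup G} (hM : Loc p M) : R p M ≠ ⊥ := by
  obtain ⟨T, hT, hT0, rfl⟩ := hM
  intro h
  haveI : (T.subgroupOf (Subgroup.normalizer (T : Set G))).Normal := Subgroup.normal_in_normalizer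
  have hle := Subgroup.map_mono (f := (Subgroup.normalizer (T : Set G)).subtype)
    (CfsgLib.le_pCore (N := T.subgroupOf (Subgroup.normalizer (T : Set G)))
      (hT.of_equiv (Subgroup.subgroupOfEquivOfLe Subgroup.le_normalizer).symm))
  rw [Subgroup.map_subgroupOf_eq_of_le Subgroup.le_normalizer, show ((Cfsg.pCore p _).map _) = R p (Subgroup.normalizer (T : Set G)) from rfl, h, le_bot_iff] at hle
  exact hT0 hle

theorem normalizer_R {M : Subgroup G} (hM : MaxLoc p M) : Subgroup.normalizer (R p M : Set G) = M :=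
  hM.2 _ ⟨R p M, (CfsgLib.isPGroup_pCore p).map _, R_ne_bot hM.1, rfl⟩ (le_normalizer_map _)

theorem normalizer_self {M : Subgroup G} (hM : MaxLoc p M) {g : G}
    (hg : M.map (MulAut.conj g).toMonoidHom = M) : g ∈ M := by
  rw [← normalizer_R hM]
  refine Subgroup.mem_normalizer_fintype fun r hr => ?_
  obtain ⟨r', hr', rfl⟩ := hr
  let e : ↥M ≃* ↥M := ((MulAut.conj g).subgroupMap M).trans (MulEquiv.subgroupCongr hg)
  have h := CfsgLib.pCore_map_equiv p e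
  exact ⟨e r', h.le ⟨r', hr', rfl⟩, rfl⟩

theorem maxLoc_conj {M : Subgroup G} (hM : MaxLoc p M) (g : G) :
    MaxLoc p (M.map (MulAut.conj g).toMonoidHom) := by
  have key : ∀ (g : G) (L : Subgroup G), Loc p L → Loc p (L.map (MulAut.conj g).toMonoidHom) := by
    rintro g _ ⟨T, hT, hT0, rfl⟩
    refine ⟨T.map (MulAut.conj g).toMonoidHom, hT.map _, fun h => hT0 ((Subgroup.map_eq_bot_iff_of_injective _ (MulAut.conj g).injective).mp h), ?_⟩
    ext x
    constructor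
    · intro hx; exact Subgroup.le_normalizer_map _ hx
    · intro hx
      refine ⟨g⁻¹ * x * g, ?_, by simp [mul_assoc]⟩
      refine Subgroup.mem_normalizer_fintype fun t ht => ?_
      obtain ⟨u, hu, e⟩ := (Subgroup.mem_normalizer_iff.mp hx _).mp ⟨t, ht, rfl⟩
      have : u = g⁻¹ * x * g * t * (g⁻¹ * x * g)⁻¹ := by
        have e' : g * u * g⁻¹ = x * (g * t * g⁻¹) * x⁻¹ := e
        calc u = g⁻¹ * (g * u * g⁻¹) * g := by group
          _ = _ := by rw [e']; group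
      exact this ▸ hu
  have hinv : ∀ L : Subgroup G, ∀ g : G, (L.map (MulAut.conj g).toMonoidHom).map (MulAut.conj g⁻¹).toMonoidHom = L := by
    intro L g
    rw [Subgroup.map_map]
    convert Subgroup.map_id L
    ext x; simp [mul_assoc]
  refine ⟨key g M hM.1, fun L hL hle => ?_⟩
  have h1 := hM.2 _ (key g⁻¹ L hL) (by
    calc M = (M.map (MulAut.conj g).toMonoidHom).map (MulAut.conj g⁻¹).toMonoidHom := (hinv M g).symm
      _ ≤ _ := Subgroup.map_mono hle)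
  have h2 := hinv L g⁻¹
  rw [h1, inv_inv] at h2
  exact h2.symm

theorem prim (hloc : Cfsg.IsOfLocalCharacteristic p G) {M N : Subgroup G} (hM : MaxLoc p M)
    {A : Subgroup G} (hA0 : A ≠ ⊥) (hA : A ≤ M ⊓ N) (hMA : M ≤ Subgroup.normalizer (A : Set G)) :
    N ⊓ Subgroup.normalizer (A : Set G) = M ⊓ N := by
  have hAn : (A.subgroupOf M).Normal := (Subgroup.normal_subgroupOf_iff_le_normalizer (hA.trans inf_le_left)).mpr hMA
  have hchar : Subgroup.centralizer (Cfsg.pCore p ↥M : Set ↥M) ≤ Cfsg.pCore p ↥M := by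
    obtain ⟨T, hT, hT0, hTM⟩ := hM.1
    subst hTM
    exact hloc.2 T hT hT0
  set U := R p A with hU
  have hU0 : U ≠ ⊥ := by
    intro h
    have hd : A.subgroupOf M ⊓ Cfsg.pCore p ↥M = ⊥ := by
      rw [eq_bot_iff]
      rintro x ⟨hxA, hxR⟩
      have hn : (((A.subgroupOf M ⊓ Cfsg.pCore p ↥M).map M.subtype).subgroupOf A).Normal := by
        refine ⟨fun y hy a => ?_⟩
        obtain ⟨z, hz, e⟩ := hy
        refine ⟨⟨(a : G), (hA a.2).1⟩ * z * ⟨(a : G), (hA a.2).1⟩⁻¹, Subgroup.Normal.conj_mem inferInstance z hz _, ?_⟩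
        simp only [map_mul, map_inv, Subgroup.coe_subtype, Subgroup.coe_mul, Subgroup.coe_inv]
        rw [show (z : G) = (y : G) from e]
      have hp' : IsPGroup p (((A.subgroupOf M ⊓ Cfsg.pCore p ↥M).map M.subtype).subgroupOf A) := by
        refine (((CfsgLib.isPGroup_pCore (G := M) p).to_le inf_le_right).map M.subtype).of_equiv
          (Subgroup.subgroupOfEquivOfLe ?_).symm
        rintro _ ⟨z, hz, rfl⟩; exact hz.1
      have hmem : (x : G) ∈ U := ⟨⟨x, hxA⟩, CfsgLib.le_pCore (N := _) hp'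
        (show (⟨(x : G), hxA⟩ : A) ∈ ((A.subgroupOf M ⊓ Cfsg.pCore p ↥M).map M.subtype).subgroupOf A from ⟨x, ⟨hxA, hxR⟩, rfl⟩), rfl⟩
      rw [h, Subgroup.mem_bot] at hmem
      exact Subgroup.mem_bot.mpr (Subtype.ext hmem)
    refine hA0 ((Subgroup.eq_bot_iff_forall _).mpr fun a ha => ?_)
    have haC : (⟨a, (hA ha).1⟩ : M) ∈ Subgroup.centralizer (Cfsg.pCore p ↥M : Set ↥M) :=
      Subgroup.mem_centralizer_iff.mpr fun r hr =>
        (Subgroup.commute_of_normal_of_disjoint (A.subgroupOf M) (Cfsg.pCore p ↥M) hAn inferInstance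
          (disjoint_iff.mpr hd) _ r ha hr).symm
    have : (⟨a, (hA ha).1⟩ : M) ∈ (⊥ : Subgroup M) := hd ▸ ⟨ha, hchar haC⟩
    exact congrArg Subtype.val (Subgroup.mem_bot.mp this)
  have hNU : Subgroup.normalizer (A : Set G) ≤ Subgroup.normalizer (U : Set G) := by
    intro g hg
    have hgA : A.map (MulAut.conj g).toMonoidHom = A := by
      refine Subgroup.eq_of_le_of_card_ge ?_ (Subgroup.card_map_of_injective (MulAut.conj g).injective).ge
      rintro _ ⟨a, ha, rfl⟩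
      exact (Subgroup.mem_normalizer_iff.mp hg a).mp ha
    refine Subgroup.mem_normalizer_fintype fun r hr => ?_
    obtain ⟨r', hr', rfl⟩ := hr
    let e : ↥A ≃* ↥A := ((MulAut.conj g).subgroupMap A).trans (MulEquiv.subgroupCongr hgA)
    exact ⟨e r', (CfsgLib.pCore_map_equiv p e).le ⟨r', hr', rfl⟩, rfl⟩
  have hNUM : Subgroup.normalizer (U : Set G) = M :=
    hM.2 _ ⟨U, (CfsgLib.isPGroup_pCore p).map _, hU0, rfl⟩ (hMA.trans hNU)
  refine le_antisymm (le_inf (inf_le_right.trans (hNU.trans hNUM.le)) inf_le_left) (le_inf inf_le_right ?_)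
  exact inf_le_left.trans hMA

theorem pair {A B T : Subgroup G} (hA : MaxLoc p A) (hB : MaxLoc p B) (hT : IsPGroup p T) (hTA : T ≤ A)
    (hTB : T ≤ B) (hcA : Nat.card T = p ^ (Nat.card A).factorization p)
    (hcB : Nat.card T = p ^ (Nat.card B).factorization p) : R p A ⊔ R p B ≤ A ⊓ B := by
  have key : ∀ M : Subgroup G, T ≤ M → Nat.card T = p ^ (Nat.card M).factorization p → R p M ≤ T := by
    intro M hTM hc
    let S : Sylow p M := Sylow.ofCard (T.subgroupOf M) (by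
      rw [Nat.card_congr (Subgroup.subgroupOfEquivOfLe hTM).toEquiv, hc])
    have := Subgroup.map_mono (f := M.subtype) (CfsgLib.pCore_le_sylow S)
    rwa [show ((S : Subgroup M)) = T.subgroupOf M from Sylow.coe_ofCard _ _, Subgroup.map_subgroupOf_eq_of_le hTM] at this
  exact sup_le (le_inf (Subgroup.map_subtype_le _) ((key A hTA hcA).trans hTB))
    (le_inf ((key B hTB hcB).trans hTA) (Subgroup.map_subtype_le _))

end Aux

/-- Two distinct subgroups M₁, M₂ of G form a primitive pair when, for {i, j} = {1, 2}, every non-trivial normal subgroup A of M_i contained in M₁ ∩ M₂ satisfies N_{M_j}(A) = M₁ ∩ M₂; the pair has characteristic p when moreover C_{M_i}(O_p(M_i)) ≤ O_p(M_i) for both i and O_p(M₁)O_p(M₂) ≤ M₁ ∩ M₂. Let G be a finite group, p a prime dividing its order, with O_p(G) = 1 and every p-local subgroup of characteristic p. Then either G has a primitive pair of characteristic p, or every maximal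 p-local subgroup M of G is strongly p-embedded in G: M is a proper subgroup, p divides its order, and for every g ∉ M the order of M ∩ gMg⁻¹ is prime to p. -/
theorem result {G : Type*} [Group G] [Finite G] {p : ℕ} [Fact p.Prime] (hloc : Cfsg.IsOfLocalCharacteristic p G) (hOp : Cfsg.pCore p G = ⊥) : (∃ M₁ M₂ : Subgroup G, M₁ ≠ M₂ ∧ (∀ A : Subgroup G, A ≠ ⊥ → A ≤ M₁ ⊓ M₂ → (M₁ ≤ Subgroup.normalizer (A : Set G) → M₂ ⊓ Subgroup.normalizer (A : Set G) = M₁ ⊓ M₂) ∧ (M₂ ≤ Subgroup.normalizer (A : Set G) → M₁ ⊓ Subgroup.normalizer (A : Set G) = M₁ ⊓ M₂)) ∧ Subgroup.centralizer (Cfsg.pCore p ↥M₁ : Set ↥M₁) ≤ Cfsg.pCore p ↥M₁ ∧ Subgroup.centralizer (Cfsg.pCore p ↥M₂ : Set ↥M₂) ≤ Cfsg.pCore p ↥M₂ ∧ (Cfsg.pCore p ↥M₁).map M₁.subtype ⊔ (Cfsg.pCore p ↥M₂).map M₂.subtype ≤ M₁ ⊓ M₂) ∨ (∀ M : Subgroup G, (∃ T : Subgroup G, IsPGroup p T ∧ T ≠ ⊥ ∧ M = Subgroup.normalizer (T : Set G)) → (∀ L : Subgroup G, (∃ T : Subgroup G,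 IsPGroup p T ∧ T ≠ ⊥ ∧ L = Subgroup.normalizer (T : Set G)) → M ≤ L → L = M) → M ≠ ⊤ ∧ p ∣ Nat.card M ∧ ∀ g : G, g ∉ M → ¬ p ∣ Nat.card ↥(M ⊓ M.map (MulAut.conj g).toMonoidHom)) := by
  classical
  have hp : p.Prime := Fact.out
  by_cases hse : ∀ M : Subgroup G, Aux.MaxLoc p M → ∀ g : G, g ∉ M → ¬ p ∣ Nat.card ↥(M ⊓ M.map (MulAut.conj g).toMonoidHom)
  · right
    intro M hM hmax
    refine ⟨?_, ?_, hse M ⟨hM, fun L hL hle => hmax L hL hle⟩⟩
    · obtain ⟨T, hT, hT0, rfl⟩ := hM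
      intro h
      haveI : T.Normal := Subgroup.normalizer_eq_top_iff.mp h
      exact hT0 (le_bot_iff.mp (hOp ▸ CfsgLib.le_pCore hT))
    · obtain ⟨T, hT, hT0, rfl⟩ := hM
      obtain ⟨k, hk⟩ := IsPGroup.iff_card.mp hT
      have hk0 : k ≠ 0 := by
        rintro rfl
        exact hT0 (Subgroup.card_eq_one.mp (by rw [hk, pow_zero]))
      exact ((dvd_pow_self p hk0).trans (hk ▸ dvd_rfl)).trans (Subgroup.card_dvd_of_le Subgroup.le_normalizer)
  left
  push Not at hse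
  obtain ⟨M, hM, g, hg, hdiv⟩ := hse
  set S : Set (Subgroup G × Subgroup G) :=
    {q | Aux.MaxLoc p q.1 ∧ Aux.MaxLoc p q.2 ∧ q.1 ≠ q.2 ∧ p ∣ Nat.card ↥(q.1 ⊓ q.2)} with hS
  have hSne : S.Nonempty := ⟨(M, M.map (MulAut.conj g).toMonoidHom), hM, Aux.maxLoc_conj hM g,
    fun h => hg (Aux.normalizer_self hM h.symm), hdiv⟩
  obtain ⟨⟨A, B⟩, ⟨hA, hB, hAB, hABp⟩, hmax⟩ := Set.exists_max_image S
    (fun q => (Nat.card ↥(q.1 ⊓ q.2)).factorization p) (Set.toFinite _) hSne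
  obtain ⟨T0⟩ : Nonempty (Sylow p ↥(A ⊓ B)) := inferInstance
  set T := (T0 : Subgroup ↥(A ⊓ B)).map (A ⊓ B).subtype with hTdef
  have hT : IsPGroup p T := T0.2.map _
  have hTA : T ≤ A := (Subgroup.map_subtype_le _).trans inf_le_left
  have hTB : T ≤ B := (Subgroup.map_subtype_le _).trans inf_le_right
  have hTc : Nat.card T = p ^ (Nat.card ↥(A ⊓ B)).factorization p := by
    rw [hTdef, Subgroup.card_map_of_injective (A ⊓ B).subtype_injective, T0.card_eq_multiplicity]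
  have hf1 : 1 ≤ (Nat.card ↥(A ⊓ B)).factorization p := hp.factorization_pos_of_dvd Nat.card_pos.ne' hABp
  have hT0 : T ≠ ⊥ := fun h => by
    rw [h, Subgroup.card_bot] at hTc
    exact (Nat.one_lt_pow (by omega) hp.one_lt).ne hTc
  have fin : ∀ M₁ M₂ : Subgroup G, Aux.MaxLoc p M₁ → Aux.MaxLoc p M₂ → M₁ ≠ M₂ →
      Aux.R p M₁ ⊔ Aux.R p M₂ ≤ M₁ ⊓ M₂ →
      ∃ M₁ M₂ : Subgroup G, M₁ ≠ M₂ ∧ (∀ A : Subgroup G, A ≠ ⊥ → A ≤ M₁ ⊓ M₂ → (M₁ ≤ Subgroup.normalizer (A : Set G) → M₂ ⊓ Subgroup.normalizer (A : Set G) = M₁ ⊓ M₂) ∧ (M₂ ≤ Subgroup.normalizer (A : Set G) → M₁ ⊓ Subgroup.normalizer (A : Set G) = M₁ ⊓ M₂)) ∧ Subgroup.centralizer (Cfsg.pCore p ↥M₁ : Set ↥M₁) ≤ Cfsg.pCore p ↥M₁ ∧ Subgroup.centralizer (Cfsg.pCore p ↥M₂ : Set ↥M₂) ≤ Cfsg.pCore p ↥M₂ ∧ (Cfsg.pCore p ↥M₁).map M₁.subtype ⊔ (Cfsg.pCore p ↥M₂).map M₂.subtype ≤ M₁ ⊓ M₂ := by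
    intro M₁ M₂ h1 h2 hne hle
    have hch : ∀ M : Subgroup G, Aux.MaxLoc p M → Subgroup.centralizer (Cfsg.pCore p ↥M : Set ↥M) ≤ Cfsg.pCore p ↥M := by
      rintro M ⟨⟨U, hU, hU0, rfl⟩, -⟩
      exact hloc.2 U hU hU0
    refine ⟨M₁, M₂, hne, fun A hA0 hA => ⟨fun h => Aux.prim hloc h1 hA0 hA h, fun h => ?_⟩, hch _ h1, hch _ h2, hle⟩
    rw [Aux.prim hloc h2 hA0 (inf_comm M₁ M₂ ▸ hA) h, inf_comm]
  -- a larger `p`-subgroup in the normalizer
  have grow : ∀ M : Subgroup G, T ≤ M → Nat.card T ≠ p ^ (Nat.card M).factorization p →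
      ∃ x ∈ M, x ∈ Subgroup.normalizer (T : Set G) ∧ x ∉ T ∧ IsPGroup p (T ⊔ Subgroup.zpowers x : Subgroup G) := by
    intro M hTM hne
    obtain ⟨P, hP⟩ := (hT.of_equiv (Subgroup.subgroupOfEquivOfLe hTM).symm).exists_le_sylow
    set P' := (P : Subgroup M).map M.subtype with hP'
    have hTP : T ≤ P' := by
      rw [hP', ← Subgroup.map_subgroupOf_eq_of_le hTM]; exact Subgroup.map_mono hP
    have hlt : T < P' := lt_of_le_of_ne hTP fun h => hne (by
      rw [h, hP', Subgroup.card_map_of_injective M.subtype_injective, P.card_eq_multiplicity])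
    haveI : Group.IsNilpotent P' := (P.2.map M.subtype).isNilpotent
    have h1 : T.subgroupOf P' < ⊤ := lt_top_iff_ne_top.mpr fun h => hlt.not_ge (Subgroup.subgroupOf_eq_top.mp h)
    obtain ⟨x, hxn, hxT⟩ := SetLike.exists_of_lt (normalizerCondition_of_isNilpotent (G := P') _ h1)
    have hxN : (x : G) ∈ Subgroup.normalizer (T : Set G) := Subgroup.mem_normalizer_fintype fun t ht =>
      (Subgroup.mem_normalizer_iff.mp hxn ⟨t, hTP ht⟩).mp ht
    exact ⟨x, Subgroup.map_subtype_le _ x.2, hxN, hxT,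
      (P.2.map M.subtype).to_le (sup_le hTP (Subgroup.zpowers_le.mpr x.2))⟩
  have noboth : ∀ X Y : Subgroup G, Aux.MaxLoc p X → Aux.MaxLoc p Y → T ≤ X → T ≤ Y → X ≠ Y →
      ∀ x ∈ X, x ∈ Y → x ∉ T → IsPGroup p (T ⊔ Subgroup.zpowers x : Subgroup G) → False := by
    intro X Y hX hY hTX hTY hXY x hxX hxY hxT hxp
    have hle : T ⊔ Subgroup.zpowers x ≤ X ⊓ Y :=
      sup_le (le_inf hTX hTY) (Subgroup.zpowers_le.mpr ⟨hxX, hxY⟩)
    obtain ⟨j, hj⟩ := IsPGroup.iff_card.mp hxp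
    have h1 : (Nat.card ↥(A ⊓ B)).factorization p < j := by
      refine (Nat.pow_lt_pow_iff_right hp.one_lt).mp ?_
      rw [← hj, ← hTc]
      refine lt_of_not_ge fun h => ?_
      have := Subgroup.eq_of_le_of_card_ge (le_sup_left : T ≤ T ⊔ Subgroup.zpowers x) h
      exact hxT (this.ge (Subgroup.mem_sup_right (Subgroup.mem_zpowers x)))
    have hdvd : p ^ j ∣ Nat.card ↥(X ⊓ Y) := hj ▸ Subgroup.card_dvd_of_le hle
    have h2 := (hp.pow_dvd_iff_le_factorization Nat.card_pos.ne').mp hdvd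
    have h3 := hmax (X, Y) ⟨hX, hY, hXY, (dvd_pow_self p (by omega)).trans hdvd⟩
    dsimp only at h3
    omega
  have one : ∀ A B : Subgroup G, Aux.MaxLoc p A → Aux.MaxLoc p B → A ≠ B → T ≤ A → T ≤ B →
      Nat.card T = p ^ (Nat.card A).factorization p →
      ∃ M₁ M₂ : Subgroup G, Aux.MaxLoc p M₁ ∧ Aux.MaxLoc p M₂ ∧ M₁ ≠ M₂ ∧ Aux.R p M₁ ⊔ Aux.R p M₂ ≤ M₁ ⊓ M₂ := by
    intro A B hA hB hAB hTA hTB hcA
    by_cases hcB : Nat.card T = p ^ (Nat.card B).factorization p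
    · exact ⟨A, B, hA, hB, hAB, Aux.pair hA hB hT hTA hTB hcA hcB⟩
    obtain ⟨x, hxB, hxN, hxT, hxp⟩ := grow B hTB hcB
    have hxA : x ∉ A := fun h => noboth A B hA hB hTA hTB hAB x h hxB hxT hxp
    refine ⟨A, A.map (MulAut.conj x).toMonoidHom, hA, Aux.maxLoc_conj hA x,
      fun h => hxA (Aux.normalizer_self hA h.symm), Aux.pair hA (Aux.maxLoc_conj hA x) hT hTA ?_ hcA ?_⟩
    · intro t ht
      refine ⟨x⁻¹ * t * x, hTA ?_, by simp [mul_assoc]⟩
      have := (Subgroup.mem_normalizer_iff.mp (inv_mem hxN) t).mp ht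
      simpa using this
    · rw [show Nat.card (A.map (MulAut.conj x).toMonoidHom) = Nat.card A from
        Subgroup.card_map_of_injective (MulAut.conj x).injective, hcA]
  obtain ⟨M₁, M₂, h1, h2, hne, hle⟩ : ∃ M₁ M₂ : Subgroup G, Aux.MaxLoc p M₁ ∧ Aux.MaxLoc p M₂ ∧ M₁ ≠ M₂ ∧
      Aux.R p M₁ ⊔ Aux.R p M₂ ≤ M₁ ⊓ M₂ := by
    by_cases hcA : Nat.card T = p ^ (Nat.card A).factorization p
    · exact one A B hA hB hAB hTA hTB hcA
    by_cases hcB : Nat.card T = p ^ (Nat.card B).factorization p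
    · exact one B A hB hA hAB.symm hTB hTA hcB
    exfalso
    obtain ⟨x, hxA, hxN, hxT, hxp⟩ := grow A hTA hcA
    obtain ⟨y, hyB, hyN, hyT, hyp⟩ := grow B hTB hcB
    obtain ⟨C, hC, hNC⟩ := Aux.exists_maxLoc (p := p) (M := Subgroup.normalizer (T : Set G)) ⟨T, hT, hT0, rfl⟩
    have hTC : T ≤ C := Subgroup.le_normalizer.trans hNC
    rcases eq_or_ne C A with rfl | hCA
    · exact noboth C B hC hB hTC hTB hAB y (hNC hyN) hyB hyT hyp
    · exact noboth A C hA hC hTA hTC hCA.symm x hxA (hNC hxN) hxT hxp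
  exact fin M₁ M₂ h1 h2 hne hle

end Cfsg.Agent.S3751
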