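import Cfsg.Statements.S3752
import Mathlib
import Cfsg.Agent.Lib.Components
import Cfsg.Agent.Lib.Subnormal
-- import your own Cfsg.Agent.* helpers here

set_option autoImplicit false
open Cfsg

namespace Cfsg.Agent.S3752

namespace Aux

open Cfsg

variable {G : Type*} [Group G] [Finite G]

/-- `O_p(M)` as a subgroup of the ambient group. -/
abbrev R (p : ℕ) (M : Subgroup G) : Subgroup G := (Cfsg.pCore p ↥M).map M.subtype

theorem R_le (p : ℕ) (M : Subgroup G) : R p M ≤ M := Subgroup.map_subtype_le _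

theorem R_isPGroup (p : ℕ) (M : Subgroup G) : IsPGroup p (R p M) := (CfsgLib.isPGroup_pCore p).map _

theorem le_normalizer_map {M : Subgroup G} (N : Subgroup M) [N.Normal] :
    M ≤ Subgroup.normalizer (N.map M.subtype : Set G) := by
  intro x hx
  refine Subgroup.le_normalizer_map M.subtype ⟨⟨x, hx⟩, ?_, rfl⟩
  rw [Subgroup.normalizer_eq_top]
  exact Subgroup.mem_top _

theorem commute_R {p q : ℕ} (hp : p.Prime) (hq : q.Prime) (hne : p ≠ q) {M₁ M₂ : Subgroup G}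
    (h₁ : R p M₁ ≤ M₂) (h₂ : R q M₂ ≤ M₁) {x y : G} (hx : x ∈ R p M₁) (hy : y ∈ R q M₂) :
    x * y = y * x := by
  have h1 : x * y * x⁻¹ * y⁻¹ ∈ R p M₁ := by
    have := (R p M₁).mul_mem hx ((Subgroup.mem_normalizer_iff.mp (le_normalizer_map _ (h₂ hy)) _).mp ((R p M₁).inv_mem hx))
    simpa [mul_assoc] using this
  have h2 : x * y * x⁻¹ * y⁻¹ ∈ R q M₂ :=
    (R q M₂).mul_mem ((Subgroup.mem_normalizer_iff.mp (le_normalizer_map _ (h₁ hx)) _).mp hy) ((R q M₂).inv_mem hy)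
  haveI := Fact.mk hp
  haveI := Fact.mk hq
  have h3 := Subgroup.disjoint_def.mp (IsPGroup.disjoint_of_coprime (R_isPGroup p M₁) (R_isPGroup q M₂)
    ((Nat.coprime_primes hp hq).mpr hne)) h1 h2
  rwa [mul_inv_eq_one, mul_inv_eq_iff_eq_mul] at h3

theorem centralizer_fitting_le {M : Subgroup G} (hE : Cfsg.layer ↥M = ⊥) :
    Subgroup.centralizer (Cfsg.fittingSubgroup ↥M : Set ↥M) ≤ Cfsg.fittingSubgroup ↥M := by
  have h := CfsgLib.centralizer_generalizedFitting_le (G := M)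
  rwa [Cfsg.generalizedFittingSubgroup, hE, bot_sup_eq] at h

/-- An element centralising every `O_r(M)` lies in the Fitting subgroup. -/
theorem mem_fitting {M : Subgroup G} (hE : Cfsg.layer ↥M = ⊥) {w : ↥M}
    (h : ∀ r : ℕ, r.Prime → ∀ x ∈ R r M, x * (w : G) = (w : G) * x) : w ∈ Cfsg.fittingSubgroup ↥M := by
  refine centralizer_fitting_le hE ?_
  have hle : Cfsg.fittingSubgroup ↥M ≤ Subgroup.centralizer ({w} : Set ↥M) := by
    rw [CfsgLib.fittingSubgroup_eq_iSup_pCore]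
    refine iSup_le fun r x hx => Subgroup.mem_centralizer_iff.mpr ?_
    simp only [Set.mem_singleton_iff, forall_eq]
    exact Subtype.ext (h r r.2 x ⟨x, hx, rfl⟩).symm
  exact Subgroup.mem_centralizer_iff.mpr fun f hf => (Subgroup.mem_centralizer_iff.mp (hle hf) w rfl).symm

/-- The key step. -/
theorem R_le_R {M₁ M₂ : Subgroup G} (hE : Cfsg.layer ↥M₁ = ⊥)
    (h₁ : ∀ r : ℕ, r.Prime → R r M₁ ≤ M₂) (h₂ : ∀ r : ℕ, r.Prime → R r M₂ ≤ M₁)
    {p q : ℕ} (hp : p.Prime) (hq : q.Prime) (hne : p ≠ q) (hq0 : R q M₂ ≠ ⊥)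
    (hN : M₁ ⊓ Subgroup.normalizer (R q M₂ : Set G) = M₁ ⊓ M₂) : R p M₂ ≤ R p M₁ := by
  haveI := Fact.mk hp
  haveI := Fact.mk hq
  let C : Set ↥M₁ := {c | (∀ r : ℕ, r.Prime → r ≠ p → ∀ x ∈ R r M₁, x * (c : G) = (c : G) * x) ∧
    ∃ k : ℕ, c ^ p ^ k = 1}
  have hCconj : ∀ c ∈ C, ∀ g : ↥M₁, g * c * g⁻¹ ∈ C := by
    rintro c ⟨hc, k, hk⟩ g
    refine ⟨fun r hr hrp x hx => ?_, k, by rw [conj_pow, hk, mul_one, mul_inv_cancel]⟩
    have hx' : (g : G)⁻¹ * x * g ∈ R r M₁ := by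
      have := (Subgroup.mem_normalizer_iff.mp (le_normalizer_map _ (M₁.inv_mem g.2)) x).mp hx
      simpa using this
    have := hc r hr hrp _ hx'
    calc x * ((g * c * g⁻¹ : ↥M₁) : G) = (g : G) * (((g : G)⁻¹ * x * g) * c) * (g : G)⁻¹ := by
          simp only [Subgroup.coe_mul, Subgroup.coe_inv]; group
      _ = ((g * c * g⁻¹ : ↥M₁) : G) * x := by
          rw [this]; simp only [Subgroup.coe_mul, Subgroup.coe_inv]; group
  have hCM : ∀ c ∈ C, (c : G) ∈ M₂ := by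
    rintro c ⟨hc, k, hk⟩
    suffices hcy : ∀ y ∈ R q M₂, (c : G) * y * (c : G)⁻¹ = y by
      have : (c : G) ∈ M₁ ⊓ Subgroup.normalizer (R q M₂ : Set G) := by
        refine ⟨c.2, Subgroup.mem_normalizer_fintype fun y hy => ?_⟩
        rw [SetLike.mem_coe, hcy y hy]
        exact hy
      rw [hN] at this
      exact this.2
    intro y hy
    set w : ↥M₁ := c * ⟨y, h₂ q hq hy⟩ * c⁻¹ * (⟨y, h₂ q hq hy⟩ : ↥M₁)⁻¹ with hw
    have hwG : (w : G) = (c : G) * y * (c : G)⁻¹ * y⁻¹ := rfl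
    -- `y` commutes with `O_p(M₁)`
    have hyr : ∀ r : ℕ, r.Prime → r ≠ q → ∀ x ∈ R r M₁, x * y = y * x := fun r hr hrq x hx =>
      commute_R hr hq hrq (h₁ r hr) (h₂ q hq) hx hy
    have hwF : w ∈ Cfsg.fittingSubgroup ↥M₁ := by
      refine mem_fitting hE fun r hr x hx => ?_
      rw [hwG]
      have hcN := le_normalizer_map (Cfsg.pCore r ↥M₁) (M₁.inv_mem c.2)
      have hyN := le_normalizer_map (Cfsg.pCore r ↥M₁) (M₁.inv_mem (h₂ q hq hy))
      rcases eq_or_ne r p with rfl | hrp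
      · have hyx := hyr r hr hne x hx
        have hx' : (c : G)⁻¹ * x * c ∈ R r M₁ := by
          simpa using (Subgroup.mem_normalizer_iff.mp hcN x).mp hx
        have hyx' := hyr r hr hne _ hx'
        calc x * ((c : G) * y * (c : G)⁻¹ * y⁻¹) = c * (((c : G)⁻¹ * x * c) * y) * (c : G)⁻¹ * y⁻¹ := by group
          _ = c * y * (c : G)⁻¹ * (x * y⁻¹) := by rw [hyx']; group
          _ = c * y * (c : G)⁻¹ * y⁻¹ * x := by
              rw [show x * y⁻¹ = y⁻¹ * x from by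
                rw [eq_inv_mul_iff_mul_eq, ← mul_assoc, ← hyx, mul_inv_cancel_right]]
              group
      · have hcx := hc r hr hrp x hx
        have hx' : y⁻¹ * x * y ∈ R r M₁ ∧ y * x * y⁻¹ ∈ R r M₁ := by
          refine ⟨by simpa using (Subgroup.mem_normalizer_iff.mp hyN x).mp hx, ?_⟩
          exact (Subgroup.mem_normalizer_iff.mp (le_normalizer_map _ (h₂ q hq hy)) x).mp hx
        have hcx' := hc r hr hrp _ hx'.1
        calc x * ((c : G) * y * (c : G)⁻¹ * y⁻¹) = c * x * y * (c : G)⁻¹ * y⁻¹ := by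
              rw [← mul_assoc, ← mul_assoc, ← mul_assoc, hcx]
          _ = c * y * ((y⁻¹ * x * y) * (c : G)⁻¹) * y⁻¹ := by group
          _ = c * y * ((c : G)⁻¹ * (y⁻¹ * x * y)) * y⁻¹ := by
              congr 2
              rw [eq_inv_mul_iff_mul_eq, ← mul_assoc, ← hcx', mul_inv_cancel_right]
          _ = c * y * (c : G)⁻¹ * y⁻¹ * x := by group
    -- `w` is a `q`-element
    set B : Subgroup ↥M₁ := ⨆ (r : Nat.Primes) (_ : (r : ℕ) ≠ q), Cfsg.pCore (r : ℕ) ↥M₁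
    have hFle : Cfsg.fittingSubgroup ↥M₁ ≤ Cfsg.pCore q ↥M₁ ⊔ B := by
      rw [CfsgLib.fittingSubgroup_eq_iSup_pCore]
      refine iSup_le fun r => ?_
      rcases eq_or_ne (r : ℕ) q with e | e
      · rw [e]; exact le_sup_left
      · exact le_sup_of_le_right (le_iSup₂_of_le r e le_rfl)
    obtain ⟨a, ha, b, hb, hab⟩ := Subgroup.mem_sup_of_normal_left.mp (hFle hwF)
    have hby : ∀ t : ↥M₁, (∀ r : ℕ, r.Prime → r ≠ q → ∀ x ∈ R r M₁, x * (t : G) = (t : G) * x) →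
        b * t = t * b := by
      intro t ht
      have hle : B ≤ Subgroup.centralizer ({t} : Set ↥M₁) := by
        refine iSup₂_le fun r hr x hx => Subgroup.mem_centralizer_iff.mpr ?_
        simp only [Set.mem_singleton_iff, forall_eq]
        exact Subtype.ext (ht r r.2 hr x ⟨x, hx, rfl⟩).symm
      exact (Subgroup.mem_centralizer_iff.mp (hle hb) t rfl).symm
    have hya : b * (a * ⟨y, h₂ q hq hy⟩) = a * ⟨y, h₂ q hq hy⟩ * b := by
      have h1 : b * a = a * b := hby a fun r hr hrq x hx => by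
        obtain ⟨x', hx', rfl⟩ := hx
        exact congrArg Subtype.val (Subgroup.commute_of_normal_of_disjoint (Cfsg.pCore r ↥M₁) (Cfsg.pCore q ↥M₁)
          inferInstance inferInstance (by
            haveI := Fact.mk hr
            exact IsPGroup.disjoint_of_coprime (CfsgLib.isPGroup_pCore r) (CfsgLib.isPGroup_pCore q) ((Nat.coprime_primes hr hq).mpr hrq))
          x' a hx' ha).eq
      have h2 : b * ⟨y, h₂ q hq hy⟩ = ⟨y, h₂ q hq hy⟩ * b := hby _ hyr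
      rw [← mul_assoc, h1, mul_assoc, h2, mul_assoc]
    obtain ⟨i, hi⟩ : ∃ i : ℕ, (a * ⟨y, h₂ q hq hy⟩ : ↥M₁) ^ q ^ i = 1 := by
      have hT : IsPGroup q (Cfsg.pCore q ↥M₁ ⊔ Subgroup.zpowers (⟨y, h₂ q hq hy⟩ : ↥M₁) : Subgroup ↥M₁) := by
        refine IsPGroup.to_sup_of_normal_left (CfsgLib.isPGroup_pCore q) ?_
        obtain ⟨j, hj⟩ := R_isPGroup q M₂ ⟨y, hy⟩
        have hj' : (⟨y, h₂ q hq hy⟩ : ↥M₁) ^ q ^ j = 1 := Subtype.ext (by simpa using congrArg Subtype.val hj)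
        obtain ⟨m, -, hm⟩ := (Nat.dvd_prime_pow hq).mp (orderOf_dvd_of_pow_eq_one hj')
        exact IsPGroup.of_card (n := m) (by rw [Nat.card_zpowers]; exact hm)
      obtain ⟨i, hi⟩ := hT ⟨_, Subgroup.mul_mem_sup ha (Subgroup.mem_zpowers _)⟩
      exact ⟨i, by simpa using congrArg Subtype.val hi⟩
    obtain ⟨j, hj⟩ := R_isPGroup q M₂ ⟨y, hy⟩
    have hj' : (⟨y, h₂ q hq hy⟩ : ↥M₁) ^ q ^ j = 1 := Subtype.ext (by simpa using congrArg Subtype.val hj)
    have hprod : b * (a * ⟨y, h₂ q hq hy⟩) = c * ⟨y, h₂ q hq hy⟩ * c⁻¹ := by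
      rw [hya, mul_assoc, ← hby _ hyr, ← mul_assoc, hab, hw, inv_mul_cancel_right]
    have hbq : b ^ q ^ (i + j) = 1 := by
      have e := congrArg (· ^ q ^ (i + j)) hprod
      simp only [conj_pow, (show Commute b (a * ⟨y, h₂ q hq hy⟩) from hya).mul_pow, pow_add, pow_mul, hi,
        one_pow, mul_one] at e
      rw [← pow_mul (⟨y, h₂ q hq hy⟩ : ↥M₁), mul_comm, pow_mul, hj', one_pow, mul_one, mul_inv_cancel] at e
      rw [pow_add, pow_mul]
      exact e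
    have hbF : b ∈ Cfsg.fittingSubgroup ↥M₁ :=
      (iSup₂_le fun r _ => CfsgLib.pCore_le_fittingSubgroup r.2 : B ≤ _) hb
    have hwq : (w : G) ∈ R q M₁ := by
      refine ⟨w, ?_, rfl⟩
      rw [← hab]
      refine mul_mem ha ?_
      haveI := CfsgLib.isNilpotent_fittingSubgroup (G := M₁)
      have hb' : (⟨b, hbF⟩ : Cfsg.fittingSubgroup ↥M₁) ^ q ^ (i + j) = 1 := Subtype.ext (by simpa using hbq)
      obtain ⟨m, -, hm⟩ := (Nat.dvd_prime_pow hq).mp (orderOf_dvd_of_pow_eq_one hb')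
      have := CfsgLib.isSubnormal_isPGroup_le_pCore
        (CfsgLib.isSubnormal_of_nilpotent (Subgroup.zpowers (⟨b, hbF⟩ : Cfsg.fittingSubgroup ↥M₁)))
        (IsPGroup.of_card (p := q) (n := m) (by rw [Nat.card_zpowers]; exact hm))
      exact CfsgLib.map_pCore_le q _ ⟨_, this (Subgroup.mem_zpowers _), rfl⟩
    -- iterate
    have hcw := hc q hq hne.symm _ hwq
    have hiter : ∀ n : ℕ, (c : G) ^ n * y * ((c : G) ^ n)⁻¹ = (w : G) ^ n * y := by
      intro n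
      induction n with
      | zero => simp
      | succ n ih =>
        calc (c : G) ^ (n + 1) * y * ((c : G) ^ (n + 1))⁻¹
            = c * ((c : G) ^ n * y * ((c : G) ^ n)⁻¹) * (c : G)⁻¹ := by rw [pow_succ']; group
          _ = c * ((w : G) ^ n * y) * (c : G)⁻¹ := by rw [ih]
          _ = (w : G) ^ n * ((c : G) * y * (c : G)⁻¹) := by
              rw [← mul_assoc, ((show Commute (w : G) (c : G) from hcw).pow_left n).eq.symm]; group
          _ = (w : G) ^ n * ((w : G) * y) := by rw [hwG]; group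
          _ = (w : G) ^ (n + 1) * y := by rw [pow_succ, mul_assoc]
    have hk' : (c : G) ^ p ^ k = 1 := by simpa using congrArg Subtype.val hk
    have h1 := hiter (p ^ k)
    rw [hk', one_mul, inv_one, mul_one, right_eq_mul] at h1
    obtain ⟨l, hl⟩ := R_isPGroup q M₁ ⟨_, hwq⟩
    have hl' : (w : G) ^ q ^ l = 1 := by simpa using congrArg Subtype.val hl
    have hw1 : (w : G) = 1 := orderOf_eq_one_iff.mp (Nat.eq_one_of_dvd_coprimes
      (Nat.Coprime.pow k l ((Nat.coprime_primes hp hq).mpr hne)) (orderOf_dvd_of_pow_eq_one h1)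
      (orderOf_dvd_of_pow_eq_one hl'))
    rwa [hwG, mul_inv_eq_one] at hw1
  set K := Subgroup.closure C with hK
  haveI hKn : K.Normal := by
    refine ⟨fun x hx g => ?_⟩
    induction hx using Subgroup.closure_induction with
    | mem x hx => exact Subgroup.subset_closure (hCconj x hx g)
    | one => simp
    | mul x y _ _ ihx ihy => simpa [mul_assoc] using mul_mem ihx ihy
    | inv x _ ihx => simpa [mul_assoc] using inv_mem ihx
  have hKM : K ≤ M₂.subgroupOf M₁ := (Subgroup.closure_le _).mpr fun c hc => hCM c hc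
  set L := (R p M₂).subgroupOf M₁ with hL
  have hLK : L ≤ K := by
    intro x hx
    refine Subgroup.subset_closure ⟨fun r hr hrp z hz => commute_R hr hp hrp (h₁ r hr) (h₂ p hp) hz hx, ?_⟩
    obtain ⟨i, hi⟩ := R_isPGroup p M₂ ⟨_, hx⟩
    exact ⟨i, Subtype.ext (by simpa using congrArg Subtype.val hi)⟩
  have hLn : (L.subgroupOf K).Normal := by
    refine ⟨fun x hx g => ?_⟩
    exact (Subgroup.mem_normalizer_iff.mp (le_normalizer_map (Cfsg.pCore p ↥M₂) (hKM g.2)) _).mp hx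
  have hsn : L.IsSubnormal := Subgroup.IsSubnormal.trans (K := K) hLK hLn.isSubnormal hKn.isSubnormal
  have h := CfsgLib.isSubnormal_isPGroup_le_pCore hsn
    ((R_isPGroup p M₂).of_equiv (Subgroup.subgroupOfEquivOfLe (h₂ p hp)).symm)
  have := Subgroup.map_mono (f := M₁.subtype) h
  rwa [Subgroup.subgroupOf_map_subtype, inf_eq_left.mpr (h₂ p hp)] at this

theorem component_inf {M₁ M₂ : Subgroup G} {K : Subgroup ↥M₁} (hK : Cfsg.IsComponent K)
    (hle : K.map M₁.subtype ≤ M₂) :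
    Cfsg.IsComponent ((K.map M₁.subtype).subgroupOf (M₁ ⊓ M₂)) := by
  set I := (M₁ ⊓ M₂).subgroupOf M₁ with hI
  have hKI : K ≤ I := fun x hx => ⟨x.2, hle ⟨x, hx, rfl⟩⟩
  have h := CfsgLib.isComponent_map_equiv (Subgroup.subgroupOfEquivOfLe (inf_le_left : M₁ ⊓ M₂ ≤ M₁))
    (CfsgLib.isComponent_subgroupOf hK hKI)
  refine cast (congrArg Cfsg.IsComponent ?_) h
  ext x
  constructor
  · rintro ⟨y, hy, rfl⟩; exact ⟨_, hy, rfl⟩
  · rintro ⟨z, hz, e⟩
    exact ⟨⟨z, hKI hz⟩, hz, Subtype.ext e⟩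

theorem layer_le {M₁ M₂ : Subgroup G} (h₁ : (Cfsg.generalizedFittingSubgroup ↥M₁).map M₁.subtype ≤ M₂)
    (h₂ : (Cfsg.generalizedFittingSubgroup ↥M₂).map M₂.subtype ≤ M₁) :
    (Cfsg.layer ↥M₁).map M₁.subtype ≤ (Cfsg.layer ↥M₂).map M₂.subtype := by
  rw [Subgroup.map_le_iff_le_comap]
  refine sSup_le fun K hK => ?_
  rw [← Subgroup.map_le_iff_le_comap]
  by_contra hnot
  set K' := K.map M₁.subtype with hK'
  have hK'M₂ : K' ≤ M₂ := (Subgroup.map_mono ((CfsgLib.le_layer hK).trans CfsgLib.layer_le_generalized)).trans h₁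
  have hK'M₁ : K' ≤ M₁ := Subgroup.map_subtype_le _
  have hc := component_inf hK hK'M₂
  have hFle : (Cfsg.fittingSubgroup ↥M₂).map M₂.subtype ≤ M₁ :=
    (Subgroup.map_mono CfsgLib.fittingSubgroup_le_generalized).trans h₂
  have hKC : Cfsg.generalizedFittingSubgroup ↥M₂ ≤ Subgroup.centralizer ((K'.subgroupOf M₂ : Subgroup ↥M₂) : Set ↥M₂) := by
    have hof : ∀ (A : Subgroup ↥M₂), A.map M₂.subtype ≤ M₁ →
        ⁅K'.subgroupOf (M₁ ⊓ M₂), (A.map M₂.subtype).subgroupOf (M₁ ⊓ M₂)⁆ = ⊥ →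
        A ≤ Subgroup.centralizer ((K'.subgroupOf M₂ : Subgroup ↥M₂) : Set ↥M₂) := by
      intro A hA h x hx
      rw [Subgroup.mem_centralizer_iff]
      intro k hk
      have hxI : (x : G) ∈ M₁ ⊓ M₂ := ⟨hA ⟨x, hx, rfl⟩, x.2⟩
      have hkI : (k : G) ∈ M₁ ⊓ M₂ := ⟨hK'M₁ hk, k.2⟩
      have hC := Subgroup.commutator_eq_bot_iff_le_centralizer.mp h (show (⟨_, hkI⟩ : ↥(M₁ ⊓ M₂)) ∈ K'.subgroupOf (M₁ ⊓ M₂) from hk)
      exact Subtype.ext (congrArg Subtype.val (Subgroup.mem_centralizer_iff.mp hC ⟨_, hxI⟩ ⟨x, hx, rfl⟩)).symm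
    refine sup_le (sSup_le fun J hJ => ?_) ?_
    · have hJle : J.map M₂.subtype ≤ M₁ :=
        (Subgroup.map_mono ((CfsgLib.le_layer hJ).trans CfsgLib.layer_le_generalized)).trans h₂
      have hJc := component_inf hJ hJle
      have gen : ∀ I : Subgroup G, I = M₂ ⊓ M₁ → Cfsg.IsComponent ((J.map M₂.subtype).subgroupOf I) := by
        rintro I rfl; exact hJc
      have hJ' := gen (M₁ ⊓ M₂) (inf_comm M₁ M₂)
      rcases CfsgLib.components_eq_or_commute hc hJ' with e | e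
      · exfalso
        refine hnot ?_
        have := congrArg (Subgroup.map (M₁ ⊓ M₂).subtype) e
        rw [Subgroup.subgroupOf_map_subtype, Subgroup.subgroupOf_map_subtype,
          inf_eq_left.mpr (le_inf hK'M₁ hK'M₂), inf_eq_left.mpr (le_inf hJle (Subgroup.map_subtype_le _))] at this
        rw [this]
        exact Subgroup.map_mono (CfsgLib.le_layer hJ)
      · exact hof J hJle e
    · refine hof _ hFle ?_
      haveI : (((Cfsg.fittingSubgroup ↥M₂).map M₂.subtype).subgroupOf (M₁ ⊓ M₂)).Normal :=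
        (Subgroup.normal_subgroupOf_iff_le_normalizer (le_inf hFle (Subgroup.map_subtype_le _))).mpr
          (inf_le_right.trans (le_normalizer_map _))
      have hnil : Group.IsNilpotent (((Cfsg.fittingSubgroup ↥M₂).map M₂.subtype).subgroupOf (M₁ ⊓ M₂)) := by
        haveI := CfsgLib.isNilpotent_fittingSubgroup (G := M₂)
        exact Group.nilpotent_of_mulEquiv (((Cfsg.fittingSubgroup ↥M₂).equivMapOfInjective M₂.subtype M₂.subtype_injective).trans
          (Subgroup.subgroupOfEquivOfLe (le_inf hFle (Subgroup.map_subtype_le _))).symm)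
      rw [eq_bot_iff, ← CfsgLib.component_commutator_fitting hc]
      exact Subgroup.commutator_mono le_rfl (CfsgLib.le_fittingSubgroup hnil)
  have hKF : K'.subgroupOf M₂ ≤ Cfsg.generalizedFittingSubgroup ↥M₂ :=
    (Subgroup.le_centralizer_iff.mp hKC).trans CfsgLib.centralizer_generalizedFitting_le
  refine CfsgLib.isQuasisimple_not_isSolvable hK.2 (Group.isSolvable_of_comm fun a b => Subtype.ext (Subtype.ext ?_))
  have ha : ((a : ↥M₁) : G) ∈ K' := ⟨a, a.2, rfl⟩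
  have hb : ((b : ↥M₁) : G) ∈ K' := ⟨b, b.2, rfl⟩
  change ((a : ↥M₁) : G) * ((b : ↥M₁) : G) = ((b : ↥M₁) : G) * ((a : ↥M₁) : G)
  exact congrArg Subtype.val (Subgroup.mem_centralizer_iff.mp
    (hKC (hKF (show (⟨_, hK'M₂ hb⟩ : ↥M₂) ∈ K'.subgroupOf M₂ from hb))) ⟨_, hK'M₂ ha⟩ ha)

end Aux

/-- Bender's Theorem on primitive pairs. Two distinct subgroups M₁, M₂ of G form a primitive pair when, for {i, j} = {1, 2}, every non-trivial normal subgroup A of M_i contained in M₁ ∩ M₂ satisfies N_{M_j}(A) = M₁ ∩ M₂; the pair has characteristic p when moreover C_{M_i}(O_p(M_i)) ≤ O_p(M_i) for both i and O_p(M₁)O_p(M₂) ≤ M₁ ∩ M₂. If (M₁, M₂) is a primitive pair of the finite group G with F*(M₁) ≤ M₂ and F*(M₂) ≤ M₁, then for some prime p the pair has characteristic p. -/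
theorem result {G : Type*} [Group G] [Finite G] (M₁ M₂ : Subgroup G) (hne : M₁ ≠ M₂) (hP : ∀ A : Subgroup G, A ≠ ⊥ → A ≤ M₁ ⊓ M₂ → (M₁ ≤ Subgroup.normalizer (A : Set G) → M₂ ⊓ Subgroup.normalizer (A : Set G) = M₁ ⊓ M₂) ∧ (M₂ ≤ Subgroup.normalizer (A : Set G) → M₁ ⊓ Subgroup.normalizer (A : Set G) = M₁ ⊓ M₂)) (h₁ : (Cfsg.generalizedFittingSubgroup ↥M₁).map M₁.subtype ≤ M₂) (h₂ : (Cfsg.generalizedFittingSubgroup ↥M₂).map M₂.subtype ≤ M₁) : ∃ p : ℕ, p.Prime ∧ Subgroup.centralizer (Cfsg.pCore p ↥M₁ : Set ↥M₁) ≤ Cfsg.pCore p ↥M₁ ∧ Subgroup.centralizer (Cfsg.pCore p ↥M₂ : Set ↥M₂) ≤ Cfsg.pCore p ↥M₂ ∧ (Cfsg.pCore p ↥M₁).map M₁.subtype ⊔ (Cfsg.pCore p ↥M₂).map M₂.subtype ≤ M₁ ⊓ M₂ := by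
  classical
  -- a common nontrivial invariant subgroup is impossible
  have key : ∀ A : Subgroup G, A ≠ ⊥ → A ≤ M₁ ⊓ M₂ → M₁ ≤ Subgroup.normalizer (A : Set G) →
      M₂ ≤ Subgroup.normalizer (A : Set G) → False := by
    intro A hA0 hAI hA1 hA2
    refine hne (le_antisymm ?_ ?_)
    · have := (hP A hA0 hAI).2 hA2
      rw [inf_eq_left.mpr hA1] at this
      exact this.le.trans inf_le_right
    · have := (hP A hA0 hAI).1 hA1
      rw [inf_eq_left.mpr hA2] at this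
      exact this.le.trans inf_le_left
  have hE := le_antisymm (Aux.layer_le h₁ h₂) (Aux.layer_le h₂ h₁)
  have hE1' : (Cfsg.layer ↥M₁).map M₁.subtype = ⊥ := by
    by_contra h
    refine key _ h (le_inf (Subgroup.map_subtype_le _) (hE ▸ Subgroup.map_subtype_le _)) (Aux.le_normalizer_map _) ?_
    rw [hE]
    exact Aux.le_normalizer_map _
  have hE1 : Cfsg.layer ↥M₁ = ⊥ := (Subgroup.map_eq_bot_iff_of_injective _ M₁.subtype_injective).mp hE1'
  have hE2 : Cfsg.layer ↥M₂ = ⊥ := (Subgroup.map_eq_bot_iff_of_injective _ M₂.subtype_injective).mp (hE ▸ hE1')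
  have hR1 : ∀ r : ℕ, r.Prime → Aux.R r M₁ ≤ M₂ := fun r hr =>
    (Subgroup.map_mono ((CfsgLib.pCore_le_fittingSubgroup hr).trans CfsgLib.fittingSubgroup_le_generalized)).trans h₁
  have hR2 : ∀ r : ℕ, r.Prime → Aux.R r M₂ ≤ M₁ := fun r hr =>
    (Subgroup.map_mono ((CfsgLib.pCore_le_fittingSubgroup hr).trans CfsgLib.fittingSubgroup_le_generalized)).trans h₂
  have hsub : ∀ (M : Subgroup G), Cfsg.layer ↥M = ⊥ → (∀ r : ℕ, r.Prime → Aux.R r M = ⊥) → M = ⊥ := by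
    intro M hEM h
    refine (Subgroup.eq_bot_iff_forall _).mpr fun x hx => ?_
    have hF : Cfsg.fittingSubgroup ↥M = ⊥ := by
      rw [CfsgLib.fittingSubgroup_eq_iSup_pCore]
      exact iSup_eq_bot.mpr fun r => (Subgroup.map_eq_bot_iff_of_injective _ M.subtype_injective).mp (h r r.2)
    have := Aux.mem_fitting hEM (w := ⟨x, hx⟩) (fun r hr y hy => by
      rw [h r hr, Subgroup.mem_bot] at hy; simp [hy])
    rw [hF, Subgroup.mem_bot] at this
    exact congrArg Subtype.val this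
  -- one prime for `M₁` gives the conclusion
  have fin : ∀ A B : Subgroup G, Cfsg.layer ↥A = ⊥ → Cfsg.layer ↥B = ⊥ → A ≠ B →
      (∀ r : ℕ, r.Prime → Aux.R r A ≤ B) → (∀ r : ℕ, r.Prime → Aux.R r B ≤ A) →
      ∀ p : ℕ, p.Prime → (∀ r : ℕ, r.Prime → r ≠ p → Aux.R r A = ⊥) →
      Subgroup.centralizer (Cfsg.pCore p ↥A : Set ↥A) ≤ Cfsg.pCore p ↥A ∧
        Subgroup.centralizer (Cfsg.pCore p ↥B : Set ↥B) ≤ Cfsg.pCore p ↥B := by
    intro A B hEA hEB hAB hA hB p hp hone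
    have hF : ∀ (M : Subgroup G), Cfsg.layer ↥M = ⊥ → (∀ r : ℕ, r.Prime → r ≠ p → Aux.R r M = ⊥) →
        Subgroup.centralizer (Cfsg.pCore p ↥M : Set ↥M) ≤ Cfsg.pCore p ↥M := by
      intro M hEM h
      have hFeq : Cfsg.fittingSubgroup ↥M = Cfsg.pCore p ↥M := by
        refine le_antisymm ?_ (CfsgLib.pCore_le_fittingSubgroup hp)
        rw [CfsgLib.fittingSubgroup_eq_iSup_pCore]
        refine iSup_le fun r => ?_
        rcases eq_or_ne (r : ℕ) p with e | e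
        · rw [e]
        · rw [(Subgroup.map_eq_bot_iff_of_injective _ M.subtype_injective).mp (h r r.2 e)]; exact bot_le
      have := Aux.centralizer_fitting_le hEM
      rwa [hFeq] at this
    have hA' := hF A hEA hone
    refine ⟨hA', hF B hEB fun q hq hqp => ?_⟩
    refine (Subgroup.eq_bot_iff_forall _).mpr fun y hy => ?_
    have hyC : (⟨y, hB q hq hy⟩ : ↥A) ∈ Cfsg.pCore p ↥A := hA' (Subgroup.mem_centralizer_iff.mpr fun x hx =>
      Subtype.ext (Aux.commute_R hp hq hqp.symm (hA p hp) (hB q hq) ⟨x, hx, rfl⟩ hy))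
    haveI := Fact.mk hp
    haveI := Fact.mk hq
    exact Subgroup.disjoint_def.mp (IsPGroup.disjoint_of_coprime (Aux.R_isPGroup p A) (Aux.R_isPGroup q B)
      ((Nat.coprime_primes hp hq).mpr hqp.symm)) ⟨_, hyC, rfl⟩ hy
  suffices h : ∃ p : ℕ, p.Prime ∧ Subgroup.centralizer (Cfsg.pCore p ↥M₁ : Set ↥M₁) ≤ Cfsg.pCore p ↥M₁ ∧
      Subgroup.centralizer (Cfsg.pCore p ↥M₂ : Set ↥M₂) ≤ Cfsg.pCore p ↥M₂ by
    obtain ⟨p, hp, ha, hb⟩ := h
    exact ⟨p, hp, ha, hb, sup_le (le_inf (Aux.R_le p M₁) (hR1 p hp)) (le_inf (hR2 p hp) (Aux.R_le p M₂))⟩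
  have h2or : ∀ M : Subgroup G, (∃ p : ℕ, p.Prime ∧ ∀ r : ℕ, r.Prime → r ≠ p → Aux.R r M = ⊥) ∨
      ∀ p : ℕ, p.Prime → ∃ q : ℕ, q.Prime ∧ q ≠ p ∧ Aux.R q M ≠ ⊥ := by
    intro M
    by_cases h : ∃ p : ℕ, p.Prime ∧ ∀ r : ℕ, r.Prime → r ≠ p → Aux.R r M = ⊥
    · exact Or.inl h
    · push Not at h
      exact Or.inr h
  rcases h2or M₁ with ⟨p, hp, hone⟩ | hm1
  · exact ⟨p, hp, fin M₁ M₂ hE1 hE2 hne hR1 hR2 p hp hone⟩
  rcases h2or M₂ with ⟨p, hp, hone⟩ | hm2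
  · exact ⟨p, hp, (fin M₂ M₁ hE2 hE1 hne.symm hR2 hR1 p hp hone).symm⟩
  exfalso
  have hle1 : ∀ p : ℕ, p.Prime → Aux.R p M₂ ≤ Aux.R p M₁ := by
    intro p hp
    obtain ⟨q, hq, hqp, hq0⟩ := hm2 p hp
    exact Aux.R_le_R hE1 hR1 hR2 hp hq hqp.symm hq0
      ((hP _ hq0 (le_inf (hR2 q hq) (Aux.R_le q M₂))).2 (Aux.le_normalizer_map _))
  have hle2 : ∀ p : ℕ, p.Prime → Aux.R p M₁ ≤ Aux.R p M₂ := by
    intro p hp
    obtain ⟨q, hq, hqp, hq0⟩ := hm1 p hp
    refine Aux.R_le_R hE2 hR2 hR1 hp hq hqp.symm hq0 ?_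
    rw [(hP _ hq0 (le_inf (Aux.R_le q M₁) (hR1 q hq))).1 (Aux.le_normalizer_map _), inf_comm]
  obtain ⟨q, hq, -, hq0⟩ := hm1 2 Nat.prime_two
  refine key _ hq0 (le_inf (Aux.R_le q M₁) (hR1 q hq)) (Aux.le_normalizer_map _) ?_
  rw [le_antisymm (hle2 q hq) (hle1 q hq)]
  exact Aux.le_normalizer_map _

end Cfsg.Agent.S3752
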