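import Cfsg.Statements.S3753
import Mathlib
import Cfsg.Agent.Lib.KInf.Stable
import Cfsg.Agent.Lib.StrongFusion.LocalFree
import Cfsg.Agent.Lib.Quadratic.Consequences
-- import your own Cfsg.Agent.* helpers here

set_option autoImplicit false
open Cfsg

namespace Cfsg.Agent.S3753

namespace Aux

open CfsgLib CfsgLib.KInf

universe u
variable {G : Type u} [Group G] [Finite G] {p : ℕ} [hp : Fact p.Prime]

/-- All terms of the K-sequence of a Sylow subgroup lie in the `p`-core. -/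
theorem terms_le (hp2 : p ≠ 2) (hfree : ¬ Involves (Cfsg.qd p) G)
    (hcon : Subgroup.centralizer (pCore p G : Set G) ≤ pCore p G) (S : Sylow p G) :
    ∀ n, kSeqEven ↥(S : Subgroup G) n ≤ (pCore p G).subgroupOf S ∧ kSeqOdd ↥(S : Subgroup G) (n + 1) ≤ (pCore p G).subgroupOf S := by
  by_contra hn
  obtain ⟨A, hc, -⟩ := exists_crit (G := G) (p := p)
  haveI := hc.normalT
  haveI := hc.normal
  set T := pCore p G with hT
  set H : Subgroup G := (S : Subgroup G)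
  have hTS : T ≤ H := IsPGroup.le_sylow_of_normal hc.pGroup S
  have hinj : Function.Injective H.subtype := H.subtype_injective
  have htop : (⊤ : Subgroup H).map H.subtype = H := by rw [← MonoidHom.range_eq_map, H.range_subtype]
  have hw : Witness p H T A := by
    by_cases hA : A ∈ kLowerStarFamily H
    swap
    · exact witness_lower_outside hc hA
    set A₀ := A.subgroupOf H
    have hA₀ : A₀.map H.subtype = A := Subgroup.map_subgroupOf_eq_of_le (hc.le.trans hTS)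
    have hAeven : ∀ m, A₀ ≤ kSeqEven H m := fun m => le_trans (le_sSup ((lower_map_iff hinj).1 (by
      rw [hA₀, show (kSeqOdd H 0).map H.subtype = H from htop]; exact hA))) (even_monotone (Nat.zero_le m))
    by_cases hodd : ∀ m, kSeqOdd H (m + 1) ≤ T.subgroupOf H
    swap
    · obtain ⟨m, hm⟩ := not_forall.1 hodd
      obtain ⟨B, hB, hBT⟩ := exists_mem_not_le' (show ¬ sSup (kUpperStarFamily (kSeqEven H m)) ≤ _ from hm)
      exact witness_upper hc (Subgroup.map_subtype_le _) hBT ((upper_map_iff hinj).2 hB)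
        (hA₀.ge.trans (Subgroup.map_mono (hAeven m)))
    have hex : ∃ m, ¬ kSeqEven H m ≤ T.subgroupOf H := by
      by_contra hcn
      push Not at hcn
      exact hn fun n => ⟨hcn n, hodd n⟩
    classical
    obtain ⟨B, hB, hBT⟩ := exists_mem_not_le' (show ¬ sSup (kLowerStarFamily (kSeqOdd H (Nat.find hex))) ≤ _ from
      Nat.find_spec hex)
    refine witness_lower hc (Subgroup.map_subtype_le _) hBT ((lower_map_iff hinj).2 hB) ?_
    rcases Nat.eq_zero_or_pos (Nat.find hex) with h | h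
    · rw [h, show (kSeqOdd H 0).map H.subtype = H from htop]; exact hc.le.trans hTS
    · obtain ⟨k, hk⟩ := Nat.exists_eq_succ_of_ne_zero h.ne'
      have hE : kSeqEven H k ≤ T.subgroupOf H := not_not.1 (Nat.find_min hex (m := k) (by omega))
      rw [hk]
      refine hA₀.ge.trans (Subgroup.map_mono (le_sSup ((upper_map_iff hinj).1 ⟨?_, ?_⟩)))
      · rw [hA₀]; exact hc.two
      · rw [hA₀, Subgroup.commutator_comm]
        exact (Subgroup.commutator_mono (Subgroup.map_le_iff_le_comap.2 hE) le_rfl).trans hc.three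
  obtain ⟨g, -, -, -, -, hch⟩ := hw
  obtain ⟨U, V, hUV, hUA, h2, h1⟩ := hch hcon
  haveI := hUV.2.2.1
  refine not_stable_quotient hUV (hc.pGroup.to_le (hUA.trans hc.le)) h2 h1
    (Quadratic.isNormalizerPStable_of_free hp2 fun h => hfree ?_)
  obtain ⟨K, R, hR, ⟨e⟩⟩ := h
  obtain ⟨g', hg'⟩ := Quadratic.exists_surjective_comap (QuotientGroup.mk' V) (QuotientGroup.mk'_surjective V)
    (e.toMonoidHom.comp (QuotientGroup.mk' (R.subgroupOf K))) (e.surjective.comp (QuotientGroup.mk'_surjective _))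
  exact QdSection.involves_of_surjective _ g' hg'

/-- A group with commutative Sylow 2-subgroups is `Qd(p)`-free. -/
theorem free_of_abelian (hp2 : p ≠ 2) (h2 : ∀ S : Sylow 2 G, IsMulCommutative (S : Subgroup G)) :
    ¬ Involves (Cfsg.qd p) G := by
  intro h
  obtain ⟨K, R, hR, ⟨e⟩⟩ := StrongFusion.involves_sl2_of_involves_qd h
  haveI : Fact (Nat.Prime 2) := ⟨Nat.prime_two⟩
  let T : Sylow 2 ↥(⊤ : Subgroup G) := default
  let ι : ↥(⊤ : Subgroup G) →* G := (⊤ : Subgroup G).subtype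
  have hι : Function.Surjective ι := fun g => ⟨⟨g, trivial⟩, rfl⟩
  haveI := h2 (T.mapSurjective hι)
  have hT : IsMulCommutative T := ⟨⟨fun a b => by
    apply Subtype.ext
    apply (⊤ : Subgroup G).subtype_injective
    have := mul_comm' (⟨ι a.1, a.1, a.2, rfl⟩ : ↥(T.mapSurjective hι : Subgroup G)) ⟨ι b.1, b.1, b.2, rfl⟩
    exact congrArg Subtype.val this⟩⟩
  exact Quadratic.no_sl2_of_isMulCommutative hp2 T hT (le_top : K ≤ ⊤) (e.toMonoidHom.comp (QuotientGroup.mk' _))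
    (e.surjective.comp (QuotientGroup.mk'_surjective _))

/-- The case of one of the two groups. -/
theorem side (hp2 : p ≠ 2) {M P : Subgroup G} (hPM : P ≤ M) (hP : IsPGroup p P)
    (hO : (pCore p ↥M).map M.subtype ≤ P) (hcon : Subgroup.centralizer (pCore p ↥M : Set ↥M) ≤ pCore p ↥M)
    (h2 : ∀ S : Sylow 2 ↥M, IsMulCommutative (S : Subgroup ↥M)) :
    M ≤ Subgroup.normalizer (inducedFunctor kInfLower P : Set G) := by
  obtain ⟨T, hPT⟩ := (hP.comap_of_injective M.subtype M.subtype_injective).exists_le_sylow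
  set T' : Subgroup ↥M := (T : Subgroup ↥M)
  have hPT' : ∀ x : P, (⟨x.1, hPM x.2⟩ : M) ∈ T' := fun x => hPT x.2
  let f : P →* T' := MonoidHom.mk' (fun x => ⟨⟨x.1, hPM x.2⟩, hPT' x⟩) fun a b => rfl
  have hf : Function.Injective f := fun a b h => Subtype.ext (congrArg (fun t : T' => ((t : M) : G)) h)
  have hterms := terms_le hp2 (free_of_abelian hp2 h2) hcon T
  have hrange : (pCore p ↥M).subgroupOf T' ≤ f.range := fun t ht =>
    ⟨⟨((t : M) : G), hO ⟨(t : M), ht, rfl⟩⟩, Subtype.ext (Subtype.ext rfl)⟩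
  obtain ⟨e1, -⟩ := kInf_map_of_le_range hf fun n => ⟨(hterms n).1.trans hrange, (hterms n).2.trans hrange⟩
  haveI hn : (inducedFunctor kInfLower T').Normal :=
    (kInf_normal (p := p) (IsPGroup.le_sylow_of_normal (CfsgLib.isPGroup_pCore p) T) (CfsgLib.isPGroup_pCore p) hterms).1
  have e2 : inducedFunctor kInfLower P = (inducedFunctor kInfLower T').map M.subtype := by
    unfold inducedFunctor
    rw [← e1, Subgroup.map_map, Subgroup.map_map]
    rfl
  rw [e2]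
  intro m hm
  refine Subgroup.mem_normalizer_iff.mpr fun x => ⟨?_, ?_⟩
  · rintro ⟨y, hy, rfl⟩
    exact ⟨_, hn.conj_mem y hy ⟨m, hm⟩, rfl⟩
  · rintro ⟨y, hy, e⟩
    refine ⟨_, hn.conj_mem y hy ⟨m⁻¹, inv_mem hm⟩, ?_⟩
    show m⁻¹ * (y : G) * m⁻¹⁻¹ = x
    rw [show (y : G) = m * x * m⁻¹ from e]; group

theorem goal (M₁ M₂ : Subgroup G) (hne : M₁ ≠ M₂) (hP : ∀ A : Subgroup G, A ≠ ⊥ → A ≤ M₁ ⊓ M₂ → (M₁ ≤ Subgroup.normalizer (A : Set G) → M₂ ⊓ Subgroup.normalizer (A : Set G) = M₁ ⊓ M₂) ∧ (M₂ ≤ Subgroup.normalizer (A : Set G) → M₁ ⊓ Subgroup.normalizer (A : Set G) = M₁ ⊓ M₂)) (hc₁ : Subgroup.centralizer (Cfsg.pCore p ↥M₁ : Set ↥M₁) ≤ Cfsg.pCore p ↥M₁) (hc₂ : Subgroup.centralizer (Cfsg.pCore p ↥M₂ : Set ↥M₂) ≤ Cfsg.pCore p ↥M₂) (hO : (Cfsg.pCore p ↥M₁).map M₁.subtype ⊔ (Cfsg.pCore p ↥M₂).map M₂.subtype ≤ M₁ ⊓ M₂)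
    (h1 : ∀ S : Sylow 2 ↥M₁, IsMulCommutative (S : Subgroup ↥M₁)) (h2 : ∀ S : Sylow 2 ↥M₂, IsMulCommutative (S : Subgroup ↥M₂)) :
    False := by
  set O₁ := (Cfsg.pCore p ↥M₁).map M₁.subtype with hO₁
  set O₂ := (Cfsg.pCore p ↥M₂).map M₂.subtype with hO₂
  have hnorm : ∀ M : Subgroup G, M ≤ Subgroup.normalizer ((Cfsg.pCore p ↥M).map M.subtype : Set G) := by
    intro M m hm
    refine Subgroup.mem_normalizer_iff.mpr fun x => ⟨?_, ?_⟩
    · rintro ⟨y, hy, rfl⟩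
      exact ⟨_, (inferInstance : (Cfsg.pCore p ↥M).Normal).conj_mem y hy ⟨m, hm⟩, rfl⟩
    · rintro ⟨y, hy, e⟩
      refine ⟨_, (inferInstance : (Cfsg.pCore p ↥M).Normal).conj_mem y hy ⟨m⁻¹, inv_mem hm⟩, ?_⟩
      show m⁻¹ * (y : G) * m⁻¹⁻¹ = x
      rw [show (y : G) = m * x * m⁻¹ from e]; group
  have hfin : ∀ K : Subgroup G, K ≠ ⊥ → K ≤ M₁ ⊓ M₂ → M₁ ≤ Subgroup.normalizer (K : Set G) →
      M₂ ≤ Subgroup.normalizer (K : Set G) → False := by
    intro K hK hKD n1 n2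
    have e1 := (hP K hK hKD).1 n1
    have e2 := (hP K hK hKD).2 n2
    rw [inf_eq_left.mpr n2] at e1
    rw [inf_eq_left.mpr n1] at e2
    exact hne (e2.trans e1.symm)
  have hbot : ∀ M : Subgroup G, Subgroup.centralizer (Cfsg.pCore p ↥M : Set ↥M) ≤ Cfsg.pCore p ↥M →
      (Cfsg.pCore p ↥M).map M.subtype = ⊥ → M = ⊥ := by
    intro M hc hb
    rw [Subgroup.map_eq_bot_iff_of_injective _ M.subtype_injective] at hb
    refine (Subgroup.eq_bot_iff_forall M).mpr fun x hx => ?_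
    have : (⟨x, hx⟩ : M) ∈ Cfsg.pCore p ↥M := hc (by rw [hb, Subgroup.mem_centralizer_iff]; rintro y rfl; rw [one_mul, mul_one])
    rw [hb, Subgroup.mem_bot] at this
    exact congrArg Subtype.val this
  have hO1ne : O₁ ≠ ⊥ := fun e => by
    have e1 := hbot M₁ hc₁ e
    have e2 : O₂ = ⊥ := le_bot_iff.mp (((le_sup_right.trans hO).trans inf_le_left).trans e1.le)
    exact hne (e1.trans (hbot M₂ hc₂ e2).symm)
  obtain ⟨hO1D, hO2D⟩ := sup_le_iff.mp hO
  have hpO : ∀ M : Subgroup G, IsPGroup p ↥((Cfsg.pCore p ↥M).map M.subtype) := fun M => (CfsgLib.isPGroup_pCore p).map _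
  by_cases hp2 : p = 2
  · subst hp2
    -- the two cores are Sylow subgroups of the intersection
    have key : ∀ M : Subgroup G, Subgroup.centralizer (Cfsg.pCore 2 ↥M : Set ↥M) ≤ Cfsg.pCore 2 ↥M →
        (∀ S : Sylow 2 ↥M, IsMulCommutative (S : Subgroup ↥M)) → ∀ Q : Subgroup G, Q ≤ M → IsPGroup 2 Q →
        Q ≤ (Cfsg.pCore 2 ↥M).map M.subtype := by
      intro M hc hab Q hQM hQ x hx
      obtain ⟨S, hS⟩ := (hQ.comap_of_injective M.subtype M.subtype_injective).exists_le_sylow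
      haveI := hab S
      refine ⟨⟨x, hQM hx⟩, hc (Subgroup.mem_centralizer_iff.mpr fun y hy => ?_), rfl⟩
      exact congrArg Subtype.val (mul_comm' (⟨y, IsPGroup.le_sylow_of_normal (CfsgLib.isPGroup_pCore 2) S hy⟩ : ↥(S : Subgroup M)) ⟨⟨x, hQM hx⟩, hS hx⟩)
    have e : O₁ = O₂ := le_antisymm (key M₂ hc₂ h2 O₁ (hO1D.trans inf_le_right) (hpO M₁))
      (key M₁ hc₁ h1 O₂ (hO2D.trans inf_le_left) (hpO M₂))
    exact hfin O₁ hO1ne hO1D (hnorm M₁) (e ▸ hnorm M₂)
  set D := M₁ ⊓ M₂ with hD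
  let P₀ : Sylow p ↥D := default
  have hcore : ∀ M : Subgroup G, D ≤ M → (Cfsg.pCore p ↥M).map M.subtype ≤ D →
      (Cfsg.pCore p ↥M).map M.subtype ≤ (P₀ : Subgroup D).map D.subtype := by
    intro M hDM hle
    haveI hn : (((Cfsg.pCore p ↥M).map M.subtype).comap D.subtype).Normal :=
      Subgroup.normal_subgroupOf_of_le_normalizer (hDM.trans (hnorm M))
    have h : ((Cfsg.pCore p ↥M).map M.subtype).subgroupOf D ≤ P₀ :=
      IsPGroup.le_sylow_of_normal ((hpO M).comap_of_injective D.subtype D.subtype_injective) P₀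
    intro x hx
    exact ⟨⟨x, hle hx⟩, h hx, rfl⟩
  set P := (P₀ : Subgroup D).map D.subtype with hPdef
  have hPD : P ≤ D := Subgroup.map_subtype_le _
  have hPp : IsPGroup p P := P₀.isPGroup'.map _
  have n1 := side hp2 (hPD.trans inf_le_left) hPp (hcore M₁ inf_le_left hO1D) hc₁ h1
  have n2 := side hp2 (hPD.trans inf_le_right) hPp (hcore M₂ inf_le_right hO2D) hc₂ h2
  refine hfin _ ?_ ((Subgroup.map_subtype_le _).trans hPD) n1 n2
  rw [Ne, Subgroup.map_eq_bot_iff_of_injective _ P.subtype_injective]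
  refine ((KInf.isCharPFunctor p).1).1 P hPp ?_
  exact (Subgroup.nontrivial_iff_ne_bot P).mpr fun e => hO1ne (le_bot_iff.mp ((hcore M₁ inf_le_left hO1D).trans e.le))

end Aux

/-- Two distinct subgroups M₁, M₂ of G form a primitive pair when, for {i, j} = {1, 2}, every non-trivial normal subgroup A of M_i contained in M₁ ∩ M₂ satisfies N_{M_j}(A) = M₁ ∩ M₂; the pair has characteristic p when moreover C_{M_i}(O_p(M_i)) ≤ O_p(M_i) for both i and O_p(M₁)O_p(M₂) ≤ M₁ ∩ M₂. If the finite group G has a primitive pair (M₁, M₂) of characteristic p for some prime p, then M₁ or M₂ has non-abelian Sylow 2-subgroups. In particular no group of odd order has a primitive pair of characteristic p. -/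
theorem result {G : Type*} [Group G] [Finite G] {p : ℕ} [Fact p.Prime] (M₁ M₂ : Subgroup G) (hne : M₁ ≠ M₂) (hP : ∀ A : Subgroup G, A ≠ ⊥ → A ≤ M₁ ⊓ M₂ → (M₁ ≤ Subgroup.normalizer (A : Set G) → M₂ ⊓ Subgroup.normalizer (A : Set G) = M₁ ⊓ M₂) ∧ (M₂ ≤ Subgroup.normalizer (A : Set G) → M₁ ⊓ Subgroup.normalizer (A : Set G) = M₁ ⊓ M₂)) (hc₁ : Subgroup.centralizer (Cfsg.pCore p ↥M₁ : Set ↥M₁) ≤ Cfsg.pCore p ↥M₁) (hc₂ : Subgroup.centralizer (Cfsg.pCore p ↥M₂ : Set ↥M₂) ≤ Cfsg.pCore p ↥M₂) (hO : (Cfsg.pCore p ↥M₁).map M₁.subtype ⊔ (Cfsg.pCore p ↥M₂).map M₂.subtype ≤ M₁ ⊓ M₂) : (∃ S : Sylow 2 ↥M₁, ¬ IsMulCommutative (S : Subgroup ↥M₁)) ∨ (∃ S : Sylow 2 ↥M₂, ¬ IsMulCommutative (S : Subgroup ↥M₂)) := by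
  by_contra hcon
  push Not at hcon
  exact Aux.goal M₁ M₂ hne hP hc₁ hc₂ hO hcon.1 hcon.2

end Cfsg.Agent.S3753
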