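import Cfsg.Statements.S3754
import Mathlib
import Cfsg.Agent.Lib.CoprimeGen
import Cfsg.Agent.Lib.PResidual
import Cfsg.Agent.Lib.Elementary
import Cfsg.Agent.Lib.PLocal.Offender.Dual
import Cfsg.Agent.Lib.Fusion.PSolvable
import Cfsg.Agent.Lib.ZJ.Complement
import Cfsg.Agent.Lib.Blocks.Orth
import Cfsg.Agent.Lib.Basic
-- import your own Cfsg.Agent.* helpers here

set_option autoImplicit false
open Cfsg

namespace Cfsg.Agent.S3754

namespace Aux

open Subgroup
open scoped IsMulCommutative commutatorElement Pointwise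

universe u
variable {G : Type u} [Group G] [Finite G] {p : ℕ} [hp : Fact p.Prime]

/-- `A` normalises `K`, is elementary abelian, coprime; the moved part is found over a subgroup of index `p`. -/
theorem exists_hyperplane {A K : Subgroup G} (hAc : ∀ a ∈ A, ∀ b ∈ A, a * b = b * a) (hAe : ∀ a ∈ A, a ^ p = 1)
    (hAK : A ≤ normalizer (K : Set G)) (hcop : ¬ p ∣ Nat.card K) (hmove : ¬ K ≤ centralizer (A : Set G)) :
    ∃ B ≤ A, ∃ a ∈ A, a ∉ B ∧ A ≤ B ⊔ zpowers a ∧ B.relIndex A = p ∧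
      ¬ K ⊓ centralizer (B : Set G) ≤ centralizer (A : Set G) := by
  classical
  haveI : IsMulCommutative A := ⟨⟨fun a b => Subtype.ext (hAc a a.2 b b.2)⟩⟩
  have hAp : IsPGroup p A := fun a => ⟨1, Subtype.ext (by simpa using hAe a a.2)⟩
  obtain ⟨B, ⟨hBA, hBmove⟩, hBmax⟩ := (Set.toFinite {B : Subgroup G | B ≤ A ∧
    ¬ K ⊓ centralizer (B : Set G) ≤ centralizer (A : Set G)}).exists_maximal ⟨⊥, bot_le, fun h => hmove (by
      have hc : centralizer ((⊥ : Subgroup G) : Set G) = ⊤ := eq_top_iff.mpr fun g _ b hb => by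
        rw [SetLike.mem_coe, mem_bot] at hb; simp [hb]
      rwa [hc, inf_top_eq] at h)⟩
  have hnotsub : ¬ A ≤ B := fun h => hBmove (inf_le_right.trans (centralizer_le h))
  obtain ⟨a, ha, haB⟩ := SetLike.not_le_iff_exists.mp hnotsub
  have ha1 : a ≠ 1 := fun e => haB (e ▸ one_mem B)
  have hoa : orderOf a = p := orderOf_eq_prime (hAe a ha) ha1
  have hnorm : ∀ g ∈ A, g ∈ normalizer ((K ⊓ centralizer (B : Set G) : Subgroup G) : Set G) := fun g hg => by
    refine mem_normalizer_iff.mpr fun z => ?_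
    rw [mem_inf, mem_inf, ← mem_normalizer_iff.mp (hAK hg) z]
    constructor <;> rintro ⟨h1, h2⟩ <;> refine ⟨h1, fun b hb => ?_⟩
    · have e : Commute g b := hAc g hg b (hBA hb)
      exact ((e.symm.mul_right (h2 b hb)).mul_right e.symm.inv_right).eq
    · have e : Commute g b := hAc g hg b (hBA hb)
      have := (e.symm.inv_right.mul_right (show Commute b (g * z * g⁻¹) from h2 b hb)).mul_right e.symm
      have e2 : g⁻¹ * (g * z * g⁻¹) * g = z := by group
      rw [e2] at this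
      exact this.eq
  have hgen : A ≤ B ⊔ zpowers a := by
    by_contra hcon
    obtain ⟨b, hb, hbB⟩ := SetLike.not_le_iff_exists.mp hcon
    set T := zpowers a ⊔ zpowers b with hT
    have hTA : T ≤ A := sup_le (zpowers_le.mpr ha) (zpowers_le.mpr hb)
    haveI : IsMulCommutative T := ⟨⟨fun s t => Subtype.ext (hAc s (hTA s.2) t (hTA t.2))⟩⟩
    have hnza : zpowers b ≤ normalizer (zpowers a : Set G) := fun g hg => mem_normalizer_iff.mpr fun z => by
      have hgA : g ∈ A := zpowers_le.mpr hb hg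
      have hz : ∀ z ∈ zpowers a, g * z * g⁻¹ = z := fun z hz =>
        mul_inv_eq_iff_eq_mul.mpr (hAc g hgA z (zpowers_le.mpr ha hz))
      constructor
      · intro h; rw [hz z h]; exact h
      · intro h
        have h'' : g * z * g⁻¹ = z := mul_left_cancel (a := g) (mul_right_cancel (b := g⁻¹) (hz _ h))
        rw [← h'']; exact h
    have hTnc : ¬ IsCyclic T := fun hc => by
      have h1 : Nat.card T ∣ p := by
        obtain ⟨g, hg⟩ := isCyclic_iff_exists_orderOf_eq_natCard.mp hc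
        rw [← hg, ← Subgroup.orderOf_coe]
        exact orderOf_dvd_of_pow_eq_one (hAe _ (hTA g.2))
      have h2 : zpowers a = T := eq_of_le_of_card_ge le_sup_left (by
        rw [Nat.card_zpowers, hoa]
        exact Nat.le_of_dvd hp.out.pos h1)
      exact hbB (sup_le le_sup_right (h2.ge.trans le_sup_right : T ≤ B ⊔ zpowers a) (mem_sup_right (mem_sup_right (mem_zpowers b))))
    have hgen' := CfsgLib.coprime_generated_by_centralizers hTnc (K := K ⊓ centralizer (B : Set G))
      (fun g hg => hnorm g (hTA hg)) (by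
      obtain ⟨k, hk⟩ := IsPGroup.iff_card.mp (hAp.to_le hTA)
      rw [hk]
      exact Nat.Coprime.pow_left _ (hp.out.coprime_iff_not_dvd.mpr fun h => hcop (h.trans (card_dvd_of_le inf_le_left))))
    refine hBmove (hgen'.ge.trans (iSup₂_le fun t ht => ?_))
    obtain ⟨htT, ht1⟩ := ht
    have htB : t ∉ B := by
      intro htB
      obtain ⟨s, hs, u, hu, rfl⟩ := CfsgLib.mem_sup_of_le_normalizer hnza htT
      -- `u` lies in `B ⊔ ⟨a⟩`, hence is trivial
      have hu1 : u = 1 := by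
        by_contra hu1
        have hub : zpowers u = zpowers b := eq_of_le_of_card_ge (zpowers_le.mpr hu) (by
          rw [Nat.card_zpowers, Nat.card_zpowers, orderOf_eq_prime (hAe u (zpowers_le.mpr hb hu)) hu1]
          exact Nat.le_of_dvd hp.out.pos (orderOf_dvd_of_pow_eq_one (hAe b hb)))
        have huB : u ∈ B ⊔ zpowers a := by
          rw [show u = s⁻¹ * (s * u) by group]
          exact mul_mem (inv_mem (mem_sup_right hs)) (mem_sup_left htB)
        exact hbB (zpowers_le.mpr huB (hub.ge (mem_zpowers b)))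
      subst hu1
      rw [mul_one] at htB ht1
      have hsa : zpowers s = zpowers a := eq_of_le_of_card_ge (zpowers_le.mpr hs) (by
        rw [Nat.card_zpowers, Nat.card_zpowers, hoa, orderOf_eq_prime (hAe s (zpowers_le.mpr ha hs)) ht1])
      exact haB (zpowers_le.mpr htB (hsa.ge (mem_zpowers a)))
    by_contra hmv
    refine htB ((hBmax (y := B ⊔ zpowers t) ⟨sup_le hBA (zpowers_le.mpr (hTA htT)), fun hc => hmv ?_⟩ le_sup_left)
      (mem_sup_right (mem_zpowers t)))
    refine le_trans ?_ hc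
    rintro z ⟨hz, hzt⟩
    refine ⟨hz.1, ?_⟩
    have hle : B ⊔ zpowers t ≤ centralizer ({z} : Set G) := sup_le
      (fun g hg => mem_centralizer_singleton_iff.mpr (hz.2 g hg))
      (zpowers_le.mpr (mem_centralizer_singleton_iff.mpr (mem_centralizer_singleton_iff.mp hzt).symm))
    exact fun g hg => mem_centralizer_singleton_iff.mp (hle hg)
  refine ⟨B, hBA, a, ha, haB, hgen, ?_, hBmove⟩
  have hA' : A = B ⊔ zpowers a := le_antisymm hgen (sup_le hBA (zpowers_le.mpr ha))
  have hdvd : B.relIndex A ∣ p := by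
    have hnzB : zpowers a ≤ normalizer (B : Set G) := fun g hg => mem_normalizer_iff.mpr fun z => by
      have hz : ∀ z ∈ B, g * z * g⁻¹ = z := fun z hz =>
        mul_inv_eq_iff_eq_mul.mpr (hAc g (zpowers_le.mpr ha hg) z (hBA hz))
      constructor
      · intro h; rw [hz z h]; exact h
      · intro h
        have h'' : g * z * g⁻¹ = z := mul_left_cancel (a := g) (mul_right_cancel (b := g⁻¹) (hz _ h))
        rw [← h'']; exact h
    have hcard : Nat.card A ≤ Nat.card B * p := by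
      have e : ((B ⊔ zpowers a : Subgroup G) : Set G) = (B : Set G) * (zpowers a : Set G) :=
        Subgroup.coe_mul_of_right_le_normalizer_left B (zpowers a) hnzB
      rw [← hoa, ← Nat.card_zpowers, hA']
      show Nat.card ((B ⊔ zpowers a : Subgroup G) : Set G) ≤ _
      rw [e]
      exact Set.natCard_mul_le
    have h1 := relIndex_mul_relIndex ⊥ B A bot_le hBA
    rw [relIndex_bot_left, relIndex_bot_left] at h1
    obtain ⟨k, hk⟩ := IsPGroup.iff_card.mp hAp
    obtain ⟨i, -, hi⟩ := (Nat.dvd_prime_pow hp.out).mp (hk ▸ (⟨_, h1.symm.trans (mul_comm _ _)⟩ : B.relIndex A ∣ Nat.card A))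
    have hle : B.relIndex A ≤ p := Nat.le_of_mul_le_mul_left (h1.le.trans hcard) Nat.card_pos
    rw [hi] at hle ⊢
    rcases (show i = 0 ∨ i = 1 ∨ 2 ≤ i by omega) with rfl | rfl | h2
    · simp
    · simp
    · exact absurd hle (not_le.mpr (lt_of_lt_of_le (by rw [pow_two]; exact lt_mul_of_one_lt_left hp.out.pos hp.out.one_lt) (Nat.pow_le_pow_right hp.out.pos h2)))
  rcases (Nat.dvd_prime hp.out).mp hdvd with h | h
  · exact absurd (relIndex_eq_one.mp h) hnotsub
  · exact h

theorem sylows_generate {A K : Subgroup G} (hAp : IsPGroup p A) (hAK : A ≤ normalizer (K : Set G))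
    (hcop : ¬ p ∣ Nat.card K) (hmove : ¬ K ≤ centralizer (A : Set G)) :
    ∃ q : ℕ, q.Prime ∧ ∃ Q : Subgroup G, Q ≤ K ∧ IsPGroup q Q ∧ A ≤ normalizer (Q : Set G) ∧ ¬ Q ≤ centralizer (A : Set G) := by
  classical
  by_contra hcon
  push Not at hcon
  refine hmove ?_
  have hc : (Nat.card A).Coprime (Nat.card K) := by
    obtain ⟨k, hk⟩ := IsPGroup.iff_card.mp hAp
    rw [hk]; exact Nat.Coprime.pow_left _ (hp.out.coprime_iff_not_dvd.mpr hcop)
  have hsol : Group.IsSolvable A := by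
    haveI := hAp.isNilpotent
    infer_instance
  have : (centralizer (A : Set G)).subgroupOf K = ⊤ := by
    rw [← index_eq_one]
    by_contra hne
    obtain ⟨q, hq, hqd⟩ := Nat.exists_prime_and_dvd hne
    haveI := Fact.mk hq
    obtain ⟨Q, hQ⟩ := CfsgLib.coprime_exists_invariant_sylow hAK hc (Or.inl hsol) q
    have h1 := hcon q hq _ (Subgroup.map_subtype_le _) (Q.2.map K.subtype) hQ
    exact Q.not_dvd_index (hqd.trans (index_dvd_of_le fun x hx => h1 ⟨x, hx, rfl⟩))
  exact subgroupOf_eq_top.mp this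

theorem exists_generator {A K : Subgroup G} (hAc : ∀ a ∈ A, ∀ b ∈ A, a * b = b * a) (hAe : ∀ a ∈ A, a ^ p = 1)
    (hAK : A ≤ normalizer (K : Set G)) (hcop : ¬ p ∣ Nat.card K) (hmove : ¬ K ≤ centralizer (A : Set G)) :
    ∃ B ≤ A, B.relIndex A = p ∧ ∃ X ≤ K, A ≤ normalizer (X : Set G) ∧ X ≤ centralizer (B : Set G) ∧
      ¬ X ≤ centralizer (A : Set G) ∧ (∀ b ∈ A, X ≤ centralizer {b} → b ∈ B) ∧
      ∃ x ∈ X, X ≤ A ⊔ A.map (MulAut.conj x).toMonoidHom := by
  classical
  have hAp : IsPGroup p A := fun a => ⟨1, Subtype.ext (by simpa using hAe a a.2)⟩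
  obtain ⟨q, hq, Q, hQK, hQq, hAQ, hQmove⟩ := sylows_generate hAp hAK hcop hmove
  obtain ⟨B, hBA, a, ha, haB, hgen, hidx, hBmove⟩ := exists_hyperplane hAc hAe hAQ
    (fun h => hcop (h.trans (card_dvd_of_le hQK))) hQmove
  have hnorm0 : A ≤ normalizer ((Q ⊓ centralizer (B : Set G) : Subgroup G) : Set G) := fun g hg => by
    refine mem_normalizer_iff.mpr fun z => ?_
    rw [mem_inf, mem_inf, ← mem_normalizer_iff.mp (hAQ hg) z]
    constructor <;> rintro ⟨h1, h2⟩ <;> refine ⟨h1, fun b hb => ?_⟩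
    · have e : Commute g b := hAc g hg b (hBA hb)
      exact ((e.symm.mul_right (h2 b hb)).mul_right e.symm.inv_right).eq
    · have e : Commute g b := hAc g hg b (hBA hb)
      have := (e.symm.inv_right.mul_right (show Commute b (g * z * g⁻¹) from h2 b hb)).mul_right e.symm
      have e2 : g⁻¹ * (g * z * g⁻¹) * g = z := by group
      rw [e2] at this
      exact this.eq
  obtain ⟨X, ⟨hXQ, hAX, hXmove⟩, hXmin⟩ := (Set.toFinite {X : Subgroup G | X ≤ Q ⊓ centralizer (B : Set G) ∧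
    A ≤ normalizer (X : Set G) ∧ ¬ X ≤ centralizer (A : Set G)}).exists_minimal ⟨_, le_rfl, hnorm0, hBmove⟩
  have hall : ∀ z : G, (∀ b ∈ B, z * b = b * z) → z * a = a * z → z ∈ centralizer (A : Set G) := by
    intro z hz hza g hg
    have hle : B ⊔ zpowers a ≤ centralizer ({z} : Set G) := sup_le
      (fun g hg => mem_centralizer_singleton_iff.mpr (hz g hg).symm)
      (zpowers_le.mpr (mem_centralizer_singleton_iff.mpr hza.symm))
    exact mem_centralizer_singleton_iff.mp (hle (hgen hg))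
  have hXB : X ≤ centralizer (B : Set G) := hXQ.trans inf_le_right
  refine ⟨B, hBA, hidx, X, (hXQ.trans inf_le_left).trans hQK, hAX, hXB, hXmove, fun b hb hXb => ?_, ?_⟩
  · by_contra hbB
    refine hXmove fun z hz => ?_
    intro g hg
    have hle : B ⊔ zpowers b ≤ centralizer ({z} : Set G) := sup_le
      (fun g hg => mem_centralizer_singleton_iff.mpr (hXB hz g hg))
      (zpowers_le.mpr (mem_centralizer_singleton_iff.mpr (mem_centralizer_singleton_iff.mp (hXb hz)).symm))
    refine mem_centralizer_singleton_iff.mp (hle ?_)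
    have htop : B ⊔ zpowers b = A := by
      have h1 : B ⊔ zpowers b ≤ A := sup_le hBA (zpowers_le.mpr hb)
      have h2 := relIndex_mul_relIndex B (B ⊔ zpowers b) A le_sup_left h1
      rw [hidx] at h2
      rcases (Nat.dvd_prime hp.out).mp ⟨_, h2.symm⟩ with h3 | h3
      · exact absurd (relIndex_eq_one.mp h3 (mem_sup_right (mem_zpowers b))) hbB
      · rw [h3] at h2
        exact le_antisymm h1 (relIndex_eq_one.mp (Nat.eq_of_mul_eq_mul_left hp.out.pos (h2.trans (mul_one p).symm)))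
    rw [htop]; exact hg
  -- a moved commutator
  obtain ⟨x, hx, hxa⟩ : ∃ x ∈ X, x * a * x⁻¹ * a⁻¹ * a ≠ a * (x * a * x⁻¹ * a⁻¹) := by
    by_contra h
    push Not at h
    refine hXmove fun z hz => hall z (fun b hb => (hXB hz b hb).symm) ?_
    set c := z * a * z⁻¹ * a⁻¹ with hc
    have hca : Commute c a := h z hz
    have hcX : c ∈ X := by
      rw [hc, show z * a * z⁻¹ * a⁻¹ = z * (a * z⁻¹ * a⁻¹) by group]
      exact mul_mem hz ((mem_normalizer_iff.mp (hAX ha) _).mp (inv_mem hz))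
    have h1 : z * a * z⁻¹ = c * a := by rw [hc, inv_mul_cancel_right]
    have h2 : c ^ p = 1 := by
      have h3 : (z * a * z⁻¹) ^ p = 1 := by rw [conj_pow, hAe a ha]; group
      rwa [h1, hca.mul_pow, hAe a ha, mul_one] at h3
    have h4 : c = 1 := by
      have h5 : orderOf c ∣ Nat.card K := K.orderOf_dvd_natCard (hQK (hXQ hcX).1)
      rcases (Nat.dvd_prime hp.out).mp (orderOf_dvd_of_pow_eq_one h2) with h6 | h6
      · exact orderOf_eq_one_iff.mp h6
      · exact absurd (h6 ▸ h5) hcop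
    rw [h4, one_mul] at h1
    exact mul_inv_eq_iff_eq_mul.mp h1
  refine ⟨x, hx, ?_⟩
  set L := A ⊔ A.map (MulAut.conj x).toMonoidHom with hL
  have hle : X ≤ X ⊓ L := by
    refine hXmin ⟨inf_le_left.trans hXQ, fun g hg => ?_, fun hc => hxa ?_⟩ inf_le_left
    · refine mem_normalizer_iff.mpr fun z => ?_
      rw [mem_inf, mem_inf, ← mem_normalizer_iff.mp (hAX hg) z,
        ← mem_normalizer_iff.mp ((le_normalizer : L ≤ _) (mem_sup_left hg)) z]
    · have hmem : x * a * x⁻¹ * a⁻¹ ∈ X ⊓ L := by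
        refine Subgroup.mem_inf.mpr ⟨?_, mul_mem (show x * a * x⁻¹ ∈ L from mem_sup_right ⟨a, ha, rfl⟩) (inv_mem (show a ∈ L from mem_sup_left ha))⟩
        rw [show x * a * x⁻¹ * a⁻¹ = x * (a * x⁻¹ * a⁻¹) by group]
        exact mul_mem hx ((mem_normalizer_iff.mp (hAX ha) _).mp (inv_mem hx))
      exact ((hc hmem) a ha).symm
  exact hle.trans inf_le_right

theorem goal (hM : Cfsg.IsPSolvable p G) (A : Subgroup G) (hA : IsPGroup p A)
    (hΦ : (frattini ↥A).map A.subtype ≤ Cfsg.pCore p G) (hnot : ¬ A ≤ Cfsg.pCore p G) :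
    ∃ x ∈ (Cfsg.pPrimeCore p (G ⧸ Cfsg.pCore p G)).comap (QuotientGroup.mk' (Cfsg.pCore p G)),
      x ∈ (Cfsg.pResidual p ↥(A ⊔ A.map (MulAut.conj x).toMonoidHom)).map (A ⊔ A.map (MulAut.conj x).toMonoidHom).subtype ∧
      (Cfsg.pResidual p ↥(A ⊔ A.map (MulAut.conj x).toMonoidHom)).map (A ⊔ A.map (MulAut.conj x).toMonoidHom).subtype ≤
        (Cfsg.pPrimeCore p (G ⧸ Cfsg.pCore p G)).comap (QuotientGroup.mk' (Cfsg.pCore p G)) ∧
      ⁅(Cfsg.pResidual p ↥(A ⊔ A.map (MulAut.conj x).toMonoidHom)).map (A ⊔ A.map (MulAut.conj x).toMonoidHom).subtype, A⁆ =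
        (Cfsg.pResidual p ↥(A ⊔ A.map (MulAut.conj x).toMonoidHom)).map (A ⊔ A.map (MulAut.conj x).toMonoidHom).subtype ∧
      (A ⊓ (Cfsg.pCore p ↥(A ⊔ A.map (MulAut.conj x).toMonoidHom)).map (A ⊔ A.map (MulAut.conj x).toMonoidHom).subtype).relIndex A = p ∧
      ⁅A ⊓ (Cfsg.pCore p ↥(A ⊔ A.map (MulAut.conj x).toMonoidHom)).map (A ⊔ A.map (MulAut.conj x).toMonoidHom).subtype,
        A ⊔ A.map (MulAut.conj x).toMonoidHom⁆ ≤ Cfsg.pCore p G := by
  classical
  set N := Cfsg.pCore p G with hN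
  set π := QuotientGroup.mk' N with hπ
  set K := Cfsg.pPrimeCore p (G ⧸ N) with hK
  have hNp : IsPGroup p N := CfsgLib.isPGroup_pCore p
  set A₁ := A.map π with hA₁
  have hAc : ∀ a ∈ A₁, ∀ b ∈ A₁, a * b = b * a := by
    rintro _ ⟨a, ha, rfl⟩ _ ⟨b, hb, rfl⟩
    rw [← commutatorElement_eq_one_iff_mul_comm, ← map_commutatorElement, hπ, QuotientGroup.mk'_apply, QuotientGroup.eq_one_iff]
    exact hΦ ⟨⁅(⟨a, ha⟩ : A), ⟨b, hb⟩⁆, CfsgLib.commutator_le_frattini_pGroup hA
      (commutator_mem_commutator (mem_top _) (mem_top _)), by simp [commutatorElement_def]⟩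
  have hAe : ∀ a ∈ A₁, a ^ p = 1 := by
    rintro _ ⟨a, ha, rfl⟩
    rw [← map_pow, hπ, QuotientGroup.mk'_apply, QuotientGroup.eq_one_iff]
    exact hΦ ⟨(⟨a, ha⟩ : A) ^ p, CfsgLib.pow_mem_frattini_pGroup hA _, rfl⟩
  have hcopK : ¬ p ∣ Nat.card K := CfsgLib.not_dvd_card_pPrimeCore hp.out
  have hmove : ¬ K ≤ centralizer (A₁ : Set (G ⧸ N)) := by
    intro h
    have h1 : A₁ ≤ K := (le_centralizer_iff.mp h).trans (CfsgLib.Offender.centralizer_pPrimeCore_le
      (CfsgLib.PSolvableClosure.of_surjective π (QuotientGroup.mk'_surjective N) hM) CfsgLib.ZJ.pCore_quotient_pCore_eq_bot)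
    refine hnot fun a ha => ?_
    have h2 : orderOf (π a) ∣ Nat.card K := K.orderOf_dvd_natCard (h1 ⟨a, ha, rfl⟩)
    rcases (Nat.dvd_prime hp.out).mp (orderOf_dvd_of_pow_eq_one (hAe (π a) ⟨a, ha, rfl⟩)) with h3 | h3
    · exact (QuotientGroup.eq_one_iff a).mp (orderOf_eq_one_iff.mp h3)
    · exact absurd (h3.symm.dvd.trans h2) hcopK
  obtain ⟨B, hBA, hidx, X, hXK, hAX, hXB, hXmove, hBmem, x₁, hx₁, hgen⟩ := exists_generator hAc hAe
    (by rw [Subgroup.normalizer_eq_top]; exact le_top) hcopK hmove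
  -- minimal preimage
  obtain ⟨x₀, hx₀, hx₀min⟩ := (Set.toFinite {x : G | π x = x₁}).exists_minimalFor
    (fun x => Nat.card (A ⊔ A.map (MulAut.conj x).toMonoidHom : Subgroup G)) _
    (QuotientGroup.mk'_surjective N x₁)
  have himg : ∀ x : G, π x = x₁ → (A ⊔ A.map (MulAut.conj x).toMonoidHom).map π = A₁ ⊔ A₁.map (MulAut.conj x₁).toMonoidHom := by
    intro x hx
    rw [Subgroup.map_sup, hA₁, Subgroup.map_map, Subgroup.map_map]
    congr 2
    ext g
    simp [← hx]
  obtain ⟨l, hl, hlx⟩ := (himg x₀ hx₀).ge (hgen hx₁)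
  obtain ⟨u, w, huw, hcomm, ⟨k, hk⟩, hw, huz, hwz⟩ := CfsgLib.Blocks.exists_pPart hp.out l
  have hwx : π w = x₁ := by
    rw [← huw, map_mul] at hlx
    have h1 : (orderOf x₁).Coprime p :=
      ((hp.out.coprime_iff_not_dvd.mpr hcopK).symm).coprime_dvd_left (K.orderOf_dvd_natCard (hXK hx₁))
    have hu1 : π u = 1 := by
      have h2 : (π u) ^ p ^ k = 1 := by rw [← map_pow, ← hk, pow_orderOf_eq_one, map_one]
      have h3 : Commute (π u) (π w) := hcomm.map π
      have h4 : x₁ ^ (orderOf x₁) = 1 := pow_orderOf_eq_one _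
      rw [← hlx, h3.mul_pow] at h4
      have h5 : orderOf (π u) ∣ orderOf (π w) * orderOf (π u * π w) := by
        refine orderOf_dvd_of_pow_eq_one ?_
        rw [mul_comm, pow_mul, show (π u) ^ orderOf (π u * π w) = ((π w) ^ orderOf (π u * π w))⁻¹ from
          eq_inv_of_mul_eq_one_left (by rw [hlx]; rw [← hlx] at *; exact h4), inv_pow, ← pow_mul,
          mul_comm, pow_mul, pow_orderOf_eq_one, one_pow, inv_one]
      refine orderOf_eq_one_iff.mp (Nat.eq_one_of_dvd_coprimes (k := orderOf (π u)) ?_ (orderOf_dvd_of_pow_eq_one h2) h5)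
      refine Nat.Coprime.pow_left _ (Nat.Coprime.mul_right ?_ (by rw [hlx]; exact h1.symm))
      exact (hp.out.coprime_iff_not_dvd.mpr hw).coprime_dvd_right (orderOf_map_dvd π w)
    rwa [hu1, one_mul] at hlx
  set L := A ⊔ A.map (MulAut.conj w).toMonoidHom with hL
  set L₀ := A ⊔ A.map (MulAut.conj x₀).toMonoidHom with hL₀
  have hwL₀ : w ∈ L₀ := zpowers_le.mpr hl hwz
  have hLL : L ≤ L₀ := sup_le le_sup_left (by
    rintro _ ⟨a, ha, rfl⟩
    exact mul_mem (mul_mem hwL₀ (mem_sup_left ha)) (inv_mem hwL₀))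
  have hLeq : L = L₀ := eq_of_le_of_card_ge hLL
    (hx₀min (j := w) hwx (Subgroup.card_le_of_le hLL))
  have hwL : w ∈ L := hLeq ▸ hwL₀
  have hwK : w ∈ K.comap π := by rw [mem_comap, hwx]; exact hXK hx₁
  set Y := L.map π with hY
  have hYeq : Y = A₁ ⊔ X := by
    rw [hY, himg w hwx]
    refine le_antisymm (sup_le le_sup_left ?_) (sup_le le_sup_left hgen)
    rintro _ ⟨a, ha, rfl⟩
    exact mul_mem (mul_mem (mem_sup_right hx₁) (mem_sup_left ha)) (inv_mem (mem_sup_right hx₁))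
  have hcopE : ∀ g ∈ L, (orderOf g).Coprime p → π g ∈ X := by
    intro g hg hco
    have hg' : π g ∈ X ⊔ A₁ := by rw [sup_comm, ← hYeq]; exact ⟨g, hg, rfl⟩
    obtain ⟨y, hy, a, ha, e⟩ := CfsgLib.mem_sup_of_le_normalizer hAX hg'
    haveI : (X.subgroupOf (X ⊔ A₁)).Normal := by
      rw [normal_subgroupOf_iff_le_normalizer le_sup_left]; exact sup_le le_normalizer hAX
    obtain ⟨j, hj⟩ := CfsgLib.PResidual.pow_mem_sylow_sup (p := p) (H := X.subgroupOf (X ⊔ A₁))
      (P := A₁.subgroupOf (X ⊔ A₁))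
      (IsPGroup.comap_subtype (fun a => ⟨1, Subtype.ext (by simpa using hAe a a.2)⟩ : IsPGroup p A₁))
      (x := ⟨π g, hg'⟩) (by rw [← subgroupOf_sup le_sup_right le_sup_left, sup_comm A₁ X, subgroupOf_self]; trivial)
    refine CfsgLib.PResidual.mem_of_pow_mem (p := p) (hco.coprime_dvd_left (orderOf_map_dvd π g)) (k := j) ?_
    simpa [mem_subgroupOf] using hj
  refine ⟨w, hwK, ?_⟩
  set D := (Cfsg.pResidual p ↥L).map L.subtype with hD
  have hDmem : ∀ g ∈ L, (orderOf g).Coprime p → g ∈ D := fun g hg hco =>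
    ⟨⟨g, hg⟩, subset_closure (by show (orderOf (⟨g, hg⟩ : L)).Coprime p; rwa [Subgroup.orderOf_mk]), rfl⟩
  have hDle : ∀ S : Subgroup G, (∀ g ∈ L, (orderOf g).Coprime p → g ∈ S) → D ≤ S := by
    intro S hS
    rw [hD, map_le_iff_le_comap]
    refine (closure_le _).mpr fun g hg => ?_
    exact hS g g.2 (by rw [Subgroup.orderOf_coe]; exact hg)
  have hDL : D ≤ L := Subgroup.map_subtype_le _
  haveI : (Cfsg.pResidual p ↥L).Normal := CfsgLib.PResidual.pResidual_normal
  have hLD : L ≤ normalizer (D : Set G) := by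
    have := le_normalizer_map (H := Cfsg.pResidual p ↥L) L.subtype
    rw [Subgroup.normalizer_eq_top, ← MonoidHom.range_eq_map, Subgroup.range_subtype] at this
    exact this
  have hwD : w ∈ D := hDmem w hwL (hp.out.coprime_iff_not_dvd.mpr hw).symm
  set E := ⁅D, A⁆ with hE
  have hED : E ≤ D := CfsgLib.commutator_le_of_le_normalizer (le_sup_left.trans hLD)
  have hEn : L ≤ normalizer (E : Set G) := by
    have h1 : D ≤ normalizer (E : Set G) := CfsgLib.left_le_normalizer_commutator A D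
    have h2 : A ≤ normalizer (E : Set G) := CfsgLib.right_le_normalizer_commutator A D
    refine sup_le h2 ?_
    rintro _ ⟨a, ha, rfl⟩
    exact mul_mem (mul_mem (h1 hwD) (h2 ha)) (inv_mem (h1 hwD))
  have hLEA : L ≤ A ⊔ E := by
    refine sup_le le_sup_left ?_
    rintro _ ⟨a, ha, rfl⟩
    show w * a * w⁻¹ ∈ A ⊔ E
    rw [show w * a * w⁻¹ = ⁅w, a⁆ * a by simp [commutatorElement_def]]
    exact mul_mem (mem_sup_right (commutator_mem_commutator hwD ha)) (mem_sup_left ha)
  refine ⟨hwD, hDle _ fun g hg hco => hXK (hcopE g hg hco), le_antisymm hED ?_, ?_, ?_⟩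
  · have hEL : E ≤ L := hED.trans hDL
    haveI : (E.subgroupOf L).Normal := by
      rw [normal_subgroupOf_iff_le_normalizer hEL]; exact hEn
    have h1 := CfsgLib.PResidual.pResidual_le_of_sup_eq_top (p := p) (N := E.subgroupOf L) (P := A.subgroupOf L)
      (IsPGroup.comap_subtype hA) (by
        rw [← subgroupOf_sup (show A ≤ L from le_sup_left) hEL, subgroupOf_eq_top]
        exact hLEA)
    calc D ≤ (E.subgroupOf L).map L.subtype := Subgroup.map_mono h1
      _ ≤ E := by rw [subgroupOf_map_subtype]; exact inf_le_left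
  all_goals
    have hcore : A ⊓ (Cfsg.pCore p ↥L).map L.subtype = A ⊓ B.comap π := by
      haveI : (Cfsg.pCore p ↥L).Normal := inferInstance
      refine le_antisymm (fun a ha => ?_) (fun a ha => ?_)
      · obtain ⟨haA, b, hb, rfl⟩ := ha
        refine ⟨haA, mem_comap.mpr (hBmem _ ⟨_, haA, rfl⟩ fun y hy => ?_)⟩
        rw [mem_centralizer_singleton_iff, ← commutatorElement_eq_one_iff_mul_comm]
        obtain ⟨g, hg, rfl⟩ : y ∈ Y := hYeq ▸ mem_sup_right hy
        set P₁ := ((Cfsg.pCore p ↥L).map L.subtype).map π with hP₁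
        have hP₁p : IsPGroup p P₁ := ((CfsgLib.isPGroup_pCore (G := L) p).map _).map _
        have h1 : ⁅π g, π (b : G)⁆ ∈ X := by
          rw [commutatorElement_def, show π g * π (b : G) * (π g)⁻¹ * (π (b : G))⁻¹ =
            π g * (π (b : G) * (π g)⁻¹ * (π (b : G))⁻¹) by group]
          exact mul_mem hy ((mem_normalizer_iff.mp (hAX ⟨_, haA, rfl⟩) _).mp (inv_mem hy))
        have h2 : ⁅π g, π (b : G)⁆ ∈ P₁ := by
          rw [← map_commutatorElement]
          refine ⟨_, ⟨⁅(⟨g, hg⟩ : L), b⁆, ?_, rfl⟩, by simp [commutatorElement_def]⟩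
          rw [commutatorElement_def]
          exact mul_mem ((inferInstance : (Cfsg.pCore p ↥L).Normal).conj_mem b hb _) (inv_mem hb)
        obtain ⟨j, hj⟩ := IsPGroup.iff_orderOf.mp hP₁p ⟨_, h2⟩
        rw [Subgroup.orderOf_mk] at hj
        rcases Nat.eq_zero_or_pos j with rfl | hj0
        · exact orderOf_eq_one_iff.mp (hj.trans (pow_zero p))
        · exact absurd ((dvd_pow_self p hj0.ne').trans (hj ▸ K.orderOf_dvd_natCard (hXK h1))) hcopK
      · obtain ⟨haA, haB⟩ := ha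
        refine ⟨haA, ⟨a, mem_sup_left haA⟩, ?_, rfl⟩
        have hBn : L ≤ normalizer ((B.comap π) : Set G) := by
          intro g hg
          refine mem_normalizer_iff.mpr fun z => ?_
          rw [mem_comap, mem_comap, map_mul, map_mul, map_inv]
          have hgY : π g ∈ A₁ ⊔ X := hYeq ▸ ⟨g, hg, rfl⟩
          have hcent : A₁ ⊔ X ≤ centralizer (B : Set (G ⧸ N)) :=
            sup_le (fun u hu b hb => hAc b (hBA hb) u hu) hXB
          have hc : ∀ b ∈ B, π g * b * (π g)⁻¹ = b := fun b hb =>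
            mul_inv_eq_iff_eq_mul.mpr (hcent hgY b hb).symm
          constructor
          · intro h; rw [hc _ h]; exact h
          · intro h
            have h' := mul_left_cancel (a := π g) (mul_right_cancel (b := (π g)⁻¹) (hc _ h))
            rw [← h']; exact h
        haveI : ((B.comap π).subgroupOf L).Normal := ⟨fun z hz g => by
          rw [mem_subgroupOf] at hz ⊢
          exact (mem_normalizer_iff.mp (hBn g.2) z).mp hz⟩
        have hBp : IsPGroup p (B.comap π) := by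
          intro z
          have h1 : (z : G) ^ p ∈ N := by
            rw [← QuotientGroup.eq_one_iff, QuotientGroup.mk_pow]
            exact hAe _ (hBA z.2)
          obtain ⟨k, hk⟩ := hNp ⟨_, h1⟩
          exact ⟨k + 1, Subtype.ext (by
            have := congrArg Subtype.val hk
            simp only [SubgroupClass.coe_pow, OneMemClass.coe_one] at this ⊢
            rw [pow_succ', pow_mul, this])⟩
        exact (le_sSup ⟨inferInstance, IsPGroup.comap_subtype hBp⟩ : (B.comap π).subgroupOf L ≤ Cfsg.pCore p ↥L) haB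
    rw [hcore]
  · rw [Subgroup.inf_relIndex_left, Subgroup.relIndex_comap, ← hA₁, hidx]
  · rw [commutator_le]
    rintro a ⟨haA, haB⟩ g hg
    rw [← QuotientGroup.eq_one_iff, ← QuotientGroup.mk'_apply, map_commutatorElement, commutatorElement_eq_one_iff_mul_comm]
    have hgY : π g ∈ A₁ ⊔ X := hYeq ▸ ⟨g, hg, rfl⟩
    exact (sup_le (fun u hu b hb => hAc b (hBA hb) u hu) hXB : A₁ ⊔ X ≤ centralizer (B : Set (G ⧸ N))) hgY (π a) haB

end Aux

/-- Let M be a finite p-soluble group and A a p-subgroup of M with Φ(A) ≤ O_p(M) but A ≰ O_p(M). Then there is x ∈ O_{p,p'}(M) such that L = ⟨A, xAx⁻¹⟩ satisfies: x ∈ O^p(L) and O^p(L) ≤ O_{p,p'}(M); [O^p(L), A] = O^p(L); A ∩ O_p(L) has index p in A; and [A ∩ O_p(L), L] ≤ O_p(M). Here O^p(L) is the subgroup generated by the p'-elements of L and O_{p,p'}(M) the preimage of O_{p'}(M/O_p(M)). -/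
theorem result {M : Type*} [Group M] [Finite M] {p : ℕ} [Fact p.Prime] (hM : Cfsg.IsPSolvable p M) (A : Subgroup M) (hA : IsPGroup p A) (hΦ : (frattini ↥A).map A.subtype ≤ Cfsg.pCore p M) (hnot : ¬ A ≤ Cfsg.pCore p M) : ∃ x ∈ (Cfsg.pPrimeCore p (M ⧸ Cfsg.pCore p M)).comap (QuotientGroup.mk' (Cfsg.pCore p M)), x ∈ (Cfsg.pResidual p ↥(A ⊔ A.map (MulAut.conj x).toMonoidHom)).map (A ⊔ A.map (MulAut.conj x).toMonoidHom).subtype ∧ (Cfsg.pResidual p ↥(A ⊔ A.map (MulAut.conj x).toMonoidHom)).map (A ⊔ A.map (MulAut.conj x).toMonoidHom).subtype ≤ (Cfsg.pPrimeCore p (M ⧸ Cfsg.pCore p M)).comap (QuotientGroup.mk' (Cfsg.pCore p M)) ∧ ⁅(Cfsg.pResidual p ↥(A ⊔ A.map (MulAut.conj x).toMonoidHom)).map (A ⊔ A.map (MulAut.conj x).toMonoidHom).subtype, A⁆ = (Cfsg.pResidual p ↥(A ⊔ A.map (MulAut.conj x).toMonoidHom)).map (A ⊔ A.map (MulAut.conj x).toMonoidHom).subtype ∧ (A ⊓ (Cfsg.pCore p ↥(A ⊔ A.map (MulAut.conj x).toMonoidHom)).map (A ⊔ A.map (MulAut.conj x).toMonoidHom).subtype).relIndex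 A = p ∧ ⁅A ⊓ (Cfsg.pCore p ↥(A ⊔ A.map (MulAut.conj x).toMonoidHom)).map (A ⊔ A.map (MulAut.conj x).toMonoidHom).subtype, A ⊔ A.map (MulAut.conj x).toMonoidHom⁆ ≤ Cfsg.pCore p M := by
  exact Aux.goal hM A hA hΦ hnot

end Cfsg.Agent.S3754
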