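import Cfsg.Statements.S3755
import Mathlib
import Cfsg.Agent.Lib.CoprimeGen
import Cfsg.Agent.Lib.ThreeTrans.Basic
import Cfsg.Agent.Lib.Basic
-- import your own Cfsg.Agent.* helpers here

set_option autoImplicit false
open Cfsg

namespace Cfsg.Agent.S3755

namespace Aux

open Subgroup
open scoped IsMulCommutative Pointwise

universe u
variable {X : Type u} [Group X] [Finite X]

theorem inverted_count {U : Subgroup X} (hU : IsPGroup 2 U) {a x : X} (haa : a * a = 1) (hax : a * x * a⁻¹ = x⁻¹)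
    {q : ℕ} [Fact q.Prime] (hq : 5 ≤ q) (hxq : orderOf x = q)
    (haU : a ∈ normalizer (U : Set X)) (hxU : x ∈ normalizer (U : Set X)) (hmove : ¬ U ≤ centralizer {x}) :
    4 ≤ (U ⊓ centralizer {a}).relIndex U := by
  classical
  set Ca := U ⊓ centralizer {a} with hCa
  set Cx := U ⊓ centralizer {x} with hCx
  set h := (q - 1) / 2 with hh
  set y := x ^ h with hy
  have hyU : y ∈ normalizer (U : Set X) := pow_mem hxU h
  have hodd : q % 2 = 1 := Nat.odd_iff.mp ((Fact.out : q.Prime).odd_of_ne_two (by omega))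
  have hay : y * a * y⁻¹ = a * x := by
    have h1 : a * y⁻¹ * a⁻¹ = y := by
      rw [hy, ← inv_pow, ← conj_pow, show a * x⁻¹ * a⁻¹ = (a * x * a⁻¹)⁻¹ by group, hax, inv_inv]
    have h2 : y⁻¹ * y⁻¹ = x := by
      rw [hy, ← inv_pow, ← pow_add, ← mul_inv_eq_one, inv_pow, ← mul_inv_rev, ← pow_succ', inv_eq_one,
        show h + h + 1 = q by omega, ← hxq, pow_orderOf_eq_one]
    calc y * a * y⁻¹ = (a * y⁻¹ * a⁻¹) * a * y⁻¹ := by rw [h1]
      _ = a * (y⁻¹ * y⁻¹) := by group
      _ = a * x := by rw [h2]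
  set Cb := Ca.map (MulAut.conj y).toMonoidHom with hCb
  have hCbU : Cb ≤ U := by
    rintro _ ⟨u, hu, rfl⟩
    exact (mem_normalizer_iff.mp hyU u).mp hu.1
  have hle : Ca ⊓ Cb ≤ Cx := by
    rintro u ⟨hu, w, hw, rfl⟩
    refine ⟨hu.1, mem_centralizer_singleton_iff.mpr ?_⟩
    have h1 : Commute (y * w * y⁻¹) a := mem_centralizer_singleton_iff.mp hu.2
    have h2 : Commute (y * w * y⁻¹) (y * a * y⁻¹) := by
      show _ = _
      calc y * w * y⁻¹ * (y * a * y⁻¹) = y * (w * a) * y⁻¹ := by group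
        _ = y * (a * w) * y⁻¹ := by rw [mem_centralizer_singleton_iff.mp hw.2]
        _ = _ := by group
    rw [hay] at h2
    have h3 := h1.inv_right.mul_right h2
    rw [inv_mul_cancel_left] at h3
    exact h3.eq
  have hcard : Nat.card Cb = Nat.card Ca := Subgroup.card_map_of_injective (MulAut.conj y).injective
  have hidx : Cb.relIndex U = Ca.relIndex U := by
    have h1 := Subgroup.relIndex_mul_relIndex ⊥ Cb U bot_le hCbU
    have h2 := Subgroup.relIndex_mul_relIndex ⊥ Ca U bot_le inf_le_left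
    rw [Subgroup.relIndex_bot_left, Subgroup.relIndex_bot_left, hcard] at h1
    rw [Subgroup.relIndex_bot_left, Subgroup.relIndex_bot_left, ← h1] at h2
    exact (Nat.eq_of_mul_eq_mul_left Nat.card_pos h2).symm
  have hprod : Cx.relIndex U ≤ Ca.relIndex U * Ca.relIndex U := by
    refine (Nat.le_of_dvd (Nat.pos_of_ne_zero Subgroup.index_ne_zero_of_finite) ?_).trans
      ((Subgroup.relIndex_inf_le (H := Ca) (K := Cb) (L := U)).trans (le_of_eq (by rw [hidx])))
    exact relIndex_dvd_of_le_left U hle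
  -- orbits
  let act : MulAction (zpowers x) U :=
    { smul := fun g u => ⟨(g : X) * u * (g : X)⁻¹, (mem_normalizer_iff.mp ((zpowers_le.mpr hxU) g.2) _).mp u.2⟩
      one_smul := fun u => Subtype.ext (by show ((1 : zpowers x) : X) * u * ((1 : zpowers x) : X)⁻¹ = u; simp)
      mul_smul := fun g g' u => Subtype.ext (by
        show ((g * g' : zpowers x) : X) * u * ((g * g' : zpowers x) : X)⁻¹ = g * (g' * u * (g' : X)⁻¹) * (g : X)⁻¹
        push_cast; group) }
  have hX : IsPGroup q (zpowers x) := IsPGroup.of_card (n := 1) (by rw [Nat.card_zpowers, hxq, pow_one])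
  letI := act
  have hmod := hX.card_modEq_card_fixedPoints U
  have hfix : Nat.card (@MulAction.fixedPoints (zpowers x) U _ act) = Nat.card Cx := by
    refine Nat.card_congr
      { toFun := fun u => ⟨(u.1 : X), u.1.2, mem_centralizer_singleton_iff.mpr (by
          have := congrArg Subtype.val (u.2 ⟨x, mem_zpowers x⟩)
          exact (mul_inv_eq_iff_eq_mul.mp this).symm)⟩
        invFun := fun u => ⟨⟨u, u.2.1⟩, fun g => Subtype.ext (by
          show (g : X) * u * (g : X)⁻¹ = u
          obtain ⟨i, hi⟩ := mem_zpowers_iff.mp g.2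
          rw [← hi]
          exact mul_inv_eq_iff_eq_mul.mpr ((show Commute (u : X) x from mem_centralizer_singleton_iff.mp u.2.2).zpow_right i).symm.eq)⟩
        left_inv := fun u => rfl
        right_inv := fun u => rfl }
  have hUx : Nat.card U = Nat.card Cx * Cx.relIndex U := by
    have := Subgroup.relIndex_mul_relIndex ⊥ Cx U bot_le inf_le_left
    rw [Subgroup.relIndex_bot_left, Subgroup.relIndex_bot_left] at this
    exact this.symm
  rw [hfix, hUx] at hmod
  obtain ⟨i, hi⟩ := IsPGroup.iff_card.mp (hU.to_le (inf_le_left : Cx ≤ U))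
  obtain ⟨j, hj⟩ := IsPGroup.iff_card.mp hU
  obtain ⟨k, -, hk⟩ := (Nat.dvd_prime_pow Nat.prime_two).mp (hj ▸ (⟨_, hUx.trans (mul_comm _ _)⟩ : Cx.relIndex U ∣ Nat.card U))
  obtain ⟨m, hm, hm'⟩ := (Nat.dvd_prime_pow Nat.prime_two).mp (hj ▸ (Subgroup.relIndex_dvd_card Ca U))
  have hk1 : 2 ^ k ≡ 1 [MOD q] := by
    have hne : q ≠ 2 := by omega
    have h2 : Nat.Coprime q (Nat.card Cx) := hi ▸ Nat.Coprime.pow_right _ ((Nat.coprime_primes Fact.out Nat.prime_two).mpr hne)
    refine Nat.ModEq.cancel_left_of_coprime h2 ?_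
    rw [mul_one, ← hk]; exact hmod
  have hk3 : 3 ≤ k := by
    by_contra hlt
    have hk2 : k = 0 ∨ k = 1 ∨ k = 2 := by omega
    rcases hk2 with rfl | rfl | rfl
    · rw [pow_zero] at hk
      exact hmove ((relIndex_eq_one.mp hk).trans inf_le_right)
    · unfold Nat.ModEq at hk1
      rw [Nat.mod_eq_of_lt (by omega), Nat.mod_eq_of_lt (by omega)] at hk1
      omega
    · unfold Nat.ModEq at hk1
      rw [Nat.mod_eq_of_lt (by omega), Nat.mod_eq_of_lt (by omega)] at hk1
      omega
  rw [hm', hk] at hprod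
  have : 2 ^ 3 ≤ 2 ^ k := Nat.pow_le_pow_right (by norm_num) hk3
  rw [hm']
  rcases (show m = 0 ∨ m = 1 ∨ 2 ≤ m by omega) with rfl | rfl | h2
  · simp at hprod; omega
  · simp at hprod; omega
  · exact le_trans (by norm_num) (Nat.pow_le_pow_right (show 1 ≤ 2 by norm_num) h2)

theorem step (M V O : Subgroup X) (hV : IsPGroup 2 V) (hMV : M ≤ normalizer (V : Set X))
    (hfaith : M ⊓ centralizer (V : Set X) = ⊥) (hOM : O ≤ M) (hOn : M ≤ normalizer (O : Set X))
    (hOodd : ¬ 2 ∣ Nat.card O) (A : Subgroup X) (hAM : A ≤ M) (hA : IsMulCommutative A) (hA2 : ∀ a ∈ A, a ^ 2 = 1)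
    (hAO : A ⊓ centralizer (O : Set X) = ⊥)
    (hno : ∀ a ∈ M, ∀ x ∈ M, a * a = 1 → orderOf x = 3 → a * x * a⁻¹ = x⁻¹ → False) :
    ∀ n, ∀ A' ≤ A, Nat.card A' = n → Nat.card A' ^ 2 ≤ (V ⊓ centralizer (A' : Set X)).relIndex V := by
  classical
  have hcomm : ∀ a ∈ A, ∀ b ∈ A, a * b = b * a := fun a ha b hb =>
    congrArg Subtype.val (hA.is_comm.comm ⟨a, ha⟩ ⟨b, hb⟩)
  have hA2p : IsPGroup 2 A := fun a => ⟨1, Subtype.ext (by simpa using hA2 a a.2)⟩
  intro n
  induction n using Nat.strong_induction_on with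
  | _ n ih =>
  intro A' hA' hn
  have hrel : 1 ≤ (V ⊓ centralizer (A' : Set X)).relIndex V := Nat.one_le_iff_ne_zero.mpr Subgroup.index_ne_zero_of_finite
  by_cases hbot : A' = ⊥
  · rw [hbot, Subgroup.card_bot, one_pow]; rwa [hbot] at hrel
  obtain ⟨B, ⟨hBA, hBmove⟩, hBmax⟩ := (Set.toFinite {B : Subgroup X | B ≤ A' ∧
    ¬ O ⊓ centralizer (B : Set X) ≤ centralizer (A' : Set X)}).exists_maximal ⟨⊥, bot_le, fun h => hbot (by
      have hc : centralizer ((⊥ : Subgroup X) : Set X) = ⊤ := eq_top_iff.mpr fun g _ b hb => by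
        rw [SetLike.mem_coe, mem_bot] at hb; simp [hb]
      rw [hc, inf_top_eq] at h
      exact eq_bot_iff.mpr ((le_inf hA' (le_centralizer_iff.mp h)).trans hAO.le))⟩
  set K := O ⊓ centralizer (B : Set X) with hK
  have hnotsub : ¬ A' ≤ B := fun h => hBmove (inf_le_right.trans (centralizer_le h))
  obtain ⟨a, ha, haB⟩ := SetLike.not_le_iff_exists.mp hnotsub
  have haM : a ∈ M := hAM (hA' ha)
  have haa : a * a = 1 := by rw [← pow_two]; exact hA2 a (hA' ha)
  have hKnorm : ∀ g ∈ A', g ∈ normalizer (K : Set X) := fun g hg => by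
    refine mem_normalizer_iff.mpr fun z => ?_
    rw [hK, mem_inf, mem_inf, ← mem_normalizer_iff.mp (hOn (hAM (hA' hg))) z]
    have hgb : ∀ b ∈ B, g * b * g⁻¹ = b := fun b hb =>
      mul_inv_eq_iff_eq_mul.mpr (hcomm g (hA' hg) b (hA' (hBA hb)))
    constructor <;> rintro ⟨h1, h2⟩ <;> refine ⟨h1, fun b hb => ?_⟩
    · calc b * (g * z * g⁻¹) = (g * b * g⁻¹) * (g * z * g⁻¹) := by rw [hgb b hb]
        _ = g * (b * z) * g⁻¹ := by group
        _ = g * (z * b) * g⁻¹ := by rw [h2 b hb]
        _ = g * z * g⁻¹ * (g * b * g⁻¹) := by group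
        _ = _ := by rw [hgb b hb]
    · have h3 := h2 b hb
      rw [← hgb b hb] at h3
      exact mul_left_cancel (a := g) (mul_right_cancel (b := g⁻¹) (by simpa [mul_assoc] using h3))
  have hgenA : A' ≤ B ⊔ zpowers a := by
    by_contra hcon
    obtain ⟨b, hb, hbB⟩ := SetLike.not_le_iff_exists.mp hcon
    set T := zpowers a ⊔ zpowers b with hT
    have hTA : T ≤ A' := sup_le (zpowers_le.mpr ha) (zpowers_le.mpr hb)
    haveI : IsMulCommutative T := ⟨⟨fun s t => Subtype.ext (hcomm s (hA' (hTA s.2)) t (hA' (hTA t.2)))⟩⟩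
    have hTnc : ¬ IsCyclic T := fun hc => by
      obtain ⟨g, hg⟩ := isCyclic_iff_exists_zpowers_eq_top.mp hc
      have hg2 : (g : X) ^ 2 = 1 := hA2 _ (hA' (hTA g.2))
      have hmem : ∀ t : T, (t : X) = 1 ∨ (t : X) = g := by
        intro t
        obtain ⟨i, hi⟩ := mem_zpowers_iff.mp (hg ▸ mem_top t)
        rw [← hi, SubgroupClass.coe_zpow]
        have hd : ((g : X)) ^ (2 : ℤ) = 1 := by rw [zpow_ofNat]; exact hg2
        rcases Int.even_or_odd i with ⟨k, rfl⟩ | ⟨k, rfl⟩
        · left; rw [← two_mul, zpow_mul, hd, one_zpow]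
        · right; rw [zpow_add, zpow_mul, hd, one_zpow, one_mul, zpow_one]
      have ha1 : a ≠ 1 := fun e => haB (e ▸ one_mem B)
      rcases hmem ⟨a, mem_sup_left (mem_zpowers a)⟩ with h1 | h1
      · exact ha1 h1
      rcases hmem ⟨b, mem_sup_right (mem_zpowers b)⟩ with h2 | h2
      · exact hbB (by rw [show b = 1 from h2]; exact one_mem _)
      · exact hbB (by
          rw [show b = a from h2.trans h1.symm]
          exact mem_sup_right (mem_zpowers a))
    have hgen := CfsgLib.coprime_generated_by_centralizers hTnc (K := K) (fun g hg => hKnorm g (hTA hg)) (by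
      obtain ⟨k, hk⟩ := IsPGroup.iff_card.mp (hA2p.to_le (hTA.trans hA'))
      rw [hk]
      exact Nat.Coprime.pow_left _ (Nat.prime_two.coprime_iff_not_dvd.mpr fun h =>
        hOodd (h.trans (card_dvd_of_le inf_le_left))))
    refine hBmove (hgen.ge.trans (iSup₂_le fun t ht => ?_))
    obtain ⟨htT, ht1⟩ := ht
    have htB : t ∉ B := by
      intro htB
      -- the elements of `T` in `B` are trivial
      obtain ⟨s, hs, u, hu, rfl⟩ := CfsgLib.mem_sup_of_le_normalizer (W := zpowers a) (A := zpowers b)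
        (fun g hg => mem_normalizer_iff.mpr fun z => by
          have hgA : g ∈ A := hA' (zpowers_le.mpr hb hg)
          have hz : ∀ z ∈ zpowers a, g * z * g⁻¹ = z := fun z hz =>
            mul_inv_eq_iff_eq_mul.mpr (hcomm g hgA z (hA' (zpowers_le.mpr ha hz)))
          constructor
          · intro h; rw [hz z h]; exact h
          · intro h
            have h' := hz _ h
            have h'' : g * z * g⁻¹ = z := mul_left_cancel (a := g) (mul_right_cancel (b := g⁻¹) h')
            rw [← h'']; exact h) htT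
      have h2 : ∀ {c z : X}, c * c = 1 → z ∈ zpowers c → z = 1 ∨ z = c := by
        intro c z hc hz
        obtain ⟨i, rfl⟩ := hz
        have hd : c ^ (2 : ℤ) = 1 := by rw [zpow_ofNat, pow_two]; exact hc
        show c ^ i = 1 ∨ c ^ i = c
        rcases Int.even_or_odd i with ⟨k, rfl⟩ | ⟨k, rfl⟩
        · left; rw [← two_mul, zpow_mul, hd, one_zpow]
        · right; rw [zpow_add, zpow_mul, hd, one_zpow, one_mul, zpow_one]
      rcases h2 haa hs with rfl | rfl <;> rcases h2 (by rw [← pow_two]; exact hA2 b (hA' hb)) hu with rfl | rfl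
      · exact ht1 (mul_one 1)
      · rw [one_mul] at htB; exact hbB (mem_sup_left htB)
      · rw [mul_one] at htB; exact haB htB
      · refine hbB ?_
        rw [show u = s⁻¹ * (s * u) by group]
        exact mul_mem (inv_mem (mem_sup_right (mem_zpowers _))) (mem_sup_left htB)
    by_contra hmv
    refine htB ((hBmax (y := B ⊔ zpowers t) ⟨sup_le hBA (zpowers_le.mpr (hTA htT)), fun hc => hmv ?_⟩ le_sup_left)
      (mem_sup_right (mem_zpowers t)))
    refine le_trans ?_ hc
    rintro z ⟨hz, hzt⟩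
    refine ⟨hz.1, ?_⟩
    have hle : B ⊔ zpowers t ≤ centralizer ({z} : Set X) := sup_le
      (fun g hg => mem_centralizer_singleton_iff.mpr (hz.2 g hg))
      (zpowers_le.mpr (mem_centralizer_singleton_iff.mpr (mem_centralizer_singleton_iff.mp hzt).symm))
    exact fun g hg => mem_centralizer_singleton_iff.mp (hle hg)
  obtain ⟨y, hy, hya⟩ : ∃ y ∈ K, a * y ≠ y * a := by
    by_contra h
    push Not at h
    refine hBmove fun z hz => ?_
    have hle : B ⊔ zpowers a ≤ centralizer ({z} : Set X) := sup_le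
      (fun g hg => mem_centralizer_singleton_iff.mpr (hz.2 g hg))
      (zpowers_le.mpr (mem_centralizer_singleton_iff.mpr (h z hz)))
    exact fun g hg => mem_centralizer_singleton_iff.mp (hle (hgenA hg))
  set c := y⁻¹ * (a * y * a⁻¹) with hc
  have hcK : c ∈ K := mul_mem (inv_mem hy) ((mem_normalizer_iff.mp (hKnorm a ha) y).mp hy)
  have hc1 : c ≠ 1 := fun e => hya (by
    rw [hc, inv_mul_eq_one, eq_mul_inv_iff_mul_eq] at e
    exact e.symm)
  have hcinv : a * c * a⁻¹ = c⁻¹ := by
    have hainv : a⁻¹ = a := inv_eq_of_mul_eq_one_right haa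
    rw [hc, hainv, mul_inv_rev, mul_inv_rev, mul_inv_rev, hainv, inv_inv]
    simp only [mul_assoc]
    rw [haa, mul_one]
  obtain ⟨q, hq, hqc⟩ := Nat.exists_prime_and_dvd (show orderOf c ≠ 1 from fun e => hc1 (orderOf_eq_one_iff.mp e))
  haveI := Fact.mk hq
  set x := c ^ (orderOf c / q) with hx
  have hxq : orderOf x = q := orderOf_pow_orderOf_div (orderOf_pos c).ne' hqc
  have hxK : x ∈ K := pow_mem hcK _
  have hxinv : a * x * a⁻¹ = x⁻¹ := by rw [hx, ← conj_pow, hcinv, inv_pow]
  have hxM : x ∈ M := hOM hxK.1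
  have hq2 : q ≠ 2 := fun e => hOodd (e ▸ (hqc.trans (O.orderOf_dvd_natCard hcK.1)))
  have hq5 : 5 ≤ q := by
    have h3 : q ≠ 3 := fun e => hno a haM x hxM haa (hxq.trans e) hxinv
    have h4 : q ≠ 4 := by rintro rfl; norm_num at hq
    have := hq.two_le
    omega
  set U := V ⊓ centralizer (B : Set X) with hU
  have hnormU : ∀ g ∈ M, (∀ b ∈ B, g * b = b * g) → g ∈ normalizer (U : Set X) := by
    intro g hg hgb
    refine mem_normalizer_iff.mpr fun z => ?_
    rw [hU, mem_inf, mem_inf, ← mem_normalizer_iff.mp (hMV hg) z]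
    constructor <;> rintro ⟨h1, h2⟩ <;> refine ⟨h1, fun b hb => ?_⟩
    · have e : Commute g b := hgb b hb
      exact ((e.symm.mul_right (h2 b hb)).mul_right e.symm.inv_right).eq
    · have e : Commute g b := hgb b hb
      have := (e.symm.inv_right.mul_right (show Commute b (g * z * g⁻¹) from h2 b hb)).mul_right e.symm
      have e2 : g⁻¹ * (g * z * g⁻¹) * g = z := by group
      rw [e2] at this
      exact this.eq
  have hmove : ¬ U ≤ centralizer {x} := by
    intro hle
    have hPQ : B ≤ centralizer (zpowers x : Set X) := le_centralizer_iff.mp (zpowers_le.mpr hxK.2)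
    have h1 := CfsgLib.thompson_PxQ (hA2p.to_le (hBA.trans hA')) (Q := zpowers x)
      (by rw [Nat.card_zpowers, hxq]; exact (Nat.coprime_primes hq Nat.prime_two).mpr hq2) hPQ V hV
      ((hBA.trans hA').trans (hAM.trans hMV)) (zpowers_le.mpr (hMV hxM))
      (fun z hz => fun g hg => by
        obtain ⟨i, rfl⟩ := hg
        exact ((show Commute z x from mem_centralizer_singleton_iff.mp (hle hz)).zpow_right i).symm.eq)
    have hx1 : x ∈ M ⊓ centralizer (V : Set X) := ⟨hxM, h1 (mem_zpowers x)⟩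
    rw [hfaith, mem_bot] at hx1
    rw [hx1, orderOf_one] at hxq
    exact hq.one_lt.ne hxq
  have hcount := inverted_count (hV.to_le (inf_le_left : U ≤ V)) haa hxinv hq5 hxq
    (hnormU a haM fun b hb => hcomm a (hA' ha) b (hA' (hBA hb)))
    (hnormU x hxM fun b hb => (hxK.2 b hb).symm) hmove
  have hUa : U ⊓ centralizer {a} = V ⊓ centralizer (A' : Set X) := by
    ext z
    constructor
    · rintro ⟨⟨h1, h2⟩, h3⟩
      have hle : B ⊔ zpowers a ≤ centralizer ({z} : Set X) := sup_le
        (fun g hg => mem_centralizer_singleton_iff.mpr (h2 g hg))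
        (zpowers_le.mpr (mem_centralizer_singleton_iff.mpr (mem_centralizer_singleton_iff.mp h3).symm))
      exact ⟨h1, fun g hg => mem_centralizer_singleton_iff.mp (hle (hgenA hg))⟩
    · rintro ⟨h1, h2⟩
      exact ⟨⟨h1, fun g hg => h2 g (hBA hg)⟩, mem_centralizer_singleton_iff.mpr (h2 a ha).symm⟩
  have hchain := relIndex_mul_relIndex (U ⊓ centralizer {a}) U V inf_le_left inf_le_left
  rw [← hUa, ← hchain]
  have hcardA : Nat.card A' ≤ Nat.card B * 2 := by
    have h1 : A' ≤ B ⊔ zpowers a := hgenA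
    have hnz : zpowers a ≤ normalizer (B : Set X) := fun g hg => mem_normalizer_iff.mpr fun z => by
      have hgA : g ∈ A := hA' (zpowers_le.mpr ha hg)
      constructor
      · intro h
        rw [mul_inv_eq_iff_eq_mul.mpr (hcomm g hgA z (hA' (hBA h)))]; exact h
      · intro h
        have h' := mul_inv_eq_iff_eq_mul.mpr (hcomm g hgA _ (hA' (hBA h)))
        have h'' : g * z * g⁻¹ = z := mul_left_cancel (a := g) (mul_right_cancel (b := g⁻¹) h')
        rw [← h'']; exact h
    have h2 : (Nat.card (B ⊔ zpowers a : Subgroup X)) ≤ Nat.card B * Nat.card (zpowers a) := by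
      have e : ((B ⊔ zpowers a : Subgroup X) : Set X) = (B : Set X) * (zpowers a : Set X) :=
        Subgroup.coe_mul_of_right_le_normalizer_left B (zpowers a) hnz
      show Nat.card ((B ⊔ zpowers a : Subgroup X) : Set X) ≤ _
      rw [e]
      exact Set.natCard_mul_le
    rw [Nat.card_zpowers] at h2
    have h3 : orderOf a ≤ 2 := Nat.le_of_dvd (by norm_num) (orderOf_dvd_of_pow_eq_one (by rw [pow_two, haa]))
    exact (Subgroup.card_le_of_le h1).trans (h2.trans (Nat.mul_le_mul_left _ h3))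
  have hlt : Nat.card B < n := hn ▸ lt_of_le_of_ne (Subgroup.card_le_of_le hBA)
    fun e => hnotsub (eq_of_le_of_card_ge hBA e.ge).ge
  have hIH := ih _ hlt B (hBA.trans hA') rfl
  calc Nat.card A' ^ 2 ≤ (Nat.card B * 2) ^ 2 := Nat.pow_le_pow_left hcardA 2
    _ = 4 * Nat.card B ^ 2 := by ring
    _ ≤ _ := Nat.mul_le_mul hcount hIH

theorem goal (M V : Subgroup X) (hV : Cfsg.IsElementaryAbelian 2 V) (hMV : M ≤ normalizer (V : Set X))
    (hfaith : M ⊓ centralizer (V : Set X) = ⊥)
    (hcon : centralizer (Cfsg.pPrimeCore 2 ↥M : Set ↥M) ≤ Cfsg.pPrimeCore 2 ↥M) (A : Subgroup X) (hAM : A ≤ M)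
    (hA : Cfsg.IsElementaryAbelian 2 A) (hsmall : (V ⊓ centralizer (A : Set X)).relIndex V < Nat.card A ^ 2) :
    Cfsg.Involves (Equiv.Perm (Fin 3)) ↥M := by
  classical
  by_contra hno
  set O := (Cfsg.pPrimeCore 2 ↥M).map M.subtype with hO
  have hOodd : ¬ 2 ∣ Nat.card O := by
    rw [hO, Subgroup.card_map_of_injective M.subtype_injective]
    intro h
    exact CfsgLib.not_dvd_card_pPrimeCore Nat.prime_two h
  have hAO : A ⊓ centralizer (O : Set X) = ⊥ := by
    refine eq_bot_iff.mpr ?_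
    rintro a ⟨ha, hc⟩
    have h1 : (⟨a, hAM ha⟩ : M) ∈ Cfsg.pPrimeCore 2 ↥M := hcon fun z hz => Subtype.ext (hc z ⟨z, hz, rfl⟩)
    have hd : orderOf a ∣ Nat.card O := O.orderOf_dvd_natCard ⟨_, h1, rfl⟩
    have hd2 : orderOf a ∣ 2 := orderOf_dvd_of_pow_eq_one (hA.2 a ha)
    rcases (Nat.dvd_prime Nat.prime_two).mp hd2 with h | h
    · exact mem_bot.mpr (orderOf_eq_one_iff.mp h)
    · exact absurd (h ▸ hd) hOodd
  refine absurd (step M V O (fun v => ⟨1, Subtype.ext (by simpa using hV.2 v v.2)⟩) hMV hfaith (Subgroup.map_subtype_le _)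
    ?_ hOodd A hAM hA.1 hA.2 hAO ?_ _ A le_rfl rfl) (not_le.mpr hsmall)
  · exact (CfsgLib.le_normalizer_map_characteristic (le_normalizer (H := M)) (Cfsg.pPrimeCore 2 ↥M)).1
  · intro a haM x hxM haa hx3 hinv
    apply hno
    have hx1 : x ≠ 1 := fun e => by rw [e, orderOf_one] at hx3; omega
    set a' : M := ⟨a, haM⟩
    set b' : M := ⟨a * x, mul_mem haM hxM⟩
    have hainv : a⁻¹ = a := inv_eq_of_mul_eq_one_right haa
    rw [hainv] at hinv
    obtain ⟨φ, hφa, hφb⟩ := CfsgThreeTrans.exists_hom_S3 (a := a') (b := b') (Subtype.ext haa) (Subtype.ext (by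
        show a * x * (a * x) = 1
        rw [← mul_assoc, show a * x * a * x = a * x * a * x from rfl, hinv, inv_mul_cancel])) (Subtype.ext (by
        show a * x * a * (a * x) = a * (a * x) * a
        rw [hinv, ← mul_assoc a a x, haa, one_mul, show x⁻¹ * (a * x) = x⁻¹ * (a * x * a) * a⁻¹ by group, hinv, hainv]
        have hx3' : x⁻¹ * x⁻¹ = x := by
          rw [← mul_inv_rev, inv_eq_iff_mul_eq_one, ← pow_two, ← pow_succ]
          exact orderOf_dvd_iff_pow_eq_one.mp hx3.dvd
        rw [hx3']))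
    have hinj := CfsgThreeTrans.injective_S3_hom (φ := φ) (by
      rw [map_mul, hφa, hφb]
      intro e
      have : a * (a * x) = 1 := congrArg Subtype.val e
      rw [← mul_assoc, haa, one_mul] at this
      exact hx1 this)
    exact ⟨φ.range, ⊥, by rw [Subgroup.bot_subgroupOf]; infer_instance,
      ⟨((QuotientGroup.quotientMulEquivOfEq (Subgroup.bot_subgroupOf φ.range)).trans QuotientGroup.quotientBot).trans
        (MonoidHom.ofInjective hinj).symm⟩⟩

end Aux

/-- Let M and V be subgroups of a finite group with V an elementary abelian 2-group, M normalizing V and acting faithfully on it (M ∩ C(V) = 1), and C_M(O_{2'}(M)) ≤ O_{2'}(M). If some elementary abelian 2-subgroup A of M satisfies |V : C_V(A)| < |A|², then M has a section isomorphic to the symmetric group of degree 3. -/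
theorem result {X : Type*} [Group X] [Finite X] (M V : Subgroup X) (hV : Cfsg.IsElementaryAbelian 2 V) (hMV : M ≤ Subgroup.normalizer (V : Set X)) (hfaith : M ⊓ Subgroup.centralizer (V : Set X) = ⊥) (hcon : Subgroup.centralizer (Cfsg.pPrimeCore 2 ↥M : Set ↥M) ≤ Cfsg.pPrimeCore 2 ↥M) (A : Subgroup X) (hAM : A ≤ M) (hA : Cfsg.IsElementaryAbelian 2 A) (hsmall : (V ⊓ Subgroup.centralizer (A : Set X)).relIndex V < Nat.card A ^ 2) : Cfsg.Involves (Equiv.Perm (Fin 3)) ↥M := by
  exact Aux.goal M V hV hMV hfaith hcon A hAM hA hsmall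

end Cfsg.Agent.S3755
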