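import Cfsg.Statements.S3759
import Cfsg.Agent.Lib.ZCReduction.Functor
-- import your own Cfsg.Agent.* helpers here

set_option autoImplicit false
open Cfsg CfsgLib.ZCReduction

namespace Cfsg.Agent.S3759

/-- Let G be a finite group of even order in which the centralizer of every involution is solvable and C_G(Ω₁(Z(S))) ≤ N_G(S) for every Sylow 2-subgroup S, with O_{2'}(G) = 1 = O₂(G). Fix a Sylow 2-subgroup S and put Z = Ω₁(Z(S)), H = O²(G), R = S ∩ H. Then H has a strongly embedded subgroup; or Z ∩ R has order 2 and is weakly closed in R with respect to H; or Z has order 4 and equals the subgroup generated by the involutions of R; or the subgroup HZ has local characteristic 2: it has even order and every 2-local subgroup L of HZ satisfies C_L(O₂(L)) ≤ O₂(L). -/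
theorem result {G : Type*} [Group G] [Finite G] (heven : Even (Nat.card G)) (hC : ∀ t : G, orderOf t = 2 → Group.IsSolvable ↥(Subgroup.centralizer ({t} : Set G))) (hZ : ∀ S : Sylow 2 G, Subgroup.centralizer (Cfsg.omegaOne 2 ((S : Subgroup G) ⊓ Subgroup.centralizer ((S : Subgroup G) : Set G)) : Set G) ≤ Subgroup.normalizer ((S : Subgroup G) : Set G)) (hO' : Cfsg.pPrimeCore 2 G = ⊥) (hO : Cfsg.pCore 2 G = ⊥) (S : Sylow 2 G) : (∃ M : Subgroup ↥(Cfsg.pResidual 2 G), Cfsg.IsStronglyEmbedded M) ∨ (Nat.card ↥(Cfsg.omegaOne 2 ((S : Subgroup G) ⊓ Subgroup.centralizer ((S : Subgroup G) : Set G)) ⊓ Cfsg.pResidual 2 G) = 2 ∧ ∀ h ∈ Cfsg.pResidual 2 G, ∀ z ∈ Cfsg.omegaOne 2 ((S : Subgroup G) ⊓ Subgroup.centralizer ((S : Subgroup G) : Set G)) ⊓ Cfsg.pResidual 2 G, h * z * h⁻¹ ∈ (S : Subgroup G) → h * z * h⁻¹ ∈ Cfsg.omegaOne 2 ((S : Subgroup G) ⊓ Subgroup.centralizer ((S : Subgroup G) : Set G))) ∨ (Nat.card ↥(Cfsg.omegaOne 2 ((S : Subgroup G) ⊓ Subgroup.centralizer ((S : Subgroup G) : Set G))) = 4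 ∧ Cfsg.omegaOne 2 ((S : Subgroup G) ⊓ Cfsg.pResidual 2 G) = Cfsg.omegaOne 2 ((S : Subgroup G) ⊓ Subgroup.centralizer ((S : Subgroup G) : Set G))) ∨ Cfsg.IsCharacteristicTwoType ↥(Cfsg.pResidual 2 G ⊔ Cfsg.omegaOne 2 ((S : Subgroup G) ⊓ Subgroup.centralizer ((S : Subgroup G) : Set G))) := by
  classical
  haveI : Fact (Nat.Prime 2) := ⟨Nat.prime_two⟩
  haveI := CfsgLib.PResidual.pResidual_normal (G := G) (p := 2)
  set H := pResidual 2 G with hH
  set Z := omegaOne 2 ((S : Subgroup G) ⊓ Subgroup.centralizer ((S : Subgroup G) : Set G)) with hZdef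
  have hHS : (S : Subgroup G) ⊔ H = ⊤ := CfsgLib.PResidual.pResidual_sup_sylow S
  have hS' : ∀ w ∈ Z, w ∈ (S : Subgroup G) ∧ ∀ s ∈ (S : Subgroup G), w * s = s * w := by
    intro w hw
    have h1 : w ∈ (S : Subgroup G) ⊓ Subgroup.centralizer ((S : Subgroup G) : Set G) :=
      (Subgroup.closure_le _).mpr (fun x hx => hx.1) hw
    exact ⟨h1.1, fun s hs => (Subgroup.mem_centralizer_iff.mp h1.2 s hs).symm⟩
  have hsq : ∀ w ∈ Z, w * w = 1 := by
    intro w hw
    induction hw using Subgroup.closure_induction with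
    | mem w hw => rw [← pow_two]; exact hw.2
    | one => exact mul_one 1
    | mul a b ha hb ia ib =>
      calc a * b * (a * b) = a * (b * a) * b := by group
        _ = a * (a * b) * b := by rw [(hS' a ha).2 b (hS' b hb).1]
        _ = (a * a) * (b * b) := by group
        _ = 1 := by rw [ia, ib, one_mul]
    | inv a _ ia => rw [← mul_inv_rev, ia, inv_one]
  have hmemZ : ∀ w ∈ (S : Subgroup G), w * w = 1 → (∀ s ∈ (S : Subgroup G), w * s = s * w) → w ∈ Z :=
    fun w hw h2 hc => Subgroup.subset_closure ⟨⟨hw, Subgroup.mem_centralizer_iff.mpr fun s hs => (hc s hs).symm⟩,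
      by rw [pow_two]; exact h2⟩
  -- an involution of `S ⊓ H`
  have hinv : ∃ t, IsInvol t ∧ t ∈ (S : Subgroup G) ∧ t ∈ H := by
    have h2 : 2 ∣ Nat.card ↥H := by
      by_contra hd
      have hb : H = ⊥ := le_bot_iff.mp (hO' ▸ CfsgLib.le_pPrimeCore (p := 2) (N := H)
        ((Nat.prime_two.coprime_iff_not_dvd.mpr hd).symm))
      rw [hb, sup_bot_eq] at hHS
      have htop : (⊤ : Subgroup G) ≤ pCore 2 G := le_sSup ⟨inferInstance, hHS ▸ S.2⟩
      rw [hO, top_le_iff] at htop
      haveI : Subsingleton G := ⟨fun x y => by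
        have hx : x ∈ (⊥ : Subgroup G) := htop ▸ Subgroup.mem_top x
        have hy : y ∈ (⊥ : Subgroup G) := htop ▸ Subgroup.mem_top y
        rw [Subgroup.mem_bot.mp hx, Subgroup.mem_bot.mp hy]⟩
      rw [Nat.card_of_subsingleton (1 : G)] at heven
      exact Nat.not_even_one heven
    have hprod : Nat.card ↥((S : Subgroup G) ⊓ H) * ((S : Subgroup G) ⊓ H).relIndex H = Nat.card ↥H := by
      rw [← Subgroup.relIndex_bot_left, Subgroup.relIndex_mul_relIndex _ _ _ bot_le inf_le_right,
        Subgroup.relIndex_bot_left]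
    have h3 := ((Nat.Prime.dvd_mul Nat.prime_two).mp (hprod ▸ h2)).resolve_right (sylow_inf S H)
    obtain ⟨t, ht⟩ := exists_prime_orderOf_dvd_card' 2 h3
    exact ⟨t, isInvol_of_orderOf (by rw [Subgroup.orderOf_coe]; exact ht), t.2.1, t.2.2⟩
  -- an involution of `Z`
  obtain ⟨a, haZ, ha1⟩ : ∃ a ∈ Z, a ≠ 1 := by
    obtain ⟨t, ht, htS, -⟩ := hinv
    haveI : Nontrivial ↥(S : Subgroup G) := ⟨⟨⟨t, htS⟩, 1, fun e => ht.1 (congrArg Subtype.val e)⟩⟩
    haveI := S.2.center_nontrivial
    have hp : IsPGroup 2 ↥(Subgroup.center ↥(S : Subgroup G)) := S.2.to_subgroup _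
    obtain ⟨n, hn, hcard⟩ := hp.nontrivial_iff_card.mp inferInstance
    obtain ⟨c, hc⟩ := exists_prime_orderOf_dvd_card' (G := ↥(Subgroup.center ↥(S : Subgroup G))) 2
      (hcard ▸ dvd_pow_self 2 (Nat.pos_iff_ne_zero.mp hn))
    have hci : IsInvol ((c : ↥(S : Subgroup G)) : G) :=
      isInvol_of_orderOf (by rw [Subgroup.orderOf_coe, Subgroup.orderOf_coe]; exact hc)
    exact ⟨_, hmemZ _ (c : ↥(S : Subgroup G)).2 hci.2 fun s hs =>
      (congrArg Subtype.val (Subgroup.mem_center_iff.mp c.2 ⟨s, hs⟩)).symm, hci.1⟩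
  have hai : IsInvol a := ⟨ha1, hsq a haZ⟩
  by_cases hone : ∀ w ∈ Z, w = 1 ∨ w = a
  · -- `Z` has order two
    have h1 : One S a := ⟨hai, (hS' a haZ).1, (hS' a haZ).2,
      fun v hv hvi hvc => (hone v (hmemZ v hv hvi.2 hvc)).resolve_left hvi.1,
      fun g hg => hZ S (Subgroup.mem_centralizer_iff.mpr fun w hw => by
        rcases hone w hw with rfl | rfl
        · rw [one_mul, mul_one]
        · exact (commute_of_mem_cent hg).symm)⟩
    have haH : a ∈ H := h1.mem_H hinv
    have hZH : Z ≤ H := fun w hw => by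
      rcases hone w hw with rfl | rfl
      exacts [one_mem _, haH]
    by_cases hwc : ∀ h ∈ H, h * a * h⁻¹ ∈ (S : Subgroup G) → h * a * h⁻¹ = a
    · refine Or.inr (Or.inl ⟨?_, fun h hh w hw hS => ?_⟩)
      · have hset : ((Z ⊓ H : Subgroup G) : Set G) = {1, a} := by
          refine Set.Subset.antisymm (fun w hw => ?_) ?_
          · rcases hone w hw.1 with e | e <;> simp [e]
          · rintro w (rfl | rfl)
            exacts [one_mem _, ⟨haZ, haH⟩]
        rw [← SetLike.coe_sort_coe, Nat.card_coe_set_eq, hset, Set.ncard_pair (Ne.symm ha1)]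
      · rcases hone w hw.1 with rfl | rfl
        · rw [mul_one, mul_inv_cancel]; exact one_mem _
        · rw [hwc h hh hS]; exact haZ
    · push Not at hwc
      obtain ⟨g₀, -, hxS, hxne⟩ := hwc
      obtain ⟨W, hW⟩ : ∃ W, Hyp S H (Subgroup.zpowers a) W := by
        by_cases hall : AllConj S a
        · refine ⟨theta a, inferInstance, Subgroup.zpowers_le.mpr h1.zS, fun w hw s hs => ?_,
            not_two_dvd_theta a, fun g hg => ?_, fun t ht htS htH _ => ?_⟩
          · obtain ⟨i, rfl⟩ := Subgroup.mem_zpowers_iff.mp hw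
            exact ((show Commute a s from h1.central s hs).zpow_left i).eq
          · exact Subgroup.mem_normalizer_iff_map_conj_eq.mpr
              ((theta_conj g a).trans (h1.theta_conj_eq hC (hg a (Subgroup.mem_zpowers a))))
          · obtain ⟨k, rfl⟩ := hall t ht htS htH
            exact (h1.theta_conj_eq hC htS).le
        · exact h1.exists_hyp hC hall rfl hxS hxne
      rcases hW.conclude hC H le_rfl hHS hO' hinv with hM | hX
      · exact Or.inl hM
      · refine Or.inr (Or.inr (Or.inr ?_))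
        rw [sup_eq_left.mpr hZH]
        exact hX
  · -- `Z` contains a four-group
    push Not at hone
    obtain ⟨b, hbZ, hb1, hba⟩ := hone
    have hbi : IsInvol b := ⟨hb1, hsq b hbZ⟩
    have hab : a * b = b * a := (hS' a haZ).2 b (hS' b hbZ).1
    by_cases hc : ∀ v ∈ (S : Subgroup G), IsInvol v → v = a ∨ v = b ∨ v = a * b
    · -- all involutions of `S` lie in `Z`
      have hinZ : ∀ v ∈ (S : Subgroup G), v * v = 1 → v ∈ Z := by
        intro v hv hv2
        by_cases e : v = 1
        · exact e ▸ one_mem _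
        rcases hc v hv ⟨e, hv2⟩ with rfl | rfl | rfl
        exacts [haZ, hbZ, mul_mem haZ hbZ]
      have hZ4 : Nat.card ↥Z = 4 := by
        have hset : (Z : Set G) = {1, a, b, a * b} := by
          refine Set.Subset.antisymm (fun w hw => ?_) ?_
          · by_cases e : w = 1
            · simp [e]
            rcases hc w (hS' w hw).1 ⟨e, hsq w hw⟩ with e' | e' | e' <;> simp [e']
          · rintro w (rfl | rfl | rfl | rfl)
            exacts [one_mem _, haZ, hbZ, mul_mem haZ hbZ]
        rw [← SetLike.coe_sort_coe, Nat.card_coe_set_eq, hset,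
          Set.ncard_insert_of_notMem (by simp [Ne.symm ha1, Ne.symm hb1,
            Ne.symm (hai.mul hbi hab (Ne.symm hba)).1]) (Set.toFinite _),
          Set.ncard_insert_of_notMem (by simp [Ne.symm hba, hb1]) (Set.toFinite _),
          Set.ncard_pair (fun e => ha1 (mul_eq_right.mp e.symm))]
      by_cases hle : Z ≤ H
      · refine Or.inr (Or.inr (Or.inl ⟨hZ4, le_antisymm ?_ ?_⟩))
        · exact (Subgroup.closure_le _).mpr fun v hv => hinZ v hv.1.1 (by rw [← pow_two]; exact hv.2)
        · exact fun w hw => Subgroup.subset_closure ⟨⟨(hS' w hw).1, hle hw⟩, by rw [pow_two]; exact hsq w hw⟩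
      · refine Or.inr (Or.inl ⟨?_, fun h _ w hw hS => hinZ _ hS ?_⟩)
        · have hd : Nat.card ↥(Z ⊓ H) ∣ 2 ^ 2 := by
            have := Subgroup.card_dvd_of_le (inf_le_left : Z ⊓ H ≤ Z)
            rwa [hZ4] at this
          obtain ⟨k, hk, hk'⟩ := (Nat.dvd_prime_pow Nat.prime_two).mp hd
          obtain ⟨t, ht, htS, htH⟩ := hinv
          have h0 : k ≠ 0 := by
            rintro rfl
            rw [pow_zero, Subgroup.card_eq_one] at hk'
            exact ht.1 (Subgroup.mem_bot.mp (hk' ▸ (⟨hinZ t htS ht.2, htH⟩ : t ∈ Z ⊓ H)))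
          have h2 : k ≠ 2 := by
            rintro rfl
            exact hle ((Subgroup.eq_of_le_of_card_ge inf_le_left (by rw [hZ4, hk']; norm_num)) ▸ inf_le_right)
          obtain rfl : k = 1 := by omega
          rw [hk', pow_one]
        · rw [show h * w * h⁻¹ * (h * w * h⁻¹) = h * (w * w) * h⁻¹ by group, hsq w hw.1, mul_one, mul_inv_cancel]
    · push Not at hc
      obtain ⟨c, hcS, hci, hca, hcb, hcab⟩ := hc
      set W := theta a ⊔ theta b ⊔ theta (a * b) with hWdef
      have hθ : ∀ t, IsInvol t → t ∈ (S : Subgroup G) → theta t ≤ W := fun t ht htS =>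
        theta_le_sup hC ht hai hbi (Ne.symm hba) hab ((hS' a haZ).2 t htS) ((hS' b hbZ).2 t htS)
      have hX : (H ⊔ Z).Normal := by
        refine Subgroup.normalizer_eq_top_iff.mp (top_le_iff.mp (hHS ▸ sup_le (fun s hs => ?_)
          (le_sup_left.trans Subgroup.le_normalizer)))
        refine Subgroup.mem_normalizer_iff_map_conj_eq.mpr (le_antisymm ?_ ?_)
        · rw [Subgroup.map_sup]
          refine sup_le ?_ ?_
          · rintro _ ⟨w, hw, rfl⟩
            exact Subgroup.mem_sup_left ((inferInstance : H.Normal).conj_mem w hw s)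
          · rintro _ ⟨w, hw, rfl⟩
            refine Subgroup.mem_sup_right ?_
            show s * w * s⁻¹ ∈ Z
            rw [← (hS' w hw).2 s hs, mul_inv_cancel_right]
            exact hw
        · refine sup_le (fun w hw => ?_) (fun w hw => ?_)
          · exact ⟨s⁻¹ * w * s, Subgroup.mem_sup_left (by simpa using (inferInstance : H.Normal).conj_mem w hw s⁻¹),
              by simp [mul_assoc]⟩
          · exact ⟨w, Subgroup.mem_sup_right hw, by
              show s * w * s⁻¹ = w
              rw [← (hS' w hw).2 s hs, mul_inv_cancel_right]⟩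
      have hWodd : ¬ 2 ∣ Nat.card ↥W := not_two_dvd_closure hC hai hbi hci hab ((hS' a haZ).2 c hcS)
        ((hS' b hbZ).2 c hcS) (Ne.symm hba) hca hcb hcab le_rfl
      have hyp : Hyp S (H ⊔ Z) Z W := ⟨hX, fun w hw => (hS' w hw).1, fun w hw => (hS' w hw).2, hWodd,
        fun g hg => Subgroup.mem_normalizer_iff_map_conj_eq.mpr (Subgroup.eq_of_le_of_card_ge (by
          rw [hWdef, Subgroup.map_sup, Subgroup.map_sup]
          exact sup_le (sup_le ((theta_conj g a).le.trans (hθ _ (hai.conj g) (hg a haZ)))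
            ((theta_conj g b).le.trans (hθ _ (hbi.conj g) (hg b hbZ))))
            ((theta_conj g (a * b)).le.trans (hθ _ ((hai.mul hbi hab (Ne.symm hba)).conj g)
              (hg _ (mul_mem haZ hbZ)))))
          (Subgroup.card_map_of_injective (MulEquiv.injective (MulAut.conj g))).ge),
        fun t ht htS _ _ => hθ t ht htS⟩
      rcases hyp.conclude hC H le_sup_left hHS hO' hinv with hM | hX'
      · exact Or.inl hM
      · exact Or.inr (Or.inr (Or.inr hX'))

end Cfsg.Agent.S3759
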