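import Cfsg.Statements.S3760
import Mathlib
-- import your own Cfsg.Agent.* helpers here

set_option autoImplicit false
open Cfsg

namespace Cfsg.Agent.S3760

/-- Let the group G act transitively on a set X, let x ∈ X with stabilizer H = G_x, and let K ≤ H. Then N_G(K) acts transitively on the set of fixed points of K if and only if every G-conjugate of K contained in H is already an H-conjugate of K. -/
theorem result {G : Type*} [Group G] {X : Type*} [MulAction G X] (htrans : ∀ a b : X, ∃ g : G, g • a = b) (x : X) (K : Subgroup G) (hK : K ≤ MulAction.stabilizer G x) : (∀ a b : X, (∀ k ∈ K, k • a = a) → (∀ k ∈ K, k • b = b) → ∃ g ∈ Subgroup.normalizer (K : Set G), g • a = b) ↔ ∀ g : G, K.map (MulAut.conj g).toMonoidHom ≤ MulAction.stabilizer G x → ∃ h ∈ MulAction.stabilizer G x, K.map (MulAut.conj g).toMonoidHom = K.map (MulAut.conj h).toMonoidHom := by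
  have hconj : ∀ (u : G) (L : Subgroup G) (k : G), k ∈ L.map (MulAut.conj u).toMonoidHom ↔
      u⁻¹ * k * u ∈ L := by
    intro u L k
    simp only [Subgroup.mem_map_equiv, MulAut.conj_symm_apply]
  constructor
  · intro h g hg
    have hfix : ∀ k ∈ K, k • (g⁻¹ • x) = g⁻¹ • x := by
      intro k hk
      have h1 : g * k * g⁻¹ ∈ MulAction.stabilizer G x :=
        hg ((hconj g K _).mpr (by simpa [mul_assoc] using hk))
      rw [MulAction.mem_stabilizer_iff, mul_smul, mul_smul] at h1
      exact eq_inv_smul_iff.mpr h1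
    obtain ⟨n, hn, hnx⟩ := h x (g⁻¹ • x) (fun k hk => hK hk) hfix
    refine ⟨g * n, ?_, ?_⟩
    · rw [MulAction.mem_stabilizer_iff, mul_smul, hnx, smul_inv_smul]
    · ext k
      rw [hconj, hconj, (Subgroup.mem_normalizer_iff.mp (inv_mem hn)) (g⁻¹ * k * g)]
      simp [mul_assoc]
  · intro h a b ha hb
    have key : ∀ a : X, (∀ k ∈ K, k • a = a) → ∃ n ∈ Subgroup.normalizer (K : Set G), n • x = a := by
      intro a ha
      obtain ⟨u, rfl⟩ := htrans x a
      obtain ⟨s, hs, hse⟩ := h u⁻¹ (by
        intro k hk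
        rw [hconj, inv_inv] at hk
        have := ha _ hk
        rw [mul_smul, mul_smul, inv_smul_smul] at this
        exact smul_left_cancel u this)
      refine ⟨u * s, ?_, by rw [mul_smul, MulAction.mem_stabilizer_iff.mp hs]⟩
      rw [Subgroup.mem_normalizer_iff]
      intro k
      have := SetLike.ext_iff.mp hse (s * k * s⁻¹)
      rw [hconj, hconj] at this
      simpa [mul_assoc] using this.symm
    obtain ⟨n, hn, rfl⟩ := key a ha
    obtain ⟨m, hm, rfl⟩ := key b hb
    exact ⟨m * n⁻¹, mul_mem hm (inv_mem hn), by rw [mul_smul, inv_smul_smul]⟩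

end Cfsg.Agent.S3760
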