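import Cfsg.Statements.S3763
import Mathlib
import Cfsg.Agent.Lib.ExtraspecialTwo
-- import your own Cfsg.Agent.* helpers here

set_option autoImplicit false
open Cfsg

namespace Cfsg.Agent.S3763

universe u

theorem invariants' (E : Type u) [Group E] [Finite E] (hE : Cfsg.IsExtraspecial 2 E) :
    ∃ (z : E) (n : ℕ), CfsgLib.ExtraTwo.Ext2 E z ∧ 1 ≤ n ∧ Nat.card E = 2 ^ (2 * n + 1) ∧
      ((CfsgLib.ExtraTwo.rootCount E = 2 ^ (2 * n) + 2 ^ n ∧ Cfsg.PRankAtLeast 2 (n + 1) E) ∨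
        (CfsgLib.ExtraTwo.rootCount E + 2 ^ n = 2 ^ (2 * n) ∧ Cfsg.PRankAtLeast 2 n E)) := by
  obtain ⟨z, hz⟩ := CfsgLib.ExtraTwo.ofExtraspecial hE
  obtain ⟨n, hn, hc⟩ := CfsgLib.ExtraTwo.invariants _ E z rfl hz
  have h1 : 1 ≤ n := by
    by_contra h0
    obtain rfl : n = 0 := by omega
    obtain ⟨⟨-, -, hcomm⟩, hcard⟩ := hE
    have htop : Subgroup.center E = ⊤ := Subgroup.eq_top_of_card_eq _ (hcard.trans hn.symm)
    have : commutator E = ⊥ := by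
      rw [commutator_def, Subgroup.commutator_eq_bot_iff_le_centralizer]
      intro a _
      exact Subgroup.mem_centralizer_iff.mpr fun b _ => Subgroup.mem_center_iff.mp (htop ▸ Subgroup.mem_top a) b
    rw [← hcomm, this, Subgroup.card_bot] at hcard
    omega
  exact ⟨z, n, hz, h1, hn, hc.imp id fun h => h.2⟩

theorem ranks (F : Type u) [Group F] [Finite F] (hF : Cfsg.IsExtraspecial 2 F) (n : ℕ) (hcF : Nat.card F = 2 ^ (2 * n + 1)) :
    1 ≤ n ∧ ∃ z : F, CfsgLib.ExtraTwo.Ext2 F z ∧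
      ((CfsgLib.ExtraTwo.rootCount F = 2 ^ (2 * n) + 2 ^ n ∧ Cfsg.PRankLE 2 (n + 1) F ∧ ¬ Cfsg.PRankLE 2 n F) ∨
        (CfsgLib.ExtraTwo.rootCount F + 2 ^ n = 2 ^ (2 * n) ∧ Cfsg.PRankLE 2 n F ∧ ¬ Cfsg.PRankLE 2 (n - 1) F)) := by
  have := Fact.mk Nat.prime_two
  obtain ⟨z, m, hz, h1, hm, hc⟩ := invariants' F hF
  obtain rfl : m = n := by
    have := Nat.pow_right_injective (le_refl 2) (hm.symm.trans hcF)
    omega
  have hnot : ∀ a b, Cfsg.PRankAtLeast 2 a F → b < a → ¬ Cfsg.PRankLE 2 b F := by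
    rintro a b ⟨A, hA, hA2, hAa⟩ hba hle
    exact absurd (hAa.trans (hle A hA hA2)) (Nat.not_le.mpr (Nat.pow_lt_pow_right (by norm_num) hba))
  refine ⟨h1, z, hz, ?_⟩
  rcases hc with ⟨r, a⟩ | ⟨r, a⟩
  · exact Or.inl ⟨r, fun A hA hA2 => (CfsgLib.ExtraTwo.card_elementary_le hz hcF hA hA2).1, hnot _ _ a (Nat.lt_succ_self _)⟩
  · refine Or.inr ⟨r, fun A hA hA2 => ?_, hnot _ _ a (by omega)⟩
    obtain ⟨hb, he⟩ := CfsgLib.ExtraTwo.card_elementary_le hz hcF hA hA2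
    obtain ⟨k, hk⟩ := IsPGroup.iff_card.mp (hz.isPGroup.to_subgroup A)
    rw [hk] at hb he ⊢
    refine Nat.pow_le_pow_right two_pos ?_
    have hkle := (Nat.pow_le_pow_iff_right (le_refl 2)).mp hb
    by_contra hgt
    have := he (by rw [show k = m + 1 by omega])
    have := Nat.two_pow_pos m
    omega

/-- Let E be an extraspecial 2-group of order 2^(2n+1). Then the largest elementary abelian subgroups of E have order 2^n or 2^(n+1); and two extraspecial 2-groups of the same order whose largest elementary abelian subgroups have the same order are isomorphic. -/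
theorem result {E : Type*} [Group E] [Finite E] (hE : Cfsg.IsExtraspecial 2 E) (n : ℕ) (hn : Nat.card E = 2 ^ (2 * n + 1)) : ((Cfsg.PRankLE 2 n E ∧ ¬ Cfsg.PRankLE 2 (n - 1) E) ∨ (Cfsg.PRankLE 2 (n + 1) E ∧ ¬ Cfsg.PRankLE 2 n E)) ∧ ∀ (E' : Type*) [Group E'] [Finite E'], Cfsg.IsExtraspecial 2 E' → Nat.card E' = Nat.card E → (∀ k : ℕ, Cfsg.PRankLE 2 k E ↔ Cfsg.PRankLE 2 k E') → Nonempty (E ≃* E') := by
  have key : ∀ (F : Type _) [Group F] [Finite F], Cfsg.IsExtraspecial 2 F → Nat.card F = 2 ^ (2 * n + 1) →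
      1 ≤ n ∧ ∃ z : F, CfsgLib.ExtraTwo.Ext2 F z ∧
        ((CfsgLib.ExtraTwo.rootCount F = 2 ^ (2 * n) + 2 ^ n ∧ Cfsg.PRankLE 2 (n + 1) F ∧ ¬ Cfsg.PRankLE 2 n F) ∨
          (CfsgLib.ExtraTwo.rootCount F + 2 ^ n = 2 ^ (2 * n) ∧ Cfsg.PRankLE 2 n F ∧ ¬ Cfsg.PRankLE 2 (n - 1) F)) :=
    fun F _ _ hF hcF => ranks F hF n hcF
  obtain ⟨h1, z, hz, hc⟩ := key E hE hn
  refine ⟨hc.symm.imp (fun h => h.2) fun h => h.2, fun E' _ _ hE' hcard hprof => ?_⟩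
  obtain ⟨-, z', hz', hc'⟩ := ranks E' hE' n (hcard.trans hn)
  refine CfsgLib.ExtraTwo.nonempty_equiv _ E E' z z' rfl hcard hz hz' ?_
  rcases hc with ⟨r, -, a⟩ | ⟨r, a, -⟩ <;> rcases hc' with ⟨r', -, a'⟩ | ⟨r', a', -⟩
  · omega
  · exact absurd ((hprof n).mpr a') a
  · exact absurd ((hprof n).mp a) a'
  · omega

end Cfsg.Agent.S3763
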