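import Cfsg.Statements.S3764
import Mathlib
import Cfsg.Agent.Lib.FrobAction.QGroupModule
-- import your own Cfsg.Agent.* helpers here

set_option autoImplicit false
open Cfsg
open scoped commutatorElement

namespace Cfsg.Agent.S3764

/-- Let p, q, r be distinct primes and let X, Q, V be subgroups of a finite group with X of order r, Q an extraspecial q-group normalized by X with C_Q(X) = Z(Q), and V an elementary abelian p-group normalized by X and Q on which XQ acts faithfully ((X ⊔ Q) ∩ C(V) = 1). If C_V(X) = 1, then q = 2, r = 2^n + 1 for some n, and Q has order 2^(2n+1). -/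
theorem result {G : Type*} [Group G] [Finite G] {p q r : ℕ} (hp : p.Prime) (hq : q.Prime) (hr : r.Prime) (hpq : p ≠ q) (hpr : p ≠ r) (hqr : q ≠ r) (X Q V : Subgroup G) (hX : Nat.card X = r) (hQ : Cfsg.IsExtraspecial q ↥Q) (hXQ : X ≤ Subgroup.normalizer (Q : Set G)) (hCQ : Q ⊓ Subgroup.centralizer (X : Set G) = (Subgroup.center ↥Q).map Q.subtype) (hV : Cfsg.IsElementaryAbelian p V) (hXV : X ≤ Subgroup.normalizer (V : Set G)) (hQV : Q ≤ Subgroup.normalizer (V : Set G)) (hfaith : (X ⊔ Q) ⊓ Subgroup.centralizer (V : Set G) = ⊥) (hCV : V ⊓ Subgroup.centralizer (X : Set G) = ⊥) : q = 2 ∧ ∃ n : ℕ, r = 2 ^ n + 1 ∧ Nat.card Q = 2 ^ (2 * n + 1) := by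
  haveI := Fact.mk hp
  haveI := Fact.mk hq
  haveI := Fact.mk hr
  haveI := hV.1
  obtain ⟨⟨hQp, -, hcomm⟩, hcard⟩ := hQ
  set Z := Subgroup.center ↥Q with hZ
  obtain ⟨W, _, _, _, α, β, hcov, hno, hker⟩ :=
    CfsgLib.QGroupModule.exists_module p X Q V hV.2 hXQ hXV hQV hCV
  set τ := CfsgLib.QGroupModule.conjAut X Q hXQ with hτ
  have hτZ : ∀ σ, ∀ z ∈ Z, τ σ z = z := by
    intro σ z hz
    refine Subtype.ext ?_
    have hmem : (z : G) ∈ Q ⊓ Subgroup.centralizer (X : Set G) := hCQ ▸ Subgroup.mem_map_of_mem Q.subtype hz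
    show (σ : G) * z * (σ : G)⁻¹ = z
    rw [(Subgroup.mem_centralizer_iff.1 (Subgroup.mem_inf.1 hmem).2 σ σ.2), mul_inv_cancel_right]
  have hcast : ∀ n : ℕ, n.Prime → p ≠ n → (n : AlgebraicClosure (ZMod p)) ≠ 0 := fun n hn hne h => by
    rw [CharP.cast_eq_zero_iff (AlgebraicClosure (ZMod p)) p] at h
    exact hne ((Nat.prime_dvd_prime_iff_eq (Fact.out : p.Prime) hn).1 h)
  have hHK : (Nat.card Q : AlgebraicClosure (ZMod p)) ≠ 0 := by
    obtain ⟨k, hk⟩ := IsPGroup.iff_card.1 hQp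
    rw [hk, Nat.cast_pow]
    exact pow_ne_zero _ (hcast q hq hpq)
  obtain ⟨c0, hc0, hc01⟩ : ∃ c0 ∈ Z, c0 ≠ 1 := (Subgroup.bot_or_exists_ne_one Z).resolve_left fun h => by
    rw [h, Subgroup.card_bot] at hcard
    exact hq.one_lt.ne hcard
  have hc0α : α c0 ≠ 1 := by
    intro h
    have hmem : (c0 : G) ∈ (X ⊔ Q) ⊓ Subgroup.centralizer (V : Set G) :=
      Subgroup.mem_inf.2 ⟨Subgroup.mem_sup_right c0.2, (hker c0).1 h⟩
    rw [hfaith, Subgroup.mem_bot] at hmem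
    exact hc01 (Subtype.ext hmem)
  obtain ⟨S, α0, β0, hS0, hcov0, hno0, hscal, c, hc1, hc⟩ :=
    CfsgLib.QGroupModule.exists_scalar_part Z le_rfl τ hτZ α β hcov hno hc0 hc0α hHK
  haveI : Nontrivial S := Submodule.nontrivial_iff_ne_bot.2 hS0
  have hcl : ∀ g h : Q, ⁅g, h⁆ ∈ Z := fun g h => by
    rw [← hcomm]
    exact Subgroup.commutator_mem_commutator (Subgroup.mem_top g) (Subgroup.mem_top h)
  have hZtop : Z ≠ ⊤ := by
    intro h
    have h1 : commutator Q = ⊥ := (commutator_eq_bot_iff_center_eq_top _).2 h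
    rw [h1] at hcomm
    rw [← hcomm, Subgroup.card_bot] at hcard
    exact hq.one_lt.ne hcard
  have hfpf : ∀ σ : X, σ ≠ 1 → ∀ h, τ σ h * h⁻¹ ∈ Z → h ∈ Z := by
    intro σ hσ h hh
    have h1 := CfsgLib.QGroupModule.fixed_all hX τ hσ (CfsgLib.QGroupModule.fixed_of_shift q hQp hqr hX τ σ h (hτZ σ _ hh))
    have hmem : (h : G) ∈ Q ⊓ Subgroup.centralizer (X : Set G) :=
      Subgroup.mem_inf.2 ⟨h.2, Subgroup.mem_centralizer_iff.2 fun x hx => mul_inv_eq_iff_eq_mul.1 (congrArg Subtype.val (h1 ⟨x, hx⟩))⟩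
    rw [hCQ] at hmem
    obtain ⟨y, hy, hye⟩ := hmem
    rwa [← show y = h from Subtype.ext hye]
  obtain ⟨d, hd, hrd⟩ := CfsgLib.SymplecticCore.index_eq r hX Z le_rfl hcl hZtop τ hτZ hfpf α0 hscal
    (fun h hh => by
      have hne : ¬ ∀ g : Q, ⁅g, h⁆ = 1 := fun hall =>
        hh (Subgroup.mem_center_iff.2 fun g => commutatorElement_eq_one_iff_mul_comm.1 (hall g))
      push_neg at hne
      obtain ⟨g, hg⟩ := hne
      obtain ⟨c', hc'⟩ := hscal _ (hcl g h)
      refine ⟨g, c', fun h1 => hc1 ?_, hc'⟩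
      rw [h1, one_smul] at hc'
      have hgen : (⟨c0, hc0⟩ : Z) ∈ Subgroup.zpowers (⟨⁅g, h⁆, hcl g h⟩ : Z) :=
        mem_zpowers_of_prime_card hcard (fun e => hg (congrArg Subtype.val e))
      obtain ⟨k, hk⟩ := mem_powers_iff_mem_zpowers.2 hgen
      have h2 : α0 c0 = 1 := by
        rw [← show ⁅g, h⁆ ^ k = c0 from congrArg Subtype.val hk, map_pow, hc', one_pow]
      rw [hc] at h2
      obtain ⟨v, hv⟩ := exists_ne (0 : S)
      have h3 := LinearMap.congr_fun h2 v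
      rw [LinearMap.smul_apply, Module.End.one_apply] at h3
      exact smul_left_injective _ hv (h3.trans (one_smul _ v).symm))
    β0 hcov0 hHK (hcast r hr hpr) hno0
  obtain ⟨m, hm⟩ := hQp.index Z
  obtain ⟨hq2, i, hi, hN⟩ := CfsgLib.QGroupModule.fermat_arith hq hr hm (fun h => hZtop (Subgroup.index_eq_one.1 h)) hd hrd
  refine ⟨hq2, i, hi, ?_⟩
  rw [← Subgroup.card_mul_index Z, hN, hcard, hq2, pow_succ']

end Cfsg.Agent.S3764
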