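import Cfsg.Statements.S3765
import Mathlib
import Cfsg.Agent.Lib.FrobAction.QGroupModule
-- import your own Cfsg.Agent.* helpers here

set_option autoImplicit false
open Cfsg

namespace Cfsg.Agent.S3765

/-- Let p, q, r be distinct primes and let X, Q, V be subgroups of a finite group with X of order r normalizing the q-group Q and acting faithfully on it (X ∩ C(Q) = 1), and V a nontrivial elementary abelian p-group normalized by X and Q on which XQ acts faithfully. If q = 2 and r has the form 2^n + 1, assume in addition that Q is abelian. Then C_V(X) ≠ 1. -/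
theorem result {G : Type*} [Group G] [Finite G] {p q r : ℕ} (hp : p.Prime) (hq : q.Prime) (hr : r.Prime) (hpq : p ≠ q) (hpr : p ≠ r) (hqr : q ≠ r) (X Q V : Subgroup G) (hX : Nat.card X = r) (hQ : IsPGroup q Q) (hXQ : X ≤ Subgroup.normalizer (Q : Set G)) (hXfaith : X ⊓ Subgroup.centralizer (Q : Set G) = ⊥) (hV : Cfsg.IsElementaryAbelian p V) (hV1 : V ≠ ⊥) (hXV : X ≤ Subgroup.normalizer (V : Set G)) (hQV : Q ≤ Subgroup.normalizer (V : Set G)) (hfaith : (X ⊔ Q) ⊓ Subgroup.centralizer (V : Set G) = ⊥) (hexc : q = 2 → (∃ n : ℕ, r = 2 ^ n + 1) → IsMulCommutative Q) : V ⊓ Subgroup.centralizer (X : Set G) ≠ ⊥ := by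
  intro hCV
  haveI := Fact.mk hp
  haveI := Fact.mk hq
  haveI := Fact.mk hr
  haveI := hV.1
  have h := CfsgLib.QGroupModule.commutator_centralizes hpq hpr hqr X Q V hX hQ hV.2 hXQ hXV hQV hCV hexc
  have hle : X ≤ X ⊓ Subgroup.centralizer (Q : Set G) := by
    intro x hx
    refine Subgroup.mem_inf.2 ⟨hx, Subgroup.mem_centralizer_iff.2 fun a ha => ?_⟩
    have hmem : x * a * x⁻¹ * a⁻¹ ∈ (X ⊔ Q) ⊓ Subgroup.centralizer (V : Set G) :=
      Subgroup.mem_inf.2 ⟨mul_mem (mul_mem (mul_mem (Subgroup.mem_sup_left hx) (Subgroup.mem_sup_right ha))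
        (inv_mem (Subgroup.mem_sup_left hx))) (inv_mem (Subgroup.mem_sup_right ha)), h x hx a ha⟩
    rw [hfaith, Subgroup.mem_bot, mul_inv_eq_one, mul_inv_eq_iff_eq_mul] at hmem
    exact hmem.symm
  rw [hXfaith, le_bot_iff] at hle
  rw [hle, Subgroup.card_bot] at hX
  exact hr.one_lt.ne hX

end Cfsg.Agent.S3765
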