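import Cfsg.Statements.S3767
import Mathlib
import Cfsg.Agent.Lib.SymplecticTypeP
import Cfsg.Agent.Lib.Coprime
import Cfsg.Agent.Lib.PLengthTwo
-- import your own Cfsg.Agent.* helpers here

set_option autoImplicit false
open Cfsg

namespace Cfsg.Agent.S3767

namespace Aux

universe a

open CfsgLib
open scoped commutatorElement

set_option maxHeartbeats 1000000

/-- An irreducible automorphism of an elementary abelian group, and an invariant pairing. -/
theorem field_dvd {V : Type a} [AddCommGroup V] [Finite V] [Nontrivial V] {p : ℕ} [Fact p.Prime]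
    (hp : ∀ v : V, p • v = 0) (T : AddMonoid.End V) {h : ℕ} (hT : orderOf T = h) (h0 : h ≠ 0)
    (hirr : ∀ S : AddSubgroup V, (∀ v ∈ S, T v ∈ S) → S = ⊥ ∨ S = ⊤) :
    ∃ d : ℕ, Nat.card V = p ^ d ∧ d ≠ 0 ∧ h ∣ p ^ d - 1 ∧
      ∀ (C : Type a) [Group C] (b : V → V → C), (∀ u u' v, b (u + u') v = b u v * b u' v) →
        (∀ u v v', b u (v + v') = b u v * b u v') → (∀ u v, b (T u) (T v) = b u v) →
        (∀ v, (∀ u, b u v = 1) → v = 0) → 2 < h → ∃ j, d = 2 * j ∧ h ∣ p ^ j + 1 := by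
  classical
  have hpp := (Fact.out : p.Prime)
  haveI : Finite (AddMonoid.End V) := Finite.of_injective (fun f : AddMonoid.End V => (f : V → V)) DFunLike.coe_injective
  set K := Subring.closure ({T} : Set (AddMonoid.End V)) with hK
  have hTK : T ∈ K := Subring.subset_closure rfl
  have hTc : ∀ a ∈ K, a * T = T * a := fun a ha => by
    have hle : K ≤ Subring.centralizer ({T} : Set (AddMonoid.End V)) := Subring.closure_le.mpr fun y hy => by
      rw [Set.mem_singleton_iff] at hy; subst hy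
      exact Subring.mem_centralizer_iff.mpr fun g hg => by rw [Set.mem_singleton_iff] at hg; subst hg; rfl
    exact (Subring.mem_centralizer_iff.mp (hle ha) T rfl).symm
  have hcomm : ∀ a ∈ K, ∀ c ∈ K, a * c = c * a := fun a ha c hc => by
    have hle : K ≤ Subring.centralizer ({a} : Set (AddMonoid.End V)) := Subring.closure_le.mpr fun y hy => by
      rw [Set.mem_singleton_iff] at hy; subst hy
      exact Subring.mem_centralizer_iff.mpr fun g hg => by rw [Set.mem_singleton_iff] at hg; subst hg; exact hTc _ ha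
    exact Subring.mem_centralizer_iff.mp (hle hc) a rfl
  letI : CommRing K :=
    { (inferInstance : Ring K) with mul_comm := fun a c => Subtype.ext (hcomm _ a.2 _ c.2) }
  have hinj : ∀ a : K, a ≠ 0 → ∀ v, (a : AddMonoid.End V) v = 0 → v = 0 := by
    intro a ha v hv
    rcases hirr (a : AddMonoid.End V).ker (fun w hw => by
      show (a : AddMonoid.End V) (T w) = 0
      have hw' : (a : AddMonoid.End V) w = 0 := hw
      have := DFunLike.congr_fun (hTc _ a.2) w
      rw [show (a : AddMonoid.End V) (T w) = ((a : AddMonoid.End V) * T) w from rfl, this]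
      show T ((a : AddMonoid.End V) w) = 0
      rw [hw', map_zero]) with h1 | h1
    · exact AddSubgroup.mem_bot.mp (h1 ▸ hv : v ∈ (⊥ : AddSubgroup V))
    · refine absurd (Subtype.ext (AddMonoidHom.ext fun w => ?_)) ha
      exact (h1.symm ▸ AddSubgroup.mem_top w : w ∈ (a : AddMonoid.End V).ker)
  obtain ⟨v₀, hv₀⟩ := exists_ne (0 : V)
  haveI : Nontrivial K := ⟨⟨1, 0, fun e => hv₀ (DFunLike.congr_fun (congrArg Subtype.val e) v₀)⟩⟩
  haveI : NoZeroDivisors K := ⟨fun {a c} hac => by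
    by_contra hne
    rw [not_or] at hne
    exact hne.2 (Subtype.ext (AddMonoidHom.ext fun w => hinj a hne.1 _
      (DFunLike.congr_fun (congrArg Subtype.val hac) w)))⟩
  haveI : IsDomain K := NoZeroDivisors.to_isDomain K
  letI : Field K := (Finite.isDomain_to_isField K).toField
  haveI : CharP K p := by
    refine ringChar.of_eq (CharP.ringChar_of_prime_eq_zero hpp (Subtype.ext (AddMonoidHom.ext fun w => ?_)))
    rw [Subring.coe_natCast]
    exact hp w
  letI := ZMod.algebra K p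
  set X : K := ⟨T, hTK⟩ with hX
  have hXo : orderOf X = h := by
    rw [← hT]; exact (orderOf_injective K.subtype.toMonoidHom Subtype.val_injective X).symm
  have hXh : X ^ h = 1 := hXo ▸ pow_orderOf_eq_one X
  have hbij : Function.Bijective fun a : K => (a : AddMonoid.End V) v₀ := by
    refine ⟨fun a c hac => ?_, fun w => ?_⟩
    · by_contra hne
      refine hv₀ (hinj (a - c) (sub_ne_zero.mpr hne) v₀ ?_)
      show (a : AddMonoid.End V) v₀ - (c : AddMonoid.End V) v₀ = 0
      exact sub_eq_zero.mpr hac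
    · let S : AddSubgroup V :=
        { carrier := Set.range fun a : K => (a : AddMonoid.End V) v₀
          zero_mem' := ⟨0, rfl⟩
          add_mem' := by rintro _ _ ⟨a, rfl⟩ ⟨c, rfl⟩; exact ⟨a + c, rfl⟩
          neg_mem' := by rintro _ ⟨a, rfl⟩; exact ⟨-a, rfl⟩ }
      rcases hirr S (by rintro _ ⟨a, rfl⟩; exact ⟨X * a, rfl⟩) with h1 | h1
      · exact absurd (AddSubgroup.mem_bot.mp (h1 ▸ (⟨1, rfl⟩ : v₀ ∈ S))) hv₀
      · exact (h1.symm ▸ AddSubgroup.mem_top w : w ∈ S)
  set d := Module.finrank (ZMod p) K with hd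
  haveI : Module.Finite (ZMod p) K := Module.Finite.of_finite
  have hdK : Nat.card K = p ^ d := by rw [Module.natCard_eq_pow_finrank (K := ZMod p), Nat.card_zmod]
  haveI := Fintype.ofFinite K
  have hh : h ∣ p ^ d - 1 := by
    rw [← hXo, ← hdK, Nat.card_eq_fintype_card]
    refine orderOf_dvd_of_pow_eq_one (FiniteField.pow_card_sub_one_eq_one X ?_)
    intro e
    rw [e, zero_pow h0] at hXh
    exact zero_ne_one hXh
  refine ⟨d, (Nat.card_eq_of_bijective _ hbij).symm.trans hdK, Module.finrank_pos.ne', hh, ?_⟩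
  intro C _ b hb1 hb2 hbT hnd h2
  have hb0 : ∀ u, b u 0 = 1 := fun u => by
    have := hb2 u 0 0; rw [add_zero] at this; exact left_eq_mul.mp this
  have hb0' : ∀ v, b 0 v = 1 := fun v => by
    have := hb1 0 0 v; rw [add_zero] at this; exact left_eq_mul.mp this
  have hbn1 : ∀ u v, b (-u) v = (b u v)⁻¹ := fun u v => by
    refine eq_inv_of_mul_eq_one_left ?_
    rw [← hb1, neg_add_cancel, hb0']
  have hbn2 : ∀ u v, b u (-v) = (b u v)⁻¹ := fun u v => by
    refine eq_inv_of_mul_eq_one_left ?_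
    rw [← hb2, neg_add_cancel, hb0]
  have hTh : ∀ v, T ((T ^ (h - 1) : AddMonoid.End V) v) = v := fun v => by
    show (T * T ^ (h - 1)) v = v
    rw [← pow_succ', Nat.sub_add_cancel (Nat.pos_of_ne_zero h0), ← hT, pow_orderOf_eq_one]; rfl
  let Adj : AddMonoid.End V → AddMonoid.End V → Prop := fun a c => ∀ u v, b (a u) v = b u (c v)
  have hall : ∀ a : K, ∃ c : K, Adj a c := by
    let S : Subring (AddMonoid.End V) :=
      { carrier := {a | a ∈ K ∧ ∃ c ∈ K, Adj a c}
        one_mem' := ⟨one_mem K, 1, one_mem K, fun u v => rfl⟩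
        zero_mem' := ⟨zero_mem K, 0, zero_mem K, fun u v => by
          show b 0 v = b u 0
          rw [hb0, hb0']⟩
        mul_mem' := by
          rintro a a' ⟨ha, c, hc, h1⟩ ⟨ha', c', hc', h1'⟩
          refine ⟨mul_mem ha ha', c' * c, mul_mem hc' hc, fun u v => ?_⟩
          show b (a (a' u)) v = b u (c' (c v))
          rw [h1, h1']
        add_mem' := by
          rintro a a' ⟨ha, c, hc, h1⟩ ⟨ha', c', hc', h1'⟩
          refine ⟨add_mem ha ha', c + c', add_mem hc hc', fun u v => ?_⟩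
          show b (a u + a' u) v = b u (c v + c' v)
          rw [hb1, hb2, h1, h1']
        neg_mem' := by
          rintro a ⟨ha, c, hc, h1⟩
          refine ⟨neg_mem ha, -c, neg_mem hc, fun u v => ?_⟩
          show b (-(a u)) v = b u (-(c v))
          rw [hbn1, hbn2, h1] }
    intro a
    have hle : K ≤ S := Subring.closure_le.mpr fun y hy => by
      rw [Set.mem_singleton_iff] at hy; subst hy
      exact ⟨hTK, _, pow_mem hTK (h - 1), fun u v => by conv_lhs => rw [← hTh v, hbT]⟩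
    obtain ⟨-, c, hc, h1⟩ := hle a.2
    exact ⟨⟨c, hc⟩, h1⟩
  have huniq : ∀ a c c' : K, Adj a c → Adj a c' → c = c' := fun a c c' h1 h1' => Subtype.ext (AddMonoidHom.ext fun v => by
    refine sub_eq_zero.mp (hnd _ fun u => ?_)
    rw [sub_eq_add_neg, hb2, hbn2, mul_inv_eq_one]
    exact (h1 u v).symm.trans (h1' u v))
  choose σ hσ using hall
  let s : K →+* K :=
    { toFun := σ
      map_one' := huniq 1 _ 1 (hσ 1) (fun u v => rfl)
      map_zero' := huniq 0 _ 0 (hσ 0) (fun u v => by show b 0 v = b u 0; rw [hb0, hb0'])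
      map_mul' := fun a c => huniq _ _ _ (hσ (a * c)) (fun u v => by
        show b ((a : AddMonoid.End V) ((c : AddMonoid.End V) u)) v = b u ((σ a * σ c : K).1 v)
        rw [hσ a, hσ c, mul_comm (σ a) (σ c)]
        rfl)
      map_add' := fun a c => huniq _ _ _ (hσ (a + c)) (fun u v => by
        show b ((a : AddMonoid.End V) u + (c : AddMonoid.End V) u) v = b u ((σ a : AddMonoid.End V) v + (σ c : AddMonoid.End V) v)
        rw [hb1, hb2, hσ a, hσ c]) }
  have hsX : s X = X ^ (h - 1) := huniq X _ _ (hσ X) fun u v => by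
    show b (T u) v = b u (((X ^ (h - 1) : K) : AddMonoid.End V) v)
    rw [SubmonoidClass.coe_pow]
    conv_lhs => rw [← hTh v, hbT]
  let e : K ≃ₐ[ZMod p] K := AlgEquiv.ofRingEquiv
    (f := RingEquiv.ofBijective s ⟨s.injective, Finite.surjective_of_injective s.injective⟩)
    fun r => RingHom.congr_fun (Subsingleton.elim (s.comp (algebraMap (ZMod p) K)) (algebraMap (ZMod p) K)) r
  obtain ⟨⟨i, hi⟩, hie⟩ := (FiniteField.bijective_frobeniusAlgEquivOfAlgebraic_pow (ZMod p) K).2 e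
  have hs : ∀ a : K, s a = a ^ p ^ i := fun a => by
    have h1 := DFunLike.congr_fun hie a
    rw [AlgEquiv.coe_pow, FiniteField.coe_frobeniusAlgEquivOfAlgebraic_iterate] at h1
    simp only [ZMod.card, ← Nat.card_eq_fintype_card, Nat.card_zmod] at h1
    exact h1.symm
  have hi0 : i ≠ 0 := fun e => by
    have h1 := hsX
    rw [hs, e, pow_zero, pow_one] at h1
    have h4 : X ^ 2 = 1 := by
      calc X ^ 2 = X ^ (h - 1) * X := by rw [← h1, pow_two]
        _ = 1 := by rw [← pow_succ, Nat.sub_add_cancel (Nat.pos_of_ne_zero h0), hXh]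
    have := Nat.le_of_dvd two_pos (hXo ▸ orderOf_dvd_of_pow_eq_one h4)
    omega
  have hfix : X ^ p ^ (2 * i) = X := by
    have h1 : s (s X) = X := by
      rw [hsX, map_pow, hsX, ← pow_mul]
      obtain ⟨k, rfl⟩ : ∃ k, h = k + 2 := ⟨h - 2, by omega⟩
      rw [show k + 2 - 1 = k + 1 from rfl, show (k + 1) * (k + 1) = (k + 2) * k + 1 by ring, pow_succ, pow_mul, hXh,
        one_pow, one_mul]
    rw [hs, hs, ← pow_mul] at h1
    rwa [two_mul, pow_add]
  have hallfix : ∀ a : K, a ^ p ^ (2 * i) = a := by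
    let S : Subring (AddMonoid.End V) :=
      (RingHom.eqLocus (iterateFrobenius K p (2 * i)) (RingHom.id K)).map K.subtype
    have hle : K ≤ S := Subring.closure_le.mpr fun y hy => by
      rw [Set.mem_singleton_iff] at hy; subst hy
      exact ⟨X, by show iterateFrobenius K p (2 * i) X = X; rw [iterateFrobenius_def]; exact hfix, rfl⟩
    intro a
    obtain ⟨c, hc, he⟩ := hle a.2
    obtain rfl : c = a := Subtype.ext he
    have hc' : iterateFrobenius K p (2 * i) c = c := hc
    rwa [iterateFrobenius_def] at hc'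
  have hdvd : p ^ d - 1 ∣ p ^ (2 * i) - 1 := by
    obtain ⟨g, hg⟩ := IsCyclic.exists_generator (α := Kˣ)
    have h1 : orderOf g = p ^ d - 1 := by
      rw [orderOf_eq_card_of_forall_mem_zpowers hg, Nat.card_units, hdK]
    have h3 : 0 < p ^ (2 * i) := pow_pos hpp.pos _
    rw [← h1]
    refine orderOf_dvd_of_pow_eq_one (Units.ext ?_)
    have h4 := hallfix (g : K)
    rw [show p ^ (2 * i) = (p ^ (2 * i) - 1) + 1 by omega, pow_succ] at h4
    rw [Units.val_pow_eq_pow_val, Units.val_one]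
    exact (mul_eq_right₀ g.ne_zero).mp h4
  have hd2 : d ∣ 2 * i := by
    have h1 : p ^ Nat.gcd d (2 * i) - 1 = p ^ d - 1 := by
      rw [← Nat.pow_sub_one_gcd_pow_sub_one]; exact Nat.gcd_eq_left hdvd
    have h2 : p ^ Nat.gcd d (2 * i) = p ^ d := by
      have := pow_pos hpp.pos d; have := pow_pos hpp.pos (Nat.gcd d (2 * i)); omega
    rw [← Nat.pow_right_injective hpp.two_le h2]
    exact Nat.gcd_dvd_right _ _
  obtain ⟨k, hk⟩ := hd2
  have hk1 : k = 1 := by
    rcases k with _ | _ | k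
    · omega
    · rfl
    · have : 2 * d ≤ d * (k + 1 + 1) := by rw [mul_comm 2 d]; exact Nat.mul_le_mul_left _ (by omega)
      have : i < d := hi
      omega
  refine ⟨i, by rw [hk, hk1, mul_one], hXo ▸ orderOf_dvd_of_pow_eq_one ?_⟩
  rw [pow_succ, ← hs, hsX, ← pow_succ, Nat.sub_add_cancel (Nat.pos_of_ne_zero h0), hXh]

variable {G : Type a} [Group G] [Finite G] {p : ℕ} [Fact p.Prime]

/-- Bundled hypotheses: an element acting fixed-point-freely modulo the centre. -/
structure Setting (P : Subgroup G) (z x : G) (p : ℕ) : Prop where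
  zP : z ∈ P
  zo : orderOf z = p
  isP : IsPGroup p P
  comm : ∀ a ∈ P, ∀ b ∈ P, ⁅a, b⁆ ∈ Subgroup.zpowers z
  pow : ∀ a ∈ P, a ^ p ∈ Subgroup.zpowers z
  zc : ∀ a ∈ P, Commute z a
  xz : Commute x z
  cop : (orderOf x).Coprime p
  fix' : ∀ i : ℕ, x ^ i ≠ 1 → ∀ a ∈ P, Commute (x ^ i) a → a ∈ Subgroup.zpowers z

variable {P : Subgroup G} {z x : G}

omit [Finite G] [Fact p.Prime] in
theorem Setting.zc' (hS : Setting P z x p) {w : G} (hw : w ∈ Subgroup.zpowers z) {a : G} (ha : a ∈ P) :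
    Commute w a := by
  obtain ⟨i, rfl⟩ := hw; exact (hS.zc a ha).zpow_left i

omit [Finite G] [Fact p.Prime] in
theorem Setting.mul_left (hS : Setting P z x p) {a b c : G} (ha : a ∈ P) (hb : b ∈ P) (hc : c ∈ P) :
    ⁅a * b, c⁆ = ⁅a, c⁆ * ⁅b, c⁆ := by
  calc ⁅a * b, c⁆ = a * ⁅b, c⁆ * a⁻¹ * ⁅a, c⁆ := by simp only [commutatorElement_def]; group
    _ = ⁅b, c⁆ * ⁅a, c⁆ := by rw [← (hS.zc' (hS.comm b hb c hc) ha).eq, mul_inv_cancel_right]
    _ = ⁅a, c⁆ * ⁅b, c⁆ := (hS.zc' (hS.comm b hb c hc) (by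
      rw [commutatorElement_def]; exact mul_mem (mul_mem (mul_mem ha hc) (inv_mem ha)) (inv_mem hc))).eq

omit [Finite G] [Fact p.Prime] in
theorem Setting.mul_right (hS : Setting P z x p) {a b c : G} (ha : a ∈ P) (hb : b ∈ P) (hc : c ∈ P) :
    ⁅a, b * c⁆ = ⁅a, b⁆ * ⁅a, c⁆ := by
  calc ⁅a, b * c⁆ = ⁅a, b⁆ * (b * ⁅a, c⁆ * b⁻¹) := by simp only [commutatorElement_def]; group
    _ = _ := by rw [← (hS.zc' (hS.comm a ha c hc) hb).eq, mul_inv_cancel_right]

theorem dual_le (hS : Setting P z x p) {A B : Subgroup G} (hA : A ≤ P) (hB : B ≤ P) :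
    Nat.card A * Nat.card ↥(B ⊓ Subgroup.centralizer (A : Set G)) ≤
      Nat.card B * Nat.card ↥(A ⊓ Subgroup.centralizer (B : Set G)) := by
  set N := (Subgroup.centralizer (A : Set G)).subgroupOf B with hN
  set M := (Subgroup.centralizer (B : Set G)).subgroupOf A with hM
  have hcen : ∀ w ∈ Subgroup.zpowers z, w ∈ Subgroup.centralizer (A : Set G) := fun w hw =>
    Subgroup.mem_centralizer_iff.mpr fun a ha => (hS.zc' hw (hA ha)).eq.symm
  haveI hNn : N.Normal := ⟨fun n hn b => by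
    have h1 : b * n * b⁻¹ = ⁅b, n⁆ * n := by rw [commutatorElement_def, inv_mul_cancel_right]
    rw [h1]
    refine mul_mem (Subgroup.mem_subgroupOf.mpr (hcen _ ?_)) hn
    exact hS.comm _ (hB b.2) _ (hB n.2)⟩
  have hc : ∀ a b : B ⧸ N, a * b = b * a := fun a b => by
    obtain ⟨a, rfl⟩ := QuotientGroup.mk'_surjective N a
    obtain ⟨b, rfl⟩ := QuotientGroup.mk'_surjective N b
    rw [← commutatorElement_eq_one_iff_mul_comm, ← map_commutatorElement, QuotientGroup.mk'_apply,
      QuotientGroup.eq_one_iff]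
    exact Subgroup.mem_subgroupOf.mpr (hcen _ (hS.comm _ (hB a.2) _ (hB b.2)))
  have he : ∀ a : B ⧸ N, a ^ p = 1 := fun a => by
    obtain ⟨a, rfl⟩ := QuotientGroup.mk'_surjective N a
    rw [← map_pow, QuotientGroup.mk'_apply, QuotientGroup.eq_one_iff]
    exact Subgroup.mem_subgroupOf.mpr (hcen _ (hS.pow _ (hB a.2)))
  have hle := SymplecticTypeP.card_hom_le (((hS.isP.to_le hB)).to_quotient N) hc he
    (show Nat.card (Subgroup.zpowers z) = p by rw [Nat.card_zpowers, hS.zo])
  let β : A → B →* Subgroup.zpowers z := fun a => MonoidHom.mk' (fun b => ⟨⁅(a : G), (b : G)⁆, hS.comm _ (hA a.2) _ (hB b.2)⟩)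
    fun b c => Subtype.ext (hS.mul_right (hA a.2) (hB b.2) (hB c.2))
  have hkill : ∀ a : A, ∀ b ∈ N, β a b = 1 := fun a b hb => Subtype.ext
    (commutatorElement_eq_one_iff_mul_comm.mpr (Subgroup.mem_centralizer_iff.mp (Subgroup.mem_subgroupOf.mp hb) a a.2))
  let γ : A ⧸ M → (B ⧸ N →* Subgroup.zpowers z) := Quotient.lift (fun a => QuotientGroup.lift N (β a) (hkill a))
    fun a a' haa => by
      have hd := Subgroup.mem_subgroupOf.mp (QuotientGroup.leftRel_apply.mp haa)
      refine MonoidHom.ext fun q => ?_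
      obtain ⟨b, rfl⟩ := QuotientGroup.mk'_surjective N q
      refine Subtype.ext ?_
      show ⁅(a : G), (b : G)⁆ = ⁅(a' : G), (b : G)⁆
      have hd1 : ⁅(a : G)⁻¹ * a', (b : G)⁆ = 1 :=
        commutatorElement_eq_one_iff_mul_comm.mpr (Subgroup.mem_centralizer_iff.mp hd b b.2).symm
      conv_rhs => rw [← mul_inv_cancel_left (a : G) (a' : G), hS.mul_left (hA a.2) (mul_mem (inv_mem (hA a.2)) (hA a'.2)) (hB b.2), hd1, mul_one]
  have hinj : Function.Injective γ := fun q q' hqq => by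
    obtain ⟨a, rfl⟩ := QuotientGroup.mk_surjective q
    obtain ⟨a', rfl⟩ := QuotientGroup.mk_surjective q'
    refine QuotientGroup.eq.mpr (Subgroup.mem_subgroupOf.mpr (Subgroup.mem_centralizer_iff.mpr fun b hb => ?_))
    have h1 : ⁅(a : G), b⁆ = ⁅(a' : G), b⁆ :=
      congrArg Subtype.val (DFunLike.congr_fun hqq (QuotientGroup.mk' N ⟨b, hb⟩))
    have h2 := hS.mul_left (hA a.2) (mul_mem (inv_mem (hA a.2)) (hA a'.2)) (hB hb)
    rw [mul_inv_cancel_left, ← h1] at h2
    exact (commutatorElement_eq_one_iff_mul_comm.mp (left_eq_mul.mp h2)).symm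
  haveI : Finite (B ⧸ N →* Subgroup.zpowers z) := Finite.of_injective _ DFunLike.coe_injective
  have hidx : M.index ≤ N.index := (Nat.card_le_card_of_injective γ hinj).trans hle
  have hN' : Nat.card N = Nat.card ↥(B ⊓ Subgroup.centralizer (A : Set G)) := by
    rw [hN, ← Subgroup.inf_subgroupOf_left, Nat.card_congr (Subgroup.subgroupOfEquivOfLe inf_le_left).toEquiv]
  have hM' : Nat.card M = Nat.card ↥(A ⊓ Subgroup.centralizer (B : Set G)) := by
    rw [hM, ← Subgroup.inf_subgroupOf_left, Nat.card_congr (Subgroup.subgroupOfEquivOfLe inf_le_left).toEquiv]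
  rw [← hN', ← hM', ← M.card_mul_index, ← N.card_mul_index]
  calc Nat.card M * M.index * Nat.card N ≤ Nat.card M * N.index * Nat.card N := by gcongr
    _ = _ := by ring

def Good (p h m : ℕ) : Prop := (p : ZMod h) ^ m = 1 ∨ (p : ZMod h) ^ m = -1

theorem Good.add {p h m k : ℕ} (h1 : Good p h m) (h2 : Good p h k) : Good p h (m + k) := by
  unfold Good at *
  rw [pow_add]
  rcases h1 with e1 | e1 <;> rcases h2 with e2 | e2 <;> rw [e1, e2]
  exacts [Or.inl (one_mul 1), Or.inr (one_mul _), Or.inr (mul_one _), Or.inl (by rw [neg_mul_neg, one_mul])]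

theorem irred_step (hS : Setting P z x p) {U R W : Subgroup G} (hUP : U ≤ P) (hWU : W ≤ U) (hRW : R < W)
    (hzR : z ∈ R) (hRc : R ≤ Subgroup.centralizer (U : Set G))
    (hxR : x ∈ Subgroup.normalizer (R : Set G)) (hxW : x ∈ Subgroup.normalizer (W : Set G))
    (hmin : ∀ S : Subgroup G, R ≤ S → S ≤ W → x ∈ Subgroup.normalizer (S : Set G) → S = R ∨ S = W) :
    ∃ d : ℕ, Nat.card W = Nat.card R * p ^ d ∧ orderOf x ∣ p ^ d - 1 ∧
      (W ⊓ Subgroup.centralizer (W : Set G) ≤ R → 2 < orderOf x → ∃ j, d = 2 * j ∧ orderOf x ∣ p ^ j + 1) := by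
  have hWP : W ≤ P := hWU.trans hUP
  have hZR : Subgroup.zpowers z ≤ R := Subgroup.zpowers_le.mpr hzR
  set N := R.subgroupOf W with hN
  haveI hNn : N.Normal := ⟨fun n hn b => by
    have h1 : b * n * b⁻¹ = ⁅b, n⁆ * n := by rw [commutatorElement_def, inv_mul_cancel_right]
    rw [h1]
    exact mul_mem (Subgroup.mem_subgroupOf.mpr (hZR (hS.comm _ (hWP b.2) _ (hWP n.2)))) hn⟩
  have hc : ∀ a b : W ⧸ N, a * b = b * a := fun a b => by
    obtain ⟨a, rfl⟩ := QuotientGroup.mk'_surjective N a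
    obtain ⟨b, rfl⟩ := QuotientGroup.mk'_surjective N b
    rw [← commutatorElement_eq_one_iff_mul_comm, ← map_commutatorElement, QuotientGroup.mk'_apply,
      QuotientGroup.eq_one_iff]
    exact Subgroup.mem_subgroupOf.mpr (hZR (hS.comm _ (hWP a.2) _ (hWP b.2)))
  letI : CommGroup (W ⧸ N) := { (inferInstance : Group (W ⧸ N)) with mul_comm := hc }
  let c : W →* W := MonoidHom.mk' (fun w => ⟨x * w * x⁻¹, (Subgroup.mem_normalizer_iff.mp hxW w).mp w.2⟩)
    fun a b => Subtype.ext (show x * ((a : G) * b) * x⁻¹ = x * a * x⁻¹ * (x * b * x⁻¹) by group)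
  have hcN : N ≤ N.comap c := fun w hw =>
    Subgroup.mem_subgroupOf.mpr ((Subgroup.mem_normalizer_iff.mp hxR w).mp (Subgroup.mem_subgroupOf.mp hw))
  let T : AddMonoid.End (Additive (W ⧸ N)) := MonoidHom.toAdditive (QuotientGroup.map N N c hcN)
  have hTk : ∀ (w : W) (k : ℕ), (T ^ k) (Additive.ofMul (w : W ⧸ N)) = Additive.ofMul
      (((⟨x ^ k * w * (x ^ k)⁻¹, (Subgroup.mem_normalizer_iff.mp (pow_mem hxW k) w).mp w.2⟩ : W)) : W ⧸ N) := by
    intro w k
    induction k with
    | zero =>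
      rw [pow_zero]
      show Additive.ofMul (w : W ⧸ N) = _
      congr 2
      exact Subtype.ext (by simp)
    | succ k ih =>
      rw [pow_succ']
      show T ((T ^ k) _) = _
      rw [ih]
      refine congrArg Additive.ofMul (congrArg QuotientGroup.mk (Subtype.ext ?_))
      show x * (x ^ k * (w : G) * (x ^ k)⁻¹) * x⁻¹ = x ^ (k + 1) * (w : G) * (x ^ (k + 1))⁻¹
      rw [pow_succ']; group
  haveI : Nontrivial (Additive (W ⧸ N)) := by
    obtain ⟨w, hw, hwR⟩ := SetLike.exists_of_lt hRW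
    exact ⟨⟨Additive.ofMul ((⟨w, hw⟩ : W) : W ⧸ N), 0, fun e => hwR
      (Subgroup.mem_subgroupOf.mp ((QuotientGroup.eq_one_iff _).mp (Additive.ofMul.injective e)))⟩⟩
  have hTo : orderOf T = orderOf x := by
    refine orderOf_eq_orderOf_iff.mpr fun k => ⟨fun hT => ?_, fun hx => ?_⟩
    · by_contra hne
      haveI : Group.IsNilpotent W := (hS.isP.to_le hWP).isNilpotent
      have hW' : W ≤ R := fun w hw => by
        have hWN : W ≤ Subgroup.normalizer (R : Set G) := fun u hu => Subgroup.mem_normalizer_fintype fun r hr => by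
          show u * r * u⁻¹ ∈ R
          rw [show u * r * u⁻¹ = ⁅u, r⁆ * r by rw [commutatorElement_def, inv_mul_cancel_right]]
          exact mul_mem (hZR (hS.comm _ (hWP hu) _ (hWP (hRW.le hr)))) hr
        have hcopW : (Nat.card (Subgroup.zpowers (x ^ k))).Coprime (Nat.card W) := by
          obtain ⟨e, he⟩ := IsPGroup.iff_card.mp (hS.isP.to_le hWP)
          rw [he, Nat.card_zpowers]
          exact Nat.Coprime.pow_right e (hS.cop.coprime_dvd_left (orderOf_pow_dvd k))
        have hnor : ∀ S : Subgroup G, x ∈ Subgroup.normalizer (S : Set G) →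
            Subgroup.zpowers (x ^ k) ≤ Subgroup.normalizer (S : Set G) := fun S hS' => Subgroup.zpowers_le.mpr (pow_mem hS' k)
        have h1 := hTk ⟨w, hw⟩ k
        rw [hT] at h1
        have h2 := Subgroup.mem_subgroupOf.mp (QuotientGroup.eq.mp (Additive.ofMul.injective h1.symm))
        have h4 : x ^ k * w * (x ^ k)⁻¹ * w⁻¹ ∈ R := by
          have h2' : (x ^ k * w * (x ^ k)⁻¹)⁻¹ * w ∈ R := h2
          have h3 := inv_mem ((Subgroup.mem_normalizer_iff.mp (hWN hw) _).mp h2')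
          rwa [show (w * ((x ^ k * w * (x ^ k)⁻¹)⁻¹ * w) * w⁻¹)⁻¹ = x ^ k * w * (x ^ k)⁻¹ * w⁻¹ by group] at h3
        obtain ⟨v, hv, hvR⟩ := coprime_fixed_quotient (hnor W hxW) hcopW (Or.inr inferInstance) hRW.le hWN (hnor R hxR)
          hw (fun a ha => by
            have hle : Subgroup.zpowers (x ^ k) ≤ Subgroup.normalizer (R : Set G) := hnor R hxR
            obtain ⟨i, rfl⟩ := (isOfFinOrder_of_finite (x ^ k)).mem_powers_iff_mem_zpowers.mpr ha
            dsimp only
            induction i with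
            | zero => simp
            | succ i ih =>
              have h5 := mul_mem ((Subgroup.mem_normalizer_iff.mp (hle (Subgroup.mem_zpowers _)) _).mp
                (ih (Subgroup.pow_mem _ (Subgroup.mem_zpowers _) i))) h4
              rwa [show x ^ k * ((x ^ k) ^ i * w * ((x ^ k) ^ i)⁻¹ * w⁻¹) * (x ^ k)⁻¹ *
                (x ^ k * w * (x ^ k)⁻¹ * w⁻¹) = (x ^ k) ^ (i + 1) * w * ((x ^ k) ^ (i + 1))⁻¹ * w⁻¹ by
                rw [pow_succ']; group] at h5)
        obtain ⟨hvW, hvC⟩ := Subgroup.mem_inf.mp hv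
        have hvz := hS.fix' k hne v (hWP hvW) (Subgroup.mem_centralizer_iff.mp hvC _ (Subgroup.mem_zpowers _))
        have := mul_mem (hZR hvz) (inv_mem hvR)
        rwa [mul_inv_rev, inv_inv, mul_inv_cancel_left] at this
      exact hRW.not_ge hW'
    · refine AddMonoidHom.ext fun q => ?_
      obtain ⟨w, hw⟩ := QuotientGroup.mk_surjective (Additive.toMul q)
      have : q = Additive.ofMul (w : W ⧸ N) := by rw [hw]; rfl
      rw [this]
      refine (hTk w k).trans ?_
      show _ = Additive.ofMul (w : W ⧸ N)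
      congr 2
      exact Subtype.ext (by simp [hx])
  obtain ⟨d, hd, -, hdh, hform⟩ := field_dvd (V := Additive (W ⧸ N)) (p := p) (fun v => by
      obtain ⟨w, hw⟩ := QuotientGroup.mk_surjective (Additive.toMul v)
      show Additive.toMul v ^ p = 1
      rw [← hw, ← QuotientGroup.mk_pow, QuotientGroup.eq_one_iff]
      exact Subgroup.mem_subgroupOf.mpr (hZR (hS.pow _ (hWP w.2)))) T hTo (orderOf_pos x).ne' (fun S hS' => by
      let S' : Subgroup W := (AddSubgroup.toSubgroup' S).comap (QuotientGroup.mk' N)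
      have hS1 : ∀ w : W, w ∈ S' ↔ Additive.ofMul (w : W ⧸ N) ∈ S := fun w => Iff.rfl
      have hR1 : R ≤ S'.map W.subtype := fun r hr => ⟨⟨r, hRW.le hr⟩, by
        rw [SetLike.mem_coe, hS1, (QuotientGroup.eq_one_iff (⟨r, hRW.le hr⟩ : W)).mpr (Subgroup.mem_subgroupOf.mpr hr)]
        exact S.zero_mem, rfl⟩
      rcases hmin (S'.map W.subtype) hR1 (Subgroup.map_subtype_le _) (Subgroup.mem_normalizer_fintype (by
        rintro _ ⟨w, hw, rfl⟩
        exact ⟨c w, hS' _ hw, rfl⟩)) with e | e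
      · left
        rw [eq_bot_iff]
        intro v hv
        obtain ⟨w, hw⟩ := QuotientGroup.mk_surjective (Additive.toMul v)
        have h1 : (w : G) ∈ R := e ▸ ⟨w, (show Additive.ofMul (w : W ⧸ N) ∈ S by rw [hw]; exact hv), rfl⟩
        rw [AddSubgroup.mem_bot]
        exact hw.symm.trans ((QuotientGroup.eq_one_iff w).mpr (Subgroup.mem_subgroupOf.mpr h1))
      · right
        rw [eq_top_iff]
        intro v _
        obtain ⟨w, hw⟩ := QuotientGroup.mk_surjective (Additive.toMul v)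
        obtain ⟨w', hw', hww⟩ : (w : G) ∈ S'.map W.subtype := e.symm ▸ w.2
        obtain rfl : w' = w := Subtype.ext hww
        have : Additive.ofMul (w' : W ⧸ N) ∈ S := hw'
        rw [hw] at this
        exact this)
  refine ⟨d, ?_, hdh, fun hnd h2 => ?_⟩
  · rw [← hd, show Nat.card (Additive (W ⧸ N)) = N.index from rfl, ← N.card_mul_index,
      Nat.card_congr (Subgroup.subgroupOfEquivOfLe hRW.le).toEquiv]
  · have hcen : ∀ r ∈ R, ∀ u ∈ W, ⁅r, u⁆ = 1 := fun r hr u hu =>
      commutatorElement_eq_one_iff_mul_comm.mpr (Subgroup.mem_centralizer_iff.mp (hRc hr) u (hWU hu)).symm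
    have hcen' : ∀ r ∈ R, ∀ u ∈ W, ⁅u, r⁆ = 1 := fun r hr u hu => by
      rw [← commutatorElement_inv, hcen r hr u hu, inv_one]
    let b : Additive (W ⧸ N) → Additive (W ⧸ N) → G := fun u v => Quotient.liftOn₂' (Additive.toMul u) (Additive.toMul v)
      (fun s t => ⁅(s : G), (t : G)⁆) fun s t s' t' hs ht => by
        have hs' : (s : G)⁻¹ * s' ∈ R := Subgroup.mem_subgroupOf.mp (QuotientGroup.leftRel_apply.mp hs)
        have ht' : (t : G)⁻¹ * t' ∈ R := Subgroup.mem_subgroupOf.mp (QuotientGroup.leftRel_apply.mp ht)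
        show ⁅(s : G), (t : G)⁆ = ⁅(s' : G), (t' : G)⁆
        conv_rhs => rw [← mul_inv_cancel_left (s : G) (s' : G),
          hS.mul_left (hWP s.2) (hWP (hRW.le hs')) (hWP t'.2), hcen _ hs' _ t'.2, mul_one,
          ← mul_inv_cancel_left (t : G) (t' : G), hS.mul_right (hWP s.2) (hWP t.2) (hWP (hRW.le ht')),
          hcen' _ ht' _ s.2, mul_one]
    refine hform G b ?_ ?_ ?_ ?_ h2
    · intro u u' v
      obtain ⟨s, rfl⟩ := QuotientGroup.mk_surjective u
      obtain ⟨s', rfl⟩ := QuotientGroup.mk_surjective u'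
      obtain ⟨t, rfl⟩ := QuotientGroup.mk_surjective v
      exact hS.mul_left (hWP s.2) (hWP s'.2) (hWP t.2)
    · intro u v v'
      obtain ⟨s, rfl⟩ := QuotientGroup.mk_surjective u
      obtain ⟨t, rfl⟩ := QuotientGroup.mk_surjective v
      obtain ⟨t', rfl⟩ := QuotientGroup.mk_surjective v'
      exact hS.mul_right (hWP s.2) (hWP t.2) (hWP t'.2)
    · intro u v
      obtain ⟨s, rfl⟩ := QuotientGroup.mk_surjective u
      obtain ⟨t, rfl⟩ := QuotientGroup.mk_surjective v
      show ⁅x * (s : G) * x⁻¹, x * (t : G) * x⁻¹⁆ = ⁅(s : G), (t : G)⁆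
      rw [show ⁅x * (s : G) * x⁻¹, x * (t : G) * x⁻¹⁆ = x * ⁅(s : G), (t : G)⁆ * x⁻¹ by
        simp only [commutatorElement_def]; group]
      obtain ⟨i, hi⟩ := hS.comm _ (hWP s.2) _ (hWP t.2)
      rw [← hi, (hS.xz.zpow_right i).eq, mul_inv_cancel_right]
    · intro v hv
      obtain ⟨t, rfl⟩ := QuotientGroup.mk_surjective v
      refine (QuotientGroup.eq_one_iff t).mpr (Subgroup.mem_subgroupOf.mpr (hnd (Subgroup.mem_inf.mpr
        ⟨t.2, Subgroup.mem_centralizer_iff.mpr fun w hw => ?_⟩)))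
      exact commutatorElement_eq_one_iff_mul_comm.mp (hv (Additive.ofMul ((⟨w, hw⟩ : W) : W ⧸ N)))

theorem key (hS : Setting P z x p) (h2 : 2 < orderOf x) : ∀ (k : ℕ) (U R : Subgroup G), Nat.card U = k → U ≤ P →
    R ≤ U → z ∈ R → R ≤ Subgroup.centralizer (U : Set G) → U ⊓ Subgroup.centralizer (U : Set G) ≤ R →
    x ∈ Subgroup.normalizer (U : Set G) → x ∈ Subgroup.normalizer (R : Set G) →
    ∃ m, Nat.card U = Nat.card R * p ^ (2 * m) ∧ Good p (orderOf x) m := by
  intro k
  induction k using Nat.strong_induction_on with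
  | _ k ih =>
  intro U R hk hUP hRU hzR hRc hnd hxU hxR
  by_cases hUR : U = R
  · subst hUR
    exact ⟨0, by simp, Or.inl (pow_zero _)⟩
  obtain ⟨W, ⟨hRW, hWU, hxW⟩, hWmin⟩ :=
    Set.Finite.exists_minimalFor (fun W : Subgroup G => Nat.card W)
      {W : Subgroup G | R < W ∧ W ≤ U ∧ x ∈ Subgroup.normalizer (W : Set G)} (Set.toFinite _)
      ⟨U, lt_of_le_of_ne hRU (Ne.symm hUR), le_rfl, hxU⟩
  have hmin : ∀ S : Subgroup G, R ≤ S → S ≤ W → x ∈ Subgroup.normalizer (S : Set G) → S = R ∨ S = W := by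
    intro S h1 h3 h4
    by_contra hne
    rw [not_or] at hne
    have := hWmin (j := S) ⟨lt_of_le_of_ne h1 (Ne.symm hne.1), h3.trans hWU, h4⟩ (Subgroup.card_le_of_le h3)
    exact hne.2 (Subgroup.eq_of_le_of_card_ge h3 this)
  obtain ⟨d, hd, hdh, hform⟩ := irred_step hS hUP hWU hRW hzR hRc hxR hxW hmin
  set W' := U ⊓ Subgroup.centralizer (W : Set G) with hW'
  have hRW' : R ≤ W' := le_inf hRU (hRc.trans (Subgroup.centralizer_le hWU))
  have hWcU : W ⊓ Subgroup.centralizer (U : Set G) = R :=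
    le_antisymm ((inf_le_inf_right _ hWU).trans hnd) (le_inf hRW.le hRc)
  have hW'cU : W' ⊓ Subgroup.centralizer (U : Set G) = R :=
    le_antisymm ((inf_le_inf_right _ inf_le_left).trans hnd) (le_inf hRW' hRc)
  have e1 := dual_le hS hUP (hWU.trans hUP)
  have e2 := dual_le hS (hWU.trans hUP) hUP
  have e3 := dual_le hS hUP ((inf_le_left : W' ≤ U).trans hUP)
  have e4 := dual_le hS ((inf_le_left : W' ≤ U).trans hUP) hUP
  rw [hWcU] at e1 e2
  rw [hW'cU] at e3 e4
  rw [← hW'] at e1 e2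
  set W'' := U ⊓ Subgroup.centralizer (W' : Set G) with hW''
  have hWW'' : W ≤ W'' := le_inf hWU fun w hw => Subgroup.mem_centralizer_iff.mpr fun w' hw' =>
    (Subgroup.mem_centralizer_iff.mp (Subgroup.mem_inf.mp hw').2 w hw).symm
  have hprod : Nat.card U * Nat.card R = Nat.card W * Nat.card W' := le_antisymm e1 e2
  have hWeq : W'' = W := by
    have h1 : Nat.card W' * Nat.card W'' = Nat.card W' * Nat.card W := by
      rw [mul_comm (Nat.card W') (Nat.card W), ← hprod]; exact le_antisymm e4 e3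
    exact (Subgroup.eq_of_le_of_card_ge hWW'' (Nat.eq_of_mul_eq_mul_left Nat.card_pos h1).le).symm
  have hxW' : x ∈ Subgroup.normalizer (W' : Set G) := Subgroup.mem_normalizer_fintype fun u hu => by
    obtain ⟨hu1, hu2⟩ := Subgroup.mem_inf.mp hu
    refine Subgroup.mem_inf.mpr ⟨(Subgroup.mem_normalizer_iff.mp hxU u).mp hu1,
      Subgroup.mem_centralizer_iff.mpr fun w hw => ?_⟩
    have hw' : x⁻¹ * w * x ∈ W := by
      have := (Subgroup.mem_normalizer_iff.mp (inv_mem hxW) w).mp hw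
      rwa [inv_inv] at this
    have := Subgroup.mem_centralizer_iff.mp hu2 _ hw'
    calc w * (x * u * x⁻¹) = x * ((x⁻¹ * w * x) * u) * x⁻¹ := by group
      _ = x * (u * (x⁻¹ * w * x)) * x⁻¹ := by rw [this]
      _ = x * u * x⁻¹ * w := by group
  have hlt : Nat.card W' < k := by
    rw [← hk]
    refine lt_of_le_of_ne (Subgroup.card_le_of_le inf_le_left) fun e => ?_
    have h1 : W' = U := Subgroup.eq_of_le_of_card_ge inf_le_left e.ge
    refine hRW.not_ge (hWcU ▸ le_inf le_rfl fun w hw => Subgroup.mem_centralizer_iff.mpr fun u hu => ?_)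
    have h3 : u ∈ W' := h1.symm ▸ hu
    exact (Subgroup.mem_centralizer_iff.mp (Subgroup.mem_inf.mp h3).2 w hw).symm
  have hR0 : 0 < Nat.card R := Nat.card_pos
  have hdGood : orderOf x ∣ p ^ d - 1 → Good p (orderOf x) d := fun h => Or.inl (by
    have h1 : ((p ^ d - 1 : ℕ) : ZMod (orderOf x)) = 0 := (ZMod.natCast_eq_zero_iff _ _).mpr h
    rw [Nat.cast_sub (Nat.one_le_pow _ _ (Fact.out : p.Prime).pos), sub_eq_zero, Nat.cast_pow, Nat.cast_one] at h1
    exact h1)
  have hxc : x ∈ Subgroup.normalizer ((W ⊓ Subgroup.centralizer (W : Set G) : Subgroup G) : Set G) :=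
    Subgroup.mem_normalizer_fintype fun u hu => by
    obtain ⟨hu1, hu2⟩ := Subgroup.mem_inf.mp hu
    refine Subgroup.mem_inf.mpr ⟨(Subgroup.mem_normalizer_iff.mp hxW u).mp hu1,
      Subgroup.mem_centralizer_iff.mpr fun w hw => ?_⟩
    have hw' : x⁻¹ * w * x ∈ W := by
      have := (Subgroup.mem_normalizer_iff.mp (inv_mem hxW) w).mp hw
      rwa [inv_inv] at this
    have := Subgroup.mem_centralizer_iff.mp hu2 _ hw'
    calc w * (x * u * x⁻¹) = x * ((x⁻¹ * w * x) * u) * x⁻¹ := by group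
      _ = x * (u * (x⁻¹ * w * x)) * x⁻¹ := by rw [this]
      _ = x * u * x⁻¹ * w := by group
  rcases hmin _ (le_inf hRW.le (hRc.trans (Subgroup.centralizer_le hWU))) inf_le_left hxc with hWW | hWW
  · -- `W` is non-degenerate
    obtain ⟨j, hj, hjd⟩ := hform hWW.le h2
    obtain ⟨m, hm, hgm⟩ := ih _ hlt W' R rfl (inf_le_left.trans hUP) hRW' hzR
      (hRc.trans (Subgroup.centralizer_le inf_le_left)) (fun u hu => by
        obtain ⟨hu1, hu2⟩ := Subgroup.mem_inf.mp hu
        obtain ⟨hu3, hu4⟩ := Subgroup.mem_inf.mp hu1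
        have h5 : u ∈ W := hWeq ▸ Subgroup.mem_inf.mpr ⟨hu3, hu2⟩
        exact hWW ▸ Subgroup.mem_inf.mpr ⟨h5, hu4⟩) hxW' hxR
    refine ⟨j + m, ?_, ?_⟩
    · refine Nat.eq_of_mul_eq_mul_right hR0 ?_
      rw [hprod, hd, hm, hj, mul_add, pow_add]; ring
    · refine Good.add (Or.inr ?_) hgm
      have h1 : ((p ^ j + 1 : ℕ) : ZMod (orderOf x)) = 0 := (ZMod.natCast_eq_zero_iff _ _).mpr hjd
      push_cast at h1
      exact eq_neg_of_add_eq_zero_left h1
  · -- `W` is abelian
    have hWc : W ≤ Subgroup.centralizer (W : Set G) := inf_eq_left.mp hWW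
    have hWW' : W ≤ W' := le_inf hWU hWc
    obtain ⟨m, hm, hgm⟩ := ih _ hlt W' W rfl (inf_le_left.trans hUP) hWW' (hRW.le hzR)
      (hWW''.trans inf_le_right) (fun u hu => by
        obtain ⟨hu1, hu2⟩ := Subgroup.mem_inf.mp hu
        exact hWeq ▸ Subgroup.mem_inf.mpr ⟨(Subgroup.mem_inf.mp hu1).1, hu2⟩) hxW' hxW
    refine ⟨d + m, ?_, Good.add (hdGood hdh) hgm⟩
    refine Nat.eq_of_mul_eq_mul_right hR0 ?_
    rw [hprod, hm, hd, mul_add, two_mul, pow_add, pow_add]; ring

theorem main {G : Type a} [Group G] [Finite G] {p : ℕ} [Fact p.Prime] (P H : Subgroup G) (hP : Cfsg.IsExtraspecial p ↥P)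
    (n : ℕ) (hn : Nat.card P = p ^ (2 * n + 1)) (hH : IsCyclic H) (hcop : (Nat.card H).Coprime p)
    (hHP : H ≤ Subgroup.normalizer (P : Set G))
    (hfix : ∀ x ∈ H, x ≠ 1 → P ⊓ Subgroup.centralizer {x} = (Subgroup.center ↥P).map P.subtype) :
    Nat.card H ∣ p ^ n + 1 ∨ Nat.card H ∣ p ^ n - 1 := by
  have hp := (Fact.out : p.Prime)
  obtain ⟨x, hx⟩ := (Subgroup.isCyclic_iff_exists_zpowers_eq_top (H := H)).mp hH
  have hxo : orderOf x = Nat.card H := by rw [← hx, Nat.card_zpowers]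
  rw [← hxo] at hcop ⊢
  by_cases h2 : 2 < orderOf x
  swap
  · left
    have h0 := orderOf_pos x
    interval_cases hh : orderOf x
    · exact one_dvd _
    · have h3 : ¬ 2 ∣ p := Nat.prime_two.coprime_iff_not_dvd.mp hcop
      have hodd : Odd p := Nat.not_even_iff_odd.mp (fun he => h3 he.two_dvd)
      exact (hodd.pow.add_odd odd_one).two_dvd
  obtain ⟨⟨hPp, hF, hD⟩, hZ⟩ := hP
  set Z := (Subgroup.center P).map P.subtype with hZdef
  have hZc : Nat.card Z = p := by rw [hZdef, Subgroup.card_map_of_injective P.subtype_injective, hZ]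
  obtain ⟨z, hzZ, hz1⟩ : ∃ z ∈ Z, z ≠ 1 := by
    by_contra hcon
    push Not at hcon
    have : Z = ⊥ := (Subgroup.eq_bot_iff_forall _).mpr hcon
    rw [this, Subgroup.card_bot] at hZc
    exact hp.one_lt.ne hZc
  have hzo : orderOf z = p := by
    have h1 : orderOf z ∣ p := by
      rw [← hZc, ← Subgroup.orderOf_mk z hzZ]; exact orderOf_dvd_natCard _
    exact ((Nat.dvd_prime hp).mp h1).resolve_left (fun e => hz1 (orderOf_eq_one_iff.mp e))
  have hZz : Z = Subgroup.zpowers z := (Subgroup.eq_of_le_of_card_ge (Subgroup.zpowers_le.mpr hzZ)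
    (by rw [Nat.card_zpowers, hzo, hZc])).symm
  have hx1 : x ≠ 1 := fun e => by rw [e, orderOf_one] at h2; omega
  have hxH : x ∈ H := hx ▸ Subgroup.mem_zpowers x
  have hcentral : ∀ a, a ∈ Z ↔ a ∈ P ∧ ∀ b ∈ P, b * a = a * b := fun a => by
    constructor
    · rintro ⟨a, ha, rfl⟩
      exact ⟨a.2, fun b hb => congrArg Subtype.val (Subgroup.mem_center_iff.mp ha ⟨b, hb⟩)⟩
    · rintro ⟨ha, hb⟩
      exact ⟨⟨a, ha⟩, Subgroup.mem_center_iff.mpr fun b => Subtype.ext (hb b b.2), rfl⟩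
  have hzx : z ∈ P ⊓ Subgroup.centralizer {x} := (hfix x hxH hx1).symm ▸ hzZ
  have hS : Setting P z x p :=
    { zP := ((hcentral z).mp hzZ).1
      zo := hzo
      isP := hPp
      comm := fun a ha b hb => hZz ▸ ⟨⁅(⟨a, ha⟩ : P), ⟨b, hb⟩⁆,
        hD ▸ Subgroup.commutator_mem_commutator (Subgroup.mem_top _) (Subgroup.mem_top _), rfl⟩
      pow := fun a ha => hZz ▸ ⟨(⟨a, ha⟩ : P) ^ p, hF ▸ CfsgLib.pow_mem_frattini_pGroup hPp _, rfl⟩
      zc := fun a ha => (((hcentral z).mp hzZ).2 a ha).symm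
      xz := (Subgroup.mem_centralizer_singleton_iff.mp (Subgroup.mem_inf.mp hzx).2).symm
      cop := hcop
      fix' := fun i hi a ha hc => by
        rw [← hZz]
        refine (hfix (x ^ i) (pow_mem hxH i) hi).le ?_
        exact Subgroup.mem_inf.mpr ⟨ha, Subgroup.mem_centralizer_singleton_iff.mpr hc.symm.eq⟩ }
  obtain ⟨m, hm, hg⟩ := key hS h2 _ P Z rfl le_rfl (fun a ha => ((hcentral a).mp ha).1) hzZ
    (fun a ha => Subgroup.mem_centralizer_iff.mpr fun b hb => ((hcentral a).mp ha).2 b hb)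
    (fun a ha => (hcentral a).mpr ⟨(Subgroup.mem_inf.mp ha).1, Subgroup.mem_centralizer_iff.mp (Subgroup.mem_inf.mp ha).2⟩)
    (hHP hxH) (Subgroup.mem_normalizer_fintype fun a ha => by
      have h1 : a ∈ P ⊓ Subgroup.centralizer {x} := (hfix x hxH hx1).symm ▸ ha
      have h3 := Subgroup.mem_centralizer_singleton_iff.mp (Subgroup.mem_inf.mp h1).2
      show x * a * x⁻¹ ∈ Z
      rw [← h3, mul_inv_cancel_right]; exact ha)
  obtain rfl : n = m := by
    rw [hn, hZc, ← pow_succ'] at hm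
    have := Nat.pow_right_injective hp.two_le hm
    omega
  rcases hg with hg | hg
  · right
    rw [← ZMod.natCast_eq_zero_iff _ _, Nat.cast_sub (Nat.one_le_pow _ _ hp.pos)]
    push_cast
    rw [hg, sub_self]
  · left
    rw [← ZMod.natCast_eq_zero_iff _ _]
    push_cast
    rw [hg, neg_add_cancel]

end Aux

/-- Let P be an extraspecial p-group of order p^(2n+1) and H a cyclic group of order h prime to p acting on P (inside a common finite group: H normalizes P) so that C_P(x) = Z(P) for every non-identity x ∈ H. Then h divides p^n + 1 or h divides p^n − 1. -/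
theorem result {G : Type*} [Group G] [Finite G] {p : ℕ} [Fact p.Prime] (P H : Subgroup G) (hP : Cfsg.IsExtraspecial p ↥P) (n : ℕ) (hn : Nat.card P = p ^ (2 * n + 1)) (hH : IsCyclic H) (hcop : (Nat.card H).Coprime p) (hHP : H ≤ Subgroup.normalizer (P : Set G)) (hfix : ∀ x ∈ H, x ≠ 1 → P ⊓ Subgroup.centralizer {x} = (Subgroup.center ↥P).map P.subtype) : Nat.card H ∣ p ^ n + 1 ∨ Nat.card H ∣ p ^ n - 1 := by

  exact Aux.main P H hP n hn hH hcop hHP hfix

end Cfsg.Agent.S3767
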