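import Cfsg.Statements.S3769
import Mathlib
import Cfsg.Agent.Lib.FrobAction.QGroupModule
import Cfsg.Agent.Lib.Coprime
-- import your own Cfsg.Agent.* helpers here

set_option autoImplicit false
open Cfsg
open scoped commutatorElement

namespace Cfsg.Agent.S3769

/-- Let G and V be subgroups of a finite group with G solvable of odd order normalizing V, V an elementary abelian ℓ-group for a prime ℓ not dividing the order of G, and suppose G has a normal Hall subgroup K with a complement R of prime order. If C_V(R) = 1, then [R, K] centralizes V. -/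
theorem result {X : Type*} [Group X] [Finite X] (G : Subgroup X) (hsolv : Group.IsSolvable G) (hodd : Odd (Nat.card G)) (V : Subgroup X) {ℓ : ℕ} (hℓ : ℓ.Prime) (hV : Cfsg.IsElementaryAbelian ℓ V) (hℓG : ¬ ℓ ∣ Nat.card G) (hGV : G ≤ Subgroup.normalizer (V : Set X)) (K R : Subgroup X) (hKG : K ≤ G) (hKn : G ≤ Subgroup.normalizer (K : Set X)) (hHall : (Nat.card K).Coprime (K.relIndex G)) (hRG : R ≤ G) (hR : (Nat.card R).Prime) (hKR : K ⊓ R = ⊥) (hKRG : K ⊔ R = G) (hCV : V ⊓ Subgroup.centralizer (R : Set X) = ⊥) : ⁅R, K⁆ ≤ Subgroup.centralizer (V : Set X) := by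
  classical
  haveI := hV.1
  haveI := Fact.mk hℓ
  have hr : (Nat.card R).Prime := hR
  haveI := Fact.mk hr
  have hRK : R ≤ Subgroup.normalizer (K : Set X) := hRG.trans hKn
  have hcard : Nat.card R ∣ K.relIndex G := by
    haveI : (K.subgroupOf G).Normal := (Subgroup.normal_subgroupOf_iff_le_normalizer hKG).2 hKn
    have h := Subgroup.relIndex_dvd_index_of_normal (K.subgroupOf G) (R.subgroupOf G)
    rw [Subgroup.relIndex_subgroupOf hRG, ← Subgroup.inf_relIndex_right, hKR, Subgroup.relIndex_bot_left] at h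
    exact h
  have hcop : (Nat.card R).Coprime (Nat.card K) := (hHall.coprime_dvd_right hcard).symm
  have hKV : K ≤ Subgroup.normalizer (V : Set X) := hKG.trans hGV
  let T : Subgroup X :=
    { carrier := {k | k ∈ K ∧ ∀ x ∈ R, ⁅x, k⁆ ∈ Subgroup.centralizer (V : Set X)}
      one_mem' := ⟨one_mem K, fun x _ => by rw [commutatorElement_one_right]; exact one_mem _⟩
      mul_mem' := fun {a b} ha hb => ⟨mul_mem ha.1 hb.1, fun x hx => by
        rw [show ⁅x, a * b⁆ = ⁅x, a⁆ * (a * ⁅x, b⁆ * a⁻¹) by simp only [commutatorElement_def]; group]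
        refine mul_mem (ha.2 x hx) (Subgroup.mem_centralizer_iff.2 fun v hv => ?_)
        have hv' := (Subgroup.mem_normalizer_iff.1 (inv_mem (hKV ha.1)) v).1 hv
        have h := Subgroup.mem_centralizer_iff.1 (hb.2 x hx) _ hv'
        rw [inv_inv] at h
        calc v * (a * ⁅x, b⁆ * a⁻¹) = a * (a⁻¹ * v * a * ⁅x, b⁆) * a⁻¹ := by group
          _ = a * (⁅x, b⁆ * (a⁻¹ * v * a)) * a⁻¹ := by rw [h]
          _ = a * ⁅x, b⁆ * a⁻¹ * v := by group⟩
      inv_mem' := fun {a} ha => ⟨inv_mem ha.1, fun x hx => by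
        rw [show ⁅x, a⁻¹⁆ = a⁻¹ * ⁅x, a⁆⁻¹ * a by simp only [commutatorElement_def]; group]
        refine Subgroup.mem_centralizer_iff.2 fun v hv => ?_
        have hv' := (Subgroup.mem_normalizer_iff.1 (hKV ha.1) v).1 hv
        have h := Subgroup.mem_centralizer_iff.1 (inv_mem (ha.2 x hx)) _ hv'
        calc v * (a⁻¹ * ⁅x, a⁆⁻¹ * a) = a⁻¹ * (a * v * a⁻¹ * ⁅x, a⁆⁻¹) * a := by group
          _ = a⁻¹ * (⁅x, a⁆⁻¹ * (a * v * a⁻¹)) * a := by rw [h]
          _ = a⁻¹ * ⁅x, a⁆⁻¹ * a * v := by group⟩ }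
  have hTK : T ≤ K := fun x hx => hx.1
  have hdvd : Nat.card K ∣ Nat.card T := by
    rw [Nat.dvd_iff_prime_pow_dvd_dvd]
    intro q k hq hqk
    rcases Nat.eq_zero_or_pos k with hk | hk
    · rw [hk, pow_zero]; exact one_dvd _
    haveI := Fact.mk hq
    have hqK : q ∣ Nat.card K := (dvd_pow_self q hk.ne').trans hqk
    obtain ⟨P, hP⟩ := CfsgLib.coprime_exists_invariant_sylow hRK hcop (Or.inr (Group.isSolvable_of_isSolvable_injective
      (f := Subgroup.inclusion hKG) (Subgroup.inclusion_injective _))) q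
    have hPK : (P : Subgroup K).map K.subtype ≤ K := Subgroup.map_subtype_le _
    have hqG : q ∣ Nat.card G := hqK.trans (Subgroup.card_dvd_of_le hKG)
    have h := CfsgLib.QGroupModule.commutator_centralizes (p := ℓ) (q := q) (r := Nat.card R)
      (fun h => hℓG (h ▸ hqG))
      (fun h => hℓG (h ▸ Subgroup.card_dvd_of_le hRG))
      (fun h => Nat.Prime.not_coprime_iff_dvd.2 ⟨q, hq, h ▸ dvd_rfl, hqK⟩ hcop)
      R ((P : Subgroup K).map K.subtype) V rfl (P.isPGroup'.map _) hV.2 hP (hRG.trans hGV) (hPK.trans hKV) hCV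
      (fun h2 _ => absurd (h2 ▸ hqG) (fun h => by obtain ⟨m, hm⟩ := hodd; omega))
    have hle : (P : Subgroup K).map K.subtype ≤ T := fun a ha => ⟨hPK ha, fun x hx => by
      rw [commutatorElement_def]; exact h x hx a ha⟩
    refine Nat.dvd_trans ?_ (Subgroup.card_dvd_of_le hle)
    rw [Subgroup.card_map_of_injective K.subtype_injective]
    exact P.pow_dvd_card_of_pow_dvd_card hqk
  have hT : T = K := Subgroup.eq_of_le_of_card_ge hTK (Nat.le_of_dvd Nat.card_pos hdvd)
  rw [Subgroup.commutator_le]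
  intro x hx k hk
  exact ((hT.symm ▸ hk : k ∈ T)).2 x hx

end Cfsg.Agent.S3769
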