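import Cfsg.Statements.S3770
import Mathlib
import Cfsg.Agent.Lib.Frobenius.Kernel
import Cfsg.Agent.Lib.CoprimeAbelian
import Cfsg.Agent.Lib.Elementary
-- import your own Cfsg.Agent.* helpers here

set_option autoImplicit false
open Cfsg

namespace Cfsg.Agent.S3770

namespace Aux

universe a

open CfsgLib
open scoped commutatorElement

set_option maxHeartbeats 1000000

theorem span {F : Type a} [Group F] [Finite F] {U : Type a} [CommGroup U] (τ : F →* MulAut U) (Z C : Subgroup F)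
    (hZC : C ≤ Subgroup.normalizer (Z : Set F)) (hfpf : ∀ c ∈ C, c ≠ 1 → ∀ z ∈ Z, Commute c z → z = 1)
    (hfix : ∀ u : U, (∀ z ∈ Z, τ z u = u) → u = 1) (W : Subgroup U) (hW : ∀ f : F, f ∈ Z ∨ f ∈ C → ∀ w ∈ W, τ f w ∈ W)
    {u : U} (hu : u ∈ W) :
    u ^ Nat.card Z ∈ Subgroup.closure {y : U | ∃ z ∈ Z, ∃ w ∈ W, (∀ c ∈ C, τ c w = w) ∧ τ z w = y} := by
  classical
  haveI := Fintype.ofFinite Z
  haveI := Fintype.ofFinite C
  let L : Subgroup U := Subgroup.closure {y : U | ∃ z ∈ Z, ∃ w ∈ W, (∀ c ∈ C, τ c w = w) ∧ τ z w = y}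
  have hN : ∀ v, ∏ z : Z, τ z v = 1 := fun v => hfix _ fun s hs => by
    rw [map_prod]
    refine Fintype.prod_equiv (Equiv.mulLeft (⟨s, hs⟩ : Z)) _ _ fun t => ?_
    show τ s (τ t v) = τ (s * (t : F)) v
    rw [map_mul, MulAut.mul_apply]
  have h1 : ∏ z : Z, ∏ c : C, τ ((z : F) * c * (z : F)⁻¹) u = u ^ Nat.card Z := by
    rw [Finset.prod_comm, ← Finset.mul_prod_erase _ _ (Finset.mem_univ (1 : C))]
    rw [Finset.prod_eq_one (f := fun c : C => ∏ z : Z, τ ((z : F) * c * (z : F)⁻¹) u), mul_one]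
    · simp [Nat.card_eq_fintype_card]
    · intro c hc
      have hc1 : (c : F) ≠ 1 := fun e => (Finset.ne_of_mem_erase hc) (Subtype.ext e)
      let g : Z → Z := fun z => ⟨(z : F) * ((c : F) * (z : F)⁻¹ * (c : F)⁻¹),
        mul_mem z.2 ((Subgroup.mem_normalizer_iff.mp (hZC c.2) _).mp (inv_mem z.2))⟩
      have hg : Function.Injective g := fun z z' h => by
        have h' : (z : F) * ((c : F) * (z : F)⁻¹ * (c : F)⁻¹) = (z' : F) * ((c : F) * (z' : F)⁻¹ * (c : F)⁻¹) :=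
          congrArg Subtype.val h
        have h2 : (z' : F)⁻¹ * z = 1 := hfpf c c.2 hc1 _ (mul_mem (inv_mem z'.2) z.2) (by
          have h3 : (z : F) * c * (z : F)⁻¹ = (z' : F) * c * (z' : F)⁻¹ := by
            calc (z : F) * c * (z : F)⁻¹ = (z : F) * ((c : F) * (z : F)⁻¹ * (c : F)⁻¹) * c := by group
              _ = (z' : F) * ((c : F) * (z' : F)⁻¹ * (c : F)⁻¹) * c := by rw [h']
              _ = _ := by group
          show (c : F) * ((z' : F)⁻¹ * z) = (z' : F)⁻¹ * z * c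
          calc (c : F) * ((z' : F)⁻¹ * z) = (z' : F)⁻¹ * ((z' : F) * c * (z' : F)⁻¹) * z := by group
            _ = _ := by rw [← h3]; group)
        exact Subtype.ext (inv_mul_eq_one.mp h2).symm
      calc ∏ z : Z, τ ((z : F) * c * (z : F)⁻¹) u = ∏ z : Z, τ (g z : F) (τ c u) :=
          Finset.prod_congr rfl fun z _ => by
            rw [← MulAut.mul_apply, ← map_mul]
            congr 2
            show _ = (z : F) * ((c : F) * (z : F)⁻¹ * (c : F)⁻¹) * c
            group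
        _ = ∏ z : Z, τ z (τ c u) := (Finite.injective_iff_bijective.mp hg).prod_comp (fun z : Z => τ z (τ c u))
        _ = 1 := hN _
  rw [← h1]
  refine L.prod_mem fun z _ => Subgroup.subset_closure ⟨z, z.2, ∏ c : C, τ c (τ (z : F)⁻¹ u),
    W.prod_mem fun c _ => hW _ (Or.inr c.2) _ (hW _ (Or.inl (inv_mem z.2)) _ hu), fun s hs => ?_, ?_⟩
  · rw [map_prod]
    refine Fintype.prod_equiv (Equiv.mulLeft (⟨s, hs⟩ : C)) _ _ fun t => ?_
    show τ s (τ t _) = τ (s * (t : F)) _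
    rw [map_mul τ s, MulAut.mul_apply]
  · rw [map_prod]
    exact Finset.prod_congr rfl fun c _ => by rw [map_mul, map_mul, MulAut.mul_apply, MulAut.mul_apply]

theorem abelian_image {F : Type a} [Group F] [Finite F] {U : Type a} [CommGroup U] [Finite U] {ℓ : ℕ} (hℓ : ℓ.Prime)
    (hU : ∀ u : U, u ^ ℓ = 1) (τ : F →* MulAut U) (N C : Subgroup F) [N.Normal] [Group.IsNilpotent N]
    (hfpf : ∀ c ∈ C, c ≠ 1 → ∀ z ∈ N, Commute c z → z = 1) (hℓN : ¬ ℓ ∣ Nat.card N)
    (hfix : ∀ u : U, (∀ z ∈ N, τ z u = u) → u = 1)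
    (hCfix : ∀ u v : U, (∀ c ∈ C, τ c u = u) → (∀ c ∈ C, τ c v = v) → u ≠ 1 → v ∈ Subgroup.zpowers u) :
    ∀ k ∈ N, ∀ k' ∈ N, τ ⁅k, k'⁆ = 1 := by
  classical
  have hroot : ∀ (m : ℕ), ¬ ℓ ∣ m → ∀ (L : Subgroup U) (u : U), u ^ m ∈ L → u ∈ L := fun m hm L u hu => by
    obtain ⟨i, hi⟩ := exists_pow_eq_self_of_coprime (x := u) (n := m) ((Nat.Coprime.coprime_dvd_right
      (orderOf_dvd_of_pow_eq_one (hU u)) (hℓ.coprime_iff_not_dvd.mpr hm).symm))
    exact hi ▸ pow_mem hu i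
  intro k hk k' hk'
  by_contra hne
  set I := N.map τ with hI
  haveI : Group.IsNilpotent I := Group.nilpotent_of_surjective (τ.subgroupMap N) (τ.subgroupMap_surjective N)
  haveI : Nontrivial I := ⟨⟨⟨τ ⁅k, k'⁆, ⟨_, by
    rw [commutatorElement_def]; exact mul_mem (mul_mem (mul_mem hk hk') (inv_mem hk)) (inv_mem hk'), rfl⟩⟩, 1,
      fun e => hne (congrArg Subtype.val e)⟩⟩
  haveI : Nontrivial (Subgroup.center I) := (Subgroup.nontrivial_iff_ne_bot _).2 fun e =>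
    inf_center_ne_bot_of_nilpotent (N := (⊤ : Subgroup I)) top_ne_bot (by rw [e, inf_bot_eq])
  obtain ⟨⟨⟨t, ht⟩, htc⟩, ht1⟩ := exists_ne (1 : Subgroup.center I)
  set Z := N ⊓ (Subgroup.centralizer (I : Set (MulAut U))).comap τ with hZ
  obtain ⟨z₀, hz₀, hz₀t⟩ := ht
  have hz₀Z : z₀ ∈ Z := Subgroup.mem_inf.mpr ⟨hz₀, Subgroup.mem_centralizer_iff.mpr fun y hy => by
    rw [hz₀t]; exact congrArg Subtype.val (Subgroup.mem_center_iff.mp htc ⟨y, hy⟩)⟩
  have hz₀1 : τ z₀ ≠ 1 := fun e => ht1 (Subtype.ext (Subtype.ext (hz₀t.symm.trans e)))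
  have hcomm : ∀ z ∈ Z, ∀ n ∈ N, ∀ u, τ z (τ n u) = τ n (τ z u) := fun z hz n hn u => by
    rw [← MulAut.mul_apply, ← MulAut.mul_apply,
      Subgroup.mem_centralizer_iff.mp (Subgroup.mem_inf.mp hz).2 (τ n) ⟨n, hn, rfl⟩]
  have hCZ : C ≤ Subgroup.normalizer (Z : Set F) := fun c _ => Subgroup.mem_normalizer_fintype fun z hz => by
    obtain ⟨hzN, hzc⟩ := Subgroup.mem_inf.mp hz
    refine Subgroup.mem_inf.mpr ⟨(inferInstance : N.Normal).conj_mem z hzN c, Subgroup.mem_centralizer_iff.mpr ?_⟩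
    rintro _ ⟨n, hn, rfl⟩
    have h1 := Subgroup.mem_centralizer_iff.mp hzc (τ (c⁻¹ * n * c)) ⟨_, by
      have := (inferInstance : N.Normal).conj_mem n hn c⁻¹
      rwa [inv_inv] at this, rfl⟩
    rw [← map_mul, ← map_mul] at h1
    have h2 := congrArg (fun y => τ c * y * τ c⁻¹) h1
    simp only [← map_mul] at h2
    rw [← map_mul, ← map_mul, show n * (c * z * c⁻¹) = c * (c⁻¹ * n * c * z) * c⁻¹ by group,
      show c * z * c⁻¹ * n = c * (z * (c⁻¹ * n * c)) * c⁻¹ by group]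
    exact h2
  have hCN : C ≤ Subgroup.normalizer (N : Set F) := by rw [Subgroup.normalizer_eq_top]; exact le_top
  -- `Z` has no fixed points
  have hZfix : ∀ u : U, (∀ z ∈ Z, τ z u = u) → u = 1 := by
    intro u hu
    by_contra hu1
    let W : Subgroup U :=
      { carrier := {v | ∀ z ∈ Z, τ z v = v}
        one_mem' := fun z _ => map_one _
        mul_mem' := fun {v w} hv hw z hz => by rw [map_mul, hv z hz, hw z hz]
        inv_mem' := fun {v} hv z hz => by rw [map_inv, hv z hz] }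
    have hWinv : ∀ f : F, f ∈ N ∨ f ∈ C → ∀ w ∈ W, τ f w ∈ W := fun f hf w hw z hz => by
      rcases hf with hf | hf
      · rw [hcomm z hz f hf, hw z hz]
      · have h1 : f⁻¹ * z * f ∈ Z := by
          have := (Subgroup.mem_normalizer_iff.mp (inv_mem (hCZ hf)) z).mp hz
          rwa [inv_inv] at this
        calc τ z (τ f w) = τ f (τ (f⁻¹ * z * f) w) := by
              rw [← MulAut.mul_apply, ← MulAut.mul_apply, ← map_mul, ← map_mul]; congr 2; group
          _ = τ f w := by rw [hw _ h1]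
    obtain ⟨w, hwW, hwC, hw1⟩ : ∃ w ∈ W, (∀ c ∈ C, τ c w = w) ∧ w ≠ 1 := by
      by_contra hcon
      push Not at hcon
      have h1 := span τ N C hCN hfpf hfix W hWinv (u := u) hu
      have h2 : Subgroup.closure {y : U | ∃ z ∈ N, ∃ w ∈ W, (∀ c ∈ C, τ c w = w) ∧ τ z w = y} ≤ ⊥ := by
        rw [Subgroup.closure_le]
        rintro _ ⟨z, -, w, hw, hwC, rfl⟩
        rw [hcon w hw hwC, map_one]; exact rfl
      exact hu1 (Subgroup.mem_bot.mp (hroot _ hℓN ⊥ u (h2 h1)))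
    have hall : ∀ v : U, v ∈ W := fun v => by
      refine hroot _ hℓN W v ?_
      have h1 := span τ N C hCN hfpf hfix ⊤ (fun _ _ _ _ => Subgroup.mem_top _) (u := v) (Subgroup.mem_top v)
      refine (Subgroup.closure_le W).mpr ?_ h1
      rintro _ ⟨z, hz, x, -, hx, rfl⟩
      exact hWinv z (Or.inl hz) x ((Subgroup.zpowers_le.mpr hwW) (hCfix w x hwC hx hw1))
    exact hz₀1 (MulEquiv.ext fun v => hall v z₀ hz₀Z)
  have hZN : ¬ ℓ ∣ Nat.card Z := fun hd => hℓN (hd.trans (Subgroup.card_dvd_of_le inf_le_left))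
  have hgen : ∀ v : U, v ∈ Subgroup.closure {y : U | ∃ z ∈ Z, ∃ w : U, (∀ c ∈ C, τ c w = w) ∧ τ z w = y} := fun v => by
    refine hroot _ hZN _ v (Subgroup.closure_mono ?_ (span τ Z C hCZ (fun c hc hc1 z hz => hfpf c hc hc1 z (Subgroup.mem_inf.mp hz).1) hZfix ⊤
      (fun _ _ _ _ => Subgroup.mem_top _) (u := v) (Subgroup.mem_top v)))
    rintro _ ⟨z, hz, w, -, hw, rfl⟩
    exact ⟨z, hz, w, hw, rfl⟩
  obtain ⟨w, hwC, hw1⟩ : ∃ w : U, (∀ c ∈ C, τ c w = w) ∧ w ≠ 1 := by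
    by_contra hcon
    push Not at hcon
    refine hz₀1 (MulEquiv.ext fun v => ?_)
    have h2 : Subgroup.closure {y : U | ∃ z ∈ Z, ∃ w : U, (∀ c ∈ C, τ c w = w) ∧ τ z w = y} ≤ ⊥ := by
      rw [Subgroup.closure_le]
      rintro _ ⟨z, -, x, hx, rfl⟩
      rw [hcon x hx, map_one]; exact rfl
    rw [Subgroup.mem_bot.mp (h2 (hgen v)), map_one, map_one]
  have hext : ∀ g g' : U →* U, (∀ z ∈ Z, ∀ v, g (τ z v) = τ z (g v)) → (∀ z ∈ Z, ∀ v, g' (τ z v) = τ z (g' v)) →
      g w = g' w → g = g' := fun g g' hg hg' he => MonoidHom.ext fun v => by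
    refine MonoidHom.eqOn_closure ?_ (hgen v)
    rintro _ ⟨z, hz, x, hx, rfl⟩
    obtain ⟨i, rfl⟩ := hCfix w x hwC hx hw1
    rw [hg z hz, hg' z hz, map_zpow g, map_zpow g', he]
  have hrep : ∀ y : U, ∃ g : U →* U, g w = y ∧
      ∀ h : U →* U, (∀ z ∈ Z, ∀ v, h (τ z v) = τ z (h v)) → ∀ v, g (h v) = h (g v) := fun y => by
    induction hgen y using Subgroup.closure_induction with
    | mem x hx =>
      obtain ⟨z, hz, x, hxC, rfl⟩ := hx
      obtain ⟨i, rfl⟩ := hCfix w x hwC hxC hw1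
      refine ⟨(τ z).toMonoidHom.comp (zpowGroupHom i), rfl, fun h hh v => ?_⟩
      show τ z (h v ^ i) = h (τ z (v ^ i))
      rw [hh z hz, map_zpow h]
    | one => exact ⟨1, rfl, fun h _ v => by simp⟩
    | mul x y _ _ h1 h2 =>
      obtain ⟨g, hg, hg'⟩ := h1
      obtain ⟨g2, hg2, hg2'⟩ := h2
      exact ⟨g * g2, by rw [MonoidHom.mul_apply, hg, hg2], fun h hh v => by
        rw [MonoidHom.mul_apply, MonoidHom.mul_apply, hg' h hh, hg2' h hh, map_mul]⟩
    | inv x _ h1 =>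
      obtain ⟨g, hg, hg'⟩ := h1
      exact ⟨g⁻¹, by rw [MonoidHom.inv_apply, hg], fun h hh v => by
        rw [MonoidHom.inv_apply, MonoidHom.inv_apply, hg' h hh, map_inv]⟩
  obtain ⟨g, hg, hg'⟩ := hrep (τ k' w)
  have hgZ : ∀ z ∈ Z, ∀ v, g (τ z v) = τ z (g v) := fun z hz v =>
    hg' (τ z).toMonoidHom (fun z' hz' v => (hcomm z' hz' z (Subgroup.mem_inf.mp hz).1 v).symm) v
  have hk'Z : ∀ z ∈ Z, ∀ v, (τ k').toMonoidHom (τ z v) = τ z ((τ k').toMonoidHom v) := fun z hz v => (hcomm z hz k' hk' v).symm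
  have heq : g = (τ k').toMonoidHom := hext g _ hgZ hk'Z hg
  refine hne ?_
  rw [map_commutatorElement, commutatorElement_eq_one_iff_mul_comm]
  refine MulEquiv.ext fun v => ?_
  have h1 := hg' (τ k).toMonoidHom (fun z hz v => (hcomm z hz k hk v).symm) v
  rw [heq] at h1
  exact h1.symm

theorem main {X : Type a} [Group X] [Finite X] (G : Subgroup X) (V : Subgroup X) {ℓ : ℕ} (hℓ : ℓ.Prime)
    (hV : Cfsg.IsElementaryAbelian ℓ V) (hℓG : ¬ ℓ ∣ Nat.card G) (hGV : G ≤ Subgroup.normalizer (V : Set X))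
    (R : Subgroup ↥G) (hR : Cfsg.IsFrobeniusComplement R) (hRp : (Nat.card R).Prime)
    (hCV : Nat.card ↥(V ⊓ Subgroup.centralizer ((R.map G.subtype : Subgroup X) : Set X)) = ℓ) :
    ⁅Subgroup.closure (Subtype.val '' Cfsg.frobeniusKernel R), Subgroup.closure (Subtype.val '' Cfsg.frobeniusKernel R)⁆
      ≤ Subgroup.centralizer (V : Set X) := by
  classical
  obtain ⟨N, hN, hNn, hNc, hNnil⟩ := Frob.exists_nilpotent_kernel hR
  haveI := hNn; haveI := hNnil
  rw [← hN, ← Subgroup.coe_subtype, ← Subgroup.coe_map, Subgroup.closure_eq]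
  set Kx := N.map G.subtype with hKx
  haveI hVc : IsMulCommutative V := hV.1
  have hKG : Kx ≤ G := Subgroup.map_subtype_le N
  have hKV : Kx ≤ Subgroup.normalizer (V : Set X) := hKG.trans hGV
  have hcop : (Nat.card Kx).Coprime (Nat.card V) := Nat.coprime_of_dvd fun q hq h1 h2 => by
    haveI := Fact.mk hq
    obtain ⟨v, hv⟩ := exists_prime_orderOf_dvd_card' (G := V) q h2
    have h3 : orderOf (v : X) ∣ ℓ := orderOf_dvd_of_pow_eq_one (hV.2 v v.2)
    rw [Subgroup.orderOf_coe, hv] at h3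
    exact hℓG (((Nat.prime_dvd_prime_iff_eq hq hℓ).mp h3) ▸ h1.trans (Subgroup.card_dvd_of_le hKG))
  set U := ⁅V, Kx⁆ with hU
  have hUV : U ≤ V := by
    rw [hU, Subgroup.commutator_le]
    intro v hv x hx
    rw [commutatorElement_def, show v * x * v⁻¹ * x⁻¹ = v * (x * v⁻¹ * x⁻¹) by group]
    exact mul_mem hv ((Subgroup.mem_normalizer_iff.mp (hKV hx) _).mp (inv_mem hv))
  have hdisj := coprime_abelian_disjoint Kx V hKV hcop
  have hsup := coprime_abelian_sup Kx V hKV hcop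
  have hGU : ∀ f : G, ∀ u ∈ U, (f : X) * u * (f : X)⁻¹ ∈ U := fun f u hu => by
    have hle : U.map (MulAut.conj (f : X)).toMonoidHom ≤ U := by
      rw [hU, Subgroup.map_commutator]
      refine Subgroup.commutator_mono ?_ ?_
      · rintro _ ⟨v, hv, rfl⟩; exact (Subgroup.mem_normalizer_iff.mp (hGV f.2) v).mp hv
      · rintro _ ⟨_, ⟨n, hn, rfl⟩, rfl⟩; exact ⟨_, hNn.conj_mem n hn f, rfl⟩
    exact hle ⟨u, hu, rfl⟩
  have hGU' : G ≤ Subgroup.normalizer (U : Set X) := fun f hf => Subgroup.mem_normalizer_fintype (hGU ⟨f, hf⟩)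
  let instU : CommGroup U := { (inferInstance : Group U) with
    mul_comm := fun u v => Subtype.ext
      (show (u : X) * v = v * u from congrArg (fun y : V => (y : X))
        (hVc.is_comm.comm (⟨u, hUV u.2⟩ : V) ⟨v, hUV v.2⟩)) }
  let τ : G →* MulAut U := (Subgroup.normalizerMonoidHom U).comp (Subgroup.inclusion hGU')
  have hτ : ∀ (f : G) (u : U), τ f u = u ↔ (f : X) * u = u * f := fun f u => by
    rw [Subtype.ext_iff]
    exact mul_inv_eq_iff_eq_mul
  have hkey := abelian_image (F := G) (U := U) hℓ (fun u => Subtype.ext (hV.2 u (hUV u.2))) τ N R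
    (fun c hc hc1 z hz hcz => Subgroup.mem_bot.mp ((Frob.fpf_of_frob hNc.disjoint hR hc hc1) ▸
      Subgroup.mem_inf.mpr ⟨hz, Subgroup.mem_centralizer_singleton_iff.mpr hcz.symm.eq⟩))
    (fun hd => hℓG (hd.trans (Subgroup.card_subgroup_dvd_card N)))
    (fun u hu => Subtype.ext (Subgroup.mem_bot.mp (hdisj ▸ Subgroup.mem_inf.mpr ⟨Subgroup.mem_inf.mpr ⟨hUV u.2,
      Subgroup.mem_centralizer_iff.mpr (by rintro _ ⟨n, hn, rfl⟩; exact (hτ n u).mp (hu n hn))⟩, u.2⟩)))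
    (fun u v hu hv hu1 => by
      set CR := V ⊓ Subgroup.centralizer ((R.map G.subtype : Subgroup X) : Set X) with hCR
      have hmem : ∀ w : U, (∀ c ∈ R, τ c w = w) → (w : X) ∈ CR := fun w hw => Subgroup.mem_inf.mpr
        ⟨hUV w.2, Subgroup.mem_centralizer_iff.mpr (by rintro _ ⟨c, hc, rfl⟩; exact (hτ c w).mp (hw c hc))⟩
      haveI := Fact.mk hℓ
      have h1 : Subgroup.zpowers (u : X) = CR := by
        refine Subgroup.eq_of_le_of_card_ge (Subgroup.zpowers_le.mpr (hmem u hu)) ?_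
        rw [hCV, Nat.card_zpowers, orderOf_eq_prime (hV.2 u (hUV u.2)) fun e => hu1 (Subtype.ext e)]
      obtain ⟨i, hi⟩ : (v : X) ∈ Subgroup.zpowers (u : X) := h1 ▸ hmem v hv
      exact ⟨i, Subtype.ext hi⟩)
  rw [Subgroup.commutator_le]
  rintro _ ⟨k, hk, rfl⟩ _ ⟨k', hk', rfl⟩
  rw [← map_commutatorElement, Subgroup.mem_centralizer_iff]
  intro v hv
  have hkk : (⁅k, k'⁆ : G) ∈ N := by
    rw [commutatorElement_def]; exact mul_mem (mul_mem (mul_mem hk hk') (inv_mem hk)) (inv_mem hk')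
  have hle : V ≤ Subgroup.centralizer ({((⁅k, k'⁆ : G) : X)} : Set X) := hsup ▸ sup_le
    (fun w hw => Subgroup.mem_centralizer_singleton_iff.mpr
      (Subgroup.mem_centralizer_iff.mp (Subgroup.mem_inf.mp hw).2 _ ⟨_, hkk, rfl⟩).symm)
    (fun w hw => Subgroup.mem_centralizer_singleton_iff.mpr ((hτ _ ⟨w, hw⟩).mp (by rw [hkey k hk k' hk']; rfl)).symm)
  exact Subgroup.mem_centralizer_singleton_iff.mp (hle hv)

end Aux

/-- Let G and V be subgroups of a finite group with G a Frobenius group with complement R of prime order and kernel K, G normalizing V, and V an elementary abelian ℓ-group for a prime ℓ not dividing the order of G. If C_V(R) has order ℓ, then the derived subgroup of K centralizes V. -/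
theorem result {X : Type*} [Group X] [Finite X] (G : Subgroup X) (V : Subgroup X) {ℓ : ℕ} (hℓ : ℓ.Prime) (hV : Cfsg.IsElementaryAbelian ℓ V) (hℓG : ¬ ℓ ∣ Nat.card G) (hGV : G ≤ Subgroup.normalizer (V : Set X)) (R : Subgroup ↥G) (hR : Cfsg.IsFrobeniusComplement R) (hRp : (Nat.card R).Prime) (hCV : Nat.card ↥(V ⊓ Subgroup.centralizer ((R.map G.subtype : Subgroup X) : Set X)) = ℓ) : ⁅Subgroup.closure (Subtype.val '' Cfsg.frobeniusKernel R), Subgroup.closure (Subtype.val '' Cfsg.frobeniusKernel R)⁆ ≤ Subgroup.centralizer (V : Set X) := by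

  exact Aux.main G V hℓ hV hℓG hGV R hR hRp hCV

end Cfsg.Agent.S3770
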