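import Cfsg.Statements.S3771
import Mathlib
import Cfsg.Agent.Lib.UniqueSubgroup
import Cfsg.Agent.S3741
-- import your own Cfsg.Agent.* helpers here

set_option autoImplicit false
open Cfsg

namespace Cfsg.Agent.S3771

/-- Let p be a prime and R a finite p-group of p-rank at most 2 (no elementary abelian subgroup of order p³) in which every element has order dividing p. Then R has order at most p³. -/
theorem result {R : Type*} [Group R] [Finite R] {p : ℕ} [Fact p.Prime] (hR : IsPGroup p R) (hrank : Cfsg.PRankLE p 2 R) (hexp : ∀ x : R, x ^ p = 1) : Nat.card R ≤ p ^ 3 := by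
  classical
  have hp : p.Prime := Fact.out
  have : Group.IsNilpotent R := hR.isNilpotent
  obtain ⟨A, hAn, hAc, hAself⟩ := CfsgLib.UniqueSubgroup.exists_self_centralizing R
  have hAab : IsMulCommutative A := ⟨⟨fun a b => Subtype.ext (hAc a a.2 b b.2)⟩⟩
  have hA2 : Nat.card A ≤ p ^ 2 := hrank A hAab (fun a _ => hexp a)
  have hC : Subgroup.centralizer (A : Set R) = A :=
    le_antisymm hAself (fun a ha => Subgroup.mem_centralizer_iff.mpr fun b hb => hAc b hb a ha)
  set W := ⁅A, (⊤ : Subgroup R)⁆ with hW
  have hWA : W ≤ A := Subgroup.commutator_le_left A ⊤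
  by_cases hA1 : A = ⊥
  · have hb : (⊤ : Subgroup R) ≤ ⊥ := by
      rw [← hA1, ← hC, hA1]
      exact fun x _ => Subgroup.mem_centralizer_iff.mpr fun b hb => by
        rw [SetLike.mem_coe, Subgroup.mem_bot] at hb; subst hb; simp
    rw [← Subgroup.card_top, le_bot_iff.mp hb, Subgroup.card_bot]
    exact Nat.one_le_pow _ _ hp.pos
  have hne : A ⊓ Subgroup.center R ≠ ⊥ := CfsgLib.inf_center_ne_bot_of_nilpotent hA1
  have hK : A ⊓ Subgroup.center R ≤ A ⊓ Subgroup.centralizer ((⊤ : Subgroup R) : Set R) :=
    inf_le_inf_left _ (Subgroup.center_le_centralizer _)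
  obtain ⟨c, hc⟩ := IsPGroup.iff_card.mp (hR.to_subgroup (A ⊓ Subgroup.center R))
  have hc0 : c ≠ 0 := by rintro rfl; exact hne (Subgroup.card_eq_one.mp (by rw [hc, pow_zero]))
  have hidx : A.index ≤ p := by
    -- `|R : A| = |A : C_A(R)|`
    have hWp : Nat.card W ≤ p := by
      have hlt : W < A := by
        refine lt_of_le_of_ne hWA fun e => hA1 ?_
        have hsub : ∀ i, A ≤ (⊤ : Subgroup R).lowerCentralSeries i := by
          intro i
          induction i with
          | zero => exact le_top
          | succ i ih =>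
            rw [Subgroup.lowerCentralSeries_succ]
            calc A = W := e.symm
              _ ≤ _ := Subgroup.commutator_mono ih le_rfl
        obtain ⟨m, hm⟩ := Subgroup.nilpotent_iff_lowerCentralSeries.mp (inferInstance : Group.IsNilpotent R)
        exact le_bot_iff.mp (hm ▸ hsub m)
      obtain ⟨a, ha⟩ := IsPGroup.iff_card.mp (hR.to_subgroup A)
      obtain ⟨w, hw⟩ := IsPGroup.iff_card.mp (hR.to_subgroup W)
      have hwa : w < a := by
        by_contra hle
        refine hlt.ne (Subgroup.eq_of_le_of_card_ge hlt.le ?_)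
        rw [ha, hw]; exact Nat.pow_le_pow_right hp.pos (not_lt.mp hle)
      rw [ha] at hA2
      have := (Nat.pow_le_pow_iff_right hp.one_lt).mp hA2
      rw [hw]
      calc p ^ w ≤ p ^ 1 := Nat.pow_le_pow_right hp.pos (by omega)
        _ = p := pow_one p
    have hrel := Cfsg.Agent.S3741.result hR A ⊤ (le_inf hWA le_top) hWp
    rw [top_inf_eq, Subgroup.relIndex_top_right, hC] at hrel
    rw [← hrel]
    refine (Subgroup.relIndex_le_of_le_left hK Subgroup.index_ne_zero_of_finite).trans ?_
    have h1 := Subgroup.relIndex_mul_relIndex ⊥ (A ⊓ Subgroup.center R) A bot_le inf_le_left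
    rw [Subgroup.relIndex_bot_left, Subgroup.relIndex_bot_left, hc] at h1
    refine Nat.le_of_mul_le_mul_left (?_ : p * (A ⊓ Subgroup.center R).relIndex A ≤ p * p) hp.pos
    rw [← pow_two]
    refine le_trans ?_ (h1.le.trans hA2)
    exact Nat.mul_le_mul_right _ (Nat.le_self_pow hc0 p)
  rw [← A.card_mul_index, pow_succ p 2]
  exact Nat.mul_le_mul hA2 hidx

end Cfsg.Agent.S3771
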