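import Cfsg.Statements.S3772
import Mathlib
import Cfsg.Agent.Lib.Elementary
import Cfsg.Agent.Lib.RankFrattini
-- import your own Cfsg.Agent.* helpers here

set_option autoImplicit false
open Cfsg

namespace Cfsg.Agent.S3772

open scoped commutatorElement

/-- Let G be a finite 2-group whose Frattini subgroup Φ(G) has order 2, with |G : Φ(G)| = 2^d, and let j be the number of elements x of G with x² = 1. Then j = 2^d, or j = 2^d + 2^(d−r) or j = 2^d − 2^(d−r) for some positive integer r with 2r ≤ d. Moreover if d = 2r and j is 2^d + 2^r or 2^d − 2^r, then G is extraspecial. -/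
theorem result {G : Type*} [Group G] [Finite G] (hG : IsPGroup 2 G) (hΦ : Nat.card (frattini G) = 2) (d : ℕ) (hd : (frattini G).index = 2 ^ d) : (Nat.card {x : G // x ^ 2 = 1} = 2 ^ d ∨ ∃ r : ℕ, 1 ≤ r ∧ 2 * r ≤ d ∧ (Nat.card {x : G // x ^ 2 = 1} = 2 ^ d + 2 ^ (d - r) ∨ Nat.card {x : G // x ^ 2 = 1} + 2 ^ (d - r) = 2 ^ d)) ∧ (∀ r : ℕ, d = 2 * r → (Nat.card {x : G // x ^ 2 = 1} = 2 ^ d + 2 ^ r ∨ Nat.card {x : G // x ^ 2 = 1} + 2 ^ r = 2 ^ d) → Cfsg.IsExtraspecial 2 G) := by
  classical
  have := Fact.mk Nat.prime_two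
  have : Fintype G := Fintype.ofFinite G
  set Φ := frattini G with hΦdef
  obtain ⟨w₀, hw₀, huniq⟩ := (Nat.card_eq_two_iff' (1 : Φ)).mp hΦ
  have hcases : ∀ w ∈ Φ, w = 1 ∨ w = (w₀ : G) := fun w hw => by
    by_cases h : w = 1
    · exact Or.inl h
    · exact Or.inr (congrArg Subtype.val (huniq ⟨w, hw⟩ fun e => h (congrArg Subtype.val e)))
  have hzne : (w₀ : G) ≠ 1 := fun e => hw₀ (Subtype.ext e)
  have hzz : (w₀ : G) * w₀ = 1 := by
    rcases hcases _ (Φ.mul_mem w₀.2 w₀.2) with h | h
    · exact h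
    · exact absurd (mul_eq_right.mp h) hzne
  have hsq : ∀ g : G, g * g ∈ Φ := fun g => by rw [← pow_two]; exact CfsgLib.pow_mem_frattini_pGroup hG g
  have hcom : ∀ g h : G, ⁅g, h⁆ ∈ Φ := fun g h => CfsgLib.commutator_le_frattini_pGroup hG
    (Subgroup.commutator_mem_commutator (Subgroup.mem_top g) (Subgroup.mem_top h))
  have hzc : ∀ g : G, Commute g (w₀ : G) := fun g => by
    have hn : g * (w₀ : G) * g⁻¹ ∈ Φ := (inferInstance : (frattini G).Normal).conj_mem _ w₀.2 g
    rcases hcases _ hn with h | h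
    · exact absurd (conj_eq_one_iff.mp h) hzne
    · exact mul_inv_eq_iff_eq_mul.mp h
  -- signs on the Frattini subgroup
  let σ : G → ℤ := fun w => if w = 1 then 1 else -1
  have hσ : ∀ a ∈ Φ, ∀ b ∈ Φ, σ (a * b) = σ a * σ b := by
    intro a ha b hb
    rcases hcases a ha with rfl | rfl <;> rcases hcases b hb with rfl | rfl <;> simp [σ, hzne, hzz]
  have hσsq : ∀ a ∈ Φ, σ a * σ a = 1 := fun a ha => by
    rcases hcases a ha with rfl | rfl <;> simp [σ, hzne]
  let ε : G → ℤ := fun g => σ (g * g)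
  have hcen : ∀ a ∈ Φ, ∀ g : G, Commute a g := fun a ha g => by
    rcases hcases a ha with rfl | rfl
    · exact Commute.one_left g
    · exact (hzc g).symm
  have hmul : ∀ g h : G, ε (g * h) = ε g * ε h * σ ⁅h, g⁆ := by
    intro g h
    have e : g * h * (g * h) = g * g * ⁅g⁻¹, h⁆ * (h * h) := by rw [commutatorElement_def]; group
    have e2 : σ ⁅g⁻¹, h⁆ = σ ⁅h, g⁆ := by
      have h1 : ⁅g⁻¹, h⁆ = g⁻¹ * ⁅h, g⁆ * g := by simp only [commutatorElement_def]; group
      rw [h1, mul_assoc, (hcen _ (hcom h g) g).eq, inv_mul_cancel_left]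
    show σ (g * h * (g * h)) = σ (g * g) * σ (h * h) * σ ⁅h, g⁆
    rw [e, hσ _ (Φ.mul_mem (hsq g) (hcom _ _)) _ (hsq h), hσ _ (hsq g) _ (hcom _ _), e2]
    ring
  let χ : G → G → ℤ := fun g k => σ ⁅g, k⁆
  have hχsymm : ∀ g k, χ g k = χ k g := fun g k => by
    show σ ⁅g, k⁆ = σ ⁅k, g⁆
    rcases hcases _ (hcom g k) with h | h
    · rw [h, ← commutatorElement_inv g k, h, inv_one]
    · rw [h, ← commutatorElement_inv g k, h, inv_eq_of_mul_eq_one_right hzz]
  have hχl : ∀ a b k, χ (a * b) k = χ a k * χ b k := fun a b k => by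
    show σ ⁅a * b, k⁆ = σ ⁅a, k⁆ * σ ⁅b, k⁆
    rw [show ⁅a * b, k⁆ = a * ⁅b, k⁆ * a⁻¹ * ⁅a, k⁆ by simp only [commutatorElement_def]; group,
      ← (hcen _ (hcom b k) a).eq, mul_inv_cancel_right, hσ _ (hcom _ _) _ (hcom _ _), mul_comm]
  set Z := Subgroup.center G with hZ
  have hsum : ∀ k : G, ∑ g : G, χ g k = if k ∈ Z then (Fintype.card G : ℤ) else 0 := by
    intro k
    split_ifs with hk
    · rw [Finset.sum_eq_card_nsmul (b := (1 : ℤ)) fun g _ => ?_]
      · simp
      · show σ ⁅g, k⁆ = 1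
        rw [commutatorElement_eq_one_iff_mul_comm.mpr (Subgroup.mem_center_iff.mp hk g)]
        simp [σ]
    · obtain ⟨g₀, hg₀⟩ : ∃ g₀, g₀ * k ≠ k * g₀ := by
        by_contra hall
        push Not at hall
        exact hk (Subgroup.mem_center_iff.mpr hall)
      have hneg : χ g₀ k = -1 := by
        show σ ⁅g₀, k⁆ = -1
        simp only [σ]
        rw [if_neg fun h => hg₀ (commutatorElement_eq_one_iff_mul_comm.mp h)]
      have h1 : ∑ g : G, χ (g₀ * g) k = ∑ g : G, χ g k := Equiv.sum_comp (Equiv.mulLeft g₀) (fun g => χ g k)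
      simp only [hχl, hneg, neg_one_mul, Finset.sum_neg_distrib] at h1
      linarith
  set S : ℤ := ∑ g : G, ε g with hS
  set TT : ℤ := ∑ k ∈ Finset.univ.filter (fun k => k ∈ Z), ε k with hTT
  have hS2 : S * S = Fintype.card G * TT := by
    calc S * S = ∑ g : G, ∑ h : G, ε g * ε h := by rw [hS, Finset.sum_mul_sum]
      _ = ∑ g : G, ∑ k : G, ε k * χ g k := by
        refine Finset.sum_congr rfl fun g _ => (Equiv.sum_comp (Equiv.mulLeft g⁻¹) (fun h => ε g * ε h)).symm.trans ?_
        refine Finset.sum_congr rfl fun k _ => ?_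
        show ε g * ε (g⁻¹ * k) = ε k * χ g k
        have h1 := hmul g (g⁻¹ * k)
        rw [mul_inv_cancel_left] at h1
        have h2 : σ ⁅g⁻¹ * k, g⁆ = χ g k := by
          show χ (g⁻¹ * k) g = χ g k
          rw [hχl, hχsymm k g]
          have : χ g⁻¹ g = 1 := by simp [χ, σ, commutatorElement_def]
          rw [this, one_mul]
        rw [h1, h2, mul_assoc (ε g * ε (g⁻¹ * k)), hσsq _ (hcom g k), mul_one]
      _ = ∑ k : G, ε k * ∑ g : G, χ g k := by rw [Finset.sum_comm]; simp only [Finset.mul_sum]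
      _ = Fintype.card G * TT := by
        rw [hTT, Finset.mul_sum, Finset.sum_filter]
        refine Finset.sum_congr rfl fun k _ => ?_
        rw [hsum k]
        split_ifs <;> ring
  -- on the centre the sign is a homomorphism
  have hTcases : TT = 0 ∨ (TT = Nat.card Z ∧ ∀ k ∈ Z, ε k = 1) := by
    by_cases hall : ∀ k ∈ Z, ε k = 1
    · refine Or.inr ⟨?_, hall⟩
      rw [hTT, Finset.sum_eq_card_nsmul (b := (1 : ℤ)) fun k hk => hall k (Finset.mem_filter.mp hk).2]
      rw [Nat.card_eq_fintype_card, Fintype.card_subtype]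
      simp
    · left
      push Not at hall
      obtain ⟨k₀, hk₀, hk₀'⟩ := hall
      have hneg : ε k₀ = -1 := by
        show σ (k₀ * k₀) = -1
        have h1 : ¬ k₀ * k₀ = 1 := fun h => hk₀' (show σ (k₀ * k₀) = 1 by simp [σ, h])
        simp [σ, h1]
      have h1 : ∑ k ∈ Finset.univ.filter (fun k => k ∈ Z), ε (k₀ * k) = TT := by
        refine Finset.sum_nbij' (fun k => k₀ * k) (fun k => k₀⁻¹ * k) ?_ ?_ ?_ ?_ ?_
        · intro k hk
          simp only [Finset.coe_filter, Finset.mem_univ, true_and, Set.mem_setOf_eq, Finset.mem_filter] at hk ⊢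
          exact Z.mul_mem hk₀ hk
        · intro k hk
          simp only [Finset.coe_filter, Finset.mem_univ, true_and, Set.mem_setOf_eq, Finset.mem_filter] at hk ⊢
          exact Z.mul_mem (Z.inv_mem hk₀) hk
        · intro k _; exact inv_mul_cancel_left _ _
        · intro k _; exact mul_inv_cancel_left _ _
        · intro k _; rfl
      have h2 : ∀ k ∈ Finset.univ.filter (fun k => k ∈ Z), ε (k₀ * k) = - ε k := fun k hk => by
        rw [hmul, hneg, commutatorElement_eq_one_iff_mul_comm.mpr (Subgroup.mem_center_iff.mp hk₀ k)]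
        simp [σ]
      rw [Finset.sum_congr rfl h2, Finset.sum_neg_distrib, ← hTT] at h1
      linarith
  set N := Nat.card {x : G // x ^ 2 = 1} with hN
  have hcardG : Fintype.card G = 2 ^ (d + 1) := by
    rw [← Nat.card_eq_fintype_card, ← Φ.card_mul_index, hΦ, hd, pow_succ']
  have hNS : (2 : ℤ) * N = 2 ^ (d + 1) + S := by
    have h1 : (N : ℤ) = ∑ g : G, if g * g = 1 then (1 : ℤ) else 0 := by
      rw [Finset.sum_boole, hN, Nat.card_eq_fintype_card, Fintype.card_subtype]
      simp only [pow_two]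
    rw [h1, hS, Finset.mul_sum, ← sub_eq_iff_eq_add', show ((2 : ℤ) ^ (d + 1)) = ∑ _g : G, (1 : ℤ) by
      rw [Finset.sum_const, Finset.card_univ, hcardG]; simp, ← Finset.sum_sub_distrib]
    refine Finset.sum_congr rfl fun g _ => ?_
    by_cases h : g * g = 1 <;> simp [ε, σ, h]
  obtain ⟨e', he'⟩ := (hG.to_subgroup Z).exists_card_eq
  obtain ⟨e, rfl⟩ : ∃ e, e' = e + 1 := by
    refine ⟨e' - 1, ?_⟩
    rcases Nat.eq_zero_or_pos e' with rfl | h
    · exfalso
      rw [pow_zero, Subgroup.card_eq_one] at he'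
      exact hzne (Subgroup.mem_bot.mp (he' ▸ (Subgroup.mem_center_iff.mpr fun g => (hzc g).eq) : (w₀ : G) ∈ (⊥ : Subgroup G)))
    · omega
  have hed : e ≤ d := by
    have : 2 ^ (e + 1) ≤ 2 ^ (d + 1) := by rw [← he', ← hcardG, ← Nat.card_eq_fintype_card]; exact Subgroup.card_le_card_group Z
    have := (Nat.pow_le_pow_iff_right (by norm_num)).mp this
    omega
  -- the value of the sum
  have hmain : S = 0 ∨ ∃ r, 1 ≤ r ∧ d = e + 2 * r ∧ (S = 2 * 2 ^ (d - r) ∨ S = -(2 * 2 ^ (d - r))) := by
    rcases hTcases with h | ⟨h, hall⟩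
    · left
      rw [h, mul_zero, mul_self_eq_zero] at hS2
      exact hS2
    · right
      rw [h, he', hcardG] at hS2
      have hlt : e < d := by
        by_contra hc
        have htop : Z = ⊤ := Subgroup.eq_top_of_card_eq _ (by
          rw [he', Nat.card_eq_fintype_card, hcardG, show e = d by omega])
        have hexp : ∀ g : G, g ^ 2 = 1 := fun g => by
          have h1 := hall g (htop ▸ Subgroup.mem_top g)
          by_contra hg
          have hg' : ¬ g * g = 1 := by rwa [← pow_two]
          simp [ε, σ, hg'] at h1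
        -- an elementary abelian group has trivial Frattini subgroup
        have h2 : Φ ≤ ⊥ := CfsgLib.RankFrattini.frattini_le_of_elementary hG ⊥
          (fun a b => Subgroup.mem_bot.mpr (commutatorElement_eq_one_iff_mul_comm.mpr
            (Subgroup.mem_center_iff.mp (show b ∈ Z by rw [htop]; exact Subgroup.mem_top b) a)))
          (fun a => Subgroup.mem_bot.mpr (hexp a))
        exact hzne (Subgroup.mem_bot.mp (h2 w₀.2))
      have hnat : S.natAbs * S.natAbs = 2 ^ (d + e + 2) := by
        have h3 := congrArg Int.natAbs hS2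
        rw [Int.natAbs_mul] at h3
        rw [h3]
        norm_num [Int.natAbs_mul, Int.natAbs_pow]
        ring
      obtain ⟨c, -, hc⟩ := (Nat.dvd_prime_pow Nat.prime_two).mp (Dvd.intro _ hnat : S.natAbs ∣ 2 ^ (d + e + 2))
      rw [hc, ← pow_add] at hnat
      have hc2 := Nat.pow_right_injective le_rfl hnat
      refine ⟨d + 1 - c, by omega, by omega, ?_⟩
      have hc3 : (2 : ℕ) * 2 ^ (d - (d + 1 - c)) = 2 ^ c := by rw [← pow_succ']; congr 1; omega
      have hc4 : (2 : ℤ) * 2 ^ (d - (d + 1 - c)) = 2 ^ c := by exact_mod_cast hc3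
      rw [hc4]
      rcases Int.natAbs_eq S with h4 | h4
      · left; rw [h4, hc]; norm_num
      · right; rw [h4, hc]; norm_num
  refine ⟨?_, ?_⟩
  · rcases hmain with h | ⟨r, hr, hrd, h | h⟩
    · left
      rw [h, add_zero, pow_succ'] at hNS
      exact_mod_cast (mul_left_cancel₀ two_ne_zero hNS)
    · refine Or.inr ⟨r, hr, by omega, Or.inl ?_⟩
      rw [h, pow_succ', ← mul_add] at hNS
      exact_mod_cast (mul_left_cancel₀ two_ne_zero hNS)
    · refine Or.inr ⟨r, hr, by omega, Or.inr ?_⟩
      have h5 : (2 : ℤ) * (N + 2 ^ (d - r)) = 2 * 2 ^ d := by rw [mul_add, hNS, h, pow_succ']; ring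
      exact_mod_cast (mul_left_cancel₀ two_ne_zero h5)
  · intro r hdr hj
    have hS' : S = 2 * 2 ^ r ∨ S = -(2 * 2 ^ r) := by
      rcases hj with h | h
      · left
        have h5 : (N : ℤ) = 2 ^ d + 2 ^ r := by exact_mod_cast h
        rw [h5, pow_succ', mul_add] at hNS
        linarith
      · right
        have h5 : (N : ℤ) + 2 ^ r = 2 ^ d := by exact_mod_cast h
        rw [pow_succ', ← h5, mul_add] at hNS
        linarith
    have he0 : e = 0 := by
      have hSne : S ≠ 0 := by
        have h12 : (0 : ℤ) < 2 ^ r := pow_pos two_pos r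
        rcases hS' with h | h <;> omega
      obtain ⟨r', -, hrd, hv⟩ := hmain.resolve_left hSne
      have h6 : (2 : ℤ) ^ (d - r') = 2 ^ r := by
        have hp1 : (0 : ℤ) < 2 ^ (d - r') := by positivity
        have hp2 : (0 : ℤ) < 2 ^ r := by positivity
        rcases hS' with h | h <;> rcases hv with h' | h' <;> rw [h] at h' <;> linarith
      have h7 : d - r' = r := Nat.pow_right_injective le_rfl (show 2 ^ (d - r') = 2 ^ r by exact_mod_cast h6)
      omega
    subst he0
    have hZΦ : Φ = Z := Subgroup.eq_of_le_of_card_ge (fun a ha => Subgroup.mem_center_iff.mpr fun g => (hcen a ha g).eq.symm)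
      (by rw [he', hΦ]; norm_num)
    refine ⟨⟨hG, hZΦ, ?_⟩, he'⟩
    rw [← hZ, ← hZΦ]
    refine le_antisymm (CfsgLib.commutator_le_frattini_pGroup hG) fun a ha => ?_
    rcases hcases a ha with rfl | rfl
    · exact one_mem _
    · by_contra hnot
      -- otherwise the group is abelian, so its centre has order two
      have hall : ∀ g h : G, g * h = h * g := fun g h => by
        rw [← commutatorElement_eq_one_iff_mul_comm]
        rcases hcases _ (hcom g h) with h1 | h1
        · exact h1
        · exact absurd (h1 ▸ Subgroup.commutator_mem_commutator (Subgroup.mem_top g) (Subgroup.mem_top h)) hnot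
      have htop : Z = ⊤ := eq_top_iff.mpr fun g _ => Subgroup.mem_center_iff.mpr fun h => hall h g
      have : d = 0 := by
        have h8 := he'
        rw [htop, Subgroup.card_top, Nat.card_eq_fintype_card, hcardG] at h8
        have := Nat.pow_right_injective le_rfl h8
        omega
      have h9 : (frattini G).index = 1 := by rw [hd, this, pow_zero]
      exact hzne (Subgroup.mem_bot.mp (show (w₀ : G) ∈ (⊥ : Subgroup G) by
        have hft : frattini G = ⊤ := Subgroup.index_eq_one.mp h9
        have h10 := frattini_nongenerating (G := G) (K := ⊥) (by rw [hft, sup_top_eq])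
        rw [h10]; exact Subgroup.mem_top _))

end Cfsg.Agent.S3772
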