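import Cfsg.Statements.S3773
import Mathlib
import Cfsg.Agent.Lib.Elementary
import Cfsg.Agent.Lib.RankFrattini
-- import your own Cfsg.Agent.* helpers here

set_option autoImplicit false
open Cfsg

namespace Cfsg.Agent.S3773

open Subgroup CfsgLib
open scoped commutatorElement IsMulCommutative

universe u

variable {G : Type u} [Group G]

/-- `f` has degree at most `k`. -/
def Deg : ℕ → (G → ZMod 2) → Prop
  | 0, f => ∀ x, f x = f 1
  | k + 1, f => ∀ a, Deg k (fun x => f (x * a) + f x)

theorem deg_succ : ∀ (k : ℕ) (f : G → ZMod 2), Deg k f → Deg (k + 1) f := by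
  intro k
  induction k with
  | zero => intro f h a x; simp only [h (x * a), h x, h (1 * a), CharTwo.add_self_eq_zero]
  | succ k ih => intro f h a; exact ih _ (h a)

theorem deg_mono {k l : ℕ} (hkl : k ≤ l) {f : G → ZMod 2} (h : Deg k f) : Deg l f := by
  induction hkl with
  | refl => exact h
  | step _ ih => exact deg_succ _ _ ih

theorem deg_const (c : ZMod 2) : ∀ k : ℕ, Deg k (fun _ : G => c) := fun k => deg_mono (Nat.zero_le k) fun _ => rfl

theorem deg_add : ∀ (k : ℕ) (f g : G → ZMod 2), Deg k f → Deg k g → Deg k (fun x => f x + g x) := by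
  intro k
  induction k with
  | zero => intro f g hf hg x; simp only [hf x, hg x]
  | succ k ih =>
    intro f g hf hg a
    have := ih _ _ (hf a) (hg a)
    exact cast (congrArg (Deg k) (funext fun x => by ring)) this

theorem deg_translate : ∀ (k : ℕ) (f : G → ZMod 2) (b : G), Deg k f → Deg k (fun x => f (x * b)) := by
  intro k
  induction k with
  | zero => intro f b hf x; simp only [hf (x * b), hf (1 * b)]
  | succ k ih =>
    intro f b hf a
    have := ih _ b (hf (b⁻¹ * a * b))
    exact cast (congrArg (Deg k) (funext fun x => by simp [mul_assoc])) this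

theorem deg_mul : ∀ (n i j : ℕ), i + j = n → ∀ f g : G → ZMod 2, Deg i f → Deg j g → Deg n (fun x => f x * g x) := by
  intro n
  induction n with
  | zero =>
    intro i j hij f g hf hg x
    obtain ⟨rfl, rfl⟩ : i = 0 ∧ j = 0 := by omega
    simp only [hf x, hg x]
  | succ n ih =>
    intro i j hij f g hf hg a
    have h1 : Deg n (fun x => (f (x * a) + f x) * g (x * a)) := by
      cases i with
      | zero =>
        exact cast (congrArg (Deg n) (funext fun x => by
          rw [hf (x * a), hf x, CharTwo.add_self_eq_zero, zero_mul])) (deg_const (0 : ZMod 2) n)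
      | succ i => exact ih i j (by omega) _ _ (hf a) (deg_translate j g a hg)
    have h2 : Deg n (fun x => f x * (g (x * a) + g x)) := by
      cases j with
      | zero =>
        exact cast (congrArg (Deg n) (funext fun x => by
          rw [hg (x * a), hg x, CharTwo.add_self_eq_zero, mul_zero])) (deg_const (0 : ZMod 2) n)
      | succ j => exact ih i j (by omega) _ _ hf (hg a)
    refine cast (congrArg (Deg n) (funext fun x => ?_)) (deg_add n _ _ h1 h2)
    have := CharTwo.add_self_eq_zero (f x * g (x * a))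
    linear_combination this

theorem deg_prod {ι : Type*} (f : ι → G → ZMod 2) (d : ℕ) (hf : ∀ i, Deg d (f i)) (s : Finset ι) :
    Deg (d * s.card) (fun x => ∏ i ∈ s, f i x) := by
  classical
  induction s using Finset.induction_on with
  | empty => simpa using deg_const (G := G) (1 : ZMod 2) 0
  | insert i s his ih =>
    have := deg_mul (d * (insert i s).card) d (d * s.card) (by rw [Finset.card_insert_of_notMem his]; ring) _ _ (hf i) ih
    exact cast (congrArg (Deg _) (funext fun x => by rw [Finset.prod_insert his])) this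

/-- A subgroup with indicator of degree `k` has index at most `2 ^ k`. -/
theorem index_le [Finite G] : ∀ (k : ℕ) (W : Subgroup G) (f : G → ZMod 2), (∀ a b : G, a * b * a⁻¹ * b⁻¹ ∈ W) →
    (∀ a : G, a * a ∈ W) → (∀ x, f x = 1 ↔ x ∈ W) → Deg k f → W.index ≤ 2 ^ k := by
  classical
  intro k
  induction k with
  | zero =>
    intro W f _ _ hf hd
    have htop : W = ⊤ := eq_top_iff.mpr fun x _ => (hf x).mp ((hd x).trans ((hf 1).mpr W.one_mem))
    rw [htop, Subgroup.index_top, pow_zero]
  | succ k ih =>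
    intro W f hc hs hf hd
    by_cases htop : W = ⊤
    · rw [htop, Subgroup.index_top]; exact Nat.one_le_two_pow
    obtain ⟨a, -, ha⟩ := SetLike.exists_of_lt (lt_top_iff_ne_top.mpr htop)
    have hn : W.Normal := ⟨fun w hw g => by
      have := W.mul_mem (hc g w) hw
      rwa [show g * w * g⁻¹ * w⁻¹ * w = g * w * g⁻¹ by group] at this⟩
    let W' : Subgroup G :=
      { carrier := {x | x ∈ W ∨ x * a ∈ W}
        one_mem' := Or.inl W.one_mem
        mul_mem' := fun {x y} hx hy => by
          rcases hy with hy | hy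
          · rcases hx with hx | hx
            · exact Or.inl (W.mul_mem hx hy)
            · right
              rw [show x * y * a = (x * a) * (a⁻¹ * y * a⁻¹⁻¹) by group]
              exact W.mul_mem hx (hn.conj_mem y hy a⁻¹)
          · rcases hx with hx | hx
            · right; rw [mul_assoc]; exact W.mul_mem hx hy
            · left
              rw [show x * y = (x * a) * ((a * a)⁻¹ * (a * (y * a) * a⁻¹)) by group]
              exact W.mul_mem hx (W.mul_mem (W.inv_mem (hs a)) (hn.conj_mem _ hy a))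
        inv_mem' := fun {x} hx => by
          rcases hx with hx | hx
          · exact Or.inl (W.inv_mem hx)
          · right
            rw [show x⁻¹ * a = (a * (x * a)⁻¹ * a⁻¹) * (a * a) by group]
            exact W.mul_mem (hn.conj_mem _ (W.inv_mem hx) a) (hs a) }
    have hle : W ≤ W' := fun x hx => Or.inl hx
    have hex : ∀ x : G, ¬ (x ∈ W ∧ x * a ∈ W) := fun x hh => ha (by
      have := W.mul_mem (W.inv_mem hh.1) hh.2
      rwa [inv_mul_cancel_left] at this)
    have hf' : ∀ x, f (x * a) + f x = 1 ↔ x ∈ W' := by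
      intro x
      have h01 : ∀ y : ZMod 2, y = 0 ∨ y = 1 := by decide
      show _ ↔ (x ∈ W ∨ x * a ∈ W)
      rcases h01 (f x) with e1 | e1 <;> rcases h01 (f (x * a)) with e2 | e2 <;> rw [e1, e2]
      · refine iff_of_false (by decide) ?_
        rw [← hf x, ← hf (x * a), e1, e2]; decide
      · exact iff_of_true (by decide) (Or.inr ((hf _).mp e2))
      · exact iff_of_true (by decide) (Or.inl ((hf _).mp e1))
      · exact absurd ⟨(hf _).mp e1, (hf _).mp e2⟩ (hex x)
    have h1 := ih W' _ (fun x y => hle (hc x y)) (fun x => hle (hs x)) hf' (hd a)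
    have hrel : W.relIndex W' ≤ 2 := by
      refine le_of_eq ?_
      show (W.subgroupOf W').index = 2
      rw [Subgroup.index_eq_two_iff]
      refine ⟨⟨a, Or.inr (hs a)⟩, fun b => ?_⟩
      simp only [Subgroup.mem_subgroupOf, Subgroup.coe_mul]
      rcases b.2 with h | h
      · exact Or.inr ⟨h, fun h' => hex b ⟨h, h'⟩⟩
      · exact Or.inl ⟨h, fun h' => hex b ⟨h', h⟩⟩
    rw [← Subgroup.relIndex_mul_index hle, pow_succ']
    exact Nat.mul_le_mul hrel h1

/-- The main bound. -/
theorem bound [Finite G] (hG' : ∀ a b c : G, ⁅a, b⁆ * c = c * ⁅a, b⁆) (M : Subgroup G)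
    (hMsq : ∀ x : G, x * x ∈ M) (hM : ∀ a ∈ M, ∀ b ∈ M, a * b = b * a) (hM2 : ∀ a ∈ M, a * a = 1)
    (M₀ : Subgroup G) (hM₀ : M₀ ≤ M) (W : Subgroup G) (hW : ∀ x, x ∈ W ↔ x * x ∈ M₀)
    (hWc : ∀ a b : G, a * b * a⁻¹ * b⁻¹ ∈ W) (hWs : ∀ a : G, a * a ∈ W) :
    W.index ≤ (M₀.relIndex M) ^ 2 := by
  classical
  have hMc : IsMulCommutative M := ⟨⟨fun a b => Subtype.ext (hM a a.2 b b.2)⟩⟩
  set π := QuotientGroup.mk' (M₀.subgroupOf M)
  have hQc : ∀ a b : M ⧸ M₀.subgroupOf M, a * b = b * a := by
    intro a b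
    induction a using QuotientGroup.induction_on with
    | H a => induction b using QuotientGroup.induction_on with
      | H b => rw [← QuotientGroup.mk_mul, ← QuotientGroup.mk_mul, hMc.is_comm.comm a b]
  letI : CommGroup (M ⧸ M₀.subgroupOf M) :=
    { (inferInstance : Group (M ⧸ M₀.subgroupOf M)) with mul_comm := hQc }
  have h2 : ∀ v : Additive (M ⧸ M₀.subgroupOf M), 2 • v = 0 := by
    intro v
    obtain ⟨w, hw⟩ := QuotientGroup.mk'_surjective _ (Additive.toMul v)
    apply Additive.toMul.injective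
    rw [toMul_nsmul, toMul_zero, ← hw, ← map_pow, show w ^ 2 = 1 from Subtype.ext (by
      rw [SubgroupClass.coe_pow, pow_two]; exact hM2 w w.2), map_one]
  letI : Module (ZMod 2) (Additive (M ⧸ M₀.subgroupOf M)) := AddCommGroup.zmodModule h2
  set V := Additive (M ⧸ M₀.subgroupOf M)
  set r := Module.finrank (ZMod 2) V
  let b := Module.finBasis (ZMod 2) V
  have hcard : M₀.relIndex M = 2 ^ r := by
    show (M₀.subgroupOf M).index = 2 ^ r
    rw [Subgroup.index_eq_card]
    show Nat.card V = _
    rw [Module.natCard_eq_pow_finrank (K := ZMod 2), Nat.card_zmod]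
  -- coordinates of squares
  let sq : G → V := fun x => Additive.ofMul (π ⟨x * x, hMsq x⟩)
  let q : Fin r → G → ZMod 2 := fun i x => b.repr (sq x) i
  have hcm : ∀ x a : G, ⁅a, x⁆ ∈ M := fun x a => by
    rw [show ⁅a, x⁆ = (a * a) * ((a⁻¹ * x) * (a⁻¹ * x)) * (x⁻¹ * x⁻¹) by rw [commutatorElement_def]; group]
    exact M.mul_mem (M.mul_mem (hMsq a) (hMsq _)) (hMsq _)
  have hsqmul : ∀ x a : G, sq (x * a) = sq x + Additive.ofMul (π ⟨⁅a, x⁆, hcm x a⟩) + sq a := by
    intro x a
    have e : (x * a) * (x * a) = x * x * ⁅a, x⁆ * (a * a) := by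
      have hxc := hG' a x x
      calc (x * a) * (x * a) = x * (⁅a, x⁆ * x) * (a * a) := by rw [commutatorElement_def]; group
        _ = x * (x * ⁅a, x⁆) * (a * a) := by rw [hxc]
        _ = _ := by group
    simp only [sq, ← ofMul_mul, ← map_mul]
    exact congrArg (fun w => Additive.ofMul (π w)) (Subtype.ext e)
  have hbil : ∀ x y a : G, Additive.ofMul (π ⟨⁅a, x * y⁆, hcm (x * y) a⟩) =
      Additive.ofMul (π ⟨⁅a, x⁆, hcm x a⟩) + Additive.ofMul (π ⟨⁅a, y⁆, hcm y a⟩) := by
    intro x y a
    have e : ⁅a, x * y⁆ = ⁅a, x⁆ * ⁅a, y⁆ := by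
      calc ⁅a, x * y⁆ = ⁅a, x⁆ * (x * ⁅a, y⁆ * x⁻¹) := by simp only [commutatorElement_def]; group
        _ = ⁅a, x⁆ * ⁅a, y⁆ := by rw [← hG' a y x, mul_inv_cancel_right]
    rw [← ofMul_mul, ← map_mul]
    exact congrArg (fun w => Additive.ofMul (π w)) (Subtype.ext e)
  have hqdeg : ∀ i, Deg 2 (q i) := by
    intro i a c x
    simp only [q, hsqmul, hbil, map_add, Finsupp.coe_add, Pi.add_apply]
    set A1 := b.repr (sq a) i
    set A2 := b.repr (sq c) i
    generalize b.repr (sq x) i = X
    generalize b.repr (sq 1) i = O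
    generalize b.repr (Additive.ofMul (π ⟨⁅a, x⁆, hcm x a⟩)) i = Y
    generalize b.repr (Additive.ofMul (π ⟨⁅a, (1 : G)⁆, hcm 1 a⟩)) i = Y1
    generalize b.repr (Additive.ofMul (π ⟨⁅c, x⁆, hcm x c⟩)) i = Z
    generalize b.repr (Additive.ofMul (π ⟨⁅c, (1 : G)⁆, hcm 1 c⟩)) i = Z1
    generalize b.repr (Additive.ofMul (π ⟨⁅a, c⁆, hcm c a⟩)) i = B
    revert X O Y Y1 Z Z1 B
    generalize A1 = P
    generalize A2 = Q
    revert P Q
    decide
  have hdeg : Deg (2 * r) (fun x => ∏ i : Fin r, (q i x + 1)) := by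
    have := deg_prod (fun i x => q i x + 1) 2 (fun i => deg_add 2 _ _ (hqdeg i) (deg_const 1 2)) Finset.univ
    simpa using this
  have hind : ∀ x, (∏ i : Fin r, (q i x + 1)) = 1 ↔ x ∈ W := by
    intro x
    rw [hW]
    have h01 : ∀ y : ZMod 2, y + 1 = 1 ↔ y = 0 := by decide
    have h02 : ∀ y : ZMod 2, y + 1 = 0 ↔ y ≠ 0 := by decide
    have hz : (∀ i, q i x = 0) ↔ x * x ∈ M₀ := by
      constructor
      · intro h
        have e : sq x = 0 := b.repr.injective (by ext i; simpa using h i)
        exact (QuotientGroup.eq_one_iff (⟨x * x, hMsq x⟩ : M)).mp (congrArg Additive.toMul e)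
      · intro h i
        have e : sq x = 0 := congrArg Additive.ofMul ((QuotientGroup.eq_one_iff (⟨x * x, hMsq x⟩ : M)).mpr h)
        simp [q, e]
    rw [← hz]
    constructor
    · intro h i
      by_contra hi
      rw [Finset.prod_eq_zero (Finset.mem_univ i) ((h02 _).mpr hi)] at h
      exact zero_ne_one h
    · intro h
      exact Finset.prod_eq_one fun i _ => (h01 _).mpr (h i)
  rw [hcard, ← pow_mul, mul_comm r 2]
  exact index_le (2 * r) W _ hWc hWs hind hdeg

/-- Let G be a finite 2-group of nilpotency class at most 2 and exponent dividing 4 in which the elements x with x² = 1 form a subgroup N. Then |G| ≤ |N|³, and |G| < |N|³ unless G is special. -/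
theorem result {G : Type*} [Group G] [Finite G] (hG : IsPGroup 2 G) (hcl : (⊤ : Subgroup G).lowerCentralSeries 2 = ⊥) (hexp : ∀ x : G, x ^ 4 = 1) (hN : ∀ x y : G, x ^ 2 = 1 → y ^ 2 = 1 → (x * y) ^ 2 = 1) : Nat.card G ≤ Nat.card {x : G // x ^ 2 = 1} ^ 3 ∧ (¬ Cfsg.IsSpecial 2 G → Nat.card G < Nat.card {x : G // x ^ 2 = 1} ^ 3) := by
  classical
  have hsq1 : ∀ x : G, x ^ 2 = 1 ↔ x * x = 1 := fun x => by rw [pow_two]
  set N : Subgroup G :=
    { carrier := {x | x ^ 2 = 1}
      one_mem' := one_pow 2
      mul_mem' := fun {x y} hx hy => hN x y hx hy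
      inv_mem' := fun {x} hx => by show x⁻¹ ^ 2 = 1; rw [inv_pow, show x ^ 2 = 1 from hx, inv_one] } with hNdef
  have hNc : Nat.card {x : G // x ^ 2 = 1} = Nat.card N := rfl
  have hN2 : ∀ a ∈ N, a * a = 1 := fun a ha => (hsq1 a).mp ha
  have hNab : ∀ a ∈ N, ∀ b ∈ N, a * b = b * a := by
    intro a ha b hb
    have h1 := hN2 _ (N.mul_mem ha hb)
    have e : (a * b)⁻¹ = a * b := inv_eq_of_mul_eq_one_right h1
    rw [mul_inv_rev, inv_eq_of_mul_eq_one_right (hN2 a ha), inv_eq_of_mul_eq_one_right (hN2 b hb)] at e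
    exact e.symm
  have hNsq : ∀ x : G, x * x ∈ N := fun x => by
    show (x * x) ^ 2 = 1
    rw [← hexp x, ← pow_two, ← pow_mul]
  have hG' : ∀ a b c : G, ⁅a, b⁆ * c = c * ⁅a, b⁆ := by
    intro a b c
    have h1 : ⁅⁅a, b⁆, c⁆ ∈ (⊤ : Subgroup G).lowerCentralSeries 2 := by
      rw [Subgroup.lowerCentralSeries_succ]
      refine Subgroup.commutator_mem_commutator ?_ (Subgroup.mem_top c)
      rw [Subgroup.lowerCentralSeries_succ, Subgroup.lowerCentralSeries_zero]
      exact Subgroup.commutator_mem_commutator (Subgroup.mem_top a) (Subgroup.mem_top b)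
    rw [hcl, Subgroup.mem_bot, commutatorElement_eq_one_iff_mul_comm] at h1
    exact h1
  have hcN : ∀ a b : G, a * b * a⁻¹ * b⁻¹ ∈ N := fun a b => by
    rw [show a * b * a⁻¹ * b⁻¹ = (a * a) * ((a⁻¹ * b) * (a⁻¹ * b)) * (b⁻¹ * b⁻¹) by group]
    exact N.mul_mem (N.mul_mem (hNsq a) (hNsq _)) (hNsq _)
  have hNW : ∀ x, x ∈ N ↔ x * x ∈ (⊥ : Subgroup G) := fun x => by rw [Subgroup.mem_bot]; exact hsq1 x
  have hbound : ∀ M : Subgroup G, (∀ x : G, x * x ∈ M) → M ≤ N → N.index ≤ Nat.card M ^ 2 := by
    intro M hM hMN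
    have := bound hG' M hM (fun a ha b hb => hNab a (hMN ha) b (hMN hb)) (fun a ha => hN2 a (hMN ha)) ⊥ bot_le N
      hNW hcN hNsq
    rwa [Subgroup.relIndex_bot_left] at this
  have hcardG : Nat.card G = Nat.card N * N.index := N.card_mul_index.symm
  rw [hNc, hcardG, pow_succ' (Nat.card N) 2]
  refine ⟨Nat.mul_le_mul_left _ (hbound N hNsq le_rfl), fun hns => ?_⟩
  refine (Nat.mul_lt_mul_left Nat.card_pos).mpr ?_
  by_contra hcon
  push Not at hcon
  have hlt : ∀ M : Subgroup G, M < N → Nat.card M < Nat.card N := fun M hM =>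
    lt_of_le_of_ne (Subgroup.card_le_of_le hM.le) fun e => hM.ne (Subgroup.eq_of_le_of_card_ge hM.le e.ge)
  -- squares generate `N`
  set M := Subgroup.closure (Set.range fun x : G => x * x) with hMdef
  have hMN : M = N := by
    have hle : M ≤ N := (Subgroup.closure_le _).mpr (by rintro _ ⟨x, rfl⟩; exact hNsq x)
    by_contra hne
    have h1 := hbound M (fun x => Subgroup.subset_closure ⟨x, rfl⟩) hle
    exact absurd (hcon.trans h1) (not_le.mpr (Nat.pow_lt_pow_left (hlt M (lt_of_le_of_ne hle hne)) two_ne_zero))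
  -- commutators generate `N`
  set C := commutator G with hCdef
  have hCN' : C ≤ N := by
    rw [hCdef, commutator_def, Subgroup.commutator_le]
    intro a _ b _
    rw [commutatorElement_def]; exact hcN a b
  have hCN : C = N := by
    by_contra hne
    have hmul : ∀ x y : G, x * x ∈ C → y * y ∈ C → (x * y) * (x * y) ∈ C := by
      intro x y hx hy
      rw [show (x * y) * (x * y) = x * (⁅y, x⁆ * x) * (y * y) by rw [commutatorElement_def]; group, hG',
        ← mul_assoc x x]
      refine C.mul_mem (C.mul_mem hx ?_) hy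
      rw [hCdef, commutator_def]
      exact Subgroup.commutator_mem_commutator (Subgroup.mem_top _) (Subgroup.mem_top _)
    let A : Subgroup G :=
      { carrier := {x | x * x ∈ C}
        one_mem' := by show (1 : G) * 1 ∈ C; rw [mul_one]; exact C.one_mem
        mul_mem' := fun {x y} hx hy => hmul x y hx hy
        inv_mem' := fun {x} hx => by show x⁻¹ * x⁻¹ ∈ C; rw [← mul_inv_rev]; exact C.inv_mem hx }
    have hNA : N ≤ A := fun x hx => by show x * x ∈ C; rw [hN2 x hx]; exact C.one_mem
    -- the squaring homomorphism modulo `C`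
    let f : G →* N ⧸ C.subgroupOf N :=
      { toFun := fun x => QuotientGroup.mk' _ ⟨x * x, hNsq x⟩
        map_one' := by
          rw [show (⟨(1 : G) * 1, hNsq 1⟩ : N) = 1 from Subtype.ext (mul_one 1), map_one]
        map_mul' := fun x y => by
          rw [← map_mul, QuotientGroup.mk'_apply, QuotientGroup.mk'_apply, QuotientGroup.eq, Subgroup.mem_subgroupOf]
          show ((x * y) * (x * y))⁻¹ * ((x * x) * (y * y)) ∈ C
          rw [show (x * y) * (x * y) = x * (⁅y, x⁆ * x) * (y * y) by rw [commutatorElement_def]; group, hG',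
            show (x * (x * ⁅y, x⁆) * (y * y))⁻¹ * ((x * x) * (y * y)) = (y * y)⁻¹ * ⁅y, x⁆⁻¹ * (y * y) by group]
          have := (inferInstance : (commutator G).Normal).conj_mem ⁅y, x⁆⁻¹ (C.inv_mem (by
            rw [hCdef, commutator_def]
            exact Subgroup.commutator_mem_commutator (Subgroup.mem_top _) (Subgroup.mem_top _))) (y * y)⁻¹
          simpa using this }
    have hker : f.ker = A := by
      ext x
      rw [MonoidHom.mem_ker]
      exact QuotientGroup.eq_one_iff (⟨x * x, hNsq x⟩ : N)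
    have hAidx : A.index ≤ C.relIndex N := by
      rw [← hker, Subgroup.index_ker]
      exact Subgroup.card_le_card_group f.range
    have hCA : C ≤ A := fun x hx => hNA (hCN' hx)
    have hb := bound (G := A) (fun a b c => Subtype.ext (hG' a b c)) (C.subgroupOf A) (fun x => x.2)
      (fun a ha b hb => Subtype.ext (hNab a (hCN' ha) b (hCN' hb))) (fun a ha => Subtype.ext (hN2 a (hCN' ha)))
      ⊥ bot_le (N.subgroupOf A) (fun x => by
        rw [Subgroup.mem_subgroupOf, hNW, Subgroup.mem_bot, Subgroup.mem_bot, Subtype.ext_iff]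
        rfl) (fun a b => hcN a b) (fun a => hNsq a)
    rw [Subgroup.relIndex_bot_left, Nat.card_congr (Subgroup.subgroupOfEquivOfLe hCA).toEquiv] at hb
    have h2 : N.index ≤ Nat.card C ^ 2 * C.relIndex N := by
      rw [← Subgroup.relIndex_mul_index hNA]
      exact Nat.mul_le_mul hb hAidx
    have hCc : Nat.card C * C.relIndex N = Nat.card N := by
      have := Subgroup.relIndex_mul_relIndex (⊥ : Subgroup G) C N bot_le hCN'
      rwa [Subgroup.relIndex_bot_left, Subgroup.relIndex_bot_left] at this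
    have h3 := hcon.trans h2
    rw [show Nat.card C ^ 2 * C.relIndex N = Nat.card C * (Nat.card C * C.relIndex N) by ring, hCc, pow_two] at h3
    have := Nat.le_of_mul_le_mul_right h3 Nat.card_pos
    exact absurd this (not_le.mpr (hlt C (lt_of_le_of_ne hCN' hne)))
  have hNZ : N ≤ center G := by
    rw [← hCN, hCdef, commutator_def, Subgroup.commutator_le]
    intro a _ b _
    rw [Subgroup.mem_center_iff]
    exact fun g => (hG' a b g).symm
  have hZN : center G ≤ N := by
    by_contra hne
    obtain ⟨z, hz, hzN⟩ := SetLike.not_le_iff_exists.mp hne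
    have hzc : ∀ g : G, g * z = z * g := Subgroup.mem_center_iff.mp hz
    set M₀ := zpowers (z * z) with hM₀
    set W := N ⊔ zpowers z with hWdef
    have hW : ∀ x, x ∈ W ↔ x * x ∈ M₀ := by
      intro x
      constructor
      · intro hx
        have hn : zpowers z ≤ normalizer (N : Set G) := by
          rw [Subgroup.zpowers_le, Subgroup.mem_normalizer_iff]
          intro c; rw [← hzc c, mul_inv_cancel_right]
        rw [hWdef, ← SetLike.mem_coe, Subgroup.coe_mul_of_right_le_normalizer_left N (zpowers z) hn] at hx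
        obtain ⟨a, ha, _, ⟨i, rfl⟩, rfl⟩ := Set.mem_mul.mp hx
        have hcz : Commute a (z ^ i) := (show Commute a z from hzc a).zpow_right i
        refine ⟨i, ?_⟩
        show (z * z) ^ i = a * z ^ i * (a * z ^ i)
        rw [(Commute.refl z).mul_zpow]
        calc z ^ i * z ^ i = a * a * (z ^ i * z ^ i) := by rw [hN2 a ha, one_mul]
          _ = a * (a * z ^ i) * z ^ i := by group
          _ = a * (z ^ i * a) * z ^ i := by rw [hcz.eq]
          _ = _ := by group
      · rintro ⟨i, hi⟩
        have hi' : (z * z) ^ i = x * x := hi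
        have hcz : Commute x (z ^ i) := (show Commute x z from hzc x).zpow_right i
        have hy : x * (z ^ i)⁻¹ ∈ N := by
          show (x * (z ^ i)⁻¹) ^ 2 = 1
          rw [hcz.inv_right.mul_pow, pow_two, ← hi', (Commute.refl z).mul_zpow, inv_pow, pow_two, mul_inv_cancel]
        have := Subgroup.mul_mem_sup hy (zpow_mem (mem_zpowers z) i)
        rwa [inv_mul_cancel_right] at this
    have hzz : z * z ∈ N := hNsq z
    have hb := bound hG' N hNsq hNab hN2 M₀ (Subgroup.zpowers_le.mpr hzz) W hW
      (fun a b => Subgroup.mem_sup_left (hcN a b)) (fun a => Subgroup.mem_sup_left (hNsq a))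
    have hz2 : Nat.card M₀ = 2 := by
      rw [hM₀, Nat.card_zpowers]
      exact orderOf_eq_prime (by rw [pow_two]; exact hN2 _ hzz) (fun e => hzN ((hsq1 z).mpr e))
    have hrel : N.relIndex W ≤ 2 := by
      haveI : N.Normal := ⟨fun a ha g => by
        have := N.mul_mem (hcN g a) ha
        rwa [show g * a * g⁻¹ * a⁻¹ * a = g * a * g⁻¹ by group] at this⟩
      rw [hWdef, Subgroup.relIndex_sup_left]
      have h1 : N.relIndex (zpowers z) ∣ M₀.relIndex (zpowers z) :=
        Subgroup.relIndex_dvd_of_le_left _ (Subgroup.zpowers_le.mpr hzz)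
      have h4 : Nat.card (zpowers z) ≤ 4 := by
        rw [Nat.card_zpowers]
        exact Nat.le_of_dvd (by norm_num) (orderOf_dvd_of_pow_eq_one (hexp z))
      have h5 := Subgroup.relIndex_mul_relIndex (⊥ : Subgroup G) M₀ (zpowers z) bot_le
        (Subgroup.zpowers_le.mpr (mul_mem (mem_zpowers z) (mem_zpowers z)))
      rw [Subgroup.relIndex_bot_left, Subgroup.relIndex_bot_left, hz2] at h5
      have h6 : 0 < M₀.relIndex (zpowers z) := by
        refine Nat.pos_of_ne_zero fun e => ?_
        rw [e, mul_zero] at h5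
        exact Nat.card_pos.ne h5
      have := Nat.le_of_dvd h6 h1
      omega
    have hcN2 : Nat.card M₀ * M₀.relIndex N = Nat.card N := by
      have := Subgroup.relIndex_mul_relIndex (⊥ : Subgroup G) M₀ N bot_le (Subgroup.zpowers_le.mpr hzz)
      rwa [Subgroup.relIndex_bot_left, Subgroup.relIndex_bot_left] at this
    rw [hz2] at hcN2
    have h2 : N.index ≤ 2 * (M₀.relIndex N) ^ 2 := by
      rw [← Subgroup.relIndex_mul_index (show N ≤ W from le_sup_left)]
      exact Nat.mul_le_mul hrel hb
    have h3 := hcon.trans h2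
    rw [← hcN2, mul_pow] at h3
    have hpos : 0 < (M₀.relIndex N) ^ 2 := by
      refine pow_pos (Nat.pos_of_ne_zero fun e => ?_) 2
      rw [e, mul_zero] at hcN2
      exact Nat.card_pos.ne hcN2
    nlinarith
  have hZeq : center G = N := le_antisymm hZN hNZ
  refine hns ⟨hG, ?_, by rw [hZeq]; exact hCN⟩
  rw [hZeq]
  have : Fact (Nat.Prime 2) := ⟨Nat.prime_two⟩
  refine le_antisymm (RankFrattini.frattini_le_of_elementary hG N (fun a b => by rw [commutatorElement_def]; exact hcN a b)
    (fun a => by rw [pow_two]; exact hNsq a)) ?_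
  rw [← hMN, hMdef, Subgroup.closure_le]
  rintro _ ⟨x, rfl⟩
  show x * x ∈ frattini G
  rw [← pow_two]
  exact pow_mem_frattini_pGroup hG x

end Cfsg.Agent.S3773
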