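import Cfsg.Statements.S3774
import Mathlib
-- import your own Cfsg.Agent.* helpers here

set_option autoImplicit false
open Cfsg

namespace Cfsg.Agent.S3774

/-- Let G be a nontrivial finite 2-group whose automorphism group permutes the involutions of G transitively. Then every involution of G is central, so that the involutions together with 1 form the subgroup Ω₁(Z(G)), and if this subgroup has order q then |G| is a power of q. -/
theorem result {G : Type*} [Group G] [Finite G] [Nontrivial G] (hG : IsPGroup 2 G) (htrans : ∀ x y : G, x ≠ 1 → x ^ 2 = 1 → y ≠ 1 → y ^ 2 = 1 → ∃ a : MulAut G, a x = y) : (∀ x : G, x ^ 2 = 1 → x ∈ Subgroup.center G) ∧ ∃ m : ℕ, Nat.card G = Nat.card {z : G // z ^ 2 = 1} ^ m := by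
  classical
  have := Fact.mk Nat.prime_two
  have hcen : ∀ x : G, x ^ 2 = 1 → x ∈ Subgroup.center G := by
    intro x hx
    by_cases hx1 : x = 1
    · rw [hx1]; exact one_mem _
    have := hG.center_nontrivial
    obtain ⟨k, hk⟩ := IsPGroup.iff_card.mp (hG.to_subgroup (Subgroup.center G))
    have h2 : 2 ∣ Nat.card (Subgroup.center G) := by
      have h1 : 1 < Nat.card (Subgroup.center G) := Finite.one_lt_card
      rw [hk] at h1 ⊢
      exact dvd_pow_self 2 (fun e => by simp [e] at h1)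
    obtain ⟨z, hz⟩ := exists_prime_orderOf_dvd_card' 2 h2
    have hz1 : (z : G) ≠ 1 := fun e => by
      rw [show z = 1 from Subtype.ext e, orderOf_one] at hz; omega
    have hz2 : (z : G) ^ 2 = 1 := by rw [← SubgroupClass.coe_pow, ← hz, pow_orderOf_eq_one]; rfl
    obtain ⟨a, ha⟩ := htrans _ x hz1 hz2 hx1 hx
    rw [← ha, Subgroup.mem_center_iff]
    intro g
    obtain ⟨g, rfl⟩ := a.surjective g
    rw [← map_mul, ← map_mul, Subgroup.mem_center_iff.mp z.2 g]
  refine ⟨hcen, ?_⟩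
  let V : Subgroup G :=
    { carrier := {x | x ^ 2 = 1}
      one_mem' := one_pow 2
      mul_mem' := fun {a b} ha hb => by
        have hc : Commute a b := (Subgroup.mem_center_iff.mp (hcen a ha) b).symm
        show (a * b) ^ 2 = 1
        rw [hc.mul_pow, show a ^ 2 = 1 from ha, show b ^ 2 = 1 from hb, one_mul]
      inv_mem' := fun {a} ha => by show a⁻¹ ^ 2 = 1; rw [inv_pow, show a ^ 2 = 1 from ha, inv_one] }
  have hcard : Nat.card {z : G // z ^ 2 = 1} = Nat.card V := rfl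
  obtain ⟨f, hf⟩ := IsPGroup.iff_card.mp (hG.to_subgroup V)
  obtain ⟨s, hs⟩ := IsPGroup.iff_card.mp hG
  -- the last involution in the chain of squares
  have hex : ∀ g : {g : G // g ≠ 1}, ∃ k, orderOf (g : G) = 2 ^ (k + 1) := fun ⟨g, hg⟩ => by
    obtain ⟨k, hk⟩ := IsPGroup.iff_orderOf.mp hG g
    cases k with
    | zero => exact absurd (orderOf_eq_one_iff.mp (hk.trans (pow_zero 2))) hg
    | succ k => exact ⟨k, hk⟩
  choose K hK using hex
  have hτ1 : ∀ g : {g : G // g ≠ 1}, ((g : G) ^ 2 ^ K g) ^ 2 = 1 := fun g => by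
    rw [← pow_mul, ← pow_succ, ← hK g, pow_orderOf_eq_one]
  have hτ2 : ∀ g : {g : G // g ≠ 1}, (g : G) ^ 2 ^ K g ≠ 1 := fun g e => by
    have h := orderOf_dvd_of_pow_eq_one e
    rw [hK g, Nat.pow_dvd_pow_iff_le_right (le_refl 2)] at h
    omega
  let τ : {g : G // g ≠ 1} → {v : G // v ≠ 1 ∧ v ^ 2 = 1} := fun g => ⟨(g : G) ^ 2 ^ K g, hτ2 g, hτ1 g⟩
  have hequiv : ∀ (a : MulAut G) (g : {g : G // g ≠ 1}) (h : a (g : G) ≠ 1), (τ ⟨a g, h⟩ : G) = a (τ g) := by
    intro a g h
    show (a (g : G)) ^ 2 ^ K ⟨a g, h⟩ = a ((g : G) ^ 2 ^ K g)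
    have h1 : K ⟨a g, h⟩ = K g := by
      have e := hK ⟨a g, h⟩
      rw [show orderOf (a (g : G)) = orderOf (g : G) from MulEquiv.orderOf_eq a g, hK g] at e
      have := Nat.pow_right_injective (le_refl 2) e
      omega
    rw [h1, map_pow]
  rcases isEmpty_or_nonempty {v : G // v ≠ 1 ∧ v ^ 2 = 1} with he | ⟨⟨v₀⟩⟩
  · refine ⟨s, ?_⟩
    rcases Nat.eq_zero_or_pos s with rfl | hs0
    · rw [hs]; simp
    · obtain ⟨g, hg⟩ := exists_prime_orderOf_dvd_card' (G := G) 2 (hs ▸ dvd_pow_self 2 (by omega))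
      exact (he.false ⟨g, fun e => by rw [e, orderOf_one] at hg; omega, by rw [← hg, pow_orderOf_eq_one]⟩).elim
  have hfib : ∀ v, Nat.card {g // τ g = v} = Nat.card {g // τ g = v₀} := by
    intro v
    obtain ⟨a, ha⟩ := htrans v v₀ v.2.1 v.2.2 v₀.2.1 v₀.2.2
    refine Nat.card_congr (Equiv.subtypeEquiv (Equiv.subtypeEquiv a.toEquiv fun g => ?_) fun g => ?_)
    · show g ≠ 1 ↔ a g ≠ 1
      exact not_congr (EmbeddingLike.map_eq_one_iff.symm)
    · have h := hequiv a g (fun e => g.2 (EmbeddingLike.map_eq_one_iff.mp e))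
      constructor
      · intro e
        exact Subtype.ext (h.trans ((congrArg (fun t : {v : G // v ≠ 1 ∧ v ^ 2 = 1} => a t.1) e).trans ha))
      · intro e
        refine Subtype.ext (a.injective ?_)
        rw [← h, ha]
        exact congrArg Subtype.val e
  have : Fintype {v : G // v ≠ 1 ∧ v ^ 2 = 1} := Fintype.ofFinite _
  have h1 : Nat.card {g : G // g ≠ 1} = Nat.card {v : G // v ≠ 1 ∧ v ^ 2 = 1} * Nat.card {g // τ g = v₀} := by
    rw [← Nat.card_congr (Equiv.sigmaFiberEquiv τ), Nat.card_sigma, Finset.sum_congr rfl fun v _ => hfib v,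
      Finset.sum_const, Finset.card_univ, smul_eq_mul, Nat.card_eq_fintype_card (α := {v : G // v ≠ 1 ∧ v ^ 2 = 1})]
  have hne : ∀ (S : Type _) [Finite S] (o : S), Nat.card {x : S // x ≠ o} = Nat.card S - 1 := fun S _ o => by
    have := Fintype.ofFinite S
    rw [Nat.card_eq_fintype_card, Nat.card_eq_fintype_card, Fintype.card_subtype_compl, Fintype.card_subtype_eq]
  have h2 : Nat.card {v : G // v ≠ 1 ∧ v ^ 2 = 1} = Nat.card V - 1 := by
    rw [← hne V 1]
    exact Nat.card_congr ⟨fun v => ⟨⟨v.1, v.2.2⟩, fun e => v.2.1 (congrArg Subtype.val e)⟩,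
      fun v => ⟨v.1.1, fun e => v.2 (Subtype.ext e), v.1.2⟩, fun v => rfl, fun v => rfl⟩
  rw [hne G 1, h2, hs, hf] at h1
  rw [hcard, hs, hf]
  -- `2 ^ f - 1` divides `2 ^ s - 1`
  have hd : f ∣ s := by
    have h3 := Nat.pow_sub_one_gcd_pow_sub_one 2 f s
    rw [Nat.gcd_eq_left ⟨_, h1⟩] at h3
    have h4 : f.gcd s = f := by
      have e : 2 ^ f = 2 ^ f.gcd s := by
        have := Nat.one_le_two_pow (n := f)
        have := Nat.one_le_two_pow (n := f.gcd s)
        omega
      exact (Nat.pow_right_injective (le_refl 2) e).symm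
    exact h4 ▸ Nat.gcd_dvd_right f s
  obtain ⟨m, hm⟩ := hd
  exact ⟨m, by rw [hm, pow_mul]⟩

end Cfsg.Agent.S3774
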