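import Cfsg.Statements.S3775
import Mathlib
import Cfsg.Agent.Lib.InvariantComplement
-- import your own Cfsg.Agent.* helpers here

set_option autoImplicit false
open Cfsg

namespace Cfsg.Agent.S3775

/-- invariance, elementwise -/
private def Inv {A : Type*} [CommGroup A] (X : Subgroup (MulAut A)) (B : Subgroup A) : Prop :=
  ∀ x ∈ X, ∀ b ∈ B, (x : MulAut A) b ∈ B

private theorem inv_iff {A : Type*} [CommGroup A] (X : Subgroup (MulAut A)) (B : Subgroup A) :
    (∀ x ∈ X, B.map x.toMonoidHom = B) ↔ Inv X B := by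
  constructor
  · intro h x hx b hb
    rw [← h x hx]; exact ⟨b, hb, rfl⟩
  · intro h x hx
    refine le_antisymm ?_ ?_
    · rintro _ ⟨b, hb, rfl⟩; exact h x hx b hb
    · intro b hb
      exact ⟨x⁻¹ b, h x⁻¹ (inv_mem hx) b hb, x.apply_symm_apply b⟩

/-- relative Maschke -/
private theorem rel_complement {A : Type*} [CommGroup A] [Finite A] {p : ℕ} [Fact p.Prime]
    (hA : IsPGroup p A) (X : Subgroup (MulAut A)) (hX : (Nat.card X).Coprime p)
    {C U D : Subgroup A} (hCU : C ≤ U) (hUD : U ≤ D) (hC : Inv X C) (hU : Inv X U) (hD : Inv X D)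
    (hp : ∀ d ∈ D, d ^ p ∈ C) :
    ∃ E : Subgroup A, Inv X E ∧ C ≤ E ∧ E ≤ D ∧ (∀ a ∈ E, a ∈ U → a ∈ C) ∧
      ∀ d ∈ D, ∃ u ∈ U, ∃ e ∈ E, u * e = d := by
  classical
  set π := QuotientGroup.mk' C with hπ
  set Dq := D.map π with hDq
  have hcC : ∀ x ∈ X, C.map (x : MulAut A).toMonoidHom = C := (inv_iff X C).mpr hC
  let act : ∀ x : X, (A ⧸ C) ≃* (A ⧸ C) := fun x => QuotientGroup.congr C C (x : MulAut A) (hcC x x.2)
  have hact : ∀ (x : X) (a : A), act x (π a) = π ((x : MulAut A) a) := fun x a => rfl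
  have hactD : ∀ (x : X) (q : A ⧸ C), q ∈ Dq → act x q ∈ Dq := by
    rintro x _ ⟨d, hd, rfl⟩
    exact ⟨_, hD x x.2 d hd, (hact x d).symm⟩
  have hmul : ∀ (x y : X) (q : A ⧸ C), act (x * y) q = act x (act y q) := by
    intro x y q
    obtain ⟨a, rfl⟩ := QuotientGroup.mk'_surjective C q
    rfl
  have hone : ∀ q : A ⧸ C, act 1 q = q := by
    intro q
    obtain ⟨a, rfl⟩ := QuotientGroup.mk'_surjective C q
    rfl
  let φ : X →* MulAut Dq := MonoidHom.mk' (fun x =>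
    { toFun := fun q => ⟨act x q, hactD x q q.2⟩
      invFun := fun q => ⟨act x⁻¹ q, hactD x⁻¹ q q.2⟩
      left_inv := fun q => Subtype.ext (by
        show act x⁻¹ (act x q) = q
        rw [← hmul, inv_mul_cancel, hone])
      right_inv := fun q => Subtype.ext (by
        show act x (act x⁻¹ q) = q
        rw [← hmul, mul_inv_cancel, hone])
      map_mul' := fun q r => Subtype.ext (map_mul (act x) (q : A ⧸ C) r) })
    fun x y => MulEquiv.ext fun q => Subtype.ext (hmul x y q)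
  have hexp : ∀ q : Dq, q ^ p = 1 := by
    rintro ⟨_, d, hd, rfl⟩
    refine Subtype.ext ?_
    show (π d) ^ p = 1
    rw [← map_pow]; exact (QuotientGroup.eq_one_iff _).mpr (hp d hd)
  obtain ⟨K, hK1, hK2⟩ := CfsgLib.exists_complement_of_exponent hexp ((U.map π).subgroupOf Dq)
  obtain ⟨j, hj⟩ := ((hA.to_quotient C).to_subgroup Dq).exists_card_eq
  obtain ⟨W, hW, hW1, hW2⟩ := CfsgLib.exists_invariant_complement φ (hj ▸ hX.pow_right j)
    (U := (U.map π).subgroupOf Dq) (by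
      rintro x q ⟨u, hu, hu'⟩
      refine ⟨(x : MulAut A) u, hU x x.2 u hu, ?_⟩
      show π ((x : MulAut A) u) = act x (q : A ⧸ C)
      rw [← hact]; exact congrArg (act x) hu') hK1 hK2
  refine ⟨(W.map Dq.subtype).comap π, ?_, ?_, ?_, ?_, ?_⟩
  · intro x hx a ha
    obtain ⟨w, hw, hwa⟩ := ha
    refine ⟨φ ⟨x, hx⟩ w, hW ⟨x, hx⟩ w hw, ?_⟩
    show act ⟨x, hx⟩ (w : A ⧸ C) = π (x a)
    rw [show (w : A ⧸ C) = π a from hwa]; rfl
  · intro c hc
    exact ⟨1, one_mem _, ((QuotientGroup.eq_one_iff c).mpr hc).symm⟩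
  · rintro a ⟨w, -, hwa⟩
    obtain ⟨d, hd, hd'⟩ := w.2
    have h1 : d⁻¹ * a ∈ C := QuotientGroup.eq.mp (hd'.trans hwa)
    simpa using mul_mem hd ((hCU.trans hUD) h1)
  · rintro a ⟨w, hw, hwa⟩ hau
    have h1 : w ∈ (U.map π).subgroupOf Dq ⊓ W := ⟨⟨a, hau, hwa.symm⟩, hw⟩
    rw [hW1, Subgroup.mem_bot] at h1
    exact (QuotientGroup.eq_one_iff a).mp (hwa.symm.trans (by rw [h1]; rfl))
  · intro d hd
    obtain ⟨u', hu', w, hw, he⟩ := Subgroup.mem_sup.mp
      (hW2.ge (Subgroup.mem_top (⟨π d, d, hd, rfl⟩ : Dq)))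
    obtain ⟨u, hu, hue⟩ := hu'
    refine ⟨u, hu, u⁻¹ * d, ⟨w, hw, ?_⟩, mul_inv_cancel_left u d⟩
    have he' : (u' : A ⧸ C) * (w : A ⧸ C) = π d := congrArg Subtype.val he
    show (w : A ⧸ C) = π (u⁻¹ * d)
    rw [map_mul, map_inv, eq_inv_mul_iff_mul_eq, hue]
    exact he'

/-- invariant subgroups are the `Ω_i` if `Ω₁` is irreducible -/
private theorem eq_omega {A : Type*} [CommGroup A] [Finite A] {p : ℕ} [Fact p.Prime]
    (hA : IsPGroup p A) (X : Subgroup (MulAut A))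
    (h3 : ∀ B : Subgroup A, Inv X B → (∀ b ∈ B, b ^ p = 1) → B = ⊥ ∨ ∀ a : A, a ∈ B ↔ a ^ p = 1)
    (B : Subgroup A) (hB : Inv X B) : ∃ i : ℕ, ∀ a : A, a ∈ B ↔ a ^ p ^ i = 1 := by
  classical
  have hex : ∃ i : ℕ, ∀ b ∈ B, b ^ p ^ i = 1 := by
    obtain ⟨j, hj⟩ := hA.exists_card_eq
    exact ⟨j, fun b _ => by rw [← hj]; exact pow_card_eq_one'⟩
  refine ⟨Nat.find hex, fun a => ⟨Nat.find_spec hex a, ?_⟩⟩
  suffices h : ∀ k, k ≤ Nat.find hex → ∀ a : A, a ^ p ^ k = 1 → a ∈ B from h _ le_rfl a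
  intro k
  induction k with
  | zero => intro _ a ha; rw [pow_zero, pow_one] at ha; rw [ha]; exact one_mem B
  | succ k ih =>
    intro hk a ha
    let S : Subgroup A :=
      { carrier := {b | b ∈ B ∧ b ^ p ^ (k + 1) = 1}
        one_mem' := ⟨one_mem B, one_pow _⟩
        mul_mem' := fun {x y} hx hy => ⟨mul_mem hx.1 hy.1, by rw [mul_pow, hx.2, hy.2, one_mul]⟩
        inv_mem' := fun {x} hx => ⟨inv_mem hx.1, by rw [inv_pow, hx.2, inv_one]⟩ }
    set W := S.map (powMonoidHom (p ^ k)) with hW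
    have hWp : ∀ b ∈ W, b ^ p = 1 := by
      rintro _ ⟨b, hb, rfl⟩
      show (b ^ p ^ k) ^ p = 1
      rw [← pow_mul, ← pow_succ]; exact hb.2
    have hWinv : Inv X W := by
      rintro x hx _ ⟨b, hb, rfl⟩
      refine ⟨x b, ⟨hB x hx b hb.1, ?_⟩, ?_⟩
      · rw [← map_pow, hb.2, map_one]
      · exact (map_pow x b _).symm
    have hne : W ≠ ⊥ := by
      intro hbot
      have hk' := Nat.find_min hex (m := k) (by omega)
      push Not at hk'
      obtain ⟨b, hb, hbk⟩ := hk'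
      -- a power of `b` in `S`
      have hex2 : ∃ j : ℕ, b ^ p ^ j = 1 := ⟨_, Nat.find_spec hex b hb⟩
      have hj := Nat.find_spec hex2
      have hjk : k < Nat.find hex2 := by
        by_contra hle
        exact hbk (orderOf_dvd_iff_pow_eq_one.mp
          ((orderOf_dvd_of_pow_eq_one hj).trans (Nat.pow_dvd_pow p (not_lt.mp hle))))
      have hm := Nat.find_min hex2 (m := Nat.find hex2 - 1) (by omega)
      apply hm
      have h1 : b ^ p ^ (Nat.find hex2 - 1 - k) ∈ S := by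
        refine ⟨B.pow_mem hb _, ?_⟩
        rw [← pow_mul, ← pow_add, show Nat.find hex2 - 1 - k + (k + 1) = Nat.find hex2 by omega]
        exact hj
      have h2 : (b ^ p ^ (Nat.find hex2 - 1 - k)) ^ p ^ k ∈ W := ⟨_, h1, rfl⟩
      rw [hbot, Subgroup.mem_bot, ← pow_mul, ← pow_add] at h2
      rwa [show Nat.find hex2 - 1 - k + k = Nat.find hex2 - 1 by omega] at h2
    have h1 : a ^ p ^ k ∈ W := (((h3 W hWinv hWp).resolve_left hne) _).mpr (by
      rw [← pow_mul, ← pow_succ]; exact ha)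
    obtain ⟨b, hb, hba⟩ := h1
    have hba' : b ^ p ^ k = a ^ p ^ k := hba
    have h2 := ih (by omega) (b⁻¹ * a) (by rw [mul_pow, inv_pow, hba', inv_mul_cancel])
    simpa using mul_mem hb.1 h2

/-- Let A be a finite abelian p-group and X a group of automorphisms of A of order prime to p. Call a subgroup of A invariant when every element of X maps it onto itself. Then the following are equivalent: (i) A is not the direct product of two nontrivial invariant subgroups; (ii) every invariant subgroup of A is one of the subgroups Ω_i(A) = {a : a^(p^i) = 1}; (iii) the subgroup Ω₁(A) of elements of order dividing p has no invariant subgroups other than 1 and itself. -/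
theorem result {A : Type*} [CommGroup A] [Finite A] {p : ℕ} [Fact p.Prime] (hA : IsPGroup p A) (X : Subgroup (MulAut A)) (hX : (Nat.card X).Coprime p) : ((¬ ∃ B C : Subgroup A, B ≠ ⊥ ∧ C ≠ ⊥ ∧ (∀ x ∈ X, B.map x.toMonoidHom = B) ∧ (∀ x ∈ X, C.map x.toMonoidHom = C) ∧ B ⊓ C = ⊥ ∧ B ⊔ C = ⊤) ↔ (∀ B : Subgroup A, (∀ x ∈ X, B.map x.toMonoidHom = B) → ∃ i : ℕ, ∀ a : A, a ∈ B ↔ a ^ p ^ i = 1)) ∧ ((∀ B : Subgroup A, (∀ x ∈ X, B.map x.toMonoidHom = B) → ∃ i : ℕ, ∀ a : A, a ∈ B ↔ a ^ p ^ i = 1) ↔ (∀ B : Subgroup A, (∀ x ∈ X, B.map x.toMonoidHom = B) → (∀ b ∈ B, b ^ p = 1) → B = ⊥ ∨ ∀ a : A, a ∈ B ↔ a ^ p = 1)) := by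
  classical
  have hp : p.Prime := Fact.out
  simp only [inv_iff]
  have h23 : (∀ B : Subgroup A, Inv X B → ∃ i : ℕ, ∀ a : A, a ∈ B ↔ a ^ p ^ i = 1) →
      (∀ B : Subgroup A, Inv X B → (∀ b ∈ B, b ^ p = 1) → B = ⊥ ∨ ∀ a : A, a ∈ B ↔ a ^ p = 1) := by
    intro h B hB hBp
    obtain ⟨i, hi⟩ := h B hB
    rcases Nat.eq_zero_or_pos i with rfl | hi0
    · left; rw [Subgroup.eq_bot_iff_forall]; intro b hb
      simpa using (hi b).mp hb
    · refine Or.inr fun a => ⟨hBp a, fun ha => (hi a).mpr ?_⟩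
      obtain ⟨i, rfl⟩ : ∃ k, i = k + 1 := ⟨i - 1, by omega⟩
      rw [pow_succ', pow_mul, ha, one_pow]
  have h32 := eq_omega hA X
  refine ⟨⟨fun h1 => h32 fun V hV hVp => ?_, fun h2 => ?_⟩, ⟨h23, h32⟩⟩
  · -- indecomposable implies irreducible
    by_contra hcon
    push Not at hcon
    obtain ⟨hV0, a₀, ha₀⟩ := hcon
    apply h1
    -- the exponent
    have hexA : ∃ i : ℕ, ∀ a : A, a ^ p ^ i = 1 := by
      obtain ⟨j, hj⟩ := hA.exists_card_eq
      exact ⟨j, fun a => by rw [← hj]; exact pow_card_eq_one'⟩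
    obtain ⟨d, hd, hdlt⟩ : ∃ d : ℕ, (∀ a : A, a ^ p ^ (d + 1) = 1) ∧ ∃ a : A, a ^ p ^ d ≠ 1 := by
      have h0 : Nat.find hexA ≠ 0 := fun h0 => hV0 ((Subgroup.eq_bot_iff_forall _).mpr fun v _ => by
        have := Nat.find_spec hexA v
        rwa [h0, pow_zero, pow_one] at this)
      refine ⟨Nat.find hexA - 1, fun a => by
        rw [show Nat.find hexA - 1 + 1 = Nat.find hexA by omega]; exact Nat.find_spec hexA a, ?_⟩
      simpa using Nat.find_min hexA (m := Nat.find hexA - 1) (by omega)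
    -- a minimal invariant subgroup of `A ^ (p ^ d)`
    set M := (powMonoidHom (p ^ d) : A →* A).range with hM
    have hMinv : Inv X M := by
      rintro x _ _ ⟨a, rfl⟩
      exact ⟨x a, (map_pow x a _).symm⟩
    have hM0 : M ≠ ⊥ := by
      obtain ⟨a, ha⟩ := hdlt
      exact fun e => ha ((Subgroup.eq_bot_iff_forall _).mp e _ ⟨a, rfl⟩)
    obtain ⟨W, ⟨hWinv, hWM, hW0⟩, hWmin⟩ := (Set.toFinite {W : Subgroup A | Inv X W ∧ W ≤ M ∧ W ≠ ⊥}).exists_minimal
      ⟨M, hMinv, le_rfl, hM0⟩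
    obtain ⟨B, ⟨hBinv, hBW⟩, hBmin⟩ := (Set.toFinite {B : Subgroup A | Inv X B ∧ B.map (powMonoidHom (p ^ d)) = W}).exists_minimal
      ⟨W.comap (powMonoidHom (p ^ d)), fun x hx a ha => by
        show (x a) ^ p ^ d ∈ W
        rw [← map_pow]; exact hWinv x hx _ ha, Subgroup.map_comap_eq_self hWM⟩
    -- `B` is homocyclic
    have hhom : ∀ b ∈ B, b ^ p ^ d = 1 → ∃ c ∈ B, c ^ p = b := by
      let C : Subgroup A := B.map (powMonoidHom p)
      let K : Subgroup A := B ⊓ (powMonoidHom (p ^ d) : A →* A).ker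
      have hCK : C ≤ K := by
        rintro _ ⟨b, hb, rfl⟩
        refine ⟨B.pow_mem hb p, ?_⟩
        show (b ^ p) ^ p ^ d = 1
        rw [← pow_mul, ← pow_succ']; exact hd b
      obtain ⟨E, hE, hCE, hEB, hEK, hsum⟩ := rel_complement hA X hX hCK inf_le_left
        (by rintro x hx _ ⟨b, hb, rfl⟩; exact ⟨x b, hBinv x hx b hb, (map_pow x b p).symm⟩)
        (fun x hx b hb => ⟨hBinv x hx b hb.1, show (x b) ^ p ^ d = 1 by
          rw [← map_pow, show b ^ p ^ d = 1 from hb.2, map_one]⟩)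
        hBinv fun b hb => ⟨b, hb, rfl⟩
      have hEW : E.map (powMonoidHom (p ^ d)) = W := by
        refine le_antisymm (hBW ▸ Subgroup.map_mono hEB) (hBW ▸ ?_)
        rintro _ ⟨b, hb, rfl⟩
        obtain ⟨u, hu, e, he, rfl⟩ := hsum b hb
        refine ⟨e, he, ?_⟩
        show e ^ p ^ d = (u * e) ^ p ^ d
        rw [mul_pow, show u ^ p ^ d = 1 from hu.2, one_mul]
      intro b hb hbd
      obtain ⟨c, hc, hcb⟩ := hEK b (hBmin (y := E) ⟨hE, hEW⟩ hEB hb) ⟨hb, hbd⟩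
      exact ⟨c, hc, hcb⟩
    have hB1 : ∀ j : ℕ, j ≤ d → ∀ b ∈ B, b ^ p ^ (d + 1 - j) = 1 → ∃ c ∈ B, c ^ p ^ j = b := by
      intro j
      induction j with
      | zero => exact fun _ b hb _ => ⟨b, hb, by simp⟩
      | succ j ih =>
        intro hj b hb hbj
        obtain ⟨c, hc, rfl⟩ := ih (by omega) b hb (by
          rw [show d + 1 - j = d + 1 - (j + 1) + 1 by omega, pow_succ, pow_mul, hbj, one_pow])
        rw [← pow_mul, ← pow_add, show j + (d + 1 - (j + 1)) = d by omega] at hbj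
        obtain ⟨c', hc', rfl⟩ := hhom c hc hbj
        exact ⟨c', hc', by rw [pow_succ', pow_mul]⟩
    have hWB : ∀ b ∈ B, b ^ p = 1 → b ∈ W := by
      intro b hb hbp
      obtain ⟨c, hc, rfl⟩ := hB1 d le_rfl b hb (by rw [show d + 1 - d = 1 by omega, pow_one]; exact hbp)
      rw [← hBW]; exact ⟨c, hc, rfl⟩
    have hBne : B ≠ ⊥ := fun e => hW0 (by rw [← hBW, e, Subgroup.map_bot])
    have hBtop : B ≠ ⊤ := by
      intro e
      have hVW : V ≤ W := fun v hv => hWB v (e ▸ Subgroup.mem_top v) (hVp v hv)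
      have hWV : W ≤ V := hWmin (y := V) ⟨hV, hVW.trans hWM, hV0⟩ hVW
      rcases ha₀ with ⟨h, h'⟩ | ⟨h, h'⟩
      · exact h' (hVp _ h)
      · exact h (hWV (hWB _ (e ▸ Subgroup.mem_top a₀) h'))
    obtain ⟨C, ⟨hC, hBC⟩, hCmax⟩ := (Set.toFinite {C : Subgroup A | Inv X C ∧ B ⊓ C = ⊥}).exists_maximal
      ⟨⊥, fun x hx b hb => by rw [Subgroup.mem_bot.mp hb, map_one]; exact one_mem _, inf_bot_eq _⟩
    have hsup : B ⊔ C = ⊤ := by
      by_contra hne
      -- elements with `p`-th power in `C`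
      let D : Subgroup A := C.comap (powMonoidHom p)
      have hDinv : Inv X D := fun x hx a ha => by
        show (x a) ^ p ∈ C
        rw [← map_pow]; exact hC x hx _ ha
      have hCD : C ≤ D := fun c hc => C.pow_mem hc p
      obtain ⟨E, hE, hCE, hED, hEU, hsum⟩ := rel_complement hA X hX
        (show C ≤ D ⊓ (B ⊔ C) from le_inf hCD le_sup_right) inf_le_left hC
        (fun x hx a ha => ⟨hDinv x hx a ha.1, by
          obtain ⟨b, hb, c, hc, rfl⟩ := Subgroup.mem_sup.mp ha.2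
          rw [map_mul]; exact Subgroup.mul_mem_sup (hBinv x hx b hb) (hC x hx c hc)⟩)
        hDinv (fun a ha => ha)
      have hBE : B ⊓ E = ⊥ := by
        rw [Subgroup.eq_bot_iff_forall]
        intro b hb
        exact (Subgroup.eq_bot_iff_forall _).mp hBC b
          ⟨hb.1, hEU b hb.2 ⟨hED hb.2, Subgroup.mem_sup_left hb.1⟩⟩
      have hEC : E ≤ C := hCmax (y := E) ⟨hE, hBE⟩ hCE
      have hDle : D ≤ B ⊔ C := by
        intro a ha
        obtain ⟨u, hu, e, he, rfl⟩ := hsum a ha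
        exact mul_mem hu.2 (Subgroup.mem_sup_right (hEC he))
      -- descend
      have key : ∀ k : ℕ, ∀ a : A, a ^ p ^ k ∈ B ⊔ C → a ∈ B ⊔ C := by
        intro k
        induction k with
        | zero => intro a ha; simpa using ha
        | succ k ih =>
          intro a ha
          apply ih
          rw [pow_succ, pow_mul] at ha
          set y := a ^ p ^ k
          obtain ⟨b, hb, c, hc, hbc⟩ := Subgroup.mem_sup.mp ha
          have h1 : b ^ p ^ d * c ^ p ^ d = 1 := by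
            rw [← mul_pow, hbc, ← pow_mul, ← pow_succ']; exact hd y
          have h2 : b ^ p ^ d = 1 := (Subgroup.eq_bot_iff_forall _).mp hBC _
            ⟨B.pow_mem hb _, show b ^ p ^ d ∈ C by rw [eq_inv_of_mul_eq_one_left h1]; exact inv_mem (C.pow_mem hc _)⟩
          obtain ⟨b', hb', rfl⟩ := hhom b hb h2
          have h3 : b'⁻¹ * y ∈ D := by
            show (b'⁻¹ * y) ^ p ∈ C
            rw [mul_pow, ← hbc, inv_pow, inv_mul_cancel_left]; exact hc
          simpa using mul_mem (Subgroup.mem_sup_left hb' : b' ∈ B ⊔ C) (hDle h3)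
      exact hne (eq_top_iff.mpr fun a _ => key (d + 1) a (by rw [hd a]; exact one_mem _))
    refine ⟨B, C, hBne, fun e => hBtop (by rw [e, sup_bot_eq] at hsup; exact hsup), hBinv, hC, hBC, hsup⟩
  · -- irreducible implies indecomposable
    rintro ⟨B, C, hB0, hC0, hB, hC, hBC, -⟩
    obtain ⟨i, hi⟩ := h2 B hB
    obtain ⟨j, hj⟩ := h2 C hC
    rcases le_total i j with hij | hij
    · refine hB0 (le_bot_iff.mp (hBC ▸ le_inf le_rfl fun a ha => (hj a).mpr ?_))
      exact orderOf_dvd_iff_pow_eq_one.mp ((orderOf_dvd_of_pow_eq_one ((hi a).mp ha)).trans (Nat.pow_dvd_pow p hij))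
    · refine hC0 (le_bot_iff.mp (hBC ▸ le_inf (fun a ha => (hi a).mpr ?_) le_rfl))
      exact orderOf_dvd_iff_pow_eq_one.mp ((orderOf_dvd_of_pow_eq_one ((hj a).mp ha)).trans (Nat.pow_dvd_pow p hij))

end Cfsg.Agent.S3775
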