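import Cfsg.Statements.S3776
import Cfsg.Agent.Lib.SolvSuzuki.Main
import Cfsg.Agent.Lib.RankFrattini
-- import your own Cfsg.Agent.* helpers here

set_option autoImplicit false
open Cfsg

open scoped commutatorElement

namespace Cfsg.Agent.S3776

/-- Let G be a finite non-abelian 2-group with more than one involution admitting a solvable group of automorphisms that permutes its involutions transitively. Then the derived subgroup, the Frattini subgroup and the centre of G coincide and consist exactly of the elements x with x² = 1. -/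
theorem result {G : Type*} [Group G] [Finite G] (hG : IsPGroup 2 G) (hna : ¬ IsMulCommutative G) (htwo : ∃ x y : G, x ≠ y ∧ x ≠ 1 ∧ x ^ 2 = 1 ∧ y ≠ 1 ∧ y ^ 2 = 1) (hY : ∃ Y : Subgroup (MulAut G), Group.IsSolvable Y ∧ ∀ x y : G, x ≠ 1 → x ^ 2 = 1 → y ≠ 1 → y ^ 2 = 1 → ∃ a ∈ Y, a x = y) : commutator G = frattini G ∧ frattini G = Subgroup.center G ∧ ∀ x : G, x ∈ Subgroup.center G ↔ x ^ 2 = 1 := by
  haveI : Fact (Nat.Prime 2) := ⟨Nat.prime_two⟩
  obtain ⟨Y, hsolv, htr⟩ := hY
  have h : CfsgLib.SolvSuzuki.Hyp G Y := by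
    refine ⟨hG, hsolv, fun x y hx1 hx hy1 hy => htr x y hx1 (by rwa [pow_two]) hy1 (by rwa [pow_two]), ?_⟩
    obtain ⟨x, y, hne, hx1, hx, hy1, hy⟩ := htwo
    exact ⟨x, y, hne, hx1, by rwa [← pow_two], hy1, by rwa [← pow_two]⟩
  have hne : ∃ x y : G, x * y ≠ y * x := by
    by_contra hno
    push Not at hno
    exact hna ⟨⟨hno⟩⟩
  have hg := CfsgLib.SolvSuzuki.good G Y h hne
  have hcom : commutator G ≤ frattini G := CfsgLib.commutator_le_frattini_pGroup hG
  have hfz : frattini G ≤ Subgroup.center G :=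
    CfsgLib.RankFrattini.frattini_le_of_elementary (p := 2) hG _ (fun a b => hg.commutator_mem a b)
      (fun a => by rw [pow_two]; exact hg.1 a)
  have hzc : Subgroup.center G ≤ commutator G := by
    intro z hz
    by_cases hz1 : z = 1
    · rw [hz1]; exact one_mem _
    obtain ⟨a, b, hab⟩ := hne
    refine h.full (A := (commutator G : Set G)) ?_ (x := ⁅a, b⁆)
      (Subgroup.commutator_mem_commutator (Subgroup.mem_top a) (Subgroup.mem_top b))
      (fun he => hab (commutatorElement_eq_one_iff_mul_comm.mp he)) (hg.2 _ (hg.commutator_mem a b)) hz1 (hg.2 z hz)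
    intro k _ x hx
    have h1 : (commutator G).map (k : G →* G) ≤ commutator G := by
      rw [commutator_def, Subgroup.map_commutator]
      exact Subgroup.commutator_mono le_top le_top
    exact h1 ⟨x, hx, rfl⟩
  refine ⟨le_antisymm hcom (hfz.trans hzc), le_antisymm hfz (hzc.trans hcom), fun x => ⟨fun hx => ?_, fun hx => ?_⟩⟩
  · rw [pow_two]; exact hg.2 x hx
  · exact h.central (by rwa [← pow_two])

end Cfsg.Agent.S3776
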