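import Cfsg.Statements.S3778
import Mathlib
-- import your own Cfsg.Agent.* helpers here

set_option autoImplicit false
open Cfsg

namespace Cfsg.Agent.S3778

open scoped commutatorElement

/-- If G is a finite p-group in which every conjugacy class has at most p^b elements (every element has centralizer of index at most p^b), then G is abelian when b = 0, and when b ≥ 1 its nilpotency class c satisfies (c − 1)(p − 1) < bp, that is c < bp/(p − 1) + 1, and hence c ≤ 2b. -/
theorem result {G : Type*} [Group G] [Finite G] {p : ℕ} [Fact p.Prime] (hG : IsPGroup p G) (b : ℕ) (hb : ∀ x : G, (Subgroup.centralizer ({x} : Set G)).index ≤ p ^ b) : ∃ c : ℕ, (⊤ : Subgroup G).lowerCentralSeries c = ⊥ ∧ (b ≠ 0 → (c - 1) * (p - 1) < b * p ∧ c ≤ 2 * b) ∧ (b = 0 → c ≤ 1) := by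
  classical
  have hp : p.Prime := Fact.out
  haveI := hG.isNilpotent
  haveI : Fintype G := Fintype.ofFinite G
  let γ : ℕ → Subgroup G := fun i => (⊤ : Subgroup G).lowerCentralSeries i
  obtain ⟨c, hc, hmin⟩ : ∃ c, γ c = ⊥ ∧ ∀ j < c, γ j ≠ ⊥ := by
    have hex := Subgroup.nilpotent_iff_lowerCentralSeries.mp (inferInstance : Group.IsNilpotent G)
    exact ⟨Nat.find hex, Nat.find_spec hex, fun j hj => Nat.find_min hex hj⟩
  have hγn : ∀ i, (γ i).Normal := fun i => by
    induction i with
    | zero => exact (inferInstance : (⊤ : Subgroup G).Normal)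
    | succ i ih => haveI : ((⊤ : Subgroup G).lowerCentralSeries i).Normal := ih; show ((⊤ : Subgroup G).lowerCentralSeries (i + 1)).Normal; rw [Subgroup.lowerCentralSeries_succ]; infer_instance
  have hsucc : ∀ i, γ (i + 1) = ⁅γ i, (⊤ : Subgroup G)⁆ := fun i => Subgroup.lowerCentralSeries_succ _ i
  have hanti : ∀ i, γ (i + 1) ≤ γ i := fun i => by
    haveI := hγn i; rw [hsucc]; exact Subgroup.commutator_le_left _ _
  -- elements moving the layer `i`
  let B : ℕ → Set G := fun i => {x | ∀ y ∈ γ i, ⁅y, x⁆ ∈ γ (i + 2)}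
  have hkey : ∀ x : G, ∀ m, p ^ ((Finset.range m).filter fun i => x ∉ B i).card *
      Nat.card (γ m ⊔ Subgroup.centralizer ({x} : Set G) : Subgroup G) ≤ Nat.card G := by
    intro x m
    induction m with
    | zero => simp only [Finset.range_zero, Finset.filter_empty, Finset.card_empty, pow_zero, one_mul]; exact Subgroup.card_le_card_group _
    | succ m ih =>
      have hle : γ (m + 1) ⊔ Subgroup.centralizer ({x} : Set G) ≤ γ m ⊔ Subgroup.centralizer ({x} : Set G) :=
        sup_le_sup_right (hanti m) _
      rw [Finset.range_add_one, Finset.filter_insert]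
      by_cases hx : x ∈ B m
      · rw [if_neg (not_not.mpr hx)]
        exact le_trans (Nat.mul_le_mul_left _ (Subgroup.card_le_of_le hle)) ih
      · rw [if_pos hx, Finset.card_insert_of_notMem (by simp), pow_succ, mul_assoc]
        refine le_trans (Nat.mul_le_mul_left _ ?_) ih
        have hne : γ (m + 1) ⊔ Subgroup.centralizer ({x} : Set G) ≠ γ m ⊔ Subgroup.centralizer ({x} : Set G) := by
          intro e
          refine hx fun y hy => ?_
          haveI := hγn (m + 1)
          obtain ⟨u, hu, v, hv, rfl⟩ := Subgroup.mem_sup_of_normal_left.mp (e.ge (Subgroup.mem_sup_left hy))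
          have hvx : ⁅v, x⁆ = 1 := by
            rw [commutatorElement_eq_one_iff_mul_comm]
            exact Subgroup.mem_centralizer_singleton_iff.mp hv
          have e2 : ⁅u * v, x⁆ = u * ⁅v, x⁆ * u⁻¹ * ⁅u, x⁆ := by simp only [commutatorElement_def]; group
          rw [e2, hvx, mul_one, mul_inv_cancel, one_mul]
          rw [hsucc (m + 1)]
          exact Subgroup.commutator_mem_commutator hu (Subgroup.mem_top x)
        obtain ⟨a, ha⟩ := IsPGroup.iff_card.mp (hG.to_subgroup (γ (m + 1) ⊔ Subgroup.centralizer ({x} : Set G)))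
        obtain ⟨b', hb'⟩ := IsPGroup.iff_card.mp (hG.to_subgroup (γ m ⊔ Subgroup.centralizer ({x} : Set G)))
        have h1 : p ^ a < p ^ b' := by
          rw [← ha, ← hb']
          exact lt_of_le_of_ne (Subgroup.card_le_of_le hle) fun e => hne (Subgroup.eq_of_le_of_card_ge hle e.ge)
        rw [ha, hb', ← pow_succ']
        exact Nat.pow_le_pow_right hp.pos ((Nat.pow_lt_pow_iff_right hp.one_lt).mp h1)
  have hcount : ∀ x : G, ((Finset.range (c - 1)).filter fun i => x ∉ B i).card ≤ b := by
    intro x
    refine (Nat.pow_le_pow_iff_right hp.one_lt).mp (le_trans ?_ (hb x))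
    have h1 := hkey x (c - 1)
    have h2 : Nat.card (Subgroup.centralizer ({x} : Set G)) ≤
        Nat.card (γ (c - 1) ⊔ Subgroup.centralizer ({x} : Set G) : Subgroup G) := Subgroup.card_le_of_le le_sup_right
    have h3 := (Subgroup.centralizer ({x} : Set G)).card_mul_index
    refine Nat.le_of_mul_le_mul_right ?_ (Nat.card_pos (α := Subgroup.centralizer ({x} : Set G)))
    rw [mul_comm (Subgroup.index _), h3]
    exact le_trans (Nat.mul_le_mul_left _ h2) h1
  have hB : ∀ i ∈ Finset.range (c - 1), p * (Finset.univ.filter fun x => x ∈ B i).card ≤ Nat.card G := by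
    intro i hi
    rw [Finset.mem_range] at hi
    haveI := hγn (i + 2)
    let S : Subgroup G :=
      { carrier := B i
        one_mem' := fun y _ => by simp [commutatorElement_def]
        mul_mem' := fun {u v} hu hv y hy => by
          have e : ⁅y, u * v⁆ = ⁅y, u⁆ * (u * ⁅y, v⁆ * u⁻¹) := by simp only [commutatorElement_def]; group
          rw [e]; exact mul_mem (hu y hy) ((hγn (i + 2)).conj_mem _ (hv y hy) u)
        inv_mem' := fun {u} hu y hy => by
          have e : ⁅y, u⁻¹⁆ = u⁻¹ * ⁅y, u⁆⁻¹ * u⁻¹⁻¹ := by simp only [commutatorElement_def]; group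
          rw [e]; exact (hγn (i + 2)).conj_mem _ (inv_mem (hu y hy)) _ }
    have hS : S ≠ ⊤ := by
      intro e
      have hstab : ∀ k, γ (i + 1) ≤ γ (i + 2 + k) := by
        have h0 : γ (i + 1) ≤ γ (i + 2) := by
          rw [hsucc i, Subgroup.commutator_le]
          exact fun y hy x _ => (e.ge (Subgroup.mem_top x) : x ∈ S) y hy
        intro k
        induction k with
        | zero => exact h0
        | succ k ihk =>
          rw [show i + 2 + (k + 1) = (i + 2 + k) + 1 by ring, hsucc]
          refine h0.trans ?_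
          rw [show i + 2 = (i + 1) + 1 from rfl, hsucc]
          exact Subgroup.commutator_mono ihk le_rfl
      refine hmin (i + 1) (by omega) (eq_bot_iff.mpr ?_)
      have h5 := hstab (c - (i + 2))
      rwa [show i + 2 + (c - (i + 2)) = c by omega, hc] at h5
    have e : (Finset.univ.filter fun x => x ∈ B i).card = Nat.card S := by
      rw [← Fintype.card_subtype, ← Nat.card_eq_fintype_card]
      rfl
    rw [e, ← S.card_mul_index, mul_comm p]
    refine Nat.mul_le_mul_left _ ?_
    obtain ⟨d, hd⟩ := hG.index S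
    rw [hd]
    refine Nat.le_self_pow (fun h0 => hS ?_) p
    rw [← Subgroup.index_eq_one, hd, h0, pow_zero]
  have hmain : b ≠ 0 → (c - 1) * (p - 1) < b * p := by
    intro hb0
    set N := Nat.card G with hN
    have hN1 : 0 < N := Nat.card_pos
    have hone : ((Finset.range (c - 1)).filter fun i => (1 : G) ∉ B i).card = 0 := by
      rw [Finset.card_eq_zero, Finset.filter_eq_empty_iff]
      intro i _ h
      exact h fun y _ => by simp [commutatorElement_def]
    have h1 : ∑ x : G, ((Finset.range (c - 1)).filter fun i => x ∉ B i).card ≤ b * (N - 1) := by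
      rw [← Finset.add_sum_erase _ _ (Finset.mem_univ (1 : G)), hone, zero_add]
      refine (Finset.sum_le_card_nsmul _ _ b fun x _ => hcount x).trans ?_
      rw [Finset.card_erase_of_mem (Finset.mem_univ _), Finset.card_univ, ← Nat.card_eq_fintype_card, smul_eq_mul, mul_comm]
    have h3 : ∑ x : G, ((Finset.range (c - 1)).filter fun i => x ∉ B i).card +
        ∑ i ∈ Finset.range (c - 1), (Finset.univ.filter fun x => x ∈ B i).card = (c - 1) * N := by
      have h4 := Finset.sum_card_bipartiteAbove_eq_sum_card_bipartiteBelow (s := (Finset.univ : Finset G))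
        (t := Finset.range (c - 1)) (fun x i => x ∉ B i)
      simp only [Finset.bipartiteAbove, Finset.bipartiteBelow] at h4
      rw [h4, ← Finset.sum_add_distrib, Finset.sum_congr rfl fun i _ => (show _ = N from ?_), Finset.sum_const,
        Finset.card_range, smul_eq_mul]
      rw [add_comm, hN, Nat.card_eq_fintype_card, ← Finset.card_univ]
      exact Finset.card_filter_add_card_filter_not _
    have h5 : p * ∑ i ∈ Finset.range (c - 1), (Finset.univ.filter fun x => x ∈ B i).card ≤ (c - 1) * N := by
      rw [Finset.mul_sum]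
      refine (Finset.sum_le_card_nsmul _ _ N hB).trans ?_
      rw [Finset.card_range, smul_eq_mul]
    obtain ⟨P', hP'⟩ : ∃ P', p = P' + 1 := ⟨p - 1, by have := hp.pos; omega⟩
    obtain ⟨N', hN'⟩ : ∃ N', N = N' + 1 := ⟨N - 1, by omega⟩
    have h7 : (c - 1) * N * P' ≤ p * (b * N') := by
      have h8 : p * ((c - 1) * N) ≤ p * (b * N') + (c - 1) * N := by
        rw [← h3, Nat.mul_add, h3]
        exact add_le_add (Nat.mul_le_mul_left p (by rw [hN', Nat.add_sub_cancel] at h1; exact h1)) h5
      rw [hP'] at h8 ⊢
      ring_nf at h8 ⊢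
      omega
    rw [hP', Nat.add_sub_cancel, ← hP']
    by_contra hlt
    have h9 := Nat.mul_le_mul_right N (not_lt.mp hlt)
    have h10 : p * (b * N') + b * p = b * p * N := by rw [hN']; ring
    have h11 : (c - 1) * N * P' = (c - 1) * P' * N := by ring
    have h12 : 0 < b * p := Nat.mul_pos (Nat.pos_of_ne_zero hb0) hp.pos
    omega
  refine ⟨c, hc, fun hb0 => ⟨hmain hb0, ?_⟩, fun hb0 => ?_⟩
  · have h1 := hmain hb0
    by_contra hc2
    have h2 : 2 * b * (p - 1) ≤ (c - 1) * (p - 1) := Nat.mul_le_mul_right _ (by omega)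
    obtain ⟨P', rfl⟩ : ∃ P', p = P' + 1 := ⟨p - 1, by have := hp.pos; omega⟩
    rw [Nat.add_sub_cancel] at h1 h2
    have h3 : b ≤ b * P' := Nat.le_mul_of_pos_right b (by have := hp.two_le; omega)
    have h4 : 2 * b * P' = b * P' + b * P' := by ring
    have h5 : b * (P' + 1) = b * P' + b := by ring
    omega
  · by_contra hc1
    subst hb0
    refine hmin 1 (by omega) (eq_bot_iff.mpr ?_)
    rw [hsucc 0, Subgroup.commutator_le]
    intro y _ x _
    rw [Subgroup.mem_bot, commutatorElement_eq_one_iff_mul_comm]
    have h0 := hb x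
    rw [pow_zero] at h0
    have h1 : (Subgroup.centralizer ({x} : Set G)).index = 1 :=
      le_antisymm h0 (Nat.pos_of_ne_zero Subgroup.index_ne_zero_of_finite)
    exact Subgroup.mem_centralizer_singleton_iff.mp ((Subgroup.index_eq_one.mp h1).ge (Subgroup.mem_top y))

end Cfsg.Agent.S3778
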