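import Cfsg.Statements.S3780
import Mathlib
-- import your own Cfsg.Agent.* helpers here

set_option autoImplicit false
open Cfsg

namespace Cfsg.Agent.S3780

/-- Let V be a finite abelian p-group and α an automorphism of V of order p whose fixed-point subgroup has order p^n. Then V can be generated by pn elements: some subset of V with at most pn elements generates V. -/
theorem result {V : Type*} [CommGroup V] [Finite V] {p : ℕ} [Fact p.Prime] (hV : IsPGroup p V) (α : MulAut V) (hα : orderOf α = p) (n : ℕ) (hfix : Nat.card {v : V // α v = v} = p ^ n) : ∃ S : Finset V, S.card ≤ p * n ∧ Subgroup.closure (S : Set V) = ⊤ := by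
  classical
  have hp : p.Prime := Fact.out
  let pw : V →* V := powMonoidHom p
  let f : V →* V :=
    { toFun := fun v => α v / v
      map_one' := by simp
      map_mul' := fun a b => by rw [map_mul, mul_div_mul_comm] }
  -- kernels of the iterates, inside the elements of order p
  let K : ℕ → Subgroup V := fun k => Nat.rec (motive := fun _ => Subgroup V) ⊥ (fun _ A => A.comap f ⊓ pw.ker) k
  have hKle : ∀ k, K k ≤ pw.ker := by
    intro k
    cases k with
    | zero => exact bot_le
    | succ k => exact inf_le_right
  have hK1 : ∀ v, f v = 1 ↔ α v = v := fun v => div_eq_one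
  have hfk : Nat.card f.ker = p ^ n := by
    rw [← hfix]
    exact Nat.card_congr (Equiv.subtypeEquivRight hK1)
  have hbound : ∀ k, Nat.card ↥(K k) ≤ p ^ (n * k) := by
    intro k
    induction k with
    | zero =>
      show Nat.card (⊥ : Subgroup V) ≤ _
      simp
    | succ k ih =>
      let g : K (k + 1) →* K k := (f.comp (K (k + 1)).subtype).codRestrict (K k) fun x =>
        (Subgroup.mem_inf.mp x.2).1
      have h1 : Nat.card g.ker ≤ Nat.card f.ker := by
        refine Nat.card_le_card_of_injective
          (fun x => (⟨((x : K (k + 1)) : V), congrArg Subtype.val x.2⟩ : f.ker)) fun a b hab => ?_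
        exact Subtype.ext (Subtype.ext (congrArg (fun z : f.ker => (z : V)) hab))
      have h2 : g.ker.index ≤ Nat.card (K k) := by
        rw [Subgroup.index_ker]
        exact Subgroup.card_le_card_group _
      rw [← g.ker.card_mul_index, Nat.mul_succ, pow_add, mul_comm (p ^ (n * k))]
      exact Nat.mul_le_mul (h1.trans hfk.le) (h2.trans ih)
  -- (α - 1) ^ p vanishes on the elements of order p
  have hKp : pw.ker ≤ K p := by
    let E := pw.ker
    have hE : ∀ v ∈ E, α v ∈ E := fun v hv => by
      show (α v) ^ p = 1
      rw [← map_pow, show v ^ p = 1 from hv, map_one]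
    have hfE : ∀ v ∈ E, f v ∈ E := fun v hv => E.div_mem (hE v hv) hv
    have hpE : ∀ x : Additive E, p • x = 0 := fun x => by
      apply Additive.toMul.injective
      exact Subtype.ext x.toMul.2
    let A : AddMonoid.End (Additive E) := MonoidHom.toAdditive
      ((α.toMonoidHom.comp E.subtype).codRestrict E fun v => hE v v.2)
    have hA : ∀ (k : ℕ) (v : Additive E),
        ((((A ^ k : AddMonoid.End (Additive E)) v).toMul : E) : V) = (α ^ k) (v.toMul : V) := by
      intro k
      induction k with
      | zero => intro v; rfl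
      | succ k ih =>
        intro v
        rw [pow_succ', pow_succ', AddMonoid.End.coe_mul, Function.comp_apply, MulAut.mul_apply, ← ih]
        rfl
    have hpow : A ^ p = 1 := by
      refine DFunLike.ext _ _ fun v => ?_
      apply Additive.toMul.injective
      apply Subtype.ext
      rw [hA, ← hα, pow_orderOf_eq_one]
      rfl
    have hiter : ∀ (k : ℕ) (v : V) (hv : v ∈ E),
        ((A - 1) ^ k : AddMonoid.End (Additive E)) (Additive.ofMul ⟨v, hv⟩) = 0 → v ∈ K k := by
      intro k
      induction k with
      | zero =>
        intro v hv h0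
        show v ∈ (⊥ : Subgroup V)
        exact Subgroup.mem_bot.mpr (congrArg (fun z : Additive E => (z.toMul : V)) h0)
      | succ k ih =>
        intro v hv h0
        refine Subgroup.mem_inf.mpr ⟨ih (f v) (hfE v hv) ?_, hv⟩
        rw [pow_succ, AddMonoid.End.coe_mul, Function.comp_apply] at h0
        rw [← h0]
        rfl
    have hp0 : (p : AddMonoid.End (Additive E)) = 0 := by
      refine DFunLike.ext _ _ fun v => ?_
      exact (AddMonoid.End.natCast_apply p v).trans (hpE v)
    have hzero : (A - 1) ^ p = 0 := by
      rcases subsingleton_or_nontrivial (AddMonoid.End (Additive E)) with hs | hs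
      · exact Subsingleton.elim _ _
      have : CharP (AddMonoid.End (Additive E)) p :=
        ringChar.of_eq (CharP.ringChar_of_prime_eq_zero hp hp0)
      rw [sub_pow_char_of_commute _ (Commute.one_right A), one_pow, hpow, sub_self]
    intro v hv
    refine hiter p v hv ?_
    rw [hzero]
    rfl
  have hidx : pw.range.index ≤ p ^ (p * n) := by
    have h1 := pw.ker.card_mul_index
    rw [Subgroup.index_ker, ← pw.range.card_mul_index, mul_comm (Nat.card pw.range)] at h1
    rw [← Nat.eq_of_mul_eq_mul_right Nat.card_pos h1, mul_comm p]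
    exact (Subgroup.card_le_of_le hKp).trans (hbound p)
  -- greedy generators modulo V ^ p
  have hgen : ∀ (m : ℕ) (H : Subgroup V), pw.range ≤ H → H.index ≤ p ^ m →
      ∃ S : Finset V, S.card ≤ m ∧ H ⊔ Subgroup.closure (S : Set V) = ⊤ := by
    intro m
    induction m with
    | zero =>
      intro H _ hH
      refine ⟨∅, le_rfl, ?_⟩
      have := H.index_ne_zero_of_finite
      rw [pow_zero] at hH
      have h1 : H.index = 1 := by omega
      rw [Subgroup.index_eq_one.mp h1, top_sup_eq]
    | succ m ih =>
      intro H hle hH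
      rcases eq_or_ne H ⊤ with rfl | hne
      · exact ⟨∅, by simp, top_sup_eq _⟩
      obtain ⟨x, hx⟩ : ∃ x, x ∉ H := by
        by_contra hc
        push Not at hc
        exact hne (top_le_iff.mp fun y _ => hc y)
      set H' := H ⊔ Subgroup.zpowers x
      have hdvd := Subgroup.relIndex_mul_index (le_sup_left : H ≤ H')
      have hr : H.relIndex H' ≠ 1 := fun h1 =>
        hx (Subgroup.relIndex_eq_one.mp h1 (Subgroup.mem_sup_right (Subgroup.mem_zpowers x)))
      obtain ⟨k, hk⟩ := ((hV.index H).imp fun _ h => h)
      obtain ⟨j, -, hj⟩ := (Nat.dvd_prime_pow hp).mp (hk ▸ Dvd.intro _ hdvd : H.relIndex H' ∣ p ^ k)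
      have hp' : p ≤ H.relIndex H' := by
        rw [hj]
        refine Nat.le_self_pow (fun h0 => hr ?_) p
        rw [hj, h0, pow_zero]
      obtain ⟨S, hS, hSt⟩ := ih H' (hle.trans le_sup_left) (by
        by_contra hlt
        push Not at hlt
        have := Nat.mul_lt_mul_of_le_of_lt hp' hlt (lt_of_lt_of_le hp.pos hp')
        rw [hdvd, ← pow_succ'] at this
        omega)
      refine ⟨insert x S, (Finset.card_insert_le _ _).trans (by omega), ?_⟩
      rw [Finset.coe_insert, Set.insert_eq, Subgroup.closure_union, ← sup_assoc,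
        ← Subgroup.zpowers_eq_closure]
      exact hSt
  obtain ⟨S, hS, hSt⟩ := hgen (p * n) pw.range le_rfl hidx
  refine ⟨S, hS, top_le_iff.mp fun v _ => ?_⟩
  set C := Subgroup.closure (S : Set V)
  have hk : ∀ (k : ℕ) (v : V), ∃ c ∈ C, ∃ w : V, v = c * w ^ p ^ k := by
    intro k
    induction k with
    | zero => exact fun v => ⟨1, C.one_mem, v, by simp⟩
    | succ k ih =>
      intro v
      obtain ⟨c, hc, w, rfl⟩ := ih v
      have hw : w ∈ C ⊔ pw.range := by rw [sup_comm, hSt]; exact Subgroup.mem_top w
      obtain ⟨d, hd, _, ⟨u, rfl⟩, rfl⟩ := Subgroup.mem_sup.mp hw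
      refine ⟨c * d ^ p ^ k, C.mul_mem hc (C.pow_mem hd _), u, ?_⟩
      show c * (d * u ^ p) ^ p ^ k = _
      rw [mul_pow, ← pow_mul, ← pow_succ', mul_assoc]
  obtain ⟨e, he⟩ := hV.exists_card_eq
  obtain ⟨c, hc, w, rfl⟩ := hk e v
  rwa [← he, pow_card_eq_one', mul_one]

end Cfsg.Agent.S3780
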