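import Cfsg.Statements.S3986
import Mathlib
-- import your own Cfsg.Agent.* helpers here

set_option autoImplicit false
open Cfsg

namespace Cfsg.Agent.S3986


theorem direct_factor_of_commute {G : Type*} [Group G] [Finite G] (p : ℕ) [Fact p.Prime]
    (h : ∀ x y : G, (∃ a : ℕ, orderOf x = p ^ a) → (∃ q b : ℕ, q.Prime ∧ q ≠ p ∧ orderOf y = q ^ b) →
      x * y = y * x) :
    ∃ (P : Sylow p G) (K : Subgroup G), (P : Subgroup G).Normal ∧ K.Normal ∧
      (P : Subgroup G) ⊓ K = ⊥ ∧ (P : Subgroup G) ⊔ K = ⊤ := by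
  have hp := (Fact.out : p.Prime)
  obtain ⟨P⟩ : Nonempty (Sylow p G) := inferInstance
  set C := Subgroup.centralizer ((P : Subgroup G) : Set G) with hC
  have hx : ∀ x ∈ (P : Subgroup G), ∃ a : ℕ, orderOf x = p ^ a := fun x hx => by
    obtain ⟨k, hk⟩ := P.isPGroup' ⟨x, hx⟩
    obtain ⟨a, -, ha⟩ := (Nat.dvd_prime_pow hp).mp (orderOf_dvd_of_pow_eq_one (congrArg Subtype.val hk : x ^ p ^ k = 1))
    exact ⟨a, ha⟩
  have hq : ∀ q : ℕ, q.Prime → q ≠ p → ¬ q ∣ C.index := fun q hq hqp hd => by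
    have := Fact.mk hq
    obtain ⟨Q⟩ : Nonempty (Sylow q G) := inferInstance
    refine Q.not_dvd_index (hd.trans (Subgroup.index_dvd_of_le fun y hy => ?_))
    obtain ⟨k, hk⟩ := Q.isPGroup' ⟨y, hy⟩
    obtain ⟨b, -, hb⟩ := (Nat.dvd_prime_pow hq).mp (orderOf_dvd_of_pow_eq_one (congrArg Subtype.val hk : y ^ q ^ k = 1))
    rw [hC, Subgroup.mem_centralizer_iff]
    exact fun x hxP => h x y (hx x hxP) ⟨q, b, hq, hqp, hb⟩
  have hCi := Nat.eq_prime_pow_of_unique_prime_dvd (p := p) (Subgroup.index_ne_zero_of_finite (H := C))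
    (fun {d} hd hdd => Classical.byContradiction fun hne => hq d hd hne hdd)
  have hN : Subgroup.normalizer ((P : Subgroup G) : Set G) = ⊤ := by
    rw [← Subgroup.index_eq_one]
    refine Nat.eq_one_of_dvd_coprimes ((hp.coprime_iff_not_dvd.mpr fun hd =>
      P.not_dvd_index (hd.trans (Subgroup.index_dvd_of_le Subgroup.le_normalizer))).pow_left
        C.index.primeFactorsList.length) ?_ dvd_rfl
    rw [← hCi]
    refine Subgroup.index_dvd_of_le fun c hc => Subgroup.mem_normalizer_iff.mpr fun b => ?_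
    rw [hC, Subgroup.mem_centralizer_iff] at hc
    constructor
    · intro hb
      rwa [← hc b hb, mul_inv_cancel_right]
    · intro hb
      have h2 := hc _ hb
      have h3 : b = c * b * c⁻¹ := by
        calc b = c⁻¹ * (c * b * c⁻¹ * c) := by group
          _ = c⁻¹ * (c * (c * b * c⁻¹)) := by rw [h2]
          _ = c * b * c⁻¹ := by group
      rwa [h3]
  have hPn : (P : Subgroup G).Normal := Subgroup.normalizer_eq_top_iff.mp hN
  obtain ⟨K, hK⟩ := Subgroup.exists_right_complement'_of_coprime P.card_coprime_index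
  have hKC : K ≤ C := by
    intro k hk
    have : C.Normal := by rw [hC]; infer_instance
    rw [← QuotientGroup.eq_one_iff]
    refine orderOf_eq_one_iff.mp (Nat.eq_one_of_dvd_coprimes
      (((hp.coprime_iff_not_dvd.mpr ?_)).pow_left C.index.primeFactorsList.length) ?_
      ((orderOf_map_dvd (QuotientGroup.mk' C) k).trans (Subgroup.orderOf_dvd_natCard K hk)))
    · rw [← hK.symm.index_eq_card]
      exact P.not_dvd_index
    · rw [← hCi]
      exact orderOf_dvd_natCard _
  refine ⟨P, K, hPn, ?_, hK.disjoint.eq_bot, hK.sup_eq_top⟩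
  rw [← Subgroup.normalizer_eq_top_iff, eq_top_iff, ← hK.sup_eq_top]
  refine sup_le (fun x hxP => Subgroup.mem_normalizer_iff.mpr fun b => ?_) Subgroup.le_normalizer
  constructor
  · intro hb
    rwa [Subgroup.mem_centralizer_iff.mp (hKC hb) x hxP, mul_inv_cancel_right]
  · intro hb
    have h2 := Subgroup.mem_centralizer_iff.mp (hKC hb) x hxP
    have h3 : b = x * b * x⁻¹ := by
      calc b = x⁻¹ * (x * b * x⁻¹ * x) := by group
        _ = x⁻¹ * (x * (x * b * x⁻¹)) := by rw [h2]
        _ = x * b * x⁻¹ := by group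
    rwa [h3]

theorem mem_factors {G : Type*} [Group G] [Finite G] (p : ℕ) [Fact p.Prime] (P : Sylow p G) (K : Subgroup G)
    [hPn : (P : Subgroup G).Normal] [K.Normal] (h1 : (P : Subgroup G) ⊓ K = ⊥) (h2 : (P : Subgroup G) ⊔ K = ⊤)
    {x y : G} (hx : ∃ a : ℕ, orderOf x = p ^ a) (hy : ∃ q b : ℕ, q.Prime ∧ q ≠ p ∧ orderOf y = q ^ b) :
    x ∈ (P : Subgroup G) ∧ y ∈ K := by
  have hp := (Fact.out : p.Prime)
  constructor
  · obtain ⟨a, ha⟩ := hx
    obtain ⟨R, hR⟩ := (IsPGroup.of_card (n := a) (by rw [Nat.card_zpowers, ha]) :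
      IsPGroup p (Subgroup.zpowers x)).exists_le_sylow
    have := P.unique_of_normal hPn
    rw [Subsingleton.elim R P] at hR
    exact hR (Subgroup.mem_zpowers x)
  · obtain ⟨q, b, hq, hqp, hb⟩ := hy
    have hidx : Nat.card (G ⧸ K) ∣ Nat.card (P : Subgroup G) := by
      have h4 := Subgroup.isComplement'_of_disjoint_and_mul_eq_univ (H := (P : Subgroup G)) (K := K)
        (disjoint_iff.mpr h1) (by rw [← Subgroup.mul_normal, h2, Subgroup.coe_top])
      exact dvd_of_eq h4.index_eq_card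
    obtain ⟨n, hn⟩ := P.isPGroup'.exists_card_eq
    rw [← QuotientGroup.eq_one_iff]
    refine orderOf_eq_one_iff.mp (Nat.eq_one_of_dvd_coprimes
      ((Nat.coprime_primes hq hp).mpr hqp |>.pow b n) ?_ ?_)
    · rw [← hb]; exact orderOf_map_dvd (QuotientGroup.mk' K) y
    · rw [← hn]; exact (orderOf_dvd_natCard _).trans hidx

/-- Let p be a prime and G a finite group. Then some Sylow p-subgroup of G is a direct factor of G (it is normal and has a normal complement) if and only if every element of p-power order commutes with every element whose order is a power of a prime other than p. -/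
theorem result {G : Type*} [Group G] [Finite G] (p : ℕ) [Fact p.Prime] : (∃ (P : Sylow p G) (K : Subgroup G), (P : Subgroup G).Normal ∧ K.Normal ∧ (P : Subgroup G) ⊓ K = ⊥ ∧ (P : Subgroup G) ⊔ K = ⊤) ↔ ∀ x y : G, (∃ a : ℕ, orderOf x = p ^ a) → (∃ q b : ℕ, q.Prime ∧ q ≠ p ∧ orderOf y = q ^ b) → x * y = y * x := by
  refine ⟨?_, direct_factor_of_commute p⟩
  rintro ⟨P, K, hPn, hKn, h1, h2⟩ x y hx hy
  obtain ⟨hxP, hyK⟩ := mem_factors p P K h1 h2 hx hy
  exact Subgroup.commute_of_normal_of_disjoint (P : Subgroup G) K hPn hKn (disjoint_iff.mpr h1) x y hxP hyK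

end Cfsg.Agent.S3986
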