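import Cfsg.Statements.S3785
import Mathlib
import Cfsg.Agent.Lib.CentralizeOmega
import Cfsg.Agent.Lib.Basic
import Cfsg.Agent.Lib.Components
import Cfsg.Agent.Lib.Subnormal
import Cfsg.Agent.Lib.PSolvable
import Cfsg.Agent.S3986
-- import your own Cfsg.Agent.* helpers here

set_option autoImplicit false
open Cfsg

namespace Cfsg.Agent.S3785


theorem mem_pCore_of_pElement {G : Type*} [Group G] [Finite G] {s : ℕ} [Fact s.Prime] {u : G}
    (hu : u ∈ Cfsg.fittingSubgroup G) {j : ℕ} (hj : u ^ s ^ j = 1) : u ∈ Cfsg.pCore s G := by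
  have hp : IsPGroup s (Subgroup.zpowers u) := by
    obtain ⟨i, -, hi⟩ := (Nat.dvd_prime_pow (Fact.out : s.Prime)).mp (orderOf_dvd_of_pow_eq_one hj)
    exact IsPGroup.of_card (n := i) (by rw [Nat.card_zpowers, hi])
  have := CfsgLib.isNilpotent_fittingSubgroup (G := G)
  have hle : Subgroup.zpowers u ≤ Cfsg.fittingSubgroup G := Subgroup.zpowers_le.mpr hu
  exact CfsgLib.isSubnormal_isPGroup_le_pCore
    (Subgroup.IsSubnormal.trans hle (CfsgLib.isSubnormal_of_nilpotent _)
      (inferInstance : (Cfsg.fittingSubgroup G).Normal).isSubnormal) hp (Subgroup.mem_zpowers u)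

theorem mem_of_parts {G : Type*} [Group G] [Finite G] (C : Subgroup G) (u : G)
    (h : ∀ s : ℕ, s.Prime → s ∣ orderOf u → u ^ ordCompl[s] (orderOf u) ∈ C) : u ∈ C := by
  set H := C.subgroupOf (Subgroup.zpowers u) with hH
  suffices hidx : H.index = 1 by
    have h1 : (⟨u, Subgroup.mem_zpowers u⟩ : Subgroup.zpowers u) ∈ H := by
      rw [Subgroup.index_eq_one.mp hidx]; exact Subgroup.mem_top _
    exact h1
  by_contra hne
  obtain ⟨s, hs, hsd⟩ := Nat.exists_prime_and_dvd hne
  have hsd' : s ∣ orderOf u := hsd.trans (H.index_dvd_card.trans (dvd_of_eq (Nat.card_zpowers u)))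
  set w : Subgroup.zpowers u := ⟨u ^ ordCompl[s] (orderOf u), Subgroup.npow_mem_zpowers u _⟩
  have hw : orderOf w = ordProj[s] (orderOf u) := by
    rw [← Subgroup.orderOf_coe, orderOf_pow_of_dvd (Nat.ordCompl_pos s (orderOf_pos u).ne').ne'
      (Nat.ordCompl_dvd _ _), Nat.div_div_self (Nat.ordProj_dvd _ _) (orderOf_pos u).ne']
  have h2 : ordProj[s] (orderOf u) ∣ Nat.card H := hw ▸ Subgroup.orderOf_dvd_natCard H (h s hs hsd')
  have h3 := mul_dvd_mul h2 hsd
  rw [H.card_mul_index, Nat.card_zpowers, ← pow_succ] at h3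
  exact Nat.pow_succ_factorization_not_dvd (orderOf_pos u).ne' hs h3

/-- Let G be a finite solvable group whose Fitting subgroup F(G) has odd order. If an element g of G commutes with every element of prime order of F(G), then g ∈ F(G). -/
theorem result {G : Type*} [Group G] [Finite G] (hG : Group.IsSolvable G) (hodd : Odd (Nat.card (Cfsg.fittingSubgroup G))) (g : G) (hg : ∀ x ∈ Cfsg.fittingSubgroup G, (orderOf x).Prime → g * x = x * g) : g ∈ Cfsg.fittingSubgroup G := by
  set F := Cfsg.fittingSubgroup G with hF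
  let B : Subgroup G :=
    { carrier := {b | ∀ x ∈ F, (orderOf x).Prime → b * x = x * b}
      one_mem' := fun x _ _ => by rw [one_mul, mul_one]
      mul_mem' := fun {a b} ha hb x hx hxo =>
        (Commute.mul_left (ha x hx hxo : Commute a x) (hb x hx hxo : Commute b x)).eq
      inv_mem' := fun {a} ha x hx hxo => (Commute.inv_left (ha x hx hxo : Commute a x)).eq }
  have hBn : B.Normal := ⟨fun b hb c x hx hxo => by
    have h1 := hb (c⁻¹ * x * c⁻¹⁻¹) ((inferInstance : F.Normal).conj_mem x hx c⁻¹) (by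
      rwa [show orderOf (c⁻¹ * x * c⁻¹⁻¹) = orderOf x from
        orderOf_injective (MulAut.conj c⁻¹).toMonoidHom (MulAut.conj c⁻¹).injective x])
    calc c * b * c⁻¹ * x = c * (b * (c⁻¹ * x * c⁻¹⁻¹)) * c⁻¹ := by group
      _ = c * ((c⁻¹ * x * c⁻¹⁻¹) * b) * c⁻¹ := by rw [h1]
      _ = x * (c * b * c⁻¹) := by group⟩
  suffices hnil : Group.IsNilpotent B from CfsgLib.le_fittingSubgroup hnil hg
  have hcore : ∀ (q : ℕ) (x : G), x ∈ B → (∃ a, orderOf x = q ^ a) → q.Prime → ∀ s : ℕ, s.Prime → s ≠ q →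
      ∀ w ∈ Cfsg.pCore s G, x * w = w * x := by
    intro q x hxB hxo hq s hs hsq w hw
    obtain ⟨a, ha⟩ := hxo
    have := Fact.mk hs
    rcases eq_or_ne w 1 with rfl | hw1
    · rw [mul_one, one_mul]
    have hle := CfsgLib.pCore_le_fittingSubgroup (G := G) hs
    have hs2 : s ≠ 2 := by
      intro h2
      subst h2
      obtain ⟨j, hj⟩ := (CfsgLib.isPGroup_pCore (G := G) 2) ⟨w, hw⟩
      have hd : orderOf w ∣ 2 ^ j := orderOf_dvd_of_pow_eq_one (congrArg Subtype.val hj)
      exact hw1 (orderOf_eq_one_iff.mp (Nat.eq_one_of_dvd_coprimes ((Nat.coprime_two_left.mpr hodd).pow_left j)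
        hd (Subgroup.orderOf_dvd_natCard F (hle hw))))
    have h1 := CfsgLib.centralizes_of_fixes_order_p hs2 x
      (by rw [ha]; exact ((Nat.coprime_primes hq hs).mpr hsq.symm).pow_left a) (Cfsg.pCore s G)
      (CfsgLib.isPGroup_pCore s) (by rw [Subgroup.normalizer_eq_top_iff.mpr inferInstance]; trivial)
      (fun v hv hvs => by
        rcases eq_or_ne v 1 with rfl | hv1
        · group
        rw [hxB v (hle hv) (by rw [orderOf_eq_prime hvs hv1]; exact hs), mul_inv_cancel_right]) w hw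
    calc x * w = (x * w * x⁻¹) * x := by group
      _ = w * x := by rw [h1]
  -- elements of coprime prime-power orders of `B` commute
  have hcomm : ∀ (q r : ℕ) (x y : G), x ∈ B → y ∈ B → q.Prime → r.Prime → q ≠ r →
      (∃ a, orderOf x = q ^ a) → (∃ b, orderOf y = r ^ b) → x * y = y * x := by
    intro q r x y hxB hyB hq hr hqr hxo hyo
    set z := x * y * x⁻¹ * y⁻¹ with hz
    have hzB : z ∈ B := mul_mem (mul_mem (mul_mem hxB hyB) (inv_mem hxB)) (inv_mem hyB)
    have hzc : ∀ s : ℕ, s.Prime → ∀ w ∈ Cfsg.pCore s G, z * w = w * z := by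
      intro s hs w hw
      have hN := (inferInstance : (Cfsg.pCore s G).Normal)
      by_cases hsq : s = q
      · subst hsq
        have hy' : ∀ v ∈ Cfsg.pCore s G, y * v * y⁻¹ = v := fun v hv => by
          rw [hcore r y hyB hyo hr s hs hqr v hv, mul_inv_cancel_right]
        have h1 : x⁻¹ * (y⁻¹ * w * y⁻¹⁻¹) * x⁻¹⁻¹ ∈ Cfsg.pCore s G :=
          hN.conj_mem _ (hN.conj_mem w hw y⁻¹) x⁻¹
        have h2 := hy' _ h1
        have h3 : y⁻¹ * w * y⁻¹⁻¹ = w := by
          conv_lhs => rw [← hy' w hw]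
          group
        have h4 : z * w * z⁻¹ = w := by
          calc z * w * z⁻¹ = x * (y * (x⁻¹ * (y⁻¹ * w * y⁻¹⁻¹) * x⁻¹⁻¹) * y⁻¹) * x⁻¹ := by rw [hz]; group
            _ = w := by rw [h2, h3]; group
        calc z * w = z * w * z⁻¹ * z := by group
          _ = w * z := by rw [h4]
      · have hx' : ∀ v ∈ Cfsg.pCore s G, x * v * x⁻¹ = v := fun v hv => by
          rw [hcore q x hxB hxo hq s hs hsq v hv, mul_inv_cancel_right]
        have h1 : y⁻¹ * w * y⁻¹⁻¹ ∈ Cfsg.pCore s G := hN.conj_mem w hw y⁻¹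
        have h2 : x⁻¹ * (y⁻¹ * w * y⁻¹⁻¹) * x⁻¹⁻¹ = y⁻¹ * w * y⁻¹⁻¹ := by
          conv_lhs => rw [← hx' _ h1]
          group
        have h4 : z * w * z⁻¹ = w := by
          calc z * w * z⁻¹ = x * (y * (x⁻¹ * (y⁻¹ * w * y⁻¹⁻¹) * x⁻¹⁻¹) * y⁻¹) * x⁻¹ := by rw [hz]; group
            _ = x * w * x⁻¹ := by rw [h2]; group
            _ = w := hx' w hw
        calc z * w = z * w * z⁻¹ * z := by group
          _ = w * z := by rw [h4]
    have hzF : z ∈ F := by
      refine CfsgLib.centralizer_fitting_le (G := G) ?_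
      rw [Subgroup.mem_centralizer_iff]
      intro w hw
      have hle : Cfsg.fittingSubgroup G ≤ Subgroup.centralizer ({z} : Set G) := by
        rw [CfsgLib.fittingSubgroup_eq_iSup_pCore]
        refine iSup_le fun s => ?_
        first
        | exact fun v hv => Subgroup.mem_centralizer_singleton_iff.mpr (hzc s s.2 v hv).symm
        | exact iSup_le fun hs v hv => Subgroup.mem_centralizer_singleton_iff.mpr (hzc s hs v hv).symm
      exact Subgroup.mem_centralizer_singleton_iff.mp (hle hw)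
    -- modulo `O_q` the commutator is trivial
    have key : ∀ (q : ℕ) (x' : G), x' ∈ B → q.Prime → (∃ a, orderOf x' = q ^ a) → ∀ v ∈ F,
        (∃ a, orderOf (v * x') = q ^ a) → v ∈ Cfsg.pCore q G := by
      intro q x' hxB' hq hxo' v hv hvx
      have := Fact.mk hq
      obtain ⟨a, ha⟩ := hxo'
      obtain ⟨a', ha'⟩ := hvx
      set f := QuotientGroup.mk' (Cfsg.pCore q G) with hf
      have hu : Commute x' (v ^ ordProj[q] (orderOf v)) := by
        set u := v ^ ordProj[q] (orderOf v) with hu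
        have h1 : u ∈ Subgroup.centralizer ({x'} : Set G) := by
          refine mem_of_parts _ u fun s hs hsd => ?_
          rw [Subgroup.mem_centralizer_singleton_iff]
          have := Fact.mk hs
          refine (hcore q x' hxB' ⟨a, ha⟩ hq s hs ?_ _ (mem_pCore_of_pElement (pow_mem (pow_mem hv _) _)
            (j := (orderOf u).factorization s) ?_)).symm
          · intro e
            subst e
            rw [hu, orderOf_pow_of_dvd (pow_ne_zero _ hs.ne_zero) (Nat.ordProj_dvd _ _)] at hsd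
            exact Nat.not_dvd_ordCompl hs (orderOf_pos v).ne' hsd
          · rw [← pow_mul, mul_comm, Nat.ordProj_mul_ordCompl_eq_self, pow_orderOf_eq_one]
        exact (Subgroup.mem_centralizer_singleton_iff.mp h1).symm
      have hq' : f (v ^ ordCompl[q] (orderOf v)) = 1 :=
        (QuotientGroup.eq_one_iff _).mpr (mem_pCore_of_pElement (pow_mem hv _)
          (j := (orderOf v).factorization q)
          (by rw [← pow_mul, mul_comm, Nat.ordProj_mul_ordCompl_eq_self, pow_orderOf_eq_one]))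
      have hcop : Nat.gcd (ordProj[q] (orderOf v)) (ordCompl[q] (orderOf v)) = 1 :=
        Nat.Coprime.pow_left _ (Nat.coprime_ordCompl hq (orderOf_pos v).ne')
      have hb := Nat.gcd_eq_gcd_ab (ordProj[q] (orderOf v)) (ordCompl[q] (orderOf v))
      rw [hcop] at hb
      have hfv : f v = f (v ^ ordProj[q] (orderOf v)) ^ (Nat.gcdA (ordProj[q] (orderOf v)) (ordCompl[q] (orderOf v))) := by
        conv_lhs => rw [← zpow_one v, show (1 : ℤ) = ((1 : ℕ) : ℤ) from rfl, hb, zpow_add, zpow_mul, zpow_mul,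
          zpow_natCast, zpow_natCast, map_mul, map_zpow, map_zpow, hq', one_zpow, mul_one]
      have hcfx : Commute (f x') (f v) := by
        rw [hfv]
        exact (hu.map f).zpow_right _
      have hord : orderOf (f v) ∣ ordCompl[q] (orderOf v) := orderOf_dvd_of_pow_eq_one (by rw [← map_pow, hq'])
      have hpow : f v ^ q ^ (a + a') = 1 := by
        have h1 : (f (v * x')) ^ q ^ (a + a') = 1 := by
          rw [← orderOf_dvd_iff_pow_eq_one]
          exact (orderOf_map_dvd f _).trans (ha' ▸ pow_dvd_pow q (by omega))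
        have h2 : (f x') ^ q ^ (a + a') = 1 := by
          rw [← orderOf_dvd_iff_pow_eq_one]
          exact (orderOf_map_dvd f _).trans (ha ▸ pow_dvd_pow q (by omega))
        rwa [map_mul, hcfx.symm.mul_pow, h2, mul_one] at h1
      refine (QuotientGroup.eq_one_iff v).mp (orderOf_eq_one_iff.mp ?_)
      exact Nat.eq_one_of_dvd_coprimes ((Nat.coprime_ordCompl hq (orderOf_pos v).ne').pow_left (a + a'))
        (orderOf_dvd_of_pow_eq_one hpow) hord
    have hconjo : ∀ (c d : G), orderOf (c * d * c⁻¹) = orderOf d := fun c d =>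
      orderOf_injective (MulAut.conj c).toMonoidHom (MulAut.conj c).injective d
    have hzr : z ∈ Cfsg.pCore r G := key r y hyB hr hyo z hzF (by
      rw [show z * y = x * y * x⁻¹ by rw [hz]; group, hconjo]; exact hyo)
    have hzq : z ∈ Cfsg.pCore q G := by
      have h1 : z⁻¹ ∈ Cfsg.pCore q G := key q x hxB hq hxo z⁻¹ (inv_mem hzF) (by
        rw [show z⁻¹ * x = y * x * y⁻¹ by rw [hz]; group, hconjo]; exact hxo)
      simpa using inv_mem h1
    have := Fact.mk hq; have := Fact.mk hr
    have hd : Disjoint (Cfsg.pCore q G) (Cfsg.pCore r G) :=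
      IsPGroup.disjoint_of_ne q r hqr _ _ (CfsgLib.isPGroup_pCore q) (CfsgLib.isPGroup_pCore r)
    have h1 : z = 1 := Subgroup.disjoint_def.mp hd hzq hzr
    calc x * y = z * (y * x) := by rw [hz]; group
      _ = y * x := by rw [h1, one_mul]
  refine (Group.isNilpotent_of_finite_tfae (G := B)).out 3 0 rfl rfl |>.mp fun p hp P => ?_
  have := hp
  obtain ⟨P', -, hP', -⟩ := Cfsg.Agent.S3986.direct_factor_of_commute (G := B) p fun x y hx hy => by
    obtain ⟨r, b, hr, hrp, hb⟩ := hy
    refine Subtype.ext (hcomm p r x y x.2 y.2 hp.out hr hrp.symm ?_ ?_)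
    · obtain ⟨a, ha⟩ := hx; exact ⟨a, by rw [Subgroup.orderOf_coe, ha]⟩
    · exact ⟨b, by rw [Subgroup.orderOf_coe, hb]⟩
  have := P'.unique_of_normal hP'
  rw [Subsingleton.elim P P']
  exact hP' 

end Cfsg.Agent.S3785
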