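import Cfsg.Statements.S3786
import Mathlib
import Cfsg.Agent.Lib.HallHigmanB.Reduction
-- import your own Cfsg.Agent.* helpers here

set_option autoImplicit false
open Cfsg

namespace Cfsg.Agent.S3786

/-- The Hall–Higman bound on p-length. Let p be an odd prime and G a finite p-soluble group whose Sylow p-subgroups have exponent dividing p^e. (a) If p is not of the form 2^k + 1, or if the Sylow 2-subgroups of G are abelian, then G has p-length at most e. (b) In every case G has p-length at most 2e. -/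
theorem result {G : Type*} [Group G] [Finite G] {p : ℕ} [Fact p.Prime] (hp : p ≠ 2) (hG : Cfsg.IsPSolvable p G) (e : ℕ) (hexp : ∀ (P : Sylow p G), ∀ x ∈ (P : Subgroup G), x ^ p ^ e = 1) : (((¬ ∃ k : ℕ, p = 2 ^ k + 1) ∨ ∀ S : Sylow 2 G, IsMulCommutative (S : Subgroup G)) → Cfsg.PLengthLE p e G) ∧ Cfsg.PLengthLE p (2 * e) G := by
  have hp' := (Fact.out : p.Prime)
  have he := CfsgLib.HallHigmanB.expLE_of_sylow hexp
  refine ⟨fun h => CfsgLib.HallHigmanB.pLengthLE_exp _ le_rfl hG (fun n₀ q m h1 hq h2 h3 => ?_) e he,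
    CfsgLib.HallHigmanB.pLengthLE_two_exp hp e hG he⟩
  have hodd : Odd (p ^ n₀) := (hp'.odd_of_ne_two hp).pow
  obtain rfl : q = 2 := by
    by_contra hq2
    obtain ⟨a, ha⟩ := (hq.odd_of_ne_two hq2).pow (n := m)
    obtain ⟨c, hc⟩ := hodd
    omega
  rcases h with h | h
  · exfalso
    refine h ?_
    have hd : p - 1 ∣ 2 ^ m := h3 ▸ Nat.sub_one_dvd_pow_sub_one p n₀
    obtain ⟨k, -, hk⟩ := (Nat.dvd_prime_pow Nat.prime_two).mp hd
    exact ⟨k, by have := hp'.pos; omega⟩
  · exact ⟨default, h default⟩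

end Cfsg.Agent.S3786
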