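import Cfsg.Statements.S3787
import Mathlib
import Cfsg.Agent.Lib.HallHigmanB.Reduction
import Cfsg.Agent.Lib.QdSection
-- import your own Cfsg.Agent.* helpers here

set_option autoImplicit false
open Cfsg

namespace Cfsg.Agent.S3787

namespace Aux

open CfsgLib CfsgLib.HallHigmanB
open scoped commutatorElement

universe a

variable {p : ℕ} [Fact p.Prime]

/-- A free cyclic module of a `p`-element gives a wreath section. -/
theorem wreath_section {X : Type a} [Group X] [Finite X] (V : Subgroup X) (hVab : ∀ a ∈ V, ∀ b ∈ V, a * b = b * a)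
    (hVp : ∀ a ∈ V, a ^ p = 1) (t : X) (htV : t ∈ Subgroup.normalizer (V : Set X)) (htp : t ^ p ∈ V) (b : X)
    (hbV : b ∈ V) (hb : (fun w => t * w * t⁻¹ * w⁻¹)^[p - 1] b ≠ 1) :
    ∃ (K : Subgroup X) (W : Type) (_ : Group W) (_ : Finite W) (f : K →* W), Function.Surjective f ∧
      K ≤ V ⊔ Subgroup.zpowers t ∧ ∃ (B : Subgroup W) (t : W), B.Normal ∧ IsMulCommutative B ∧
        (∀ b ∈ B, b ^ p = 1) ∧ Nat.card B = p ^ p ∧ orderOf t = p ∧ t ∉ B ∧ Nat.card W = p ^ (p + 1) ∧
        Nat.card ↥(B ⊓ Subgroup.centralizer ({t} : Set W)) = p := by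
  classical
  have hp := (Fact.out : p.Prime)
  letI : CommGroup V := { (inferInstance : Group V) with mul_comm := fun a b => Subtype.ext (hVab a a.2 b b.2) }
  have hexp : ∀ x : Additive V, p • x = 0 := fun x => by
    apply Additive.toMul.injective
    rw [toMul_nsmul, toMul_zero]
    exact Subtype.ext (hVp _ (Additive.toMul x).2)
  letI : Module (ZMod p) (Additive V) := AddCommGroup.zmodModule (n := p) (G := Additive V) hexp
  let φ := Subgroup.normalizerMonoidHom V ⟨t, htV⟩
  let T : Module.End (ZMod p) (Additive V) :=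
    AddMonoidHom.toZModLinearMap p (M := Additive V) (M₁ := Additive V) (MonoidHom.toAdditive φ.toMonoidHom)
  have hT : ∀ w : V, ((Additive.toMul (T (Additive.ofMul w)) : V) : X) = t * w * t⁻¹ := fun w => rfl
  have hTi : ∀ (i : ℕ) (w : V), ((Additive.toMul ((T ^ i) (Additive.ofMul w)) : V) : X) = t ^ i * w * (t ^ i)⁻¹ := by
    intro i
    induction i with
    | zero => intro w; simp
    | succ i ih =>
      intro w
      rw [pow_succ', Module.End.mul_apply, ← ofMul_toMul ((T ^ i) (Additive.ofMul w)), hT, ih, pow_succ']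
      group
  set N : Module.End (ZMod p) (Additive V) := T - 1 with hN
  have hNa : ∀ w : V, ((Additive.toMul (N (Additive.ofMul w)) : V) : X) = t * w * t⁻¹ * (w : X)⁻¹ := fun w => by
    rw [hN, LinearMap.sub_apply, Module.End.one_apply, toMul_sub, toMul_ofMul, div_eq_mul_inv, Subgroup.coe_mul,
      Subgroup.coe_inv, hT]
  set e : Additive V := Additive.ofMul ⟨b, hbV⟩ with he
  have hNi : ∀ i : ℕ, ((Additive.toMul ((N ^ i) e) : V) : X) = (fun w => t * w * t⁻¹ * w⁻¹)^[i] b := fun i => by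
    induction i with
    | zero => rfl
    | succ i ih =>
      rw [pow_succ', Module.End.mul_apply, ← ofMul_toMul ((N ^ i) e), hNa, ih, Function.iterate_succ_apply']
  have hNe : (N ^ (p - 1)) e ≠ 0 := fun h => hb (by rw [← hNi, h, toMul_zero, Subgroup.coe_one])
  haveI : Nontrivial (Additive V) := ⟨⟨_, _, hNe⟩⟩
  haveI : CharP (Module.End (ZMod p) (Additive V)) p :=
    charP_of_injective_algebraMap (algebraMap (ZMod p) (Module.End (ZMod p) (Additive V))).injective p
  have hTp : T ^ p = 1 := LinearMap.ext fun x => by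
    obtain ⟨w, rfl⟩ := Additive.ofMul.surjective x
    refine Additive.toMul.injective (Subtype.ext ?_)
    rw [hTi, Module.End.one_apply, toMul_ofMul, hVab _ htp _ w.2, mul_inv_cancel_right]
  have hNp : N ^ p = 0 := by
    rw [hN, sub_pow_char_of_commute _ (Commute.one_right T), one_pow, hTp, sub_self]
  -- separation of the coefficients
  have hsep : ∀ (g : Fin p → ZMod p) (m : ℕ), ∑ i, g i • (N ^ ((i : ℕ) + m)) e = 0 →
      ∀ i : Fin p, (i : ℕ) + m < p → g i = 0 := by
    intro g m hg i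
    induction hi : (i : ℕ) using Nat.strong_induction_on generalizing i with
    | _ k ih =>
      subst hi
      intro him
      have h1 := congrArg (N ^ (p - 1 - (i + m))) hg
      rw [map_sum, map_zero, Finset.sum_eq_single i (fun j _ hj => ?_) (fun h => absurd (Finset.mem_univ i) h)] at h1
      · rw [map_smul, ← Module.End.mul_apply, ← pow_add, show p - 1 - ((i : ℕ) + m) + (i + m) = p - 1 by omega] at h1
        exact (smul_eq_zero.mp h1).resolve_right hNe
      · rw [map_smul, ← Module.End.mul_apply, ← pow_add]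
        rcases lt_or_gt_of_ne (fun h => hj (Fin.ext h) : (j : ℕ) ≠ i) with h | h
        · rw [ih j h j rfl (by omega), zero_smul]
        · rw [pow_eq_zero_of_le (by omega) hNp, LinearMap.zero_apply, smul_zero]
  have hli : LinearIndependent (ZMod p) fun i : Fin p => (N ^ (i : ℕ)) e :=
    Fintype.linearIndependent_iff.mpr fun g hg i => hsep g 0 (by simpa using hg) i (by simpa using i.2)
  set S := Submodule.span (ZMod p) (Set.range fun i : Fin p => (N ^ (i : ℕ)) e) with hS
  have hScard : Nat.card S = p ^ p := by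
    rw [Module.natCard_eq_pow_finrank (K := ZMod p), finrank_span_eq_card hli, Nat.card_eq_fintype_card, ZMod.card,
      Fintype.card_fin]
  have hNS : ∀ v ∈ S, N v ∈ S := fun v hv => by
    induction hv using Submodule.span_induction with
    | mem x hx =>
      obtain ⟨i, rfl⟩ := hx
      show N ((N ^ (i : ℕ)) e) ∈ S
      rw [← Module.End.mul_apply, ← pow_succ']
      rcases Nat.lt_or_ge ((i : ℕ) + 1) p with h | h
      · exact Submodule.subset_span ⟨⟨_, h⟩, rfl⟩
      · rw [pow_eq_zero_of_le h hNp, LinearMap.zero_apply]; exact zero_mem _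
    | zero => simp
    | add x y _ _ hx hy => rw [map_add]; exact add_mem hx hy
    | smul c x _ hx => rw [map_smul]; exact S.smul_mem c hx
  have hker : ∀ v ∈ S, N v = 0 → ∃ c : ZMod p, v = c • (N ^ (p - 1)) e := by
    intro v hv hv0
    obtain ⟨g, rfl⟩ := (Submodule.mem_span_range_iff_exists_fun (ZMod p)).mp hv
    refine ⟨g ⟨p - 1, Nat.sub_lt hp.pos one_pos⟩, ?_⟩
    rw [Finset.sum_eq_single ⟨p - 1, Nat.sub_lt hp.pos one_pos⟩ (fun j _ hj => ?_)
      (fun h => absurd (Finset.mem_univ _) h)]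
    rw [hsep g 1 (by
      rw [map_sum] at hv0
      rw [← hv0]
      exact Finset.sum_congr rfl fun i _ => by rw [map_smul, ← Module.End.mul_apply, ← pow_succ']) j
      (by have : (j : ℕ) ≠ p - 1 := fun h => hj (Fin.ext h); omega), zero_smul]
  -- the group
  let U : Subgroup X :=
    { carrier := {u | ∃ h : u ∈ V, Additive.ofMul (⟨u, h⟩ : V) ∈ S}
      one_mem' := ⟨one_mem V, S.zero_mem⟩
      mul_mem' := fun ⟨ha, ha'⟩ ⟨hb, hb'⟩ => ⟨mul_mem ha hb, S.add_mem ha' hb'⟩
      inv_mem' := fun ⟨ha, ha'⟩ => ⟨inv_mem ha, S.neg_mem ha'⟩ }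
  have hUV : U ≤ V := fun u hu => hu.1
  have hU : ∀ x : S, ((Additive.toMul (x : Additive V) : V) : X) ∈ U := fun x => ⟨(Additive.toMul (x : Additive V)).2, x.2⟩
  have hUcard : Nat.card U = p ^ p := by
    rw [← hScard]
    exact (Nat.card_eq_of_bijective (fun x : S => (⟨_, hU x⟩ : U))
      ⟨fun x y h => Subtype.ext (Additive.toMul.injective (Subtype.ext (congrArg (fun z : U => (z : X)) h))),
        fun ⟨u, hu, hu'⟩ => ⟨⟨_, hu'⟩, rfl⟩⟩).symm
  -- a better element
  obtain ⟨t', ht'K, ht'act, ht'p, ht'sep⟩ : ∃ t' ∈ V ⊔ Subgroup.zpowers t,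
      (∀ w ∈ V, t' * w * t'⁻¹ = t * w * t⁻¹) ∧ t' ^ p ∈ V ∧ (t' ^ p = 1 ∨ t' ^ p ∉ U) := by
    by_cases hc : t ^ p ∈ U
    · have hfix : N (Additive.ofMul (⟨t ^ p, htp⟩ : V)) = 0 := by
        refine Additive.toMul.injective (Subtype.ext ?_)
        rw [hNa, toMul_zero, Subgroup.coe_one, mul_inv_eq_one, mul_inv_eq_iff_eq_mul]
        exact (Commute.self_pow t p).eq
      obtain ⟨c, hc'⟩ := hker _ hc.2 hfix
      obtain ⟨u, hu⟩ := Additive.ofMul.surjective (-(c • e))
      have hsum : ∀ m : ℕ, ((u : X) * t) ^ m =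
          ((Additive.toMul ((∑ i ∈ Finset.range m, T ^ i) (Additive.ofMul u)) : V) : X) * t ^ m := by
        intro m
        induction m with
        | zero => simp
        | succ m ih =>
          rw [pow_succ, ih, Finset.sum_range_succ, LinearMap.add_apply, toMul_add, Subgroup.coe_mul, hTi]
          group
      refine ⟨(u : X) * t, mul_mem (Subgroup.mem_sup_left u.2) (Subgroup.mem_sup_right (Subgroup.mem_zpowers t)),
        fun w hw => ?_, ?_⟩
      · have hm := (Subgroup.mem_normalizer_iff.mp htV w).mp hw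
        calc (u : X) * t * w * ((u : X) * t)⁻¹ = (u : X) * (t * w * t⁻¹) * (u : X)⁻¹ := by group
          _ = t * w * t⁻¹ := by rw [hVab _ u.2 _ hm, mul_inv_cancel_right]
      · have h1 : ((u : X) * t) ^ p = 1 := by
          rw [hsum p, show (∑ i ∈ Finset.range p, T ^ i) = N ^ (p - 1) by
              have := geom_sum_eq_pow (K := ZMod p) (p := p) T 1
              rw [pow_one] at this
              exact this, hu, map_neg, map_smul, ← hc', toMul_neg, Subgroup.coe_inv]
          exact inv_mul_cancel _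
        exact ⟨by rw [h1]; exact one_mem V, Or.inl h1⟩
    · exact ⟨t, Subgroup.mem_sup_right (Subgroup.mem_zpowers t), fun w _ => rfl, htp, Or.inr hc⟩
  set c₀ := t' ^ p with hc₀
  have hUc : ∀ i : ℕ, c₀ ^ i ∈ U → c₀ ^ i = 1 := by
    intro i hi
    rcases ht'sep with h | h
    · rw [h, one_pow]
    · by_contra hne
      obtain ⟨k, hk⟩ : ∃ k : ℕ, (c₀ ^ i) ^ k = c₀ := exists_pow_eq_self_of_coprime (by
        refine Nat.Coprime.coprime_dvd_right (orderOf_dvd_of_pow_eq_one (hVp _ ht'p)) ?_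
        exact (Nat.coprime_comm.mp (hp.coprime_iff_not_dvd.mpr fun hd => hne (by
          obtain ⟨d, rfl⟩ := hd
          rw [pow_mul, hVp _ ht'p, one_pow]))))
      exact h (hk ▸ pow_mem hi k)
  have ht'U : ∀ u ∈ U, t' * u * t'⁻¹ ∈ U := by
    rintro u ⟨hu, hu'⟩
    rw [ht'act u hu]
    refine ⟨(Subgroup.mem_normalizer_iff.mp htV u).mp hu, ?_⟩
    have h1 : T (Additive.ofMul (⟨u, hu⟩ : V)) ∈ S := by
      have h3 := add_mem (hNS _ hu') hu'
      rwa [hN, LinearMap.sub_apply, Module.End.one_apply, sub_add_cancel] at h3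
    exact h1
  have ht'N : t' ∈ Subgroup.normalizer (U : Set X) := Subgroup.mem_normalizer_fintype ht'U
  set K := U ⊔ Subgroup.zpowers t' with hK
  have hKle : K ≤ V ⊔ Subgroup.zpowers t := sup_le (hUV.trans le_sup_left) (Subgroup.zpowers_le.mpr ht'K)
  have hKmem : ∀ k ∈ K, ∃ u ∈ U, ∃ i : ℕ, u * t' ^ i = k := fun k hk => by
    rw [← SetLike.mem_coe, hK, Subgroup.coe_mul_of_right_le_normalizer_left U _ (Subgroup.zpowers_le.mpr ht'N)] at hk
    obtain ⟨u, hu, z, hz, rfl⟩ := Set.mem_mul.mp hk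
    obtain ⟨i, rfl⟩ := (isOfFinOrder_of_finite t').mem_powers_iff_mem_zpowers.mpr hz
    exact ⟨u, hu, i, rfl⟩
  set C := Subgroup.zpowers c₀ with hC
  haveI hCn : (C.subgroupOf K).Normal := by
    refine ⟨fun n hn g => ?_⟩
    rw [Subgroup.mem_subgroupOf] at hn ⊢
    obtain ⟨i, hi⟩ := hn
    obtain ⟨u, hu, j, hj⟩ := hKmem g g.2
    have h1 : Commute (g : X) c₀ := by
      rw [← hj]
      exact ((show Commute u c₀ from hVab u (hUV hu) _ ht'p)).mul_left ((Commute.self_pow t' p).pow_left j)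
    refine ⟨i, ?_⟩
    show c₀ ^ i = (g : X) * n * (g : X)⁻¹
    rw [← hi]
    show c₀ ^ i = (g : X) * c₀ ^ i * (g : X)⁻¹
    rw [(h1.zpow_right i).eq, mul_inv_cancel_right]
  let π : K →* K ⧸ C.subgroupOf K := QuotientGroup.mk' _
  have hCnat : ∀ {z : X}, z ∈ C → ∃ i : ℕ, c₀ ^ i = z := fun {z} hz =>
    (isOfFinOrder_of_finite c₀).mem_powers_iff_mem_zpowers.mpr hz
  let B₀ : Subgroup (K ⧸ C.subgroupOf K) := (U.subgroupOf K).map π
  let t₀ : K := ⟨t', Subgroup.mem_sup_right (Subgroup.mem_zpowers t')⟩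
  have hinj : ∀ u : U.subgroupOf K, π u = 1 → u = 1 := fun u hu => by
    obtain ⟨i, hi⟩ : ∃ i : ℕ, c₀ ^ i = ((u : K) : X) := hCnat ((QuotientGroup.eq_one_iff (u : K)).mp hu)
    exact Subtype.ext (Subtype.ext (by rw [← hi, hUc i (hi ▸ u.2)]; rfl))
  have hBcard : Nat.card B₀ = p ^ p := by
    have e1 : B₀ = (π.comp (U.subgroupOf K).subtype).range := by
      rw [MonoidHom.range_comp, Subgroup.range_subtype]
    rw [e1, ← Nat.card_congr (MonoidHom.ofInjective (f := π.comp (U.subgroupOf K).subtype)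
      ((injective_iff_map_eq_one _).mpr hinj)).toEquiv, Nat.card_congr (Subgroup.subgroupOfEquivOfLe le_sup_left).toEquiv,
      hUcard]
  have ht'ne : t' ∉ V := fun h => hNe (by
    have : N = 0 := LinearMap.ext fun x => by
      obtain ⟨w, rfl⟩ := Additive.ofMul.surjective x
      refine Additive.toMul.injective (Subtype.ext ?_)
      rw [hNa, ← ht'act w w.2, hVab _ h _ w.2, mul_inv_cancel_right, mul_inv_cancel]
      rfl
    rw [this, zero_pow (by have := hp.two_le; omega), LinearMap.zero_apply])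
  have hB0V : ∀ k : K, π k ∈ B₀ → (k : X) ∈ V := by
    rintro k ⟨u, hu, huk⟩
    obtain ⟨i, hi⟩ := hCnat ((QuotientGroup.eq (s := C.subgroupOf K)).mp huk)
    have : (k : X) = (u : X) * c₀ ^ i := by rw [hi]; simp
    rw [this]
    exact mul_mem (hUV hu) (pow_mem ht'p i)
  have htB : π t₀ ∉ B₀ := fun h => ht'ne (hB0V _ h)
  have hto : orderOf (π t₀) = p := orderOf_eq_prime (by
    rw [← map_pow]
    exact (QuotientGroup.eq_one_iff _).mpr (Subgroup.mem_subgroupOf.mpr (Subgroup.mem_zpowers c₀)))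
    fun h => htB (h ▸ one_mem B₀)
  have hBn : B₀.Normal := by
    refine Subgroup.Normal.map ⟨fun n hn g => ?_⟩ π (QuotientGroup.mk'_surjective _)
    rw [Subgroup.mem_subgroupOf] at hn ⊢
    obtain ⟨u, hu, j, hj⟩ := hKmem g g.2
    have := (Subgroup.mem_normalizer_iff.mp (mul_mem (Subgroup.le_normalizer hu) (pow_mem ht'N j)) n).mp hn
    rwa [hj] at this
  have hWcard : Nat.card (K ⧸ C.subgroupOf K) = p ^ (p + 1) := by
    have hbij : Function.Bijective fun z : B₀ × Fin p => (z.1 : K ⧸ C.subgroupOf K) * π t₀ ^ (z.2 : ℕ) := by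
      constructor
      · rintro ⟨b₁, i⟩ ⟨b₂, j⟩ h
        have key : ∀ (b₁ b₂ : B₀) (i j : Fin p), i < j →
            (b₁ : K ⧸ C.subgroupOf K) * π t₀ ^ (i : ℕ) ≠ b₂ * π t₀ ^ (j : ℕ) := fun b₁ b₂ i j hij h => by
          have h2 : π t₀ ^ ((j : ℕ) - i) ∈ B₀ := by
            have : π t₀ ^ ((j : ℕ) - i) = (b₂ : K ⧸ C.subgroupOf K)⁻¹ * b₁ := by
              rw [eq_inv_mul_iff_mul_eq]
              refine mul_right_cancel (b := π t₀ ^ (i : ℕ)) ?_
              rw [mul_assoc, ← pow_add, Nat.sub_add_cancel (le_of_lt hij), h]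
            rw [this]; exact mul_mem (inv_mem b₂.2) b₁.2
          obtain ⟨k, hk⟩ : ∃ k : ℕ, (π t₀ ^ ((j : ℕ) - i)) ^ k = π t₀ := exists_pow_eq_self_of_coprime (by
            rw [hto]
            exact Nat.coprime_comm.mp (hp.coprime_iff_not_dvd.mpr fun hd => by
              have := Nat.le_of_dvd (by omega) hd
              omega))
          exact htB (hk ▸ pow_mem h2 k)
        rcases lt_trichotomy i j with h' | rfl | h'
        · exact absurd h (key _ _ _ _ h')
        · exact Prod.ext (Subtype.ext (mul_right_cancel h)) rfl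
        · exact absurd h.symm (key _ _ _ _ h')
      · intro x
        obtain ⟨k, rfl⟩ := QuotientGroup.mk_surjective x
        obtain ⟨u, hu, i, hi⟩ := hKmem k k.2
        refine ⟨(⟨π ⟨u, Subgroup.mem_sup_left hu⟩, Subgroup.mem_map_of_mem π (show (⟨u, _⟩ : K) ∈ U.subgroupOf K from hu)⟩,
          ⟨i % p, Nat.mod_lt _ hp.pos⟩), ?_⟩
        show π _ * π t₀ ^ (i % p) = _
        rw [← hto, pow_mod_orderOf, ← map_pow, ← map_mul]
        exact congrArg π (Subtype.ext (by rw [← hi]; rfl))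
    rw [← Nat.card_eq_of_bijective _ hbij, Nat.card_prod, hBcard, Nat.card_fin, pow_succ]
  have hfix : Nat.card ↥(B₀ ⊓ Subgroup.centralizer ({π t₀} : Set (K ⧸ C.subgroupOf K))) = p := by
    have hmem : ∀ c : ZMod p, ((Additive.toMul (c • (N ^ (p - 1)) e) : V) : X) ∈ U := fun c =>
      hU ⟨_, S.smul_mem c (Submodule.subset_span ⟨⟨p - 1, Nat.sub_lt hp.pos one_pos⟩, rfl⟩)⟩
    let f : ZMod p → ↥(B₀ ⊓ Subgroup.centralizer ({π t₀} : Set (K ⧸ C.subgroupOf K))) := fun c =>
      ⟨π ⟨_, Subgroup.mem_sup_left (hmem c)⟩, Subgroup.mem_inf.mpr ⟨Subgroup.mem_map_of_mem π (hmem c),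
        Subgroup.mem_centralizer_singleton_iff.mpr (by
          rw [← map_mul, ← map_mul]
          refine congrArg π (Subtype.ext ?_)
          show ((Additive.toMul (c • (N ^ (p - 1)) e) : V) : X) * t' = t' * _
          have h0 : N (c • (N ^ (p - 1)) e) = 0 := by
            rw [map_smul, ← Module.End.mul_apply, ← pow_succ', Nat.sub_add_cancel hp.pos, hNp, LinearMap.zero_apply,
              smul_zero]
          have h1 := hNa (Additive.toMul (c • (N ^ (p - 1)) e))
          rw [ofMul_toMul, h0, toMul_zero, Subgroup.coe_one, ← ht'act _ (Additive.toMul (c • (N ^ (p - 1)) e)).2, eq_comm, mul_inv_eq_one,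
            mul_inv_eq_iff_eq_mul] at h1
          exact h1.symm)⟩⟩
    rw [← Nat.card_zmod p]
    refine (Nat.card_eq_of_bijective f ⟨fun c c' h => ?_, ?_⟩).symm
    · have h1 : π ⟨_, Subgroup.mem_sup_left (hmem c)⟩ = π ⟨_, Subgroup.mem_sup_left (hmem c')⟩ := congrArg Subtype.val h
      have h2 := hinj ⟨(⟨_, Subgroup.mem_sup_left (hmem c)⟩ : K) * (⟨_, Subgroup.mem_sup_left (hmem c')⟩ : K)⁻¹,
        mul_mem (show _ ∈ U.subgroupOf K from hmem c) (inv_mem (show _ ∈ U.subgroupOf K from hmem c'))⟩ (by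
          rw [map_mul, map_inv, h1, mul_inv_cancel])
      have h3 : ((Additive.toMul (c • (N ^ (p - 1)) e) : V) : X) * ((Additive.toMul (c' • (N ^ (p - 1)) e) : V) : X)⁻¹ = 1 :=
        congrArg (fun x : U.subgroupOf K => ((x : K) : X)) h2
      exact smul_left_injective (ZMod p) hNe (Additive.toMul.injective (Subtype.ext (mul_inv_eq_one.mp h3)))
    · rintro ⟨x, hx⟩
      obtain ⟨hxB, hxC⟩ := Subgroup.mem_inf.mp hx
      obtain ⟨u, hu, rfl⟩ := hxB
      have huU : (u : X) ∈ U := hu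
      have h1 := Subgroup.mem_centralizer_singleton_iff.mp hxC
      rw [← map_mul, ← map_mul] at h1
      obtain ⟨i, hi⟩ := hCnat ((QuotientGroup.eq (s := C.subgroupOf K)).mp h1)
      have hcomm : t' * (u : X) * t'⁻¹ * (u : X)⁻¹ = c₀ ^ i := by
        have h3 : t' * (u : X) = (u : X) * t' * c₀ ^ i := by rw [hi]; simp [t₀, mul_assoc]
        rw [h3, mul_assoc _ t', (Commute.self_pow t' p).pow_right i |>.eq, ← mul_assoc, mul_inv_cancel_right,
          hVab _ (hUV huU) _ (pow_mem ht'p i), mul_inv_cancel_right]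
      have hd : t' * (u : X) * t'⁻¹ * (u : X)⁻¹ = 1 := by
        rw [hcomm]
        exact hUc i (hcomm ▸ mul_mem (ht'U _ huU) (inv_mem huU))
      obtain ⟨c, hc⟩ := hker (Additive.ofMul (⟨(u : X), hUV huU⟩ : V)) huU.2
        (Additive.toMul.injective (Subtype.ext (by
          rw [hNa, ← ht'act _ (hUV huU), hd, toMul_zero, Subgroup.coe_one])))
      refine ⟨c, Subtype.ext (congrArg π (Subtype.ext ?_))⟩
      show ((Additive.toMul (c • (N ^ (p - 1)) e) : V) : X) = (u : X)
      rw [← hc, toMul_ofMul]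
  -- to a small universe
  let eW : {i : Fin (Nat.card (K ⧸ C.subgroupOf K)) // True} ≃ K ⧸ C.subgroupOf K :=
    (Equiv.subtypeUnivEquiv fun _ => trivial).trans (Finite.equivFin (K ⧸ C.subgroupOf K)).symm
  letI : Group {i : Fin (Nat.card (K ⧸ C.subgroupOf K)) // True} := eW.group
  let E : {i : Fin (Nat.card (K ⧸ C.subgroupOf K)) // True} ≃* K ⧸ C.subgroupOf K :=
    { eW with map_mul' := fun a b => eW.apply_symm_apply _ }
  refine ⟨K, {i : Fin (Nat.card (K ⧸ C.subgroupOf K)) // True}, inferInstance, inferInstance, E.symm.toMonoidHom.comp π,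
    E.symm.surjective.comp (QuotientGroup.mk'_surjective _), hKle,
    B₀.map E.symm.toMonoidHom, E.symm (π t₀), hBn.map _ E.symm.surjective, ?_, ?_, ?_, ?_, ?_, ?_, ?_⟩
  · refine ⟨⟨?_⟩⟩
    rintro ⟨_, _, ⟨u₁, hu₁, rfl⟩, rfl⟩ ⟨_, _, ⟨u₂, hu₂, rfl⟩, rfl⟩
    refine Subtype.ext ?_
    show E.symm (π u₁) * E.symm (π u₂) = E.symm (π u₂) * E.symm (π u₁)
    rw [← map_mul, ← map_mul, ← map_mul, ← map_mul, show u₁ * u₂ = u₂ * u₁ from
      Subtype.ext (hVab _ (hUV hu₁) _ (hUV hu₂))]
  · rintro _ ⟨_, ⟨u, hu, rfl⟩, rfl⟩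
    rw [← map_pow, ← map_pow, show u ^ p = 1 from Subtype.ext (hVp _ (hUV hu)), map_one, map_one]
  · rw [Subgroup.card_map_of_injective E.symm.injective, hBcard]
  · rw [← hto]; exact orderOf_injective E.symm.toMonoidHom E.symm.injective _
  · rintro ⟨x, hx, hxt⟩
    exact htB (E.symm.injective hxt ▸ hx)
  · rw [Nat.card_congr eW, hWcard]
  · have hmap : B₀.map E.symm.toMonoidHom ⊓ Subgroup.centralizer {E.symm (π t₀)} =
        (B₀ ⊓ Subgroup.centralizer ({π t₀} : Set (K ⧸ C.subgroupOf K))).map E.symm.toMonoidHom := by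
      ext x
      simp only [Subgroup.mem_inf, Subgroup.mem_map, Subgroup.mem_centralizer_singleton_iff]
      constructor
      · rintro ⟨⟨b, hb, rfl⟩, h⟩
        exact ⟨b, ⟨hb, E.symm.injective (by rw [map_mul, map_mul]; exact h)⟩, rfl⟩
      · rintro ⟨b, ⟨hb, h⟩, rfl⟩
        exact ⟨⟨b, hb, rfl⟩, by
          show E.symm b * E.symm (π t₀) = E.symm (π t₀) * E.symm b
          rw [← map_mul, ← map_mul, h]⟩
    rw [hmap, Subgroup.card_map_of_injective E.symm.injective, hfix]

theorem main {G : Type a} [Group G] [Finite G] (hp2 : p ≠ 2) (hnf : (¬ ∃ k : ℕ, p = 2 ^ k + 1))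
    (hG : Cfsg.IsPSolvable p G) (P : Sylow p G) (hwr : ∀ (W : Type) [Group W] [Finite W],
      (∃ (B : Subgroup W) (t : W), B.Normal ∧ IsMulCommutative B ∧ (∀ b ∈ B, b ^ p = 1) ∧ Nat.card B = p ^ p ∧
        orderOf t = p ∧ t ∉ B ∧ Nat.card W = p ^ (p + 1) ∧
        Nat.card ↥(B ⊓ Subgroup.centralizer ({t} : Set W)) = p) → ¬ Cfsg.Involves W ↥(P : Subgroup G)) :
    Cfsg.PLengthLE p 1 G := by
  classical
  have hp := (Fact.out : p.Prime)
  set q₀ := QuotientGroup.mk' (Cfsg.pPrimeCore p G) with hq₀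
  have hq₀s : Function.Surjective q₀ := QuotientGroup.mk'_surjective _
  refine PSeries.pLengthLE_of_pPrime_kernel q₀ (by rw [QuotientGroup.ker_mk']; exact CfsgLib.card_pPrimeCore_coprime p) ?_
  set G₁ := G ⧸ Cfsg.pPrimeCore p G
  have hs₁ : Cfsg.IsPSolvable p G₁ := PSolvableClosure.of_surjective q₀ hq₀s hG
  have hO := CfsgLib.pPrimeCore_quotient_eq_bot (G := G) p
  haveI := Blocks.pCore_normal' (G := G₁) (p := p)
  set P0 := Cfsg.pCore p G₁ with hP0
  set π₁ := QuotientGroup.mk' P0 with hπ₁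
  rw [show (1 : ℕ) = 0 + 1 from rfl]
  refine PSeries.pLengthLE_of_pGroup_kernel π₁ (by rw [QuotientGroup.ker_mk']; exact CfsgLib.isPGroup_pCore p) ?_
  have hπ₁s : Function.Surjective π₁ := QuotientGroup.mk'_surjective _
  have hs : Function.Surjective (π₁.comp q₀) := hπ₁s.comp hq₀s
  set SH := P.mapSurjective hs with hSH
  rw [PSeries.pLengthLE_zero_iff, eq_top_iff]
  refine CfsgLib.le_pPrimeCore ?_
  rw [Subgroup.card_top]
  refine (hp.coprime_iff_not_dvd.mpr fun hd => ?_).symm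
  have hdS : p ∣ Nat.card (SH : Subgroup (G₁ ⧸ P0)) := by
    have := SH.not_dvd_index
    rw [← Subgroup.card_mul_index (SH : Subgroup (G₁ ⧸ P0))] at hd
    exact (hp.dvd_mul.mp hd).resolve_right this
  obtain ⟨⟨x, hxS⟩, hxo⟩ := exists_prime_orderOf_dvd_card' p hdS
  rw [Subgroup.orderOf_mk] at hxo
  rw [Sylow.coe_mapSurjective, ← Subgroup.map_map] at hxS
  obtain ⟨g, hgP, rfl⟩ := hxS
  obtain ⟨K, _, _, _, V, _, _, _, ρ, hker, hnt, hρ⟩ := exists_module hs₁ hO
  obtain ⟨ρ', hinj, hρ'⟩ := exists_quotient_action ρ hker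
  haveI : Nontrivial V := hnt fun h => by
    haveI := pCore_ne_bot hs₁ hO h
    rw [show g = 1 from Subsingleton.elim _ _, map_one, orderOf_one] at hxo
    exact hp.one_lt.ne hxo
  have hne : (ρ g - 1) ^ (p - 1) ≠ 0 := fun h0 => by
    rw [← hρ'] at h0
    rcases theorem_b (PSolvableClosure.of_surjective π₁ hπ₁s hs₁) (pCore_quotient_pCore G₁ p) ρ' hinj
      (n := 1) (by rw [pow_one]; exact hxo) (p - 1) h0 with h | ⟨n₀, q, m, h1, h1', hq, h2, h3, -, -⟩
    · rw [pow_one] at h; have := hp.pos; omega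
    · obtain rfl : n₀ = 1 := by omega
      rw [pow_one] at h3
      obtain ⟨a, ha⟩ := hp.odd_of_ne_two hp2
      obtain rfl : q = 2 := by
        by_contra hq2
        obtain ⟨c, hc⟩ := (hq.odd_of_ne_two hq2).pow (n := m)
        omega
      exact hnf ⟨m, by omega⟩
  obtain ⟨v, hv, hvne⟩ : ∃ v ∈ P0, (List.replicate (p - 1) g).foldr (fun h w => h * w * h⁻¹ * w⁻¹) v ∉
      (frattini P0).map P0.subtype := by
    by_contra hcon
    push Not at hcon
    refine hne ?_
    have := hρ (List.replicate (p - 1) g) g 1 fun v hv => by simpa using hcon v hv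
    simpa [List.map_replicate, List.prod_replicate] using this
  -- modulo the Frattini subgroup
  set W₀ := (frattini P0).map P0.subtype with hW₀
  haveI hWn : W₀.Normal := by
    have h1 := (CfsgLib.le_normalizer_map_characteristic (A := (⊤ : Subgroup G₁)) (K := P0)
      (by rw [Subgroup.normalizer_eq_top]) (frattini P0)).1
    exact Subgroup.normalizer_eq_top_iff.mp (top_unique h1)
  set r := QuotientGroup.mk' W₀ with hr
  have hrs : Function.Surjective r := QuotientGroup.mk'_surjective _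
  haveI : (P0.map r).Normal := Subgroup.Normal.map inferInstance r hrs
  have hP0P : P0 ≤ (P : Subgroup G).map q₀ := by
    have := CfsgLib.pCore_le_sylow (P.mapSurjective hq₀s)
    rwa [Sylow.coe_mapSurjective] at this
  have hP0p : IsPGroup p P0 := CfsgLib.isPGroup_pCore p
  have hit : ∀ m : ℕ, (fun w => r g * w * (r g)⁻¹ * w⁻¹)^[m] (r v) =
      r ((List.replicate m g).foldr (fun h w => h * w * h⁻¹ * w⁻¹) v) := fun m => by
    induction m with
    | zero => rfl
    | succ m ih =>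
      rw [Function.iterate_succ_apply', ih, List.replicate_succ, List.foldr_cons, map_mul, map_mul, map_mul, map_inv,
        map_inv]
  have hgp : g ^ p ∈ P0 := (QuotientGroup.eq_one_iff _).mp (show π₁ (g ^ p) = 1 by
    rw [map_pow]; exact orderOf_dvd_iff_pow_eq_one.mp hxo.dvd)
  obtain ⟨K', W, _, _, f, hf, hK', hW⟩ := wreath_section (P0.map r)
    (by
      rintro _ ⟨x, hx, rfl⟩ _ ⟨y, hy, rfl⟩
      rw [← commutatorElement_eq_one_iff_mul_comm, ← map_commutatorElement, hr, QuotientGroup.mk'_apply,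
        QuotientGroup.eq_one_iff]
      exact ⟨⁅(⟨x, hx⟩ : P0), ⟨y, hy⟩⁆, CfsgLib.commutator_le_frattini_pGroup hP0p
        (Subgroup.commutator_mem_commutator (Subgroup.mem_top _) (Subgroup.mem_top _)), rfl⟩)
    (by
      rintro _ ⟨x, hx, rfl⟩
      rw [← map_pow, hr, QuotientGroup.mk'_apply, QuotientGroup.eq_one_iff]
      exact ⟨(⟨x, hx⟩ : P0) ^ p, CfsgLib.pow_mem_frattini_pGroup hP0p _, rfl⟩)
    (r g) (by rw [Subgroup.normalizer_eq_top]; exact Subgroup.mem_top _)
    (by rw [← map_pow]; exact Subgroup.mem_map_of_mem r hgp) (r v) (Subgroup.mem_map_of_mem r hv) (by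
      rw [hit, hr, QuotientGroup.mk'_apply, Ne, QuotientGroup.eq_one_iff]
      exact hvne)
  let ψ : ↥(P : Subgroup G) →* G₁ ⧸ W₀ := (r.comp q₀).comp (P : Subgroup G).subtype
  have hrange : K' ≤ ψ.range := by
    refine hK'.trans (sup_le ?_ (Subgroup.zpowers_le.mpr ?_))
    · rintro _ ⟨y, hy, rfl⟩
      obtain ⟨a, ha, rfl⟩ := hP0P hy
      exact ⟨⟨a, ha⟩, rfl⟩
    · obtain ⟨a, ha, rfl⟩ := hgP
      exact ⟨⟨a, ha⟩, rfl⟩
  let ψ' : K'.comap ψ →* K' := (ψ.comp (K'.comap ψ).subtype).codRestrict K' fun x => x.2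
  have hψ' : Function.Surjective ψ' := fun ⟨y, hy⟩ => by
    obtain ⟨a, ha⟩ := hrange hy
    exact ⟨⟨a, show ψ a ∈ K' by rw [ha]; exact hy⟩, Subtype.ext ha⟩
  exact hwr W hW (QdSection.involves_of_surjective _ (f.comp ψ') (hf.comp hψ'))

end Aux

/-- Let G be a finite p-soluble group, p an odd prime not of the form 2^k + 1, and suppose the wreath product C_p ≀ C_p (of order p^(p+1)) is not involved in a Sylow p-subgroup of G: no section of a Sylow p-subgroup is isomorphic to it. Then G has p-length at most 1. -/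
theorem result {G : Type*} [Group G] [Finite G] {p : ℕ} [Fact p.Prime] (hp2 : p ≠ 2) (hnf : (¬ ∃ k : ℕ, p = 2 ^ k + 1)) (hG : Cfsg.IsPSolvable p G) (P : Sylow p G) (hwr : ∀ (W : Type) [Group W] [Finite W], (∃ (B : Subgroup W) (t : W), B.Normal ∧ IsMulCommutative B ∧ (∀ b ∈ B, b ^ p = 1) ∧ Nat.card B = p ^ p ∧ orderOf t = p ∧ t ∉ B ∧ Nat.card W = p ^ (p + 1) ∧ Nat.card ↥(B ⊓ Subgroup.centralizer ({t} : Set W)) = p) → ¬ Cfsg.Involves W ↥(P : Subgroup G)) : Cfsg.PLengthLE p 1 G := by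
  exact Aux.main hp2 hnf hG P hwr

end Cfsg.Agent.S3787
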