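import Cfsg.Statements.S3788
import Mathlib
import Cfsg.Agent.Lib.PLengthTwo
import Cfsg.Agent.Lib.CoprimeGen
import Cfsg.Agent.Lib.CoprimeAbelian
import Cfsg.Agent.Lib.PLocal.Offender.Dual
import Cfsg.Agent.Lib.S4Criterion
import Cfsg.Agent.Lib.StrongFusion.Sections
import Cfsg.Agent.Lib.SmallElements
-- import your own Cfsg.Agent.* helpers here

set_option autoImplicit false
open Cfsg

namespace Cfsg.Agent.S3788

namespace Aux

universe a

open CfsgLib
open scoped Pointwise commutatorElement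

variable {G : Type a} [Group G] [Finite G] {p : ℕ} [Fact p.Prime]

theorem involves_quot {X Y : Type a} [Group X] [Group Y] (f : X →* Y) (hf : Function.Surjective f)
    {H : Type} [Group H] (h : Cfsg.Involves H Y) : Cfsg.Involves H X := by
  obtain ⟨K, R, hR, ⟨e⟩⟩ := h
  obtain ⟨K', R', hR', ⟨e'⟩⟩ := StrongFusion.involves_of_quotientHom f hf
    (Z := ULift.{a} H) ⟨K, R, hR, ⟨e.trans MulEquiv.ulift.symm⟩⟩
  exact ⟨K', R', hR', ⟨e'.trans MulEquiv.ulift⟩⟩

theorem key (hs : Cfsg.IsPSolvable p G) {V : Subgroup G} [V.Normal] (hVe : Cfsg.IsElementaryAbelian p V)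
    (hC : Subgroup.centralizer (V : Set G) ≤ V) (hcore : pCore p G ≤ V) {a : G}
    (hnorm : V ≤ Subgroup.normalizer (Subgroup.zpowers a : Set G))
    (hpa : ∃ k, orderOf a = p ^ k) (hfree : p ≠ 2 ∨ ¬ Cfsg.Involves (Equiv.Perm (Fin 4)) G) : a ∈ V := by
  classical
  have hp := (Fact.out : p.Prime)
  by_contra haV
  have hVc : ∀ v ∈ V, ∀ w ∈ V, Commute v w := fun v hv w hw =>
    congrArg Subtype.val (hVe.1.is_comm.comm (⟨v, hv⟩ : V) ⟨w, hw⟩)
  haveI hVab : IsMulCommutative V := hVe.1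
  have hVp : IsPGroup p V := fun v => ⟨1, Subtype.ext (by simpa using hVe.2 v v.2)⟩
  set Z := Subgroup.zpowers a ⊓ V with hZ
  have hcm : ∀ v ∈ V, ⁅a, v⁆ ∈ Z := fun v hv => by
    refine Subgroup.mem_inf.mpr ⟨?_, ?_⟩
    · rw [commutatorElement_def, show a * v * a⁻¹ * v⁻¹ = a * (v * a⁻¹ * v⁻¹) by group]
      exact mul_mem (Subgroup.mem_zpowers a)
        ((Subgroup.mem_normalizer_iff.mp (hnorm hv) _).mp (inv_mem (Subgroup.mem_zpowers a)))
    · exact mul_mem ((inferInstance : V.Normal).conj_mem v hv a) (inv_mem hv)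
  have hZV : ∀ z ∈ Z, z ∈ V := fun z hz => (Subgroup.mem_inf.mp hz).2
  have hZa : ∀ z ∈ Z, Commute a z := fun z hz => by
    obtain ⟨i, hi⟩ := (Subgroup.mem_inf.mp hz).1
    exact hi ▸ Commute.self_zpow a i
  have hconjv : ∀ v ∈ V, a * v * a⁻¹ = ⁅a, v⁆ * v := fun v _ => by rw [commutatorElement_def, inv_mul_cancel_right]
  have hpow : ∀ v ∈ V, ∀ i : ℕ, a ^ i * v * (a ^ i)⁻¹ = ⁅a, v⁆ ^ i * v := by
    intro v hv i
    induction i with
    | zero => simp
    | succ i ih =>
      calc a ^ (i + 1) * v * (a ^ (i + 1))⁻¹ = a * (a ^ i * v * (a ^ i)⁻¹) * a⁻¹ := by rw [pow_succ']; group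
        _ = (a * ⁅a, v⁆ ^ i * a⁻¹) * (a * v * a⁻¹) := by rw [ih]; group
        _ = ⁅a, v⁆ ^ (i + 1) * v := by
          rw [((hZa _ (hcm v hv)).pow_right i).eq, mul_inv_cancel_right, hconjv v hv, ← mul_assoc, ← pow_succ]
  have hap : a ^ p ∈ V := hC (Subgroup.mem_centralizer_iff.mpr fun v hv => by
    have h1 := hpow v hv p
    rw [hVe.2 _ (hZV _ (hcm v hv)), one_mul] at h1
    exact (mul_inv_eq_iff_eq_mul.mp h1).symm)
  obtain ⟨k, hk⟩ := hpa
  have hZle : Z ≤ Subgroup.zpowers (a ^ p) := by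
    intro w hw
    obtain ⟨i, hi⟩ : ∃ i : ℕ, a ^ i = w :=
      (isOfFinOrder_of_finite a).mem_powers_iff_mem_zpowers.mpr (Subgroup.mem_inf.mp hw).1
    by_cases hpi : p ∣ i
    · obtain ⟨j, rfl⟩ := hpi
      rw [← hi, pow_mul]; exact Subgroup.pow_mem _ (Subgroup.mem_zpowers _) j
    · exfalso
      obtain ⟨m, hm⟩ : ∃ m : ℕ, (a ^ i) ^ m = a := exists_pow_eq_self_of_coprime (by
        rw [hk]; exact Nat.Coprime.pow_right k (Nat.coprime_comm.mp (hp.coprime_iff_not_dvd.mpr hpi)))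
      exact haV (hm ▸ pow_mem (hi ▸ hZV w hw) m)
  -- the quotient by `V`
  set q := QuotientGroup.mk' V with hq
  have hqs : Function.Surjective q := QuotientGroup.mk'_surjective V
  have hsQ : Cfsg.IsPSolvable p (G ⧸ V) := PSolvableClosure.of_surjective q hqs hs
  have hOQ : pCore p (G ⧸ V) = ⊥ := by
    haveI := Blocks.pCore_normal' (G := G ⧸ V) (p := p)
    have h1 : (pCore p (G ⧸ V)).comap q ≤ V := (CfsgLib.le_pCore
      ((CfsgLib.isPGroup_pCore p).comap_of_ker_isPGroup q (by rw [hq, QuotientGroup.ker_mk']; exact hVp))).trans hcore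
    rw [eq_bot_iff]
    intro y hy
    obtain ⟨y, rfl⟩ := hqs y
    rw [Subgroup.mem_bot, hq, QuotientGroup.mk'_apply, QuotientGroup.eq_one_iff]
    exact h1 hy
  have hCQ := Offender.centralizer_pPrimeCore_le hsQ hOQ
  have hOcop := CfsgLib.card_pPrimeCore_coprime (G := G ⧸ V) p
  have hnotcent : ∀ b : G, q b = q a → ¬ q b ∈ Subgroup.centralizer (pPrimeCore p (G ⧸ V) : Set (G ⧸ V)) := by
    intro b hb hbc
    have h1 := hCQ hbc
    rw [hb] at h1
    have h2 : orderOf (q a) ∣ Nat.card (pPrimeCore p (G ⧸ V)) := by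
      rw [← Subgroup.orderOf_mk (q a) h1]; exact orderOf_dvd_natCard _
    have h3 : q a = 1 := orderOf_eq_one_iff.mp (Nat.eq_one_of_dvd_coprimes
      (Nat.Coprime.pow_right k hOcop) h2 (hk ▸ orderOf_map_dvd q a))
    rw [hq, QuotientGroup.mk'_apply, QuotientGroup.eq_one_iff] at h3
    exact haV h3
  by_cases hp2 : p = 2
  · subst hp2
    refine hfree.resolve_left (by simp) ?_
    obtain ⟨y, hy, hty⟩ : ∃ y ∈ pPrimeCore 2 (G ⧸ V), y * q a ≠ q a * y := by
      by_contra hcon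
      push Not at hcon
      exact hnotcent a rfl (Subgroup.mem_centralizer_iff.mpr hcon)
    obtain ⟨g, rfl⟩ := hqs y
    set r := a * g * a⁻¹ * g⁻¹ with hr
    have hrO : q r ∈ pPrimeCore 2 (G ⧸ V) := by
      rw [hr, map_mul, map_mul, map_mul, map_inv, map_inv]
      exact mul_mem ((inferInstance : (pPrimeCore 2 (G ⧸ V)).Normal).conj_mem _ hy _) (inv_mem hy)
    have hr1 : q r ≠ 1 := fun e => hty (by
      rw [hr, map_mul, map_mul, map_mul, map_inv, map_inv, mul_inv_eq_one, mul_inv_eq_iff_eq_mul] at e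
      exact e.symm)
    have hrodd : Nat.Coprime (orderOf (q r)) 2 := by
      refine hOcop.coprime_dvd_left ?_
      rw [← Subgroup.orderOf_mk (q r) hrO]; exact orderOf_dvd_natCard _
    set a' := g * a * g⁻¹ with ha'
    set Z' := Z.map (MulAut.conj g).toMonoidHom with hZ'
    set W := Z ⊔ Z' with hW
    have hZ'V : Z' ≤ V := by
      rintro _ ⟨z, hz, rfl⟩; exact (inferInstance : V.Normal).conj_mem z (hZV z hz) g
    have hWV : W ≤ V := sup_le inf_le_right hZ'V
    have hra : r = a * a'⁻¹ := by rw [hr, ha']; group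
    have hmod : ∀ v ∈ V, r * v * r⁻¹ * v⁻¹ ∈ W := by
      intro v hv
      have h2 : a'⁻¹ * v * a' * v⁻¹ ∈ Z' := by
        refine ⟨a⁻¹ * (g⁻¹ * v * g) * a * (g⁻¹ * v * g)⁻¹, ?_, by simp [ha']; group⟩
        have hv' : g⁻¹ * v * g ∈ V := by
          have := (inferInstance : V.Normal).conj_mem v hv g⁻¹
          rwa [inv_inv] at this
        set w := g⁻¹ * v * g
        have h1 := hcm _ ((inferInstance : V.Normal).conj_mem w hv' a⁻¹)
        rw [inv_inv] at h1
        have h3 : ⁅a, a⁻¹ * w * a⁆ = (a⁻¹ * w * a * w⁻¹)⁻¹ := by rw [commutatorElement_def]; group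
        rw [h3] at h1
        exact inv_mem_iff.mp h1
      set u := a'⁻¹ * v * a' * v⁻¹ with hu
      have hu' : u ∈ V := hZ'V h2
      rw [show r * v * r⁻¹ * v⁻¹ = (a * u * a⁻¹) * (a * v * a⁻¹ * v⁻¹) by rw [hra, hu]; group, hconjv u hu']
      exact mul_mem (mul_mem (Subgroup.mem_sup_left (hcm u hu')) (Subgroup.mem_sup_right h2))
        (Subgroup.mem_sup_left (hcm v hv))
    have hrW : ∀ w ∈ W, r * w * r⁻¹ ∈ W := fun w hw => by
      have := mul_mem (hmod w (hWV hw)) hw
      rwa [inv_mul_cancel_right] at this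
    have hrN : r ∈ Subgroup.normalizer (W : Set G) := Subgroup.mem_normalizer_fintype hrW
    -- `W` has order at most four
    have hZcard : Nat.card Z ≤ 2 := by
      have h1 : (a ^ 2) ^ 2 = 1 := hVe.2 _ hap
      have h2 := Subgroup.card_le_of_le hZle
      rw [Nat.card_zpowers] at h2
      exact h2.trans (Nat.le_of_dvd two_pos (orderOf_dvd_of_pow_eq_one h1))
    have hWcard : Nat.card W ≤ 4 := by
      have hsurj : Function.Surjective fun z : Z × Z' => (⟨(z.1 : G) * z.2,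
          mul_mem (Subgroup.mem_sup_left z.1.2) (Subgroup.mem_sup_right z.2.2)⟩ : W) := fun ⟨w, hw⟩ => by
        have hnor : Z' ≤ Subgroup.normalizer (Z : Set G) := fun z' hz' => Subgroup.mem_normalizer_fintype fun z hz => by
          show z' * z * z'⁻¹ ∈ Z
          rw [(hVc z' (hZ'V hz') z (hZV z hz)).eq, mul_inv_cancel_right]; exact hz
        rw [← SetLike.mem_coe, hW, Subgroup.coe_mul_of_right_le_normalizer_left Z Z' hnor] at hw
        obtain ⟨z, hz, z', hz', rfl⟩ := Set.mem_mul.mp hw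
        exact ⟨(⟨z, hz⟩, ⟨z', hz'⟩), rfl⟩
      have h1 := Nat.card_le_card_of_surjective _ hsurj
      rw [Nat.card_prod, hZ', Subgroup.card_map_of_injective (MulAut.conj g).injective] at h1
      exact h1.trans (Nat.mul_le_mul hZcard hZcard)
    have h6 : ∀ w ∈ W, r ^ 6 * w * (r ^ 6)⁻¹ = w := by
      intro w hw
      haveI : Fintype W := Fintype.ofFinite W
      let φ := Subgroup.normalizerMonoidHom W ⟨r, hrN⟩
      let σ : Equiv.Perm {x : W // x ≠ 1} := Equiv.Perm.subtypePerm φ.toEquiv fun x => (map_ne_one_iff φ φ.injective)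
      have hcardP : Nat.card (Equiv.Perm {x : W // x ≠ 1}) ∣ 6 := by
        have hn : Nat.card {x : W // x ≠ 1} ≤ 3 := by
          have hlt : Nat.card {x : W // x ≠ 1} < Nat.card W :=
            Finite.card_subtype_lt (x := (1 : W)) (by simp)
          omega
        rw [Nat.card_perm]
        interval_cases Nat.card {x : W // x ≠ 1} <;> decide
      have h1 : σ ^ 6 = 1 := by
        obtain ⟨c, hc⟩ := (orderOf_dvd_natCard σ).trans hcardP
        rw [hc, pow_mul, pow_orderOf_eq_one, one_pow]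
      by_cases hw1 : w = 1
      · rw [hw1, mul_one, mul_inv_cancel]
      have hit : ∀ i : ℕ, ∀ x : {x : W // x ≠ 1}, (((σ ^ i) x).1 : G) = r ^ i * (x.1 : G) * (r ^ i)⁻¹ := by
        intro i
        induction i with
        | zero => intro x; simp
        | succ i ih =>
          intro x
          rw [pow_succ', Equiv.Perm.mul_apply, pow_succ']
          show r * (((σ ^ i) x).1 : G) * r⁻¹ = _
          rw [ih x]; group
      have := hit 6 ⟨⟨w, hw⟩, fun e => hw1 (congrArg Subtype.val e)⟩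
      rw [h1] at this
      simpa using this.symm
    have h12 : r ^ 12 ∈ V := hC (Subgroup.mem_centralizer_iff.mpr fun v hv => by
      have hmemW : ∀ i : ℕ, r ^ i * v * (r ^ i)⁻¹ * v⁻¹ ∈ W := by
        intro i
        induction i with
        | zero => simp
        | succ i ih =>
          have := mul_mem (hrW _ ih) (hmod v hv)
          rw [show r * (r ^ i * v * (r ^ i)⁻¹ * v⁻¹) * r⁻¹ * (r * v * r⁻¹ * v⁻¹) =
            r ^ (i + 1) * v * (r ^ (i + 1))⁻¹ * v⁻¹ by rw [pow_succ']; group] at this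
          exact this
      set s := r ^ 6 * v * (r ^ 6)⁻¹ * v⁻¹ with hs
      have hsW := hmemW 6
      have h1 : r ^ 12 * v * (r ^ 12)⁻¹ = s * s * v := by
        calc r ^ 12 * v * (r ^ 12)⁻¹ = r ^ 6 * (r ^ 6 * v * (r ^ 6)⁻¹) * (r ^ 6)⁻¹ := by group
          _ = r ^ 6 * (s * v) * (r ^ 6)⁻¹ := by rw [hs, inv_mul_cancel_right]
          _ = (r ^ 6 * s * (r ^ 6)⁻¹) * (r ^ 6 * v * (r ^ 6)⁻¹) := by group
          _ = s * (s * v) := by rw [h6 s hsW, hs, inv_mul_cancel_right]
          _ = s * s * v := (mul_assoc _ _ _).symm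
      rw [← pow_two s, hVe.2 s (hWV hsW), one_mul] at h1
      exact (mul_inv_eq_iff_eq_mul.mp h1).symm)
    have hr3 : orderOf (q r) ∣ 3 := by
      have h1 : orderOf (q r) ∣ 4 * 3 := orderOf_dvd_of_pow_eq_one (by
        rw [← map_pow, hq, QuotientGroup.mk'_apply, QuotientGroup.eq_one_iff]; exact h12)
      exact (Nat.Coprime.dvd_mul_left (Nat.Coprime.pow_right 2 hrodd)).mp h1
    refine S4Criterion.involves_of_inverting hVp (fun v hv w hw => (hVc v hv w hw).eq) (r := r) (b := a) ?_ ?_ ?_ ?_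
    · refine Subgroup.mem_centralizer_iff.mpr fun v hv => (hVc v hv _ ?_).eq
      rw [← QuotientGroup.eq_one_iff]
      show q (r ^ 3) = 1
      rw [map_pow]; exact orderOf_dvd_iff_pow_eq_one.mp hr3
    · exact fun hm => hr1 ((QuotientGroup.eq_one_iff r).mpr (hC hm))
    · refine Subgroup.mem_centralizer_iff.mpr fun v hv => (hVc v hv _ ?_).eq
      rw [← pow_two]; exact hap
    · refine Subgroup.mem_centralizer_iff.mpr fun v hv => (hVc v hv _ ?_).eq
      rw [← QuotientGroup.eq_one_iff]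
      show q (a * r * a⁻¹ * r) = 1
      have ht : (q a)⁻¹ = q a := inv_eq_of_mul_eq_one_right (by
        rw [← pow_two, ← map_pow, hq, QuotientGroup.mk'_apply, QuotientGroup.eq_one_iff]; exact hap)
      have ht2 : q a * q a = 1 := by nth_rw 1 [← ht]; exact inv_mul_cancel _
      simp only [hr, map_mul, map_inv, ht]
      calc q a * (q a * q g * q a * (q g)⁻¹) * q a * (q a * q g * q a * (q g)⁻¹)
          = (q a * q a) * q g * q a * (q g)⁻¹ * (q a * q a) * q g * q a * (q g)⁻¹ := by group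
        _ = q g * (q a * q a) * (q g)⁻¹ := by rw [ht2, one_mul, mul_one, inv_mul_cancel_right, mul_assoc (q g)]; simp [ht2]
        _ = 1 := by rw [ht2]; group
  -- the odd case
  set X := (pPrimeCore p (G ⧸ V)).comap q with hX
  have hVX : V ≤ X := QuotientGroup.le_comap_mk' V _
  set V' := V.subgroupOf X with hV'
  have hcardV : Nat.card V' = Nat.card V := Nat.card_congr (Subgroup.subgroupOfEquivOfLe hVX).toEquiv
  have hidx : V'.index = Nat.card (pPrimeCore p (G ⧸ V)) := by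
    have h1 := V'.card_mul_index
    rw [hcardV, show Nat.card X = _ from CfsgLib.card_comap_mk V _] at h1
    exact Nat.eq_of_mul_eq_mul_left Nat.card_pos (h1.trans (by ring))
  obtain ⟨e, he⟩ := IsPGroup.iff_card.mp hVp
  have hcop : (Nat.card V').Coprime V'.index := by
    rw [hcardV, he, hidx]; exact Nat.Coprime.pow_left e hOcop.symm
  obtain ⟨K, hK⟩ := Subgroup.exists_right_complement'_of_coprime hcop
  have hKc : Nat.card K = V'.index := hK.symm.index_eq_card.symm
  set Q := K.map X.subtype with hQdef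
  have hQcard : Nat.card Q = Nat.card (pPrimeCore p (G ⧸ V)) := by
    rw [hQdef, Subgroup.card_map_of_injective X.subtype_injective, hKc, hidx]
  have hQV : ∀ x ∈ Q, x ∈ V → x = 1 := fun x hx hxV => by
    obtain ⟨y, hy, rfl⟩ := hx
    rw [Subgroup.mem_bot.mp (hK.disjoint.le_bot (Subgroup.mem_inf.mpr ⟨Subgroup.mem_subgroupOf.mpr hxV, hy⟩))]
    rfl
  have hQmap : ∀ y ∈ pPrimeCore p (G ⧸ V), ∃ x ∈ Q, q x = y := fun y hy => by
    obtain ⟨g, rfl⟩ := hqs y
    have hg : g ∈ X := hy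
    obtain ⟨v, hv, x, hx, e⟩ := Subgroup.mem_sup_of_normal_left.mp
      (hK.sup_eq_top ▸ Subgroup.mem_top (⟨g, hg⟩ : X) : (⟨g, hg⟩ : X) ∈ V' ⊔ K)
    refine ⟨x, ⟨x, hx, rfl⟩, ?_⟩
    have e' : (v : G) * x = g := congrArg Subtype.val e
    rw [← e', map_mul, show q (v : G) = 1 from (QuotientGroup.eq_one_iff _).mpr (Subgroup.mem_subgroupOf.mp hv), one_mul]
  -- `G = V N(Q)`
  obtain ⟨n, hn, hbN⟩ : ∃ n ∈ V, n⁻¹ * a ∈ Subgroup.normalizer (Q : Set G) := by
    have hKg : Subgroup.IsComplement' V' (K.map (MulAut.conjNormal (H := X) a).toMonoidHom) :=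
      CfsgLib.isComplement'_of_card hcop (by
        rw [← hKc]; exact (Nat.card_congr ((MulAut.conjNormal (H := X) a).subgroupMap K).toEquiv).symm)
    have hsol : Group.IsSolvable V' := by
      haveI : Group.IsNilpotent V' := (hVp.of_equiv (Subgroup.subgroupOfEquivOfLe hVX).symm).isNilpotent
      infer_instance
    obtain ⟨n, hn, e⟩ := CfsgLib.complements_conj_mem hcop (Or.inl hsol) hK hKg
    refine ⟨n, hn, inv_mem_iff.mp (Subgroup.mem_normalizer_fintype ?_)⟩
    rintro _ ⟨x, hx, rfl⟩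
    obtain ⟨x₂, hx₂, h2⟩ : MulAut.conj n • x ∈ K.map (MulAut.conjNormal (H := X) a).toMonoidHom :=
      e ▸ Subgroup.smul_mem_pointwise_smul x _ _ hx
    refine ⟨x₂, hx₂, ?_⟩
    have h3 : a * (x₂ : G) * a⁻¹ = (n : G) * x * (n : G)⁻¹ := by
      have := congrArg Subtype.val h2
      simpa [MulAut.conjNormal_apply] using this
    show (x₂ : G) = ((n : G)⁻¹ * a)⁻¹ * (x : G) * ((n : G)⁻¹ * a)⁻¹⁻¹
    calc (x₂ : G) = a⁻¹ * (a * (x₂ : G) * a⁻¹) * a := by group
      _ = a⁻¹ * ((n : G) * x * (n : G)⁻¹) * a := by rw [h3]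
      _ = _ := by group
  set b := n⁻¹ * a with hb
  have hab : a = n * b := (mul_inv_cancel_left n a).symm
  have hbact : ∀ v ∈ V, b * v * b⁻¹ = ⁅a, v⁆ * v := fun v hv => by
    rw [← hconjv v hv]
    have hm := (inferInstance : V.Normal).conj_mem v hv a
    calc b * v * b⁻¹ = n⁻¹ * (a * v * a⁻¹) * n := by rw [hb]; group
      _ = a * v * a⁻¹ := by rw [(hVc n⁻¹ (inv_mem hn) _ hm).eq, inv_mul_cancel_right]
  have hqb : q b = q a := by
    rw [hb, map_mul, map_inv, show q n = 1 from (QuotientGroup.eq_one_iff _).mpr hn, inv_one, one_mul]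
  have hbpV : b ^ p ∈ V := by
    rw [← QuotientGroup.eq_one_iff]
    show q (b ^ p) = 1
    rw [map_pow, hqb, ← map_pow, hq, QuotientGroup.mk'_apply, QuotientGroup.eq_one_iff]
    exact hap
  have hbpQ : b ^ p ∈ Subgroup.centralizer (Q : Set G) := Subgroup.mem_centralizer_iff.mpr fun x hx => by
    have h1 : b ^ p * x * (b ^ p)⁻¹ * x⁻¹ = 1 := hQV _
      (mul_mem ((Subgroup.mem_normalizer_iff.mp (pow_mem hbN p) x).mp hx) (inv_mem hx))
      (by
        rw [show b ^ p * x * (b ^ p)⁻¹ * x⁻¹ = b ^ p * (x * (b ^ p)⁻¹ * x⁻¹) by group]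
        exact mul_mem hbpV ((inferInstance : V.Normal).conj_mem _ (inv_mem hbpV) x))
    rw [mul_inv_eq_one, mul_inv_eq_iff_eq_mul] at h1
    exact h1.symm
  have hapQ : a ^ p ∈ Subgroup.centralizer (Q : Set G) := by
    set s := ⁅a, n⁆ with hs
    have hsV : s ∈ V := hZV _ (hcm n hn)
    have hswap : b * n = n * b * s := by
      have h1 : b * n = s * n * b := by rw [← hbact n hn]; group
      rw [h1, (hVc s hsV n hn).eq, mul_assoc, mul_assoc]
      congr 1
      have hsb : b * s * b⁻¹ = s := by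
        rw [hbact s hsV, commutatorElement_eq_one_iff_commute.mpr (hZa _ (hcm n hn)), one_mul]
      exact (mul_inv_eq_iff_eq_mul.mp hsb).symm
    have hsb' : Commute s b := by
      have hsb : b * s * b⁻¹ = s := by
        rw [hbact s hsV, commutatorElement_eq_one_iff_commute.mpr (hZa _ (hcm n hn)), one_mul]
      exact (mul_inv_eq_iff_eq_mul.mp hsb).symm
    obtain ⟨j, hj⟩ : p ∣ p.choose 2 := hp.dvd_choose_self two_ne_zero (by have := hp.two_le; omega)
    rw [hab, Small.mul_pow_class_two hswap (hVc s hsV n hn) hsb' p, hVe.2 n hn, one_mul, hj, pow_mul,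
      hVe.2 s hsV, one_pow, mul_one]
    exact hbpQ
  have hZQ : ∀ z ∈ Z, z ∈ V ⊓ Subgroup.centralizer (Q : Set G) := fun z hz =>
    Subgroup.mem_inf.mpr ⟨hZV z hz, Subgroup.zpowers_le.mpr hapQ (hZle hz)⟩
  have hAV : Q ≤ Subgroup.normalizer (V : Set G) := by rw [Subgroup.normalizer_eq_top]; exact le_top
  have hcopQ : (Nat.card Q).Coprime (Nat.card V) := by rw [hQcard, he]; exact Nat.Coprime.pow_right e hOcop
  have hdisj := coprime_abelian_disjoint Q V hAV hcopQ
  have hsup := coprime_abelian_sup Q V hAV hcopQ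
  have hcommV : ⁅V, Q⁆ ≤ V := by
    rw [Subgroup.commutator_le]
    intro v hv x _
    rw [commutatorElement_def, show v * x * v⁻¹ * x⁻¹ = v * (x * v⁻¹ * x⁻¹) by group]
    exact mul_mem hv ((inferInstance : V.Normal).conj_mem _ (inv_mem hv) x)
  have hbfix : ∀ w ∈ ⁅V, Q⁆, b * w * b⁻¹ = w := fun w hw => by
    have hwV := hcommV hw
    have hle : (⁅V, Q⁆).map (MulAut.conj b).toMonoidHom ≤ ⁅V, Q⁆ := by
      rw [Subgroup.map_commutator]
      refine Subgroup.commutator_mono ?_ ?_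
      · rintro _ ⟨v, hv, rfl⟩; exact (inferInstance : V.Normal).conj_mem v hv b
      · rintro _ ⟨x, hx, rfl⟩; exact (Subgroup.mem_normalizer_iff.mp hbN x).mp hx
    have h1 : b * w * b⁻¹ ∈ ⁅V, Q⁆ := hle ⟨w, hw, rfl⟩
    have h2 : ⁅a, w⁆ ∈ ⁅V, Q⁆ := by
      have := mul_mem h1 (inv_mem hw)
      rwa [hbact w hwV, mul_inv_cancel_right] at this
    have h3 : ⁅a, w⁆ = 1 := Subgroup.mem_bot.mp (hdisj ▸ Subgroup.mem_inf.mpr ⟨hZQ _ (hcm w hwV), h2⟩)
    rw [hbact w hwV, h3, one_mul]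
  refine hnotcent b hqb (Subgroup.mem_centralizer_iff.mpr fun y hy => ?_)
  obtain ⟨x, hx, rfl⟩ := hQmap y hy
  set d := x * b * x⁻¹ * b⁻¹ with hd
  have hdQ : d ∈ Q := by
    rw [hd, show x * b * x⁻¹ * b⁻¹ = x * (b * x⁻¹ * b⁻¹) by group]
    exact mul_mem hx ((Subgroup.mem_normalizer_iff.mp hbN _).mp (inv_mem hx))
  have hdC : d ∈ Subgroup.centralizer (V : Set G) := by
    have hle : V ≤ Subgroup.centralizer ({d} : Set G) := hsup ▸ sup_le (fun v hv => ?_) (fun w hw => ?_)
    · intro v hv; exact Subgroup.mem_centralizer_singleton_iff.mp (hle hv)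
    · obtain ⟨hvV, hvC⟩ := Subgroup.mem_inf.mp hv
      rw [Subgroup.mem_centralizer_singleton_iff]
      have hvb : b⁻¹ * v * b ∈ Subgroup.centralizer (Q : Set G) := Subgroup.mem_centralizer_iff.mpr fun x' hx' => by
        have h := Subgroup.mem_centralizer_iff.mp hvC _ ((Subgroup.mem_normalizer_iff.mp hbN x').mp hx')
        calc x' * (b⁻¹ * v * b) = b⁻¹ * ((b * x' * b⁻¹) * v) * b := by group
          _ = b⁻¹ * (v * (b * x' * b⁻¹)) * b := by rw [h]
          _ = b⁻¹ * v * b * x' := by group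
      have e1 : x * v * x⁻¹ = v := by rw [Subgroup.mem_centralizer_iff.mp hvC x hx, mul_inv_cancel_right]
      have e2 : x⁻¹ * (b⁻¹ * v * b) * x = b⁻¹ * v * b := by
        rw [Subgroup.mem_centralizer_iff.mp hvb x⁻¹ (inv_mem hx), inv_mul_cancel_right]
      have : d * v * d⁻¹ = v := by
        calc d * v * d⁻¹ = x * (b * (x⁻¹ * (b⁻¹ * v * b) * x) * b⁻¹) * x⁻¹ := by rw [hd]; group
          _ = x * v * x⁻¹ := by rw [e2]; group
          _ = v := e1
      exact (mul_inv_eq_iff_eq_mul.mp this).symm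
    · rw [Subgroup.mem_centralizer_singleton_iff]
      have hwx : ∀ x' ∈ Q, x' * w * x'⁻¹ ∈ ⁅V, Q⁆ := fun x' hx' => by
        have hle : (⁅V, Q⁆).map (MulAut.conj x').toMonoidHom ≤ ⁅V, Q⁆ := by
          rw [Subgroup.map_commutator]
          refine Subgroup.commutator_mono ?_ ?_
          · rintro _ ⟨v, hv, rfl⟩; exact (inferInstance : V.Normal).conj_mem v hv x'
          · rintro _ ⟨z, hz, rfl⟩; exact mul_mem (mul_mem hx' hz) (inv_mem hx')
        exact hle ⟨w, hw, rfl⟩
      have e1 : b⁻¹ * w * b = w := by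
        have := hbfix w hw
        calc b⁻¹ * w * b = b⁻¹ * (b * w * b⁻¹) * b := by rw [this]
          _ = w := by group
      have e2 : b * (x⁻¹ * w * x) * b⁻¹ = x⁻¹ * w * x := by
        have := hbfix _ (hwx x⁻¹ (inv_mem hx))
        rwa [inv_inv] at this
      have : d * w * d⁻¹ = w := by
        calc d * w * d⁻¹ = x * (b * (x⁻¹ * (b⁻¹ * w * b) * x) * b⁻¹) * x⁻¹ := by rw [hd]; group
          _ = x * (x⁻¹ * w * x) * x⁻¹ := by rw [e1, e2]
          _ = w := by group
      exact (mul_inv_eq_iff_eq_mul.mp this).symm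
  have hd1 : d = 1 := hQV d hdQ (hC hdC)
  have := congrArg q hd1
  rw [hd, map_mul, map_mul, map_mul, map_inv, map_inv, map_one, mul_inv_eq_one, mul_inv_eq_iff_eq_mul] at this
  exact this

theorem main (hG : Cfsg.IsPSolvable p G) (P : Sylow p G) (A : Subgroup G) (hAP : A ≤ (P : Subgroup G))
    (hAn : (P : Subgroup G) ≤ Subgroup.normalizer (A : Set G)) (hA : IsCyclic A)
    (h : p ≠ 2 ∨ ¬ Cfsg.Involves (Equiv.Perm (Fin 4)) G) : A ≤ Cfsg.pPrimePCore p G := by
  classical
  have hp := (Fact.out : p.Prime)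
  haveI : (pPrimeCore p G).Normal := inferInstance
  set q := QuotientGroup.mk' (pPrimeCore p G) with hq
  have hqs : Function.Surjective q := QuotientGroup.mk'_surjective _
  haveI := Blocks.pCore_normal' (G := G ⧸ pPrimeCore p G) (p := p)
  set P0 := pCore p (G ⧸ pPrimeCore p G) with hP0
  have hO := CfsgLib.pPrimeCore_quotient_eq_bot (G := G) p
  have hs1 := PSolvableClosure.of_surjective q hqs hG
  have hHH := Blocks.hall_higman hs1 hO
  have hP0p : IsPGroup p P0 := CfsgLib.isPGroup_pCore p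
  have hP0P : P0 ≤ (P : Subgroup G).map q := by
    have := hP0p.le_sylow_of_normal (P.mapSurjective hqs)
    rwa [Sylow.coe_mapSurjective] at this
  set W := (frattini P0).map P0.subtype with hW
  haveI hWn : W.Normal := by
    have h1 := (CfsgLib.le_normalizer_map_characteristic (A := (⊤ : Subgroup (G ⧸ pPrimeCore p G))) (K := P0)
      (by rw [Subgroup.normalizer_eq_top]) (frattini P0)).1
    exact Subgroup.normalizer_eq_top_iff.mp (top_unique h1)
  set r := QuotientGroup.mk' W with hr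
  have hrs : Function.Surjective r := QuotientGroup.mk'_surjective _
  set V := P0.map r with hV
  haveI hVn : V.Normal := Subgroup.Normal.map inferInstance r hrs
  have hWP : W ≤ P0 := Subgroup.map_subtype_le _
  have hVmem : ∀ y, r y ∈ V → y ∈ P0 := fun y hy => by
    obtain ⟨z, hz, e⟩ := hy
    have := mul_mem hz (hWP (QuotientGroup.eq.mp e))
    rwa [mul_inv_cancel_left] at this
  have hVe : Cfsg.IsElementaryAbelian p V := by
    refine ⟨⟨⟨fun ⟨x, hx⟩ ⟨y, hy⟩ => Subtype.ext ?_⟩⟩, fun x hx => ?_⟩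
    · obtain ⟨x, hx', rfl⟩ := hx
      obtain ⟨y, hy', rfl⟩ := hy
      show r x * r y = r y * r x
      rw [← commutatorElement_eq_one_iff_mul_comm, ← map_commutatorElement, hr, QuotientGroup.mk'_apply,
        QuotientGroup.eq_one_iff]
      exact ⟨⁅(⟨x, hx'⟩ : P0), ⟨y, hy'⟩⁆, CfsgLib.commutator_le_frattini_pGroup hP0p
        (Subgroup.commutator_mem_commutator (Subgroup.mem_top _) (Subgroup.mem_top _)), rfl⟩
    · obtain ⟨x, hx', rfl⟩ := hx
      rw [← map_pow, hr, QuotientGroup.mk'_apply, QuotientGroup.eq_one_iff]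
      exact ⟨(⟨x, hx'⟩ : P0) ^ p, CfsgLib.pow_mem_frattini_pGroup hP0p _, rfl⟩
  have hC : Subgroup.centralizer (V : Set ((G ⧸ pPrimeCore p G) ⧸ W)) ≤ V := by
    set S := (Subgroup.centralizer (V : Set ((G ⧸ pPrimeCore p G) ⧸ W))).comap r with hS
    have hSp : IsPGroup p S := by
      rintro ⟨y, hy⟩
      obtain ⟨k, c, hc, ho⟩ := Nat.exists_eq_pow_mul_and_not_dvd (orderOf_pos y).ne' p hp.one_lt.ne'
      set b := y ^ p ^ k with hb
      have hbc : b ^ c = 1 := by rw [hb, ← pow_mul, ← ho, pow_orderOf_eq_one]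
      obtain ⟨e, he⟩ := IsPGroup.iff_card.mp hP0p
      have hcp : Nat.Coprime c (p ^ e) := ((hp.coprime_iff_not_dvd.mpr hc).symm).pow_right e
      have hbA : Subgroup.zpowers b ≤ Subgroup.centralizer (P0 : Set (G ⧸ pPrimeCore p G)) := by
        refine CfsgLib.centralize_of_trivial_mod_frattini (by rw [Subgroup.normalizer_eq_top]; exact le_top) ?_ ?_
        · rw [Nat.card_zpowers]
          exact (hcp.coprime_dvd_left (orderOf_dvd_of_pow_eq_one hbc)).coprime_dvd_right
            (he ▸ Subgroup.card_subgroup_dvd_card (frattini P0))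
        · rintro _ ⟨j, rfl⟩ z hz
          have hj : b ^ j ∈ S := Subgroup.zpow_mem _ (Subgroup.pow_mem _ hy _) j
          have h1 := Subgroup.mem_centralizer_iff.mp hj (r z) ⟨z, hz, rfl⟩
          show b ^ j * z * (b ^ j)⁻¹ * z⁻¹ ∈ W
          rw [← QuotientGroup.eq_one_iff]
          show r (b ^ j * z * (b ^ j)⁻¹ * z⁻¹) = 1
          rw [map_mul, map_mul, map_mul, map_inv, map_inv, ← h1]; group
      have hbP : b ∈ P0 := hHH (hbA (Subgroup.mem_zpowers b))
      have hb1 : b = 1 := by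
        rw [← orderOf_eq_one_iff]
        refine Nat.eq_one_of_dvd_coprimes hcp (orderOf_dvd_of_pow_eq_one hbc) ?_
        rw [← he, ← Subgroup.orderOf_mk b hbP]
        exact orderOf_dvd_natCard _
      exact ⟨k, Subtype.ext hb1⟩
    haveI : S.Normal := Subgroup.Normal.comap inferInstance r
    intro y hy
    obtain ⟨y, rfl⟩ := hrs y
    exact ⟨y, CfsgLib.le_pCore hSp hy, rfl⟩
  have hcore : pCore p ((G ⧸ pPrimeCore p G) ⧸ W) ≤ V := by
    haveI := Blocks.pCore_normal' (G := (G ⧸ pPrimeCore p G) ⧸ W) (p := p)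
    intro y hy
    obtain ⟨y, rfl⟩ := hrs y
    refine ⟨y, CfsgLib.le_pCore ?_ (show y ∈ (pCore p ((G ⧸ pPrimeCore p G) ⧸ W)).comap r from hy), rfl⟩
    exact (CfsgLib.isPGroup_pCore p).comap_of_ker_isPGroup r (by
      rw [hr, QuotientGroup.ker_mk']; exact hP0p.to_le hWP)
  obtain ⟨a, ha⟩ := (Subgroup.isCyclic_iff_exists_zpowers_eq_top (H := A)).mp hA
  have haP : a ∈ (P : Subgroup G) := hAP (ha ▸ Subgroup.mem_zpowers a)
  have hkey : r (q a) ∈ V := by
    refine key (PSolvableClosure.of_surjective r hrs hs1) hVe hC hcore (a := r (q a)) ?_ ?_ ?_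
    · rintro _ ⟨y, hy, rfl⟩
      obtain ⟨x, hx, rfl⟩ := hP0P hy
      refine Subgroup.mem_normalizer_fintype ?_
      rintro _ ⟨i, rfl⟩
      obtain ⟨j, hj⟩ : x * a ^ i * x⁻¹ ∈ Subgroup.zpowers a :=
        ha.symm ▸ (Subgroup.mem_normalizer_iff.mp (hAn hx) _).mp (ha ▸ ⟨i, rfl⟩)
      refine ⟨j, ?_⟩
      show r (q a) ^ j = r (q x) * r (q a) ^ i * (r (q x))⁻¹
      have hj' : a ^ j = x * a ^ i * x⁻¹ := hj
      rw [← map_zpow, ← map_zpow, ← map_zpow, ← map_zpow, hj', map_mul, map_mul, map_mul, map_mul, map_inv, map_inv]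
    · obtain ⟨k, hk⟩ := IsPGroup.iff_orderOf.mp P.2 ⟨a, haP⟩
      rw [Subgroup.orderOf_mk] at hk
      obtain ⟨j, -, hj⟩ := (Nat.dvd_prime_pow hp).mp (hk ▸ orderOf_map_dvd (r.comp q) a)
      exact ⟨j, hj⟩
    · rcases h with h | h
      · exact Or.inl h
      · exact Or.inr fun hi => h (involves_quot q hqs (involves_quot r hrs hi))
  have haq : q a ∈ P0 := hVmem _ hkey
  rw [← ha, Subgroup.zpowers_le]
  exact haq

end Aux

/-- Let G be a finite p-soluble group, P a Sylow p-subgroup of G and A a cyclic normal subgroup of P. If p is odd, or if no section of G is isomorphic to the symmetric group of degree 4, then A ≤ O_{p',p}(G). -/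
theorem result {G : Type*} [Group G] [Finite G] {p : ℕ} [Fact p.Prime] (hG : Cfsg.IsPSolvable p G) (P : Sylow p G) (A : Subgroup G) (hAP : A ≤ (P : Subgroup G)) (hAn : (P : Subgroup G) ≤ Subgroup.normalizer (A : Set G)) (hA : IsCyclic A) (h : p ≠ 2 ∨ ¬ Cfsg.Involves (Equiv.Perm (Fin 4)) G) : A ≤ Cfsg.pPrimePCore p G := by

  exact Aux.main hG P A hAP hAn hA h

end Cfsg.Agent.S3788
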