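import Cfsg.Statements.S3789
import Mathlib
import Cfsg.Agent.Lib.HallHigmanB.Reduction
-- import your own Cfsg.Agent.* helpers here

set_option autoImplicit false
open Cfsg

namespace Cfsg.Agent.S3789

namespace Aux

open CfsgLib CfsgLib.HallHigmanB Module
open scoped commutatorElement

universe a b c

/-- The products `(ρ (s (k-1)) - 1) ⋯ (ρ (s 0) - 1)`. -/
def Mk {H : Type a} [Group H] {K : Type b} [Field K] {V : Type c} [AddCommGroup V] [Module K V]
    (ρ : H →* Module.End K V) (s : ℕ → H) : ℕ → Module.End K V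
  | 0 => 1
  | k + 1 => (ρ (s k) - 1) * Mk ρ s k

/-- The list `[s (k-1), …, s 0]`. -/
def Ls {H : Type a} (s : ℕ → H) : ℕ → List H
  | 0 => []
  | k + 1 => s k :: Ls s k

theorem prod_Ls {H : Type a} [Group H] {K : Type b} [Field K] {V : Type c} [AddCommGroup V] [Module K V]
    (ρ : H →* Module.End K V) (s : ℕ → H) : ∀ k, ((Ls s k).map fun h => ρ h - 1).prod = Mk ρ s k
  | 0 => rfl
  | k + 1 => by rw [Ls, List.map_cons, List.prod_cons, prod_Ls ρ s k]; rfl

/-- An element of order three of a derived term cannot act quadratically. -/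
theorem key {H : Type a} [Group H] [Finite H] {p : ℕ} [Fact p.Prime] (hp3 : p = 3) {K : Type b} [Field K]
    [IsAlgClosed K] [CharP K p] {V : Type c} [AddCommGroup V] [Module K V] [FiniteDimensional K V]
    (hsol : Cfsg.IsPSolvable p H) (hOp : Cfsg.pCore p H = ⊥) (ρ : H →* Module.End K V) (hρ : Function.Injective ρ)
    (S : Subgroup H) (hS : IsPGroup p S) (D : ℕ → Subgroup H) (hDS : ∀ i, D i ≤ S)
    (hDsucc : ∀ i, D (i + 1) = ⁅D i, D i⁆) (m : ℕ) {y : H} (hy : y ∈ D (m + 1)) (hyo : orderOf y = p)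
    (hquad : (ρ y - 1) ^ 2 = 0) (hrel : ∀ s : ℕ → H, (∀ i, s i ∈ D i) → (ρ y - 1) * Mk ρ s (m + 1) = 0) :
    False := by
  classical
  have hp := (Fact.out : p.Prime)
  have hp2 : p ≠ 2 := by omega
  have hx : Exc p ρ y 1 := ⟨le_rfl, by rw [pow_one, hyo], 2, by rw [pow_one]; omega, hquad⟩
  have hyS : y ∈ S := hDS _ hy
  obtain ⟨k, hk⟩ : ∃ k : ℕ, y ^ p ^ k = 1 := ⟨1, by rw [pow_one, ← hyo, pow_orderOf_eq_one]⟩
  have hDle : ∀ i j, i ≤ j → D j ≤ D i := by
    intro i j hij
    induction hij with
    | refl => exact le_rfl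
    | @step k _ ih =>
      refine le_trans ?_ ih
      rw [hDsucc, Subgroup.commutator_le]
      intro u hu v hv
      rw [commutatorElement_def]; exact mul_mem (mul_mem (mul_mem hu hv) (inv_mem hu)) (inv_mem hv)
  have hmain : ∀ q : ℕ, q.Prime → p ≠ q → ∀ T : Subgroup H, IsPGroup q T → S ≤ Subgroup.normalizer (T : Set H) →
      y ∈ Subgroup.centralizer (T : Set H) := by
    intro q hq hpq T₀ hT₀ hST₀
    haveI := Fact.mk hq
    by_contra hy₀
    obtain ⟨T, ⟨hT, hST, hyT⟩, hmin⟩ := Set.Finite.exists_minimalFor (fun U : Subgroup H => Nat.card U)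
      {U : Subgroup H | IsPGroup q U ∧ S ≤ Subgroup.normalizer (U : Set H) ∧ y ∉ Subgroup.centralizer (U : Set H)}
      (Set.toFinite _) ⟨T₀, hT₀, hST₀, hy₀⟩
    haveI : Group.IsNilpotent T := hT.isNilpotent
    have hproper : ∀ M : Subgroup H, M ≤ T → S ≤ Subgroup.normalizer (M : Set H) → M ≠ T →
        y ∈ Subgroup.centralizer (M : Set H) := fun M hM hSM hne => by
      by_contra h
      exact hne (Subgroup.eq_of_le_of_card_ge hM (hmin (j := M) ⟨hT.to_le hM, hSM, h⟩ (Subgroup.card_le_of_le hM)))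
    by_cases hcom : ∀ a ∈ T, ∀ b ∈ T, a * b = b * a
    · have h := hx.centralizes_abelian hpq hρ T hT hcom (hST hyS)
      rw [Nat.sub_self, pow_zero, pow_one] at h
      exact hyT h
    push Not at hcom
    obtain ⟨u₀, hu₀, w₀, hw₀, huw⟩ := hcom
    set DT := ⁅T, T⁆ with hD
    have hDT : DT ≤ T := by
      rw [hD, Subgroup.commutator_le]
      intro u hu v hv
      rw [commutatorElement_def]; exact mul_mem (mul_mem (mul_mem hu hv) (inv_mem hu)) (inv_mem hv)
    have hDne : DT ≠ T := fun h => by
      haveI : Nontrivial T := ⟨⟨⟨u₀, hu₀⟩, ⟨w₀, hw₀⟩, fun e => huw (by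
        have he : u₀ = w₀ := congrArg Subtype.val e
        rw [he])⟩⟩
      refine (Group.IsSolvable.commutator_lt_top_of_nontrivial T).ne (Subgroup.map_injective T.subtype_injective ?_)
      rw [commutator_def, Subgroup.map_commutator, ← MonoidHom.range_eq_map, Subgroup.range_subtype, ← hD, h]
    have hSD : S ≤ Subgroup.normalizer (DT : Set H) := fun g hg => Subgroup.mem_normalizer_fintype fun u hu => by
      have hle2 : DT.map (MulAut.conj g).toMonoidHom ≤ DT := by
        rw [hD, Subgroup.map_commutator]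
        refine Subgroup.commutator_mono ?_ ?_ <;>
        · rintro _ ⟨v, hv, rfl⟩; exact (Subgroup.mem_normalizer_iff.mp (hST hg) v).mp hv
      exact hle2 ⟨u, hu, rfl⟩
    have hyD := hproper DT hDT hSD hDne
    have hcomTT : ∀ u ∈ T, ∀ w ∈ T, ⁅u, w⁆ ∈ DT := fun u hu w hw => Subgroup.commutator_mem_commutator hu hw
    -- the derived group is central
    have hcen : ∀ u ∈ T, ∀ d ∈ DT, Commute u d := by
      set C := T ⊓ Subgroup.centralizer (DT : Set H) with hC
      by_contra hcon
      have hne : C ≠ T := fun h => hcon fun u hu d hd =>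
        (Subgroup.mem_centralizer_iff.mp (Subgroup.mem_inf.mp (h ▸ hu : u ∈ C)).2 d hd).symm
      have hSC : S ≤ Subgroup.normalizer (C : Set H) := fun g hg => Subgroup.mem_normalizer_fintype fun u hu => by
        obtain ⟨hu1, hu2⟩ := Subgroup.mem_inf.mp hu
        refine Subgroup.mem_inf.mpr ⟨(Subgroup.mem_normalizer_iff.mp (hST hg) u).mp hu1,
          Subgroup.mem_centralizer_iff.mpr fun d hd => ?_⟩
        have hd' : g⁻¹ * d * g ∈ DT := by
          have := (Subgroup.mem_normalizer_iff.mp (hSD (inv_mem hg)) d).mp hd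
          rwa [inv_inv] at this
        calc d * (g * u * g⁻¹) = g * ((g⁻¹ * d * g) * u) * g⁻¹ := by group
          _ = g * (u * (g⁻¹ * d * g)) * g⁻¹ := by rw [Subgroup.mem_centralizer_iff.mp hu2 _ hd']
          _ = g * u * g⁻¹ * d := by group
      have hyC' := hproper C inf_le_left hSC hne
      refine hyT (Subgroup.mem_centralizer_iff.mpr fun t ht => ?_)
      have hyt : y * t * y⁻¹ ∈ T := (Subgroup.mem_normalizer_iff.mp (hST hyS) t).mp ht
      have hu : y * t * y⁻¹ * t⁻¹ ∈ C := by
        refine Subgroup.mem_inf.mpr ⟨mul_mem hyt (inv_mem ht), Subgroup.mem_centralizer_iff.mpr fun d hd => ?_⟩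
        have hd' : t⁻¹ * d * t ∈ DT := by
          have h1 : ⁅t⁻¹, d⁆ * d = t⁻¹ * d * t := by rw [commutatorElement_def]; group
          rw [← h1]; exact mul_mem (hcomTT _ (inv_mem ht) _ (hDT hd)) hd
        have e1 : y * (t⁻¹ * d * t) = (t⁻¹ * d * t) * y := (Subgroup.mem_centralizer_iff.mp hyD _ hd').symm
        have e2 : y * d = d * y := (Subgroup.mem_centralizer_iff.mp hyD _ hd).symm
        calc d * (y * t * y⁻¹ * t⁻¹) = (d * y) * t * y⁻¹ * t⁻¹ := by group
          _ = (y * d) * t * y⁻¹ * t⁻¹ := by rw [e2]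
          _ = y * t * ((t⁻¹ * d * t) * y⁻¹) * t⁻¹ := by group
          _ = y * t * (y⁻¹ * (t⁻¹ * d * t)) * t⁻¹ := by
            rw [(show Commute (t⁻¹ * d * t) y from e1.symm).inv_right.eq]
          _ = y * t * y⁻¹ * t⁻¹ * d := by group
      have h1 := eq_one_of_fixed_displacement hpq hT hk (Subgroup.mem_inf.mp hu).1
        (Subgroup.mem_centralizer_iff.mp hyC' _ hu).symm (inv_mul_cancel_right (y * t * y⁻¹) t).symm
      rw [mul_inv_eq_one, mul_inv_eq_iff_eq_mul] at h1
      exact h1.symm
    have hDab : ∀ a ∈ DT, ∀ b ∈ DT, a * b = b * a := fun a ha b hb => (hcen a (hDT ha) b hb).eq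
    -- displacements lie in every radical
    have hrad : ∀ χ : DT →* Kˣ, wspace ρ DT χ ⊤ ≠ ⊥ → ∀ t ∈ T, ∀ w ∈ T, pair χ (y * t * y⁻¹ * t⁻¹) w = 1 := by
      intro χ hχ t ht w hw
      have hyt : y * t * y⁻¹ ∈ T := (Subgroup.mem_normalizer_iff.mp (hST hyS) t).mp ht
      have hWT : ∀ u ∈ T, ∀ v ∈ wspace ρ DT χ ⊤, ρ u v ∈ wspace ρ DT χ ⊤ := fun u hu v hv => by
        refine mem_wspace.mpr ⟨Submodule.mem_top, fun a => ?_⟩
        rw [← Module.End.mul_apply, ← map_mul, ← (hcen u hu a a.2).eq, map_mul, Module.End.mul_apply,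
          (mem_wspace.mp hv).2 a, map_smul]
      by_cases htriv : ∀ v ∈ wspace ρ DT χ ⊤, ρ y v = v
      · obtain ⟨v, hv, hv0⟩ := Submodule.exists_mem_ne_zero_of_ne_bot hχ
        have hu : y * t * y⁻¹ * t⁻¹ ∈ T := mul_mem hyt (inv_mem ht)
        have hinv : ∀ v ∈ wspace ρ DT χ ⊤, ρ y⁻¹ v = v := fun v hv => by
          conv_lhs => rw [← htriv v hv]
          exact rho_apply_inv ρ y v
        have hfix : ∀ v ∈ wspace ρ DT χ ⊤, ρ (y * t * y⁻¹ * t⁻¹) v = v := fun v hv => by
          rw [map_mul, map_mul, map_mul, Module.End.mul_apply, Module.End.mul_apply, Module.End.mul_apply,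
            hinv _ (hWT _ (inv_mem ht) v hv), rho_inv_apply, htriv v hv]
        have hfix' : ∀ v ∈ wspace ρ DT χ ⊤, ρ (y * t * y⁻¹ * t⁻¹)⁻¹ v = v := fun v hv => by
          conv_lhs => rw [← hfix v hv]
          exact rho_apply_inv ρ _ v
        have h1 := hcomTT _ hu w hw
        rw [pair_eq h1]
        refine Units.ext (smul_left_injective K hv0 ?_)
        show (χ ⟨_, h1⟩ : K) • v = ((1 : Kˣ) : K) • v
        rw [← (mem_wspace.mp hv).2 ⟨_, h1⟩, Units.val_one, one_smul]
        show ρ ⁅y * t * y⁻¹ * t⁻¹, w⁆ v = v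
        set u := y * t * y⁻¹ * t⁻¹
        rw [commutatorElement_def, map_mul, map_mul, map_mul, Module.End.mul_apply, Module.End.mul_apply,
          Module.End.mul_apply, hfix' _ (hWT _ (inv_mem hw) v hv), rho_inv_apply, hfix v hv]
      -- otherwise every element of the derived term fixes the weight
      have hall : D m ≤ fixer DT χ := by
        by_contra hnle
        refine htriv fun v hv => ?_
        haveI := Fintype.ofFinite DT
        have hex : ∀ i, i ≤ m → ∃ s ∈ D i, ∀ h ∈ D (i + 1), h * s ∉ fixer DT χ := by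
          intro i hi
          by_contra hcon
          push Not at hcon
          refine hnle ((hDle i m hi).trans ?_)
          set F : Subgroup (D i) := (fixer DT χ).subgroupOf (D i) with hF
          have hFtop : F ⊔ frattini (D i) = ⊤ := eq_top_iff.mpr fun s _ => by
            obtain ⟨h, hh, hhs⟩ := hcon s s.2
            have hhD : h ∈ D i := hDle i (i + 1) (by omega) hh
            have h1 : (⟨h, hhD⟩ : D i) ∈ frattini (D i) := by
              refine CfsgLib.commutator_le_frattini_pGroup (hS.to_le (hDS i)) ?_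
              have h2 : h ∈ (commutator (D i)).map (D i).subtype := by
                rw [commutator_def, Subgroup.map_commutator, ← MonoidHom.range_eq_map, Subgroup.range_subtype, ← hDsucc]
                exact hh
              obtain ⟨z, hz, hz'⟩ := h2
              rwa [show (⟨h, hhD⟩ : D i) = z from Subtype.ext hz'.symm]
            have h3 : s = (⟨h, hhD⟩ : D i)⁻¹ * (⟨h, hhD⟩ * s) := (inv_mul_cancel_left _ _).symm
            rw [h3]
            exact mul_mem (Subgroup.mem_sup_right (inv_mem h1))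
              (Subgroup.mem_sup_left (show ((⟨h, hhD⟩ * s : D i) : H) ∈ fixer DT χ from hhs))
          have := frattini_nongenerating hFtop
          intro s hs
          have h4 : (⟨s, hs⟩ : D i) ∈ F := this ▸ Subgroup.mem_top _
          exact h4
        choose! s hs hs' using hex
        let s' : ℕ → H := fun i => if i ≤ m then s i else 1
        have hs'D : ∀ i, s' i ∈ D i := fun i => by
          simp only [s']; split
          · exact hs i (by assumption)
          · exact one_mem _
        let π : Module.End K V := ∑ a : DT, ((χ a : Kˣ)⁻¹ : Kˣ).val • ρ (a : H)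
        have hπ1 : π v = (Nat.card DT : K) • v := by
          simp only [π, LinearMap.sum_apply, LinearMap.smul_apply]
          rw [Finset.sum_congr rfl fun a _ => show ((χ a : Kˣ)⁻¹ : Kˣ).val • ρ (a : H) v = v by
            rw [(mem_wspace.mp hv).2 a, smul_smul, Units.inv_mul, one_smul],
            Finset.sum_const, Finset.card_univ, ← Nat.card_eq_fintype_card, Nat.cast_smul_eq_nsmul]
        have hπ0 : ∀ g ∈ S, g ∉ fixer DT χ → π (ρ g v) = 0 := fun g hg hgf => by
          simp only [π, LinearMap.sum_apply, LinearMap.smul_apply]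
          let c : MulAut DT := (Subgroup.normalizerMonoidHom DT ⟨g, hSD hg⟩).symm
          have hc : ∀ a : DT, ((c a : DT) : H) = g⁻¹ * a * g := fun a => by
            have h1 : g * ((c a : DT) : H) * g⁻¹ = a :=
              congrArg Subtype.val ((Subgroup.normalizerMonoidHom DT ⟨g, hSD hg⟩).apply_symm_apply a)
            rw [← h1]; group
          have hne : (Units.coeHom K).comp (χ.comp c.toMonoidHom * χ⁻¹) ≠ 1 := fun h => hgf ⟨hSD hg, fun a b hab => by
            have h1 := DFunLike.congr_fun h b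
            rw [MonoidHom.comp_apply, MonoidHom.mul_apply, MonoidHom.comp_apply, MonoidHom.inv_apply] at h1
            have h2 : χ (c b) * (χ b)⁻¹ = 1 := Units.ext h1
            rw [mul_inv_eq_one, show c b = a from Subtype.ext (by rw [hc, ← hab]; group)] at h2
            exact h2.symm⟩
          rw [Finset.sum_congr rfl fun a _ => show ((χ a : Kˣ)⁻¹ : Kˣ).val • ρ (a : H) (ρ g v) =
              ((Units.coeHom K).comp (χ.comp c.toMonoidHom * χ⁻¹) a) • ρ g v by
            rw [← Module.End.mul_apply, ← map_mul, show (a : H) * g = g * ((c a : DT) : H) by rw [hc]; group, map_mul,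
              Module.End.mul_apply, (mem_wspace.mp hv).2 (c a), map_smul, smul_smul]
            simp [mul_comm],
            ← Finset.sum_smul, sum_hom_units_eq_zero _ hne, zero_smul]
        have hsteps : ∀ i, i ≤ m + 1 → ∀ h ∈ D i, π (ρ h (Mk ρ s' i v)) = (-1 : K) ^ i • π (ρ h v) := by
          intro i
          induction i with
          | zero => intro _ h _; rw [pow_zero, one_smul, show Mk ρ s' 0 v = v from rfl]
          | succ i ih =>
            intro hi h hh
            have hhi : h ∈ D i := hDle i (i + 1) (by omega) hh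
            have hsi : s' i = s i := if_pos (by omega)
            rw [show Mk ρ s' (i + 1) = (ρ (s' i) - 1) * Mk ρ s' i from rfl, Module.End.mul_apply, LinearMap.sub_apply,
              Module.End.one_apply, map_sub, map_sub, ← Module.End.mul_apply (f := ρ h), ← map_mul,
              ih (by omega) _ (mul_mem hhi (hs'D i)), ih (by omega) h hhi,
              hπ0 (h * s' i) (mul_mem (hDS _ hh) (hDS _ (hs'D i))) (hsi ▸ hs' i (by omega) h hh),
              smul_zero, zero_sub, pow_succ, mul_neg_one, neg_smul]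
        have hfin := hsteps (m + 1) le_rfl 1 (one_mem _)
        rw [map_one, Module.End.one_apply, Module.End.one_apply, hπ1] at hfin
        have hcomm : Commute (ρ y) π := by
          refine Commute.sum_right _ _ _ fun a _ => Commute.smul_right ?_ _
          exact (show Commute y (a : H) from (Subgroup.mem_centralizer_iff.mp hyD a a.2).symm).map ρ
        have h0 := LinearMap.congr_fun (hrel s' hs'D) v
        rw [Module.End.mul_apply, LinearMap.zero_apply] at h0
        have h1 : (ρ y - 1) (π (Mk ρ s' (m + 1) v)) = 0 := by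
          rw [← Module.End.mul_apply, (hcomm.sub_left (Commute.one_left π)).eq, Module.End.mul_apply, h0, map_zero]
        rw [hfin, map_smul, map_smul, smul_smul, smul_eq_zero] at h1
        have h2 := h1.resolve_left (mul_ne_zero (pow_ne_zero _ (neg_ne_zero.mpr one_ne_zero))
          (cast_card_ne_zero hpq (hT.to_le hDT)))
        rw [LinearMap.sub_apply, Module.End.one_apply, sub_eq_zero] at h2
        exact h2
      obtain ⟨a, ha, hafix, j, hj, haj, hgood⟩ := hx.good hp2 hpq hT hDT hcomTT hcen (hST hyS) (hSD hyS)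
        (by rw [Nat.sub_self, pow_zero, pow_one]; exact hyD) χ hχ
      obtain rfl : j = 0 := by omega
      simp only [Nat.sub_self, pow_zero, pow_one] at hgood
      have h1 : D m ≤ Subgroup.normalizer (T : Set H) := (hDS m).trans hST
      have h2 : D m ≤ Subgroup.normalizer (rad χ hcomTT hcen : Set H) := fun g hg =>
        mem_normalizer_rad hcomTT hcen (h1 hg) (hall hg)
      have hym : y ∈ D m := hDle m (m + 1) (by omega) hy
      have hycomm : (⟨y, hym⟩ : D m) ∈ commutator (D m) := by
        have h3 : y ∈ (commutator (D m)).map (D m).subtype := by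
          rw [commutator_def, Subgroup.map_commutator, ← MonoidHom.range_eq_map, Subgroup.range_subtype, ← hDsucc]
          exact hy
        obtain ⟨z, hz, hz'⟩ := h3
        rwa [show (⟨y, hym⟩ : D m) = z from Subtype.ext hz'.symm]
      have hcop : (Nat.card (T ⧸ (rad χ hcomTT hcen).subgroupOf T)).Coprime p := by
        obtain ⟨m, hm⟩ := IsPGroup.iff_card.mp (hT.to_quotient ((rad χ hcomTT hcen).subgroupOf T))
        rw [hm]
        exact Nat.Coprime.pow_left m ((Nat.coprime_primes hq hp).mpr hpq.symm)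
      have hcm := Displacement.not_commutator _ le_rfl hp2 (hS.to_le (hDS m)) hcop (qact (D m) h1 h2) ⟨y, hym⟩
        hycomm (lt_of_lt_of_le (hgood (D m) h1 h2 hym) (by subst hp3; norm_num))
      have h3 := DFunLike.congr_fun hcm ((⟨t, ht⟩ : T) : T ⧸ (rad χ hcomTT hcen).subgroupOf T)
      rw [MulAut.one_apply] at h3
      have h4 : t⁻¹ * (y * t * y⁻¹) ∈ rad χ hcomTT hcen :=
        (QuotientGroup.eq (s := (rad χ hcomTT hcen).subgroupOf T) (a := ⟨t, ht⟩) (b := ⟨_, hyt⟩)).mp h3.symm
      have h5 : y * t * y⁻¹ * t⁻¹ = t * (t⁻¹ * (y * t * y⁻¹)) * t⁻¹ := by group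
      rw [h5, pair_mul_left hcomTT hcen (mul_mem ht h4.1) (inv_mem ht) hw,
        pair_mul_left hcomTT hcen ht h4.1 hw, h4.2 w hw, mul_one, ← pair_mul_left hcomTT hcen ht (inv_mem ht) hw,
        mul_inv_cancel, pair_one_left]
    -- so they are central
    set C₀ := T ⊓ Subgroup.centralizer (T : Set H) with hC₀
    have hSC₀ : S ≤ Subgroup.normalizer (C₀ : Set H) := fun g hg => Subgroup.mem_normalizer_fintype fun u hu => by
      obtain ⟨hu1, hu2⟩ := Subgroup.mem_inf.mp hu
      refine Subgroup.mem_inf.mpr ⟨(Subgroup.mem_normalizer_iff.mp (hST hg) u).mp hu1,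
        Subgroup.mem_centralizer_iff.mpr fun d hd => ?_⟩
      have hd' : g⁻¹ * d * g ∈ T := by
        have := (Subgroup.mem_normalizer_iff.mp (hST (inv_mem hg)) d).mp hd
        rwa [inv_inv] at this
      calc d * (g * u * g⁻¹) = g * ((g⁻¹ * d * g) * u) * g⁻¹ := by group
        _ = g * (u * (g⁻¹ * d * g)) * g⁻¹ := by rw [Subgroup.mem_centralizer_iff.mp hu2 _ hd']
        _ = g * u * g⁻¹ * d := by group
    have hC₀ne : C₀ ≠ T := fun h => huw
      ((Subgroup.mem_centralizer_iff.mp (Subgroup.mem_inf.mp (h ▸ hu₀ : u₀ ∈ C₀)).2 w₀ hw₀).symm)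
    have hyC₀ := hproper C₀ inf_le_left hSC₀ hC₀ne
    refine hyT (Subgroup.mem_centralizer_iff.mpr fun t ht => ?_)
    have hyt : y * t * y⁻¹ ∈ T := (Subgroup.mem_normalizer_iff.mp (hST hyS) t).mp ht
    have hu : y * t * y⁻¹ * t⁻¹ ∈ C₀ := by
      refine Subgroup.mem_inf.mpr ⟨mul_mem hyt (inv_mem ht), Subgroup.mem_centralizer_iff.mpr fun w hw => ?_⟩
      refine (commutatorElement_eq_one_iff_mul_comm.mp ?_).symm
      refine exists_weight_sep hpq hρ (hT.to_le hDT) hDab (hcomTT _ (mul_mem hyt (inv_mem ht)) _ hw) fun χ hχ => ?_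
      rw [← pair_eq]
      exact hrad χ hχ t ht w hw
    have h1 := eq_one_of_fixed_displacement hpq hT hk (Subgroup.mem_inf.mp hu).1
      (Subgroup.mem_centralizer_iff.mp hyC₀ _ hu).symm (inv_mul_cancel_right (y * t * y⁻¹) t).symm
    rw [mul_inv_eq_one, mul_inv_eq_iff_eq_mul] at h1
    exact h1.symm
  -- the centraliser of the `p'`-core
  set M := Cfsg.pPrimeCore p H with hM
  have hMn : M.Normal := inferInstance
  have hMcop : (Nat.card M).Coprime p := CfsgLib.card_pPrimeCore_coprime p
  have hA : S ≤ Subgroup.normalizer (M : Set H) := by rw [Subgroup.normalizer_eq_top]; exact le_top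
  have hcop : (Nat.card S).Coprime (Nat.card M) := by
    obtain ⟨m, hm⟩ := IsPGroup.iff_card.mp hS
    rw [hm]; exact Nat.Coprime.pow_left m hMcop.symm
  have hyM : y ∈ Subgroup.centralizer (M : Set H) := by
    set L := M ⊓ Subgroup.centralizer {y} with hL
    have hLM : L = M := by
      refine Subgroup.eq_of_le_of_card_ge inf_le_left (Nat.le_of_dvd Nat.card_pos ?_)
      rw [Nat.dvd_iff_prime_pow_dvd_dvd]
      intro q m hq hd
      haveI := Fact.mk hq
      rcases Nat.eq_zero_or_pos m with rfl | hm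
      · simp
      have hqp : p ≠ q := fun e => by
        subst e
        exact hp.one_lt.ne' (Nat.eq_one_of_dvd_coprimes hMcop ((dvd_pow_self p hm.ne').trans hd) dvd_rfl)
      haveI : Group.IsNilpotent S := hS.isNilpotent
      obtain ⟨S, hS⟩ := coprime_exists_invariant_sylow hA hcop (Or.inl inferInstance) q
      have h1 := hmain q hq hqp ((S : Subgroup M).map M.subtype) (S.2.map M.subtype) hS
      have hle : (S : Subgroup M).map M.subtype ≤ L := fun s hs => Subgroup.mem_inf.mpr
        ⟨Subgroup.map_subtype_le _ hs, Subgroup.mem_centralizer_singleton_iff.mpr (Subgroup.mem_centralizer_iff.mp h1 s hs)⟩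
      refine Nat.dvd_trans ?_ (Subgroup.card_dvd_of_le hle)
      rw [Subgroup.card_map_of_injective M.subtype_injective, Sylow.card_eq_multiplicity]
      exact pow_dvd_pow q ((hq.pow_dvd_iff_le_factorization Nat.card_pos.ne').mp hd)
    refine Subgroup.mem_centralizer_iff.mpr fun m hm => ?_
    rw [← hLM] at hm
    exact Subgroup.mem_centralizer_singleton_iff.mp (Subgroup.mem_inf.mp hm).2
  have h1 := Offender.centralizer_pPrimeCore_le hsol hOp hyM
  have h9 : y = 1 := orderOf_eq_one_iff.mp (Nat.eq_one_of_dvd_coprimes (Nat.Coprime.pow_right k hMcop)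
    (Subgroup.orderOf_dvd_natCard M h1) (orderOf_dvd_of_pow_eq_one hk))
  rw [h9, orderOf_one] at hyo
  omega

theorem main {p : ℕ} [Fact p.Prime] (hp2 : p ≠ 2) : ∀ (d : ℕ) {G : Type a} [Group G] [Finite G],
    Cfsg.IsPSolvable p G → ∀ P : Sylow p G, derivedSeries ↥(P : Subgroup G) d = ⊥ → Cfsg.PLengthLE p d G := by
  have hp := (Fact.out : p.Prime)
  intro d
  induction d with
  | zero =>
    intro G _ _ hG P hd
    rw [derivedSeries_zero] at hd
    rw [PSeries.pLengthLE_zero_iff, eq_top_iff]
    refine CfsgLib.le_pPrimeCore ?_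
    rw [Subgroup.card_top]
    refine (hp.coprime_iff_not_dvd.mpr fun h => ?_).symm
    have h1 := P.card_eq_multiplicity
    rw [show Nat.card ↥(P : Subgroup G) = 1 by rw [← Subgroup.card_top (G := ↥(P : Subgroup G)), hd, Subgroup.card_bot]] at h1
    have := hp.factorization_pos_of_dvd Nat.card_pos.ne' h
    exact (Nat.one_lt_pow (by omega) hp.one_lt).ne h1
  | succ d ih =>
    intro G _ _ hG P hd
    classical
    set q₀ := QuotientGroup.mk' (Cfsg.pPrimeCore p G) with hq₀
    have hq₀s : Function.Surjective q₀ := QuotientGroup.mk'_surjective _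
    refine PSeries.pLengthLE_of_pPrime_kernel q₀ (by rw [QuotientGroup.ker_mk']; exact CfsgLib.card_pPrimeCore_coprime p) ?_
    set G₁ := G ⧸ Cfsg.pPrimeCore p G
    have hs₁ : Cfsg.IsPSolvable p G₁ := PSolvableClosure.of_surjective q₀ hq₀s hG
    have hO := CfsgLib.pPrimeCore_quotient_eq_bot (G := G) p
    set P₁ := P.mapSurjective hq₀s with hP₁
    have hd₁ : derivedSeries ↥(P₁ : Subgroup G₁) (d + 1) = ⊥ := by
      have e : (P₁ : Subgroup G₁) = (P : Subgroup G).map q₀ := Sylow.coe_mapSurjective hq₀s P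
      rw [e, ← map_derivedSeries_eq (q₀.subgroupMap_surjective (P : Subgroup G)), hd, Subgroup.map_bot]
    haveI := Blocks.pCore_normal' (G := G₁) (p := p)
    set P0 := Cfsg.pCore p G₁ with hP0
    set π₁ := QuotientGroup.mk' P0 with hπ₁
    have hπ₁s : Function.Surjective π₁ := QuotientGroup.mk'_surjective _
    refine PSeries.pLengthLE_of_pGroup_kernel π₁ (by rw [QuotientGroup.ker_mk']; exact CfsgLib.isPGroup_pCore p) ?_
    refine ih (PSolvableClosure.of_surjective π₁ hπ₁s hs₁) (P₁.mapSurjective hπ₁s) ?_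
    rw [Sylow.coe_mapSurjective, ← map_derivedSeries_eq (π₁.subgroupMap_surjective (P₁ : Subgroup G₁)), eq_bot_iff]
    -- the derived series inside the group
    let E : ℕ → Subgroup G₁ := fun i => (derivedSeries ↥(P₁ : Subgroup G₁) i).map (P₁ : Subgroup G₁).subtype
    have hEsucc : ∀ i, E (i + 1) = ⁅E i, E i⁆ := fun i => by
      simp only [E, derivedSeries_succ, Subgroup.map_commutator]
    have hE0 : E 0 = (P₁ : Subgroup G₁) := by
      simp only [E, derivedSeries_zero, ← MonoidHom.range_eq_map, Subgroup.range_subtype]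
    have hlast : ⁅E d, E d⁆ = ⊥ := by
      rw [← hEsucc]; simp only [E, hd₁, Subgroup.map_bot]
    have habel : ∀ g ∈ E d, ∀ w ∈ E d, g * w * g⁻¹ * w⁻¹ = 1 := fun g hg w hw => by
      rw [← commutatorElement_def, ← Subgroup.mem_bot, ← hlast]
      exact Subgroup.commutator_mem_commutator hg hw
    have hEP : ∀ i, E i ≤ (P₁ : Subgroup G₁) := fun i => Subgroup.map_subtype_le _
    have hEn : ∀ u ∈ (P₁ : Subgroup G₁), ∀ g ∈ E d, g * u * g⁻¹ * u⁻¹ ∈ E d := by
      rintro u hu _ ⟨g, hg, rfl⟩
      refine ⟨⁅g, ⟨u, hu⟩⁆, ?_, rfl⟩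
      rw [commutatorElement_def, mul_assoc g, mul_assoc g]
      exact mul_mem hg ((inferInstance : (derivedSeries ↥(P₁ : Subgroup G₁) d).Normal).conj_mem _ (inv_mem hg) _)
    obtain ⟨K, _, _, _, V, _, _, _, ρ, hker, hnt, hρ⟩ := exists_module hs₁ hO
    obtain ⟨ρ', hinj, hρ'⟩ := exists_quotient_action ρ hker
    rintro ⟨x, hx⟩ hxm
    rw [Subgroup.mem_bot]
    refine Subtype.ext ?_
    show x = 1
    obtain ⟨g₀, hg₀, hg₀x⟩ := hxm
    have hxE : x = π₁ (g₀ : G₁) := (congrArg Subtype.val hg₀x).symm
    have hgE : (g₀ : G₁) ∈ E d := ⟨g₀, hg₀, rfl⟩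
    by_contra hx1
    have hxp : ∃ k, x ^ p ^ k = 1 := by
      obtain ⟨k, hk⟩ := P₁.2 g₀
      exact ⟨k, by rw [hxE, ← map_pow, ← Subgroup.coe_pow, hk, Subgroup.coe_one, map_one]⟩
    obtain ⟨k, hk⟩ := hxp
    obtain ⟨n, -, hn⟩ := (Nat.dvd_prime_pow hp).mp (orderOf_dvd_of_pow_eq_one hk)
    have hn1 : 1 ≤ n := Nat.one_le_iff_ne_zero.mpr fun h => hx1 (orderOf_eq_one_iff.mp (by rw [hn, h, pow_zero]))
    set g := (g₀ : G₁) ^ p ^ (n - 1) with hg
    have hgEd : g ∈ E d := pow_mem hgE _
    have hgo : orderOf (π₁ g) = p := by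
      rw [hg, map_pow, ← hxE, orderOf_pow, hn, Nat.gcd_eq_right (pow_dvd_pow p (by omega)), Nat.pow_div (by omega) hp.pos,
        show n - (n - 1) = 1 by omega, pow_one]
    have hP0P : P0 ≤ (P₁ : Subgroup G₁) := CfsgLib.pCore_le_sylow P₁
    haveI : Nontrivial V := hnt fun h => by
      haveI := pCore_ne_bot hs₁ hO h
      rw [show g = 1 from Subsingleton.elim _ _, map_one, orderOf_one] at hgo
      exact hp.one_lt.ne hgo
    have hrelList : ∀ (l : List G₁), (∀ v ∈ P0, l.foldr (fun h w => h * w * h⁻¹ * w⁻¹) v = 1) →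
        (l.map fun h => ρ h - 1).prod = 0 := fun l h => by
      have := hρ l g 1 fun v hv => by
        rw [show (v * g) ^ 1 * (g ^ 1)⁻¹ = v by simp, h v hv]; exact one_mem _
      simpa using this
    have hquad : (ρ g - 1) ^ 2 = 0 := by
      have := hrelList [g, g] fun v hv => habel g hgEd _ (hEn v (hP0P hv) g hgEd)
      rw [pow_two]
      simpa using this
    rcases d with _ | m
    · have h0 := hrelList [g] fun v hv => habel g hgEd v (hE0.symm ▸ hP0P hv)
      simp only [List.map_cons, List.map_nil, List.prod_singleton, sub_eq_zero, ← hρ'] at h0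
      have h1 : π₁ g = 1 := hinj (h0.trans (map_one ρ').symm)
      rw [h1, orderOf_one] at hgo
      exact hp.one_lt.ne hgo
    have hp3 : p = 3 := by
      rw [← hρ'] at hquad
      rcases theorem_b (PSolvableClosure.of_surjective π₁ hπ₁s hs₁) (pCore_quotient_pCore G₁ p) ρ' hinj
        (n := 1) (x := π₁ g) (by rw [pow_one]; exact hgo) 2 hquad with h | ⟨n₀, q, m, h1, h1', -, -, -, -, h2⟩
      · rw [pow_one] at h; have := hp.two_le; omega
      · obtain rfl : n₀ = 1 := by omega
        rw [Nat.sub_self, pow_zero, one_mul, pow_one] at h2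
        have := hp.two_le; omega
    refine key hp3 (PSolvableClosure.of_surjective π₁ hπ₁s hs₁) (pCore_quotient_pCore G₁ p) ρ' hinj
      ((P₁ : Subgroup G₁).map π₁) (P₁.2.map π₁) (fun i => (E i).map π₁) (fun i => Subgroup.map_mono (hEP i))
      (fun i => by simp only [hEsucc, Subgroup.map_commutator]) m (Subgroup.mem_map_of_mem π₁ hgEd) hgo
      (by rw [show ρ' (π₁ g) = ρ g from hρ' g]; exact hquad) fun s hs => ?_
    choose t ht ht' using hs
    have hfold : ∀ k, ∀ v ∈ P0, (Ls t k).foldr (fun h w => h * w * h⁻¹ * w⁻¹) v ∈ E k := by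
      intro k
      induction k with
      | zero => intro v hv; rw [hE0]; exact hP0P hv
      | succ k ihk =>
        intro v hv
        rw [hEsucc, Ls, List.foldr_cons, ← commutatorElement_def]
        exact Subgroup.commutator_mem_commutator (ht k) (ihk v hv)
    have h0 := hrelList (g :: Ls t (m + 1)) fun v hv => habel g hgEd _ (hfold (m + 1) v hv)
    rw [List.map_cons, List.prod_cons, prod_Ls] at h0
    have hMk : ∀ k, Mk ρ' s k = Mk ρ t k := fun k => by
      induction k with
      | zero => rfl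
      | succ k ihk => rw [Mk, Mk, ihk, ← ht' k, show ρ' (π₁ (t k)) = ρ (t k) from hρ' (t k)]
    rw [hMk, show ρ' (π₁ g) = ρ g from hρ' g]
    exact h0

end Aux

/-- Let p be an odd prime and G a finite p-soluble group whose Sylow p-subgroups have derived length at most d. Then G has p-length at most d. -/
theorem result {G : Type*} [Group G] [Finite G] {p : ℕ} [Fact p.Prime] (hp : p ≠ 2) (hG : Cfsg.IsPSolvable p G) (d : ℕ) (hd : ∀ P : Sylow p G, derivedSeries ↥(P : Subgroup G) d = ⊥) : Cfsg.PLengthLE p d G := by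
  exact Aux.main hp d hG (default : Sylow p G) (hd _)

end Cfsg.Agent.S3789
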