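import Cfsg.Statements.S3796
import Mathlib
import Cfsg.Agent.S0033
import Cfsg.Agent.Lib.FittingHeight.Reduction
import Cfsg.Agent.Lib.Solvable.Schmidt
-- import your own Cfsg.Agent.* helpers here

set_option autoImplicit false
open Cfsg

namespace Cfsg.Agent.S3796

open CfsgLib.FittingHeight
open scoped IsMulCommutative

/-- The centraliser of a non-identity element is nilpotent. -/
theorem nilpotent_centralizer {Γ : Type*} [Group Γ] [Finite Γ] {p : ℕ} (hp : p.Prime) (A G : Subgroup Γ)
    [IsMulCommutative A] (hAc : Nat.card A = p ^ 2) (hAp : ∀ a ∈ A, a ^ p = 1) (hGn : G.Normal)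
    (hfpf : ∀ g ∈ G, (∀ a ∈ A, a * g = g * a) → g = 1) {a : Γ} (ha : a ∈ A) (ha1 : a ≠ 1) :
    Group.IsNilpotent (G ⊓ Subgroup.centralizer ({a} : Set Γ) : Subgroup Γ) := by
  classical
  have := Fact.mk hp
  obtain ⟨b, hb, hba⟩ : ∃ b ∈ A, b ∉ Subgroup.zpowers a := by
    refine SetLike.not_le_iff_exists.mp fun h => ?_
    have h1 := Subgroup.card_le_of_le h
    rw [Nat.card_zpowers, orderOf_eq_prime (hAp a ha) ha1, hAc, pow_two] at h1
    have h2 := Nat.mul_le_mul_left p hp.two_le
    have := hp.pos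
    omega
  have hgen : Subgroup.closure {a, b} = A := by
    have hle : Subgroup.closure {a, b} ≤ A := (Subgroup.closure_le A).mpr (by simp [Set.insert_subset_iff, ha, hb])
    refine Subgroup.eq_of_le_of_card_ge hle ?_
    have hlt : Subgroup.zpowers a < Subgroup.closure {a, b} :=
      lt_of_le_of_ne (Subgroup.zpowers_le.mpr (Subgroup.subset_closure (by simp)))
        fun h => hba (h ▸ Subgroup.subset_closure (by simp))
    have h1 := Subgroup.card_dvd_of_le hle
    rw [hAc] at h1 ⊢
    obtain ⟨i, hi, hi'⟩ := (Nat.dvd_prime_pow hp).mp h1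
    rw [hi']
    refine Nat.pow_le_pow_right hp.pos ?_
    by_contra hcon
    have h2 : Nat.card (Subgroup.closure {a, b}) ≤ p := by
      rw [hi']
      exact (Nat.pow_le_pow_right hp.pos (show i ≤ 1 by omega)).trans_eq (pow_one p)
    exact hlt.ne (Subgroup.eq_of_le_of_card_ge hlt.le (by rw [Nat.card_zpowers, orderOf_eq_prime (hAp a ha) ha1]; exact h2))
  set K := G ⊓ Subgroup.centralizer ({a} : Set Γ)
  have key : ∀ c ∈ A, ∀ x ∈ K, c * x * c⁻¹ ∈ K := fun c hc x hx =>
    conj_mem (inf_centralizer_elem_normalized (A := A) (fun d _ => by rw [Subgroup.normalizer_eq_top_iff.mpr hGn]; trivial)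
      (fun d hd => congrArg Subtype.val (mul_comm' (⟨d, hd⟩ : A) ⟨a, ha⟩)) hc) hx
  let φ : K ≃* K :=
    { toFun := fun x => ⟨b * x * b⁻¹, key b hb x x.2⟩
      invFun := fun x => ⟨b⁻¹ * x * b, by simpa using key b⁻¹ (A.inv_mem hb) x x.2⟩
      left_inv := fun x => Subtype.ext (by simp [mul_assoc])
      right_inv := fun x => Subtype.ext (by simp [mul_assoc])
      map_mul' := fun x y => Subtype.ext (by simp [mul_assoc]) }
  have hfix : ∀ x : K, φ x = x → x = 1 := fun x hx => Subtype.ext (hfpf x x.2.1 fun c hc => by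
    have h1 : b * (x : Γ) = x * b := mul_inv_eq_iff_eq_mul.mp (congrArg Subtype.val hx)
    have h2 : a * (x : Γ) = x * a := (Subgroup.mem_centralizer_singleton_iff.mp x.2.2).symm
    have hle : Subgroup.closure {a, b} ≤ Subgroup.centralizer ({(x : Γ)} : Set Γ) :=
      (Subgroup.closure_le _).mpr (by simp [Set.insert_subset_iff, Subgroup.mem_centralizer_singleton_iff, h1, h2])
    exact Subgroup.mem_centralizer_singleton_iff.mp (hle (hgen.ge hc)))
  by_cases hφ1 : φ = 1
  · have : Subsingleton K := ⟨fun x y => by rw [hfix x (by rw [hφ1]; rfl), hfix y (by rw [hφ1]; rfl)]⟩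
    infer_instance
  · have hpow : ∀ (n : ℕ) (x : K), (((φ : MulAut K) ^ n) x : Γ) = b ^ n * x * (b ^ n)⁻¹ := by
      intro n x
      induction n with
      | zero => simp
      | succ n ih =>
        rw [pow_succ', MulAut.mul_apply]
        show b * (((φ : MulAut K) ^ n) x : Γ) * b⁻¹ = _
        rw [ih, pow_succ']; group
    have hord : orderOf (φ : MulAut K) = p :=
      orderOf_eq_prime (MulEquiv.ext fun x => Subtype.ext (by rw [hpow, hAp b hb]; simp)) hφ1
    exact Cfsg.Agent.S0033.result φ hfix p hp hord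

/-- Ward's Theorem: let G be a finite solvable group and A an elementary abelian group of automorphisms of G of order p² (p a prime) with no non-identity common fixed point. Then G has Fitting height at most 2: G has Fitting height at most m when there is a chain of normal subgroups 1 = F₀ ≤ F₁ ≤ ⋯ ≤ F_m = G with each F_{i+1}/F_i nilpotent. -/
theorem result {G : Type*} [Group G] [Finite G] (hG : Group.IsSolvable G) {p : ℕ} (hp : p.Prime) (A : Subgroup (MulAut G)) (hA : Cfsg.IsElementaryAbelian p A) (hcard : Nat.card A = p ^ 2) (hfpf : ∀ g : G, (∀ a ∈ A, a g = g) → g = 1) : ∃ F : Fin (2 + 1) → Subgroup G, F 0 = ⊥ ∧ F (Fin.last 2) = ⊤ ∧ Monotone F ∧ (∀ i, (F i).Normal) ∧ ∀ i : Fin 2, ∃ k : ℕ, (F i.succ).lowerCentralSeries k ≤ F i.castSucc := by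
  classical
  obtain ⟨hAcomm, hAexp⟩ := hA
  have := hAcomm
  have := Fact.mk hp
  let Γ := G ⋊[A.subtype] A
  have : Finite Γ := Finite.of_equiv _ SemidirectProduct.equivProd.symm
  let ι : A →* Γ := SemidirectProduct.inr
  let G' : Subgroup Γ := (SemidirectProduct.inl : G →* Γ).range
  have hGn : G'.Normal := by
    rw [show G' = (SemidirectProduct.rightHom : Γ →* A).ker from SemidirectProduct.range_inl_eq_ker_rightHom]
    infer_instance
  have hGA : G' ⊔ ι.range = ⊤ := by
    rw [eq_top_iff]
    intro x _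
    rw [← SemidirectProduct.inl_left_mul_inr_right x]
    exact mul_mem (Subgroup.mem_sup_left ⟨_, rfl⟩) (Subgroup.mem_sup_right ⟨_, rfl⟩)
  have hGc : Nat.card G' = Nat.card G :=
    (Nat.card_congr (MonoidHom.ofInjective SemidirectProduct.inl_injective).toEquiv).symm
  have hGs : Group.IsSolvable G' := by
    have := hG
    exact Group.isSolvable_of_surjective (f := (SemidirectProduct.inl : G →* Γ).rangeRestrict) (MonoidHom.rangeRestrict_surjective _)
  have hfpf' : ∀ g ∈ G', (∀ a, ι a * g = g * ι a) → g = 1 := by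
    rintro _ ⟨g, rfl⟩ h
    rw [hfpf g fun a ha => ?_, map_one]
    have h1 := congrArg (fun x : G ⋊[A.subtype] A => x.left) (h ⟨a, ha⟩)
    change (SemidirectProduct.inr ⟨a, ha⟩ * SemidirectProduct.inl g : G ⋊[A.subtype] A).left =
      (SemidirectProduct.inl g * SemidirectProduct.inr ⟨a, ha⟩ : G ⋊[A.subtype] A).left at h1
    simpa using h1
  -- the order of `G` is prime to `p`
  have hcop : (Nat.card A).Coprime (Nat.card G') := by
    rw [hGc, hcard]
    refine Nat.Coprime.pow_left 2 (hp.coprime_iff_not_dvd.mpr fun hd => ?_)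
    have hpA : IsPGroup p A := IsPGroup.of_card hcard
    obtain ⟨P, hP⟩ : ∃ P : Sylow p G, ∀ a : A, (a : MulAut G) • P = P := by
      have hmod : ¬ p ∣ Nat.card (Sylow p G) := fun h => by
        have h1 := card_sylow_modEq_one p G
        rw [Nat.ModEq, Nat.mod_eq_zero_of_dvd h, Nat.mod_eq_of_lt hp.one_lt] at h1
        omega
      obtain ⟨P, hP⟩ := hpA.nonempty_fixed_point_of_prime_not_dvd_card (Sylow p G) hmod
      exact ⟨P, fun a => hP a⟩
    have hmem : ∀ (a : A) (x : G), x ∈ (P : Subgroup G) → (a : MulAut G) x ∈ (P : Subgroup G) := by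
      intro a x hx
      have h1 : (a : MulAut G) x ∈ (((a : MulAut G) • P : Sylow p G) : Subgroup G) := ⟨x, hx, rfl⟩
      rwa [hP a] at h1
    letI : MulAction A (P : Subgroup G) :=
      { smul := fun a x => ⟨(a : MulAut G) x, hmem a x x.2⟩
        one_smul := fun x => rfl
        mul_smul := fun a b x => rfl }
    have h1fix : (1 : (P : Subgroup G)) ∈ MulAction.fixedPoints A (P : Subgroup G) := fun a =>
      Subtype.ext (map_one (a : MulAut G))
    obtain ⟨x, hx, hx1⟩ := hpA.exists_fixed_point_of_prime_dvd_card_of_fixed_point _ (P.dvd_card_of_dvd_card hd) h1fix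
    exact hx1.symm (Subtype.ext (hfpf x fun a ha => congrArg Subtype.val (hx ⟨a, ha⟩)))
  have key := heightTwo_of_config A (fun Γ _ _ ι G V Q S r hι hGn hGs hcop hfpf hc => ?_)
    (Nat.card Γ) Γ ι G' rfl SemidirectProduct.inr_injective hGn hGA hGs hcop hfpf'
  · obtain ⟨k, m, hkm⟩ := key
    set H := (⊤ : Subgroup G).lowerCentralSeries k with hH
    have hmap : G'.lowerCentralSeries k = H.map (SemidirectProduct.inl : G →* Γ) := by
      rw [hH, Subgroup.map_lowerCentralSeries, ← MonoidHom.range_eq_map]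
    rw [hmap, ← Subgroup.map_lowerCentralSeries, Subgroup.map_eq_bot_iff] at hkm
    have hbot : H.lowerCentralSeries m = ⊥ := le_bot_iff.mp (hkm.trans_eq
      ((MonoidHom.ker_eq_bot_iff _).mpr SemidirectProduct.inl_injective))
    refine ⟨![⊥, H, ⊤], rfl, rfl, ?_, ?_, ?_⟩
    · refine Fin.monotone_iff_le_succ.mpr fun i => ?_
      fin_cases i
      · exact bot_le
      · exact le_top
    · intro i
      fin_cases i
      · exact (inferInstance : (⊥ : Subgroup G).Normal)
      · exact normal_lcs ⊤ k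
      · exact (inferInstance : (⊤ : Subgroup G).Normal)
    · intro i
      fin_cases i
      · exact ⟨m, hbot.le⟩
      · exact ⟨k, le_rfl⟩
  · have hAc : Nat.card ι.range = p ^ 2 := by
      rw [← Nat.card_congr (MonoidHom.ofInjective hι).toEquiv, hcard]
    have : IsMulCommutative ι.range := ⟨⟨fun x y => Subtype.ext (by
      obtain ⟨a, ha⟩ := x.2
      obtain ⟨b, hb⟩ := y.2
      show (x : Γ) * y = y * x
      rw [← ha, ← hb, ← map_mul, ← map_mul, mul_comm' a b])⟩⟩
    have hAp : ∀ a ∈ ι.range, a ^ p = 1 := by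
      rintro _ ⟨a, rfl⟩
      rw [← map_pow, show a ^ p = 1 from Subtype.ext (by simpa using hAexp a a.2), map_one]
    have hfpf2 : ∀ g ∈ G, (∀ a ∈ ι.range, a * g = g * a) → g = 1 := fun g hg h => hfpf g hg fun a => h _ ⟨a, rfl⟩
    have hcopA : ∀ K ≤ G, (Nat.card ι.range).Coprime (Nat.card K) := fun K hK => by
      rw [← Nat.card_congr (MonoidHom.ofInjective hι).toEquiv]
      exact hcop.coprime_dvd_right (Subgroup.card_dvd_of_le hK)
    have hV := hc.vNormal
    have : IsMulCommutative V := ⟨⟨fun x y => Subtype.ext (hc.vComm x x.2 y y.2)⟩⟩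
    letI : DistribMulAction Γ (Additive V) :=
      { smul := fun g v => Additive.ofMul (MulAut.conjNormal g v.toMul)
        one_smul := fun v => by
          show Additive.ofMul ((MulAut.conjNormal (1 : Γ) : MulAut V) v.toMul) = v
          rw [map_one]; rfl
        mul_smul := fun g h v => by
          show Additive.ofMul ((MulAut.conjNormal (g * h) : MulAut V) v.toMul) = _
          rw [map_mul]; rfl
        smul_zero := fun g => congrArg Additive.ofMul (map_one _)
        smul_add := fun g v w => congrArg Additive.ofMul (map_mul _ _ _) }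
    have hval : ∀ (g : Γ) (v : Additive V), (((g • v : Additive V).toMul : V) : Γ) = g * (v.toMul : V) * g⁻¹ :=
      fun g v => MulAut.conjNormal_apply g _
    have hfixv : ∀ (g : Γ) (v : Additive V), g • v = v ↔ g * ((v.toMul : V) : Γ) = ((v.toMul : V) : Γ) * g := by
      intro g v
      rw [← mul_inv_eq_iff_eq_mul, ← hval g v]
      exact ⟨fun h => by rw [h], fun h => Additive.toMul.injective (Subtype.ext h)⟩
    have hMc : Nat.card (Additive V) = Nat.card V := Nat.card_congr Additive.toMul
    have hnil := fun {a : Γ} (ha : a ∈ ι.range) (ha1 : a ≠ 1) => nilpotent_centralizer hp ι.range G hAc hAp hGn hfpf2 ha ha1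
    have hcomm : ∀ {a : Γ}, a ∈ ι.range → a ≠ 1 → ∀ x ∈ G, a * x = x * a → ∀ y ∈ G, a * y = y * a →
        (orderOf x).Coprime (orderOf y) → x * y = y * x := fun {a} ha ha1 x hx hax y hy hay hco =>
      CfsgLib.Schmidt.nilpotent_commute (hnil ha ha1) ⟨hx, Subgroup.mem_centralizer_singleton_iff.mpr hax.symm⟩
        ⟨hy, Subgroup.mem_centralizer_singleton_iff.mpr hay.symm⟩ hco
    exact ward_core (M := Additive V) (p := p) hp hc.rprime hc.qGroup hAc hAp (by rw [hMc]; exact hc.qCoprimeV)
      hc.sCoprimeQ (hcopA Q hc.qle) (hcopA S hc.sle) hc.sQ hc.aQ hc.aS hc.notCent hc.sMin hc.qMin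
      (fun x hx h => hc.faithful x hx fun y hy => (hfixv x (Additive.ofMul ⟨y, hy⟩)).mp (h _))
      (fun x hx h => hfpf2 x (hc.qle hx) h) (fun s hs h => hfpf2 s (hc.sle hs) h)
      (fun a ha ha1 x hx hax v hv => (hfixv x v).mpr
        (hcomm ha ha1 x (hc.qle hx) hax _ (hc.vle (v.toMul : V).2) ((hfixv a v).mp hv)
          ((hc.qCoprimeV.coprime_dvd_left (Q.orderOf_dvd_natCard hx)).coprime_dvd_right (V.orderOf_dvd_natCard (v.toMul : V).2))))
      (fun a ha ha1 s hs has x hx hax => hcomm ha ha1 s (hc.sle hs) has x (hc.qle hx) hax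
        ((hc.sCoprimeQ.coprime_dvd_left (S.orderOf_dvd_natCard hs)).coprime_dvd_right (Q.orderOf_dvd_natCard hx)))

end Cfsg.Agent.S3796
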