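import Cfsg.Statements.S3797
import Mathlib
import Cfsg.Agent.Lib.OneInvClass.Thompson
import Cfsg.Agent.Lib.OddLocal.CommutatorPLength
import Cfsg.Agent.Lib.OddLocal.PLengthOne
-- import your own Cfsg.Agent.* helpers here

set_option autoImplicit false
open Cfsg

namespace Cfsg.Agent.S3797

theorem homocyclic_of_transitive {S : Type*} [Group S] [Finite S] (hS : IsPGroup 2 S)
    (hcomm : ∀ a b : S, a * b = b * a) (hne : ∃ x : S, x ≠ 1)
    (htr : ∀ x y : S, x ≠ 1 → x ^ 2 = 1 → y ≠ 1 → y ^ 2 = 1 → ∃ φ : S ≃* S, φ x = y) :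
    ∃ m r : ℕ, Nonempty (S ≃* (Fin r → Multiplicative (ZMod (2 ^ m)))) := by
  classical
  letI : CommGroup S := { (inferInstance : Group S) with mul_comm := hcomm }
  obtain ⟨ι, hι, n, hn1, ⟨e⟩⟩ := CommGroup.equiv_prod_multiplicative_zmod_of_finite S
  obtain ⟨k, hk⟩ := hS.exists_card_eq
  let gen : (i : ι) → ((j : ι) → Multiplicative (ZMod (n j))) := fun i =>
    Pi.mulSingle i (Multiplicative.ofAdd 1)
  have hex : ∀ i, ∃ a, 1 ≤ a ∧ n i = 2 ^ a := fun i => by
    have h1 : orderOf (gen i) = n i := by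
      rw [orderOf_piMulSingle, orderOf_ofAdd_eq_addOrderOf, ZMod.addOrderOf_one]
    have h2 : orderOf (gen i) ∣ 2 ^ k := by
      rw [← hk, Nat.card_congr e.toEquiv]; exact orderOf_dvd_natCard _
    rw [h1, Nat.dvd_prime_pow Nat.prime_two] at h2
    obtain ⟨a, -, ha⟩ := h2
    refine ⟨a, ?_, ha⟩
    have := hn1 i
    rcases Nat.eq_zero_or_pos a with rfl | h
    · rw [ha] at this; norm_num at this
    · exact h
  choose a ha hna using hex
  have hle : ∀ i j, a i ≤ a j := by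
    intro i j
    by_contra hlt
    push Not at hlt
    let inv : (i : ι) → ((l : ι) → Multiplicative (ZMod (n l))) := fun i => gen i ^ 2 ^ (a i - 1)
    have hinv1 : ∀ i, inv i ≠ 1 := fun i h => by
      have h1 := orderOf_dvd_of_pow_eq_one h
      rw [orderOf_piMulSingle, orderOf_ofAdd_eq_addOrderOf, ZMod.addOrderOf_one, hna i,
        Nat.pow_dvd_pow_iff_le_right (le_refl 2)] at h1
      have := ha i
      omega
    have hinv2 : ∀ i, inv i ^ 2 = 1 := fun i => by
      show (gen i ^ 2 ^ (a i - 1)) ^ 2 = 1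
      rw [← pow_mul, ← pow_succ, show a i - 1 + 1 = a i by have := ha i; omega, ← orderOf_dvd_iff_pow_eq_one,
        orderOf_piMulSingle, orderOf_ofAdd_eq_addOrderOf, ZMod.addOrderOf_one, hna i]
    obtain ⟨φ, hφ⟩ := htr (e.symm (inv i)) (e.symm (inv j))
      (fun h => hinv1 i (e.symm.map_eq_one_iff.mp h)) (by rw [← map_pow, hinv2, map_one])
      (fun h => hinv1 j (e.symm.map_eq_one_iff.mp h)) (by rw [← map_pow, hinv2, map_one])
    apply hinv1 j
    have h1 : inv j = e (φ (e.symm (gen i))) ^ 2 ^ (a i - 1) := by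
      rw [← map_pow, ← map_pow, ← map_pow]
      exact (e.apply_symm_apply _).symm.trans (congrArg e hφ.symm)
    funext l
    by_cases hl : l = j
    · subst hl
      rw [h1, Pi.pow_apply, Pi.one_apply]
      obtain ⟨d, hd⟩ : ∃ d, a i - 1 = a l + d := ⟨a i - 1 - a l, by omega⟩
      rw [hd, pow_add, pow_mul]
      generalize e (φ (e.symm (gen i))) l = y
      have hy : y ^ 2 ^ a l = 1 := by
        rw [← hna l]
        refine Multiplicative.toAdd.injective ?_
        rw [toAdd_pow, toAdd_one, nsmul_eq_mul, ZMod.natCast_self, zero_mul]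
      rw [hy, one_pow]
    · show (gen j ^ 2 ^ (a j - 1)) l = 1
      rw [Pi.pow_apply]
      show (Pi.mulSingle j (Multiplicative.ofAdd 1) : (l : ι) → Multiplicative (ZMod (n l))) l ^ _ = 1
      rw [Pi.mulSingle_eq_of_ne hl, one_pow]
  obtain ⟨x, hx⟩ := hne
  obtain ⟨i₀⟩ : Nonempty ι := by
    by_contra h
    rw [not_nonempty_iff] at h
    exact hx (e.injective (Subsingleton.elim _ _))
  have heq : ∀ i, n i = 2 ^ a i₀ := fun i => by rw [hna i, le_antisymm (hle i i₀) (hle i₀ i)]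
  exact ⟨a i₀, Fintype.card ι, ⟨e.trans
    ((MulEquiv.piCongrRight fun i => (ZMod.ringEquivCongr (heq i)).toAddEquiv.toMultiplicative).trans
      (MulEquiv.arrowCongr (Fintype.equivFin ι) (MulEquiv.refl _)))⟩⟩

/-- Let G be a finite solvable group of even order whose Sylow 2-subgroups contain more than one involution, and suppose all involutions of G are conjugate. Then G has 2-length at most 1, and a Sylow 2-subgroup S of G is either homocyclic (a direct product of cyclic groups of one common order) or a non-abelian 2-group with more than one involution admitting a solvable group of automorphisms transitive on its involutions. -/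
theorem result {G : Type*} [Group G] [Finite G] (hG : Group.IsSolvable G) (heven : Even (Nat.card G)) (S : Sylow 2 G) (htwo : ∃ x y : G, x ∈ (S : Subgroup G) ∧ y ∈ (S : Subgroup G) ∧ x ≠ y ∧ x ≠ 1 ∧ x ^ 2 = 1 ∧ y ≠ 1 ∧ y ^ 2 = 1) (hconj : ∀ x y : G, x ≠ 1 → x ^ 2 = 1 → y ≠ 1 → y ^ 2 = 1 → IsConj x y) : Cfsg.PLengthLE 2 1 G ∧ ((∃ m r : ℕ, Nonempty (↥(S : Subgroup G) ≃* (Fin r → Multiplicative (ZMod (2 ^ m))))) ∨ (¬ IsMulCommutative (S : Subgroup G) ∧ ∃ Y : Subgroup (MulAut ↥(S : Subgroup G)), Group.IsSolvable Y ∧ ∀ x y : ↥(S : Subgroup G), x ≠ 1 → x ^ 2 = 1 → y ≠ 1 → y ^ 2 = 1 → ∃ a ∈ Y, a x = y)) := by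
  classical
  haveI := hG
  haveI : Fact (Nat.Prime 2) := ⟨Nat.prime_two⟩
  obtain ⟨x0, y0, hx0S, hy0S, hxy0, hx01, hx02, hy01, hy02⟩ := htwo
  set K := pPrimeCore 2 G with hK
  have hdis : ∀ g : G, g ∈ (S : Subgroup G) → g ∈ K → g = 1 := fun g h1 h2 =>
    Subgroup.disjoint_def.mp (CfsgLib.PLengthOne.disjoint_core S.2) h1 h2
  haveI : Group.IsSolvable (G ⧸ K) :=
    Group.isSolvable_of_surjective (f := QuotientGroup.mk' K) (QuotientGroup.mk'_surjective K)
  have hKodd : Odd (Nat.card K) := Nat.coprime_two_right.mp (CfsgLib.card_pPrimeCore_coprime 2)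
  set π := QuotientGroup.mk' K with hπ
  have hlift : ∀ q : G ⧸ K, q ≠ 1 → q ^ 2 = 1 → ∃ g : G, g ≠ 1 ∧ g ^ 2 = 1 ∧ π g = q := by
    intro q hq1 hq2
    obtain ⟨g, rfl⟩ := QuotientGroup.mk'_surjective K q
    have hg2 : g ^ 2 ∈ K := by rw [← QuotientGroup.eq_one_iff]; exact hq2
    have h1 : π (g ^ Nat.card K) = π g := by
      obtain ⟨j, hj⟩ := hKodd
      rw [map_pow, hj, pow_succ, pow_mul, hq2, one_pow, one_mul]
    refine ⟨g ^ Nat.card K, fun h => hq1 (by rw [← h1, h, map_one]), ?_, h1⟩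
    rw [← pow_mul, mul_comm, pow_mul]
    exact congrArg Subtype.val (pow_card_eq_one' (x := (⟨g ^ 2, hg2⟩ : K)))
  have hconjQ : ∀ x y : G ⧸ K, x ≠ 1 → x ^ 2 = 1 → y ≠ 1 → y ^ 2 = 1 → IsConj x y := by
    intro x y hx1 hx2 hy1 hy2
    obtain ⟨g, hg1, hg2, rfl⟩ := hlift x hx1 hx2
    obtain ⟨k, hk1, hk2, rfl⟩ := hlift y hy1 hy2
    exact π.map_isConj (hconj g k hg1 hg2 hk1 hk2)
  have hQtwo : ∃ x y : G ⧸ K, x ≠ y ∧ x ≠ 1 ∧ x ^ 2 = 1 ∧ y ≠ 1 ∧ y ^ 2 = 1 := by
    have hne : ∀ g ∈ (S : Subgroup G), g ≠ 1 → π g ≠ 1 := fun g hg h1 h => h1 (hdis g hg ((QuotientGroup.eq_one_iff g).mp h))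
    refine ⟨π x0, π y0, fun h => ?_, hne x0 hx0S hx01, by rw [← map_pow, hx02, map_one], hne y0 hy0S hy01,
      by rw [← map_pow, hy02, map_one]⟩
    refine hne (x0⁻¹ * y0) (mul_mem (inv_mem hx0S) hy0S) (fun h' => hxy0 (inv_mul_eq_one.mp h')) ?_
    rw [map_mul, map_inv, h, inv_mul_cancel]
  let S' : Sylow 2 (G ⧸ K) := S.mapSurjective (QuotientGroup.mk'_surjective K)
  have hS' := CfsgLib.OneInvClass.sylow_eq_pCore (CfsgLib.pPrimeCore_quotient_eq_bot 2) S' hconjQ hQtwo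
  have hnorm : ((S : Subgroup G) ⊔ K).Normal := by
    have h1 : ((S : Subgroup G) ⊔ K) = ((S : Subgroup G).map π).comap π := by
      rw [Subgroup.comap_map_eq, hπ, QuotientGroup.ker_mk']
    haveI : ((S : Subgroup G).map π).Normal := by
      rw [show (S : Subgroup G).map π = pCore 2 (G ⧸ K) from hS']; infer_instance
    rw [h1]; exact Subgroup.normal_comap π
  have hlen : Cfsg.PLengthLE 2 1 G := CfsgLib.CommPLength.pLengthLE_of_sup_normal S.2 S.not_dvd_index
    (CfsgLib.card_pPrimeCore_coprime 2) hnorm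
  refine ⟨hlen, ?_⟩
  -- transitivity of the normaliser on involutions
  have htr : ∀ x y : (S : Subgroup G), x ≠ 1 → x ^ 2 = 1 → y ≠ 1 → y ^ 2 = 1 →
      ∃ n : Subgroup.normalizer ((S : Subgroup G) : Set G), Subgroup.normalizerMonoidHom (S : Subgroup G) n x = y := by
    intro x y hx1 hx2 hy1 hy2
    obtain ⟨g, hg⟩ := isConj_iff.mp (hconj (x : G) y (fun h => hx1 (Subtype.ext h))
      (congrArg Subtype.val hx2) (fun h => hy1 (Subtype.ext h)) (congrArg Subtype.val hy2))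
    obtain ⟨n, hn, o, ho, rfl⟩ := CfsgLib.PLengthOne.exists_normalizer_mul hlen S g
    refine ⟨⟨n, hn⟩, Subtype.ext ?_⟩
    show n * (x : G) * n⁻¹ = y
    have hS2 : o * (x : G) * o⁻¹ ∈ (S : Subgroup G) := by
      rw [show o * (x : G) * o⁻¹ = n⁻¹ * ((n * o) * x * (n * o)⁻¹) * n by group, hg]
      simpa using (Subgroup.mem_normalizer_iff.mp (inv_mem hn) (y : G)).mp y.2
    have h1 : (x : G)⁻¹ * (o * x * o⁻¹) = 1 := by
      refine hdis _ (mul_mem (inv_mem x.2) hS2) ?_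
      rw [show (x : G)⁻¹ * (o * x * o⁻¹) = ((x : G)⁻¹ * o * x) * o⁻¹ by group]
      exact mul_mem (by simpa using (inferInstance : K.Normal).conj_mem o ho (x : G)⁻¹) (inv_mem ho)
    rw [inv_mul_eq_one] at h1
    rw [← hg, show n * o * (x : G) * (n * o)⁻¹ = n * (o * x * o⁻¹) * n⁻¹ by group, ← h1]
  by_cases hab : IsMulCommutative (S : Subgroup G)
  · left
    refine Agent.S3797.homocyclic_of_transitive S.2 (fun a b => hab.is_comm.comm a b)
      ⟨⟨x0, hx0S⟩, fun h => hx01 (congrArg Subtype.val h)⟩ (fun x y hx1 hx2 hy1 hy2 => ?_)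
    obtain ⟨n, hn⟩ := htr x y hx1 hx2 hy1 hy2
    exact ⟨_, hn⟩
  · right
    refine ⟨hab, (Subgroup.normalizerMonoidHom (S : Subgroup G)).range, ?_, fun x y hx1 hx2 hy1 hy2 => ?_⟩
    · haveI : Group.IsSolvable (Subgroup.normalizer ((S : Subgroup G) : Set G)) :=
        Group.isSolvable_of_isSolvable_injective (f := Subgroup.subtype _) (Subgroup.subtype_injective _)
      exact Group.isSolvable_of_surjective (f := (Subgroup.normalizerMonoidHom (S : Subgroup G)).rangeRestrict)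
        (MonoidHom.rangeRestrict_surjective _)
    obtain ⟨n, hn⟩ := htr x y hx1 hx2 hy1 hy2
    exact ⟨_, ⟨n, rfl⟩, hn⟩

end Cfsg.Agent.S3797
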