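import Cfsg.Statements.S3798
import Mathlib
import Cfsg.Agent.Lib.PSeries
import Cfsg.Agent.Lib.CentralizeOmega
import Cfsg.Agent.Lib.Blocks.HallHigman
import Cfsg.Agent.Lib.Local
import Cfsg.Agent.S0001
import Cfsg.Agent.S3744
-- import your own Cfsg.Agent.* helpers here

set_option autoImplicit false
open Cfsg

namespace Cfsg.Agent.S3798

namespace Aux

open Cfsg CfsgLib

universe u

variable {p : ℕ} [Fact p.Prime]

theorem core_case {G : Type u} [Group G] [Finite G] (hp : p ≠ 2) (hs : IsPSolvable p G)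
    (hO : pPrimeCore p G = ⊥) (hdvd : p ∣ Nat.card G)
    (htr : ∀ x y : G, orderOf x = p → orderOf y = p → ∃ a : MulAut G, y ∈ Subgroup.zpowers (a x)) :
    PLengthLE p 1 G := by
  have hpp := (Fact.out : p.Prime)
  haveI : (pCore p G).Normal := inferInstance
  set P0 := pCore p G with hP0
  have hP0p : IsPGroup p P0 := isPGroup_pCore p
  have hHH : Subgroup.centralizer (P0 : Set G) ≤ P0 := CfsgLib.Blocks.hall_higman hs hO
  have hP01 : P0 ≠ ⊥ := fun e => by
    have h1 : (⊤ : Subgroup G) ≤ ⊥ := by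
      refine le_trans (fun x _ => ?_) (hHH.trans e.le)
      intro y hy
      rw [e, SetLike.mem_coe, Subgroup.mem_bot] at hy
      simp [hy]
    rw [← Subgroup.card_top, le_bot_iff.1 h1, Subgroup.card_bot] at hdvd
    exact hpp.one_lt.ne' (Nat.dvd_one.1 hdvd)
  have hP0a : ∀ a : MulAut G, P0.map a.toMonoidHom = P0 := fun a => pCore_map_equiv p a
  have hZ : ∀ y : G, orderOf y = p → y ∈ P0 ∧ ∀ w ∈ P0, y * w = w * y := by
    haveI : Nontrivial P0 := (Subgroup.nontrivial_iff_ne_bot P0).2 hP01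
    haveI := hP0p.center_nontrivial
    obtain ⟨n, hn, hcard⟩ := (hP0p.to_subgroup (Subgroup.center P0)).nontrivial_iff_card.1 inferInstance
    obtain ⟨z, hz⟩ := exists_prime_orderOf_dvd_card' (G := Subgroup.center P0) p
      (hcard ▸ dvd_pow_self p hn.ne')
    intro y hy
    obtain ⟨a, ha⟩ := htr ((z : P0) : G) y (by rw [Subgroup.orderOf_coe, Subgroup.orderOf_coe, hz]) hy
    obtain ⟨i, rfl⟩ := Subgroup.mem_zpowers_iff.1 ha
    have hmem : a ((z : P0) : G) ∈ P0 := (hP0a a).le ⟨_, (z : P0).2, rfl⟩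
    refine ⟨zpow_mem hmem i, fun w hw => ?_⟩
    refine (Commute.zpow_left ?_ i).eq
    obtain ⟨w', hw', rfl⟩ := (hP0a a).ge hw
    show a _ * a w' = a w' * a _
    rw [← map_mul, ← map_mul]
    exact congrArg a (congrArg Subtype.val (Subgroup.mem_center_iff.1 z.2 ⟨w', hw'⟩).symm)
  by_cases hindex : ¬ p ∣ Nat.card (G ⧸ P0)
  · refine CfsgLib.PSeries.pLengthLE_of_pGroup_kernel (QuotientGroup.mk' P0) ?_ (l := 0) ?_
    · rw [QuotientGroup.ker_mk']; exact hP0p
    · rw [CfsgLib.PSeries.pLengthLE_zero_iff, eq_top_iff]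
      exact le_pPrimeCore (by rw [Subgroup.card_top]; exact (hpp.coprime_iff_not_dvd.2 hindex).symm)
  push Not at hindex
  exfalso
  set q := QuotientGroup.mk' P0 with hq
  set Mb := pPrimeCore p (G ⧸ P0) with hMb
  haveI : Mb.Normal := inferInstance
  set M := Mb.comap q with hM
  have hP0M : P0 ≤ M := fun x hx => by
    rw [hM, Subgroup.mem_comap, show q x = 1 from (QuotientGroup.eq_one_iff x).2 hx]; exact one_mem _
  have hMb1 : Mb ≠ ⊥ := by
    intro e
    have h1 := CfsgLib.Blocks.hall_higman (Cfsg.Agent.S3744.isPSolvable_quotient hs P0) e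
    have hcore : pCore p (G ⧸ P0) = ⊥ := by
      haveI : (pCore p (G ⧸ P0)).Normal := inferInstance
      rw [← Subgroup.map_comap_eq_self_of_surjective (QuotientGroup.mk'_surjective P0) (pCore p (G ⧸ P0)),
        Subgroup.map_eq_bot_iff, QuotientGroup.ker_mk']
      refine le_pCore ?_
      exact (isPGroup_pCore p).comap_of_ker_isPGroup q (by rw [QuotientGroup.ker_mk']; exact hP0p)
    rw [hcore] at h1
    have h2 : (⊤ : Subgroup (G ⧸ P0)) ≤ ⊥ := fun x _ => h1 (fun y hy => by
      rw [SetLike.mem_coe, Subgroup.mem_bot] at hy; simp [hy])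
    rw [← Subgroup.card_top (G := G ⧸ P0), le_bot_iff.1 h2, Subgroup.card_bot] at hindex
    exact hpp.one_lt.ne' (Nat.dvd_one.1 hindex)
  set N0 := P0.subgroupOf M with hN0
  haveI : N0.Normal := Subgroup.normal_subgroupOf
  have hN0card : Nat.card N0 = Nat.card P0 := Nat.card_congr (Subgroup.subgroupOfEquivOfLe hP0M).toEquiv
  have hN0index : N0.index = Nat.card Mb := by
    let f : ↥M →* G ⧸ P0 := q.comp M.subtype
    have h1 : f.ker = N0 := by rw [← MonoidHom.comap_ker, QuotientGroup.ker_mk']; rfl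
    have h2 : f.range = Mb := by
      rw [MonoidHom.range_comp, Subgroup.range_subtype, hM,
        Subgroup.map_comap_eq_self_of_surjective (QuotientGroup.mk'_surjective P0)]
    rw [← h1, Subgroup.index_ker, h2]
  obtain ⟨j, hj⟩ := IsPGroup.iff_card.1 hP0p
  have hMcop : (Nat.card Mb).Coprime p := card_pPrimeCore_coprime p
  have hcop : (Nat.card N0).Coprime N0.index := by
    rw [hN0card, hN0index, hj]; exact (hMcop.pow_right j).symm
  obtain ⟨Q0, hQ0⟩ := Subgroup.exists_right_complement'_of_coprime hcop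
  set Q := Q0.map M.subtype with hQ
  have hQM : Q ≤ M := Subgroup.map_subtype_le Q0
  have hQcard : Nat.card Q = Nat.card Mb := by
    rw [hQ, Subgroup.card_map_of_injective M.subtype_injective, ← hN0index, hQ0.symm.index_eq_card]
  have hQcop : (Nat.card Q).Coprime p := hQcard ▸ hMcop
  have hQP0 : Q ⊓ P0 = ⊥ := Subgroup.inf_eq_bot_of_coprime (by rw [hj]; exact hQcop.pow_right j)
  have hMa : ∀ a : MulAut G, M.map a.toMonoidHom ≤ M := by
    intro a
    haveI : M.Normal := inferInstance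
    haveI : (M.map a.toMonoidHom).Normal := ‹M.Normal›.map _ a.surjective
    haveI : ((M.map a.toMonoidHom).map q).Normal :=
      Subgroup.Normal.map ‹_› _ (QuotientGroup.mk'_surjective P0)
    rw [hM, ← Subgroup.map_le_iff_le_comap]
    refine le_pPrimeCore ?_
    have h1 : Nat.card ↥((M.map a.toMonoidHom).map q) ∣ Nat.card Q := by
      have h2 : P0 ≤ M.map a.toMonoidHom := (hP0a a).ge.trans (Subgroup.map_mono hP0M)
      let f : ↥(M.map a.toMonoidHom) →* G ⧸ P0 := q.comp (M.map a.toMonoidHom).subtype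
      have h3 : f.ker = P0.subgroupOf (M.map a.toMonoidHom) := by
        rw [← MonoidHom.comap_ker, QuotientGroup.ker_mk']; rfl
      have h4 : f.range = (M.map a.toMonoidHom).map q := by rw [MonoidHom.range_comp, Subgroup.range_subtype]
      have h5 := Subgroup.card_mul_index f.ker
      rw [Subgroup.index_ker, h4, h3, Nat.card_congr (Subgroup.subgroupOfEquivOfLe h2).toEquiv,
        Subgroup.card_map_of_injective (f := a.toMonoidHom) a.injective] at h5
      have h6 : Nat.card P0 * Nat.card Q = Nat.card M := by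
        rw [hQcard, ← hN0index, ← hN0card, Subgroup.card_mul_index]
      exact dvd_of_eq (Nat.eq_of_mul_eq_mul_left Nat.card_pos (h5.trans h6.symm))
    exact hQcop.coprime_dvd_left h1
  -- Frattini argument
  have hgen : P0 ⊔ Subgroup.normalizer (Q : Set G) = ⊤ := by
    have hMle : M ≤ P0 ⊔ Subgroup.normalizer (Q : Set G) := by
      have h1 : (⊤ : Subgroup M).map M.subtype ≤ (N0 ⊔ Q0).map M.subtype := by rw [hQ0.sup_eq_top]
      rw [← MonoidHom.range_eq_map, Subgroup.range_subtype, Subgroup.map_sup] at h1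
      exact h1.trans (sup_le_sup (Subgroup.map_subgroupOf_eq_of_le hP0M).le Subgroup.le_normalizer)
    rw [eq_top_iff]
    intro g _
    have hgM : ∀ x ∈ Q, g * x * g⁻¹ ∈ M := fun x hx => hMa (MulAut.conj g) ⟨x, hQM hx, rfl⟩
    set Q1 := (Q.map (MulAut.conj g).toMonoidHom).subgroupOf M with hQ1
    have hQ1c : Subgroup.IsComplement' N0 Q1 := by
      have hc : Nat.card Q1 = Nat.card Q := by
        rw [hQ1, Nat.card_congr (Subgroup.subgroupOfEquivOfLe (by rintro _ ⟨x, hx, rfl⟩; exact hgM x hx)).toEquiv,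
          Subgroup.card_map_of_injective (f := (MulAut.conj g).toMonoidHom) (MulAut.conj g).injective]
      refine Subgroup.isComplement'_of_coprime ?_ ?_
      · rw [hc, hQcard, ← hN0index, Subgroup.card_mul_index]
      · rw [hc, hQcard, ← hN0index]; exact hcop
    haveI : Group.IsNilpotent N0 := (hP0p.comap_of_injective M.subtype M.subtype_injective).isNilpotent
    obtain ⟨m, hm⟩ := Cfsg.Agent.S0001.result N0 hcop (Or.inl inferInstance) Q1 Q0 hQ1c.symm.symm hQ0
    have hn : (m : G) * g ∈ Subgroup.normalizer (Q : Set G) := by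
      have hle : ∀ x ∈ Q, (m : G) * g * x * ((m : G) * g)⁻¹ ∈ Q := by
        intro x hx
        have h1 : (MulAut.conj m) ⟨g * x * g⁻¹, hgM x hx⟩ ∈ Q0 := by
          rw [← hm]
          exact Subgroup.smul_mem_pointwise_smul _ _ _ (show (⟨g * x * g⁻¹, hgM x hx⟩ : M) ∈ Q1 from ⟨x, hx, rfl⟩)
        refine ⟨_, h1, ?_⟩
        show (m : G) * (g * x * g⁻¹) * (m : G)⁻¹ = _
        group
      exact CfsgLib.Local.mem_normalizer_of_map_conj_eq (Subgroup.eq_of_le_of_card_ge
        (by rintro _ ⟨x, hx, rfl⟩; exact hle x hx)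
        (Subgroup.card_map_of_injective (f := (MulAut.conj ((m : G) * g)).toMonoidHom) (MulAut.conj _).injective).ge)
    rw [show g = (m : G)⁻¹ * ((m : G) * g) by group]
    exact mul_mem (hMle (inv_mem m.2)) (Subgroup.mem_sup_right hn)
  -- the normalizer of `Q` meets `P0` trivially
  have hinf : P0 ⊓ Subgroup.normalizer (Q : Set G) = ⊥ := by
    by_contra hne
    obtain ⟨n, hn0, hn⟩ := (hP0p.to_le (inf_le_left : P0 ⊓ Subgroup.normalizer (Q : Set G) ≤ P0)).nontrivial_iff_card.1
      ((Subgroup.nontrivial_iff_ne_bot _).2 hne)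
    obtain ⟨z, hz⟩ := exists_prime_orderOf_dvd_card' (G := ↥(P0 ⊓ Subgroup.normalizer (Q : Set G))) p
      (hn ▸ dvd_pow_self p hn0.ne')
    have hz' : orderOf (z : G) = p := by rw [Subgroup.orderOf_coe, hz]
    obtain ⟨hzP, hzN⟩ := Subgroup.mem_inf.1 z.2
    have hzQ : ∀ x ∈ Q, (z : G) * x = x * (z : G) := by
      intro x hx
      have h1 : (z : G) * x * (z : G)⁻¹ * x⁻¹ ∈ Q ⊓ P0 := by
        refine Subgroup.mem_inf.2 ⟨mul_mem ((Subgroup.mem_normalizer_iff.1 hzN x).1 hx) (inv_mem hx), ?_⟩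
        rw [show (z : G) * x * (z : G)⁻¹ * x⁻¹ = (z : G) * (x * (z : G)⁻¹ * x⁻¹) by group]
        exact mul_mem hzP (‹P0.Normal›.conj_mem _ (inv_mem hzP) x)
      rw [hQP0, Subgroup.mem_bot, mul_inv_eq_one, mul_inv_eq_iff_eq_mul] at h1
      exact h1
    have hzM : ∀ x ∈ M, (z : G) * x = x * (z : G) := by
      have hle : M ≤ Subgroup.centralizer {(z : G)} := by
        have h1 : (⊤ : Subgroup M).map M.subtype ≤ (N0 ⊔ Q0).map M.subtype := by rw [hQ0.sup_eq_top]
        rw [← MonoidHom.range_eq_map, Subgroup.range_subtype, Subgroup.map_sup] at h1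
        refine h1.trans (sup_le ?_ ?_)
        · refine (Subgroup.map_subgroupOf_eq_of_le hP0M).le.trans fun w hw => ?_
          exact Subgroup.mem_centralizer_singleton_iff.2 ((hZ _ hz').2 w hw).symm
        · exact fun x hx => Subgroup.mem_centralizer_singleton_iff.2 (hzQ x hx).symm
      exact fun x hx => (Subgroup.mem_centralizer_singleton_iff.1 (hle hx)).symm
    have hall : ∀ y : G, y ^ p = 1 → ∀ x ∈ M, y * x = x * y := by
      intro y hy x hx
      by_cases hy1 : y = 1
      · simp [hy1]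
      obtain ⟨a, ha⟩ := htr _ y hz' (orderOf_eq_prime hy hy1)
      obtain ⟨i, rfl⟩ := Subgroup.mem_zpowers_iff.1 ha
      refine (Commute.zpow_left ?_ i).eq
      have heq : M.map a.toMonoidHom = M := Subgroup.eq_of_le_of_card_ge (hMa a)
        (Subgroup.card_map_of_injective (f := a.toMonoidHom) a.injective).ge
      obtain ⟨x', hx', rfl⟩ := heq.ge hx
      show a _ * a x' = a x' * a _
      rw [← map_mul, ← map_mul, hzM x' hx']
    refine hMb1 (Subgroup.eq_bot_of_card_eq _ ?_)
    rw [← hQcard, Subgroup.card_eq_one, eq_bot_iff, ← hQP0]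
    intro x hx
    refine Subgroup.mem_inf.2 ⟨hx, hHH fun w hw => ?_⟩
    have h1 := CfsgLib.centralizes_of_fixes_order_p hp x
      (hQcop.coprime_dvd_left (Subgroup.orderOf_dvd_natCard Q hx)) P0 hP0p
      (by rw [Subgroup.normalizer_eq_top]; exact Subgroup.mem_top x)
      (fun y _ hy => by rw [← hall y hy x (hQM hx), mul_inv_cancel_right]) w hw
    exact (mul_inv_eq_iff_eq_mul.1 h1).symm
  obtain ⟨x, hx⟩ := exists_prime_orderOf_dvd_card' (G := ↥(Subgroup.normalizer (Q : Set G))) p (by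
    refine hindex.trans ?_
    let f : ↥(Subgroup.normalizer (Q : Set G)) →* G ⧸ P0 := q.comp (Subgroup.normalizer (Q : Set G)).subtype
    have h1 : f.range = ⊤ := by
      rw [MonoidHom.range_comp, Subgroup.range_subtype, ← Subgroup.map_top_of_surjective q (QuotientGroup.mk'_surjective P0), ← hgen,
        Subgroup.map_sup, hq, QuotientGroup.map_mk'_self, bot_sup_eq]
    rw [← Subgroup.card_top (G := G ⧸ P0), ← h1, ← Subgroup.index_ker]
    exact Subgroup.index_dvd_card _)
  have hx' : orderOf (x : G) = p := by rw [Subgroup.orderOf_coe, hx]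
  have h2 : (x : G) ∈ P0 ⊓ Subgroup.normalizer (Q : Set G) := ⟨(hZ _ hx').1, x.2⟩
  rw [hinf, Subgroup.mem_bot] at h2
  rw [h2, orderOf_one] at hx'
  exact hpp.one_lt.ne hx'

theorem main {G : Type u} [Group G] [Finite G] (hp : p ≠ 2) (hdvd : p ∣ Nat.card G) (hG : IsPSolvable p G)
    (htrans : ∀ U V : Subgroup G, Nat.card U = p → Nat.card V = p → ∃ a : MulAut G, U.map a.toMonoidHom = V) :
    PLengthLE p 1 G := by
  have hpp := (Fact.out : p.Prime)
  haveI : (pPrimeCore p G).Normal := inferInstance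
  set K := pPrimeCore p G with hK
  set q := QuotientGroup.mk' K with hq
  have hKcop : (Nat.card K).Coprime p := card_pPrimeCore_coprime p
  refine CfsgLib.PSeries.pLengthLE_of_pPrime_kernel q (by rw [QuotientGroup.ker_mk']; exact hKcop)
    (core_case hp (Cfsg.Agent.S3744.isPSolvable_quotient hG K) (pPrimeCore_quotient_eq_bot p) ?_ ?_)
  · have h1 := Subgroup.card_eq_card_quotient_mul_card_subgroup K
    rw [h1] at hdvd
    exact hKcop.symm.dvd_of_dvd_mul_right hdvd
  intro x y hx hy
  have hlift : ∀ x : G ⧸ K, orderOf x = p → ∃ g : G, orderOf g = p ∧ x ∈ Subgroup.zpowers (q g) := by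
    intro x hx
    obtain ⟨g₀, rfl⟩ := QuotientGroup.mk'_surjective K x
    set d := orderOf (g₀ ^ p) with hd
    have hmem : g₀ ^ p ∈ K := by
      rw [← QuotientGroup.eq_one_iff]
      exact (map_pow q g₀ p).trans (by rw [← hx]; exact pow_orderOf_eq_one _)
    have hdc : d.Coprime p := hKcop.coprime_dvd_left (Subgroup.orderOf_dvd_natCard K hmem)
    refine ⟨g₀ ^ d, ?_, ?_⟩
    · refine orderOf_eq_prime ?_ fun e => ?_
      · rw [← pow_mul, mul_comm, pow_mul]; exact pow_orderOf_eq_one _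
      · have h1 : orderOf (q g₀) ∣ d := orderOf_dvd_of_pow_eq_one (by rw [← map_pow, e, map_one])
        rw [hx] at h1
        exact hpp.one_lt.ne' (Nat.eq_one_of_dvd_coprimes hdc h1 dvd_rfl)
    · rw [map_pow]
      obtain ⟨m, hm⟩ := exists_pow_eq_self_of_coprime (x := q g₀) (n := d) (hx.symm ▸ hdc)
      exact Subgroup.mem_zpowers_iff.2 ⟨m, by rw [zpow_natCast]; exact hm⟩
  obtain ⟨g, hg, hxg⟩ := hlift x hx
  obtain ⟨h, hh, hyh⟩ := hlift y hy
  obtain ⟨a, ha⟩ := htrans (Subgroup.zpowers g) (Subgroup.zpowers h) (by rw [Nat.card_zpowers, hg]) (by rw [Nat.card_zpowers, hh])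
  have hKa : K.map a.toMonoidHom = K := pPrimeCore_map_equiv p a
  let b : MulAut (G ⧸ K) := QuotientGroup.congr K K a hKa
  have hb : ∀ g : G, b (q g) = q (a g) := fun g => rfl
  refine ⟨b, ?_⟩
  have h1 : Subgroup.zpowers (b x) = Subgroup.zpowers (b (q g)) := by
    refine Subgroup.eq_of_le_of_card_ge (Subgroup.zpowers_le.2 ?_) ?_
    · obtain ⟨i, rfl⟩ := Subgroup.mem_zpowers_iff.1 hxg
      rw [map_zpow]; exact zpow_mem (Subgroup.mem_zpowers _) i
    · rw [Nat.card_zpowers, Nat.card_zpowers, MulEquiv.orderOf_eq, MulEquiv.orderOf_eq, hx]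
      exact Nat.le_of_dvd hpp.pos (hg ▸ orderOf_map_dvd q g)
  rw [h1, hb]
  refine (Subgroup.zpowers_le.2 ?_) hyh
  obtain ⟨i, hi⟩ := Subgroup.mem_zpowers_iff.1 (show h ∈ Subgroup.zpowers (a g) by
    have := Subgroup.mem_zpowers h
    rwa [← ha, MonoidHom.map_zpowers] at this)
  exact Subgroup.mem_zpowers_iff.2 ⟨i, by rw [← map_zpow, hi]⟩

end Aux

/-- The Gaschütz–Yen Theorem: let G be a finite p-soluble group, p an odd prime dividing its order, such that the automorphism group of G permutes the subgroups of G of order p transitively. Then G has p-length at most 1. -/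
theorem result {G : Type*} [Group G] [Finite G] {p : ℕ} [Fact p.Prime] (hp : p ≠ 2) (hdvd : p ∣ Nat.card G) (hG : Cfsg.IsPSolvable p G) (htrans : ∀ U V : Subgroup G, Nat.card U = p → Nat.card V = p → ∃ a : MulAut G, U.map a.toMonoidHom = V) : Cfsg.PLengthLE p 1 G := by
  exact Aux.main hp hdvd hG htrans

end Cfsg.Agent.S3798
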