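import Cfsg.Statements.S3799
import Mathlib
import Cfsg.Agent.Lib.Elementary
-- import your own Cfsg.Agent.* helpers here

set_option autoImplicit false
open Cfsg

namespace Cfsg.Agent.S3799

open scoped commutatorElement
open Matrix

variable {p n : ℕ}

/-- The extension by zero of a middle row vector. -/
def xV (x : Fin n → ZMod p) : Fin (n + 2) → ZMod p := Fin.cons 0 (Fin.snoc x 0)

/-- The extension by zero of a last column vector. -/
def wV (w : Fin (n + 1) → ZMod p) : Fin (n + 2) → ZMod p := Fin.snoc w 0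

/-- The Heisenberg matrix with the given parameters. -/
def hMat (x : Fin n → ZMod p) (w : Fin (n + 1) → ZMod p) : Matrix (Fin (n + 2)) (Fin (n + 2)) (ZMod p) :=
  1 + vecMulVec (Pi.single 0 1) (xV x) + vecMulVec (wV w) (Pi.single (Fin.last (n + 1)) 1)

theorem xV_zero_apply (x : Fin n → ZMod p) : xV x 0 = 0 := rfl

theorem xV_last (x : Fin n → ZMod p) : xV x (Fin.last (n + 1)) = 0 := by
  rw [← Fin.succ_last, xV, Fin.cons_succ, Fin.snoc_last]

theorem wV_last (w : Fin (n + 1) → ZMod p) : wV w (Fin.last (n + 1)) = 0 := Fin.snoc_last _ _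

theorem xV_dot_wV (x : Fin n → ZMod p) (w : Fin (n + 1) → ZMod p) :
    xV x ⬝ᵥ wV w = ∑ i, x i * w i.succ := by
  unfold dotProduct
  rw [Fin.sum_univ_succ, xV_zero_apply, zero_mul, zero_add, Fin.sum_univ_castSucc, xV, Fin.cons_succ,
    Fin.snoc_last, zero_mul, add_zero]
  refine Finset.sum_congr rfl fun i _ => ?_
  rw [Fin.cons_succ, Fin.snoc_castSucc, wV, ← Fin.castSucc_succ, Fin.snoc_castSucc]

theorem xV_add (x x' : Fin n → ZMod p) : xV (x + x') = xV x + xV x' := by
  funext i
  refine Fin.cases ?_ (fun j => ?_) i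
  · simp [xV]
  · refine Fin.lastCases ?_ (fun k => ?_) j <;> simp [xV]

theorem wV_add (w w' : Fin (n + 1) → ZMod p) : wV (w + w') = wV w + wV w' := by
  funext i
  refine Fin.lastCases ?_ (fun k => ?_) i <;> simp [wV]

theorem wV_single (c : ZMod p) : wV (Pi.single (0 : Fin (n + 1)) c) = c • Pi.single (0 : Fin (n + 2)) 1 := by
  funext i
  refine Fin.lastCases ?_ (fun k => ?_) i
  · simp [wV, Pi.single_apply, Fin.ext_iff]
  · by_cases h : k = 0
    · subst h; simp [wV]
    · simp [wV, Pi.single_apply, h, Fin.castSucc_eq_zero_iff]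

theorem hMat_zero : hMat (0 : Fin n → ZMod p) (0 : Fin (n + 1) → ZMod p) = 1 := by
  have hx : xV (0 : Fin n → ZMod p) = 0 := by
    funext i
    refine Fin.cases ?_ (fun j => ?_) i
    · simp [xV]
    · refine Fin.lastCases ?_ (fun k => ?_) j <;> simp [xV]
  have hw : wV (0 : Fin (n + 1) → ZMod p) = 0 := by
    funext i
    refine Fin.lastCases ?_ (fun k => ?_) i <;> simp [wV]
  simp [hMat, hx, hw]

theorem prod_eq (x x' : Fin n → ZMod p) (w w' : Fin (n + 1) → ZMod p) :
    (vecMulVec (Pi.single 0 1) (xV x) + vecMulVec (wV w) (Pi.single (Fin.last (n + 1)) 1)) *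
      (vecMulVec (Pi.single 0 1) (xV x') + vecMulVec (wV w') (Pi.single (Fin.last (n + 1)) 1)) =
    (∑ i, x i * w' i.succ) • vecMulVec (Pi.single (0 : Fin (n + 2)) (1 : ZMod p)) (Pi.single (Fin.last (n + 1)) 1) := by
  simp only [add_mul, mul_add, vecMulVec_mul_vecMulVec, xV_dot_wV, dotProduct_single, single_dotProduct,
    xV_zero_apply, wV_last, Pi.single_apply, one_mul, mul_one, if_neg (Fin.last_pos.ne : (0 : Fin (n + 2)) ≠ Fin.last (n + 1)),
    zero_smul, vecMulVec_zero, zero_add, add_zero, vecMulVec_smul]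

theorem hMat_mul (x x' : Fin n → ZMod p) (w w' : Fin (n + 1) → ZMod p) :
    hMat x w * hMat x' w' = hMat (x + x') (w + w' + Pi.single 0 (∑ i, x i * w' i.succ)) := by
  have h := prod_eq x x' w w'
  have e : hMat x w * hMat x' w' = 1 + (vecMulVec (Pi.single 0 1) (xV x) + vecMulVec (wV w) (Pi.single (Fin.last (n + 1)) 1)) +
      (vecMulVec (Pi.single 0 1) (xV x') + vecMulVec (wV w') (Pi.single (Fin.last (n + 1)) 1)) +
      (∑ i, x i * w' i.succ) • vecMulVec (Pi.single (0 : Fin (n + 2)) (1 : ZMod p)) (Pi.single (Fin.last (n + 1)) 1) := by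
    rw [← h]; simp only [hMat]; noncomm_ring
  rw [e, hMat, xV_add, wV_add, wV_add, wV_single, vecMulVec_add, add_vecMulVec, add_vecMulVec, smul_vecMulVec]
  abel

theorem hMat_sub_one_cube (x : Fin n → ZMod p) (w : Fin (n + 1) → ZMod p) : (hMat x w - 1) ^ 3 = 0 := by
  have e : hMat x w - 1 = vecMulVec (Pi.single 0 1) (xV x) + vecMulVec (wV w) (Pi.single (Fin.last (n + 1)) 1) := by
    rw [hMat]; abel
  rw [e, pow_succ, pow_two, prod_eq, smul_mul_assoc, mul_add, vecMulVec_mul_vecMulVec, vecMulVec_mul_vecMulVec,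
    single_dotProduct, single_dotProduct, one_mul, one_mul, wV_last]
  simp [Pi.single_apply, (Fin.last_pos.ne' : Fin.last (n + 1) ≠ 0)]

theorem hMat_injective {a b : (Fin n → ZMod p) × (Fin (n + 1) → ZMod p)} (h : hMat a.1 a.2 = hMat b.1 b.2) : a = b := by
  have hl : ∀ i : Fin (n + 1), i.castSucc ≠ Fin.last (n + 1) := fun i => (Fin.castSucc_lt_last i).ne
  refine Prod.ext (funext fun j => ?_) (funext fun i => ?_)
  · have h1 := congrFun (congrFun h 0) j.castSucc.succ
    have h2 : (j.castSucc.succ : Fin (n + 2)) ≠ Fin.last (n + 1) := by rw [Fin.succ_castSucc]; exact hl _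
    simpa [hMat, vecMulVec_apply, Pi.single_apply, one_apply, xV, h2, (Fin.succ_ne_zero _).symm] using h1
  · have h1 := congrFun (congrFun h i.castSucc) (Fin.last (n + 1))
    simpa [hMat, vecMulVec_apply, Pi.single_apply, one_apply, xV_last, wV, hl i] using h1

/-- For every odd prime p and every n ≥ 1 there is an extraspecial p-group of order p^(1+2n) and exponent p; concretely, the general linear group of degree n + 2 over the field with p elements contains such a subgroup. -/
theorem result (p : ℕ) [Fact p.Prime] (hp : p ≠ 2) (n : ℕ) (hn : 1 ≤ n) : ∃ E : Subgroup (Matrix.GeneralLinearGroup (Fin (n + 2)) (ZMod p)), Cfsg.IsExtraspecial p ↥E ∧ Nat.card E = p ^ (1 + 2 * n) ∧ ∀ x ∈ E, x ^ p = 1 := by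
  classical
  have hp' : p.Prime := Fact.out
  let T := (Fin n → ZMod p) × (Fin (n + 1) → ZMod p)
  let op : T → T → T := fun a b => (a.1 + b.1, a.2 + b.2 + Pi.single 0 (∑ i, a.1 i * b.2 i.succ))
  let E : Subgroup (Matrix.GeneralLinearGroup (Fin (n + 2)) (ZMod p)) :=
    { carrier := {g | ∃ a : T, (g : Matrix (Fin (n + 2)) (Fin (n + 2)) (ZMod p)) = hMat a.1 a.2}
      one_mem' := ⟨(0, 0), by rw [hMat_zero]; rfl⟩
      mul_mem' := by
        rintro g h ⟨a, ha⟩ ⟨b, hb⟩
        exact ⟨op a b, by rw [Units.val_mul, ha, hb, hMat_mul]⟩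
      inv_mem' := by
        rintro g ⟨a, ha⟩
        refine ⟨(-a.1, -a.2 + Pi.single 0 (∑ i, a.1 i * a.2 i.succ)), ?_⟩
        apply Units.inv_eq_of_mul_eq_one_right
        rw [ha, hMat_mul, ← hMat_zero]
        congr 1
        · rw [add_neg_cancel]
        · have : ∑ i, a.1 i * ((-a.2 + Pi.single (0 : Fin (n + 1)) (∑ j, a.1 j * a.2 j.succ) : Fin (n + 1) → ZMod p)) i.succ = -∑ i, a.1 i * a.2 i.succ := by
            rw [← Finset.sum_neg_distrib]
            refine Finset.sum_congr rfl fun i _ => ?_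
            rw [Pi.add_apply, Pi.neg_apply, Pi.single_eq_of_ne (Fin.succ_ne_zero i), add_zero, mul_neg]
          rw [this, Pi.single_neg]; funext i; simp only [Pi.add_apply, Pi.neg_apply, Pi.zero_apply]; ring }
  have hmk : ∀ a : T, ∃ g : E, (((g : Matrix.GeneralLinearGroup (Fin (n + 2)) (ZMod p))) : Matrix (Fin (n + 2)) (Fin (n + 2)) (ZMod p)) = hMat a.1 a.2 := by
    intro a
    have h1 : hMat a.1 a.2 * hMat (-a.1) (-a.2 + Pi.single 0 (∑ i, a.1 i * a.2 i.succ)) = 1 := by
      rw [hMat_mul, ← hMat_zero]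
      congr 1
      · rw [add_neg_cancel]
      · have : ∑ i, a.1 i * ((-a.2 + Pi.single (0 : Fin (n + 1)) (∑ j, a.1 j * a.2 j.succ) : Fin (n + 1) → ZMod p)) i.succ = -∑ i, a.1 i * a.2 i.succ := by
          rw [← Finset.sum_neg_distrib]
          refine Finset.sum_congr rfl fun i _ => ?_
          rw [Pi.add_apply, Pi.neg_apply, Pi.single_eq_of_ne (Fin.succ_ne_zero i), add_zero, mul_neg]
        rw [this, Pi.single_neg]; funext i; simp only [Pi.add_apply, Pi.neg_apply, Pi.zero_apply]; ring
    exact ⟨⟨⟨_, _, h1, mul_eq_one_comm.mp h1⟩, a, rfl⟩, rfl⟩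
  choose mkE hmkE using hmk
  choose co hco using fun g : E => g.2
  have hco_mk : ∀ a, co (mkE a) = a := fun a => hMat_injective ((hco (mkE a)).symm.trans (hmkE a))
  have hmk_co : ∀ g, mkE (co g) = g := fun g =>
    Subtype.ext (Units.ext ((hmkE (co g)).trans (hco g).symm))
  have hco_mul : ∀ g h, co (g * h) = op (co g) (co h) := fun g h => hMat_injective (by
    rw [← hco (g * h), Subgroup.coe_mul, Units.val_mul, hco g, hco h, hMat_mul])
  have hco_inj : Function.Injective co := fun g h e => by rw [← hmk_co g, e, hmk_co]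
  let eT : E ≃ T := ⟨co, mkE, hmk_co, hco_mk⟩
  have hcard : Nat.card E = p ^ (1 + 2 * n) := by
    rw [Nat.card_congr eT, Nat.card_prod, Nat.card_fun, Nat.card_fun, Nat.card_zmod, Nat.card_fin, Nat.card_fin, ← pow_add]
    congr 1; omega
  have hexp : ∀ x ∈ E, x ^ p = 1 := by
    rintro x ⟨a, ha⟩
    apply Units.ext
    rw [Units.val_pow_eq_pow_val, ha, Units.val_one]
    have h3 : (hMat a.1 a.2 - 1) ^ 3 = 0 := hMat_sub_one_cube a.1 a.2
    have hp3 : 3 ≤ p := by
      have := hp'.two_le
      omega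
    have h1 : (hMat a.1 a.2 - 1) ^ p = 0 := by
      exact pow_eq_zero_of_le hp3 h3
    rwa [sub_pow_char_of_commute p (Commute.one_right _), one_pow, sub_eq_zero] at h1
  have hpg : IsPGroup p E := IsPGroup.of_card hcard
  have hcen : ∀ g : E, g ∈ Subgroup.center E ↔ (co g).1 = 0 ∧ ∀ i : Fin n, (co g).2 i.succ = 0 := by
    intro g
    rw [Subgroup.mem_center_iff]
    constructor
    · intro hg
      have key : ∀ b : T, ∑ i, b.1 i * (co g).2 i.succ = ∑ i, (co g).1 i * b.2 i.succ := by
        intro b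
        have h1 := congrArg (fun t => (co t).2 0) (hg (mkE b))
        simp only [hco_mul, hco_mk, op, Pi.add_apply, Pi.single_eq_same] at h1
        linear_combination h1
      refine ⟨funext fun i => ?_, fun i => ?_⟩
      · have := key (0, Pi.single i.succ 1)
        simpa [Pi.single_apply, Fin.succ_inj] using this.symm
      · have := key (Pi.single i 1, 0)
        simpa [Pi.single_apply] using this
    · rintro ⟨h1, h2⟩ h
      apply hco_inj
      rw [hco_mul, hco_mul]
      simp [op, h1, h2, add_comm]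
  have hcenc : Nat.card (Subgroup.center E) = p := by
    let f : Subgroup.center E → ZMod p := fun g => (co (g : E)).2 0
    have hf : Function.Bijective f := by
      refine ⟨fun g h e => ?_, fun t => ?_⟩
      · have hg := (hcen g.1).mp g.2
        have hh := (hcen h.1).mp h.2
        refine Subtype.ext (hco_inj (Prod.ext (hg.1.trans hh.1.symm) (funext fun i => ?_)))
        refine Fin.cases e (fun j => ?_) i
        rw [hg.2 j, hh.2 j]
      · refine ⟨⟨mkE (0, Pi.single 0 t), (hcen _).mpr ⟨by rw [hco_mk], fun i => ?_⟩⟩, ?_⟩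
        · rw [hco_mk]; simp [Pi.single_eq_of_ne (Fin.succ_ne_zero i)]
        · show (co (mkE _)).2 0 = t
          rw [hco_mk]; simp
    rw [Nat.card_congr (Equiv.ofBijective f hf), Nat.card_zmod]
  have hq : _root_.commutator E ≤ Subgroup.center E := by
    rw [commutator_def, Subgroup.commutator_le]
    intro a _ b _
    rw [hcen]
    have h1 : a * b = ⁅a, b⁆ * (b * a) := by rw [commutatorElement_def]; group
    have e1 := congrArg co h1
    rw [hco_mul a b, hco_mul ⁅a, b⁆ (b * a), hco_mul b a] at e1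
    have e11 := congrArg Prod.fst e1
    have e12 := congrArg Prod.snd e1
    simp only [op] at e11 e12
    refine ⟨?_, fun i => ?_⟩
    · linear_combination -e11
    · have := congrFun e12 i.succ
      simp only [Pi.add_apply, Pi.single_eq_of_ne (Fin.succ_ne_zero i)] at this
      linear_combination -this
  have hcomm : _root_.commutator E = Subgroup.center E := by
    refine Subgroup.eq_of_le_of_card_ge hq ?_
    obtain ⟨k, hk⟩ := IsPGroup.iff_card.mp (hpg.to_subgroup (_root_.commutator E))
    rw [hcenc, hk]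
    refine Nat.le_self_pow ?_ p
    rintro rfl
    rw [pow_zero] at hk
    have hb := Subgroup.card_eq_one.mp hk
    rw [commutator_def, Subgroup.commutator_eq_bot_iff_le_centralizer] at hb
    have htop : ∀ g : E, g ∈ Subgroup.center E := fun g =>
      Subgroup.mem_center_iff.mpr fun h => Subgroup.mem_centralizer_iff.mp (hb (Subgroup.mem_top g)) h trivial
    have := ((hcen (mkE (Pi.single (⟨0, hn⟩ : Fin n) 1, 0))).mp (htop _)).1
    rw [hco_mk] at this
    exact one_ne_zero (by simpa using congrFun this ⟨0, hn⟩ : (1 : ZMod p) = 0)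
  have hfr : frattini E = Subgroup.center E := by
    refine le_antisymm (fun g hg => ?_) (hcomm ▸ CfsgLib.commutator_le_frattini_pGroup hpg)
    by_contra hgc
    have hex : ∃ φ : E →* Multiplicative (ZMod p), φ g ≠ 1 := by
      rw [hcen, not_and_or] at hgc
      rcases hgc with h | h
      · obtain ⟨i, hi⟩ := Function.ne_iff.mp h
        exact ⟨MonoidHom.mk' (fun h => Multiplicative.ofAdd ((co h).1 i)) (fun a b => by rw [hco_mul]; rfl), by simpa using hi⟩
      · push Not at h
        obtain ⟨i, hi⟩ := h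
        exact ⟨MonoidHom.mk' (fun h => Multiplicative.ofAdd ((co h).2 i.succ)) (fun a b => by
          rw [hco_mul]
          simp [op, Pi.single_eq_of_ne (Fin.succ_ne_zero i), ofAdd_add]), by simpa using hi⟩
    obtain ⟨φ, hφ⟩ := hex
    have hc : φ.ker.index = p := by
      rw [Subgroup.index_ker]
      have h1 := Subgroup.card_subgroup_dvd_card φ.range
      rw [Nat.card_congr (Multiplicative.toAdd (α := ZMod p)), Nat.card_zmod] at h1
      rcases hp'.eq_one_or_self_of_dvd _ h1 with h2 | h2
      · exact absurd (Subgroup.mem_bot.mp (Subgroup.card_eq_one.mp h2 ▸ ⟨g, rfl⟩ : φ g ∈ (⊥ : Subgroup _))) hφ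
      · exact h2
    have hco : IsCoatom φ.ker := by
      refine ⟨fun e => hp'.ne_one (by rw [← hc, e, Subgroup.index_top]), fun R hR => ?_⟩
      have h := Subgroup.relIndex_mul_index hR.le
      rw [hc] at h
      rcases hp'.eq_one_or_self_of_dvd R.index ⟨φ.ker.relIndex R, by rw [mul_comm]; exact h.symm⟩ with e | e
      · exact Subgroup.index_eq_one.mp e
      · rw [e] at h
        exact absurd (Subgroup.relIndex_eq_one.mp ((Nat.mul_eq_right hp'.ne_zero).mp h)) hR.not_ge
    exact hφ (MonoidHom.mem_ker.mp (frattini_le_coatom hco hg))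
  exact ⟨E, ⟨⟨hpg, hfr, hcomm⟩, hcenc⟩, hcard, hexp⟩

end Cfsg.Agent.S3799
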