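import Cfsg.Statements.S3800
import Mathlib
-- import your own Cfsg.Agent.* helpers here

set_option autoImplicit false
open Cfsg

namespace Cfsg.Agent.S3800

open scoped Pointwise

/-- Let G be a finite group, N a normal subgroup of G whose order is prime to p, and P a p-subgroup of G. Then in G/N the normalizer of the image of P is the image of N_G(P), and the centralizer of the image of P is the image of C_G(P). -/
theorem result {G : Type*} [Group G] [Finite G] {p : ℕ} [Fact p.Prime] (N : Subgroup G) [N.Normal] (hN : (Nat.card N).Coprime p) (P : Subgroup G) (hP : IsPGroup p P) : Subgroup.normalizer ((P.map (QuotientGroup.mk' N)) : Set (G ⧸ N)) = (Subgroup.normalizer (P : Set G)).map (QuotientGroup.mk' N) ∧ Subgroup.centralizer ((P.map (QuotientGroup.mk' N)) : Set (G ⧸ N)) = (Subgroup.centralizer (P : Set G)).map (QuotientGroup.mk' N) := by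
  classical
  have hp : p.Prime := Fact.out
  set π := QuotientGroup.mk' N with hπ
  have hsur : Function.Surjective π := QuotientGroup.mk'_surjective N
  have hker : ∀ a, π a = 1 ↔ a ∈ N := fun a => QuotientGroup.eq_one_iff a
  have hdisj : ∀ a, a ∈ N → a ∈ P → a = 1 := by
    intro a haN haP
    obtain ⟨k, hk⟩ := IsPGroup.iff_orderOf.mp hP ⟨a, haP⟩
    rw [Subgroup.orderOf_mk] at hk
    apply orderOf_eq_one_iff.mp
    refine Nat.eq_one_of_dvd_coprimes ((hN.pow_right k)) (Subgroup.orderOf_dvd_natCard N haN) ?_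
    rw [hk]
  set K : Subgroup G := (P.map π).comap π with hK
  have hPK : P ≤ K := Subgroup.le_comap_map _ _
  have hKcard : Nat.card K = Nat.card N * Nat.card P := by
    have hfr := Subgroup.relIndex_mul_relIndex ⊥ N K bot_le
      (fun n hn => show π n ∈ P.map π by rw [(hker n).mpr hn]; exact one_mem _)
    rw [Subgroup.relIndex_bot_left, Subgroup.relIndex_bot_left] at hfr
    rw [← hfr]
    congr 1
    have hrk := Subgroup.relIndex_ker (f := π) (K := K)
    rw [QuotientGroup.ker_mk'] at hrk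
    rw [hrk, hK, Subgroup.map_comap_eq_self_of_surjective hsur]
    refine Nat.card_congr (Equiv.ofBijective
      (fun u : P => (⟨π u, Subgroup.mem_map_of_mem _ u.2⟩ : P.map π)) ⟨?_, ?_⟩).symm
    · intro u v h
      have h1 : π ((u : G)⁻¹ * v) = 1 := by
        rw [map_mul, map_inv, show π u = π v from congrArg Subtype.val h, inv_mul_cancel]
      exact Subtype.ext (inv_mul_eq_one.mp (hdisj _ ((hker _).mp h1) (mul_mem (inv_mem u.2) v.2)))
    · rintro ⟨_, u, hu, rfl⟩; exact ⟨⟨u, hu⟩, rfl⟩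
  have hfact : ∀ R : Subgroup G, IsPGroup p R → Nat.card R = Nat.card P → R ≤ K →
      ∃ S : Sylow p K, (S : Subgroup K) = R.subgroupOf K := by
    intro R hR hc hle
    have hcard : Nat.card (R.subgroupOf K) = p ^ (Nat.card K).factorization p := by
      obtain ⟨i, hi⟩ := IsPGroup.iff_card.mp hP
      rw [Nat.card_congr (Subgroup.subgroupOfEquivOfLe hle).toEquiv, hc, hKcard, hi,
        Nat.factorization_mul Nat.card_pos.ne' (pow_ne_zero _ hp.ne_zero), Finsupp.add_apply,
        Nat.factorization_pow_self hp, Nat.factorization_eq_zero_of_not_dvd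
          ((hp.coprime_iff_not_dvd).mp hN.symm), zero_add]
    exact ⟨Sylow.ofCard _ hcard, rfl⟩
  obtain ⟨S, hS⟩ := hfact P hP rfl hPK
  -- Frattini argument
  have key : ∀ g, π g ∈ Subgroup.normalizer ((P.map π : Subgroup (G ⧸ N)) : Set (G ⧸ N)) →
      ∃ n ∈ N, ∃ h ∈ Subgroup.normalizer (P : Set G), g = n * h := by
    intro g hg
    have hle : P.map (MulAut.conj g).toMonoidHom ≤ K := by
      rintro _ ⟨u, hu, rfl⟩
      show π (g * u * g⁻¹) ∈ P.map π
      rw [map_mul, map_mul, map_inv]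
      exact (Subgroup.mem_normalizer_iff.mp hg _).mp (Subgroup.mem_map_of_mem _ hu)
    obtain ⟨T, hT⟩ := hfact _ (hP.map _) (Subgroup.card_map_of_injective (MulAut.conj g).injective) hle
    obtain ⟨⟨k, hk⟩, hkT⟩ := MulAction.exists_smul_eq K S T
    obtain ⟨u, hu, hku⟩ := hk
    have hn : k * u⁻¹ ∈ N := (hker _).mp (by rw [map_mul, map_inv, hku, mul_inv_cancel])
    refine ⟨k * u⁻¹, hn, (k * u⁻¹)⁻¹ * g, ?_, by group⟩
    have e : P.map (MulAut.conj k).toMonoidHom = P.map (MulAut.conj g).toMonoidHom := by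
      refine Subgroup.eq_of_le_of_card_ge ?_ (le_of_eq ?_)
      · rintro _ ⟨w, hw, rfl⟩
        have h1 : (⟨k, ⟨u, hu, hku⟩⟩ * ⟨w, hPK hw⟩ * ⟨k, ⟨u, hu, hku⟩⟩⁻¹ : K) ∈ (T : Subgroup K) := by
          rw [← hkT, Sylow.coe_subgroup_smul]
          exact Subgroup.smul_mem_pointwise_smul _ (MulAut.conj (⟨k, ⟨u, hu, hku⟩⟩ : K)) _ (hS ▸ hw)
        rw [hT] at h1
        exact h1
      · rw [Subgroup.card_map_of_injective (MulAut.conj g).injective,
          Subgroup.card_map_of_injective (MulAut.conj k).injective]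
    rw [Subgroup.mem_normalizer_iff]
    intro w
    have h2 : ∀ v, k * v * k⁻¹ ∈ P.map (MulAut.conj k).toMonoidHom ↔ v ∈ P := fun v => by
      rw [Subgroup.mem_map_equiv, MulAut.conj_symm_apply]; simp [mul_assoc]
    have h3 : ∀ v, u⁻¹⁻¹ * v * u⁻¹ ∈ P ↔ v ∈ P := fun v => by
      rw [inv_inv]
      exact (Subgroup.mem_normalizer_iff.mp (Subgroup.le_normalizer hu) v).symm
    have h4 : g * w * g⁻¹ ∈ P.map (MulAut.conj g).toMonoidHom ↔ w ∈ P := by
      rw [Subgroup.mem_map_equiv, MulAut.conj_symm_apply]; simp [mul_assoc]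
    have e2 : (k * u⁻¹)⁻¹ * g * w * ((k * u⁻¹)⁻¹ * g)⁻¹ = u⁻¹⁻¹ * (k⁻¹ * (g * w * g⁻¹) * k) * u⁻¹ := by group
    rw [e2, h3, ← h4, ← e, Subgroup.mem_map_equiv, MulAut.conj_symm_apply]
  refine ⟨le_antisymm ?_ ?_, le_antisymm ?_ ?_⟩
  · intro x hx
    obtain ⟨g, rfl⟩ := hsur x
    obtain ⟨n, hn, h, hh, rfl⟩ := key g hx
    exact ⟨h, hh, by rw [map_mul, (hker n).mpr hn, one_mul]⟩
  · exact Subgroup.le_normalizer_map _
  · intro x hx
    obtain ⟨g, rfl⟩ := hsur x
    obtain ⟨n, hn, h, hh, rfl⟩ := key g (Subgroup.centralizer_le_normalizer _ hx)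
    refine ⟨h, Subgroup.mem_centralizer_iff.mpr fun u hu => ?_, by rw [map_mul, (hker n).mpr hn, one_mul]⟩
    have hc := Subgroup.mem_centralizer_iff.mp hx (π u) (Subgroup.mem_map_of_mem _ hu)
    rw [map_mul, (hker n).mpr hn, one_mul] at hc
    have h1 : h * u * h⁻¹ * u⁻¹ = 1 :=
      hdisj _ ((hker _).mp (by rw [map_mul, map_mul, map_mul, map_inv, map_inv, ← hc]; group))
        (mul_mem ((Subgroup.mem_normalizer_iff.mp hh u).mp hu) (inv_mem hu))
    calc u * h = (h * u * h⁻¹ * u⁻¹) * u * h := by rw [h1, one_mul]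
      _ = h * u := by group
  · rintro _ ⟨h, hh, rfl⟩
    rw [Subgroup.mem_centralizer_iff]
    rintro _ ⟨u, hu, rfl⟩
    rw [← map_mul, ← map_mul, Subgroup.mem_centralizer_iff.mp hh u hu]

end Cfsg.Agent.S3800
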