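import Cfsg.Statements.S3802
import Mathlib
import Cfsg.Agent.Lib.Subnormal
-- import your own Cfsg.Agent.* helpers here

set_option autoImplicit false
open Cfsg

namespace Cfsg.Agent.S3802

/-- Let G be a finite group, M a maximal subgroup of G and N a subnormal subgroup of G contained in M. Then N is contained in every conjugate of M, that is, N lies in the core of M in G. -/
theorem result {G : Type*} [Group G] [Finite G] (M N : Subgroup G) (hM : IsCoatom M) (hN : N.IsSubnormal) (hNM : N ≤ M) :
    N ≤ Subgroup.normalCore M := by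
  induction hn : Nat.card G using Nat.strong_induction_on generalizing G with
  | h n ih =>
    subst hn
    rcases subsingleton_or_nontrivial G with hG | hG
    · intro x _
      rw [Subsingleton.elim x 1]; exact one_mem _
    obtain ⟨T, hTn, -, hT0, hmin⟩ := CfsgLib.exists_minimal_normal (N := (⊤ : Subgroup G)) top_ne_bot
    by_cases hTM : T ≤ M
    · have hlt : Nat.card (G ⧸ T) < Nat.card G := by
        rw [Subgroup.card_eq_card_quotient_mul_card_subgroup T]
        have : Nontrivial T := (Subgroup.nontrivial_iff_ne_bot T).mpr hT0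
        exact lt_mul_of_one_lt_right Nat.card_pos Finite.one_lt_card
      have hker : (QuotientGroup.mk' T).ker ≤ M := by rwa [QuotientGroup.ker_mk']
      have hMc : IsCoatom (M.map (QuotientGroup.mk' T)) := by
        have hcm : (M.map (QuotientGroup.mk' T)).comap (QuotientGroup.mk' T) = M :=
          Subgroup.comap_map_eq_self hker
        refine ⟨fun htop => hM.1 ?_, fun L hL => ?_⟩
        · rw [← hcm, htop, Subgroup.comap_top]
        · have h2 : M < L.comap (QuotientGroup.mk' T) := by
            refine lt_of_le_of_ne (hcm.symm.trans_le (Subgroup.comap_mono hL.le)) fun he => hL.ne ?_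
            apply Subgroup.comap_injective (QuotientGroup.mk'_surjective T)
            rw [hcm, ← he]
          apply Subgroup.comap_injective (QuotientGroup.mk'_surjective T)
          rw [hM.2 _ h2, Subgroup.comap_top]
      have h1 := ih _ hlt (M.map (QuotientGroup.mk' T)) (N.map (QuotientGroup.mk' T)) hMc
        (hN.quotient (K := T)) (Subgroup.map_mono hNM) rfl
      intro x hx b
      have h2 := h1 (Subgroup.mem_map_of_mem _ hx) (QuotientGroup.mk' T b)
      rw [← map_inv, ← map_mul, ← map_mul, ← Subgroup.mem_comap, Subgroup.comap_map_eq_self hker] at h2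
      exact h2
    · intro x hx b
      have htop : T ⊔ M = ⊤ := hM.2 _ (lt_of_le_of_ne le_sup_right fun he => hTM (he ▸ le_sup_left))
      have hb : b⁻¹ ∈ ((T ⊔ M : Subgroup G) : Set G) := htop ▸ Subgroup.mem_top _
      rw [Subgroup.normal_mul] at hb
      obtain ⟨t, ht, m, hm, htm⟩ := Set.mem_mul.mp hb
      have hnorm := CfsgLib.minimal_normal_le_normalizer hmin hN (inv_mem ht)
      have h2 : t⁻¹ * x * t⁻¹⁻¹ ∈ N := (Subgroup.mem_normalizer_iff.mp hnorm x).mp hx
      have hb' : b = m⁻¹ * t⁻¹ := by
        rw [← inv_inv b, ← htm, mul_inv_rev]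
      rw [hb', show m⁻¹ * t⁻¹ * x * (m⁻¹ * t⁻¹)⁻¹ = m⁻¹ * (t⁻¹ * x * t⁻¹⁻¹) * m by group]
      exact M.mul_mem (M.mul_mem (M.inv_mem hm) (hNM h2)) hm

end Cfsg.Agent.S3802
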