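import Cfsg.Statements.S3803
import Mathlib
import Cfsg.Agent.Lib.SmallElements
import Cfsg.Agent.Lib.CoprimeGen
import Cfsg.Agent.Lib.Elementary
import Cfsg.Agent.Lib.PSolvable
import Cfsg.Agent.Lib.Local
-- import your own Cfsg.Agent.* helpers here

set_option autoImplicit false
open Cfsg

namespace Cfsg.Agent.S3803

universe uu

/-- A non-cyclic group with a cyclic subgroup of index two has a non-cyclic subgroup of order eight. -/
private theorem exists_eight {H : Type uu} [Group H] [Finite H] (hH : ¬ IsCyclic H) (a : H) {m : ℕ} (hm : 3 ≤ m)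
    (ha : orderOf a = 2 ^ m) (hidx : (Subgroup.zpowers a).index = 2) {x : H} (hxa : x ∈ Subgroup.zpowers a)
    (hx : x ^ 4 = 1) : ∃ K : Subgroup H, x ∈ K ∧ Nat.card K = 8 ∧ ¬ IsCyclic K := by
  set A := Subgroup.zpowers a with hA
  have hAn : A.Normal := Subgroup.normal_of_index_eq_two hidx
  obtain ⟨b, hb⟩ : ∃ b, b ∉ A := by
    by_contra hall
    push Not at hall
    rw [Subgroup.index_eq_one.mpr (eq_top_iff.mpr fun y _ => hall y)] at hidx
    omega
  obtain ⟨r, hr⟩ : ∃ r : ℤ, a ^ r = b * a * b⁻¹ := Subgroup.mem_zpowers_iff.mp (hAn.conj_mem a (Subgroup.mem_zpowers a) b)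
  obtain ⟨w, hw⟩ : ∃ w : ℤ, a ^ w = b ^ 2 := Subgroup.mem_zpowers_iff.mp (Subgroup.sq_mem_of_index_two hidx b)
  have hzeq : ∀ i j : ℤ, a ^ i = a ^ j ↔ (2 : ℤ) ^ m ∣ j - i := fun i j => by
    rw [eq_comm, ← mul_inv_eq_one, ← zpow_neg, ← zpow_add, ← orderOf_dvd_iff_zpow_eq_one, ha, sub_eq_add_neg]
    norm_num
  have hconj : ∀ k : ℤ, b * a ^ k = a ^ (r * k) * b := fun k => by
    rw [zpow_mul, hr, conj_zpow, inv_mul_cancel_right]
  have hweven : (2 : ℤ) ∣ w := by
    by_contra hodd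
    apply hH
    have hcard : Nat.card H = 2 ^ (m + 1) := by
      rw [← A.card_mul_index, hidx, hA, Nat.card_zpowers, ha, pow_succ]
    refine isCyclic_of_orderOf_eq_card b ?_
    have h1 : orderOf (b ^ 2) = 2 ^ m := by
      rw [← hw]
      refine dvd_antisymm (ha ▸ orderOf_dvd_of_mem_zpowers (Subgroup.zpow_mem_zpowers a w)) ?_
      have h2 : a ^ (w * (orderOf (a ^ w) : ℤ)) = a ^ (0 : ℤ) := by rw [zpow_mul, zpow_natCast, pow_orderOf_eq_one, zpow_zero]
      rw [hzeq, zero_sub, dvd_neg] at h2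
      have hcop : IsCoprime ((2 : ℤ) ^ m) w := ((Int.prime_two.coprime_iff_not_dvd).mpr hodd).pow_left
      have h3 := hcop.dvd_of_dvd_mul_left h2
      exact_mod_cast h3
    have h2 : 2 ∣ orderOf b := by
      by_contra hodd'
      apply hb
      obtain ⟨k, hk⟩ : Odd (orderOf b) := Nat.not_even_iff_odd.mp (fun h => hodd' h.two_dvd)
      have h4 : b = ((b ^ 2) ^ k)⁻¹ := by
        rw [eq_inv_iff_mul_eq_one, ← pow_mul, ← pow_succ', ← hk, pow_orderOf_eq_one]
      rw [h4]
      exact A.inv_mem (A.pow_mem (Subgroup.sq_mem_of_index_two hidx b) k)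
    rw [hcard, pow_succ, ← h1, orderOf_pow b, Nat.gcd_eq_right h2, Nat.div_mul_cancel h2]
  obtain ⟨u, rfl⟩ := hweven
  obtain ⟨i, hi⟩ : ∃ i : ℤ, (2 : ℤ) ^ (m - 1) ∣ i * (1 + r) + 2 * u := by
    obtain ⟨q, rfl⟩ : ∃ q, m = q + 2 := ⟨m - 2, by omega⟩
    rw [show q + 2 - 1 = q + 1 by omega]
    have e1 : (2 : ℤ) ^ (q + 2) ∣ 2 * u * r - 2 * u := by
      rw [← hzeq, show (2 : ℤ) * u * r = r * (2 * u) by ring, zpow_mul a r, hr, conj_zpow, hw]
      group
    have hrodd : ¬ (2 : ℤ) ∣ r := by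
      rintro ⟨l, rfl⟩
      have h1 : (b * a * b⁻¹) ^ 2 ^ (q + 1) = 1 := by
        rw [← hr, ← zpow_natCast, ← zpow_mul, ← zpow_zero a, hzeq]
        push_cast
        exact ⟨-l, by rw [pow_succ (2 : ℤ) (q + 1)]; ring⟩
      rw [conj_pow, conj_eq_one_iff, ← orderOf_dvd_iff_pow_eq_one, ha] at h1
      have := (Nat.pow_dvd_pow_iff_le_right (by norm_num)).mp h1
      omega
    obtain ⟨v, hv⟩ : (2 : ℤ) ∣ 1 + r := by omega
    by_cases hvodd : (2 : ℤ) ∣ v
    · refine ⟨0, ?_⟩
      have hcop : IsCoprime ((2 : ℤ) ^ (q + 1)) (v - 1) := ((Int.prime_two.coprime_iff_not_dvd).mpr (by omega)).pow_left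
      rw [show 2 * u * r - 2 * u = 2 * ((v - 1) * (2 * u)) by linear_combination (2 * u) * hv, pow_succ', mul_dvd_mul_iff_left two_ne_zero] at e1
      rw [zero_mul, zero_add]
      exact hcop.dvd_of_dvd_mul_left e1
    · obtain ⟨c, e, hce⟩ : IsCoprime v ((2 : ℤ) ^ q) := (((Int.prime_two.coprime_iff_not_dvd).mpr hvodd).pow_left).symm
      refine ⟨-u * c, e * u, ?_⟩
      rw [hv, pow_succ']
      linear_combination (-2 * u) * hce
  set b' := a ^ i * b with hb'
  have hb'A : b' ∉ A := fun h => hb ((Subgroup.mul_mem_cancel_left _ (Subgroup.zpow_mem_zpowers a i)).mp h)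
  have hsq : b' ^ 2 = a ^ (i * (1 + r) + 2 * u) := by
    rw [hb', pow_two, show a ^ i * b * (a ^ i * b) = a ^ i * (b * a ^ i) * b by group, hconj,
      show a ^ i * (a ^ (r * i) * b) * b = a ^ i * a ^ (r * i) * b ^ 2 by rw [pow_two]; group, ← hw, ← zpow_add, ← zpow_add]
    congr 1; ring
  set B := Subgroup.zpowers (a ^ (2 ^ (m - 2) : ℕ)) with hB
  have hBA : B ≤ A := Subgroup.zpowers_le.mpr (Subgroup.pow_mem _ (Subgroup.mem_zpowers a) _)
  have hBn : B.Normal := by
    refine ⟨fun t ht g => ?_⟩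
    obtain ⟨l, rfl⟩ := Subgroup.mem_zpowers_iff.mp ht
    rw [← conj_zpow, ← conj_pow]
    obtain ⟨s, hs⟩ := Subgroup.mem_zpowers_iff.mp (hAn.conj_mem a (Subgroup.mem_zpowers a) g)
    rw [← hs, ← zpow_natCast (a ^ s), ← zpow_mul, ← zpow_mul, show s * (((2 ^ (m - 2) : ℕ) : ℤ) * l) = ((2 ^ (m - 2) : ℕ) : ℤ) * (s * l) by ring, zpow_mul, zpow_natCast]
    exact B.zpow_mem (Subgroup.mem_zpowers _) _
  have hBc : Nat.card B = 4 := by
    rw [hB, Nat.card_zpowers, orderOf_pow, ha, Nat.gcd_eq_right (pow_dvd_pow 2 (Nat.sub_le m 2)),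
      Nat.pow_div (Nat.sub_le m 2) (by norm_num), show m - (m - 2) = 2 by omega]
  have hmemB : ∀ k : ℤ, (2 : ℤ) ^ (m - 2) ∣ k → a ^ k ∈ B := by
    rintro k ⟨l, rfl⟩
    refine ⟨l, ?_⟩
    show (a ^ (2 ^ (m - 2) : ℕ)) ^ l = _
    rw [← zpow_natCast, ← zpow_mul]; norm_num
  set π := QuotientGroup.mk' B
  set K := (Subgroup.zpowers (π b')).comap π with hK
  have hb2 : b' ^ 2 ∈ B := hsq ▸ hmemB _ ((pow_dvd_pow 2 (by omega : m - 2 ≤ m - 1)).trans hi)
  have hπo : orderOf (π b') = 2 := by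
    refine orderOf_eq_prime ?_ fun e => hb'A (hBA ((QuotientGroup.eq_one_iff b').mp e))
    rw [← map_pow]; exact (QuotientGroup.eq_one_iff _).mpr hb2
  have hKc : Nat.card K = 8 := by rw [hK, CfsgLib.card_comap_mk, hBc, Nat.card_zpowers, hπo]
  have hBK : B ≤ K := fun t ht => by
    rw [hK, Subgroup.mem_comap, show π t = 1 from (QuotientGroup.eq_one_iff t).mpr ht]; exact one_mem _
  refine ⟨K, hBK ?_, hKc, fun hc => ?_⟩
  · obtain ⟨k, rfl⟩ := Subgroup.mem_zpowers_iff.mp hxa
    refine hmemB k ?_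
    rw [← zpow_natCast, ← zpow_mul, ← zpow_zero a, hzeq, zero_sub, dvd_neg] at hx
    rw [show (2 : ℤ) ^ m = 2 ^ (m - 2) * 4 by rw [show (4 : ℤ) = 2 ^ 2 by norm_num, ← pow_add, show m - 2 + 2 = m by omega],
      show k * ((4 : ℕ) : ℤ) = k * 4 by norm_num, mul_dvd_mul_iff_right (by norm_num : (4 : ℤ) ≠ 0)] at hx
    exact hx
  · obtain ⟨⟨g, hg⟩, hgen⟩ := hc.exists_generator
    have h8 : orderOf g = 8 := by rw [← Subgroup.orderOf_mk g hg, orderOf_eq_card_of_forall_mem_zpowers hgen, hKc]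
    have hB4 : ∀ t ∈ B, t ^ 4 = 1 := fun t ht => orderOf_dvd_iff_pow_eq_one.mp (hBc ▸ Subgroup.orderOf_dvd_natCard B ht)
    have h4 : g ^ 4 = 1 := by
      obtain ⟨l, hl⟩ := Subgroup.mem_zpowers_iff.mp (show π g ∈ Subgroup.zpowers (π b') from hg)
      rw [← zpow_mod_orderOf, hπo] at hl
      rcases Int.emod_two_eq_zero_or_one l with h | h
      · rw [show l % ((2 : ℕ) : ℤ) = 0 from h, zpow_zero] at hl
        exact hB4 g ((QuotientGroup.eq_one_iff g).mp hl.symm)
      · rw [show l % ((2 : ℕ) : ℤ) = 1 from h, zpow_one] at hl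
        have ht : b'⁻¹ * g ∈ B := QuotientGroup.eq.mp hl
        obtain ⟨k, hk⟩ := Subgroup.mem_zpowers_iff.mp ht
        have hg' : g = a ^ i * (b * a ^ ((2 ^ (m - 2) : ℤ) * k)) := by
          rw [show ((2 ^ (m - 2) : ℤ)) = ((2 ^ (m - 2) : ℕ) : ℤ) by norm_num, zpow_mul, zpow_natCast, hk, ← mul_assoc, ← hb', mul_inv_cancel_left]
        set T := (2 ^ (m - 2) : ℤ) * k with hT
        have hg2 : g ^ 2 = a ^ ((i + r * T) * (1 + r) + 2 * u) := by
          rw [hg', hconj, ← mul_assoc, ← zpow_add, pow_two,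
            show a ^ (i + r * T) * b * (a ^ (i + r * T) * b) = a ^ (i + r * T) * (b * a ^ (i + r * T)) * b by group, hconj,
            show ∀ X Y : H, X * (Y * b) * b = X * Y * b ^ 2 from fun X Y => by rw [pow_two]; group, ← hw, ← zpow_add, ← zpow_add]
          congr 1; ring
        rw [show (4 : ℕ) = 2 * 2 from rfl, pow_mul, hg2, ← zpow_natCast, ← zpow_mul, ← zpow_zero a, hzeq, zero_sub, dvd_neg]
        have hrodd : (2 : ℤ) ∣ 1 + r := by
          by_contra hr2
          have hre : (2 : ℤ) ∣ r := by omega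
          obtain ⟨l, rfl⟩ := hre
          have h1 : (b * a * b⁻¹) ^ 2 ^ (m - 1) = 1 := by
            rw [← hr, ← zpow_natCast, ← zpow_mul, ← zpow_zero a, hzeq]
            push_cast
            exact ⟨-l, by rw [show (2 : ℤ) ^ m = 2 ^ (m - 1) * 2 by rw [← pow_succ, show m - 1 + 1 = m by omega]]; ring⟩
          rw [conj_pow, conj_eq_one_iff, ← orderOf_dvd_iff_pow_eq_one, ha] at h1
          have := (Nat.pow_dvd_pow_iff_le_right (by norm_num)).mp h1
          omega
        obtain ⟨v, hv⟩ := hrodd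
        obtain ⟨z, hz⟩ := hi
        refine ⟨z + r * k * v, ?_⟩
        rw [hT, show (2 : ℤ) ^ m = 2 ^ (m - 1) * 2 by rw [← pow_succ, show m - 1 + 1 = m by omega]]
        rw [show (2 : ℤ) ^ (m - 1) = 2 ^ (m - 2) * 2 by rw [← pow_succ, show m - 2 + 1 = m - 1 by omega]] at hz ⊢
        push_cast
        linear_combination (2 : ℤ) * hz + (2 * r * (2 : ℤ) ^ (m - 2) * k) * hv
    have := orderOf_dvd_of_pow_eq_one h4
    rw [h8] at this
    norm_num at this

/-- In a non-cyclic 2-group an element of order at most four lies in a small non-cyclic subgroup. -/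
private theorem exists_small {G : Type uu} [Group G] [Finite G] (hG : IsPGroup 2 G) (hnc : ¬ IsCyclic G) (x : G)
    (hx : x ^ 4 = 1) : ∃ (K : Subgroup G) (l : ℕ), x ∈ K ∧ l ≤ 3 ∧ Nat.card K = 2 ^ l ∧ ¬ IsCyclic K := by
  have := Fact.mk Nat.prime_two
  obtain ⟨Y, ⟨hxY, hYc⟩, hmax⟩ := (Set.toFinite {Y : Subgroup G | x ∈ Y ∧ IsCyclic Y}).exists_maximal
    ⟨Subgroup.zpowers x, Subgroup.mem_zpowers x, inferInstance⟩
  obtain ⟨m, hm⟩ := (hG.to_subgroup Y).exists_card_eq
  obtain ⟨n, hn⟩ := hG.exists_card_eq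
  have hmn : m < n := by
    by_contra hc
    have h1 : Nat.card Y = Nat.card G := le_antisymm (Subgroup.card_le_card_group Y)
      (by rw [hm, hn]; exact Nat.pow_le_pow_right (by norm_num) (by omega))
    exact hnc (isCyclic_of_surjective (Subgroup.topEquiv.toMonoidHom.comp (Subgroup.inclusion (Subgroup.eq_top_of_card_eq Y h1).le))
      (fun g => ⟨⟨g, by rw [Subgroup.eq_top_of_card_eq Y h1]; trivial⟩, rfl⟩))
  obtain ⟨H, hH, hYH⟩ := Sylow.exists_subgroup_card_pow_succ (p := 2) (n := m) (hn ▸ pow_dvd_pow 2 hmn) hm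
  have hHnc : ¬ IsCyclic H := fun hc => by
    have h1 : Nat.card H ≤ Nat.card Y := Subgroup.card_le_of_le (hmax ⟨hYH hxY, hc⟩ hYH)
    rw [hH, hm] at h1
    exact absurd h1 (not_le.mpr (Nat.pow_lt_pow_right (by norm_num) (Nat.lt_succ_self m)))
  by_cases hm3 : 3 ≤ m
  · obtain ⟨⟨a, haY⟩, hgen⟩ := hYc.exists_generator
    have hao : orderOf (⟨a, hYH haY⟩ : H) = 2 ^ m := by
      rw [Subgroup.orderOf_mk, ← Subgroup.orderOf_mk a haY, orderOf_eq_card_of_forall_mem_zpowers hgen, hm]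
    have hidx : (Subgroup.zpowers (⟨a, hYH haY⟩ : H)).index = 2 := by
      have h := (Subgroup.zpowers (⟨a, hYH haY⟩ : H)).card_mul_index
      rw [Nat.card_zpowers, hao, hH, pow_succ] at h
      exact Nat.eq_of_mul_eq_mul_left (pow_pos two_pos m) h
    have hxa : (⟨x, hYH hxY⟩ : H) ∈ Subgroup.zpowers (⟨a, hYH haY⟩ : H) := by
      obtain ⟨k, hk⟩ := hgen ⟨x, hxY⟩
      have hk' : a ^ k = x := congrArg Subtype.val hk
      exact ⟨k, Subtype.ext (by simpa using hk')⟩
    obtain ⟨K, hxK, hKc, hKnc⟩ := exists_eight hHnc (⟨a, hYH haY⟩ : H) hm3 hao hidx hxa (Subtype.ext (by simpa using hx))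
    refine ⟨K.map H.subtype, 3, ⟨_, hxK, rfl⟩, le_rfl, by rw [Subgroup.card_map_of_injective H.subtype_injective, hKc]; norm_num, fun hc => hKnc ?_⟩
    exact (K.equivMapOfInjective H.subtype H.subtype_injective).isCyclic.mpr hc
  · exact ⟨H, m + 1, hYH hxY, by omega, hH, hHnc⟩

/-- Let P be a 2-subgroup and A a subgroup of odd order of a finite group, with A normalizing P. Let D ≤ P with 1 < |D| < |P|. If every subgroup of P of order |D|, and also every subgroup of P of order 4 in case |D| = 2, is normalized by A, then A centralizes P. -/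
theorem result {X : Type*} [Group X] [Finite X] (P A D : Subgroup X) (hP : IsPGroup 2 P) (hA : Odd (Nat.card A))
    (hAP : A ≤ Subgroup.normalizer (P : Set X)) (hDP : D ≤ P) (hD1 : 1 < Nat.card D) (hD2 : Nat.card D < Nat.card P)
    (hinv : ∀ E : Subgroup X, E ≤ P → (Nat.card E = Nat.card D ∨ (Nat.card D = 2 ∧ Nat.card E = 4)) → A ≤ Subgroup.normalizer (E : Set X)) :
    A ≤ Subgroup.centralizer (P : Set X) := by
  classical
  have := Fact.mk Nat.prime_two
  obtain ⟨j, hj⟩ := (hP.to_le hDP).exists_card_eq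
  obtain ⟨n, hn⟩ := hP.exists_card_eq
  have hj1 : 1 ≤ j := by
    rcases Nat.eq_zero_or_pos j with rfl | h
    · rw [hj, pow_zero] at hD1; omega
    · exact h
  have hjn : j < n := (Nat.pow_lt_pow_iff_right (by norm_num)).mp (hj ▸ hn ▸ hD2)
  intro a ha
  have hodd : ∀ y : X, a * (a * y * a⁻¹) * a⁻¹ = y → a * y * a⁻¹ = y := by
    intro y hy
    have h2 : a * a ∈ Subgroup.centralizer ({y} : Set X) := by
      rw [Subgroup.mem_centralizer_singleton_iff]
      calc a * a * y = a * (a * y * a⁻¹) * a⁻¹ * (a * a) := by group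
        _ = y * (a * a) := by rw [hy]
    obtain ⟨k, hk⟩ : Odd (orderOf a) := hA.of_dvd_nat (Subgroup.orderOf_dvd_natCard A ha)
    have h3 := Subgroup.pow_mem _ h2 (k + 1)
    rw [← pow_two, ← pow_mul, show 2 * (k + 1) = orderOf a + 1 by omega, pow_succ, pow_orderOf_eq_one, one_mul,
      Subgroup.mem_centralizer_singleton_iff] at h3
    rw [h3, mul_inv_cancel_right]
  -- invariant subgroups of order at most four are centralized
  have hfix : ∀ x : X, x ^ 4 = 1 → a * x * a⁻¹ ∈ Subgroup.zpowers x → a * x * a⁻¹ = x := by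
    intro x hx hmem
    obtain ⟨i, hi⟩ := mem_powers_iff_mem_zpowers.mpr hmem
    simp only at hi
    have hi' : a * x * a⁻¹ = x ^ (i % 4) := by
      rw [← hi]; conv_lhs => rw [← Nat.mod_add_div i 4, pow_add, pow_mul, hx, one_pow, mul_one]
    have hlt : i % 4 < 4 := Nat.mod_lt _ (by norm_num)
    interval_cases h : i % 4
    · rw [pow_zero, conj_eq_one_iff] at hi'; simp [hi']
    · rwa [pow_one] at hi'
    · have h2 : x ^ 2 = 1 := by
        have h3 : (a * x * a⁻¹) ^ 2 = 1 := by rw [hi', ← pow_mul, hx]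
        rwa [conj_pow, conj_eq_one_iff] at h3
      rw [h2, conj_eq_one_iff] at hi'
      simp [hi']
    · refine hodd x ?_
      rw [hi', show a * x ^ 3 * a⁻¹ = (a * x * a⁻¹) ^ 3 from (conj_pow).symm, hi', ← pow_mul,
        show 3 * 3 = 4 * 2 + 1 by norm_num, pow_add, pow_mul, hx, one_pow, one_mul, pow_one]
  have hsmall : ∀ x ∈ P, x ^ 4 = 1 → a * x * a⁻¹ = x := by
    intro x hxP hx
    rcases Nat.lt_or_ge j 2 with hj2 | hj2
    · refine hfix x hx ?_
      by_cases hx1 : x = 1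
      · simp [hx1]
      have hD : Nat.card D = 2 := by rw [hj, show j = 1 by omega, pow_one]
      obtain ⟨l, hl, hlo⟩ := (Nat.dvd_prime_pow Nat.prime_two).mp (show orderOf x ∣ 2 ^ 2 from orderOf_dvd_of_pow_eq_one hx)
      have hinvx := hinv (Subgroup.zpowers x) (Subgroup.zpowers_le.mpr hxP) (by
        rw [Nat.card_zpowers, hlo, hD]
        interval_cases l
        · exact absurd (orderOf_eq_one_iff.mp hlo) hx1
        · exact Or.inl rfl
        · exact Or.inr ⟨rfl, rfl⟩)
      exact (Subgroup.mem_normalizer_iff.mp (hinvx ha) x).mp (Subgroup.mem_zpowers x)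
    by_cases hPc : IsCyclic P
    · refine hfix x hx ?_
      have hyP : a * x * a⁻¹ ∈ P := (Subgroup.mem_normalizer_iff.mp (hAP ha) x).mp hxP
      have ho : orderOf (⟨a * x * a⁻¹, hyP⟩ : P) = orderOf (⟨x, hxP⟩ : P) := by
        rw [Subgroup.orderOf_mk, Subgroup.orderOf_mk]
        exact (MulAut.conj a).orderOf_eq x
      have hset : ∀ w : P, (Subgroup.zpowers w : Set P) = {z : P | z ^ orderOf w = 1} := by
        intro w
        have : Fintype P := Fintype.ofFinite P
        refine Set.eq_of_subset_of_ncard_le ?_ ?_ (Set.toFinite _)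
        · intro z hz
          exact orderOf_dvd_iff_pow_eq_one.mp (orderOf_dvd_of_mem_zpowers hz)
        · rw [← Nat.card_coe_set_eq (s := (Subgroup.zpowers w : Set P)),
            show Nat.card ↥(Subgroup.zpowers w : Set P) = orderOf w from Nat.card_zpowers w,
            Set.ncard_eq_toFinset_card', Set.toFinset_ofFinset]
          exact hPc.card_pow_eq_one_le (orderOf_pos w)
      have hm : (⟨a * x * a⁻¹, hyP⟩ : P) ∈ (Subgroup.zpowers (⟨x, hxP⟩ : P) : Set P) := by
        rw [hset, ← ho]; exact pow_orderOf_eq_one _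
      obtain ⟨k, hk⟩ := hm
      exact ⟨k, by simpa using congrArg Subtype.val hk⟩
    · obtain ⟨K, l, hxK, hl, hKc, hKnc⟩ := exists_small hP hPc (⟨x, hxP⟩ : P) (Subtype.ext (by simpa using hx))
      obtain ⟨L, hLc, hKL⟩ := Sylow.exists_subgroup_card_pow_prime_le (G := P) 2 (n := l) (m := j + 1)
        (hn ▸ pow_dvd_pow 2 hjn) K hKc (by omega)
      set G1 := L.map P.subtype with hG1
      have hG1P : G1 ≤ P := Subgroup.map_subtype_le L
      have hcard : Nat.card G1 = 2 ^ (j + 1) := by rw [hG1, Subgroup.card_map_of_injective P.subtype_injective, hLc]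
      have hG1nc : ¬ IsCyclic G1 := fun hc => hKnc (isCyclic_of_injective ((L.equivMapOfInjective P.subtype P.subtype_injective).toMonoidHom.comp (Subgroup.inclusion hKL))
        ((L.equivMapOfInjective P.subtype P.subtype_injective).injective.comp (Subgroup.inclusion_injective hKL)))
      have hG1p : IsPGroup 2 G1 := IsPGroup.of_card hcard
      have hco : ∀ M : Subgroup G1, IsCoatom M → M.index = 2 ∧ ∀ y : G1, (y ∈ M ↔ a * y * a⁻¹ ∈ M.map G1.subtype) := by
        intro M hM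
        have hMi := (CfsgLib.index_coatom_pGroup hG1p hM).2
        refine ⟨hMi, fun y => ?_⟩
        have hMc : Nat.card (M.map G1.subtype) = Nat.card D := by
          have h := M.card_mul_index
          rw [hMi, hcard, pow_succ] at h
          rw [Subgroup.card_map_of_injective G1.subtype_injective, hj]
          exact Nat.eq_of_mul_eq_mul_right two_pos h
        have hn' := Subgroup.mem_normalizer_iff.mp (hinv _ ((Subgroup.map_subtype_le M).trans hG1P) (Or.inl hMc) ha) (y : X)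
        rw [← hn']
        exact ⟨fun h => ⟨y, h, rfl⟩, fun ⟨z, hz, e⟩ => by rwa [← Subtype.ext e]⟩
      have hG1n : ∀ y ∈ G1, a * y * a⁻¹ ∈ G1 := by
        intro y hy
        have hne : Subgroup.zpowers (⟨y, hy⟩ : G1) ≠ ⊤ := fun e => hG1nc ⟨⟨_, fun z => e ▸ Subgroup.mem_top z⟩⟩
        obtain ⟨M, hM, hle⟩ := (eq_top_or_exists_le_coatom (Subgroup.zpowers (⟨y, hy⟩ : G1))).resolve_left hne
        exact Subgroup.map_subtype_le M (((hco M hM).2 ⟨y, hy⟩).mp (hle (Subgroup.mem_zpowers _)))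
      have hnorm : ∀ b ∈ Subgroup.zpowers a, b ∈ Subgroup.normalizer (G1 : Set X) := by
        refine fun b hb => (Subgroup.zpowers_le.mpr ?_) hb
        refine CfsgLib.Local.mem_normalizer_of_map_conj_eq ?_
        refine Subgroup.eq_of_le_of_card_ge ?_ ((Subgroup.card_map_of_injective (MulAut.conj a).injective).ge)
        rintro _ ⟨y, hy, rfl⟩
        exact hG1n y hy
      have hcent := CfsgLib.centralize_of_trivial_mod_frattini (A := Subgroup.zpowers a) (K := G1) hnorm (by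
          rw [Nat.card_zpowers]
          obtain ⟨k, hk⟩ := (hG1p.to_subgroup (frattini G1)).exists_card_eq
          rw [hk]
          exact ((Nat.coprime_two_right).mpr (hA.of_dvd_nat (Subgroup.orderOf_dvd_natCard A ha))).pow_right k) (by
          intro b hb y hy
          have hby : b * y * b⁻¹ * y⁻¹ ∈ G1 := G1.mul_mem ((Subgroup.mem_normalizer_iff.mp (hnorm b hb) y).mp hy) (G1.inv_mem hy)
          refine ⟨⟨_, hby⟩, ?_, rfl⟩
          rw [frattini, Order.radical, SetLike.mem_coe, Subgroup.mem_iInf]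
          intro M
          rw [Subgroup.mem_iInf]
          intro hM
          obtain ⟨hMi, hMinv⟩ := hco M hM
          have hall : b ∈ Subgroup.normalizer (M.map G1.subtype : Set X) :=
            (Subgroup.zpowers_le.mpr (hinv _ ((Subgroup.map_subtype_le M).trans hG1P) (Or.inl (by
              have h := M.card_mul_index
              rw [hMi, hcard, pow_succ] at h
              rw [Subgroup.card_map_of_injective G1.subtype_injective, hj]
              exact Nat.eq_of_mul_eq_mul_right two_pos h)) ha)) hb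
          have hz := (Subgroup.mem_normalizer_iff.mp (hnorm b hb) y).mp hy
          have hiff : (⟨y, hy⟩ : G1) ∈ M ↔ (⟨_, hz⟩ : G1) ∈ M := by
            have h := Subgroup.mem_normalizer_iff.mp hall y
            exact ⟨fun h0 => by obtain ⟨z, hz', e⟩ := h.mp ⟨_, h0, rfl⟩; rwa [← show z = (⟨_, hz⟩ : G1) from Subtype.ext e],
              fun h0 => by obtain ⟨z, hz', e⟩ := h.mpr ⟨_, h0, rfl⟩; rwa [← show z = (⟨y, hy⟩ : G1) from Subtype.ext e]⟩
          have e : (⟨_, hby⟩ : G1) = (⟨_, hz⟩ : G1) * (⟨y, hy⟩ : G1)⁻¹ := rfl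
          rw [e, Subgroup.mul_mem_iff_of_index_two hMi, inv_mem_iff]
          exact hiff.symm)
      have hxG1 : x ∈ G1 := ⟨⟨x, hxP⟩, hKL hxK, rfl⟩
      have h1 := Subgroup.mem_centralizer_iff.mp (hcent (Subgroup.mem_zpowers a)) x hxG1
      rw [← h1, mul_inv_cancel_right]
  -- hence everything
  let α : MulAut P := Subgroup.normalizerMonoidHom P ⟨a, hAP ha⟩
  have hα : α = 1 := by
    refine CfsgLib.Small.eq_one_of_fixes_small (p := 2) hP ?_ fun y hy => Subtype.ext ?_
    · refine Nat.Coprime.coprime_dvd_left (orderOf_map_dvd _ _) ?_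
      rw [Subgroup.orderOf_mk, Nat.coprime_two_right]
      exact hA.of_dvd_nat (Subgroup.orderOf_dvd_natCard A ha)
    · refine hsmall y y.2 ?_
      have := congrArg Subtype.val hy
      simpa [CfsgLib.Small.smallExp] using this
  intro y hy
  have h1 : a * y * a⁻¹ = y := congrArg Subtype.val (MulEquiv.congr_fun hα ⟨y, hy⟩)
  exact (mul_inv_eq_iff_eq_mul.mp h1).symm

end Cfsg.Agent.S3803
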