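import Cfsg.Statements.S3804
import Mathlib
-- import your own Cfsg.Agent.* helpers here

set_option autoImplicit false
open Cfsg

namespace Cfsg.Agent.S3804

theorem card_product {X : Type*} [Group X] [Finite X] (A B : Subgroup X) :
    Nat.card {x : X // ∃ a ∈ A, ∃ b ∈ B, x = a * b} * Nat.card ↥(A ⊓ B) = Nat.card A * Nat.card B := by
  classical
  have := Fintype.ofFinite {x : X // ∃ a ∈ A, ∃ b ∈ B, x = a * b}
  let f : A × B → {x : X // ∃ a ∈ A, ∃ b ∈ B, x = a * b} :=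
    fun q => ⟨q.1 * q.2, q.1, q.1.2, q.2, q.2.2, rfl⟩
  rw [← Nat.card_prod, ← Nat.card_prod]
  symm
  rw [← Nat.card_congr (Equiv.sigmaFiberEquiv f), Nat.card_sigma, Nat.card_prod]
  rw [Nat.card_eq_fintype_card (α := {x : X // ∃ a ∈ A, ∃ b ∈ B, x = a * b}), ← Finset.card_univ, ← smul_eq_mul,
    ← Finset.sum_const]
  refine Finset.sum_congr rfl fun y _ => ?_
  obtain ⟨y, a, ha, b, hb, rfl⟩ := y
  exact Nat.card_congr
    { toFun := fun q => ⟨a⁻¹ * q.1.1, Subgroup.mem_inf.mpr ⟨mul_mem (inv_mem ha) q.1.1.2, by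
        have hq : (q.1.1 : X) * q.1.2 = a * b := congrArg Subtype.val q.2
        have e : a⁻¹ * (q.1.1 : X) = b * (q.1.2 : X)⁻¹ := by
          rw [show (q.1.1 : X) = a * b * (q.1.2 : X)⁻¹ from eq_mul_inv_iff_mul_eq.mpr hq]; group
        rw [e]; exact mul_mem hb (inv_mem q.1.2.2)⟩⟩
      invFun := fun d => ⟨(⟨a * (d : X), mul_mem ha (Subgroup.mem_inf.mp d.2).1⟩,
          ⟨(d : X)⁻¹ * b, mul_mem (inv_mem (Subgroup.mem_inf.mp d.2).2) hb⟩), Subtype.ext (by
        show a * (d : X) * ((d : X)⁻¹ * b) = a * b; group)⟩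
      left_inv := fun q => by
        apply Subtype.ext
        have hq : (q.1.1 : X) * q.1.2 = a * b := congrArg Subtype.val q.2
        refine Prod.ext (Subtype.ext (by show a * (a⁻¹ * (q.1.1 : X)) = _; group)) (Subtype.ext ?_)
        show (a⁻¹ * (q.1.1 : X))⁻¹ * b = q.1.2
        calc (a⁻¹ * (q.1.1 : X))⁻¹ * b = (q.1.1 : X)⁻¹ * (a * b) := by group
          _ = q.1.2 := inv_mul_eq_iff_eq_mul.mpr hq.symm
      right_inv := fun d => Subtype.ext (by show a⁻¹ * (a * (d : X)) = d; group) }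

theorem card_mul_le {X : Type*} [Group X] [Finite X] (A B : Subgroup X) {C : Subgroup X} (hA : A ≤ C) (hB : B ≤ C) :
    Nat.card A * Nat.card B ≤ Nat.card C * Nat.card ↥(A ⊓ B) := by
  rw [← card_product]
  refine Nat.mul_le_mul_right _ (Nat.card_le_card_of_injective
    (fun x => (⟨x.1, by obtain ⟨a, ha, b, hb, e⟩ := x.2; exact e ▸ mul_mem (hA ha) (hB hb)⟩ : C)) fun x y h => ?_)
  exact Subtype.ext (Subtype.mk.inj h)

theorem mem_mul_of_card_eq {X : Type*} [Group X] [Finite X] (A B : Subgroup X) {C : Subgroup X} (hA : A ≤ C) (hB : B ≤ C)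
    (h : Nat.card A * Nat.card B = Nat.card C * Nat.card ↥(A ⊓ B)) {c : X} (hc : c ∈ C) :
    ∃ a ∈ A, ∃ b ∈ B, c = a * b := by
  rw [← card_product] at h
  let g : {x : X // ∃ a ∈ A, ∃ b ∈ B, x = a * b} → C :=
    fun x => ⟨x.1, by obtain ⟨a, ha, b, hb, e⟩ := x.2; exact e ▸ mul_mem (hA ha) (hB hb)⟩
  have hg : Function.Bijective g :=
    (Nat.bijective_iff_injective_and_card g).mpr ⟨fun x y e => Subtype.ext (congrArg Subtype.val e :),
      Nat.eq_of_mul_eq_mul_right Nat.card_pos h⟩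
  obtain ⟨x, hx⟩ := hg.2 ⟨c, hc⟩
  obtain ⟨a, ha, b, hb, e⟩ := x.2
  exact ⟨a, ha, b, hb, (congrArg Subtype.val hx).symm.trans e⟩

/-- Let G and H be subgroups of a finite group with G normalizing H, fix a real number α > 0, and for a subgroup A of G put m(A) = |A|^α · |C_H(A)|. Let A and B be nontrivial subgroups of G at which m attains its maximum over all nontrivial subgroups of G, and assume that A ∩ B ≠ 1 or that this maximum is at least |H|. Then AB = BA is a subgroup at which m is again maximal, C_H(A ∩ B) = C_H(A) C_H(B), and if A ∩ B ≠ 1 then m is maximal at A ∩ B as well. -/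
theorem result {X : Type*} [Group X] [Finite X] (G H : Subgroup X) (hGH : G ≤ Subgroup.normalizer (H : Set X)) (α : ℝ) (hα : 0 < α)
    (A B : Subgroup X) (hA : A ≤ G) (hB : B ≤ G) (hA1 : A ≠ ⊥) (hB1 : B ≠ ⊥)
    (hAmax : ∀ A' : Subgroup X, A' ≤ G → A' ≠ ⊥ → (fun A : Subgroup X => ((Nat.card A : ℝ) ^ α) * (Nat.card ↥(H ⊓ Subgroup.centralizer (A : Set X)) : ℝ)) A' ≤ (fun A : Subgroup X => ((Nat.card A : ℝ) ^ α) * (Nat.card ↥(H ⊓ Subgroup.centralizer (A : Set X)) : ℝ)) A)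
    (hBmax : ∀ A' : Subgroup X, A' ≤ G → A' ≠ ⊥ → (fun A : Subgroup X => ((Nat.card A : ℝ) ^ α) * (Nat.card ↥(H ⊓ Subgroup.centralizer (A : Set X)) : ℝ)) A' ≤ (fun A : Subgroup X => ((Nat.card A : ℝ) ^ α) * (Nat.card ↥(H ⊓ Subgroup.centralizer (A : Set X)) : ℝ)) B)
    (hcase : A ⊓ B ≠ ⊥ ∨ (Nat.card H : ℝ) ≤ (fun A : Subgroup X => ((Nat.card A : ℝ) ^ α) * (Nat.card ↥(H ⊓ Subgroup.centralizer (A : Set X)) : ℝ)) A) :
    (∀ a ∈ A, ∀ b ∈ B, ∃ b' ∈ B, ∃ a' ∈ A, a * b = b' * a') ∧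
    (∀ A' : Subgroup X, A' ≤ G → A' ≠ ⊥ → (fun A : Subgroup X => ((Nat.card A : ℝ) ^ α) * (Nat.card ↥(H ⊓ Subgroup.centralizer (A : Set X)) : ℝ)) A' ≤ (fun A : Subgroup X => ((Nat.card A : ℝ) ^ α) * (Nat.card ↥(H ⊓ Subgroup.centralizer (A : Set X)) : ℝ)) (A ⊔ B)) ∧
    (∀ h ∈ H ⊓ Subgroup.centralizer ((A ⊓ B : Subgroup X) : Set X), ∃ u ∈ H ⊓ Subgroup.centralizer (A : Set X), ∃ v ∈ H ⊓ Subgroup.centralizer (B : Set X), h = u * v) ∧
    (A ⊓ B ≠ ⊥ → ∀ A' : Subgroup X, A' ≤ G → A' ≠ ⊥ → (fun A : Subgroup X => ((Nat.card A : ℝ) ^ α) * (Nat.card ↥(H ⊓ Subgroup.centralizer (A : Set X)) : ℝ)) A' ≤ (fun A : Subgroup X => ((Nat.card A : ℝ) ^ α) * (Nat.card ↥(H ⊓ Subgroup.centralizer (A : Set X)) : ℝ)) (A ⊓ B)) := by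
  classical
  set m : Subgroup X → ℝ := fun A => ((Nat.card A : ℝ) ^ α) * (Nat.card ↥(H ⊓ Subgroup.centralizer (A : Set X)) : ℝ) with hm
  have hsupG : A ⊔ B ≤ G := sup_le hA hB
  have hsup1 : A ⊔ B ≠ ⊥ := fun e => hA1 (le_bot_iff.mp (e ▸ le_sup_left))
  have hpos : ∀ K : Subgroup X, 0 < m K := fun K => by
    have h1 : (0 : ℝ) < Nat.card K := by exact_mod_cast Nat.card_pos
    have h2 : (0 : ℝ) < Nat.card ↥(H ⊓ Subgroup.centralizer (K : Set X)) := by exact_mod_cast Nat.card_pos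
    exact mul_pos (Real.rpow_pos_of_pos h1 _) h2
  have hAB : m A = m B := le_antisymm (hBmax A hA hA1) (hAmax B hB hB1)
  set I := A ⊓ B with hI
  set cA := H ⊓ Subgroup.centralizer (A : Set X) with hcA
  set cB := H ⊓ Subgroup.centralizer (B : Set X) with hcB
  set cS := H ⊓ Subgroup.centralizer ((A ⊔ B : Subgroup X) : Set X) with hcS
  set cI := H ⊓ Subgroup.centralizer (I : Set X) with hcI
  have hcint : cA ⊓ cB = cS := by
    rw [hcA, hcB, hcS]
    ext x
    simp only [Subgroup.mem_inf]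
    constructor
    · rintro ⟨⟨h1, h2⟩, -, h3⟩
      refine ⟨h1, ?_⟩
      have hle : A ⊔ B ≤ Subgroup.centralizer ({x} : Set X) :=
        sup_le (fun a ha => Subgroup.mem_centralizer_singleton_iff.mpr (Subgroup.mem_centralizer_iff.mp h2 a ha))
          (fun a ha => Subgroup.mem_centralizer_singleton_iff.mpr (Subgroup.mem_centralizer_iff.mp h3 a ha))
      exact Subgroup.mem_centralizer_iff.mpr fun y hy => Subgroup.mem_centralizer_singleton_iff.mp (hle hy)
    · rintro ⟨h1, h2⟩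
      exact ⟨⟨h1, Subgroup.centralizer_le (SetLike.coe_subset_coe.mpr le_sup_left) h2⟩, h1,
        Subgroup.centralizer_le (SetLike.coe_subset_coe.mpr le_sup_right) h2⟩
  have hcAI : cA ≤ cI := inf_le_inf_left _ (Subgroup.centralizer_le (SetLike.coe_subset_coe.mpr inf_le_left))
  have hcBI : cB ≤ cI := inf_le_inf_left _ (Subgroup.centralizer_le (SetLike.coe_subset_coe.mpr inf_le_right))
  have hp1 := card_mul_le A B le_sup_left le_sup_right
  have hp2 := card_mul_le cA cB hcAI hcBI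
  rw [hcint] at hp2
  rw [← hI] at hp1
  have hI_le : m I ≤ m A := by
    rcases hcase with h | h
    · exact hAmax I (inf_le_left.trans hA) h
    · by_cases hI1 : I = ⊥
      · refine le_trans ?_ h
        show ((Nat.card I : ℝ) ^ α) * (Nat.card cI : ℝ) ≤ _
        rw [hI1, Subgroup.card_bot, Nat.cast_one, Real.one_rpow, one_mul]
        exact_mod_cast Subgroup.card_le_of_le (inf_le_left : cI ≤ H)
      · exact hAmax I (inf_le_left.trans hA) hI1
  have hS_le : m (A ⊔ B) ≤ m A := hAmax _ hsupG hsup1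
  have e : ∀ K L : Subgroup X, m K * m L = (((Nat.card K * Nat.card L : ℕ) : ℝ) ^ α) *
      ((Nat.card ↥(H ⊓ Subgroup.centralizer (K : Set X)) * Nat.card ↥(H ⊓ Subgroup.centralizer (L : Set X)) : ℕ) : ℝ) := by
    intro K L
    push_cast
    rw [Real.mul_rpow (Nat.cast_nonneg _) (Nat.cast_nonneg _)]
    simp only [hm]; ring
  have hkey : m A * m B ≤ m (A ⊔ B) * m I := by
    rw [e, e]
    refine mul_le_mul (Real.rpow_le_rpow (Nat.cast_nonneg _) (by exact_mod_cast hp1) hα.le) ?_ (Nat.cast_nonneg _)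
      (Real.rpow_nonneg (Nat.cast_nonneg _) _)
    rw [← hcS, ← hcI, mul_comm (Nat.card cS) (Nat.card cI)]
    exact_mod_cast hp2
  have hSeq : m (A ⊔ B) = m A := by
    refine le_antisymm hS_le ?_
    by_contra hlt
    push Not at hlt
    have := mul_lt_mul hlt hI_le (hpos I) (hpos A).le
    rw [hAB] at hkey this
    linarith
  have hIeq : m I = m A := by
    refine le_antisymm hI_le ?_
    have h1 : m A * m A ≤ m A * m I := by
      nth_rw 2 [hAB]
      exact hSeq ▸ hkey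
    exact le_of_mul_le_mul_left h1 (hpos A)
  have heq1 : Nat.card A * Nat.card B = Nat.card ↥(A ⊔ B) * Nat.card I := by
    by_contra hne
    have hlt : Nat.card A * Nat.card B < Nat.card ↥(A ⊔ B) * Nat.card I := lt_of_le_of_ne hp1 hne
    have h1 : m A * m B < m (A ⊔ B) * m I := by
      rw [e, e, ← hcS, ← hcI, mul_comm (Nat.card cS) (Nat.card cI)]
      refine mul_lt_mul (Real.rpow_lt_rpow (Nat.cast_nonneg _) (by exact_mod_cast hlt) hα) (by exact_mod_cast hp2)
        (by exact_mod_cast Nat.mul_pos Nat.card_pos Nat.card_pos) (Real.rpow_nonneg (Nat.cast_nonneg _) _)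
    rw [hSeq, hIeq, ← hAB] at h1
    exact lt_irrefl _ h1
  have heq2 : Nat.card cA * Nat.card cB = Nat.card cI * Nat.card cS := by
    by_contra hne
    have hlt : Nat.card cA * Nat.card cB < Nat.card cI * Nat.card cS := lt_of_le_of_ne hp2 hne
    have h1 : m A * m B < m (A ⊔ B) * m I := by
      rw [e, e, ← hcS, ← hcI, mul_comm (Nat.card cS) (Nat.card cI), ← heq1]
      exact mul_lt_mul_of_pos_left (by exact_mod_cast hlt)
        (Real.rpow_pos_of_pos (by exact_mod_cast Nat.mul_pos Nat.card_pos Nat.card_pos) _)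
    rw [hSeq, hIeq, ← hAB] at h1
    exact lt_irrefl _ h1
  rw [← hcint] at heq2
  refine ⟨fun a ha b hb => ?_, fun A' h1 h2 => (hAmax A' h1 h2).trans hSeq.ge, fun h hh => ?_,
    fun _ A' h1 h2 => (hAmax A' h1 h2).trans hIeq.ge⟩
  · obtain ⟨b', hb', a', ha', hab⟩ := mem_mul_of_card_eq B A le_sup_right le_sup_left
      (by rw [inf_comm B A, mul_comm (Nat.card B), ← hI]; exact heq1)
      (mul_mem (Subgroup.mem_sup_left ha) (Subgroup.mem_sup_right hb) : a * b ∈ A ⊔ B)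
    exact ⟨b', hb', a', ha', hab⟩
  · exact mem_mul_of_card_eq cA cB hcAI hcBI heq2 hh

end Cfsg.Agent.S3804
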