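import Cfsg.Statements.S3806
import Mathlib
import Cfsg.Agent.Lib.MaxClassGood.Apply
-- import your own Cfsg.Agent.* helpers here

set_option autoImplicit false
open Cfsg

namespace Cfsg.Agent.S3806

/-- Let p be a prime and S a finite p-group of order pⁿ (n ≥ 2) of maximal nilpotency class n − 1 whose sectional p-rank is exactly k (every section has p-rank at most k, and some section has p-rank k). If p ≥ k + 2 then the order of S is at most p^(2k). -/
theorem result {S : Type*} [Group S] [Finite S] (p : ℕ) [Fact p.Prime] (hS : IsPGroup p S) [Group.IsNilpotent S]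
    (n : ℕ) (hn : 2 ≤ n) (hcard : Nat.card S = p ^ n) (hmax : Group.nilpotencyClass S = n - 1)
    (k : ℕ) (hk : 1 ≤ k) (hsr : Cfsg.SectionalPRankLE p k S ∧ ¬ Cfsg.SectionalPRankLE p (k - 1) S)
    (hpk : k + 2 ≤ p) : Nat.card S ≤ p ^ (2 * k) := by
  rcases Nat.lt_or_ge n 3 with h | h
  · rw [hcard]
    exact Nat.pow_le_pow_right (Fact.out : p.Prime).pos (by omega)
  · rw [hcard]
    exact Nat.pow_le_pow_right (Fact.out : p.Prime).pos
      (CfsgLib.MaxClassGood.order_le_of_sectional h hcard hmax hk hpk hsr.1)

end Cfsg.Agent.S3806
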