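import Cfsg.Statements.S3807
import Mathlib
import Cfsg.Agent.Lib.ExtraspecialIndexP
-- import your own Cfsg.Agent.* helpers here

set_option autoImplicit false
open Cfsg

namespace Cfsg.Agent.S3807

theorem card_subgroups_of_order_p {E : Type*} [Group E] [Finite E] {p : ℕ} [Fact p.Prime]
    (hc : Nat.card E = p ^ 2) (hexp : ∀ u : E, u ^ p = 1) :
    Nat.card {V : Subgroup E // Nat.card V = p} = p + 1 := by
  classical
  have hp : p.Prime := Fact.out
  have := Fintype.ofFinite E
  have := Fintype.ofFinite {V : Subgroup E // Nat.card V = p}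
  have e : {u : E // u ≠ 1} ≃ Σ V : {V : Subgroup E // Nat.card V = p}, {u : V.1 // u ≠ 1} :=
    { toFun := fun u => ⟨⟨Subgroup.zpowers u.1, by rw [Nat.card_zpowers, orderOf_eq_prime (hexp u.1) u.2]⟩,
        ⟨⟨u.1, Subgroup.mem_zpowers _⟩, fun h => u.2 (congrArg Subtype.val h)⟩⟩
      invFun := fun q => ⟨q.2.1.1, fun h => q.2.2 (Subtype.ext h)⟩
      left_inv := fun _ => rfl
      right_inv := fun q => by
        obtain ⟨⟨V, hV⟩, ⟨u, hu⟩, hu1⟩ := q
        have hu1' : u ≠ 1 := fun h => hu1 (Subtype.ext h)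
        obtain rfl : Subgroup.zpowers u = V := Subgroup.eq_of_le_of_card_ge (Subgroup.zpowers_le.mpr hu)
          (by rw [hV, Nat.card_zpowers, orderOf_eq_prime (hexp u) hu1'])
        rfl }
  have h1 := Nat.card_congr e
  rw [Nat.card_sigma] at h1
  have h2 : ∀ V : {V : Subgroup E // Nat.card V = p}, Nat.card {u : V.1 // u ≠ 1} = p - 1 := by
    intro V
    have := Fintype.ofFinite V.1
    rw [Nat.card_eq_fintype_card, Fintype.card_subtype_compl, Fintype.card_subtype_eq, ← Nat.card_eq_fintype_card, V.2]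
  rw [Finset.sum_congr rfl (fun V _ => h2 V), Finset.sum_const, Finset.card_univ, smul_eq_mul,
    ← Nat.card_eq_fintype_card, Nat.card_eq_fintype_card (α := {u : E // u ≠ 1}), Fintype.card_subtype_compl,
    Fintype.card_subtype_eq, ← Nat.card_eq_fintype_card, hc] at h1
  refine Nat.eq_of_mul_eq_mul_right (Nat.sub_pos_of_lt hp.one_lt) ?_
  rw [← h1, pow_two]
  rcases Nat.exists_eq_add_of_le hp.one_lt.le with ⟨q, rfl⟩
  have e3 : (1 + q) * (1 + q) = (1 + q + 1) * q + 1 := by ring
  rw [e3, Nat.add_sub_cancel, Nat.add_sub_cancel_left]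

/-- Let S be a non-abelian finite p-group with an abelian subgroup A of index p. Then [S : Z(S)] = p·#[S,S], and either [S,S] has order p, S/Z(S) is elementary abelian of order p², and S has exactly p + 1 abelian subgroups of index p; or [S,S] has order at least p² and A is the only abelian subgroup of index p in S. -/
theorem result {S : Type*} [Group S] [Finite S] (p : ℕ) [Fact p.Prime] (hS : IsPGroup p S) (hna : ¬ IsMulCommutative S)
    (A : Subgroup S) (hA : IsMulCommutative ↥A) (hAi : A.index = p) :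
    (Subgroup.center S).index = p * Nat.card (commutator S) ∧
      ((Nat.card (commutator S) = p ∧ Cfsg.IsElementaryAbelian p (⊤ : Subgroup (S ⧸ Subgroup.center S)) ∧
          Nat.card (S ⧸ Subgroup.center S) = p ^ 2 ∧
          Nat.card {B : Subgroup S // IsMulCommutative ↥B ∧ B.index = p} = p + 1) ∨
        (p ^ 2 ≤ Nat.card (commutator S) ∧ ∀ B : Subgroup S, IsMulCommutative ↥B → B.index = p → B = A)) := by
  classical
  have hp : p.Prime := Fact.out
  have := CfsgLib.ExtraspecialIndexP.normal_of_index_prime hS hAi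
  have hAne : A ≠ ⊤ := fun e => hp.ne_one (by rw [← hAi, e, Subgroup.index_top])
  have hcomA : ∀ a ∈ A, ∀ b ∈ A, a * b = b * a := fun a ha b hb =>
    congrArg Subtype.val (hA.is_comm.comm ⟨a, ha⟩ ⟨b, hb⟩)
  have hgen : ∀ (B : Subgroup S), B.index = p → ∀ y, y ∉ B → B ⊔ Subgroup.zpowers y = ⊤ := by
    intro B hB y hy
    by_contra hne
    have h := Subgroup.relIndex_mul_index (le_sup_left : B ≤ B ⊔ Subgroup.zpowers y)
    rw [hB] at h
    rcases hp.eq_one_or_self_of_dvd (B ⊔ Subgroup.zpowers y).index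
      ⟨B.relIndex (B ⊔ Subgroup.zpowers y), by rw [mul_comm]; exact h.symm⟩ with e | e
    · exact hne (Subgroup.index_eq_one.mp e)
    · rw [e] at h
      exact hy (Subgroup.relIndex_eq_one.mp ((Nat.mul_eq_right hp.ne_zero).mp h) (Subgroup.mem_sup_right (Subgroup.mem_zpowers y)))
  obtain ⟨x, hx⟩ : ∃ x, x ∉ A := not_forall.mp fun h => hAne ((Subgroup.eq_top_iff' A).mpr h)
  have hab : ∀ (B : Subgroup S), B.index = p → IsMulCommutative B → ∀ y, (∀ b ∈ B, b * y = y * b) → y ∉ B → False := by
    intro B hB hBc y hyc hy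
    apply hna
    have hcl : IsMulCommutative (Subgroup.closure ((B : Set S) ∪ {y})) := by
      refine Subgroup.isMulCommutative_closure ?_
      rintro a (ha | rfl) b (hb | rfl)
      · exact congrArg Subtype.val (hBc.is_comm.comm ⟨a, ha⟩ ⟨b, hb⟩)
      · exact hyc a ha
      · exact (hyc b hb).symm
      · rfl
    have htop : Subgroup.closure ((B : Set S) ∪ {y}) = ⊤ := by
      rw [Subgroup.closure_union, Subgroup.closure_eq, ← Subgroup.zpowers_eq_closure, hgen B hB y hy]
    rw [htop] at hcl
    exact ⟨⟨fun a b => congrArg Subtype.val (hcl.is_comm.comm ⟨a, trivial⟩ ⟨b, trivial⟩)⟩⟩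
  have hZA : ∀ (B : Subgroup S), B.index = p → IsMulCommutative B → Subgroup.center S ≤ B := by
    intro B hB hBc z hz
    by_contra hzB
    exact hab B hB hBc z (fun b _ => Subgroup.mem_center_iff.mp hz b) hzB
  set Z := Subgroup.center S with hZdef
  -- the map `a ↦ [a, x]` on `A`
  have hcA : ∀ a ∈ A, a * x * a⁻¹ * x⁻¹ ∈ A := fun a ha => by
    have h1 := Subgroup.Normal.conj_mem (inferInstance : A.Normal) _ (inv_mem ha) x
    simpa [mul_assoc] using mul_mem ha h1
  let f : A →* S := MonoidHom.mk' (fun a => (a : S) * x * (a : S)⁻¹ * x⁻¹) (fun a b => by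
    show (a : S) * b * x * ((a : S) * b)⁻¹ * x⁻¹ = ((a : S) * x * (a : S)⁻¹ * x⁻¹) * ((b : S) * x * (b : S)⁻¹ * x⁻¹)
    have hc := hcomA _ a.2 _ (hcA _ b.2)
    have e : (a : S) * b * x * ((a : S) * b)⁻¹ * x⁻¹ = (a : S) * ((b : S) * x * (b : S)⁻¹ * x⁻¹) * (x * (a : S)⁻¹ * x⁻¹) := by group
    rw [e, hc]
    have hc2 := hcomA _ (hcA _ a.2) _ (hcA _ b.2)
    rw [hc2]; group)
  have hker : f.ker = Z.subgroupOf A := by
    ext a
    rw [MonoidHom.mem_ker, Subgroup.mem_subgroupOf]
    show (a : S) * x * (a : S)⁻¹ * x⁻¹ = 1 ↔ _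
    constructor
    · intro h
      have hax : (a : S) * x = x * a := by
        have := mul_inv_eq_one.mp h
        exact mul_inv_eq_iff_eq_mul.mp this
      rw [hZdef, Subgroup.mem_center_iff]
      intro g
      have hg : g ∈ A ⊔ Subgroup.zpowers x := (hgen A hAi x hx).symm ▸ Subgroup.mem_top g
      have hle : A ⊔ Subgroup.zpowers x ≤ Subgroup.centralizer ({(a : S)} : Set S) :=
        sup_le (fun b hb => Subgroup.mem_centralizer_singleton_iff.mpr (hcomA b hb a a.2))
          (Subgroup.zpowers_le.mpr (Subgroup.mem_centralizer_singleton_iff.mpr hax.symm))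
      exact Subgroup.mem_centralizer_singleton_iff.mp (hle hg)
    · intro h
      rw [← Subgroup.mem_center_iff.mp h x]; group
  have himA : f.range ≤ A := by rintro _ ⟨a, rfl⟩; exact hcA _ a.2
  have himn : f.range.Normal := by
    refine ⟨fun w hw g => ?_⟩
    have hle : A ⊔ Subgroup.zpowers x ≤ Subgroup.normalizer (f.range : Set S) := by
      refine sup_le (fun b hb => ?_) (Subgroup.zpowers_le.mpr ?_)
      · apply Subgroup.centralizer_le_normalizer
        exact Subgroup.mem_centralizer_iff.mpr fun w hw => hcomA _ (himA hw) _ hb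
      · have key : ∀ y : S, (y * x * y⁻¹ = x) → ∀ w ∈ f.range, y * w * y⁻¹ ∈ f.range := by
          rintro y hy _ ⟨a, rfl⟩
          refine ⟨⟨y * a * y⁻¹, Subgroup.Normal.conj_mem inferInstance _ a.2 y⟩, ?_⟩
          show y * a * y⁻¹ * x * (y * a * y⁻¹)⁻¹ * x⁻¹ = y * ((a : S) * x * (a : S)⁻¹ * x⁻¹) * y⁻¹
          nth_rw 1 [← hy]; nth_rw 2 [← hy]; group
        rw [Subgroup.mem_normalizer_iff]
        refine fun w => ⟨key x (by group) w, fun h => ?_⟩
        simpa [mul_assoc] using key x⁻¹ (by group) _ h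
    exact (Subgroup.mem_normalizer_iff.mp (hle ((hgen A hAi x hx).symm ▸ Subgroup.mem_top g)) w).mp hw
  have hcomm : commutator S = f.range := by
    refine le_antisymm ?_ ?_
    · refine Subgroup.Normal.quotient_commutative_iff_commutator_le.mp ?_
      set π := QuotientGroup.mk' f.range
      have hcl : IsMulCommutative (Subgroup.closure ((A.map π : Set (S ⧸ f.range)) ∪ {π x})) := by
        refine Subgroup.isMulCommutative_closure ?_
        have key : ∀ a ∈ A, π a * π x = π x * π a := fun a ha => by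
          have h1 : π (a * x * a⁻¹ * x⁻¹) = 1 := (QuotientGroup.eq_one_iff _).mpr ⟨⟨a, ha⟩, rfl⟩
          rw [map_mul, map_mul, map_mul, map_inv, map_inv, mul_inv_eq_one, mul_inv_eq_iff_eq_mul] at h1
          exact h1
        rintro _ (⟨a, ha, rfl⟩ | rfl) _ (⟨b, hb, rfl⟩ | rfl)
        · rw [← map_mul, ← map_mul, hcomA a ha b hb]
        · exact key a ha
        · exact (key b hb).symm
        · rfl
      refine ⟨⟨fun u v => ?_⟩⟩
      have hall : ∀ u : S ⧸ f.range, u ∈ Subgroup.closure ((A.map π : Set (S ⧸ f.range)) ∪ {π x}) := by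
        intro u
        obtain ⟨g, rfl⟩ := QuotientGroup.mk'_surjective f.range u
        rw [Subgroup.closure_union, Subgroup.closure_eq, ← Subgroup.zpowers_eq_closure, ← MonoidHom.map_zpowers,
          ← Subgroup.map_sup, hgen A hAi x hx]
        exact ⟨g, trivial, rfl⟩
      exact congrArg Subtype.val (hcl.is_comm.comm ⟨u, hall u⟩ ⟨v, hall v⟩)
    · rintro _ ⟨a, rfl⟩
      rw [commutator_def]
      exact Subgroup.commutator_mem_commutator (g₁ := (a : S)) (g₂ := x) trivial trivial
  have hidx : Z.index = p * Nat.card (commutator S) := by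
    rw [hcomm, ← Subgroup.index_ker, hker, ← Subgroup.relIndex_mul_index (hZA A hAi hA), hAi, mul_comm]
    rfl
  refine ⟨hidx, ?_⟩
  obtain ⟨k, hk⟩ := IsPGroup.iff_card.mp (hS.to_subgroup (commutator S))
  rcases Nat.lt_or_ge k 2 with hk2 | hk2
  · left
    have hk1 : k = 1 := by
      interval_cases k
      · exfalso
        apply hna
        have h1 := Subgroup.card_eq_one.mp (by rw [hk, pow_zero] : Nat.card (commutator S) = 1)
        rw [commutator_def, Subgroup.commutator_eq_bot_iff_le_centralizer] at h1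
        exact ⟨⟨fun a b => (Subgroup.mem_centralizer_iff.mp (h1 (Subgroup.mem_top a)) b trivial).symm⟩⟩
      · rfl
    subst hk1
    rw [pow_one] at hk
    have hq : Nat.card (S ⧸ Z) = p ^ 2 := by rw [← Subgroup.index_eq_card, hidx, hk, pow_two]
    have hqc : ∀ u v : S ⧸ Z, u * v = v * u :=
      (IsPGroup.isMulCommutative_of_card_eq_prime_sq hq).is_comm.comm
    have hexp : ∀ u : S ⧸ Z, u ^ p = 1 := by
      intro u
      obtain ⟨i, hi, hio⟩ := (Nat.dvd_prime_pow hp).mp (hq ▸ orderOf_dvd_natCard u)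
      interval_cases i
      · rw [pow_zero, orderOf_eq_one_iff] at hio; rw [hio, one_pow]
      · rw [pow_one] at hio; exact hio ▸ pow_orderOf_eq_one u
      · exfalso
        obtain ⟨g, rfl⟩ := QuotientGroup.mk_surjective u
        have hcy : IsCyclic (S ⧸ Z) := isCyclic_of_orderOf_eq_card (g : S ⧸ Z) (by rw [hio, hq])
        apply hna
        exact ⟨⟨fun a b => commutative_of_cyclic_center_quotient (QuotientGroup.mk' Z) (by rw [QuotientGroup.ker_mk']) a b⟩⟩
    refine ⟨hk, ⟨⟨⟨fun a b => Subtype.ext (hqc a b)⟩⟩, fun a _ => hexp a⟩, hq, ?_⟩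
    -- abelian subgroups of index `p` correspond to subgroups of order `p` of `S / Z`
    have e : {B : Subgroup S // IsMulCommutative B ∧ B.index = p} ≃ {V : Subgroup (S ⧸ Z) // Nat.card V = p} := by
      refine
        { toFun := fun B => ⟨B.1.map (QuotientGroup.mk' Z), ?_⟩
          invFun := fun V => ⟨V.1.comap (QuotientGroup.mk' Z), ?_, ?_⟩
          left_inv := fun B => Subtype.ext ?_
          right_inv := fun V => Subtype.ext (Subgroup.map_comap_eq_self_of_surjective (QuotientGroup.mk'_surjective Z) _) }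
      · have h1 := (B.1.map (QuotientGroup.mk' Z)).card_mul_index
        rw [Subgroup.index_map_eq _ (QuotientGroup.mk'_surjective Z) (by rw [QuotientGroup.ker_mk']; exact hZA _ B.2.2 B.2.1),
          B.2.2, hq, pow_two] at h1
        exact Nat.eq_of_mul_eq_mul_right hp.pos h1
      · obtain ⟨u, hu⟩ : ∃ u, V.1 = Subgroup.zpowers u := by
          have : IsCyclic V.1 := isCyclic_of_prime_card V.2
          obtain ⟨u, hu⟩ := (Subgroup.isCyclic_iff_exists_zpowers_eq_top V.1).mp this
          exact ⟨u, hu.symm⟩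
        obtain ⟨g, rfl⟩ := QuotientGroup.mk_surjective u
        refine ⟨⟨fun a b => Subtype.ext ?_⟩⟩
        have key : ∀ a : S, a ∈ V.1.comap (QuotientGroup.mk' Z) → ∃ i : ℤ, ∃ z ∈ Z, a = g ^ i * z := by
          intro a ha
          rw [Subgroup.mem_comap, hu] at ha
          obtain ⟨i, hi⟩ := Subgroup.mem_zpowers_iff.mp ha
          exact ⟨i, (g ^ i)⁻¹ * a, (QuotientGroup.eq).mp (by rw [QuotientGroup.mk_zpow]; exact hi), by group⟩
        obtain ⟨i, z, hz, hza⟩ := key a a.2
        obtain ⟨j, w, hw, hwb⟩ := key b b.2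
        show (a : S) * b = b * a
        rw [hza, hwb]
        exact (((Commute.zpow_zpow_self g i j).mul_right (Subgroup.mem_center_iff.mp hw (g ^ i))).mul_left
          ((Subgroup.mem_center_iff.mp hz (g ^ j * w)).symm : Commute z (g ^ j * w))).eq
      · rw [Subgroup.index_comap_of_surjective _ (QuotientGroup.mk'_surjective Z)]
        have h1 := V.1.card_mul_index
        rw [V.2, hq, pow_two] at h1
        exact Nat.eq_of_mul_eq_mul_left hp.pos h1
      · exact Subgroup.comap_map_eq_self (by rw [QuotientGroup.ker_mk']; exact hZA _ B.2.2 B.2.1)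
    rw [Nat.card_congr e]
    exact card_subgroups_of_order_p hq hexp
  · exact Or.inr ⟨hk ▸ Nat.pow_le_pow_right hp.pos hk2, fun B hB hBi => by
      by_contra hne
      have hAB : A ⊓ B ≤ Z := by
        intro w hw
        obtain ⟨hwA, hwB⟩ := Subgroup.mem_inf.mp hw
        rw [hZdef, Subgroup.mem_center_iff]
        intro g
        obtain ⟨y, hy, hyA⟩ : ∃ y ∈ B, y ∉ A := by
          by_contra hcon
          push Not at hcon
          refine hne (Subgroup.eq_of_le_of_card_ge hcon ?_)
          refine Nat.le_of_mul_le_mul_right (?_ : Nat.card A * p ≤ Nat.card B * p) hp.pos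
          nth_rw 1 [← hAi]; rw [← hBi, A.card_mul_index, B.card_mul_index]
        have hle : A ⊔ Subgroup.zpowers y ≤ Subgroup.centralizer ({w} : Set S) :=
          sup_le (fun b hb => Subgroup.mem_centralizer_singleton_iff.mpr (hcomA b hb w hwA))
            (Subgroup.zpowers_le.mpr (Subgroup.mem_centralizer_singleton_iff.mpr
              (congrArg Subtype.val (hB.is_comm.comm ⟨y, hy⟩ ⟨w, hwB⟩))))
        exact Subgroup.mem_centralizer_singleton_iff.mp (hle ((hgen A hAi y hyA).symm ▸ Subgroup.mem_top g))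
      have h1 : Z.index ≤ p * p := by
        refine (Nat.le_of_dvd (Nat.pos_of_ne_zero Subgroup.index_ne_zero_of_finite) (Subgroup.index_dvd_of_le hAB)).trans ?_
        refine Subgroup.index_inf_le.trans (le_of_eq ?_)
        rw [hAi, hBi]
      rw [hidx] at h1
      have h2 := Nat.le_of_mul_le_mul_left h1 hp.pos
      rw [hk] at h2
      have h3 := (Nat.pow_le_pow_iff_right hp.one_lt).mp (h2.trans (le_of_eq (pow_one p).symm))
      omega⟩

end Cfsg.Agent.S3807
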