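import Cfsg.Statements.S3808
import Mathlib
import Cfsg.Agent.Lib.ExtraspecialIndexP
-- import your own Cfsg.Agent.* helpers here

set_option autoImplicit false
open Cfsg

namespace Cfsg.Agent.S3808

/-- Let S be a finite p-group with an extraspecial subgroup Q of index p. Then either Z(S) = Z(Q), or S = Q·Z(S) and Z(S) has order p². -/
theorem result {S : Type*} [Group S] [Finite S] (p : ℕ) [Fact p.Prime] (hS : IsPGroup p S) (Q : Subgroup S) (hQ : Cfsg.IsExtraspecial p ↥Q) (hQi : Q.index = p) :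
    Subgroup.center S = (Subgroup.center ↥Q).map Q.subtype ∨
      (Q ⊔ Subgroup.center S = ⊤ ∧ Nat.card (Subgroup.center S) = p ^ 2) := by
  classical
  open CfsgLib.ExtraspecialIndexP in
  have := normal_of_index_prime hS hQi
  obtain ⟨hcard, hle⟩ := CfsgLib.ExtraspecialIndexP.center_map_le_center hS Q hQ
  have hp : p.Prime := Fact.out
  by_cases hZ : Subgroup.center S ≤ Q
  · refine Or.inl (le_antisymm (fun z hz => ⟨⟨z, hZ hz⟩, ?_, rfl⟩) hle)
    exact Subgroup.mem_center_iff.mpr fun q => Subtype.ext (Subgroup.mem_center_iff.mp hz q)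
  right
  have htop : Q ⊔ Subgroup.center S = ⊤ := by
    by_contra hne
    have h := Subgroup.relIndex_mul_index (le_sup_left : Q ≤ Q ⊔ Subgroup.center S)
    rw [hQi] at h
    rcases hp.eq_one_or_self_of_dvd (Q ⊔ Subgroup.center S).index
      ⟨Q.relIndex (Q ⊔ Subgroup.center S), by rw [mul_comm]; exact h.symm⟩ with e | e
    · exact hne (Subgroup.index_eq_one.mp e)
    · rw [e] at h
      exact hZ (le_sup_right.trans (Subgroup.relIndex_eq_one.mp ((Nat.mul_eq_right hp.ne_zero).mp h)))
  refine ⟨htop, ?_⟩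
  have hinf : Q ⊓ Subgroup.center S = (Subgroup.center Q).map Q.subtype := by
    refine le_antisymm (fun z hz => ?_) (le_inf (Subgroup.map_subtype_le _) hle)
    obtain ⟨h1, h2⟩ := Subgroup.mem_inf.mp hz
    exact ⟨⟨z, h1⟩, Subgroup.mem_center_iff.mpr fun q => Subtype.ext (Subgroup.mem_center_iff.mp h2 q), rfl⟩
  have h3 := CfsgLib.ExtraspecialIndexP.card_mul_relIndex (inf_le_right : Q ⊓ Subgroup.center S ≤ Subgroup.center S)
  rw [Subgroup.inf_relIndex_right, ← Subgroup.relIndex_sup_right, sup_comm, htop, Subgroup.relIndex_top_right,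
    hQi, hinf, hcard] at h3
  rw [← h3, pow_two]

end Cfsg.Agent.S3808
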