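import Cfsg.Statements.S3809
import Mathlib
import Cfsg.Agent.Lib.ExtraspecialIndexP
-- import your own Cfsg.Agent.* helpers here

set_option autoImplicit false
open Cfsg

namespace Cfsg.Agent.S3809

/-- Let S be a finite p-group with an extraspecial subgroup of index p. Then S has order p^(2+2n) for some n ≥ 1, derived length at most 3, and exponent dividing p³. -/
theorem result {S : Type*} [Group S] [Finite S] (p : ℕ) [Fact p.Prime] (hS : IsPGroup p S) (Q : Subgroup S) (hQ : Cfsg.IsExtraspecial p ↥Q) (hQi : Q.index = p) :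
    (∃ n : ℕ, 1 ≤ n ∧ Nat.card S = p ^ (2 + 2 * n)) ∧ derivedSeries S 3 = ⊥ ∧ ∀ x : S, x ^ (p ^ 3) = 1 := by
  classical
  have := CfsgLib.ExtraspecialIndexP.normal_of_index_prime hS hQi
  obtain ⟨hcard, hle⟩ := CfsgLib.ExtraspecialIndexP.center_map_le_center hS Q hQ
  obtain ⟨n, hn, hn2⟩ := CfsgLib.ExtraspecialIndexP.exists_card hQ
  have hp : p.Prime := Fact.out
  obtain ⟨⟨hQp, hfr, hcomm⟩, hzc⟩ := hQ
  have hd1 : derivedSeries S 1 ≤ Q := by
    rw [derivedSeries_one]
    refine Subgroup.Normal.quotient_commutative_iff_commutator_le.mp ?_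
    have hc : Nat.card (S ⧸ Q) = p := hQi
    have := isCyclic_of_prime_card hc
    exact ⟨⟨IsCyclic.commGroup.mul_comm⟩⟩
  refine ⟨⟨n, hn, ?_⟩, ?_, fun x => ?_⟩
  · rw [← Q.card_mul_index, hQi, hn2, ← pow_succ]; congr 1; omega
  · have hd2 : derivedSeries S 2 ≤ (Subgroup.center Q).map Q.subtype := by
      rw [derivedSeries_succ, ← hcomm, commutator_def, Subgroup.map_commutator,
        show (⊤ : Subgroup Q).map Q.subtype = Q by rw [← MonoidHom.range_eq_map, Subgroup.range_subtype]]
      exact Subgroup.commutator_mono hd1 hd1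
    rw [derivedSeries_succ, Subgroup.commutator_eq_bot_iff_le_centralizer]
    exact (hd2.trans hle).trans (Subgroup.center_le_centralizer _)
  · have h1 : x ^ p ∈ Q := hQi ▸ Subgroup.pow_index_mem Q x
    have h2 := CfsgLib.pow_mem_frattini_pGroup hQp (⟨x ^ p, h1⟩ : Q)
    rw [hfr] at h2
    have h3 := congrArg Subtype.val (pow_card_eq_one' (x := (⟨_, h2⟩ : Subgroup.center Q)))
    rw [hzc] at h3
    have h4 := congrArg Subtype.val h3
    push_cast at h4
    rw [← pow_mul, ← pow_mul] at h4
    rw [show p ^ 3 = p * p * p by ring]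
    simpa [mul_assoc] using h4

end Cfsg.Agent.S3809
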