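import Cfsg.Statements.S3810
import Mathlib
import Cfsg.Agent.Lib.ExtraspecialIndexP
-- import your own Cfsg.Agent.* helpers here

set_option autoImplicit false
open Cfsg

namespace Cfsg.Agent.S3810

/-- Let S be a finite p-group with an extraspecial subgroup of index p. Then S has an abelian subgroup of index p if and only if S has order p⁴. -/
theorem result {S : Type*} [Group S] [Finite S] (p : ℕ) [Fact p.Prime] (hS : IsPGroup p S) (Q : Subgroup S) (hQ : Cfsg.IsExtraspecial p ↥Q) (hQi : Q.index = p) :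
    (∃ A : Subgroup S, IsMulCommutative ↥A ∧ A.index = p) ↔ Nat.card S = p ^ 4 := by
  classical
  have := CfsgLib.ExtraspecialIndexP.normal_of_index_prime hS hQi
  obtain ⟨hcard, hle⟩ := CfsgLib.ExtraspecialIndexP.center_map_le_center hS Q hQ
  obtain ⟨n, hn, hn2⟩ := CfsgLib.ExtraspecialIndexP.exists_card hQ
  have hp : p.Prime := Fact.out
  have hScard : Nat.card S = p ^ (2 * n + 2) := by
    rw [← Q.card_mul_index, hQi, hn2, ← pow_succ]
  constructor
  · rintro ⟨A, hA, hAi⟩
    set B := A.subgroupOf Q with hB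
    have hBc : IsMulCommutative B := ⟨⟨fun a b => by
      apply Subtype.ext
      apply Subtype.ext
      exact congrArg (Subtype.val : A → S) (hA.is_comm.comm ⟨((a : Q) : S), a.2⟩ ⟨((b : Q) : S), b.2⟩)⟩⟩
    have hBi : B.index ≤ p := by
      have h1 : A.relIndex Q ≤ A.relIndex ⊤ :=
        Subgroup.relIndex_le_of_le_right le_top Subgroup.index_ne_zero_of_finite
      rw [Subgroup.relIndex_top_right, hAi] at h1
      exact h1
    have h2 := CfsgLib.ExtraspecialIndexP.card_abelian_sq_le hQ B hBc
    have h3 : Nat.card Q ≤ Nat.card B * p := by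
      rw [← B.card_mul_index]; exact Nat.mul_le_mul_left _ hBi
    have h4 : Nat.card Q ≤ p ^ 3 := by
      have h5 : Nat.card Q * Nat.card Q ≤ p ^ 3 * Nat.card Q := by
        calc Nat.card Q * Nat.card Q ≤ (Nat.card B * p) * (Nat.card B * p) := Nat.mul_le_mul h3 h3
          _ = Nat.card B * Nat.card B * (p * p) := by ring
          _ ≤ p * Nat.card Q * (p * p) := Nat.mul_le_mul_right _ h2
          _ = p ^ 3 * Nat.card Q := by ring
      exact Nat.le_of_mul_le_mul_right h5 Nat.card_pos
    rw [hn2] at h4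
    have h6 := (Nat.pow_le_pow_iff_right hp.one_lt).mp h4
    rw [hScard]; congr 1; omega
  · intro h4
    set Z := (Subgroup.center Q).map Q.subtype with hZ
    have hZn : Z.Normal := inferInstance
    let π := QuotientGroup.mk' Z
    have hqc : Nat.card (S ⧸ Z) = p ^ 3 := by
      have h1 := Z.card_mul_index
      rw [hcard, h4, pow_succ' p 3] at h1
      exact Nat.eq_of_mul_eq_mul_left hp.pos h1
    have hqp : IsPGroup p (S ⧸ Z) := IsPGroup.of_card hqc
    have : Nontrivial (S ⧸ Z) := by
      rw [← Finite.one_lt_card_iff_nontrivial, hqc]; exact Nat.one_lt_pow (by norm_num) hp.one_lt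
    have := hqp.center_nontrivial
    obtain ⟨k, hk⟩ := IsPGroup.iff_card.mp (hqp.to_subgroup (Subgroup.center (S ⧸ Z)))
    have hk0 : k ≠ 0 := by
      rintro rfl
      exact (Finite.one_lt_card (α := Subgroup.center (S ⧸ Z))).ne' (by simpa using hk)
    obtain ⟨⟨w, hwc⟩, hwo⟩ := exists_prime_orderOf_dvd_card' (G := Subgroup.center (S ⧸ Z)) p (hk ▸ dvd_pow_self p hk0)
    rw [Subgroup.orderOf_mk] at hwo
    set W := (Subgroup.zpowers w).comap π with hW
    have hZW : Z ≤ W := by
      intro z hz
      show π z ∈ Subgroup.zpowers w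
      rw [show π z = 1 from (QuotientGroup.eq_one_iff z).mpr hz]; exact one_mem _
    have hWcard : Nat.card W = p ^ 2 := by
      have h1 := CfsgLib.ExtraspecialIndexP.card_mul_relIndex hZW
      have h2 := Subgroup.relIndex_ker (f := π) (K := W)
      rw [QuotientGroup.ker_mk'] at h2
      rw [h2, hW, Subgroup.map_comap_eq_self_of_surjective (QuotientGroup.mk'_surjective Z), Nat.card_zpowers,
        hwo, hcard] at h1
      rw [← h1, pow_two]
    have hWS : ⁅W, (⊤ : Subgroup S)⁆ ≤ Z := by
      rw [Subgroup.commutator_le]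
      intro a ha b _
      apply (QuotientGroup.eq_one_iff _).mp
      show π (a * b * a⁻¹ * b⁻¹) = 1
      obtain ⟨i, hi⟩ := Subgroup.mem_zpowers_iff.mp (show π a ∈ Subgroup.zpowers w from ha)
      have hc : π b * π a = π a * π b := Subgroup.mem_center_iff.mp (hi ▸ zpow_mem hwc i) (π b)
      rw [map_mul, map_mul, map_mul, map_inv, map_inv, ← hc]; group
    have hrel := Cfsg.Agent.S3741.result hS W ⊤ (le_inf (hWS.trans hZW) le_top)
      ((Subgroup.card_le_of_le hWS).trans hcard.le)
    rw [top_inf_eq, Subgroup.relIndex_top_right] at hrel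
    have hidx : (Subgroup.centralizer (W : Set S)).index ≤ p := by
      rw [← hrel]
      have hle2 : Z ≤ W ⊓ Subgroup.centralizer ((⊤ : Subgroup S) : Set S) :=
        le_inf hZW (hle.trans (Subgroup.center_le_centralizer _))
      refine (Subgroup.relIndex_le_of_le_left hle2 Subgroup.index_ne_zero_of_finite).trans (le_of_eq ?_)
      have h1 := CfsgLib.ExtraspecialIndexP.card_mul_relIndex hZW
      rw [hcard, hWcard, pow_two] at h1
      exact Nat.eq_of_mul_eq_mul_left hp.pos h1
    set C := Subgroup.centralizer (W : Set S) with hC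
    have hWab : IsMulCommutative W := IsPGroup.isMulCommutative_of_card_eq_prime_sq hWcard
    have hWC : W ≤ C := fun a ha => Subgroup.mem_centralizer_iff.mpr fun b hb =>
      congrArg Subtype.val (hWab.is_comm.comm ⟨b, hb⟩ ⟨a, ha⟩)
    have hCcard : p ^ 3 ≤ Nat.card C := by
      have h1 := C.card_mul_index
      rw [h4] at h1
      refine Nat.le_of_mul_le_mul_right (?_ : p ^ 3 * p ≤ Nat.card C * p) hp.pos
      rw [← pow_succ, ← h1]; exact Nat.mul_le_mul_left _ hidx
    obtain ⟨c, hc⟩ := IsPGroup.iff_card.mp (hS.to_subgroup C)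
    have hc3 : 3 ≤ c := (Nat.pow_le_pow_iff_right hp.one_lt).mp (hc ▸ hCcard)
    obtain ⟨B, hB, hWB⟩ := Sylow.exists_subgroup_card_pow_succ (p := p) (n := 2) (H := W.subgroupOf C)
      (hc ▸ pow_dvd_pow p hc3) (by rw [Nat.card_congr (Subgroup.subgroupOfEquivOfLe hWC).toEquiv, hWcard])
    have hne : ¬ B ≤ W.subgroupOf C := fun h => by
      have := Subgroup.card_le_of_le h
      rw [hB, Nat.card_congr (Subgroup.subgroupOfEquivOfLe hWC).toEquiv, hWcard] at this
      exact absurd ((Nat.pow_le_pow_iff_right hp.one_lt).mp this) (by norm_num)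
    obtain ⟨x, hxB, hxW⟩ := SetLike.not_le_iff_exists.mp hne
    set A := W ⊔ Subgroup.zpowers (x : S) with hA
    have hAc : IsMulCommutative A := by
      rw [hA, Subgroup.zpowers_eq_closure, ← Subgroup.closure_eq W, ← Subgroup.closure_union]
      refine Subgroup.isMulCommutative_closure ?_
      rintro a (ha | rfl) b (hb | rfl)
      · exact congrArg Subtype.val (hWab.is_comm.comm ⟨a, ha⟩ ⟨b, hb⟩)
      · exact Subgroup.mem_centralizer_iff.mp x.2 a ha
      · exact (Subgroup.mem_centralizer_iff.mp x.2 b hb).symm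
      · rfl
    have hAB : A ≤ B.map C.subtype :=
      sup_le (fun a ha => ⟨⟨a, hWC ha⟩, hWB ha, rfl⟩) (Subgroup.zpowers_le.mpr ⟨x, hxB, rfl⟩)
    obtain ⟨a, ha⟩ := IsPGroup.iff_card.mp (hS.to_subgroup A)
    have hA1 : a ≤ 3 := by
      have h1 := Subgroup.card_le_of_le hAB
      rw [Subgroup.card_map_of_injective C.subtype_injective, hB, ha] at h1
      exact (Nat.pow_le_pow_iff_right hp.one_lt).mp h1
    have hA2 : 2 < a := by
      by_contra hle'
      have hAW : W = A := Subgroup.eq_of_le_of_card_ge le_sup_left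
        (by rw [hWcard, ha]; exact Nat.pow_le_pow_right hp.pos (not_lt.mp hle'))
      exact hxW (show (x : S) ∈ W from hAW ▸ Subgroup.mem_sup_right (Subgroup.mem_zpowers _))
    refine ⟨A, hAc, ?_⟩
    have h1 := A.card_mul_index
    rw [ha, h4, show a = 3 by omega, pow_succ p 3] at h1
    exact Nat.eq_of_mul_eq_mul_left (pow_pos hp.pos 3) h1

end Cfsg.Agent.S3810
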