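import Cfsg.Statements.S3811
import Mathlib
import Cfsg.Agent.Lib.Counting.Kulakoff
import Cfsg.Agent.Lib.PGroup.CyclicMax
-- import your own Cfsg.Agent.* helpers here

set_option autoImplicit false
open Cfsg

namespace Cfsg.Agent.S3811

namespace Aux

open scoped commutatorElement
open Subgroup

universe u

variable {p : ℕ} [hp : Fact p.Prime]

theorem normalizer_map {P Q : Type u} [Group P] [Group Q] (f : P →* Q) (hf : Function.Surjective f) {K : Subgroup P}
    (hK : f.ker ≤ K) :
    (normalizer ((K.map f : Subgroup Q) : Set Q)).comap f = normalizer (K : Set P) ∧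
      (K.map f).relIndex (normalizer ((K.map f : Subgroup Q) : Set Q)) = K.relIndex (normalizer (K : Set P)) := by
  have h := Subgroup.comap_normalizer_eq_of_surjective (K.map f) hf
  rw [Subgroup.comap_map_eq_self hK] at h
  refine ⟨h, ?_⟩
  conv_rhs => rw [← h]
  conv_rhs => arg 1; rw [← Subgroup.comap_map_eq_self hK]
  rw [Subgroup.relIndex_comap, Subgroup.map_comap_eq_self_of_surjective hf]

theorem exists_normalizer_gt {P : Type u} [Group P] [Finite P] (hP : IsPGroup p P) {H K : Subgroup P} (h : H < K) :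
    ∃ g ∈ K, g ∈ normalizer (H : Set P) ∧ g ∉ H := by
  haveI : Group.IsNilpotent K := (hP.to_subgroup K).isNilpotent
  have hlt : H.subgroupOf K < ⊤ := lt_top_iff_ne_top.mpr fun e => h.not_ge (subgroupOf_eq_top.mp e)
  obtain ⟨x, hxN, hxH⟩ := SetLike.exists_of_lt (normalizerCondition_of_isNilpotent _ hlt)
  refine ⟨x, x.2, ?_, hxH⟩
  rw [mem_normalizer_iff]
  intro d
  constructor
  · intro hd
    exact (mem_normalizer_iff.mp hxN ⟨d, h.le hd⟩).mp hd
  · intro hd
    have hdK : d ∈ K := by
      have := mul_mem (mul_mem (inv_mem x.2) (h.le hd)) x.2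
      simpa [mul_assoc] using this
    exact (mem_normalizer_iff.mp hxN ⟨d, hdK⟩).mpr hd

section basics

variable {P : Type u} [Group P] [Finite P] {E : Subgroup P}

theorem le_N : E ≤ normalizer (E : Set P) := le_normalizer

theorem N_ne_top (hN : E.relIndex (normalizer (E : Set P)) = p) (hidx : p ^ 2 ≤ E.index) :
    normalizer (E : Set P) ≠ ⊤ := fun h => by
  rw [h, Subgroup.relIndex_top_right] at hN
  rw [hN, pow_two] at hidx
  have := hp.out.two_le
  nlinarith

theorem N_le (hP : IsPGroup p P) (hN : E.relIndex (normalizer (E : Set P)) = p) {K : Subgroup P} (h : E < K) :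
    normalizer (E : Set P) ≤ K := by
  obtain ⟨g, hgK, hgN, hgE⟩ := exists_normalizer_gt hP h
  have h1 : E < K ⊓ normalizer (E : Set P) := lt_of_le_of_ne (le_inf h.le le_normalizer)
    fun e => hgE (e ▸ ⟨hgK, hgN⟩)
  have h2 := relIndex_mul_relIndex E (K ⊓ normalizer (E : Set P)) (normalizer (E : Set P)) h1.le inf_le_right
  rw [hN] at h2
  rcases (Nat.dvd_prime hp.out).mp ⟨_, h2.symm⟩ with h3 | h3
  · exact absurd (relIndex_eq_one.mp h3) h1.not_ge
  · rw [h3] at h2
    have h4 : (K ⊓ normalizer (E : Set P)).relIndex (normalizer (E : Set P)) = 1 :=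
      Nat.eq_of_mul_eq_mul_left hp.out.pos (h2.trans (mul_one p).symm)
    exact (relIndex_eq_one.mp h4).trans inf_le_left

theorem comm_le (hP : IsPGroup p P) (hN : E.relIndex (normalizer (E : Set P)) = p)
    (hC : centralizer (E : Set P) ≤ E) (hEab : IsMulCommutative E) (hidx : p ^ 2 ≤ E.index) :
    let N := normalizer (E : Set P)
    Nat.card (⁅N, N⁆ : Subgroup P) = p ∧ (⁅N, N⁆ : Subgroup P) ≤ E ∧
      (∀ d ∈ (⁅N, N⁆ : Subgroup P), ∀ n ∈ N, d * n = n * d) ∧
      N.relIndex (normalizer (N : Set P)) = p := by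
  classical
  intro N
  have hEN : E ≤ N := le_normalizer
  obtain ⟨g, -, hgN, hgn⟩ := exists_normalizer_gt hP (lt_top_iff_ne_top.mpr (N_ne_top hN hidx) : N < ⊤)
  have hEc : ∀ a ∈ E, ∀ b ∈ E, a * b = b * a := fun a ha b hb =>
    congrArg Subtype.val (hEab.is_comm.comm ⟨a, ha⟩ ⟨b, hb⟩)
  set φ : P →* P := (MulAut.conj g).toMonoidHom with hφ
  have hφN : N.map φ = N := by
    ext x
    rw [hφ, Subgroup.mem_map_equiv, MulAut.conj_symm_apply, mem_normalizer_iff.mp hgN (g⁻¹ * x * g)]
    simp [mul_assoc]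
  set E' := E.map φ with hE'
  have hE'N : E' ≤ N := hφN ▸ Subgroup.map_mono hEN
  have hne : E' ≠ E := fun h => hgn (mem_normalizer_iff.mpr fun x => by
    constructor
    · intro hx
      exact h.le ⟨x, hx, rfl⟩
    · intro hx
      obtain ⟨y, hy, e⟩ := h.ge hx
      rw [← mul_left_cancel (mul_right_cancel e)]
      exact hy)
  have hE'c : ∀ a ∈ E', ∀ b ∈ E', a * b = b * a := by
    rintro _ ⟨a, ha, rfl⟩ _ ⟨b, hb, rfl⟩
    rw [← map_mul, hEc a ha b hb, map_mul]
  have hcE' : Nat.card E' = Nat.card E := Subgroup.card_map_of_injective (MulAut.conj g).injective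
  haveI hEn : (E.subgroupOf N).Normal := Subgroup.normal_in_normalizer
  have hrel : E.relIndex N = p := hN
  obtain ⟨x, hxE', hxE⟩ : ∃ x ∈ E', x ∉ E := SetLike.not_le_iff_exists.mp fun h =>
    hne (eq_of_le_of_card_ge h hcE'.ge)
  have hmem : ∀ n ∈ N, ∃ e ∈ E, ∃ i : ℤ, n = e * x ^ i := by
    intro n hn
    have hcard : Nat.card (N ⧸ E.subgroupOf N) = p := hrel
    have hx1 : (QuotientGroup.mk (⟨x, hE'N hxE'⟩ : N) : N ⧸ E.subgroupOf N) ≠ 1 := fun h =>
      hxE (show (⟨x, hE'N hxE'⟩ : N) ∈ E.subgroupOf N from (QuotientGroup.eq_one_iff (N := E.subgroupOf N) _).mp h)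
    obtain ⟨i, hi⟩ := mem_zpowers_iff.mp
      ((zpowers_eq_top_of_prime_card hcard hx1).symm ▸ mem_top (QuotientGroup.mk (⟨n, hn⟩ : N) : N ⧸ E.subgroupOf N))
    rw [← QuotientGroup.mk_zpow] at hi
    refine ⟨n * (x ^ i)⁻¹, ?_, i, by rw [inv_mul_cancel_right]⟩
    have h2 : (⟨n, hn⟩ : N) * ((⟨x, hE'N hxE'⟩ : N) ^ i)⁻¹ ∈ E.subgroupOf N := by
      rw [← QuotientGroup.eq_one_iff, QuotientGroup.mk_mul, QuotientGroup.mk_inv, hi, mul_inv_cancel]
    simpa [mem_subgroupOf] using h2
  -- the centre
  set Z := E ⊓ E' with hZ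
  have hZc : ∀ z ∈ Z, ∀ n ∈ N, z * n = n * z := by
    intro z hz n hn
    obtain ⟨e, he, i, rfl⟩ := hmem n hn
    have h1 : Commute z e := hEc z hz.1 e he
    have h2 : Commute z (x ^ i) := (show Commute z x from hE'c z hz.2 x hxE').zpow_right i
    exact (h1.mul_right h2).eq
  have hcZ : ∀ z ∈ N, (∀ n ∈ N, z * n = n * z) → z ∈ Z := by
    intro z _ h
    refine ⟨hC fun e he => (h e (hEN he)).symm, ?_⟩
    have h1 : φ.comp (MonoidHom.id P) = φ := rfl
    have hz' : ((MulAut.conj g).symm z) ∈ E := hC fun e he => by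
      have h2 := h (φ e) (hE'N ⟨e, he, rfl⟩)
      refine (MulAut.conj g).injective ?_
      rw [map_mul, map_mul, MulEquiv.apply_symm_apply]
      exact h2.symm
    exact ⟨_, hz', MulEquiv.apply_symm_apply _ _⟩
  have hxp : x ^ p ∈ E := by
    have := Subgroup.pow_index_mem (E.subgroupOf N) (⟨x, hE'N hxE'⟩ : N)
    rw [show (E.subgroupOf N).index = p from hrel] at this
    simpa [mem_subgroupOf] using this
  have hxpZ : x ^ p ∈ Z := ⟨hxp, pow_mem hxE' p⟩
  have hE'n : ∀ n ∈ N, ∀ e ∈ E', n * e * n⁻¹ ∈ E' := by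
    rintro n hn _ ⟨e, he, rfl⟩
    obtain ⟨m, hm, rfl⟩ := hφN.ge hn
    refine ⟨m * e * m⁻¹, (mem_normalizer_iff.mp hm e).mp he, ?_⟩
    rw [map_mul, map_mul, map_inv]
  haveI hE'nI : (E'.subgroupOf N).Normal := ⟨fun e he n => hE'n n n.2 e he⟩
  have hidx' : (E'.subgroupOf N).index = p := by
    have h1 := card_mul_index (E'.subgroupOf N)
    rw [Nat.card_congr (subgroupOfEquivOfLe hE'N).toEquiv, hcE', ← Nat.card_congr (subgroupOfEquivOfLe hEN).toEquiv,
      ← card_mul_index (E.subgroupOf N), show (E.subgroupOf N).index = p from hrel] at h1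
    exact Nat.eq_of_mul_eq_mul_left Nat.card_pos h1
  have hcommZ : ∀ a ∈ N, ∀ b ∈ N, ⁅a, b⁆ ∈ Z := by
    intro a ha b hb
    have key : ∀ X : Subgroup P, ∀ [(X.subgroupOf N).Normal], (X.subgroupOf N).index = p → ⁅a, b⁆ ∈ X := by
      intro X _ hX
      have hc : Nat.card (N ⧸ X.subgroupOf N) = p := hX
      haveI := isCyclic_of_prime_card hc
      letI := IsCyclic.commGroup (α := N ⧸ X.subgroupOf N)
      have h1 : (QuotientGroup.mk' (X.subgroupOf N)) ⁅(⟨a, ha⟩ : N), ⟨b, hb⟩⁆ = 1 := by
        rw [map_commutatorElement, commutatorElement_eq_one_iff_mul_comm]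
        exact mul_comm _ _
      exact (QuotientGroup.eq_one_iff (N := X.subgroupOf N) _).mp h1
    exact ⟨key E hrel, key E' hidx'⟩
  have hbil : ∀ a ∈ N, ∀ b ∈ N, ∀ c ∈ N, ⁅a, b * c⁆ = ⁅a, b⁆ * ⁅a, c⁆ := by
    intro a ha b hb c hc
    rw [show ⁅a, b * c⁆ = ⁅a, b⁆ * (b * ⁅a, c⁆ * b⁻¹) by simp only [commutatorElement_def]; group,
      ← hZc _ (hcommZ a ha c hc) b hb, mul_inv_cancel_right]
  have hbil' : ∀ a ∈ N, ∀ b ∈ N, ∀ c ∈ N, ⁅b * c, a⁆ = ⁅b, a⁆ * ⁅c, a⁆ := by
    intro a ha b hb c hc
    rw [← commutatorElement_inv a (b * c), hbil a ha b hb c hc, mul_inv_rev, commutatorElement_inv,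
      commutatorElement_inv, hZc _ (hcommZ c hc a ha) _ ((hEN (hcommZ b hb a ha).1))]
  have hxN := hE'N hxE'
  have hnC : ∀ e ∈ E, e ∉ Z → ⁅e, x⁆ ≠ 1 := by
    intro e he heZ h
    refine heZ (hcZ e (hEN he) fun n hn => ?_)
    obtain ⟨e', he', i, rfl⟩ := hmem n hn
    exact ((show Commute e e' from hEc e he e' he').mul_right
      ((show Commute e x from commutatorElement_eq_one_iff_mul_comm.mp h).zpow_right i)).eq
  obtain ⟨e₀, he₀, he₀Z⟩ : ∃ e ∈ E, e ∉ Z := SetLike.not_le_iff_exists.mp fun h => by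
    have : E ≤ E' := h.trans inf_le_right
    exact hne (eq_of_le_of_card_ge this hcE'.le).symm
  have hidxZ : Z.relIndex N = p * p := by
    have h1 : Z.relIndex E = p := by
      have hle : Z.relIndex E ∣ p := by
        rw [hZ, inf_relIndex_left]
        have h2 := Subgroup.relIndex_dvd_index_of_normal (E'.subgroupOf N) (E.subgroupOf N)
        rw [Subgroup.relIndex_subgroupOf hEN, hidx'] at h2
        exact h2
      rcases (Nat.dvd_prime hp.out).mp hle with h | h
      · exact absurd (relIndex_eq_one.mp h he₀) he₀Z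
      · exact h
    rw [← relIndex_mul_relIndex Z E N inf_le_left hEN, h1, hrel]
  set D := (⁅N, N⁆ : Subgroup P) with hD
  set c := ⁅e₀, x⁆ with hc
  have hgenD : ∀ a ∈ N, ∀ b ∈ N, ⁅a, b⁆ ∈ zpowers c := by
    have he₀p : e₀ ^ p ∈ Z := by
      have h1 : Z.relIndex E = p := by
        have h2 := relIndex_mul_relIndex Z E N inf_le_left hEN
        rw [hidxZ, hrel] at h2
        exact Nat.eq_of_mul_eq_mul_right hp.out.pos h2
      haveI : (Z.subgroupOf E).Normal := ⟨fun z hz e => by
        rw [mem_subgroupOf] at hz ⊢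
        push_cast
        rw [← hZc _ hz e (hEN e.2), mul_inv_cancel_right]
        exact hz⟩
      have := Subgroup.pow_index_mem (Z.subgroupOf E) (⟨e₀, he₀⟩ : E)
      rw [show (Z.subgroupOf E).index = p from h1] at this
      simpa [mem_subgroupOf] using this
    have h0 : ∀ e ∈ E, ⁅e, x⁆ ∈ zpowers c := by
      intro e he
      haveI : (Z.subgroupOf E).Normal := ⟨fun z hz e => by
        rw [mem_subgroupOf] at hz ⊢
        push_cast
        rw [← hZc _ hz e (hEN e.2), mul_inv_cancel_right]
        exact hz⟩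
      have hcard : Nat.card (E ⧸ Z.subgroupOf E) = p := by
        have h2 := relIndex_mul_relIndex Z E N inf_le_left hEN
        rw [hidxZ, hrel] at h2
        exact Nat.eq_of_mul_eq_mul_right hp.out.pos h2
      have h1 : (QuotientGroup.mk (⟨e₀, he₀⟩ : E) : E ⧸ Z.subgroupOf E) ≠ 1 := fun h =>
        he₀Z (show (⟨e₀, he₀⟩ : E) ∈ Z.subgroupOf E from (QuotientGroup.eq_one_iff (N := Z.subgroupOf E) _).mp h)
      obtain ⟨k, hk⟩ := (mem_powers_iff_mem_zpowers.mpr ((zpowers_eq_top_of_prime_card hcard h1).symm ▸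
        mem_top (QuotientGroup.mk (⟨e, he⟩ : E) : E ⧸ Z.subgroupOf E)))
      have hk' : (⟨e₀, he₀⟩ : E) ^ k * (Z.subgroupOf E).subtype 1 = (⟨e₀, he₀⟩ : E) ^ k := mul_one _
      have hz : (e₀ ^ k)⁻¹ * e ∈ Z := by
        have h2 := QuotientGroup.eq.mp ((QuotientGroup.mk_pow _ _ k).trans hk)
        simpa [mem_subgroupOf] using h2
      have hpow : ∀ j : ℕ, ⁅e₀ ^ j, x⁆ = c ^ j := by
        intro j
        induction j with
        | zero => simp
        | succ j ih => rw [pow_succ, hbil' x hxN _ (pow_mem (hEN he₀) j) _ (hEN he₀), ih, pow_succ]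
      rw [show e = e₀ ^ k * ((e₀ ^ k)⁻¹ * e) by rw [mul_inv_cancel_left],
        hbil' x hxN _ (pow_mem (hEN he₀) k) _ (hEN hz.1), hpow,
        show ⁅(e₀ ^ k)⁻¹ * e, x⁆ = 1 from commutatorElement_eq_one_iff_mul_comm.mpr (hZc _ hz x hxN), mul_one]
      exact pow_mem (mem_zpowers c) k
    have h1 : ∀ e ∈ E, ∀ i : ℤ, ⁅e, x ^ i⁆ ∈ zpowers c := by
      intro e he i
      let S : Subgroup P :=
        { carrier := {b | b ∈ N ∧ ⁅e, b⁆ ∈ zpowers c}
          one_mem' := ⟨one_mem _, by simp⟩
          mul_mem' := fun {a b} ha hb => ⟨mul_mem ha.1 hb.1, by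
            rw [hbil e (hEN he) a ha.1 b hb.1]; exact mul_mem ha.2 hb.2⟩
          inv_mem' := fun {a} ha => ⟨inv_mem ha.1, by
            have h2 := hbil e (hEN he) a ha.1 a⁻¹ (inv_mem ha.1)
            rw [mul_inv_cancel, commutatorElement_one_right] at h2
            rw [eq_inv_of_mul_eq_one_right h2.symm]
            exact inv_mem ha.2⟩ }
      exact ((zpowers_le.mpr (show x ∈ S from ⟨hxN, h0 e he⟩)) (zpow_mem (mem_zpowers x) i)).2
    intro a ha b hb
    obtain ⟨e, he, i, rfl⟩ := hmem a ha
    obtain ⟨f, hf, j, rfl⟩ := hmem b hb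
    have hxi : x ^ i ∈ N := zpow_mem hxN i
    have hxj : x ^ j ∈ N := zpow_mem hxN j
    rw [hbil' _ hb e (hEN he) _ hxi, hbil e (hEN he) f (hEN hf) _ hxj, hbil _ hxi f (hEN hf) _ hxj,
      show ⁅e, f⁆ = 1 from commutatorElement_eq_one_iff_mul_comm.mpr (hEc e he f hf),
      show ⁅x ^ i, x ^ j⁆ = 1 from commutatorElement_eq_one_iff_mul_comm.mpr (Commute.zpow_zpow_self x i j).eq,
      one_mul, mul_one, ← commutatorElement_inv f (x ^ i)]
    exact mul_mem (h1 e he j) (inv_mem (h1 f hf i))
  have hDc : D = zpowers c :=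
    le_antisymm (commutator_le.mpr hgenD) (zpowers_le.mpr (commutator_mem_commutator (hEN he₀) hxN))
  have hDZ : D ≤ Z := commutator_le.mpr hcommZ
  refine ⟨?_, hDZ.trans inf_le_left, fun d hd n hn => hZc d (hDZ hd) n hn, ?_⟩
  · rw [hDc, Nat.card_zpowers]
    refine orderOf_eq_prime ?_ (hnC e₀ he₀ he₀Z)
    have hpow : ∀ j : ℕ, ⁅e₀, x ^ j⁆ = c ^ j := by
      intro j
      induction j with
      | zero => simp
      | succ j ih => rw [pow_succ, hbil e₀ (hEN he₀) _ (pow_mem hxN j) _ hxN, ih, pow_succ]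
    rw [← hpow]
    exact commutatorElement_eq_one_iff_mul_comm.mpr (hZc _ hxpZ e₀ (hEN he₀)).symm
  · -- the abelian maximal subgroups
    set N₂ := normalizer (N : Set P) with hN₂
    have hNN₂ : N ≤ N₂ := le_normalizer
    obtain ⟨j, hj⟩ := ((hP.to_subgroup N₂).index (N.subgroupOf N₂))
    have hj0 : j ≠ 0 := fun h => by
      rw [h, pow_zero, index_eq_one, subgroupOf_eq_top] at hj
      exact hgn (hj hgN)
    haveI : (Z.subgroupOf N).Normal := ⟨fun z hz n => by
      rw [mem_subgroupOf] at hz ⊢
      push_cast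
      rw [← hZc _ hz n n.2, mul_inv_cancel_right]
      exact hz⟩
    have hh := CfsgLib.Kulakoff.hyperplanes (p := p) (Z.subgroupOf N)
      (fun a b => hcommZ a a.2 b b.2) (fun a => by
        have hcard : Nat.card (N ⧸ Z.subgroupOf N) = p ^ 2 := by rw [pow_two]; exact hidxZ
        rw [← QuotientGroup.eq_one_iff, QuotientGroup.mk_pow]
        obtain ⟨e, he, i, ha⟩ := hmem a a.2
        have hc' : ∀ u v : N ⧸ Z.subgroupOf N, u * v = v * u := IsPGroup.commutative_of_card_eq_prime_sq hcard
        have ha' : a = (⟨e, hEN he⟩ : N) * (⟨x, hxN⟩ : N) ^ i := Subtype.ext (by simpa using ha)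
        have h1 : ((⟨e, hEN he⟩ : N) : N ⧸ Z.subgroupOf N) ^ p = 1 := by
          rw [← QuotientGroup.mk_pow, QuotientGroup.eq_one_iff, mem_subgroupOf]
          have h2 : Z.relIndex E = p := by
            have h2 := relIndex_mul_relIndex Z E N inf_le_left hEN
            rw [hidxZ, hrel] at h2
            exact Nat.eq_of_mul_eq_mul_right hp.out.pos h2
          haveI : (Z.subgroupOf E).Normal := ⟨fun z hz e => by
            rw [mem_subgroupOf] at hz ⊢
            push_cast
            rw [← hZc _ hz e (hEN e.2), mul_inv_cancel_right]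
            exact hz⟩
          have := Subgroup.pow_index_mem (Z.subgroupOf E) (⟨e, he⟩ : E)
          rw [show (Z.subgroupOf E).index = p from h2] at this
          simpa [mem_subgroupOf] using this
        have h2 : ((⟨x, hxN⟩ : N) : N ⧸ Z.subgroupOf N) ^ p = 1 := by
          rw [← QuotientGroup.mk_pow, QuotientGroup.eq_one_iff, mem_subgroupOf]
          simpa using hxpZ
        rw [ha', QuotientGroup.mk_mul, (show Commute _ _ from hc' _ _).mul_pow, h1, one_mul, QuotientGroup.mk_zpow,
          ← zpow_natCast (((⟨x, hxN⟩ : N) : N ⧸ Z.subgroupOf N) ^ i) p, ← zpow_mul, mul_comm, zpow_mul, zpow_natCast,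
          h2, one_zpow])
    rw [show Nat.card (N ⧸ Z.subgroupOf N) = p * p from hidxZ] at hh
    -- an injection of the cosets
    let T := {M : Subgroup N // M.index = p ∧ Z.subgroupOf N ≤ M}
    have hmap : ∀ h : N₂, N.map (MulAut.conj (h : P)).toMonoidHom = N := fun h => by
      ext y
      rw [Subgroup.mem_map_equiv, MulAut.conj_symm_apply, mem_normalizer_iff.mp h.2 ((h : P)⁻¹ * y * h)]
      simp [mul_assoc]
    let F : N₂ → T := fun h => ⟨(E.map (MulAut.conj (h : P)).toMonoidHom).subgroupOf N, by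
      have hle : E.map (MulAut.conj (h : P)).toMonoidHom ≤ N := (hmap h) ▸ Subgroup.map_mono hEN
      constructor
      · have h1 := card_mul_index ((E.map (MulAut.conj (h : P)).toMonoidHom).subgroupOf N)
        rw [Nat.card_congr (subgroupOfEquivOfLe hle).toEquiv, Subgroup.card_map_of_injective (MulAut.conj (h : P)).injective,
          ← Nat.card_congr (subgroupOfEquivOfLe hEN).toEquiv,
          ← card_mul_index (E.subgroupOf N), show (E.subgroupOf N).index = p from hrel] at h1
        exact Nat.eq_of_mul_eq_mul_left Nat.card_pos h1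
      · intro z hz
        rw [mem_subgroupOf] at hz ⊢
        have hzN : (MulAut.conj (h : P)).symm (z : P) ∈ N := by
          obtain ⟨w, hw, e⟩ := (hmap h).ge z.2
          rw [← e, MulEquiv.coe_toMonoidHom, MulEquiv.symm_apply_apply]
          exact hw
        refine ⟨_, (hcZ _ hzN fun n hn => ?_).1, MulEquiv.apply_symm_apply _ _⟩
        refine (MulAut.conj (h : P)).injective ?_
        rw [map_mul, map_mul, MulEquiv.apply_symm_apply]
        exact hZc _ hz _ ((hmap h).le ⟨n, hn, rfl⟩)⟩
    let F' : N₂ ⧸ N.subgroupOf N₂ → T := Quotient.lift F fun a b hab => by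
      have hab : a⁻¹ * b ∈ N.subgroupOf N₂ := QuotientGroup.leftRel_apply.mp hab
      rw [mem_subgroupOf] at hab
      refine Subtype.ext ?_
      show (E.map (MulAut.conj (a : P)).toMonoidHom).subgroupOf N = (E.map (MulAut.conj (b : P)).toMonoidHom).subgroupOf N
      congr 1
      ext y
      rw [Subgroup.mem_map_equiv, Subgroup.mem_map_equiv, MulAut.conj_symm_apply, MulAut.conj_symm_apply]
      push_cast at hab
      rw [mem_normalizer_iff''.mp hab]
      simp [mul_assoc]
    have hFinj : Function.Injective F' := by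
      intro a b hab
      induction a using QuotientGroup.induction_on with
      | _ a =>
      induction b using QuotientGroup.induction_on with
      | _ b =>
      rw [QuotientGroup.eq, mem_subgroupOf]
      push_cast
      have hle : ∀ h : N₂, E.map (MulAut.conj (h : P)).toMonoidHom ≤ N := fun h => (hmap h) ▸ Subgroup.map_mono hEN
      have h2 : E.map (MulAut.conj (a : P)).toMonoidHom = E.map (MulAut.conj (b : P)).toMonoidHom := by
        have := Subgroup.subgroupOf_inj.mp (congrArg Subtype.val hab)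
        rwa [inf_eq_left.mpr (hle a), inf_eq_left.mpr (hle b)] at this
      refine mem_normalizer_iff''.mpr fun y => ?_
      constructor
      · intro hy
        obtain ⟨w, hw, e⟩ := h2.le ⟨y, hy, rfl⟩
        simp only [MulEquiv.coe_toMonoidHom, MulAut.conj_apply] at e
        rw [show ((a : P)⁻¹ * b)⁻¹ * y * ((a : P)⁻¹ * b) = w by
          rw [show ((a : P)⁻¹ * b)⁻¹ * y * ((a : P)⁻¹ * b) = (b : P)⁻¹ * ((a : P) * y * (a : P)⁻¹) * b by group, ← e]
          group]
        exact hw
      · intro hy
        obtain ⟨w, hw, e⟩ := h2.ge ⟨_, hy, rfl⟩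
        simp only [MulEquiv.coe_toMonoidHom, MulAut.conj_apply] at e
        rw [show y = w by
          calc y = (a : P)⁻¹ * (b * (((a : P)⁻¹ * b)⁻¹ * y * ((a : P)⁻¹ * b)) * (b : P)⁻¹) * a := by group
            _ = w := by rw [← e]; group]
        exact hw
    have hle := Nat.card_le_card_of_injective F' hFinj
    rw [show Nat.card (N₂ ⧸ N.subgroupOf N₂) = p ^ j from hj] at hle
    change p ^ j ≤ Nat.card {M : Subgroup N // M.index = p ∧ Z.subgroupOf N ≤ M} at hle
    have h2 := hp.out.two_le
    show (N.subgroupOf N₂).index = p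
    rw [hj]
    by_contra hne'
    have hj2 : 2 ≤ j := by
      by_contra hlt
      exact hne' (by rw [show j = 1 by omega, pow_one])
    have h3 : p ^ 2 ≤ p ^ j := Nat.pow_le_pow_right hp.out.pos hj2
    set h' := Nat.card {M : Subgroup N // M.index = p ∧ Z.subgroupOf N ≤ M}
    obtain ⟨q, rfl⟩ : ∃ q, p = q + 1 := ⟨p - 1, by omega⟩
    rw [Nat.add_sub_cancel] at hh
    nlinarith

end basics

theorem chain : ∀ (n : ℕ) (P : Type u) [Group P] [Finite P], Nat.card P ≤ n → IsPGroup p P → ∀ (E : Subgroup P),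
    IsMulCommutative E → centralizer (E : Set P) ≤ E → E.relIndex (normalizer (E : Set P)) = p → p ^ 2 ≤ E.index →
    (∀ K L : Subgroup P, E ≤ K → E ≤ L → K ≤ L ∨ L ≤ K) ∧
      (∀ K : Subgroup P, E ≤ K → K ≠ ⊤ → K.relIndex (normalizer (K : Set P)) = p) ∧
      ∀ K : Subgroup P, normalizer (E : Set P) ≤ K → K ≠ ⊤ →
        ∀ d ∈ (⁅normalizer (E : Set P), normalizer (E : Set P)⁆ : Subgroup P), ∀ k ∈ K, d * k = k * d := by
  intro n
  induction n with
  | zero => intro P _ _ h; exact absurd h (not_le.mpr Nat.card_pos)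
  | succ n ih =>
  intro P _ _ hn hP E hEab hC hN hidx
  classical
  obtain ⟨hDp, hDE, hDc, hN2⟩ := comm_le hP hN hC hEab hidx
  set N := normalizer (E : Set P) with hNdef
  set D := (⁅N, N⁆ : Subgroup P) with hDdef
  have hEN : E ≤ N := le_normalizer
  have hNtop := N_ne_top hN hidx
  haveI : Nontrivial P := by
    obtain ⟨x, -, hx⟩ := SetLike.exists_of_lt (lt_top_iff_ne_top.mpr hNtop)
    exact ⟨x, 1, fun h => hx (h ▸ one_mem _)⟩
  haveI := hP.center_nontrivial
  obtain ⟨k, hk⟩ := IsPGroup.iff_card.mp (hP.to_subgroup (center P))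
  obtain ⟨w, hw⟩ := exists_prime_orderOf_dvd_card' (G := center P) p (by
    rw [hk]
    refine dvd_pow_self p fun h => ?_
    rw [h, pow_zero] at hk
    have := Finite.one_lt_card (α := center P)
    omega)
  set W := zpowers (w : P) with hW
  have hWc : W ≤ center P := zpowers_le.mpr w.2
  haveI : W.Normal := ⟨fun x hx g => by
    rw [mem_center_iff.mp (hWc hx) g, mul_inv_cancel_right]; exact hx⟩
  have hWp : Nat.card W = p := by rw [hW, Nat.card_zpowers, Subgroup.orderOf_coe, hw]
  have hWE : W ≤ E := fun y hy => hC fun e _ => mem_center_iff.mp (hWc hy) e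
  set f := QuotientGroup.mk' W with hf
  have hfs : Function.Surjective f := QuotientGroup.mk'_surjective W
  have hker : f.ker = W := QuotientGroup.ker_mk' W
  have hcard : Nat.card (P ⧸ W) ≤ n := by
    have h1 := card_eq_card_quotient_mul_card_subgroup W
    rw [hWp] at h1
    have := hp.out.two_le
    have := Nat.card_pos (α := P ⧸ W)
    nlinarith
  have hcommW : ∀ g : P, ∀ S : Subgroup P, f g ∈ centralizer ((S.map f : Subgroup (P ⧸ W)) : Set (P ⧸ W)) →
      ∀ s ∈ S, ⁅g, s⁆ ∈ W := by
    intro g S hg s hs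
    rw [← QuotientGroup.eq_one_iff, ← QuotientGroup.mk'_apply, map_commutatorElement,
      commutatorElement_eq_one_iff_mul_comm]
    exact (hg (f s) ⟨s, hs, rfl⟩).symm
  have hnormE : ∀ g : P, (∀ e ∈ E, ⁅g, e⁆ ∈ E) → g ∈ N := by
    intro g hg
    have h1 : ∀ e ∈ E, g * e * g⁻¹ ∈ E := fun e he => by
      rw [show g * e * g⁻¹ = ⁅g, e⁆ * e by rw [commutatorElement_def, inv_mul_cancel_right]]
      exact mul_mem (hg e he) he
    refine mem_normalizer_iff.mpr fun e => ⟨h1 e, fun he => ?_⟩
    have hEeq : E.map (MulAut.conj g).toMonoidHom = E :=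
      eq_of_le_of_card_ge (by rintro _ ⟨a, ha, rfl⟩; exact h1 a ha)
        (Subgroup.card_map_of_injective (MulAut.conj g).injective).ge
    obtain ⟨a, ha, e'⟩ := hEeq.ge he
    rw [← mul_left_cancel (mul_right_cancel e')]
    exact ha
  rcases eq_or_ne D W with hDW | hDW
  · -- central derived subgroup
    have h4 : ∀ K : Subgroup P, N ≤ K → K ≠ ⊤ → ∀ d ∈ D, ∀ k ∈ K, d * k = k * d := fun K _ _ d hd k _ =>
      (mem_center_iff.mp (hWc (hDW ▸ hd)) k).symm
    set E₂ := N.map f with hE₂
    have hWN : f.ker ≤ N := by rw [hker]; exact hWE.trans hEN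
    have hE₂i : E₂.index = N.index := index_map_eq _ hfs hWN
    rcases lt_or_ge N.index (p ^ 2) with hlt | hge
    · obtain ⟨j, hj⟩ := hP.index N
      have hj1 : j = 1 := by
        rw [hj, Nat.pow_lt_pow_iff_right hp.out.one_lt] at hlt
        rcases Nat.eq_zero_or_pos j with rfl | h
        · rw [pow_zero, index_eq_one] at hj; exact absurd hj hNtop
        · omega
      rw [hj1, pow_one] at hj
      have hcase : ∀ K : Subgroup P, E ≤ K → K = E ∨ K = N ∨ K = ⊤ := by
        intro K hK
        rcases eq_or_lt_of_le hK with h | h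
        · exact Or.inl h.symm
        · have hNK := N_le hP hN h
          rcases (Nat.dvd_prime hp.out).mp (hj ▸ index_dvd_of_le hNK) with h' | h'
          · exact Or.inr (Or.inr (index_eq_one.mp h'))
          · refine Or.inr (Or.inl (eq_of_le_of_card_ge hNK ?_).symm)
            have h1 := K.card_mul_index
            rw [h', ← N.card_mul_index, hj] at h1
            exact (Nat.eq_of_mul_eq_mul_right hp.out.pos h1).le
      refine ⟨fun K L hK hL => ?_, fun K hK hKt => ?_, h4⟩
      · rcases hcase K hK with rfl | rfl | rfl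
        · exact Or.inl hL
        · rcases hcase L hL with rfl | rfl | rfl
          · exact Or.inr hEN
          · exact Or.inl le_rfl
          · exact Or.inl le_top
        · exact Or.inr le_top
      · rcases hcase K hK with rfl | rfl | rfl
        · exact hN
        · exact hN2
        · exact absurd rfl hKt
    · have hab₂ : IsMulCommutative E₂ := ⟨⟨by
        rintro ⟨_, a, ha, rfl⟩ ⟨_, b, hb, rfl⟩
        refine Subtype.ext ?_
        show f a * f b = f b * f a
        rw [← commutatorElement_eq_one_iff_mul_comm, ← map_commutatorElement, QuotientGroup.mk'_apply,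
          QuotientGroup.eq_one_iff, ← hDW]
        exact commutator_mem_commutator ha hb⟩⟩
      have hC₂ : centralizer (E₂ : Set (P ⧸ W)) ≤ E₂ := by
        intro y hy
        obtain ⟨g, rfl⟩ := hfs y
        exact ⟨g, hnormE g fun e he => hWE (hcommW g N hy e (hEN he)), rfl⟩
      obtain ⟨c1, c2, -⟩ := ih (P ⧸ W) hcard (hP.to_quotient W) E₂ hab₂ hC₂
        (by rw [(normalizer_map f hfs hWN).2]; exact hN2) (hE₂i ▸ hge)
      refine ⟨fun K L hK hL => ?_, fun K hK hKt => ?_, h4⟩
      · rcases eq_or_lt_of_le hK with h | hK'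
        · exact Or.inl (h ▸ hL)
        rcases eq_or_lt_of_le hL with h | hL'
        · exact Or.inr (h ▸ hK)
        have hKN := N_le hP hN hK'
        have hLN := N_le hP hN hL'
        rcases c1 (K.map f) (L.map f) (Subgroup.map_mono hKN) (Subgroup.map_mono hLN) with h | h
        · left
          have := Subgroup.comap_mono (f := f) h
          rwa [comap_map_eq_self (hWN.trans hKN), comap_map_eq_self (hWN.trans hLN)] at this
        · right
          have := Subgroup.comap_mono (f := f) h
          rwa [comap_map_eq_self (hWN.trans hKN), comap_map_eq_self (hWN.trans hLN)] at this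
      · rcases eq_or_lt_of_le hK with h | hK'
        · rw [← h]; exact hN
        have hKN := N_le hP hN hK'
        rw [← (normalizer_map f hfs (hWN.trans hKN)).2]
        refine c2 _ (Subgroup.map_mono hKN) fun h => hKt ?_
        rw [← comap_map_eq_self (f := f) (hWN.trans hKN), h, comap_top]
  · -- the quotient stays of the same kind
    have hWEk : f.ker ≤ E := by rw [hker]; exact hWE
    set E₁ := E.map f with hE₁
    have hab₁ : IsMulCommutative E₁ := ⟨⟨by
      rintro ⟨_, a, ha, rfl⟩ ⟨_, b, hb, rfl⟩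
      refine Subtype.ext ?_
      show f a * f b = f b * f a
      rw [← map_mul, ← map_mul, show a * b = b * a from congrArg Subtype.val (hEab.is_comm.comm ⟨a, ha⟩ ⟨b, hb⟩)]⟩⟩
    have hC₁ : centralizer (E₁ : Set (P ⧸ W)) ≤ E₁ := by
      intro y hy
      obtain ⟨g, rfl⟩ := hfs y
      have hgN := hnormE g fun e he => hWE (hcommW g E hy e he)
      refine ⟨g, hC fun e he => ?_, rfl⟩
      have h1 : ⁅g, e⁆ ∈ W ⊓ D := ⟨hcommW g E hy e he, commutator_mem_commutator hgN (hEN he)⟩
      have h2 : W ⊓ D = ⊥ := by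
        rcases (Nat.dvd_prime hp.out).mp ((card_dvd_of_le (inf_le_left : W ⊓ D ≤ W)).trans hWp.dvd) with h | h
        · exact card_eq_one.mp h
        · refine absurd ?_ hDW
          have e1 : W ⊓ D = W := eq_of_le_of_card_ge inf_le_left (by rw [hWp, h])
          exact (eq_of_le_of_card_ge (inf_eq_left.mp e1) (by rw [hDp, hWp])).symm
      rw [h2, mem_bot, commutatorElement_eq_one_iff_mul_comm] at h1
      exact h1.symm
    obtain ⟨c1, c2, c4⟩ := ih (P ⧸ W) hcard (hP.to_quotient W) E₁ hab₁ hC₁
      (by rw [(normalizer_map f hfs hWEk).2]; exact hN) (by rw [index_map_eq _ hfs hWEk]; exact hidx)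
    have h1' : ∀ K L : Subgroup P, E ≤ K → E ≤ L → K ≤ L ∨ L ≤ K := by
      intro K L hK hL
      rcases c1 (K.map f) (L.map f) (Subgroup.map_mono hK) (Subgroup.map_mono hL) with h | h
      · left
        have := Subgroup.comap_mono (f := f) h
        rwa [comap_map_eq_self (hWEk.trans hK), comap_map_eq_self (hWEk.trans hL)] at this
      · right
        have := Subgroup.comap_mono (f := f) h
        rwa [comap_map_eq_self (hWEk.trans hK), comap_map_eq_self (hWEk.trans hL)] at this
    have h2' : ∀ K : Subgroup P, E ≤ K → K ≠ ⊤ → K.relIndex (normalizer (K : Set P)) = p := by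
      intro K hK hKt
      rw [← (normalizer_map f hfs (hWEk.trans hK)).2]
      refine c2 _ (Subgroup.map_mono hK) fun h => hKt ?_
      rw [← comap_map_eq_self (f := f) (hWEk.trans hK), h, comap_top]
    have hNimg : normalizer ((E₁ : Subgroup (P ⧸ W)) : Set (P ⧸ W)) = N.map f := by
      rw [hE₁, hNdef, ← (normalizer_map f hfs hWEk).1, map_comap_eq_self_of_surjective hfs]
    refine ⟨h1', h2', ?_⟩
    suffices key : ∀ j, ∀ K : Subgroup P, N ≤ K → K ≠ ⊤ → Nat.card K = j → ∀ d ∈ D, ∀ k ∈ K, d * k = k * d from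
      fun K hK hKt => key _ K hK hKt rfl
    intro j
    induction j using Nat.strong_induction_on with
    | _ j ihj =>
    intro M hNM hMt hMj
    subst hMj
    rcases eq_or_lt_of_le hNM with rfl | hlt
    · exact hDc
    -- the subgroup just below
    obtain ⟨A, ⟨hNA, hAM⟩, hAmax⟩ := (Set.toFinite {A : Subgroup P | N ≤ A ∧ A < M}).exists_maximal ⟨N, le_rfl, hlt⟩
    have hAt : A ≠ ⊤ := fun h => hMt (top_le_iff.mp (h ▸ hAM.le))
    have hAc := ihj _ (lt_of_le_of_ne (Subgroup.card_le_of_le hAM.le)
      fun h => hAM.ne (eq_of_le_of_card_ge hAM.le h.ge)) A hNA hAt rfl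
    obtain ⟨g, hgM, hgA, hgnA⟩ := exists_normalizer_gt hP hAM
    have hAN : normalizer (A : Set P) = M := by
      have hA2 := h2' A (hEN.trans hNA) hAt
      have hle : A < M ⊓ normalizer (A : Set P) :=
        lt_of_le_of_ne (le_inf hAM.le le_normalizer) fun e => hgnA (e ▸ ⟨hgM, hgA⟩)
      have hM' : M ⊓ normalizer (A : Set P) = M := by
        by_contra hne
        exact hle.not_ge (hAmax ⟨hNA.trans hle.le, lt_of_le_of_ne inf_le_left hne⟩ hle.le)
      have hMN : M ≤ normalizer (A : Set P) := inf_eq_left.mp hM'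
      have h1 := relIndex_mul_relIndex A M (normalizer (A : Set P)) hAM.le hMN
      rw [hA2] at h1
      rcases (Nat.dvd_prime hp.out).mp ⟨_, h1.symm⟩ with h3 | h3
      · exact absurd (relIndex_eq_one.mp h3) hAM.not_ge
      · rw [h3] at h1
        exact le_antisymm (relIndex_eq_one.mp (Nat.eq_of_mul_eq_mul_left hp.out.pos (h1.trans (mul_one p).symm))) hMN
    obtain ⟨h, -, hhM, hhn⟩ := exists_normalizer_gt hP (lt_top_iff_ne_top.mpr hMt)
    have hMmap : M.map (MulAut.conj h).toMonoidHom = M := by
      ext y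
      rw [Subgroup.mem_map_equiv, MulAut.conj_symm_apply, mem_normalizer_iff.mp hhM (h⁻¹ * y * h)]
      simp [mul_assoc]
    set B := A.map (MulAut.conj h).toMonoidHom with hB
    have hBM : B ≤ M := hMmap ▸ Subgroup.map_mono hAM.le
    have hBA : B ≠ A := fun e => hhn (by
      rw [← hAN, mem_normalizer_iff]
      intro y
      constructor
      · intro hy; exact e.le ⟨y, hy, rfl⟩
      · intro hy
        obtain ⟨w, hw, ew⟩ := e.ge hy
        rw [← mul_left_cancel (mul_right_cancel ew)]
        exact hw)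
    have hEB : ¬ E ≤ B := fun hle => hBA (by
      have hcB : Nat.card B = Nat.card A := Subgroup.card_map_of_injective (MulAut.conj h).injective
      rcases h1' A B (hEN.trans hNA) hle with h3 | h3
      · exact (eq_of_le_of_card_ge h3 hcB.le).symm
      · exact eq_of_le_of_card_ge h3 hcB.ge)
    intro d hd
    have hcen : ∀ m ∈ M, ⁅d, m⁆ ∈ W := by
      intro m hm
      have hd' : f d ∈ (⁅normalizer (E₁ : Set (P ⧸ W)), normalizer (E₁ : Set (P ⧸ W))⁆ : Subgroup (P ⧸ W)) := by
        rw [hNimg, ← Subgroup.map_commutator]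
        exact ⟨d, hd, rfl⟩
      have h3 := c4 (M.map f) (hNimg ▸ Subgroup.map_mono hNM) (fun e => hMt (by
        rw [← comap_map_eq_self (f := f) ((hWEk.trans hEN).trans hNM), e, comap_top])) _ hd' (f m) ⟨m, hm, rfl⟩
      rw [← QuotientGroup.eq_one_iff, ← QuotientGroup.mk'_apply, map_commutatorElement,
        commutatorElement_eq_one_iff_mul_comm]
      exact h3
    set d' := h * d * h⁻¹ with hd'
    have hd'E : d' ∈ E := by
      have h3 : f d' ∈ centralizer (E₁ : Set (P ⧸ W)) := by
        rintro _ ⟨e, he, rfl⟩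
        have heM : (MulAut.conj h).symm e ∈ M := by
          obtain ⟨w, hw, ew⟩ := hMmap.ge (hNM (hEN he))
          rw [← ew, MulEquiv.coe_toMonoidHom, MulEquiv.symm_apply_apply]
          exact hw
        have h4 := (inferInstance : W.Normal).conj_mem _ (hcen _ heM) h
        have h5 : ⁅d', e⁆ = h * ⁅d, (MulAut.conj h).symm e⁆ * h⁻¹ := by
          simp only [hd', commutatorElement_def, MulAut.conj_symm_apply]
          group
        rw [← h5, ← QuotientGroup.eq_one_iff, ← QuotientGroup.mk'_apply, map_commutatorElement,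
          commutatorElement_eq_one_iff_mul_comm] at h4
        exact h4.symm
      obtain ⟨a, ha, e⟩ := hC₁ h3
      have h6 : a⁻¹ * d' ∈ W := QuotientGroup.eq.mp e
      rw [show d' = a * (a⁻¹ * d') by rw [mul_inv_cancel_left]]
      exact mul_mem ha (hWE h6)
    have hBd : ∀ b ∈ B, d' * b = b * d' := by
      rintro _ ⟨a, ha, rfl⟩
      simp only [MulEquiv.coe_toMonoidHom, MulAut.conj_apply, hd']
      calc h * d * h⁻¹ * (h * a * h⁻¹) = h * (d * a) * h⁻¹ := by group
        _ = h * (a * d) * h⁻¹ := by rw [hAc d hd a ha]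
        _ = _ := by group
    have hM' : B ⊔ E = M := by
      refine le_antisymm (sup_le hBM (hEN.trans hNM)) ?_
      have hBlt : B < B ⊔ E := lt_of_le_of_ne le_sup_left fun e => hEB (e ▸ le_sup_right)
      have hidx1 : B.relIndex M = p := by
        have h7 : A.relIndex M = p := hAN ▸ h2' A (hEN.trans hNA) hAt
        rw [← hMmap, hB, Subgroup.relIndex_map_map_of_injective _ _ (MulAut.conj h).injective, h7]
      have h1 := relIndex_mul_relIndex B (B ⊔ E) M hBlt.le (sup_le hBM (hEN.trans hNM))
      rw [hidx1] at h1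
      rcases (Nat.dvd_prime hp.out).mp ⟨_, h1.symm⟩ with h3 | h3
      · exact absurd (relIndex_eq_one.mp h3) hBlt.not_ge
      · rw [h3] at h1
        exact relIndex_eq_one.mp (Nat.eq_of_mul_eq_mul_left hp.out.pos (h1.trans (mul_one p).symm))
    have hd'M : ∀ m ∈ M, d' * m = m * d' := by
      intro m hm
      have hle : B ⊔ E ≤ centralizer {d'} := sup_le
        (fun b hb => mem_centralizer_singleton_iff.mpr (hBd b hb).symm)
        (fun e he => mem_centralizer_singleton_iff.mpr
          (congrArg Subtype.val (hEab.is_comm.comm ⟨e, he⟩ ⟨d', hd'E⟩)))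
      exact (mem_centralizer_singleton_iff.mp (hle (hM'.ge hm))).symm
    intro m hm
    have h8 := hd'M _ (hMmap.le ⟨m, hm, rfl⟩)
    simp only [MulEquiv.coe_toMonoidHom, MulAut.conj_apply, hd'] at h8
    calc d * m = h⁻¹ * (h * d * h⁻¹ * (h * m * h⁻¹)) * h := by group
      _ = m * d := by rw [h8]; group

theorem class_eq : ∀ (n : ℕ) (P : Type u) [Group P] [Finite P], Nat.card P ≤ n → IsPGroup p P → ∀ (E : Subgroup P),
    IsMulCommutative E → centralizer (E : Set P) ≤ E → E.relIndex (normalizer (E : Set P)) = p → p ^ 2 ≤ E.index →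
    ∀ (i : ℕ) (K : Subgroup P) [Group.IsNilpotent K], E ≤ K → K ≠ ⊤ → K.index * p ^ i = E.index →
      Group.nilpotencyClass K = i + 1 := by
  intro n
  induction n with
  | zero => intro P _ _ h; exact absurd h (not_le.mpr Nat.card_pos)
  | succ n ih =>
  intro P _ _ hn hP E hEab hC hN hidx i K _ hEK hKt hi
  classical
  obtain ⟨-, hnorm, hcen⟩ := chain (p := p) _ P le_rfl hP E hEab hC hN hidx
  obtain ⟨hDp, hDE, hDc, -⟩ := comm_le hP hN hC hEab hidx
  set N := normalizer (E : Set P) with hNdef
  set D := (⁅N, N⁆ : Subgroup P) with hDdef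
  have hEN : E ≤ N := le_normalizer
  have hKi : Nat.card K = Nat.card E * p ^ i := by
    have h1 := K.card_mul_index
    rw [← E.card_mul_index, ← hi] at h1
    refine Nat.eq_of_mul_eq_mul_right (Nat.pos_of_ne_zero (index_ne_zero_of_finite (H := K))) ?_
    rw [h1]; ring
  refine le_antisymm ?_ ?_
  · -- the upper bound
    rcases eq_or_lt_of_le hEK with rfl | hlt
    · have : i = 0 := by
        have h1 : p ^ i = p ^ 0 := by
          rw [pow_zero]
          exact Nat.eq_of_mul_eq_mul_left Nat.card_pos (hKi.symm.trans (mul_one _).symm)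
        exact Nat.pow_right_injective hp.out.two_le h1
      subst this
      rw [zero_add, ← Subgroup.upperCentralSeries_eq_top_iff_nilpotencyClass_le, Subgroup.upperCentralSeries_one, eq_top_iff]
      exact fun a _ => mem_center_iff.mpr fun b => hEab.is_comm.comm b a
    · have hNK := N_le hP hN hlt
      obtain ⟨Mx, ⟨hKM, hMt⟩, hMmax⟩ := (Set.toFinite {M : Subgroup P | K ≤ M ∧ M ≠ ⊤}).exists_maximal ⟨K, le_rfl, hKt⟩
      haveI : Mx.Normal := by
        obtain ⟨g, -, hg, hgn⟩ := exists_normalizer_gt hP (lt_top_iff_ne_top.mpr hMt)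
        rw [← Subgroup.normalizer_eq_top_iff]
        by_contra hne
        exact hgn (hMmax ⟨hKM.trans le_normalizer, hne⟩ le_normalizer hg)
      set Y := normalClosure (D : Set P) with hY
      have hYc : ∀ y ∈ Y, ∀ m ∈ Mx, y * m = m * y := by
        have hle : Y ≤ centralizer (Mx : Set P) := by
          refine normalClosure_le_normal fun d hd m hm => ?_
          exact (hcen Mx (hNK.trans hKM) hMt d hd m hm).symm
        exact fun y hy m hm => (hle hy m hm).symm
      have hYE : Y ≤ E := fun y hy => hC fun e he => (hYc y hy e (hKM (hEK he))).symm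
      set f := QuotientGroup.mk' Y with hf
      have hfs : Function.Surjective f := QuotientGroup.mk'_surjective Y
      have hkerE : f.ker ≤ E := by rw [hf, QuotientGroup.ker_mk']; exact hYE
      set g : K →* K.map f := f.subgroupMap K with hg
      have hgs : Function.Surjective g := MonoidHom.subgroupMap_surjective f K
      have hgker : g.ker ≤ center K := by
        intro k hk
        have hkY : (k : P) ∈ Y := by
          have h1 := congrArg Subtype.val (MonoidHom.mem_ker.mp hk)
          exact (QuotientGroup.eq_one_iff _).mp h1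
        exact mem_center_iff.mpr fun m => Subtype.ext (hYc _ hkY m (hKM m.2)).symm
      haveI : Group.IsNilpotent (K.map f) := ((hP.to_quotient Y).to_subgroup _).isNilpotent
      have hbound : Group.nilpotencyClass K ≤ Group.nilpotencyClass (K.map f) + 1 :=
        Group.nilpotencyClass_le_of_ker_le_center g hgker
      refine hbound.trans (Nat.succ_le_succ ?_)
      obtain ⟨j, rfl⟩ : ∃ j, i = j + 1 := Nat.exists_eq_succ_of_ne_zero fun h => by
        rw [h, pow_zero, mul_one] at hKi
        exact hlt.ne (eq_of_le_of_card_ge hEK hKi.le)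
      have hNi : N.index * p = E.index := by
        rw [← hN, mul_comm]
        exact relIndex_mul_index hEN
      have hKj : K.index * p ^ j = N.index := by
        refine Nat.eq_of_mul_eq_mul_right hp.out.pos ?_
        rw [hNi, ← hi, pow_succ, mul_assoc]
      rcases Nat.eq_zero_or_pos j with rfl | hj
      · -- the normalizer itself
        have hKN : N = K := eq_of_le_of_card_ge hNK (by
          have h1 := N.card_mul_index
          rw [← K.card_mul_index, ← hKj, pow_zero, mul_one] at h1
          exact (Nat.eq_of_mul_eq_mul_right (Nat.pos_of_ne_zero (index_ne_zero_of_finite (H := K))) h1).ge)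
        rw [zero_add, ← Subgroup.upperCentralSeries_eq_top_iff_nilpotencyClass_le, Subgroup.upperCentralSeries_one, eq_top_iff]
        rintro ⟨_, a, ha, rfl⟩ -
        refine mem_center_iff.mpr ?_
        rintro ⟨_, b, hb, rfl⟩
        refine Subtype.ext ?_
        show f b * f a = f a * f b
        rw [← commutatorElement_eq_one_iff_mul_comm, ← map_commutatorElement, hf, QuotientGroup.mk'_apply,
          QuotientGroup.eq_one_iff]
        exact subset_normalClosure (commutator_mem_commutator (hKN ▸ hb) (hKN ▸ ha))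
      have hab₂ : IsMulCommutative (N.map f) := ⟨⟨by
        rintro ⟨_, a, ha, rfl⟩ ⟨_, b, hb, rfl⟩
        refine Subtype.ext ?_
        show f a * f b = f b * f a
        rw [← commutatorElement_eq_one_iff_mul_comm, ← map_commutatorElement, hf, QuotientGroup.mk'_apply,
          QuotientGroup.eq_one_iff]
        exact subset_normalClosure (commutator_mem_commutator ha hb)⟩⟩
      have hC₂ : centralizer ((N.map f : Subgroup (P ⧸ Y)) : Set (P ⧸ Y)) ≤ N.map f := by
        intro y hy
        obtain ⟨w, rfl⟩ := hfs y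
        have hcomm : ∀ e ∈ E, w * e * w⁻¹ ∈ E := fun e he => by
          have h1 : ⁅w, e⁆ ∈ Y := by
            rw [← QuotientGroup.eq_one_iff, ← QuotientGroup.mk'_apply, map_commutatorElement,
              commutatorElement_eq_one_iff_mul_comm]
            exact (hy (f e) ⟨e, hEN he, rfl⟩).symm
          rw [show w * e * w⁻¹ = ⁅w, e⁆ * e by rw [commutatorElement_def, inv_mul_cancel_right]]
          exact mul_mem (hYE h1) he
        refine ⟨w, mem_normalizer_iff.mpr fun e => ⟨hcomm e, fun he => ?_⟩, rfl⟩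
        have hEeq : E.map (MulAut.conj w).toMonoidHom = E :=
          eq_of_le_of_card_ge (by rintro _ ⟨a, ha, rfl⟩; exact hcomm a ha)
            (Subgroup.card_map_of_injective (MulAut.conj w).injective).ge
        obtain ⟨a, ha, e'⟩ := hEeq.ge he
        rw [← mul_left_cancel (mul_right_cancel e')]
        exact ha
      have hcardY : Nat.card (P ⧸ Y) ≤ n := by
        have h1 := card_eq_card_quotient_mul_card_subgroup Y
        have h2 : p ≤ Nat.card Y := hDp ▸ Subgroup.card_le_of_le (subset_normalClosure : (D : Set P) ⊆ Y)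
        have := hp.out.two_le
        have := Nat.card_pos (α := P ⧸ Y)
        nlinarith
      refine le_of_eq (ih (P ⧸ Y) hcardY (hP.to_quotient Y) (N.map f) hab₂ hC₂ ?_ ?_ j (K.map f) (Subgroup.map_mono hNK)
        (fun h => hKt (by rw [← comap_map_eq_self (f := f) (hkerE.trans hEK), h, comap_top])) ?_)
      · rw [(normalizer_map f hfs (hkerE.trans hEN)).2]
        exact hnorm N hEN (N_ne_top hN hidx)
      · rw [index_map_eq _ hfs (hkerE.trans hEN), ← hKj, pow_two]
        refine Nat.mul_le_mul ?_ ?_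
        · obtain ⟨r, hr⟩ := hP.index K
          rw [hr]
          refine Nat.le_self_pow (fun h => hKt ?_) p
          rw [h, pow_zero, index_eq_one] at hr
          exact hr
        · exact Nat.le_self_pow (by omega) p
      · rw [index_map_eq _ hfs (hkerE.trans hEK), index_map_eq _ hfs (hkerE.trans hEN), hKj]
  · -- the lower bound
    have key : ∀ j, ∃ L : Subgroup P, E ≤ L ∧ Nat.card L ≤ Nat.card E * p ^ j ∧
        (Subgroup.upperCentralSeries K (j + 1)).map K.subtype ≤ L := by
      intro j
      induction j with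
      | zero =>
        refine ⟨E, le_rfl, by simp, ?_⟩
        rw [zero_add, Subgroup.upperCentralSeries_one]
        rintro _ ⟨z, hz, rfl⟩
        exact hC fun e he => congrArg Subtype.val (mem_center_iff.mp hz ⟨e, hEK he⟩)
      | succ j ihj =>
        obtain ⟨L, hEL, hcard, hle⟩ := ihj
        by_cases hKL : K ≤ L
        · refine ⟨L, hEL, hcard.trans (Nat.mul_le_mul_left _ (Nat.pow_le_pow_right hp.out.pos (Nat.le_succ j))),
            (Subgroup.map_subtype_le _).trans hKL⟩
        have hLK : L ⊓ K ≠ ⊤ := fun h => hKt (top_le_iff.mp (h ▸ inf_le_right))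
        have hEL' : E ≤ L ⊓ K := le_inf hEL hEK
        refine ⟨normalizer ((L ⊓ K : Subgroup P) : Set P), hEL'.trans le_normalizer, ?_, ?_⟩
        · have h1 := hnorm _ hEL' hLK
          have h2 : Nat.card (normalizer ((L ⊓ K : Subgroup P) : Set P)) = Nat.card (L ⊓ K : Subgroup P) * p := by
            rw [← h1, Subgroup.relIndex, ← Nat.card_congr (subgroupOfEquivOfLe (le_normalizer (H := L ⊓ K))).toEquiv,
              card_mul_index]
          rw [h2, pow_succ, ← mul_assoc]
          exact Nat.mul_le_mul_right _ ((Subgroup.card_le_of_le inf_le_left).trans hcard)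
        · rintro _ ⟨z, hz, rfl⟩
          have hstep : ∀ v : K, ⁅z, v⁆ ∈ Subgroup.upperCentralSeries K (j + 1) := fun v =>
            Subgroup.mem_upperCentralSeries_succ_iff.mp hz v
          have h1 : ∀ l ∈ L ⊓ K, (z : P) * l * (z : P)⁻¹ ∈ L ⊓ K := fun l hl => by
            rw [show (z : P) * l * (z : P)⁻¹ = ⁅(z : P), l⁆ * l by rw [commutatorElement_def, inv_mul_cancel_right]]
            refine mul_mem (mem_inf.mpr ⟨hle ⟨_, hstep ⟨l, hl.2⟩, rfl⟩, ?_⟩) hl
            rw [commutatorElement_def]
            exact mul_mem (mul_mem (mul_mem z.2 hl.2) (inv_mem z.2)) (inv_mem hl.2)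
          refine mem_normalizer_iff.mpr fun l => ⟨h1 l, fun hl => ?_⟩
          have hEeq : (L ⊓ K).map (MulAut.conj (z : P)).toMonoidHom = L ⊓ K :=
            eq_of_le_of_card_ge (by rintro _ ⟨a, ha, rfl⟩; exact h1 a ha)
              (Subgroup.card_map_of_injective (MulAut.conj (z : P)).injective).ge
          obtain ⟨a, ha, e'⟩ := hEeq.ge hl
          show l ∈ L ⊓ K
          rw [← mul_left_cancel (mul_right_cancel e')]
          exact ha
    by_contra hlt
    have hlt' : Group.nilpotencyClass K ≤ i := by omega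
    rcases Nat.eq_zero_or_pos i with rfl | hi0
    · have : Subsingleton K := Group.nilpotencyClass_zero_iff_subsingleton.mp (Nat.le_zero.mp hlt')
      have hEbot : E = ⊥ := eq_bot_iff.mpr fun e he => mem_bot.mpr (congrArg Subtype.val
        (Subsingleton.elim (⟨e, hEK he⟩ : K) 1))
      rw [hEbot, pow_zero, mul_one] at hKi
      have hCt : centralizer (E : Set P) = ⊤ := by
        rw [hEbot, eq_top_iff]
        intro g _ b hb
        rw [SetLike.mem_coe, mem_bot] at hb
        simp [hb]
      have hEt : E = ⊤ := top_le_iff.mp (hCt ▸ hC)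
      rw [hEt, index_top] at hidx
      have := hp.out.two_le
      nlinarith
    · obtain ⟨L, -, hcard, hle⟩ := key (i - 1)
      rw [Nat.sub_add_cancel hi0, Subgroup.upperCentralSeries_eq_top_iff_nilpotencyClass_le.mpr hlt',
        ← MonoidHom.range_eq_map, K.range_subtype] at hle
      have h1 := (Subgroup.card_le_of_le hle).trans hcard
      rw [hKi] at h1
      have h2 := Nat.le_of_mul_le_mul_left h1 Nat.card_pos
      rw [Nat.pow_le_pow_iff_right hp.out.one_lt] at h2
      omega

end Aux

/-- Let P be a finite p-group and E an abelian subgroup of P that contains its centralizer, has index p in its normalizer, and has index at least p² in P. Then the subgroups of P containing E are totally ordered by inclusion, each proper one has index p in its normalizer (so they form the normalizer tower of E, with all steps of index p), and the i-th member of the tower above E has nilpotency class i + 1 whenever it is a proper subgroup of P. -/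
theorem result {P : Type*} [Group P] [Finite P] (p : ℕ) [Fact p.Prime] (hP : IsPGroup p P)
    (E : Subgroup P) (hEab : IsMulCommutative ↥E) (hC : Subgroup.centralizer (E : Set P) ≤ E)
    (hN : (E.subgroupOf (Subgroup.normalizer (E : Set P))).index = p) (hidx : p ^ 2 ≤ E.index) :
    (∀ K L : Subgroup P, E ≤ K → E ≤ L → K ≤ L ∨ L ≤ K) ∧
      (∀ K : Subgroup P, E ≤ K → K ≠ ⊤ → (K.subgroupOf (Subgroup.normalizer (K : Set P))).index = p) ∧
      ∀ (i : ℕ) (K : Subgroup P) [Group.IsNilpotent ↥K], E ≤ K → K ≠ ⊤ → K.index * p ^ i = E.index →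
        Group.nilpotencyClass ↥K = i + 1 := by
  have h := Aux.chain (p := p) (Nat.card P) P le_rfl hP E hEab hC hN hidx
  exact ⟨h.1, h.2.1, fun i K inst hEK hK hi =>
    Aux.class_eq (p := p) _ P le_rfl hP E hEab hC hN hidx i K hEK hK hi⟩

end Cfsg.Agent.S3811
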