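import Cfsg.Statements.S3815
import Mathlib
import Cfsg.Agent.Lib.Basic
-- import your own Cfsg.Agent.* helpers here

set_option autoImplicit false
open Cfsg

namespace Cfsg.Agent.S3815

/-- Let G be a finite group, p a prime and d ∈ G an element of order prime to p. If dg has order prime to p for every element g ∈ G of order prime to p, then d ∈ O_{p'}(G). -/
theorem result {G : Type*} [Group G] [Finite G] {p : ℕ} [Fact p.Prime]
    (d : G) (hd : (orderOf d).Coprime p)
    (h : ∀ g : G, (orderOf g).Coprime p → (orderOf (d * g)).Coprime p) :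
    d ∈ Cfsg.pPrimeCore p G := by
  set T := {g : G | (orderOf g).Coprime p} with hT
  let D : Submonoid G :=
    { carrier := {c | ∀ g ∈ T, c * g ∈ T}
      one_mem' := fun g hg => by rwa [one_mul]
      mul_mem' := fun {a b} ha hb g hg => by rw [mul_assoc]; exact ha _ (hb g hg) }
  let K : Subgroup G :=
    { D with
      inv_mem' := fun {a} ha => by
        have : a⁻¹ = a ^ (orderOf a - 1) := by
          refine inv_eq_of_mul_eq_one_right ?_
          rw [← pow_succ', Nat.sub_add_cancel (orderOf_pos a), pow_orderOf_eq_one]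
        show a⁻¹ ∈ D
        rw [this]
        exact pow_mem (show a ∈ D from ha) _ }
  have hconj : ∀ x : G, ∀ g ∈ T, x * g * x⁻¹ ∈ T := fun x g hg => by
    show (orderOf (x * g * x⁻¹)).Coprime p
    rw [show orderOf (x * g * x⁻¹) = orderOf g from
      orderOf_injective (MulAut.conj x).toMonoidHom (MulAut.conj x).injective g]
    exact hg
  have hKN : K.Normal := ⟨fun c hc x g hg => by
    have h2 := hconj x _ (hc _ (hconj x⁻¹ g hg))
    rw [show x * c * x⁻¹ * g = x * (c * (x⁻¹ * g * x⁻¹⁻¹)) * x⁻¹ by group]
    exact h2⟩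
  have hdK : d ∈ K := h
  refine CfsgLib.le_pPrimeCore (N := K) ?_ hdK
  rw [Nat.coprime_comm, (Fact.out : p.Prime).coprime_iff_not_dvd]
  intro hdvd
  obtain ⟨⟨a, ha⟩, hao⟩ := exists_prime_orderOf_dvd_card' (G := K) p hdvd
  have ha1 := ha 1 (by show (orderOf (1 : G)).Coprime p; simp)
  rw [mul_one] at ha1
  have : (orderOf a).Coprime p := ha1
  rw [← Subgroup.orderOf_mk a ha] at this
  rw [hao, Nat.coprime_self] at this
  exact (Fact.out : p.Prime).ne_one this

end Cfsg.Agent.S3815
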