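import Cfsg.Statements.S3818
import Mathlib
import Cfsg.Agent.Lib.FixedHalf.Main
-- import your own Cfsg.Agent.* helpers here

set_option autoImplicit false
open Cfsg

namespace Cfsg.Agent.S3818

/-- Let G be a finite solvable group and P a subgroup of G of prime order p > 3 whose conjugates generate G. Let V be a faithful irreducible representation of G over a field of positive characteristic, finite-dimensional. Then the subspace of V fixed by P has dimension less than half the dimension of V. -/
theorem result {G : Type*} [Group G] [Finite G] [Group.IsSolvable G]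
    {p : ℕ} [Fact p.Prime] (hp : 3 < p) (P : Subgroup G) (hP : Nat.card P = p) (hgen : Subgroup.normalClosure (P : Set G) = ⊤)
    {k : Type*} [Field k] (ℓ : ℕ) [Fact ℓ.Prime] [CharP k ℓ]
    {V : Type*} [AddCommGroup V] [Module k V] [FiniteDimensional k V]
    (ρ : Representation k G V) [ρ.IsIrreducible] (hfaith : Function.Injective ρ) :
    2 * Module.finrank k ↥(⨅ g : ↥P, LinearMap.ker (ρ (g : G) - LinearMap.id)) < Module.finrank k V := by
  obtain ⟨x, hxP, hx1⟩ := (Subgroup.ne_bot_iff_exists_ne_one (H := P)).mp (fun h => by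
    rw [h, Subgroup.card_bot] at hP
    have := (Fact.out : p.Prime).one_lt
    omega) |> fun ⟨y, hy⟩ => (⟨(y : G), y.2, fun h => hy (Subtype.ext h)⟩ : ∃ x, x ∈ P ∧ x ≠ 1)
  have hz : Subgroup.zpowers x = P := by
    refine Subgroup.eq_of_le_of_card_ge ((Subgroup.zpowers_le).mpr hxP) ?_
    rw [hP, Nat.card_zpowers]
    have hd : orderOf x ∣ p := hP ▸ Subgroup.orderOf_dvd_natCard P hxP
    rcases (Nat.dvd_prime Fact.out).mp hd with h | h
    · exact absurd (orderOf_eq_one_iff.mp h) hx1
    · exact h.symm.le
  have hxp : x ^ p = 1 := by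
    refine orderOf_dvd_iff_pow_eq_one.mp ?_
    exact hP ▸ Subgroup.orderOf_dvd_natCard P hxP
  have hgen' : Subgroup.normalClosure ({x} : Set G) = ⊤ := by
    rw [← top_le_iff, ← hgen]
    refine Subgroup.normalClosure_le_normal ?_
    rw [← hz, SetLike.coe_subset_coe, Subgroup.zpowers_le]
    exact Subgroup.subset_normalClosure (Set.mem_singleton x)
  have hle : (⨅ g : ↥P, LinearMap.ker (ρ (g : G) - LinearMap.id)) ≤ LinearMap.ker (ρ x - LinearMap.id) :=
    iInf_le (fun g : ↥P => LinearMap.ker (ρ (g : G) - LinearMap.id)) ⟨x, hxP⟩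
  exact lt_of_le_of_lt (Nat.mul_le_mul_left 2 (Submodule.finrank_mono hle))
    (CfsgLib.FixedHalf.half Fact.out hp hxp hx1 hgen' ρ hfaith)

end Cfsg.Agent.S3818
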