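import Cfsg.Statements.S3819
import Mathlib
import Cfsg.Agent.Lib.Coprime
import Cfsg.Agent.Lib.CoprimeGen
import Cfsg.Agent.Lib.PSolvable
import Cfsg.Agent.Lib.Basic
-- import your own Cfsg.Agent.* helpers here

set_option autoImplicit false
open Cfsg

namespace Cfsg.Agent.S3819

namespace Aux

open Subgroup CfsgLib
open scoped IsMulCommutative commutatorElement

universe u

section core
variable {G : Type u} [Group G] [Finite G] {p q : ℕ} [hp : Fact p.Prime] [hq : Fact q.Prime]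

theorem core (H P : Subgroup G) [H.Normal] (hHP : ¬ p ∣ Nat.card H) (hP : IsPGroup p P)
    (hsol : Group.IsSolvable ↥⁅H, P⁆) (hmin : ∀ N ≤ H, H ≤ normalizer (N : Set G) → ¬ q ∣ Nat.card N → N = ⊥)
    {z : G} (hzH : z ∈ H) (hzP : z ∈ centralizer (P : Set G)) (hz : ∃ k : ℕ, orderOf z = q ^ k)
    {U : Subgroup G} (hUH : U ≤ H) (hUz : U ≤ centralizer ({z} : Set G)) (hU : ¬ q ∣ Nat.card U)
    (hUn : H ⊓ centralizer ({z} : Set G) ≤ normalizer (U : Set G)) (hPU : P ≤ normalizer (U : Set G))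
    {W₁ : Subgroup G} (hW₁H : W₁ ≤ H) (hW₁ : ¬ q ∣ Nat.card W₁)
    (hW₁n : H ⊓ centralizer (P : Set G) ≤ normalizer (W₁ : Set G)) : U ⊓ W₁ = ⊥ ∧ ⁅U, P⁆ = ⊥ := by
  classical
  have hcop : ∀ S ≤ H, (Nat.card P).Coprime (Nat.card S) := fun S hS => by
    obtain ⟨k, hk⟩ := IsPGroup.iff_card.mp hP
    rw [hk]
    exact Nat.Coprime.pow_left _ (hp.out.coprime_iff_not_dvd.mpr fun h => hHP (h.trans (card_dvd_of_le hS)))
  have hPsol : Group.IsSolvable P := by
    haveI := hP.isNilpotent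
    infer_instance
  have hPH : P ≤ normalizer (H : Set G) := by rw [Subgroup.normalizer_eq_top]; exact le_top
  set K := (⁅H, P⁆ : Subgroup G) with hK
  haveI := hsol
  have hKH : K ≤ H := commutator_le_of_le_normalizer hPH
  have hHK : H ≤ normalizer (K : Set G) := left_le_normalizer_commutator P H
  have hPK : P ≤ normalizer (K : Set G) := right_le_normalizer_commutator P H
  set R := (Cfsg.pCore q K).map K.subtype with hR
  have hRK : R ≤ K := Subgroup.map_subtype_le _
  have hHR : H ≤ normalizer (R : Set G) := (le_normalizer_map_characteristic hHK (Cfsg.pCore q K)).1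
  have hPR : P ≤ normalizer (R : Set G) := (le_normalizer_map_characteristic hPK (Cfsg.pCore q K)).1
  have hRq : IsPGroup q R := (isPGroup_pCore q).map _
  have hO : Cfsg.pPrimeCore q K = ⊥ := by
    refine (Subgroup.map_eq_bot_iff_of_injective _ K.subtype_injective).mp
      (hmin _ ((Subgroup.map_subtype_le _).trans hKH) (le_normalizer_map_characteristic hHK (Cfsg.pPrimeCore q K)).1 ?_)
    rw [Subgroup.card_map_of_injective K.subtype_injective]
    exact not_dvd_card_pPrimeCore hq.out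
  have hCR : ∀ x ∈ K, (∀ r ∈ R, r * x = x * r) → x ∈ R := by
    intro x hx h
    exact ⟨⟨x, hx⟩, centralizer_pCore_le hq.out hO (fun r hr => Subtype.ext (h r ⟨r, hr, rfl⟩)), rfl⟩
  have hdisj : ∀ x, x ∈ U → x ∈ R → x = 1 := by
    intro x hxU hxR
    obtain ⟨j, hj⟩ := IsPGroup.iff_orderOf.mp hRq ⟨x, hxR⟩
    rw [Subgroup.orderOf_mk] at hj
    rcases Nat.eq_zero_or_pos j with rfl | hj0
    · exact orderOf_eq_one_iff.mp (hj.trans (pow_zero q))
    · exact absurd ((dvd_pow_self q hj0.ne').trans (hj ▸ U.orderOf_dvd_natCard hxU)) hU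
  have hRH : R ≤ H := hRK.trans hKH
  have hUR : ∀ u ∈ U, ∀ r ∈ R, u * r = r * u := by
    obtain ⟨k, hk⟩ := hz
    have h1 := thompson_PxQ (P := zpowers z) (Q := U) (IsPGroup.of_card (by rw [Nat.card_zpowers, hk]))
      (hq.out.coprime_iff_not_dvd.mpr hU).symm
      (zpowers_le.mpr fun u hu => mem_centralizer_singleton_iff.mp (hUz hu)) R hRq
      (zpowers_le.mpr (hHR hzH)) (hUH.trans hHR) (by
        intro r hr u hu
        have hrH : r ∈ H := hRH hr.1
        have hrz : r ∈ centralizer ({z} : Set G) :=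
          mem_centralizer_singleton_iff.mpr (hr.2 z (mem_zpowers z)).symm
        rw [← commutatorElement_eq_one_iff_mul_comm]
        refine hdisj _ ?_ ?_
        · rw [commutatorElement_def, show u * r * u⁻¹ * r⁻¹ = u * (r * u⁻¹ * r⁻¹) by group]
          exact mul_mem hu ((mem_normalizer_iff.mp (hUn ⟨hrH, hrz⟩) _).mp (inv_mem hu))
        · rw [commutatorElement_def]
          exact mul_mem ((mem_normalizer_iff.mp (hHR (hUH hu)) _).mp hr.1) (inv_mem hr.1))
    exact fun u hu r hr => (h1 hu r hr).symm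
  refine ⟨?_, ?_⟩
  · set T := H ⊓ centralizer (R : Set G) with hT
    have hnT : ∀ g : G, g ∈ normalizer (H : Set G) → g ∈ normalizer (R : Set G) → g ∈ normalizer (T : Set G) := by
      intro g hgH hgR
      refine mem_normalizer_iff.mpr fun x => ?_
      rw [hT, mem_inf, mem_inf, ← mem_normalizer_iff.mp hgH x]
      refine and_congr_right fun _ => ⟨fun h r hr => ?_, fun h r hr => ?_⟩
      · have h2 := h (g⁻¹ * r * g) ((mem_normalizer_iff''.mp hgR r).mp hr)
        calc r * (g * x * g⁻¹) = g * (g⁻¹ * r * g * x) * g⁻¹ := by group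
          _ = g * (x * (g⁻¹ * r * g)) * g⁻¹ := by rw [h2]
          _ = _ := by group
      · have h2 := h (g * r * g⁻¹) ((mem_normalizer_iff.mp hgR r).mp hr)
        calc r * x = g⁻¹ * (g * r * g⁻¹ * (g * x * g⁻¹)) * g := by group
          _ = g⁻¹ * (g * x * g⁻¹ * (g * r * g⁻¹)) * g := by rw [h2]
          _ = _ := by group
    have hHT : H ≤ normalizer (T : Set G) := fun g hg => hnT g (le_normalizer hg) (hHR hg)
    have hPT : P ≤ normalizer (T : Set G) := fun g hg => hnT g (hPH hg) (hPR hg)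
    set W := W₁ ⊓ T with hW
    have hWT : W ≤ T := inf_le_right
    have hTW : T ≤ normalizer (W : Set G) := by
      intro t ht
      obtain ⟨x, hx, c, hc, rfl⟩ := coprime_decomp hPT (hcop T inf_le_left) (Or.inl hPsol) ht
      have hxR : x ∈ R := by
        have hxT : x ∈ T := commutator_le_of_le_normalizer hPT hx
        exact hCR x (Subgroup.commutator_mono (inf_le_left : T ≤ H) le_rfl hx) hxT.2
      refine mul_mem (centralizer_le_normalizer _ fun w hw => ?_) ?_
      · exact (hw.2.2 x hxR).symm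
      · refine mem_normalizer_iff.mpr fun y => ?_
        show y ∈ W₁ ∧ y ∈ T ↔ c * y * c⁻¹ ∈ W₁ ∧ c * y * c⁻¹ ∈ T
        exact and_congr (mem_normalizer_iff.mp (hW₁n ⟨hc.1.1, hc.2⟩) y)
          (mem_normalizer_iff.mp ((le_normalizer : T ≤ _) hc.1) y)
    haveI : (W.subgroupOf T).Normal := by
      rw [normal_subgroupOf_iff_le_normalizer hWT]; exact hTW
    have h1 : W.subgroupOf T ≤ Cfsg.pPrimeCore q T := le_pPrimeCore (by
      rw [Nat.card_congr (subgroupOfEquivOfLe hWT).toEquiv]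
      exact (hq.out.coprime_iff_not_dvd.mpr fun h => hW₁ (h.trans (card_dvd_of_le inf_le_left))).symm)
    have h2 := hmin _ ((Subgroup.map_subtype_le _).trans inf_le_left)
      (le_normalizer_map_characteristic hHT (Cfsg.pPrimeCore q T)).1 (by
        rw [Subgroup.card_map_of_injective T.subtype_injective]
        exact not_dvd_card_pPrimeCore hq.out)
    have h3 := (Subgroup.map_mono (f := T.subtype) h1).trans h2.le
    rw [subgroupOf_map_subtype, inf_eq_left.mpr hWT] at h3
    refine le_bot_iff.mp fun w hw => h3 ⟨hw.2, hUH hw.1, fun r hr => (hUR w hw.1 r hr).symm⟩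
  · rw [eq_bot_iff, commutator_le]
    intro u hu g hg
    have h1 : ⁅u, g⁆ ∈ U := by
      rw [commutatorElement_def, show u * g * u⁻¹ * g⁻¹ = u * (g * u⁻¹ * g⁻¹) by group]
      exact mul_mem hu ((mem_normalizer_iff.mp (hPU hg) _).mp (inv_mem hu))
    exact mem_bot.mpr (hdisj _ h1 (hCR _ (commutator_mem_commutator (hUH hu) hg) fun r hr => (hUR _ h1 r hr).symm))

end core

theorem reduce {G : Type u} [Group G] [Finite G] {p : ℕ} [hp : Fact p.Prime] (P : Subgroup G) (hP : IsPGroup p P)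
    (H : Subgroup G) [H.Normal] (hHp : ¬ p ∣ Nat.card H) (hsol : Group.IsSolvable ↥⁅H, P⁆)
    {q : ℕ} [hq : Fact q.Prime] (z : G) (hzH : z ∈ H) (hzP : z ∈ centralizer (P : Set G))
    (hz : ∃ k : ℕ, orderOf z = q ^ k) (M : Subgroup G) [M.Normal] (hMH : M ≤ H) (hMq : ¬ q ∣ Nat.card M)
    (hmax : ∀ N ≤ H, H ≤ normalizer (N : Set G) → ¬ q ∣ Nat.card N → N ≤ M)
    (U W : Subgroup G) (hUH : U ≤ H) (hUz : U ≤ centralizer ({z} : Set G)) (hUq : ¬ q ∣ Nat.card U)
    (hCzU : H ⊓ centralizer ({z} : Set G) ≤ normalizer (U : Set G)) (hPU : P ≤ normalizer (U : Set G))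
    (hWH : W ≤ H) (hWq : ¬ q ∣ Nat.card W) (hCpW : H ⊓ centralizer (P : Set G) ≤ normalizer (W : Set G)) :
    U ⊓ W ≤ M ∧ ⁅U, P⁆ ≤ M := by
  classical
  set π := QuotientGroup.mk' M with hπ
  have hsurj : Function.Surjective π := QuotientGroup.mk'_surjective M
  haveI : (H.map π).Normal := Subgroup.Normal.map inferInstance π hsurj
  have hfix : ∀ A : Subgroup G, (Nat.card A).Coprime (Nat.card M) → Group.IsSolvable A → ∀ y ∈ H,
      (∀ a ∈ A, Commute (π a) (π y)) → ∃ c ∈ H ⊓ centralizer (A : Set G), π c = π y := by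
    intro A hco hs y hy h
    have hkey : ∀ a ∈ A, a * y * a⁻¹ * y⁻¹ ∈ M := fun a ha => by
      rw [← QuotientGroup.eq_one_iff]
      show π (a * y * a⁻¹ * y⁻¹) = 1
      rw [map_mul, map_mul, map_mul, map_inv, map_inv, (h a ha).eq]
      group
    obtain ⟨w, hw, hn⟩ := coprime_key_normalize hco (Or.inl hs) (by rw [Subgroup.normalizer_eq_top]; exact le_top)
      (k := y) (fun a ha => by
        have h1 := (inferInstance : M.Normal).conj_mem _ (hkey a ha) y⁻¹
        have h2 := Subgroup.mul_mem_sup h1 ha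
        simpa [mul_assoc] using h2)
    refine ⟨y * w, ⟨mul_mem hy (hMH hw), fun a ha => ?_⟩, ?_⟩
    · have hna := hn a ha
      have hπc : π (y * w) = π y := by
        rw [map_mul, show π w = 1 from (QuotientGroup.eq_one_iff w).mpr hw, mul_one]
      generalize y * w = c at hna hπc ⊢
      have h1 : c * a * c⁻¹ * a⁻¹ ∈ M := by
        rw [← QuotientGroup.eq_one_iff]
        show π (c * a * c⁻¹ * a⁻¹) = 1
        rw [map_mul, map_mul, map_mul, map_inv, map_inv, hπc, ← (h a ha).eq]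
        group
      have h2 : c * a * c⁻¹ * a⁻¹ = 1 := Subgroup.disjoint_def.mp (Subgroup.disjoint_of_coprime_natCard hco)
        (mul_mem hna (inv_mem ha)) h1
      rw [mul_inv_eq_one, mul_inv_eq_iff_eq_mul] at h2
      exact h2.symm
    · have hw1 : π w = 1 := (QuotientGroup.eq_one_iff w).mpr hw
      rw [map_mul π y w, hw1]
      exact mul_one (π y)
  have hcq : ∀ S : Subgroup G, ¬ q ∣ Nat.card S → ¬ q ∣ Nat.card (S.map π) := fun S hS h =>
    hS (h.trans (Subgroup.card_map_dvd (H := S) π))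
  have e1 : Group.IsSolvable ↥⁅H.map π, P.map π⁆ := by
    rw [← Subgroup.map_commutator]
    exact Group.isSolvable_of_surjective (MonoidHom.subgroupMap_surjective π ⁅H, P⁆)
  have e2 : ∀ N ≤ H.map π, H.map π ≤ normalizer (N : Set (G ⧸ M)) → ¬ q ∣ Nat.card N → N = ⊥ := by
    intro N hN hHN hNq
    set N₀ := N.comap π with hN₀
    have hN₀H : N₀ ≤ H := fun x hx => by
      obtain ⟨y, hy, hyx⟩ := hN hx
      have h1 : y⁻¹ * x ∈ M := QuotientGroup.eq.mp hyx
      have := mul_mem hy (hMH h1)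
      rwa [mul_inv_cancel_left] at this
    have hd : ¬ q ∣ Nat.card N₀ := by
      intro h
      rcases hq.out.dvd_mul.mp (h.trans (dvd_of_eq (CfsgLib.card_comap_mk M N))) with h' | h'
      · exact hMq h'
      · exact hNq h'
    have h1 : N₀ ≤ M := hmax N₀ hN₀H (fun g hg => by
      refine mem_normalizer_iff.mpr fun x => ?_
      rw [hN₀, mem_comap, mem_comap, map_mul, map_mul, map_inv]
      exact mem_normalizer_iff.mp (hHN ⟨g, hg, rfl⟩) (π x)) hd
    rw [← Subgroup.map_comap_eq_self_of_surjective hsurj N, eq_bot_iff]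
    rintro _ ⟨x, hx, rfl⟩
    exact mem_bot.mpr ((QuotientGroup.eq_one_iff x).mpr (h1 hx))
  have e3 : π z ∈ centralizer ((P.map π : Subgroup (G ⧸ M)) : Set (G ⧸ M)) := by
    rintro _ ⟨g, hg, rfl⟩; rw [← map_mul, ← map_mul, hzP g hg]
  have e4 : ∃ k : ℕ, orderOf (π z) = q ^ k := by
    obtain ⟨k, hk⟩ := hz
    obtain ⟨j, -, hj⟩ := (Nat.dvd_prime_pow hq.out).mp (hk ▸ orderOf_map_dvd π z)
    exact ⟨j, hj⟩
  have e5 : U.map π ≤ centralizer ({π z} : Set (G ⧸ M)) := by
    rintro _ ⟨u, hu, rfl⟩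
    exact mem_centralizer_singleton_iff.mpr (by rw [← map_mul, ← map_mul, mem_centralizer_singleton_iff.mp (hUz hu)])
  have e6 : H.map π ⊓ centralizer ({π z} : Set (G ⧸ M)) ≤ normalizer ((U.map π : Subgroup (G ⧸ M)) : Set (G ⧸ M)) := by
    rintro _ ⟨⟨y, hy, rfl⟩, hyz⟩
    obtain ⟨c, hc, hcy⟩ := hfix (zpowers z) (by
      obtain ⟨k, hk⟩ := hz
      rw [Nat.card_zpowers, hk]
      exact Nat.Coprime.pow_left _ (hq.out.coprime_iff_not_dvd.mpr hMq))
      (by letI := IsCyclic.commGroup (α := zpowers z); infer_instance) y hy (fun a ha => by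
        obtain ⟨i, rfl⟩ := ha
        have h1 : Commute (π y) (π z) := mem_centralizer_singleton_iff.mp hyz
        show Commute (π (z ^ i)) (π y)
        rw [map_zpow]
        exact (h1.zpow_right i).symm)
    rw [← hcy]
    exact le_normalizer_map π ⟨c, hCzU ⟨hc.1, mem_centralizer_singleton_iff.mpr (hc.2 z (mem_zpowers z)).symm⟩, rfl⟩
  have e7 : H.map π ⊓ centralizer ((P.map π : Subgroup (G ⧸ M)) : Set (G ⧸ M)) ≤ normalizer ((W.map π : Subgroup (G ⧸ M)) : Set (G ⧸ M)) := by
    rintro _ ⟨⟨y, hy, rfl⟩, hyP⟩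
    obtain ⟨c, hc, hcy⟩ := hfix P (by
      obtain ⟨k, hk⟩ := IsPGroup.iff_card.mp hP
      rw [hk]
      exact Nat.Coprime.pow_left _ (hp.out.coprime_iff_not_dvd.mpr fun h => hHp (h.trans (card_dvd_of_le hMH))))
      (by haveI := hP.isNilpotent; infer_instance) y hy (fun a ha => hyP _ ⟨a, ha, rfl⟩)
    rw [← hcy]
    exact le_normalizer_map π ⟨c, hCpW hc, rfl⟩
  have e8 : P.map π ≤ normalizer ((U.map π : Subgroup (G ⧸ M)) : Set (G ⧸ M)) := (Subgroup.map_mono hPU).trans (le_normalizer_map π)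
  have e0 : ¬ p ∣ Nat.card (H.map π) := fun h => hHp (h.trans (Subgroup.card_map_dvd (H := H) π))
  obtain ⟨hres1, hres2⟩ := core (p := p) (q := q) (H.map π) (P.map π) e0 (hP.map π) e1 e2 (z := π z)
    (Subgroup.mem_map_of_mem π hzH) e3 e4 (U := U.map π) (Subgroup.map_mono hUH) e5 (hcq U hUq) e6 e8
    (W₁ := W.map π) (Subgroup.map_mono hWH) (hcq W hWq) e7
  refine ⟨fun x hx => ?_, ?_⟩
  · have h1 : π x ∈ U.map π ⊓ W.map π := ⟨⟨x, hx.1, rfl⟩, ⟨x, hx.2, rfl⟩⟩
    rw [hres1, mem_bot] at h1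
    exact (QuotientGroup.eq_one_iff x).mp h1
  · have h1 : (⁅U, P⁆).map π = ⊥ := by rw [Subgroup.map_commutator]; exact hres2
    rw [Subgroup.map_eq_bot_iff, QuotientGroup.ker_mk'] at h1
    exact h1

theorem goal {G : Type u} [Group G] [Finite G] {p : ℕ} [hp : Fact p.Prime] (P : Subgroup G) (hP : IsPGroup p P)
    (H : Subgroup G) [H.Normal] (hHp : ¬ p ∣ Nat.card H) (hsol : Group.IsSolvable ↥⁅H, P⁆)
    {q : ℕ} [hq : Fact q.Prime] (z : G) (hzH : z ∈ H) (hzP : z ∈ centralizer (P : Set G))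
    (hz : ∃ k : ℕ, orderOf z = q ^ k) :
    ((Cfsg.pPrimeCore q ↥(H ⊓ centralizer ({z} : Set G))).map (H ⊓ centralizer ({z} : Set G)).subtype ⊓
      (Cfsg.pPrimeCore q ↥(H ⊓ centralizer (P : Set G))).map (H ⊓ centralizer (P : Set G)).subtype) ⊔
    ⁅(Cfsg.pPrimeCore q ↥(H ⊓ centralizer ({z} : Set G))).map (H ⊓ centralizer ({z} : Set G)).subtype, P⁆ ≤
    (Cfsg.pPrimeCore q ↥H).map H.subtype := by
  classical
  have hmapq : ∀ S : Subgroup G, ¬ q ∣ Nat.card ((Cfsg.pPrimeCore q ↥S).map S.subtype) := fun S => by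
    rw [Subgroup.card_map_of_injective S.subtype_injective]; exact not_dvd_card_pPrimeCore hq.out
  have hchar : ∀ S : Subgroup G, ∀ A : Subgroup G, A ≤ normalizer (S : Set G) →
      A ≤ normalizer (((Cfsg.pPrimeCore q ↥S).map S.subtype : Subgroup G) : Set G) := fun S A h =>
    (le_normalizer_map_characteristic h (Cfsg.pPrimeCore q ↥S)).1
  have hPCz : P ≤ normalizer ((H ⊓ centralizer ({z} : Set G) : Subgroup G) : Set G) := by
    intro g hg
    refine mem_normalizer_iff.mpr fun x => ?_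
    have hgH : g ∈ normalizer (H : Set G) := by rw [Subgroup.normalizer_eq_top]; trivial
    rw [mem_inf, mem_inf, ← mem_normalizer_iff.mp hgH x]
    have hgz : Commute g z := hzP g hg
    refine and_congr_right fun _ => ?_
    rw [mem_centralizer_singleton_iff, mem_centralizer_singleton_iff]
    constructor
    · intro h
      exact ((hgz.mul_left (show Commute x z from h)).mul_left hgz.inv_left).eq
    · intro h
      have h1 := (hgz.inv_left.mul_left (show Commute (g * x * g⁻¹) z from h)).mul_left hgz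
      have e : g⁻¹ * (g * x * g⁻¹) * g = x := by group
      rw [e] at h1
      exact h1.eq
  have h := reduce P hP H hHp hsol z hzH hzP hz ((Cfsg.pPrimeCore q ↥H).map H.subtype) (Subgroup.map_subtype_le _) (hmapq H)
    (fun N hN hHN hNq => by
      haveI : (N.subgroupOf H).Normal := by
        rw [normal_subgroupOf_iff_le_normalizer hN]; exact hHN
      have h1 : N.subgroupOf H ≤ Cfsg.pPrimeCore q ↥H := le_pPrimeCore (by
        rw [Nat.card_congr (subgroupOfEquivOfLe hN).toEquiv]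
        exact (hq.out.coprime_iff_not_dvd.mpr hNq).symm)
      exact fun x hx => ⟨⟨x, hN hx⟩, h1 hx, rfl⟩)
    _ _ ((Subgroup.map_subtype_le _).trans inf_le_left) ((Subgroup.map_subtype_le _).trans inf_le_right) (hmapq _)
    (hchar _ _ le_normalizer) (hchar _ _ hPCz) ((Subgroup.map_subtype_le _).trans inf_le_left) (hmapq _)
    (hchar _ _ le_normalizer)
  exact sup_le h.1 h.2

end Aux

/-- Let G be a finite group with Sylow p-subgroup P and H = O_{p'}(G), and suppose G = PH and the commutator subgroup [H, P] is solvable. Let q be a prime and z an element of q-power order of C_H(P). Then (O_{q'}(C_H(z)) ∩ O_{q'}(C_H(P))) · [O_{q'}(C_H(z)), P] ≤ O_{q'}(H). -/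
theorem result {G : Type*} [Group G] [Finite G] {p : ℕ} [Fact p.Prime]
    (P : Sylow p G) (hPH : Cfsg.pPrimeCore p G ⊔ (P : Subgroup G) = ⊤)
    (hsol : Group.IsSolvable ↥⁅Cfsg.pPrimeCore p G, (P : Subgroup G)⁆)
    {q : ℕ} [Fact q.Prime] (z : G) (hzH : z ∈ Cfsg.pPrimeCore p G) (hzP : z ∈ Subgroup.centralizer ((P : Subgroup G) : Set G))
    (hz : ∃ k : ℕ, orderOf z = q ^ k) :
    ((Cfsg.pPrimeCore q ↥(Cfsg.pPrimeCore p G ⊓ Subgroup.centralizer ({z} : Set G))).map
        (Cfsg.pPrimeCore p G ⊓ Subgroup.centralizer ({z} : Set G)).subtype ⊓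
      (Cfsg.pPrimeCore q ↥(Cfsg.pPrimeCore p G ⊓ Subgroup.centralizer ((P : Subgroup G) : Set G))).map
        (Cfsg.pPrimeCore p G ⊓ Subgroup.centralizer ((P : Subgroup G) : Set G)).subtype) ⊔
    ⁅(Cfsg.pPrimeCore q ↥(Cfsg.pPrimeCore p G ⊓ Subgroup.centralizer ({z} : Set G))).map
        (Cfsg.pPrimeCore p G ⊓ Subgroup.centralizer ({z} : Set G)).subtype, (P : Subgroup G)⁆ ≤
    (Cfsg.pPrimeCore q ↥(Cfsg.pPrimeCore p G)).map (Cfsg.pPrimeCore p G).subtype := by
  exact Aux.goal (P : Subgroup G) P.2 (Cfsg.pPrimeCore p G) (CfsgLib.not_dvd_card_pPrimeCore Fact.out) hsol z hzH hzP hz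

end Cfsg.Agent.S3819
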