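import Cfsg.Statements.S3821
import Mathlib
-- import your own Cfsg.Agent.* helpers here

set_option autoImplicit false
open Cfsg

namespace Cfsg.Agent.S3821


theorem map_conj_mul {G : Type*} [Group G] (H : Subgroup G) (a b : G) :
    H.map (MulAut.conj (a * b)).toMonoidHom =
      (H.map (MulAut.conj b).toMonoidHom).map (MulAut.conj a).toMonoidHom := by
  rw [Subgroup.map_map]
  congr 1
  ext x
  simp [mul_assoc]

theorem map_conj_subtype {G : Type*} [Group G] {A : Subgroup G} (K : Subgroup A) (a : A) :
    (K.map (MulAut.conj a).toMonoidHom).map A.subtype =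
      (K.map A.subtype).map (MulAut.conj (a : G)).toMonoidHom := by
  rw [Subgroup.map_map, Subgroup.map_map]
  rfl

/-- Let A be a normal subgroup of the finite group G and H a subgroup of A. Then H is pronormal in G (H and gHg⁻¹ conjugate inside ⟨H, gHg⁻¹⟩ for every g ∈ G) if and only if H is pronormal in A and G = A · N_G(H). -/
theorem result {G : Type*} [Group G] [Finite G] (A H : Subgroup G) [A.Normal] (hHA : H ≤ A) :
    Cfsg.IsPronormal H ↔ (Cfsg.IsPronormal (H.subgroupOf A) ∧ A ⊔ Subgroup.normalizer (H : Set G) = ⊤) := by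
  constructor
  · intro h
    refine ⟨fun a => ?_, ?_⟩
    · obtain ⟨x, hx, heq⟩ := h (a : G)
      have hxA : x ∈ A := by
        have : H ⊔ H.map (MulAut.conj (a : G)).toMonoidHom ≤ A := sup_le hHA (by
          rintro _ ⟨z, hz, rfl⟩
          exact (inferInstance : A.Normal).conj_mem z (hHA hz) _)
        exact this hx
      refine ⟨⟨x, hxA⟩, ?_, ?_⟩
      · have hmap : (H.subgroupOf A ⊔ (H.subgroupOf A).map (MulAut.conj a).toMonoidHom).map A.subtype
            = H ⊔ H.map (MulAut.conj (a : G)).toMonoidHom := by
          rw [Subgroup.map_sup, map_conj_subtype, Subgroup.map_subgroupOf_eq_of_le hHA]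
        rw [← hmap] at hx
        obtain ⟨z, hz, hzx⟩ := hx
        have : z = ⟨x, hxA⟩ := Subtype.ext hzx
        exact this ▸ hz
      · apply Subgroup.map_injective A.subtype_injective
        rw [map_conj_subtype, map_conj_subtype, Subgroup.map_subgroupOf_eq_of_le hHA]
        exact heq
    · rw [eq_top_iff]
      intro g _
      obtain ⟨x, hx, heq⟩ := h g
      have hxA : x ∈ A := by
        have : H ⊔ H.map (MulAut.conj g).toMonoidHom ≤ A := sup_le hHA (by
          rintro _ ⟨z, hz, rfl⟩
          exact (inferInstance : A.Normal).conj_mem z (hHA hz) _)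
        exact this hx
      have hn : x⁻¹ * g ∈ Subgroup.normalizer (H : Set G) := by
        refine Subgroup.mem_normalizer_iff.mpr fun z => ?_
        have h2 : H.map (MulAut.conj (x⁻¹ * g)).toMonoidHom = H := by
          rw [map_conj_mul, heq, ← map_conj_mul, inv_mul_cancel]
          ext w; simp
        conv_rhs => rw [← h2]
        exact (Subgroup.mem_map_iff_mem (f := (MulAut.conj (x⁻¹ * g)).toMonoidHom)
          (MulAut.conj (x⁻¹ * g)).injective).symm
      rw [show g = x * (x⁻¹ * g) by group]
      exact mul_mem (Subgroup.mem_sup_left hxA) (Subgroup.mem_sup_right hn)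
  · rintro ⟨hA, htop⟩ g
    have hg : g ∈ ((A ⊔ Subgroup.normalizer (H : Set G) : Subgroup G) : Set G) := htop ▸ Subgroup.mem_top g
    rw [Subgroup.normal_mul] at hg
    obtain ⟨a, ha, n, hn, rfl⟩ := Set.mem_mul.mp hg
    have hHn : H.map (MulAut.conj n).toMonoidHom = H := by
      ext z
      constructor
      · rintro ⟨w, hw, rfl⟩
        exact (Subgroup.mem_normalizer_iff.mp hn w).mp hw
      · intro hz
        refine ⟨n⁻¹ * z * n, ?_, by simp [mul_assoc]⟩
        rw [SetLike.mem_coe, Subgroup.mem_normalizer_iff.mp hn (n⁻¹ * z * n)]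
        convert hz using 1
        group
    obtain ⟨x, hx, heq⟩ := hA ⟨a, ha⟩
    refine ⟨x, ?_, ?_⟩
    · rw [map_conj_mul, hHn]
      have hm := Subgroup.mem_map_of_mem A.subtype hx
      rwa [Subgroup.map_sup, map_conj_subtype, Subgroup.map_subgroupOf_eq_of_le hHA] at hm
    · have hm := congrArg (Subgroup.map A.subtype) heq
      rw [map_conj_subtype, map_conj_subtype, Subgroup.map_subgroupOf_eq_of_le hHA] at hm
      rw [map_conj_mul, hHn]
      exact hm

end Cfsg.Agent.S3821
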