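import Cfsg.Statements.S3825
import Mathlib
-- import your own Cfsg.Agent.* helpers here

set_option autoImplicit false
open Cfsg

namespace Cfsg.Agent.S3825

open scoped commutatorElement

/-- Let U be a subgroup of a finite group H and w an involution of H normalizing U and commuting with exactly two elements of U, the identity and y. If V is a non-cyclic elementary abelian 2-subgroup of U containing y which is normal in U and invariant under w, then V is a Sylow 2-subgroup of U, V has order 4, and U/V is abelian. -/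
theorem result {H : Type*} [Group H] [Finite H] (U : Subgroup H) (w : H) (hw : orderOf w = 2)
    (hwU : w ∈ Subgroup.normalizer (U : Set H)) (y : H) (hy : y ≠ 1) (hyU : y ∈ U)
    (hfix : ∀ u ∈ U, w * u * w⁻¹ = u ↔ (u = 1 ∨ u = y))
    (V : Subgroup H) (hVU : V ≤ U) (hVn : (V.subgroupOf U).Normal) (hVw : ∀ v ∈ V, w * v * w⁻¹ ∈ V)
    (hVe : Cfsg.IsElementaryAbelian 2 V) (hVc : ¬ IsCyclic ↥V) (hyV : y ∈ V) :
    ¬ 2 ∣ V.relIndex U ∧ Nat.card ↥V = 4 ∧ ⁅U, U⁆ ≤ V := by
  classical
  have hw2 : w * w = 1 := by rw [← pow_two, ← hw, pow_orderOf_eq_one]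
  let σ : H → H := fun u => w * u * w⁻¹
  have hσm : ∀ a b, σ (a * b) = σ a * σ b := fun a b => by
    show w * (a * b) * w⁻¹ = w * a * w⁻¹ * (w * b * w⁻¹); group
  have hσσ : ∀ u, σ (σ u) = u := fun u => by
    show w * (w * u * w⁻¹) * w⁻¹ = u
    rw [inv_eq_of_mul_eq_one_right hw2]
    calc w * (w * u * w) * w = (w * w) * u * (w * w) := by group
      _ = u := by rw [hw2, one_mul, mul_one]
  have hσi : ∀ a, σ a⁻¹ = (σ a)⁻¹ := fun a => by show w * a⁻¹ * w⁻¹ = (w * a * w⁻¹)⁻¹; group
  have hσy : σ y = y := (hfix y hyU).mpr (Or.inr rfl)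
  have hsq : ∀ v ∈ V, v * v = 1 := fun v hv => by rw [← pow_two]; exact hVe.2 v hv
  have hVc' : ∀ a ∈ V, ∀ b ∈ V, a * b = b * a := fun a ha b hb =>
    congrArg Subtype.val (hVe.1.is_comm.comm ⟨a, ha⟩ ⟨b, hb⟩)
  have hVfix : ∀ v ∈ V, σ v = v ∨ σ v = v * y := by
    intro v hv
    have h1 : v * σ v ∈ U := hVU (mul_mem hv (hVw v hv))
    have h2 : σ (v * σ v) = v * σ v := by rw [hσm, hσσ]; exact hVc' _ (hVw v hv) _ hv
    rcases (hfix _ h1).mp h2 with e | e
    · left
      calc σ v = (v * v) * σ v := by rw [hsq v hv, one_mul]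
        _ = v * (v * σ v) := mul_assoc _ _ _
        _ = v := by rw [e, mul_one]
    · right
      calc σ v = (v * v) * σ v := by rw [hsq v hv, one_mul]
        _ = v * (v * σ v) := mul_assoc _ _ _
        _ = v * y := by rw [e]
  obtain ⟨a, haV, ha1, hay⟩ : ∃ a ∈ V, a ≠ 1 ∧ a ≠ y := by
    by_contra hcon
    push Not at hcon
    apply hVc
    have hle : V ≤ Subgroup.zpowers y := fun v hv => by
      by_cases h : v = 1
      · rw [h]; exact one_mem _
      · rw [hcon v hv h]; exact Subgroup.mem_zpowers y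
    exact isCyclic_of_injective _ (Subgroup.inclusion_injective hle)
  have hσa : σ a = a * y := by
    rcases hVfix a haV with e | e
    · rcases (hfix a (hVU haV)).mp e with h | h
      · exact absurd h ha1
      · exact absurd h hay
    · exact e
  -- `V = {1, y, a, a * y}`
  have hV4 : ∀ v ∈ V, v = 1 ∨ v = y ∨ v = a ∨ v = a * y := by
    intro v hv
    rcases hVfix v hv with e | e
    · rcases (hfix v (hVU hv)).mp e with h | h
      · exact Or.inl h
      · exact Or.inr (Or.inl h)
    · have h1 : σ (v * a) = v * a := by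
        rw [hσm, e, hσa]
        calc v * y * (a * y) = v * ((y * a) * y) := by group
          _ = v * (a * (y * y)) := by rw [hVc' y hyV a haV]; group
          _ = v * a := by rw [hsq y hyV, mul_one]
      have hva : v = (v * a) * a := by rw [mul_assoc, hsq a haV, mul_one]
      rcases (hfix _ (hVU (mul_mem hv haV))).mp h1 with h | h
      · exact Or.inr (Or.inr (Or.inl (by rw [hva, h, one_mul])))
      · exact Or.inr (Or.inr (Or.inr (by rw [hva, h]; exact hVc' y hyV a haV)))
  have hcard : Nat.card V = 4 := by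
    have := Fintype.ofFinite V
    have h4 : ({1, ⟨y, hyV⟩, ⟨a, haV⟩, ⟨a, haV⟩ * ⟨y, hyV⟩} : Finset V).card = 4 := by
      have e1 : a * y ≠ 1 := fun e => hay (by
        calc a = a * (y * y) := by rw [hsq y hyV, mul_one]
          _ = (a * y) * y := by group
          _ = y := by rw [e, one_mul])
      rw [Finset.card_insert_of_notMem (by simp [Subtype.ext_iff, hy.symm, ha1.symm, e1.symm]),
        Finset.card_insert_of_notMem (by simp [Subtype.ext_iff, hay.symm, ha1]),
        Finset.card_insert_of_notMem (by simp [Subtype.ext_iff, hy]), Finset.card_singleton]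
    rw [Nat.card_eq_fintype_card, ← h4, ← Finset.card_univ]
    congr 1
    refine (Finset.eq_univ_of_forall fun v => ?_).symm
    simp only [Finset.mem_insert, Finset.mem_singleton, Subtype.ext_iff, Subgroup.coe_mul, Subgroup.coe_one]
    exact hV4 v v.2
  -- a fixed-point-free involution of `U / V`
  have hfp : ∀ u ∈ U, u⁻¹ * σ u ∈ V → u ∈ V := by
    intro u hu hv
    have h1 : σ (u⁻¹ * σ u) = u⁻¹ * σ u := by
      rw [hσm, hσi, hσσ]
      have := hsq _ hv
      rw [← eq_inv_iff_mul_eq_one, mul_inv_rev, inv_inv] at this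
      exact this.symm
    rcases (hfix _ (hVU hv)).mp h1 with e | e
    · rcases (hfix u hu).mp (inv_mul_eq_one.mp e).symm with h | h
      · rw [h]; exact one_mem V
      · rw [h]; exact hyV
    · have hu' : σ u = u * y := by rw [← e]; group
      have h2 : σ (a * u⁻¹) = a * u⁻¹ := by rw [hσm, hσi, hσa, hu', mul_inv_rev]; group
      have hu2 : u = (a * u⁻¹)⁻¹ * a := by group
      rcases (hfix _ (mul_mem (hVU haV) (inv_mem hu))).mp h2 with h | h
      · rw [hu2, h, inv_one, one_mul]; exact haV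
      · rw [hu2, h]; exact mul_mem (inv_mem hyV) haV
  let σU : U →* U := MonoidHom.mk' (fun u => ⟨σ u, (Subgroup.mem_normalizer_iff.mp hwU u).mp u.2⟩)
    (fun a b => Subtype.ext (hσm a b))
  have := hVn
  let φ : U ⧸ V.subgroupOf U →* U ⧸ V.subgroupOf U :=
    QuotientGroup.map _ _ σU (fun v hv => hVw v hv)
  have hφ : MonoidHom.FixedPointFree φ := by
    intro q hq
    obtain ⟨u, rfl⟩ := QuotientGroup.mk_surjective q
    have hq' : ((σU u : U) : U ⧸ V.subgroupOf U) = u := hq
    rw [eq_comm, QuotientGroup.eq] at hq'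
    exact (QuotientGroup.eq_one_iff u).mpr (hfp u u.2 hq')
  have hφ2 : Function.Involutive φ := by
    intro q
    obtain ⟨u, rfl⟩ := QuotientGroup.mk_surjective q
    show ((σU (σU u) : U) : U ⧸ V.subgroupOf U) = u
    rw [show σU (σU u) = u from Subtype.ext (hσσ u)]
  refine ⟨?_, hcard, ?_⟩
  · intro hd
    have : Fact (Nat.Prime 2) := ⟨Nat.prime_two⟩
    obtain ⟨t, ht⟩ := exists_prime_orderOf_dvd_card' (G := U ⧸ V.subgroupOf U) 2 hd
    have h1 : φ t = t := by
      rw [MonoidHom.FixedPointFree.coe_eq_inv_of_involutive hφ hφ2]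
      exact inv_eq_of_mul_eq_one_right (by rw [← pow_two, ← ht, pow_orderOf_eq_one])
    rw [hφ t h1, orderOf_one] at ht
    norm_num at ht
  · rw [Subgroup.commutator_le]
    intro s hs t ht
    have := MonoidHom.FixedPointFree.commute_all_of_involutive hφ hφ2 ((⟨s, hs⟩ : U) : U ⧸ V.subgroupOf U) ((⟨t, ht⟩ : U) : U ⧸ V.subgroupOf U)
    have h1 : ((⟨s, hs⟩ * ⟨t, ht⟩ * ⟨s, hs⟩⁻¹ * ⟨t, ht⟩⁻¹ : U) : U ⧸ V.subgroupOf U) = 1 := by
      push_cast [QuotientGroup.mk_mul, QuotientGroup.mk_inv]
      rw [this.eq]; group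
    rw [QuotientGroup.eq_one_iff, Subgroup.mem_subgroupOf] at h1
    rw [commutatorElement_def]
    exact h1

end Cfsg.Agent.S3825
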