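import Cfsg.Statements.S3838
import Mathlib
import Cfsg.Agent.Lib.Tate
import Cfsg.Agent.Lib.PComplement
import Cfsg.Agent.Lib.PSplit
-- import your own Cfsg.Agent.* helpers here

set_option autoImplicit false
open Cfsg

namespace Cfsg.Agent.S3838

open scoped Pointwise commutatorElement

/-- Let G be a finite group with Sylow p-subgroup P such that N_G(P) has a normal p-complement. Then N_G(Q) has a normal p-complement for every subgroup Q with [P, P] ≤ Q ≤ Φ(P). -/
theorem result {G : Type*} [Group G] [Finite G] {p : ℕ} [Fact p.Prime] (P : Sylow p G) (hN : Cfsg.HasNormalPComplement p ↥(Subgroup.normalizer ((P : Subgroup G) : Set G))) (Q : Subgroup G) (h1 : (commutator ↥(P : Subgroup G)).map (P : Subgroup G).subtype ≤ Q) (h2 : Q ≤ (frattini ↥(P : Subgroup G)).map (P : Subgroup G).subtype) : Cfsg.HasNormalPComplement p ↥(Subgroup.normalizer (Q : Set G)) := by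
  classical
  have hQP : Q ≤ (P : Subgroup G) := h2.trans (Subgroup.map_subtype_le _)
  have hPQ : (P : Subgroup G) ≤ Subgroup.normalizer (Q : Set G) := by
    intro x hx
    rw [Subgroup.mem_normalizer_iff]
    have key : ∀ y ∈ (P : Subgroup G), ∀ z ∈ Q, y * z * y⁻¹ ∈ Q := by
      intro y hy z hz
      have h3 : ⁅(⟨y, hy⟩ : (P : Subgroup G)), ⟨z, hQP hz⟩⁆ ∈ commutator ↥(P : Subgroup G) :=
        Subgroup.commutator_mem_commutator (Subgroup.mem_top _) (Subgroup.mem_top _)
      have h4 := Q.mul_mem (h1 (Subgroup.mem_map_of_mem _ h3)) hz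
      simpa [commutatorElement_def, mul_assoc] using h4
    intro z
    refine ⟨key x hx z, fun hz => ?_⟩
    simpa [mul_assoc] using key x⁻¹ (inv_mem hx) _ hz
  set K := Subgroup.normalizer (Q : Set G) with hK
  let PK : Sylow p K := P.subtype hPQ
  have hQn : (Q.subgroupOf K).Normal := Subgroup.normal_in_normalizer
  let f : K →* K ⧸ Q.subgroupOf K := QuotientGroup.mk' (Q.subgroupOf K)
  have hf : Function.Surjective f := QuotientGroup.mk'_surjective _
  let P' : Sylow p (K ⧸ Q.subgroupOf K) := PK.mapSurjective hf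
  have hres := CfsgLib.hasNormalPComplement_iff_pResidual.mp hN
  -- p'-elements normalizing P centralize it
  have hcen : ∀ g ∈ Subgroup.normalizer ((P : Subgroup G) : Set G), (orderOf g).Coprime p →
      ∀ z ∈ (P : Subgroup G), g * z = z * g := by
    intro g hg hcop z hz
    set M := Subgroup.normalizer ((P : Subgroup G) : Set G)
    have : ((P : Subgroup G).subgroupOf M).Normal := Subgroup.normal_in_normalizer
    have hd : Disjoint ((P : Subgroup G).subgroupOf M) (Cfsg.pResidual p M) := by
      refine Subgroup.disjoint_of_coprime_natCard ?_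
      obtain ⟨n, hn⟩ := (P.2.of_equiv (Subgroup.subgroupOfEquivOfLe Subgroup.le_normalizer).symm).exists_card_eq
      rw [hn]
      exact hres.symm.pow_left n
    have := Subgroup.commute_of_normal_of_disjoint _ _ inferInstance inferInstance hd.symm
      (⟨g, hg⟩ : M) ⟨z, Subgroup.le_normalizer hz⟩
      (CfsgLib.mem_pResidual (by rwa [← Subgroup.orderOf_coe])) hz
    exact congrArg Subtype.val this.eq
  have hburn : Subgroup.normalizer ((P' : Subgroup (K ⧸ Q.subgroupOf K)) : Set (K ⧸ Q.subgroupOf K)) ≤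
      Subgroup.centralizer ((P' : Subgroup (K ⧸ Q.subgroupOf K)) : Set (K ⧸ Q.subgroupOf K)) := by
    intro y hy
    obtain ⟨k, rfl⟩ := hf y
    have hkP : (k : G) ∈ Subgroup.normalizer ((P : Subgroup G) : Set G) := by
      have hker : f.ker ≤ (PK : Subgroup K) := by
        rw [QuotientGroup.ker_mk']
        exact fun q hq => hQP hq
      have h5 : ∀ j : K, f j ∈ (P' : Subgroup (K ⧸ Q.subgroupOf K)) ↔ (j : G) ∈ (P : Subgroup G) := by
        intro j
        show j ∈ ((PK : Subgroup K).map f).comap f ↔ _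
        rw [Subgroup.comap_map_eq_self hker]
        rfl
      rw [Subgroup.mem_normalizer_iff] at hy ⊢
      intro z
      refine ⟨fun hz => ?_, fun hz => ?_⟩
      · have := (hy (f ⟨z, hPQ hz⟩)).mp ((h5 _).mpr hz)
        rw [← map_mul, ← map_inv, ← map_mul, h5] at this
        exact this
      · have hzK : z ∈ K := by
          have := K.mul_mem (K.mul_mem (K.inv_mem k.2) (hPQ hz)) k.2
          simpa [mul_assoc] using this
        have := (hy (f ⟨z, hzK⟩)).mpr (by rw [← map_mul, ← map_inv, ← map_mul, h5]; exact hz)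
        rwa [h5] at this
    obtain ⟨a, b, hab, -, ⟨j, hj⟩, hb, haz, hbz⟩ := CfsgLib.exists_p_split (p := p) (k : G)
    have haN := (Subgroup.zpowers_le.mpr hkP) haz
    have hbN := (Subgroup.zpowers_le.mpr hkP) hbz
    have haP : a ∈ (P : Subgroup G) := by
      have hA : IsPGroup p (Subgroup.zpowers a) := by
        rintro ⟨z, i, rfl⟩
        refine ⟨j, Subtype.ext ?_⟩
        show (a ^ i) ^ p ^ j = 1
        rw [← zpow_natCast, ← zpow_mul, mul_comm, zpow_mul, zpow_natCast, hj, one_zpow]
      have h6 : IsPGroup p (Subgroup.zpowers a ⊔ (P : Subgroup G) : Subgroup G) :=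
        IsPGroup.to_sup_of_normal_right' hA P.2 (Subgroup.zpowers_le.mpr haN)
      exact P.3 h6 le_sup_right ▸ Subgroup.mem_sup_left (Subgroup.mem_zpowers a)
    intro z hz
    obtain ⟨w, hw, rfl⟩ := Subgroup.mem_map.mp (hz : z ∈ (PK : Subgroup K).map f)
    rw [← map_mul, ← map_mul]
    refine QuotientGroup.eq.mpr ?_
    rw [Subgroup.mem_subgroupOf]
    simp only [Subgroup.coe_mul, Subgroup.coe_inv]
    rw [← hab]
    have h7 : ⁅(⟨(w : G), hw⟩ : (P : Subgroup G))⁻¹, (⟨a, haP⟩ : (P : Subgroup G))⁻¹⁆ ∈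
        commutator ↥(P : Subgroup G) :=
      Subgroup.commutator_mem_commutator (Subgroup.mem_top _) (Subgroup.mem_top _)
    have h8 := h1 (Subgroup.mem_map_of_mem _ h7)
    have hbw := hcen b hbN hb w hw
    have hba := hcen b hbN hb a haP
    have e : ((w : G) * (a * b))⁻¹ * (a * b * (w : G)) =
        b⁻¹ * (a⁻¹ * (w : G)⁻¹ * a * w) * b := by
      rw [mul_assoc a b, hbw]; group
    have hbQ : ∀ z ∈ Q, b⁻¹ * z * b = z := fun z hz => by
      rw [mul_assoc, ← hcen b hbN hb z (hQP hz), inv_mul_cancel_left]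
    simp only [commutatorElement_def, Subgroup.coe_subtype, Subgroup.coe_mul, Subgroup.coe_inv,
      inv_inv] at h8
    have h9 : a⁻¹ * (w : G)⁻¹ * a * w ∈ Q := by
      have := inv_mem h8
      simpa [mul_assoc] using this
    rw [e, hbQ _ h9]
    exact h9
  have hquot := CfsgLib.hasNormalPComplement_of_normalizer_le_centralizer P' hburn
  set L := (Cfsg.pPrimeCore p (K ⧸ Q.subgroupOf K)).comap f with hL
  have hLP : L ⊓ (PK : Subgroup K) ≤ (frattini ↥(PK : Subgroup K)).map (PK : Subgroup K).subtype := by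
    intro x hx
    obtain ⟨hxL, hxP⟩ := Subgroup.mem_inf.mp hx
    have hx1 : f x ∈ (⊥ : Subgroup _) := by
      rw [← (CfsgLib.pPrimeCore_isComplement'_sylow
        (CfsgLib.isPGroup_quotient_of_hasNormalPComplement hquot) P').disjoint.eq_bot]
      exact Subgroup.mem_inf.mpr ⟨hxL, Subgroup.mem_map_of_mem _ hxP⟩
    rw [Subgroup.mem_bot] at hx1
    have hxQ : (x : G) ∈ Q := (QuotientGroup.eq_one_iff x).mp hx1
    obtain ⟨y, hy, hyx⟩ := h2 hxQ
    refine ⟨⟨x, hxP⟩, ?_, rfl⟩
    let e : ↥(PK : Subgroup K) ≃* ↥(P : Subgroup G) := Subgroup.subgroupOfEquivOfLe hPQ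
    have hm := frattini_le_comap_frattini_of_surjective (φ := e.symm.toMonoidHom) e.symm.surjective hy
    have hey : e.symm y = ⟨x, hxP⟩ := by
      rw [MulEquiv.symm_apply_eq]
      exact Subtype.ext hyx
    rw [Subgroup.mem_comap, MulEquiv.coe_toMonoidHom, hey] at hm
    exact hm
  have hLc := CfsgLib.hasNormalPComplement_of_inf_le_frattini PK L hLP
  have : ((Cfsg.pResidual p L).map L.subtype).Normal := inferInstance
  refine CfsgLib.hasNormalPComplement_of_normal (N := (Cfsg.pResidual p L).map L.subtype) ?_ ?_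
  · rw [Subgroup.card_map_of_injective L.subtype_injective]
    exact CfsgLib.hasNormalPComplement_iff_pResidual.mp hLc
  · refine CfsgLib.isPGroup_quotient_of_pResidual_le (CfsgLib.pResidual_le fun g hg => ?_)
    have hgL : g ∈ L := by
      refine CfsgLib.mem_pPrimeCore_of_hasNormalPComplement hquot ?_
      exact hg.coprime_dvd_left (orderOf_map_dvd f g)
    exact ⟨⟨g, hgL⟩, CfsgLib.mem_pResidual (by rwa [← Subgroup.orderOf_coe]), rfl⟩

end Cfsg.Agent.S3838
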