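import Cfsg.Statements.S3839
import Mathlib
import Cfsg.Agent.Lib.StrongFusion.LocalFree
import Cfsg.Agent.Lib.PComplement
import Cfsg.Agent.Lib.Fusion.Hyperfocal
import Cfsg.Agent.Lib.CyclicSylowAbelian.Basic
-- import your own Cfsg.Agent.* helpers here

set_option autoImplicit false
open Cfsg

namespace Cfsg.Agent.S3839

open CfsgLib.StrongFusion (cm Full exists_full exists_conj_le cm_cm card_cm cm_mono cm_one)
open scoped commutatorElement

private theorem mem_cm {G : Type*} [Group G] {y : G} {A : Subgroup G} {x : G} :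
    x ∈ cm y A ↔ ∃ a ∈ A, y * a * y⁻¹ = x := Iff.rfl

/-- `p'`-elements normalising a subgroup of `P` centralise it. -/
private theorem centralizes {G : Type*} [Group G] [Finite G] {p : ℕ} [Fact p.Prime] (P : Sylow p G)
    {D : Subgroup G} (hD : Cfsg.IsStronglyClosed D (P : Subgroup G))
    (h : ∀ U : Subgroup G, U ≤ D → D ⊓ Subgroup.centralizer (U : Set G) ≤ U →
      Cfsg.HasNormalPComplement p ↥(Subgroup.normalizer (U : Set G))) :
    ∀ n : ℕ, ∀ T : Subgroup G, T ≤ (P : Subgroup G) → Nat.card (P : Subgroup G) - Nat.card ↥(T ⊓ D) = n →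
      ∀ g ∈ Subgroup.normalizer (T : Set G), (orderOf g).Coprime p → ∀ t ∈ T, g * t * g⁻¹ = t := by
  intro n
  induction n using Nat.strong_induction_on with
  | _ n IH =>
  -- reduce to fully normalized subgroups
  suffices hfull : ∀ T : Subgroup G, T ≤ (P : Subgroup G) → Nat.card (P : Subgroup G) - Nat.card ↥(T ⊓ D) = n →
      Full p (P : Subgroup G) T → ∀ g ∈ Subgroup.normalizer (T : Set G), (orderOf g).Coprime p →
      ∀ t ∈ T, g * t * g⁻¹ = t by
    intro T hT hn g hg hgp t ht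
    obtain ⟨y, hy, hyF⟩ := exists_full P hT
    have hyT : cm y T ≤ (P : Subgroup G) := (cm_mono (le_inf hT Subgroup.le_normalizer)).trans hy
    have hD' : cm y (T ⊓ D) = cm y T ⊓ D := by
      ext x
      constructor
      · rintro ⟨a, ha, rfl⟩
        exact ⟨⟨a, ha.1, rfl⟩, hD.2 a ha.2 y (hyT ⟨a, ha.1, rfl⟩)⟩
      · rintro ⟨⟨a, ha, rfl⟩, hxD⟩
        refine ⟨a, ⟨ha, ?_⟩, rfl⟩
        have := hD.2 _ hxD y⁻¹ (by simpa [mul_assoc] using hT ha)
        simpa [mul_assoc] using this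
    have hg' : y * g * y⁻¹ ∈ Subgroup.normalizer (cm y T : Set G) := by
      refine CfsgLib.Local.mem_normalizer_of_map_conj_eq ?_
      show cm (y * g * y⁻¹) (cm y T) = cm y T
      rw [cm_cm, show y * g * y⁻¹ * y = y * g by group, ← cm_cm]
      exact congrArg (cm y) (CfsgLib.Local.map_conj_eq_of_mem_normalizer hg)
    have h1 := hfull (cm y T) hyT (by rw [← hD', card_cm, hn]) hyF (y * g * y⁻¹) hg'
      (by rwa [show y * g * y⁻¹ = MulAut.conj y g from rfl, MulEquiv.orderOf_eq]) (y * t * y⁻¹) ⟨t, ht, rfl⟩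
    have h2 : y * (g * t * g⁻¹) * y⁻¹ = y * t * y⁻¹ := by
      refine Eq.trans ?_ h1
      group
    exact mul_left_cancel (mul_right_cancel h2)
  intro T hT hn hF
  set U := T ⊓ D with hU
  set N := Subgroup.normalizer (T : Set G) with hN
  have hNT : ∀ x ∈ N, ∀ t ∈ T, x * t * x⁻¹ ∈ T := fun x hx t ht => (Subgroup.mem_normalizer_iff.mp hx t).mp ht
  have hNU' : ∀ x ∈ N, ∀ u ∈ U, x * u * x⁻¹ ∈ U := fun x hx u hu =>
    ⟨hNT x hx u hu.1, hD.2 u hu.2 x (hT (hNT x hx u hu.1))⟩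
  have hNU : N ≤ Subgroup.normalizer (U : Set G) := fun x hx => Subgroup.mem_normalizer_iff.mpr fun u =>
    ⟨hNU' x hx u, fun hu => by simpa [mul_assoc] using hNU' x⁻¹ (inv_mem hx) _ hu⟩
  have hpT : ∀ t ∈ T, ∃ k : ℕ, t ^ p ^ k = 1 := fun t ht => by
    obtain ⟨k, hk⟩ := P.isPGroup' ⟨t, hT ht⟩
    exact ⟨k, congrArg Subtype.val hk⟩
  by_cases hcen : D ⊓ Subgroup.centralizer (U : Set G) ≤ U
  · -- the normaliser of `U` has a normal `p`-complement
    intro g hg hgp t ht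
    have hc := h U inf_le_right hcen
    set M := Subgroup.normalizer (U : Set G)
    have hgM : g ∈ M := hNU hg
    have htM : t ∈ M := hNU (Subgroup.le_normalizer ht)
    set e : M := ⟨g, hgM⟩ * ⟨t, htM⟩ * (⟨g, hgM⟩ : M)⁻¹ * (⟨t, htM⟩ : M)⁻¹
    have hgO : (⟨g, hgM⟩ : M) ∈ Cfsg.pPrimeCore p M :=
      CfsgLib.mem_pPrimeCore_of_hasNormalPComplement hc (by rwa [← Subgroup.orderOf_coe])
    have heO : e ∈ Cfsg.pPrimeCore p M := by
      have hn' : (Cfsg.pPrimeCore p M).Normal := inferInstance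
      have := hn'.conj_mem _ (inv_mem hgO) ⟨t, htM⟩
      have h2 := mul_mem hgO this
      rwa [show e = (⟨g, hgM⟩ : M) * ((⟨t, htM⟩ : M) * (⟨g, hgM⟩ : M)⁻¹ * (⟨t, htM⟩ : M)⁻¹) from
        Subtype.ext (show g * t * g⁻¹ * t⁻¹ = g * (t * g⁻¹ * t⁻¹) by group)]
    obtain ⟨k, hk⟩ := hpT _ (T.mul_mem (hNT g hg t ht) (inv_mem ht))
    have h1 : orderOf e ∣ p ^ k := orderOf_dvd_of_pow_eq_one (Subtype.ext hk)
    have h2 : (orderOf e).Coprime p := by
      have hd : orderOf e ∣ Nat.card (Cfsg.pPrimeCore p M) := Subgroup.orderOf_dvd_natCard _ heO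
      exact (CfsgLib.card_pPrimeCore_coprime p).coprime_dvd_left hd
    have he : e = 1 := orderOf_eq_one_iff.mp (Nat.eq_one_of_dvd_coprimes (h2.pow_right k) dvd_rfl h1)
    exact mul_inv_eq_one.mp (congrArg Subtype.val he)
  -- the stabiliser of the series `1 ≤ U ≤ T` inside `N`
  set C1 := D ⊓ Subgroup.centralizer (U : Set G) with hC1
  have hTC : T ≤ Subgroup.normalizer (C1 : Set G) := by
    have key : ∀ t ∈ T, ∀ c ∈ C1, t * c * t⁻¹ ∈ C1 := fun t ht c hc =>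
      ⟨hD.2 c hc.1 t (mul_mem (mul_mem (hT ht) (hD.1 hc.1)) (inv_mem (hT ht))),
        Subgroup.mem_centralizer_iff.mpr fun u hu => by
          have hu' : t⁻¹ * u * t ∈ U := by simpa using hNU' t⁻¹ (inv_mem (Subgroup.le_normalizer ht)) u hu
          calc u * (t * c * t⁻¹) = t * ((t⁻¹ * u * t) * c) * t⁻¹ := by group
            _ = t * (c * (t⁻¹ * u * t)) * t⁻¹ := by rw [Subgroup.mem_centralizer_iff.mp hc.2 _ hu']
            _ = t * c * t⁻¹ * u := by group⟩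
    exact fun t ht => Subgroup.mem_normalizer_iff.mpr fun c =>
      ⟨key t ht c, fun hc => by simpa [mul_assoc] using key t⁻¹ (inv_mem ht) _ hc⟩
  obtain ⟨c, hc, hcN, hcT⟩ : ∃ c, c ∈ C1 ∧ c ∈ N ∧ c ∉ T := by
    set M := T ⊔ C1 with hM
    have hMP : M ≤ (P : Subgroup G) := sup_le hT (inf_le_left.trans hD.1)
    have hlt : T < M := lt_of_le_of_ne le_sup_left fun e => hcen fun c hc =>
      ⟨e ▸ Subgroup.mem_sup_right hc, hc.1⟩
    haveI : Group.IsNilpotent M := (P.2.to_le hMP).isNilpotent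
    have hlt' : T.subgroupOf M < ⊤ := lt_of_le_of_ne le_top fun e =>
      hlt.not_ge (Subgroup.subgroupOf_eq_top.mp e)
    obtain ⟨x, hx1, hx2⟩ := SetLike.exists_of_lt (Group.normalizerCondition_of_isNilpotent (T.subgroupOf M) hlt')
    have hxN : (x : G) ∈ N := by
      have h1 := Subgroup.le_normalizer_map M.subtype ⟨x, hx1, rfl⟩
      rwa [Subgroup.subgroupOf_map_subtype, inf_eq_left.2 hlt.le] at h1
    have hxM : (x : G) ∈ ((T ⊔ C1 : Subgroup G) : Set G) := x.2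
    rw [Subgroup.coe_mul_of_left_le_normalizer_right T C1 hTC] at hxM
    obtain ⟨t, ht, c, hc, htc⟩ := hxM
    refine ⟨c, hc, ?_, fun hcT => hx2 (Subgroup.mem_subgroupOf.mpr (htc ▸ mul_mem ht hcT))⟩
    have := mul_mem (inv_mem (Subgroup.le_normalizer ht : t ∈ N)) hxN
    rwa [← htc, inv_mul_cancel_left] at this
  let Y : Subgroup G :=
    { carrier := {y | y ∈ N ∧ y ∈ Subgroup.centralizer (U : Set G) ∧ ∀ t ∈ T, t⁻¹ * (y * t * y⁻¹) ∈ U}
      one_mem' := ⟨one_mem _, one_mem _, fun t _ => by simp⟩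
      mul_mem' := fun {y z} hy hz => ⟨mul_mem hy.1 hz.1, mul_mem hy.2.1 hz.2.1, fun t ht => by
        have h1 := hz.2.2 t ht
        rw [show t⁻¹ * (y * z * t * (y * z)⁻¹) = t⁻¹ * (y * t * y⁻¹) * (y * (t⁻¹ * (z * t * z⁻¹)) * y⁻¹) by group,
          (Subgroup.mem_centralizer_iff.mp hy.2.1 _ h1).symm, mul_inv_cancel_right]
        exact mul_mem (hy.2.2 t ht) h1⟩
      inv_mem' := fun {y} hy => ⟨inv_mem hy.1, inv_mem hy.2.1, fun t ht => by
        have h1 := hy.2.2 t ht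
        have h2 : y⁻¹ * (t⁻¹ * (y * t * y⁻¹)) * y = t⁻¹ * (y * t * y⁻¹) := by
          rw [mul_assoc, Subgroup.mem_centralizer_iff.mp hy.2.1 _ h1, inv_mul_cancel_left]
        have h3 : t⁻¹ * (y⁻¹ * t * y⁻¹⁻¹) = (y⁻¹ * (t⁻¹ * (y * t * y⁻¹)) * y)⁻¹ := by group
        rw [h3, h2]; exact inv_mem h1⟩ }
  have hYN : Y ≤ N := fun y hy => hy.1
  have hYinv : ∀ x ∈ N, ∀ y ∈ Y, x * y * x⁻¹ ∈ Y := by
    intro x hx y hy
    refine ⟨mul_mem (mul_mem hx hy.1) (inv_mem hx), Subgroup.mem_centralizer_iff.mpr fun u hu => ?_, fun t ht => ?_⟩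
    · have hu' : x⁻¹ * u * x ∈ U := by simpa using hNU' x⁻¹ (inv_mem hx) u hu
      calc u * (x * y * x⁻¹) = x * ((x⁻¹ * u * x) * y) * x⁻¹ := by group
        _ = x * (y * (x⁻¹ * u * x)) * x⁻¹ := by rw [Subgroup.mem_centralizer_iff.mp hy.2.1 _ hu']
        _ = x * y * x⁻¹ * u := by group
    · have ht' : x⁻¹ * t * x ∈ T := by simpa using hNT x⁻¹ (inv_mem hx) t ht
      have := hNU' x hx _ (hy.2.2 _ ht')
      rwa [show x * ((x⁻¹ * t * x)⁻¹ * (y * (x⁻¹ * t * x) * y⁻¹)) * x⁻¹ =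
        t⁻¹ * (x * y * x⁻¹ * t * (x * y * x⁻¹)⁻¹) by group] at this
  have hcY : c ∈ Y := by
    refine ⟨hcN, hc.2, fun t ht => ⟨T.mul_mem (inv_mem ht) (hNT c hcN t ht), ?_⟩⟩
    rw [show t⁻¹ * (c * t * c⁻¹) = (t⁻¹ * c * t⁻¹⁻¹) * c⁻¹ by group]
    refine D.mul_mem (hD.2 c hc.1 t⁻¹ ?_) (inv_mem hc.1)
    exact mul_mem (mul_mem (inv_mem (hT ht)) (hD.1 hc.1)) (inv_mem (inv_mem (hT ht)))
  set S := (P : Subgroup G) ⊓ Y with hS
  have hSidx : ¬ p ∣ S.relIndex Y := by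
    have h1 := CfsgLib.StrongFusion.not_dvd_relIndex_inf (T := (P : Subgroup G) ⊓ N) inf_le_right
      (P.2.to_le inf_le_left) hF hYN hYinv
    rwa [inf_assoc, inf_eq_right.mpr hYN, ← hS] at h1
  set T' := T ⊔ S with hT'
  have hT'P : T' ≤ (P : Subgroup G) := sup_le hT inf_le_left
  have hlt : Nat.card U < Nat.card ↥(T' ⊓ D) := by
    refine lt_of_le_of_ne (Subgroup.card_le_of_le (inf_le_inf_right _ le_sup_left)) fun e => hcT ?_
    have h1 : U = T' ⊓ D := Subgroup.eq_of_le_of_card_ge (inf_le_inf_right _ le_sup_left) e.ge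
    have h2 : c ∈ T' ⊓ D := ⟨Subgroup.mem_sup_right ⟨hD.1 hc.1, hcY⟩, hc.1⟩
    rw [← h1] at h2; exact h2.1
  have hle' : Nat.card ↥(T' ⊓ D) ≤ Nat.card (P : Subgroup G) := Subgroup.card_le_of_le (inf_le_left.trans hT'P)
  -- the action on `T`
  set φ := T.normalizerMonoidHom with hφ
  set L := N ⊓ Subgroup.normalizer (S : Set G) with hL
  have hp' : ∀ (A : Subgroup G) (hA : A ≤ N), (∀ v ∈ A, (orderOf v).Coprime p → ∀ t ∈ T, v * t * v⁻¹ = t) →
      IsPGroup p ((A.subgroupOf N).map φ) := by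
    rintro A hA hv ⟨_, a, ha, rfl⟩
    obtain ⟨u, v, huv, hu, hvz, ⟨k, hk⟩, hvp⟩ := CfsgLib.CycSyl.split (p := p) (a : G)
    have hvA : v ∈ A := (Subgroup.zpowers_le.mpr (show (a : G) ∈ A from ha)) hvz
    have huA : u ∈ A := (Subgroup.zpowers_le.mpr (show (a : G) ∈ A from ha)) hu
    have hvker : φ ⟨v, hA hvA⟩ = 1 := by
      show (⟨v, hA hvA⟩ : N) ∈ φ.ker
      rw [hφ, Subgroup.normalizerMonoidHom_ker, Subgroup.mem_subgroupOf, Subgroup.mem_centralizer_iff]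
      exact fun t ht => (mul_inv_eq_iff_eq_mul.mp (hv v hvA hvp t ht)).symm
    refine ⟨k, Subtype.ext ?_⟩
    have e : a = (⟨u, hA huA⟩ : N) * ⟨v, hA hvA⟩ := Subtype.ext huv.symm
    show (φ a) ^ p ^ k = 1
    rw [e, map_mul, hvker, mul_one, ← map_pow, show (⟨u, hA huA⟩ : N) ^ p ^ k = 1 from Subtype.ext hk, map_one]
  have hY : IsPGroup p ((Y.subgroupOf N).map φ) := by
    refine hp' Y hYN fun v hv hvp t ht => ?_
    set u := t⁻¹ * (v * t * v⁻¹) with hu
    have huU : u ∈ U := hv.2.2 t ht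
    have hvt : v * t * v⁻¹ = t * u := by rw [hu]; group
    have hiter : ∀ m : ℕ, v ^ m * t * (v ^ m)⁻¹ = t * u ^ m := by
      intro m
      induction m with
      | zero => simp
      | succ m ihm =>
        calc v ^ (m + 1) * t * (v ^ (m + 1))⁻¹ = v * (v ^ m * t * (v ^ m)⁻¹) * v⁻¹ := by rw [pow_succ']; group
          _ = v * t * (u ^ m * v⁻¹) := by rw [ihm]; group
          _ = v * t * (v⁻¹ * u ^ m) := by
            rw [Subgroup.mem_centralizer_iff.mp (inv_mem hv.2.1) _ (pow_mem huU m)]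
          _ = t * u ^ (m + 1) := by rw [← mul_assoc, hvt, pow_succ']; group
    have h1 := hiter (orderOf v)
    rw [pow_orderOf_eq_one, one_mul, inv_one, mul_one, left_eq_mul] at h1
    obtain ⟨k, hk⟩ := hpT u huU.1
    have hu1 : u = 1 := orderOf_eq_one_iff.mp (Nat.eq_one_of_dvd_coprimes (hvp.pow_right k)
      (orderOf_dvd_of_pow_eq_one h1) (orderOf_dvd_of_pow_eq_one hk))
    rw [hvt, hu1, mul_one]
  have hLp : IsPGroup p ((L.subgroupOf N).map φ) := by
    refine hp' L inf_le_left fun v hv hvp t ht => ?_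
    refine IH _ (by omega) T' hT'P rfl v ?_ hvp t (Subgroup.mem_sup_left ht)
    refine CfsgLib.Local.mem_normalizer_of_map_conj_eq ?_
    rw [hT', Subgroup.map_sup, CfsgLib.Local.map_conj_eq_of_mem_normalizer hv.1,
      CfsgLib.Local.map_conj_eq_of_mem_normalizer hv.2]
  intro g hg hgp t ht
  -- Frattini argument
  obtain ⟨m, hm, hmS⟩ := exists_conj_le (inf_le_right : S ≤ Y) (P.2.to_le inf_le_left) hSidx
    (R := cm g S) (by rintro _ ⟨s, hs, rfl⟩; exact hYinv g hg s hs.2) ((P.2.to_le inf_le_left).map _)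
  rw [cm_cm] at hmS
  have hl : m * g ∈ L := ⟨mul_mem (hYN hm) hg, CfsgLib.Local.mem_normalizer_of_map_conj_eq
    (Subgroup.eq_of_le_of_card_ge hmS (card_cm _ _).ge)⟩
  have hnorm : (L.subgroupOf N).map φ ≤ Subgroup.normalizer (((Y.subgroupOf N).map φ : Subgroup _) : Set _) := by
    rintro _ ⟨l, -, rfl⟩
    refine CfsgLib.Local.mem_normalizer_of_map_conj_eq (Subgroup.eq_of_le_of_card_ge ?_ ?_)
    · rintro _ ⟨_, ⟨y, hy, rfl⟩, rfl⟩
      exact ⟨l * y * l⁻¹, hYinv l l.2 y hy, by simp⟩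
    · exact (Subgroup.card_map_of_injective (MulAut.conj (φ l)).injective).ge
  have hall := hLp.to_sup_of_normal_right' hY hnorm
  have hgmem : φ ⟨g, hg⟩ ∈ (L.subgroupOf N).map φ ⊔ (Y.subgroupOf N).map φ := by
    have e : (⟨g, hg⟩ : N) = (⟨m, hYN hm⟩ : N)⁻¹ * ⟨m * g, hl.1⟩ := Subtype.ext (inv_mul_cancel_left m g).symm
    rw [e, map_mul, map_inv]
    exact mul_mem (inv_mem (Subgroup.mem_sup_right ⟨_, hm, rfl⟩)) (Subgroup.mem_sup_left ⟨_, hl, rfl⟩)
  obtain ⟨k, hk⟩ := hall ⟨_, hgmem⟩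
  have h1 : orderOf (φ ⟨g, hg⟩) ∣ p ^ k := orderOf_dvd_of_pow_eq_one (congrArg Subtype.val hk)
  have h2 : orderOf (φ ⟨g, hg⟩) ∣ orderOf g :=
    (orderOf_map_dvd φ ⟨g, hg⟩).trans (Subgroup.orderOf_mk g hg).dvd
  have h3 : φ ⟨g, hg⟩ = 1 := orderOf_eq_one_iff.mp (Nat.eq_one_of_dvd_coprimes (hgp.pow_right k) h2 h1)
  have h4 : (⟨g, hg⟩ : N) ∈ φ.ker := h3
  rw [hφ, Subgroup.normalizerMonoidHom_ker, Subgroup.mem_subgroupOf, Subgroup.mem_centralizer_iff] at h4
  rw [← h4 t ht, mul_inv_cancel_right]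

/-- A Frobenius normal p-complement criterion relative to a strongly closed subgroup. Let G be a finite group, S a Sylow p-subgroup and D a subgroup of S strongly closed in S with respect to G. Then G has a normal p-complement if and only if N_G(U) has a normal p-complement for every subgroup U of D with C_D(U) ≤ U. -/
theorem result {G : Type*} [Group G] [Finite G] {p : ℕ} [Fact p.Prime] (S : Sylow p G) (D : Subgroup G) (hD : Cfsg.IsStronglyClosed D (S : Subgroup G)) : Cfsg.HasNormalPComplement p G ↔ ∀ U : Subgroup G, U ≤ D → D ⊓ Subgroup.centralizer (U : Set G) ≤ U → Cfsg.HasNormalPComplement p ↥(Subgroup.normalizer (U : Set G)) := by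
  refine ⟨fun h U _ _ => CfsgLib.hasNormalPComplement_subgroup h _, fun h => ?_⟩
  refine Cfsg.FusionSystem.hasNormalPComplement_of_centralizes S fun T hT g hg hgp => ?_
  refine Subgroup.mem_centralizer_iff.mpr fun t ht => ?_
  exact (mul_inv_eq_iff_eq_mul.mp (centralizes S hD h _ T hT rfl g hg hgp t ht)).symm

end Cfsg.Agent.S3839
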