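import Cfsg.Statements.S3857
import Mathlib
import Cfsg.Agent.Lib.DisconnectedSolvable
-- import your own Cfsg.Agent.* helpers here

set_option autoImplicit false
open Cfsg

namespace Cfsg.Agent.S3857

open Subgroup CfsgLib.DiscSol

/-- A finite solvable group whose prime graph (prime divisors of the order, two distinct primes joined when there is an element of order their product) is disconnected is a Frobenius group or a 2-Frobenius group (it has normal subgroups H < K with K a Frobenius group with kernel H and G/H a Frobenius group with kernel K/H). -/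
theorem result {G : Type*} [Group G] [Finite G] (hsol : Group.IsSolvable G)
    (hdisc : (∃ A : Set ℕ, (∃ a ∈ A, a.Prime ∧ a ∣ Nat.card G) ∧ (∃ b ∉ A, b.Prime ∧ b ∣ Nat.card G) ∧
      ∀ a ∈ A, ∀ b ∉ A, a.Prime → b.Prime → a ∣ Nat.card G → b ∣ Nat.card G → ¬ ∃ g : G, orderOf g = a * b)) :
    (∃ C : Subgroup G, Cfsg.IsFrobeniusComplement C) ∨
    (∃ (H K : Subgroup G) (_ : H.Normal), K.Normal ∧ H < K ∧
      (∃ C : Subgroup ↥K, Cfsg.IsFrobeniusComplement C ∧ Cfsg.frobeniusKernel C = (H.subgroupOf K : Set ↥K)) ∧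
      (∃ C : Subgroup (G ⧸ H), Cfsg.IsFrobeniusComplement C ∧ Cfsg.frobeniusKernel C = (K.map (QuotientGroup.mk' H) : Set (G ⧸ H)))) := by
  classical
  haveI := hsol
  obtain ⟨A, ⟨a, haA, ha, haG⟩, ⟨b, hbA, hb, hbG⟩, hno⟩ := hdisc
  have hm : NoMix G A := by
    intro x p q hp hq hpA hqA hd
    have hG : ∀ r, r ∣ p * q → r ∣ Nat.card G := fun r hr => hr.trans (hd.trans (_root_.orderOf_dvd_natCard x))
    exact hno p hpA q hqA hp hq (hG p (dvd_mul_right p q)) (hG q (dvd_mul_left q p))
      ⟨_, orderOf_pow_orderOf_div (orderOf_pos x).ne' hd⟩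
  haveI : Nontrivial G := Finite.one_lt_card_iff_nontrivial.mp
    (lt_of_lt_of_le ha.one_lt (Nat.le_of_dvd Nat.card_pos haG))
  haveI : Group.IsNilpotent (fittingSubgroup G) := CfsgLib.isNilpotent_fittingSubgroup
  have hside : PrimesIn A (Nat.card (fittingSubgroup G)) ∨ PrimesIn Aᶜ (Nat.card (fittingSubgroup G)) := by
    by_contra hc
    simp only [PrimesIn, Set.mem_compl_iff, not_or, not_forall, not_not] at hc
    obtain ⟨⟨q, hq, hqd, hqA⟩, p, hp, hpd, hpA⟩ := hc
    have := Fact.mk hp
    have := Fact.mk hq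
    obtain ⟨x, hx⟩ := exists_prime_orderOf_dvd_card' (G := fittingSubgroup G) p hpd
    obtain ⟨y, hy⟩ := exists_prime_orderOf_dvd_card' (G := fittingSubgroup G) q hqd
    exact (hm.sub _).comm hp hq hpA hqA hx hy (CfsgLib.Frob.commute_of_nilpotent_coprime (by
      rw [hx, hy]; exact (Nat.coprime_primes hp hq).mpr fun e => hqA (e ▸ hpA)))
  rcases hside with h | h
  · exact main hm h hb hbA hbG
  · exact main hm.symm h ha (not_not.mpr haA) haG

end Cfsg.Agent.S3857
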