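import Cfsg.Statements.S3858
import Mathlib
-- import your own Cfsg.Agent.* helpers here

set_option autoImplicit false
open Cfsg

namespace Cfsg.Agent.S3858

open scoped Pointwise

/-- Let G be a finite group with a normal non-abelian simple subgroup T whose centralizer is trivial (G almost simple with socle T), r a prime and R a Sylow r-subgroup of G meeting T nontrivially. Then R lies in exactly one maximal subgroup of G if and only if G has exactly one conjugacy class of maximal subgroups whose index is prime to r. -/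
theorem result {G : Type*} [Group G] [Finite G] (T : Subgroup G) [T.Normal] (hT : IsSimpleGroup T) (hna : ¬ IsMulCommutative T)
    (hC : Subgroup.centralizer (T : Set G) = ⊥) {r : ℕ} [Fact r.Prime] (R : Sylow r G) (hR0 : (R : Subgroup G) ⊓ T ≠ ⊥) :
    (∃! M : Subgroup G, IsCoatom M ∧ (R : Subgroup G) ≤ M) ↔
      ((∃ M : Subgroup G, IsCoatom M ∧ ¬ r ∣ M.index) ∧
        ∀ M₁ M₂ : Subgroup G, IsCoatom M₁ → ¬ r ∣ M₁.index → IsCoatom M₂ → ¬ r ∣ M₂.index → ∃ g : G, M₂ = M₁.map (MulAut.conj g).toMonoidHom) := by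
  classical
  have hNne : Subgroup.normalizer ((R : Subgroup G) : Set G) ≠ ⊤ := by
    intro e
    have := Subgroup.normalizer_eq_top_iff.mp e
    have := hT
    have hn : (((R : Subgroup G) ⊓ T).subgroupOf T).Normal := inferInstance
    rcases hn.eq_bot_or_eq_top with h | h
    · exact hR0 (le_bot_iff.mp ((Subgroup.subgroupOf_eq_bot.mp h).le_bot.trans' (le_inf le_rfl inf_le_right)))
    · apply hna
      have hle : T ≤ (R : Subgroup G) := (Subgroup.subgroupOf_eq_top.mp h).trans inf_le_left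
      have hTp : IsPGroup r T := R.isPGroup'.to_le hle
      have : Nontrivial T := hT.toNontrivial
      have hc := hTp.center_nontrivial
      rcases (inferInstance : (Subgroup.center T).Normal).eq_bot_or_eq_top with h2 | h2
      · exact absurd h2 ((Subgroup.nontrivial_iff_ne_bot _).mp hc)
      · exact ⟨⟨fun a b => Subgroup.mem_center_iff.mp (h2 ▸ Subgroup.mem_top b) a⟩⟩
  obtain ⟨M₀, hM₀, hle₀⟩ := (eq_top_or_exists_le_coatom _).resolve_left hNne
  have hRM₀ : (R : Subgroup G) ≤ M₀ := Subgroup.le_normalizer.trans hle₀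
  -- a maximal subgroup of index prime to `r` contains a conjugate of `R`
  have hconj : ∀ M : Subgroup G, ¬ r ∣ M.index → ∃ g : G, (R : Subgroup G) ≤ M.map (MulAut.conj g).toMonoidHom := by
    intro M hM
    let S : Sylow r M := default
    obtain ⟨Q, hQ⟩ := (S.isPGroup'.map M.subtype).exists_le_sylow
    obtain ⟨g, hg⟩ := MulAction.exists_smul_eq G Q R
    have hQM : (Q : Subgroup G) = (S : Subgroup M).map M.subtype := by
      refine (Subgroup.eq_of_le_of_card_ge hQ ?_).symm
      rw [Subgroup.card_map_of_injective M.subtype_injective, Sylow.card_eq_multiplicity, Sylow.card_eq_multiplicity,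
        ← M.card_mul_index, Nat.factorization_mul Nat.card_pos.ne' Subgroup.index_ne_zero_of_finite,
        Finsupp.add_apply, Nat.factorization_eq_zero_of_not_dvd hM, add_zero]
    refine ⟨g, ?_⟩
    rw [← hg, Sylow.coe_subgroup_smul, Subgroup.pointwise_smul_def]
    exact Subgroup.map_mono (hQM ▸ Subgroup.map_subtype_le _)
  have hidx : ∀ M : Subgroup G, (R : Subgroup G) ≤ M → ¬ r ∣ M.index := fun M hM hd =>
    R.not_dvd_index (hd.trans (Subgroup.index_dvd_of_le hM))
  have hco : ∀ (M : Subgroup G) (g : G), IsCoatom M → IsCoatom (M.map (MulAut.conj g).toMonoidHom) :=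
    fun M g h => by
      have := (MulAut.conj g).mapSubgroup.isCoatom_iff (a := M)
      exact this.mpr h
  constructor
  · rintro ⟨M, ⟨hM, hRM⟩, hu⟩
    refine ⟨⟨M, hM, hidx M hRM⟩, fun M₁ M₂ h₁ i₁ h₂ i₂ => ?_⟩
    obtain ⟨g₁, hg₁⟩ := hconj M₁ i₁
    obtain ⟨g₂, hg₂⟩ := hconj M₂ i₂
    refine ⟨g₂⁻¹ * g₁, ?_⟩
    have e : M₁.map (MulAut.conj g₁).toMonoidHom = M₂.map (MulAut.conj g₂).toMonoidHom :=
      (hu _ ⟨hco _ _ h₁, hg₁⟩).trans (hu _ ⟨hco _ _ h₂, hg₂⟩).symm
    ext w
    have h3 := SetLike.ext_iff.mp e (g₂ * w * g₂⁻¹)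
    rw [Subgroup.mem_map_equiv, Subgroup.mem_map_equiv, MulAut.conj_symm_apply, MulAut.conj_symm_apply] at h3
    rw [Subgroup.mem_map_equiv, MulAut.conj_symm_apply]
    simpa [mul_assoc] using h3.symm
  · rintro ⟨-, hall⟩
    refine ⟨M₀, ⟨hM₀, hRM₀⟩, ?_⟩
    rintro M ⟨hM, hRM⟩
    obtain ⟨g, hg⟩ := hall M₀ M hM₀ (hidx _ hRM₀) hM (hidx _ hRM)
    -- both `R` and its conjugate lie in `M₀`
    have hR' : (g⁻¹ • R : Sylow r G).toSubgroup ≤ M₀ := by
      intro w hw
      rw [Sylow.coe_subgroup_smul, Subgroup.mem_pointwise_smul_iff_inv_smul_mem, MulAut.smul_def,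
        MulAut.inv_def, MulAut.conj_symm_apply, inv_inv] at hw
      have h1 := hRM hw
      rw [hg, Subgroup.mem_map_equiv, MulAut.conj_symm_apply] at h1
      simpa [mul_assoc] using h1
    obtain ⟨m, hm⟩ := MulAction.exists_smul_eq M₀ (R.subtype hRM₀) ((g⁻¹ • R : Sylow r G).subtype hR')
    rw [Sylow.smul_subtype] at hm
    have hmR : (m : G) • R = g⁻¹ • R := Sylow.subtype_injective hm
    have hn : g * m ∈ Subgroup.normalizer ((R : Subgroup G) : Set G) :=
      Sylow.smul_eq_iff_mem_normalizer.mp (by rw [mul_smul, hmR, smul_inv_smul])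
    have hgM : g ∈ M₀ := by simpa using mul_mem (hle₀ hn) (inv_mem m.2)
    rw [hg]
    exact Subgroup.eq_of_le_of_card_ge
      (by rintro _ ⟨w, hw, rfl⟩; exact mul_mem (mul_mem hgM hw) (inv_mem hgM))
      (Subgroup.card_map_of_injective (MulAut.conj g).injective).ge

end Cfsg.Agent.S3858
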