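import Cfsg.Statements.S3859
import Mathlib
-- import your own Cfsg.Agent.* helpers here

set_option autoImplicit false
open Cfsg

namespace Cfsg.Agent.S3859

/-- Let G be a finite group with a normal non-abelian simple subgroup T whose centralizer is trivial (G almost simple with socle T), r a prime and R a Sylow r-subgroup of G meeting T nontrivially. If R lies in exactly one maximal subgroup of G, then G/T is an r-group. -/
theorem result {G : Type*} [Group G] [Finite G] (T : Subgroup G) [T.Normal] (hT : IsSimpleGroup T) (hna : ¬ IsMulCommutative T)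
    (hC : Subgroup.centralizer (T : Set G) = ⊥) {r : ℕ} [Fact r.Prime] (R : Sylow r G) (hR0 : (R : Subgroup G) ⊓ T ≠ ⊥)
    (huniq : ∃! M : Subgroup G, IsCoatom M ∧ (R : Subgroup G) ≤ M) : IsPGroup r (G ⧸ T) := by
  classical
  obtain ⟨M, ⟨hM, hRM⟩, huM⟩ := huniq
  set R0 := (R : Subgroup G) ⊓ T with hR0def
  have hr : r.Prime := Fact.out
  have hR0p : IsPGroup r R0 := R.isPGroup'.to_le inf_le_left
  have hR0T : R0 ≠ T := by
    intro e
    apply hna
    have hTp : IsPGroup r T := e ▸ hR0p
    have := hT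
    have := hTp.isNilpotent
    have hc := hTp.center_nontrivial
    rcases (inferInstance : (Subgroup.center T).Normal).eq_bot_or_eq_top with h | h
    · exact absurd h ((Subgroup.nontrivial_iff_ne_bot _).mp hc)
    · exact ⟨⟨fun a b => Subgroup.mem_center_iff.mp (h ▸ Subgroup.mem_top b) a⟩⟩
  -- Frattini
  have hRT : (R : Subgroup G) ≤ Subgroup.normalizer (R0 : Set G) := by
    intro g hg
    rw [Subgroup.mem_normalizer_iff]
    intro w
    constructor
    · intro hw
      obtain ⟨h1, h2⟩ := Subgroup.mem_inf.mp hw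
      exact Subgroup.mem_inf.mpr ⟨mul_mem (mul_mem hg h1) (inv_mem hg), Subgroup.Normal.conj_mem inferInstance w h2 g⟩
    · intro hw
      obtain ⟨h1, h2⟩ := Subgroup.mem_inf.mp hw
      have e : w = g⁻¹ * (g * w * g⁻¹) * g⁻¹⁻¹ := by group
      rw [e]
      exact Subgroup.mem_inf.mpr ⟨mul_mem (mul_mem (inv_mem hg) h1) (inv_mem (inv_mem hg)),
        Subgroup.Normal.conj_mem inferInstance _ h2 g⁻¹⟩
  have hdvd : ¬ r ∣ (R0.subgroupOf T).index := by
    rw [show (R0.subgroupOf T).index = R0.relIndex T from rfl, hR0def, Subgroup.inf_relIndex_right]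
    intro hd
    have : (R : Subgroup G).relIndex T = (R : Subgroup G).relIndex (T ⊔ R) := by
      have e1 := Subgroup.relIndex_mul_relIndex ((R : Subgroup G) ⊓ T) T ((R : Subgroup G) ⊔ T) inf_le_right le_sup_right
      have e2 := Subgroup.relIndex_mul_relIndex ((R : Subgroup G) ⊓ T) (R : Subgroup G) ((R : Subgroup G) ⊔ T) inf_le_left le_sup_left
      rw [Subgroup.inf_relIndex_right, Subgroup.relIndex_sup_right] at e1
      rw [Subgroup.inf_relIndex_left] at e2
      rw [sup_comm]
      refine Nat.eq_of_mul_eq_mul_right (m := T.relIndex (R : Subgroup G)) (Nat.pos_of_ne_zero Subgroup.index_ne_zero_of_finite) ?_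
      rw [e1, ← e2, mul_comm]
    rw [this] at hd
    exact R.not_dvd_index (hd.trans (Subgroup.relIndex_dvd_index_of_le le_sup_right))
  let S : Sylow r T := (hR0p.comap_of_injective T.subtype T.subtype_injective).toSylow hdvd
  have hfr := Sylow.normalizer_sup_eq_top S
  have hmap : (S : Subgroup T).map T.subtype = R0 := by
    show (R0.comap T.subtype).map T.subtype = R0
    exact Subgroup.map_subgroupOf_eq_of_le inf_le_right
  rw [hmap] at hfr
  have hNtop : Subgroup.normalizer (R0 : Set G) ≠ ⊤ := by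
    intro e
    have hn : R0.Normal := Subgroup.normalizer_eq_top_iff.mp e
    have := hT
    rcases (hn.subgroupOf T).eq_bot_or_eq_top with h | h
    · exact hR0 (le_bot_iff.mp ((Subgroup.subgroupOf_eq_bot.mp h).le_bot.trans' (le_inf le_rfl inf_le_right)))
    · exact hR0T (le_antisymm inf_le_right (Subgroup.subgroupOf_eq_top.mp h))
  obtain ⟨M', hM', hle'⟩ := (eq_top_or_exists_le_coatom _).resolve_left hNtop
  obtain rfl := huM M' ⟨hM', hRT.trans hle'⟩
  have hTM : ¬ T ≤ M' := fun h => hM'.1 (top_le_iff.mp (hfr ▸ sup_le hle' h))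
  have htop : (R : Subgroup G) ⊔ T = ⊤ := by
    by_contra hne
    obtain ⟨M'', hM'', hle''⟩ := (eq_top_or_exists_le_coatom _).resolve_left hne
    obtain rfl := huM M'' ⟨hM'', le_sup_left.trans hle''⟩
    exact hTM (le_sup_right.trans hle'')
  have hsur : Function.Surjective ((QuotientGroup.mk' T).comp (R : Subgroup G).subtype) := by
    intro q
    obtain ⟨g, rfl⟩ := QuotientGroup.mk'_surjective T q
    have hg : g ∈ (R : Subgroup G) ⊔ T := htop ▸ Subgroup.mem_top g
    obtain ⟨a, ha, b, hb, rfl⟩ := Subgroup.mem_sup_of_normal_right.mp hg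
    exact ⟨⟨a, ha⟩, by simp [(QuotientGroup.eq_one_iff b).mpr hb]⟩
  exact R.isPGroup'.of_surjective _ hsur

end Cfsg.Agent.S3859
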