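import Cfsg.Statements.S3863
import Cfsg.Agent.Lib.PRegularClass
-- import your own Cfsg.Agent.* helpers here

set_option autoImplicit false
open Cfsg

namespace Cfsg.Agent.S3863


theorem conj_pow_inv {G : Type*} [Group G] {t x : G} (h : t * x * t⁻¹ = x⁻¹) :
    ∀ k : ℕ, (Even k → t ^ k * x * (t ^ k)⁻¹ = x) ∧ (Odd k → t ^ k * x * (t ^ k)⁻¹ = x⁻¹)
  | 0 => ⟨fun _ => by simp, fun h0 => by simp at h0⟩
  | k + 1 => by
    obtain ⟨he, ho⟩ := conj_pow_inv h k
    have key : t ^ (k + 1) * x * (t ^ (k + 1))⁻¹ = t * (t ^ k * x * (t ^ k)⁻¹) * t⁻¹ := by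
      rw [pow_succ']; group
    refine ⟨fun hk => ?_, fun hk => ?_⟩
    · rw [key, ho (Nat.not_even_iff_odd.mp (Nat.even_add_one.mp hk)), ← conj_inv, h, inv_inv]
    · rw [key, he (Nat.not_odd_iff_even.mp fun h' => (Nat.not_even_iff_odd.mpr hk) h'.add_one), h]

/-- A real element is inverted by a 2-element. -/
theorem exists_two_element {G : Type*} [Group G] [Finite G] {x : G} (hx : IsConj x x⁻¹) :
    ∃ t : G, (∃ j : ℕ, orderOf t = 2 ^ j) ∧ t * x * t⁻¹ = x⁻¹ := by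
  obtain ⟨t₀, ht₀⟩ := isConj_iff.mp hx
  obtain ⟨a, m, hm, hd⟩ := Nat.exists_eq_pow_mul_and_not_dvd (orderOf_pos t₀).ne' 2 (by norm_num)
  refine ⟨t₀ ^ m, ?_, (conj_pow_inv ht₀ m).2 (Nat.odd_iff.mpr (Nat.two_dvd_ne_zero.mp hm))⟩
  have : orderOf (t₀ ^ m) ∣ 2 ^ a := orderOf_dvd_of_pow_eq_one (by
    rw [← pow_mul, mul_comm, ← hd, pow_orderOf_eq_one])
  obtain ⟨j, -, hj⟩ := (Nat.dvd_prime_pow Nat.prime_two).mp this
  exact ⟨j, hj⟩

/-- A real element with a class of odd size is an involution or trivial. -/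
theorem sq_eq_one_of_odd_class {G : Type*} [Group G] [Finite G] {x : G} (hx : IsConj x x⁻¹)
    (hodd : Odd (Subgroup.centralizer ({x} : Set G)).index) : x ^ 2 = 1 := by
  classical
  have := Fact.mk Nat.prime_two
  have hcl : ∀ y : G, IsConj x y → IsConj x y⁻¹ := fun y hy => by
    obtain ⟨c, hc⟩ := isConj_iff.mp hy
    refine hx.trans (isConj_iff.mpr ⟨c, ?_⟩)
    rw [← hc]; group
  let σ : Equiv.Perm (ConjClasses.mk x).carrier :=
    { toFun := fun y => ⟨(y : G)⁻¹, ConjClasses.mem_carrier_iff_mk_eq.mpr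
        (ConjClasses.mk_eq_mk_iff_isConj.mpr (hcl _ (ConjClasses.mk_eq_mk_iff_isConj.mp
          (ConjClasses.mem_carrier_iff_mk_eq.mp y.2).symm)).symm)⟩
      invFun := fun y => ⟨(y : G)⁻¹, ConjClasses.mem_carrier_iff_mk_eq.mpr
        (ConjClasses.mk_eq_mk_iff_isConj.mpr (hcl _ (ConjClasses.mk_eq_mk_iff_isConj.mp
          (ConjClasses.mem_carrier_iff_mk_eq.mp y.2).symm)).symm)⟩
      left_inv := fun y => Subtype.ext (inv_inv _)
      right_inv := fun y => Subtype.ext (inv_inv _) }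
  have := Fintype.ofFinite (ConjClasses.mk x).carrier
  have hn : ¬ 2 ∣ Fintype.card (ConjClasses.mk x).carrier := by
    rw [← Nat.card_eq_fintype_card, Nat.card_coe_set_eq, CfsgLib.ncard_carrier_eq_index_centralizer]
    exact hodd.not_two_dvd_nat
  obtain ⟨⟨y, hy⟩, hfix⟩ := Equiv.Perm.exists_fixed_point_of_prime (p := 2) (n := 1) hn (σ := σ) (by
    ext z; simp [pow_two, σ])
  have hyy : y⁻¹ = y := congrArg Subtype.val hfix
  obtain ⟨c, hc⟩ := isConj_iff.mp (ConjClasses.mk_eq_mk_iff_isConj.mp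
    (ConjClasses.mem_carrier_iff_mk_eq.mp hy)).symm
  have hy2 : y ^ 2 = 1 := by rw [pow_two]; exact mul_eq_one_iff_inv_eq.mpr hyy
  calc x ^ 2 = c⁻¹ * y ^ 2 * c := by rw [← hc, pow_two, pow_two]; group
    _ = 1 := by rw [hy2]; group

/-- Let x be an element of the finite group G that is conjugate to its inverse. Then some 2-element conjugates x to its inverse; if the conjugacy class of x has odd size then x ^ 2 = 1; and x lies in, and is conjugate to its inverse inside, every normal subgroup of odd index. -/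
theorem result {G : Type*} [Group G] [Finite G] (x : G) (hx : IsConj x x⁻¹) : (∃ t : G, (∃ j : ℕ, orderOf t = 2 ^ j) ∧ t * x * t⁻¹ = x⁻¹) ∧ (Odd (Subgroup.centralizer ({x} : Set G)).index → x ^ 2 = 1) ∧ ∀ (N : Subgroup G) [N.Normal], Odd N.index → ∃ hxN : x ∈ N, IsConj (⟨x, hxN⟩ : N) (⟨x, hxN⟩ : N)⁻¹ := by
  refine ⟨exists_two_element hx, sq_eq_one_of_odd_class hx, fun N _ hN => ?_⟩
  have hcardQ : Odd (Nat.card (G ⧸ N)) := hN
  have hxN : x ∈ N := by
    rw [← QuotientGroup.eq_one_iff]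
    have hq : IsConj (x : G ⧸ N) (x : G ⧸ N)⁻¹ := (QuotientGroup.mk' N).map_isConj hx
    have h2 := sq_eq_one_of_odd_class hq (Odd.of_dvd_nat hcardQ (Subgroup.index_dvd_card _))
    exact orderOf_eq_one_iff.mp (Nat.eq_one_of_dvd_coprimes
      (Nat.coprime_two_left.mpr hcardQ) (orderOf_dvd_of_pow_eq_one h2) (orderOf_dvd_natCard _))
  obtain ⟨t, ⟨j, hj⟩, ht⟩ := exists_two_element hx
  have htN : t ∈ N := by
    rw [← QuotientGroup.eq_one_iff]
    refine orderOf_eq_one_iff.mp (Nat.eq_one_of_dvd_coprimes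
      ((Nat.coprime_two_left.mpr hcardQ).pow_left j) ?_ (orderOf_dvd_natCard _))
    rw [← hj]
    exact orderOf_map_dvd (QuotientGroup.mk' N) t
  exact ⟨hxN, isConj_iff.mpr ⟨⟨t, htN⟩, Subtype.ext ht⟩⟩

end Cfsg.Agent.S3863
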