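import Cfsg.Statements.S3861
import Mathlib
import Cfsg.Agent.Lib.LiftConj
import Cfsg.Agent.Lib.Subnormal
import Cfsg.Agent.Lib.PResidual
import Cfsg.Agent.Lib.Components
import Cfsg.Agent.S3863
-- import your own Cfsg.Agent.* helpers here

set_option autoImplicit false
open Cfsg

namespace Cfsg.Agent.S3861

open scoped Pointwise

/-- A real element of odd order in a quotient by a normal `2`-subgroup comes from one upstairs. -/
theorem no_odd_real_quotient {G : Type*} [Group G] [Finite G] (N : Subgroup G) [N.Normal]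
    (hN : IsPGroup 2 N) (h : ∀ x : G, x ≠ 1 → Odd (orderOf x) → ¬ IsConj x x⁻¹) :
    ∀ y : G ⧸ N, y ≠ 1 → Odd (orderOf y) → ¬ IsConj y y⁻¹ := by
  intro y hy hodd hreal
  have := Fact.mk Nat.prime_two
  obtain ⟨n, hn⟩ := hN.exists_card_eq
  have hcop : (orderOf y).Coprime (Nat.card N) := by
    rw [hn]; exact ((Nat.coprime_two_left.mpr hodd).pow_left n).symm
  obtain ⟨x, rfl, hxo⟩ := CfsgLib.exists_lift_orderOf_eq N y hcop
  obtain ⟨t, ht⟩ := isConj_iff.mp hreal
  obtain ⟨t, rfl⟩ := QuotientGroup.mk'_surjective N t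
  set π := QuotientGroup.mk' N with hπ
  have ht' : π (t * x * t⁻¹) = π x⁻¹ := by rw [map_mul, map_mul, map_inv, map_inv]; exact ht
  obtain ⟨w, hw, hnorm⟩ := CfsgLib.exists_lift_normalizing N (x := x) (k := t⁻¹) (hxo ▸ hcop) (by
    rw [inv_inv]
    have h1 : (t * x * t⁻¹) * x ∈ N := by
      rw [← QuotientGroup.eq_one_iff]
      show π ((t * x * t⁻¹) * x) = 1
      rw [map_mul, ht', map_inv, inv_mul_cancel]
    rw [show t * x * t⁻¹ = (t * x * t⁻¹ * x) * x⁻¹ by group]
    exact Subgroup.mul_mem_sup h1 (inv_mem (Subgroup.mem_zpowers x)))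
  obtain ⟨i, hi⟩ := Subgroup.mem_zpowers_iff.mp ((Subgroup.mem_normalizer_iff.mp hnorm x).mp (Subgroup.mem_zpowers x))
  have hw1 : π w = 1 := (QuotientGroup.eq_one_iff w).mpr hw
  have hcx : (π t)⁻¹ * π x * π t = (π x)⁻¹ := by
    have h2 : π t * π x * (π t)⁻¹ = (π x)⁻¹ := ht
    have h3 : π t * (π x)⁻¹ * (π t)⁻¹ = π x := by rw [← conj_inv, h2, inv_inv]
    calc (π t)⁻¹ * π x * π t = (π t)⁻¹ * (π t * (π x)⁻¹ * (π t)⁻¹) * π t := by rw [h3]
      _ = (π x)⁻¹ := by group
  have h4 : π x ^ i = (π x)⁻¹ := by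
    rw [← map_zpow, hi, map_mul, map_mul, map_inv, map_mul, map_inv, hw1]
    simpa [mul_assoc] using hcx
  have h5 : x ^ i = x⁻¹ := by
    have h6 : π x ^ (i + 1) = 1 := by rw [zpow_add_one, h4, inv_mul_cancel]
    rw [← orderOf_dvd_iff_zpow_eq_one] at h6
    have h7 : x ^ (i + 1) = 1 := by
      rw [← orderOf_dvd_iff_zpow_eq_one, hxo]
      exact h6
    rwa [zpow_add_one, mul_eq_one_iff_eq_inv] at h7
  refine h x (fun e => hy (by rw [e]; rfl)) (hxo ▸ hodd) (isConj_iff.mpr ⟨t⁻¹ * w, ?_⟩)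
  rw [← hi, h5]

theorem sylow_normal_of_no_odd_real {G : Type*} [Group G] [Finite G]
    (h : ∀ x : G, x ≠ 1 → Odd (orderOf x) → ¬ IsConj x x⁻¹) (P : Sylow 2 G) :
    (P : Subgroup G).Normal := by
  have := Fact.mk Nat.prime_two
  set N := Cfsg.pCore 2 G with hN
  have hNp : IsPGroup 2 N := CfsgLib.isPGroup_pCore 2
  have hq := no_odd_real_quotient N hNp h
  suffices hP : (P : Subgroup G) ≤ N by
    have hPN : (P : Subgroup G) = N := (P.is_maximal' hNp hP).symm
    rw [hPN]; infer_instance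
  have hbot : Cfsg.pCore 2 (G ⧸ N) = ⊥ := by
    have h1 := CfsgLib.PResidual.comap_pCore_quotient (p := 2) N hNp
    rw [← hN] at h1
    have h2 := congrArg (Subgroup.map (QuotientGroup.mk' N)) h1
    rwa [Subgroup.map_comap_eq_self_of_surjective (QuotientGroup.mk'_surjective N),
      QuotientGroup.map_mk'_self] at h2
  intro x hx
  by_contra hxN
  obtain ⟨k, hk⟩ := P.isPGroup' ⟨x, hx⟩
  have hk' : x ^ 2 ^ k = 1 := congrArg Subtype.val hk
  have hox : orderOf (QuotientGroup.mk' N x) ∣ 2 ^ k := orderOf_dvd_of_pow_eq_one (by rw [← map_pow, hk', map_one])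
  obtain ⟨j, -, hj⟩ := (Nat.dvd_prime_pow Nat.prime_two).mp hox
  have hj0 : j ≠ 0 := fun h0 => hxN (by
    rw [h0, pow_zero, orderOf_eq_one_iff] at hj
    exact (QuotientGroup.eq_one_iff x).mp hj)
  set u := QuotientGroup.mk' N x ^ (orderOf (QuotientGroup.mk' N x) / 2) with hu
  have hu2 : orderOf u = 2 := orderOf_pow_orderOf_div (orderOf_pos _).ne' (hj ▸ dvd_pow_self 2 hj0)
  have husq : u * u = 1 := by rw [← pow_two]; exact orderOf_dvd_iff_pow_eq_one.mp (dvd_of_eq hu2)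
  suffices hA : Subgroup.zpowers u ≤ Cfsg.pCore 2 (G ⧸ N) by
    have h1 := hA (Subgroup.mem_zpowers u)
    rw [hbot, Subgroup.mem_bot] at h1
    rw [h1, orderOf_one] at hu2
    omega
  have hAp : IsPGroup 2 (Subgroup.zpowers u) := IsPGroup.of_card (n := 1) (by rw [Nat.card_zpowers, hu2, pow_one])
  refine CfsgLib.isSubnormal_isPGroup_le_pCore (CfsgLib.isSubnormal_of_sup_conj _ fun g => ?_) hAp
  suffices hK : IsPGroup 2 (Subgroup.zpowers u ⊔ MulAut.conj g • Subgroup.zpowers u : Subgroup (G ⧸ N)) by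
    have := hK.isNilpotent
    exact CfsgLib.isSubnormal_of_nilpotent _
  set v := g * u * g⁻¹ with hv
  have hvsq : v * v = 1 := by rw [hv, show g * u * g⁻¹ * (g * u * g⁻¹) = g * (u * u) * g⁻¹ by group, husq]; group
  set w := u * v with hw
  have hwu : u * w * u⁻¹ = w⁻¹ := by
    have hu' : u⁻¹ = u := inv_eq_of_mul_eq_one_left husq
    have hv' : v⁻¹ = v := inv_eq_of_mul_eq_one_left hvsq
    rw [hw, mul_inv_rev, hu', hv', ← mul_assoc, husq, one_mul]
  have hwp : IsPGroup 2 (Subgroup.zpowers w) := by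
    set a := (orderOf w).factorization 2
    have hz : w ^ 2 ^ a = 1 := by
      by_contra hne
      refine hq _ hne ?_ (isConj_iff.mpr ⟨u, ?_⟩)
      · rw [orderOf_pow_of_dvd (by positivity) (Nat.ordProj_dvd _ _)]
        exact Nat.odd_iff.mpr (Nat.two_dvd_ne_zero.mp (Nat.not_dvd_ordCompl Nat.prime_two (orderOf_pos w).ne'))
      · rw [← conj_pow, hwu, inv_pow]
    obtain ⟨i, -, hi⟩ := (Nat.dvd_prime_pow Nat.prime_two).mp (orderOf_dvd_of_pow_eq_one hz)
    exact IsPGroup.of_card (n := i) (by rw [Nat.card_zpowers, hi])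
  have hnorm : Subgroup.zpowers u ≤ Subgroup.normalizer ((Subgroup.zpowers w : Subgroup (G ⧸ N)) : Set (G ⧸ N)) := by
    rw [Subgroup.zpowers_le, Subgroup.mem_normalizer_iff]
    intro z
    have hle : ∀ z, z ∈ Subgroup.zpowers w → u * z * u⁻¹ ∈ Subgroup.zpowers w := by
      intro z hz
      obtain ⟨i, rfl⟩ := Subgroup.mem_zpowers_iff.mp hz
      rw [← conj_zpow, hwu]
      exact zpow_mem (inv_mem (Subgroup.mem_zpowers w)) i
    refine ⟨hle z, fun hz => ?_⟩
    have h2 := hle _ hz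
    have hu' : u⁻¹ = u := inv_eq_of_mul_eq_one_left husq
    rwa [hu', show u * (u * z * u) * u = (u * u) * z * (u * u) by group, husq, one_mul, mul_one] at h2
  refine (hAp.to_sup_of_normal_right' hwp hnorm).to_le (sup_le le_sup_left ?_)
  intro z hz
  rw [Subgroup.mem_pointwise_smul_iff_inv_smul_mem, ← map_inv, MulAut.smul_def, MulAut.conj_apply, inv_inv] at hz
  obtain ⟨i, hi⟩ := Subgroup.mem_zpowers_iff.mp hz
  have : z = v ^ i := by rw [hv, conj_zpow, hi]; group
  rw [this]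
  refine zpow_mem ?_ i
  rw [show v = u⁻¹ * w by rw [hw]; group]
  exact mul_mem (inv_mem (Subgroup.mem_sup_left (Subgroup.mem_zpowers u))) (Subgroup.mem_sup_right (Subgroup.mem_zpowers w))

/-- A finite group G has no non-identity element of odd order that is conjugate to its inverse if and only if the Sylow 2-subgroups of G are normal. -/
theorem result {G : Type*} [Group G] [Finite G] (P : Sylow 2 G) : (∀ x : G, x ≠ 1 → Odd (orderOf x) → ¬ IsConj x x⁻¹) ↔ (P : Subgroup G).Normal := by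
  have := Fact.mk Nat.prime_two
  refine ⟨fun h => sylow_normal_of_no_odd_real h P, fun hn x hx hodd hreal => hx ?_⟩
  obtain ⟨t, ⟨j, hj⟩, ht⟩ := Cfsg.Agent.S3863.exists_two_element hreal
  obtain ⟨R, hR⟩ := (IsPGroup.of_card (n := j) (by rw [Nat.card_zpowers, hj]) :
    IsPGroup 2 (Subgroup.zpowers t)).exists_le_sylow
  have := P.unique_of_normal hn
  rw [Subsingleton.elim R P] at hR
  have htP : t ∈ (P : Subgroup G) := hR (Subgroup.mem_zpowers t)
  have h1 : x * t * x⁻¹ * t⁻¹ ∈ (P : Subgroup G) := mul_mem (hn.conj_mem t htP x) (inv_mem htP)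
  have h2 : x * t * x⁻¹ * t⁻¹ = x ^ 2 := by
    calc x * t * x⁻¹ * t⁻¹ = x * (t * x * t⁻¹)⁻¹ := by group
      _ = x ^ 2 := by rw [ht, inv_inv, pow_two]
  rw [h2] at h1
  obtain ⟨k, hk⟩ := P.isPGroup' ⟨_, h1⟩
  have h3 : orderOf x ∣ 2 * 2 ^ k := orderOf_dvd_of_pow_eq_one (by
    rw [pow_mul]; exact congrArg Subtype.val hk)
  rw [← pow_succ'] at h3
  exact orderOf_eq_one_iff.mp (Nat.eq_one_of_dvd_coprimes ((Nat.coprime_two_left.mpr hodd).pow_left (k + 1)) h3 dvd_rfl)

end Cfsg.Agent.S3861
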