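import Cfsg.Statements.S3862
import Mathlib
import Cfsg.Agent.Lib.PComplement
import Cfsg.Agent.Lib.Elementary
import Cfsg.Agent.Lib.CoprimeGen
-- import your own Cfsg.Agent.* helpers here

set_option autoImplicit false
open Cfsg

namespace Cfsg.Agent.S3862

open scoped commutatorElement

theorem centralizes_two_group {G : Type*} [Group G] [Finite G]
    (h : ∀ x : G, (∃ j : ℕ, orderOf x = 2 ^ j) → IsConj x x⁻¹ → x ∈ Subgroup.center G)
    (g : G) (hg : (orderOf g).Coprime 2) (Q : Subgroup G) (hQ : IsPGroup 2 Q)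
    (hgQ : g ∈ Subgroup.normalizer (Q : Set G)) : ∀ y ∈ Q, g * y * g⁻¹ = y := by
  induction hn : Nat.card Q using Nat.strong_induction_on generalizing Q with
  | h n ih =>
  subst hn
  have := Fact.mk Nat.prime_two
  have hsub : ∀ Q' : Subgroup G, Q' < Q → (∀ y ∈ Q', g * y * g⁻¹ ∈ Q') → ∀ y ∈ Q', g * y * g⁻¹ = y := by
    intro Q' hlt hinv
    have hle : Q'.map (MulAut.conj g).toMonoidHom ≤ Q' := by
      rintro _ ⟨y, hy, rfl⟩; exact hinv y hy
    have heq := Subgroup.eq_of_le_of_card_ge hle (le_of_eq (Subgroup.card_map_of_injective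
      (f := (MulAut.conj g).toMonoidHom) (MulAut.conj g).injective).symm)
    refine ih _ ?_ Q' (hQ.to_le hlt.le) ?_ rfl
    · rcases lt_or_eq_of_le (Nat.le_of_dvd Nat.card_pos (Subgroup.card_dvd_of_le hlt.le)) with h1 | h1
      · exact h1
      · exact absurd (Subgroup.eq_of_le_of_card_ge hlt.le h1.ge) hlt.ne
    · rw [Subgroup.mem_normalizer_iff]
      intro z
      conv_rhs => rw [← heq]
      exact (Subgroup.mem_map_iff_mem (f := (MulAut.conj g).toMonoidHom) (MulAut.conj g).injective).symm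
  have hconj : ∀ y ∈ Q, g * y * g⁻¹ ∈ Q := fun y hy => (Subgroup.mem_normalizer_iff.mp hgQ y).mp hy
  by_contra hcon
  push Not at hcon
  obtain ⟨x, hx, hxg⟩ := hcon
  -- `[Q, g]`
  set S := Subgroup.closure {s : G | ∃ y ∈ Q, s = y⁻¹ * (g * y * g⁻¹)} with hS
  have hgen : ∀ y ∈ Q, y⁻¹ * (g * y * g⁻¹) ∈ S := fun y hy => Subgroup.subset_closure ⟨y, hy, rfl⟩
  have hSQ : S = Q := by
    have hle : S ≤ Q := (Subgroup.closure_le _).mpr (by
      rintro _ ⟨y, hy, rfl⟩; exact mul_mem (inv_mem hy) (hconj y hy))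
    by_contra hne
    have hinv : S ≤ S.comap (MulAut.conj g).toMonoidHom := (Subgroup.closure_le _).mpr (by
      rintro _ ⟨y, hy, rfl⟩
      rw [SetLike.mem_coe, Subgroup.mem_comap]
      show g * (y⁻¹ * (g * y * g⁻¹)) * g⁻¹ ∈ S
      rw [show g * (y⁻¹ * (g * y * g⁻¹)) * g⁻¹ = (g * y * g⁻¹)⁻¹ * (g * (g * y * g⁻¹) * g⁻¹) by group]
      exact hgen _ (hconj y hy))
    have hfix := hsub S (lt_of_le_of_ne hle hne) (fun y hy => hinv hy)
    set s := x⁻¹ * (g * x * g⁻¹) with hs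
    have hgs : g * s = s * g := by
      have := hfix s (hgen x hx)
      calc g * s = (g * s * g⁻¹) * g := by group
        _ = s * g := by rw [this]
    have hxs : g * x * g⁻¹ = x * s := by rw [hs]; group
    have hiter : ∀ m : ℕ, g ^ m * x * (g ^ m)⁻¹ = x * s ^ m := by
      intro m
      induction m with
      | zero => simp
      | succ m ihm =>
        calc g ^ (m + 1) * x * (g ^ (m + 1))⁻¹ = g * (g ^ m * x * (g ^ m)⁻¹) * g⁻¹ := by rw [pow_succ']; group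
          _ = g * (x * s ^ m) * g⁻¹ := by rw [ihm]
          _ = (g * x * g⁻¹) * (g * s ^ m) * g⁻¹ := by group
          _ = (g * x * g⁻¹) * (s ^ m * g) * g⁻¹ := by rw [(Commute.pow_right hgs m).eq]
          _ = x * s ^ (m + 1) := by rw [hxs, pow_succ']; group
    have h1 := hiter (orderOf g)
    rw [pow_orderOf_eq_one, one_mul, inv_one, mul_one, left_eq_mul] at h1
    have h2 : s = 1 := by
      obtain ⟨k, hk⟩ := hQ ⟨s, hle (hgen x hx)⟩
      exact orderOf_eq_one_iff.mp (Nat.eq_one_of_dvd_coprimes (hg.pow_right k)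
        (orderOf_dvd_of_pow_eq_one h1) (orderOf_dvd_of_pow_eq_one (congrArg Subtype.val hk)))
    apply hxg
    calc g * x * g⁻¹ = x * s := by rw [hs]; group
      _ = x := by rw [h2, mul_one]
  have hx1 : x ≠ 1 := fun e => hxg (by rw [e]; group)
  have : Nontrivial Q := ⟨⟨⟨x, hx⟩, 1, fun e => hx1 (congrArg Subtype.val e)⟩⟩
  -- the Frattini subgroup is fixed and central
  set W := (frattini Q).map Q.subtype with hW
  have hWlt : W < Q := by
    refine lt_of_le_of_ne (Subgroup.map_subtype_le _) fun e => ?_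
    have h1 : frattini Q = ⊤ := Subgroup.map_injective Q.subtype_injective (by
      rw [← hW, e, ← MonoidHom.range_eq_map, Subgroup.range_subtype])
    rcases IsCoatomic.eq_top_or_exists_le_coatom (⊥ : Subgroup Q) with h0 | ⟨M, hM, -⟩
    · exact bot_ne_top h0
    · exact hM.1 (top_le_iff.mp (h1 ▸ frattini_le_coatom hM))
  have hWn := (CfsgLib.le_normalizer_map_characteristic (A := Subgroup.zpowers g)
    (Subgroup.zpowers_le.mpr hgQ) (frattini Q))
  have hWfix : ∀ w ∈ W, g * w * g⁻¹ = w := hsub W hWlt fun w hw =>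
    (Subgroup.mem_normalizer_iff.mp (hWn.1 (Subgroup.mem_zpowers g)) w).mp hw
  have hWc : ∀ w ∈ W, ∀ y ∈ Q, w * y = y * w := by
    intro w hw
    have hle : S ≤ Subgroup.centralizer ({w} : Set G) := (Subgroup.closure_le _).mpr (by
      rintro _ ⟨y, hy, rfl⟩
      rw [SetLike.mem_coe, Subgroup.mem_centralizer_singleton_iff]
      have h1 : y * w * y⁻¹ ∈ W := (Subgroup.mem_normalizer_iff.mp (hWn.2 hy) w).mp hw
      have h2 := hWfix _ h1
      have h3 := hWfix _ hw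
      have h5 : g⁻¹ * w * g = w := by
        conv_lhs => rw [← h3]
        group
      calc y⁻¹ * (g * y * g⁻¹) * w = y⁻¹ * (g * y) * (g⁻¹ * w * g) * g⁻¹ := by group
        _ = y⁻¹ * (g * (y * w * y⁻¹) * g⁻¹) * (g * y * g⁻¹) := by rw [h5]; group
        _ = y⁻¹ * (y * w * y⁻¹) * (g * y * g⁻¹) := by rw [h2]
        _ = w * (y⁻¹ * (g * y * g⁻¹)) := by group)
    intro y hy
    exact (Subgroup.mem_centralizer_singleton_iff.mp (hle (hSQ.symm ▸ hy))).symm
  have hcomW : ∀ a ∈ Q, ∀ b ∈ Q, a * b * a⁻¹ * b⁻¹ ∈ W := by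
    intro a ha b hb
    refine ⟨⁅(⟨a, ha⟩ : Q), ⟨b, hb⟩⁆, CfsgLib.commutator_le_frattini_pGroup hQ
      (Subgroup.commutator_mem_commutator (Subgroup.mem_top _) (Subgroup.mem_top _)), rfl⟩
  have hsqW : ∀ a ∈ Q, a * a ∈ W := by
    intro a ha
    refine ⟨⟨a, ha⟩ ^ 2, CfsgLib.pow_mem_frattini_pGroup hQ _, ?_⟩
    show a ^ 2 = a * a
    rw [pow_two]
  -- the bilinear commutator
  have hl : ∀ a ∈ Q, ∀ b ∈ Q, ∀ c ∈ Q, (a * b) * c * (a * b)⁻¹ * c⁻¹ =
      (a * c * a⁻¹ * c⁻¹) * (b * c * b⁻¹ * c⁻¹) := by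
    intro a ha b hb c hc
    have hw := hWc _ (hcomW b hb c hc) (a * c * a⁻¹ * c⁻¹) (mul_mem (mul_mem (mul_mem ha hc) (inv_mem ha)) (inv_mem hc))
    have hw' := hWc _ (hcomW b hb c hc) a ha
    calc (a * b) * c * (a * b)⁻¹ * c⁻¹ = (a * (b * c * b⁻¹ * c⁻¹)) * (c * a⁻¹ * c⁻¹) := by group
      _ = ((b * c * b⁻¹ * c⁻¹) * a) * (c * a⁻¹ * c⁻¹) := by rw [hw']
      _ = (b * c * b⁻¹ * c⁻¹) * (a * c * a⁻¹ * c⁻¹) := by group
      _ = _ := hw
  have hr : ∀ a ∈ Q, ∀ b ∈ Q, ∀ c ∈ Q, a * (b * c) * a⁻¹ * (b * c)⁻¹ =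
      (a * b * a⁻¹ * b⁻¹) * (a * c * a⁻¹ * c⁻¹) := by
    intro a ha b hb c hc
    have hw' := hWc _ (hcomW a ha c hc) b⁻¹ (inv_mem hb)
    calc a * (b * c) * a⁻¹ * (b * c)⁻¹ = (a * b * a⁻¹) * ((a * c * a⁻¹ * c⁻¹) * b⁻¹) := by group
      _ = (a * b * a⁻¹) * (b⁻¹ * (a * c * a⁻¹ * c⁻¹)) := by rw [hw']
      _ = _ := by group
  let φ : Q →* G := MonoidHom.mk' (fun z => x * (z : G) * x⁻¹ * (z : G)⁻¹) fun a b => hr x hx a a.2 b b.2
  set K := φ.range with hK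
  let R : Subgroup G :=
    { carrier := {y | y ∈ Q ∧ ∀ z ∈ Q, y * z * y⁻¹ * z⁻¹ ∈ K}
      one_mem' := ⟨one_mem _, fun z _ => by simpa using one_mem K⟩
      mul_mem' := fun {a b} ha hb => ⟨mul_mem ha.1 hb.1, fun z hz => by
        rw [hl a ha.1 b hb.1 z hz]; exact mul_mem (ha.2 z hz) (hb.2 z hz)⟩
      inv_mem' := fun {a} ha => ⟨inv_mem ha.1, fun z hz => by
        have h1 := hl a⁻¹ (inv_mem ha.1) a ha.1 z hz
        rw [inv_mul_cancel, one_mul, inv_one, mul_one, mul_inv_cancel] at h1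
        rw [eq_inv_of_mul_eq_one_left h1.symm]
        exact inv_mem (ha.2 z hz)⟩ }
  have hR : R = Q := by
    by_contra hne
    refine hxg (hsub R (lt_of_le_of_ne (fun y hy => hy.1) hne) (fun y hy => ⟨hconj y hy.1, fun z hz => ?_⟩) x ?_)
    · have hz' : g⁻¹ * z * g ∈ Q := (Subgroup.mem_normalizer_iff''.mp hgQ z).mp hz
      have h1 := hy.2 _ hz'
      have h2 := hWfix _ (hcomW y hy.1 _ hz')
      rw [← show g * (y * (g⁻¹ * z * g) * y⁻¹ * (g⁻¹ * z * g)⁻¹) * g⁻¹ =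
        g * y * g⁻¹ * z * (g * y * g⁻¹)⁻¹ * z⁻¹ by group, h2]
      exact h1
    · exact ⟨hx, fun z hz => ⟨⟨z, hz⟩, rfl⟩⟩
  have hKc : ∀ a ∈ Q, ∀ b ∈ Q, a * b * a⁻¹ * b⁻¹ ∈ K := fun a ha b hb => (hR.symm ▸ ha : a ∈ R).2 b hb
  have hsq : ∀ y ∈ Q, y * y ∈ K := by
    let T : Subgroup G :=
      { carrier := {y | y ∈ Q ∧ y * y ∈ K}
        one_mem' := ⟨one_mem _, by simpa using one_mem K⟩
        mul_mem' := fun {a b} ha hb => ⟨mul_mem ha.1 hb.1, by
          rw [show a * b * (a * b) = a * (b * a * b⁻¹ * a⁻¹) * a * (b * b) by group,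
            ← hWc _ (hcomW b hb.1 a ha.1) a ha.1, mul_assoc (b * a * b⁻¹ * a⁻¹) a a]
          exact mul_mem (mul_mem (hKc b hb.1 a ha.1) ha.2) hb.2⟩
        inv_mem' := fun {a} ha => ⟨inv_mem ha.1, by rw [← mul_inv_rev]; exact inv_mem ha.2⟩ }
    have hle : S ≤ T := (Subgroup.closure_le _).mpr (by
      rintro _ ⟨y, hy, rfl⟩
      set s := y⁻¹ * (g * y * g⁻¹) with hs
      have hsQ : s ∈ Q := mul_mem (inv_mem hy) (hconj y hy)
      refine ⟨hsQ, ?_⟩
      have h1 : y * y = (y * s) * (y * s) := by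
        rw [hs, show y * (y⁻¹ * (g * y * g⁻¹)) * (y * (y⁻¹ * (g * y * g⁻¹))) = g * (y * y) * g⁻¹ by group,
          hWfix _ (hsqW y hy)]
      rw [show y * s * (y * s) = y * (s * y * s⁻¹ * y⁻¹) * y * (s * s) by group,
        ← hWc _ (hcomW s hsQ y hy) y hy, mul_assoc (s * y * s⁻¹ * y⁻¹) y y] at h1
      have h2 : s * s = (y * y)⁻¹ * (s * y * s⁻¹ * y⁻¹)⁻¹ * (y * y) := by
        calc s * s = (y * y)⁻¹ * (s * y * s⁻¹ * y⁻¹)⁻¹ * ((s * y * s⁻¹ * y⁻¹) * (y * y) * (s * s)) := by group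
          _ = (y * y)⁻¹ * (s * y * s⁻¹ * y⁻¹)⁻¹ * (y * y) := by rw [← h1]
      rw [h2, mul_assoc, hWc _ (inv_mem (hcomW s hsQ y hy)) _ (mul_mem hy hy), inv_mul_cancel_left]
      exact inv_mem (hKc s hsQ y hy))
    exact fun y hy => (hle (hSQ.symm ▸ hy)).2
  obtain ⟨z, hz⟩ := hsq x hx
  have hz' : x * (z : G) * x⁻¹ * (z : G)⁻¹ = x * x := hz
  refine hxg ?_
  have hcen := h x ?_ (isConj_iff.mpr ⟨(z : G), ?_⟩)
  · rw [Subgroup.mem_center_iff.mp hcen g, mul_inv_cancel_right]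
  · obtain ⟨k, hk⟩ := hQ ⟨x, hx⟩
    obtain ⟨j, -, hj⟩ := (Nat.dvd_prime_pow Nat.prime_two).mp (orderOf_dvd_of_pow_eq_one (congrArg Subtype.val hk : x ^ 2 ^ k = 1))
    exact ⟨j, hj⟩
  · calc (z : G) * x * (z : G)⁻¹ = (x⁻¹ * (x * (z : G) * x⁻¹ * (z : G)⁻¹))⁻¹ := by group
      _ = x⁻¹ := by rw [hz']; group

/-- If every 2-element of the finite group G that is conjugate to its inverse lies in the centre of G, then G has a normal 2-complement. -/
theorem result {G : Type*} [Group G] [Finite G] (h : ∀ x : G, (∃ j : ℕ, orderOf x = 2 ^ j) → IsConj x x⁻¹ → x ∈ Subgroup.center G) : Cfsg.HasNormalPComplement 2 G := by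
  have := Fact.mk Nat.prime_two
  refine CfsgLib.hasNormalPComplement_of_frobeniusCond fun Q hQ g hg hgp y hy => ?_
  have h1 := centralizes_two_group h g hgp Q hQ hg y hy
  calc y * g = (g * y * g⁻¹) * g := by rw [h1]
    _ = g * y := by group

end Cfsg.Agent.S3862
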