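import Cfsg.Statements.S3866
import Mathlib
-- import your own Cfsg.Agent.* helpers here

set_option autoImplicit false
open Cfsg

namespace Cfsg.Agent.S3866

open scoped commutatorElement

/-- Let A be a commutative normal subgroup of the finite group G with G generated by A and an element x. Then a ↦ x a x⁻¹ a⁻¹ is a surjective homomorphism from A onto the commutator subgroup of G whose kernel is the centralizer of x in A; in particular the commutator subgroup has order equal to the index in A of that centralizer. -/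
theorem result {G : Type*} [Group G] [Finite G] (A : Subgroup G) [A.Normal] (hA : IsMulCommutative A) (x : G) (hgen : A ⊔ Subgroup.zpowers x = ⊤) : (∀ a ∈ A, x * a * x⁻¹ * a⁻¹ ∈ commutator G) ∧ (∀ c ∈ commutator G, ∃ a ∈ A, x * a * x⁻¹ * a⁻¹ = c) ∧ (∀ a ∈ A, ∀ b ∈ A, x * (a * b) * x⁻¹ * (a * b)⁻¹ = (x * a * x⁻¹ * a⁻¹) * (x * b * x⁻¹ * b⁻¹)) ∧ Nat.card (commutator G) * Nat.card ↥(A ⊓ Subgroup.centralizer ({x} : Set G)) = Nat.card A := by
  have hcm : ∀ a ∈ A, ∀ b ∈ A, a * b = b * a := fun a ha b hb =>
    congrArg Subtype.val (hA.is_comm.comm ⟨a, ha⟩ ⟨b, hb⟩)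
  have hconjA : ∀ a ∈ A, x * a * x⁻¹ ∈ A := fun a ha => (inferInstance : A.Normal).conj_mem a ha x
  have hmemA : ∀ a ∈ A, x * a * x⁻¹ * a⁻¹ ∈ A := fun a ha => mul_mem (hconjA a ha) (inv_mem ha)
  have hhom : ∀ a ∈ A, ∀ b ∈ A, x * (a * b) * x⁻¹ * (a * b)⁻¹ =
      (x * a * x⁻¹ * a⁻¹) * (x * b * x⁻¹ * b⁻¹) := fun a ha b hb => by
    calc x * (a * b) * x⁻¹ * (a * b)⁻¹ = (x * a * x⁻¹) * ((x * b * x⁻¹ * b⁻¹) * a⁻¹) := by group
      _ = (x * a * x⁻¹) * (a⁻¹ * (x * b * x⁻¹ * b⁻¹)) := by rw [hcm _ (hmemA b hb) _ (inv_mem ha)]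
      _ = _ := by group
  let φ : A →* G := MonoidHom.mk' (fun a => x * (a : G) * x⁻¹ * (a : G)⁻¹)
    (fun a b => hhom a a.2 b b.2)
  have hφ : ∀ a : A, φ a = x * (a : G) * x⁻¹ * (a : G)⁻¹ := fun _ => rfl
  have hmemC : ∀ a ∈ A, x * a * x⁻¹ * a⁻¹ ∈ commutator G := fun a _ =>
    Subgroup.commutator_mem_commutator (Subgroup.mem_top x) (Subgroup.mem_top a)
  have hrange : commutator G ≤ φ.range := by
    have hIA : φ.range ≤ A := by
      rintro _ ⟨a, rfl⟩; exact hmemA a a.2
    have hn : φ.range.Normal := by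
      rw [← Subgroup.normalizer_eq_top_iff, eq_top_iff, ← hgen]
      refine sup_le (fun a ha => ?_) ((Subgroup.zpowers_le).mpr ?_)
      · rw [Subgroup.mem_normalizer_iff]
        intro c
        constructor
        · intro hc
          rwa [hcm a ha c (hIA hc), mul_inv_cancel_right]
        · intro hc
          have h1 := hcm _ (hIA hc) a ha
          have h2 : c = a * c * a⁻¹ := by
            calc c = a⁻¹ * (a * c * a⁻¹ * a) := by group
              _ = a⁻¹ * (a * (a * c * a⁻¹)) := by rw [h1]
              _ = a * c * a⁻¹ := by group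
          rwa [h2]
      · have hle : φ.range.map (MulAut.conj x).toMonoidHom ≤ φ.range := by
          rintro _ ⟨_, ⟨a, rfl⟩, rfl⟩
          refine ⟨⟨x * (a : G) * x⁻¹, hconjA a a.2⟩, ?_⟩
          simp only [hφ, MulEquiv.coe_toMonoidHom, MulAut.conj_apply]
          group
        have heq := Subgroup.eq_of_le_of_card_ge hle
          (le_of_eq (Subgroup.card_map_of_injective (MulAut.conj x).injective).symm)
        rw [Subgroup.mem_normalizer_iff]
        intro c
        show c ∈ φ.range ↔ x * c * x⁻¹ ∈ φ.range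
        conv_rhs => rw [← heq]
        exact (Subgroup.mem_map_iff_mem (f := (MulAut.conj x).toMonoidHom) (MulAut.conj x).injective).symm
    have hab : ∀ u v : G ⧸ φ.range, u * v = v * u := by
      have hS : ∀ u ∈ (QuotientGroup.mk' φ.range '' (insert x (A : Set G))),
          ∀ v ∈ (QuotientGroup.mk' φ.range '' (insert x (A : Set G))), u * v = v * u := by
        have hxa : ∀ a ∈ A, QuotientGroup.mk' φ.range (x * a) = QuotientGroup.mk' φ.range (a * x) := by
          intro a ha
          rw [QuotientGroup.mk'_eq_mk']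
          have hm : a * x * (x * a)⁻¹ ∈ φ.range := by
            refine ⟨⟨a, ha⟩⁻¹, ?_⟩
            rw [map_inv, hφ]
            group
          exact ⟨(x * a)⁻¹ * (a * x), by
            have := (inferInstance : φ.range.Normal).conj_mem _ hm (x * a)⁻¹
            convert this using 1
            group, by group⟩
        rintro _ ⟨u, hu, rfl⟩ _ ⟨v, hv, rfl⟩
        rw [← map_mul, ← map_mul]
        rcases hu with rfl | hu <;> rcases hv with rfl | hv
        · rfl
        · exact hxa v hv
        · exact (hxa u hu).symm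
        · rw [hcm u hu v hv]
      have hcl : Subgroup.closure (QuotientGroup.mk' φ.range '' (insert x (A : Set G))) = ⊤ := by
        rw [← MonoidHom.map_closure, ← Subgroup.map_top_of_surjective _ (QuotientGroup.mk'_surjective φ.range)]
        congr 1
        rw [eq_top_iff, ← hgen]
        exact sup_le (fun a ha => Subgroup.subset_closure (Set.mem_insert_of_mem _ ha))
          (Subgroup.zpowers_le.mpr (Subgroup.subset_closure (Set.mem_insert _ _)))
      intro u v
      have h1 : Subgroup.closure (QuotientGroup.mk' φ.range '' (insert x (A : Set G))) ≤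
          Subgroup.centralizer (QuotientGroup.mk' φ.range '' (insert x (A : Set G))) :=
        (Subgroup.closure_le _).mpr fun a ha => Subgroup.mem_centralizer_iff.mpr fun b hb => hS b hb a ha
      rw [hcl] at h1
      have h2 : Subgroup.closure (QuotientGroup.mk' φ.range '' (insert x (A : Set G))) ≤
          Subgroup.centralizer ((⊤ : Subgroup (G ⧸ φ.range)) : Set (G ⧸ φ.range)) :=
        (Subgroup.closure_le _).mpr fun a ha => Subgroup.mem_centralizer_iff.mpr fun b hb =>
          ((Subgroup.mem_centralizer_iff.mp (h1 hb)) a ha).symm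
      rw [hcl] at h2
      exact (Subgroup.mem_centralizer_iff.mp (h2 (Subgroup.mem_top v)) u (Subgroup.mem_top u))
    rw [commutator_def, Subgroup.commutator_le]
    intro u _ v _
    rw [← QuotientGroup.eq_one_iff]
    show QuotientGroup.mk' φ.range ⁅u, v⁆ = 1
    rw [map_commutatorElement, commutatorElement_eq_one_iff_mul_comm]
    exact hab _ _
  refine ⟨hmemC, fun c hc => ?_, hhom, ?_⟩
  · obtain ⟨a, rfl⟩ := hrange hc
    exact ⟨a, a.2, rfl⟩
  · have hC : φ.range = commutator G := le_antisymm (by rintro _ ⟨a, rfl⟩; exact hmemC a a.2) hrange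
    have hker : Nat.card φ.ker = Nat.card ↥(A ⊓ Subgroup.centralizer ({x} : Set G)) := by
      refine (Nat.card_congr (Equiv.subtypeEquivRight fun a => ?_)).trans (Nat.card_congr
        ((Equiv.subtypeSubtypeEquivSubtypeInter (fun g : G => g ∈ A)
          (fun g => g ∈ Subgroup.centralizer ({x} : Set G))).trans
          (Equiv.subtypeEquivRight fun g => Subgroup.mem_inf.symm)))
      rw [MonoidHom.mem_ker, hφ, Subgroup.mem_centralizer_singleton_iff, mul_inv_eq_one,
        mul_inv_eq_iff_eq_mul, eq_comm]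
    rw [← hC, ← hker, mul_comm, ← Subgroup.index_ker, Subgroup.card_mul_index]

end Cfsg.Agent.S3866
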