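import Cfsg.Statements.S3867
import Cfsg.Agent.Lib.SylowCount
-- import your own Cfsg.Agent.* helpers here

set_option autoImplicit false
open Cfsg

namespace Cfsg.Agent.S3867

open Subgroup CfsgLib

/-- Let M and N be nontrivial normal subgroups of the finite group G with M ⊓ N trivial, and let p be a prime. Writing n(X) for the number of Sylow p-subgroups of a group X, one has n(G) · n(G/MN) = n(G/M) · n(G/N). -/
theorem result {G : Type*} [Group G] [Finite G] (p : ℕ) [Fact p.Prime] (M N : Subgroup G) [M.Normal] [N.Normal] (hM : M ≠ ⊥) (hN : N ≠ ⊥) (hMN : M ⊓ N = ⊥) : Nat.card (Sylow p G) * Nat.card (Sylow p (G ⧸ (M ⊔ N))) = Nat.card (Sylow p (G ⧸ M)) * Nat.card (Sylow p (G ⧸ N)) := by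
  obtain ⟨P⟩ : Nonempty (Sylow p G) := inferInstance
  have := hM
  have := hN
  set L := Subgroup.normalizer ((P : Subgroup G) : Set G) with hL
  have hcomm : ∀ a ∈ M, ∀ b ∈ N, Commute a b := fun a ha b hb =>
    Subgroup.commute_of_normal_of_disjoint M N inferInstance inferInstance
      (disjoint_iff.mpr hMN) a b ha hb
  -- the projection of `P ∩ MN` to `M`
  have hproj : ∀ u ∈ M, ∀ v ∈ N, u * v ∈ (P : Subgroup G) → u ∈ (P : Subgroup G) := by
    let S : Subgroup M :=
      { carrier := {u | ∃ v ∈ N, (u : G) * v ∈ (P : Subgroup G)}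
        one_mem' := ⟨1, one_mem _, by simp⟩
        mul_mem' := by
          rintro a b ⟨v, hv, ha⟩ ⟨w, hw, hb⟩
          refine ⟨v * w, mul_mem hv hw, ?_⟩
          have := mul_mem ha hb
          rwa [mul_assoc, ← mul_assoc v, ← (hcomm b b.2 v hv).eq, mul_assoc, ← mul_assoc (a : G),
            ← Subgroup.coe_mul] at this
        inv_mem' := by
          rintro a ⟨v, hv, ha⟩
          refine ⟨v⁻¹, inv_mem hv, ?_⟩
          have := inv_mem ha
          rwa [mul_inv_rev, ← ((hcomm a a.2 v hv).inv_inv).eq, ← Subgroup.coe_inv] at this }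
    have hSp : IsPGroup p S := by
      rintro ⟨u, v, hv, huv⟩
      obtain ⟨k, hk⟩ := P.2 ⟨_, huv⟩
      have hk' : ((u : G) * v) ^ p ^ k = 1 := congrArg Subtype.val hk
      rw [(hcomm u u.2 v hv).mul_pow] at hk'
      have h1 : (u : G) ^ p ^ k ∈ M ⊓ N := Subgroup.mem_inf.mpr ⟨pow_mem u.2 _, by
        rw [eq_inv_of_mul_eq_one_left hk']; exact inv_mem (pow_mem hv _)⟩
      rw [hMN, Subgroup.mem_bot] at h1
      exact ⟨k, Subtype.ext (Subtype.ext h1)⟩
    have hS : S = (sylowInfNormal P M : Subgroup M) := by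
      refine (sylowInfNormal P M).3 hSp fun u hu => ⟨1, one_mem _, ?_⟩
      rw [mul_one]
      exact hu
    intro u hu v hv huv
    have : (⟨u, hu⟩ : M) ∈ S := ⟨v, hv, huv⟩
    rw [hS] at this
    exact this
  have hsplit : ∀ m ∈ M, ∀ n ∈ N, m * n ∈ L → m ∈ L := by
    intro m hm n hn hmn
    rw [hL, Subgroup.mem_normalizer_iff]
    have key : ∀ x ∈ (P : Subgroup G), m * x * m⁻¹ ∈ (P : Subgroup G) := by
      intro x hx
      have h1 := (Subgroup.mem_normalizer_iff.mp hmn x).mp hx
      have hu : x⁻¹ * m * x * m⁻¹ ∈ M := by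
        have := Subgroup.Normal.conj_mem (inferInstance : M.Normal) m hm x⁻¹
        simpa using mul_mem this (inv_mem hm)
      have hv : x⁻¹ * n * x * n⁻¹ ∈ N := by
        have := Subgroup.Normal.conj_mem (inferInstance : N.Normal) n hn x⁻¹
        simpa using mul_mem this (inv_mem hn)
      have he : x⁻¹ * ((m * n) * x * (m * n)⁻¹) =
          (x⁻¹ * m * x * m⁻¹) * (x⁻¹ * n * x * n⁻¹) := by
        have c1 : Commute m (x⁻¹ * n * x * n⁻¹) := hcomm m hm _ hv
        calc x⁻¹ * ((m * n) * x * (m * n)⁻¹)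
            = (x⁻¹ * m * x) * ((x⁻¹ * n * x * n⁻¹) * m⁻¹) := by group
          _ = (x⁻¹ * m * x) * (m⁻¹ * (x⁻¹ * n * x * n⁻¹)) := by rw [(c1.inv_left).symm.eq]
          _ = _ := by group
      have h4 := mul_mem ((P : Subgroup G).inv_mem hx) h1
      rw [he] at h4
      have h2 := hproj _ hu _ hv h4
      have h3 := mul_mem hx h2
      rwa [show x * (x⁻¹ * m * x * m⁻¹) = m * x * m⁻¹ by group] at h3
    intro x
    refine ⟨key x, fun h => ?_⟩
    have hPfin : ((P : Subgroup G).map (MulAut.conj m).toMonoidHom) = (P : Subgroup G) :=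
      Subgroup.eq_of_le_of_card_ge (by rintro _ ⟨y, hy, rfl⟩; exact key y hy)
        (by rw [Subgroup.card_map_of_injective (MulAut.conj m).injective])
    rw [← hPfin] at h
    obtain ⟨y, hy, hyx⟩ := Subgroup.mem_map.mp h
    have : y = x := by simpa using hyx
    exact this ▸ hy
  set L' := L ⊓ (M ⊔ N) with hL'
  have hrel : L.relIndex (M ⊔ N) = L.relIndex N * L.relIndex M := by
    have hle1 : L' ⊔ N ≤ M ⊔ N := sup_le inf_le_right le_sup_right
    have htop : L' ⊔ N ⊔ M = M ⊔ N :=
      le_antisymm (sup_le hle1 le_sup_left) (sup_le le_sup_right (le_sup_right.trans le_sup_left))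
    have h1 : L'.relIndex (L' ⊔ N) = L.relIndex N := by
      rw [relIndex_sup_normal_eq, ← Subgroup.inf_relIndex_right L' N, ← Subgroup.inf_relIndex_right L N,
        hL', inf_assoc, inf_of_le_right (le_sup_right : N ≤ M ⊔ N)]
    have h2 : (L' ⊔ N).relIndex (M ⊔ N) = L.relIndex M := by
      conv_lhs => rw [← htop]
      rw [relIndex_sup_normal_eq, ← Subgroup.inf_relIndex_right (L' ⊔ N) M,
        ← Subgroup.inf_relIndex_right L M]
      congr 1
      refine le_antisymm (fun x hx => ?_)
        (le_inf ((le_inf inf_le_left (inf_le_right.trans le_sup_left)).trans le_sup_left) inf_le_right)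
      obtain ⟨hx1, hx2⟩ := hx
      obtain ⟨a, ha, b, hb, rfl⟩ := Subgroup.mem_sup_of_normal_right.mp hx1
      obtain ⟨haL, haMN⟩ := ha
      obtain ⟨m, hm, n, hn, rfl⟩ := Subgroup.mem_sup_of_normal_right.mp haMN
      have h3 : n * b ∈ M ⊓ N := by
        refine Subgroup.mem_inf.mpr ⟨?_, mul_mem hn hb⟩
        have := mul_mem (inv_mem hm) hx2
        rwa [show m⁻¹ * (m * n * b) = n * b by group] at this
      rw [hMN, Subgroup.mem_bot] at h3
      refine Subgroup.mem_inf.mpr ⟨?_, hx2⟩
      rw [mul_assoc, h3, mul_one]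
      exact hsplit m hm n hn haL
    rw [← h1, ← h2, Subgroup.relIndex_mul_relIndex _ _ _ le_sup_left hle1]
    exact (Subgroup.inf_relIndex_right L (M ⊔ N)).symm
  rw [← index_normalizer_sup P (M ⊔ N), ← index_normalizer_sup P M, ← index_normalizer_sup P N,
    ← hL, show Nat.card (Sylow p G) = L.index from P.card_eq_index_normalizer]
  have e : ∀ K : Subgroup G, K.Normal → L.index = L.relIndex K * (L ⊔ K).index := fun K hK => by
    rw [← relIndex_sup_normal_eq, Subgroup.relIndex_mul_index le_sup_left]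
  have e1 := e M inferInstance
  have e2 := e N inferInstance
  have e3 := e (M ⊔ N) inferInstance
  rw [hrel] at e3
  refine Nat.eq_of_mul_eq_mul_left
    (show 0 < L.relIndex N * L.relIndex M from Nat.pos_of_ne_zero
      (mul_ne_zero Subgroup.index_ne_zero_of_finite Subgroup.index_ne_zero_of_finite)) ?_
  calc L.relIndex N * L.relIndex M * (L.index * (L ⊔ (M ⊔ N)).index)
      = L.index * (L.relIndex N * L.relIndex M * (L ⊔ (M ⊔ N)).index) := by ring
    _ = L.index * L.index := by rw [← e3]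
    _ = (L.relIndex M * (L ⊔ M).index) * (L.relIndex N * (L ⊔ N).index) := by rw [← e1, ← e2]
    _ = L.relIndex N * L.relIndex M * ((L ⊔ M).index * (L ⊔ N).index) := by ring

end Cfsg.Agent.S3867
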