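import Cfsg.Statements.S3869
import Mathlib
import Cfsg.Agent.Lib.CyclicModule
-- import your own Cfsg.Agent.* helpers here

set_option autoImplicit false
open Cfsg

namespace Cfsg.Agent.S3869

/-- Let p and q be distinct primes and G a finite non-abelian group with a normal elementary abelian q-subgroup A that is a minimal normal subgroup of G and has index p. Then A has order q^e with e the multiplicative order of q modulo p, and G is minimal non-p-closed: its Sylow p-subgroups are not normal, while in every proper subgroup and in every proper quotient of G the Sylow p-subgroups are normal. -/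
theorem result {G : Type*} [Group G] [Finite G] {p q : ℕ} [Fact p.Prime] (hq : q.Prime) (hpq : q ≠ p)
    (hna : ¬ IsMulCommutative G) (A : Subgroup G) [A.Normal] (hA : Cfsg.IsElementaryAbelian q A) (hidx : A.index = p)
    (hmin : ∀ B : Subgroup G, B.Normal → B ≤ A → B = ⊥ ∨ B = A) :
    Nat.card ↥A = q ^ orderOf (q : ZMod p) ∧ ¬ Cfsg.IsPClosed p G ∧ (∀ H : Subgroup G, H ≠ ⊤ → Cfsg.IsPClosed p ↥H) ∧
      ∀ (N : Subgroup G) [N.Normal], N ≠ ⊥ → Cfsg.IsPClosed p (G ⧸ N) := by
  classical
  have := Fact.mk hq
  have hp : p.Prime := Fact.out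
  have hA0 : A ≠ ⊥ := fun h => hna (by
    rw [h, Subgroup.index_bot] at hidx
    have := isCyclic_of_prime_card hidx
    exact this.isMulCommutative)
  have hAc : ∀ a ∈ A, ∀ b ∈ A, a * b = b * a := fun a ha b hb => congrArg Subtype.val (hA.1.is_comm.comm ⟨a, ha⟩ ⟨b, hb⟩)
  have hAtop : A ≠ ⊤ := fun h => hp.ne_one (by rw [← hidx, h, Subgroup.index_top])
  -- an element outside `A` generates the group with `A`
  have hgen : ∀ (H : Subgroup G), A ≤ H → ∀ y ∈ H, y ∉ A → H = ⊤ := by
    intro H hAH y hy hyA
    have hd : H.index ∣ p := hidx ▸ Subgroup.index_dvd_of_le hAH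
    rcases hp.eq_one_or_self_of_dvd _ hd with h | h
    · exact Subgroup.index_eq_one.mp h
    · refine absurd ?_ hyA
      have : A = H := Subgroup.eq_of_le_of_card_ge hAH (le_of_eq ?_)
      · exact this ▸ hy
      · have e1 := A.card_mul_index
        have e2 := H.card_mul_index
        rw [hidx] at e1
        rw [h] at e2
        exact Nat.eq_of_mul_eq_mul_right hp.pos (e2.trans e1.symm)
  have hnormal : ∀ (B : Subgroup G) (y : G), B ≤ A → y ∉ A → (∀ b ∈ B, y * b * y⁻¹ ∈ B) → B.Normal := by
    intro B y hBA hy hyB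
    rw [← Subgroup.normalizer_eq_top_iff]
    refine hgen _ (fun a ha => ?_) y ?_ hy
    · rw [Subgroup.mem_normalizer_iff]
      intro b
      constructor
      · intro hb; rw [hAc a ha b (hBA hb), mul_inv_cancel_right]; exact hb
      · intro hb
        have h1 : b = a⁻¹ * (a * b * a⁻¹) * a := by group
        rw [h1, hAc a⁻¹ (A.inv_mem ha) _ (hBA hb), inv_mul_cancel_right]
        exact hb
    · have hle : B.map (MulAut.conj y).toMonoidHom ≤ B := by rintro _ ⟨b, hb, rfl⟩; exact hyB b hb
      have heq := Subgroup.eq_of_le_of_card_ge hle (le_of_eq (Subgroup.card_map_of_injective (MulAut.conj y).injective).symm)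
      rw [Subgroup.mem_normalizer_iff]
      intro b
      refine ⟨hyB b, fun hb => ?_⟩
      have hb' : y * b * y⁻¹ ∈ B.map (MulAut.conj y).toMonoidHom := by rwa [heq]
      obtain ⟨c, hc, hcb⟩ := hb'
      exact (MulAut.conj y).injective hcb ▸ hc
  -- fixed points of an outside element
  have hfix : ∀ y ∉ A, ∀ a ∈ A, y * a = a * y → a = 1 := by
    intro y hy a ha hya
    let B : Subgroup G := A ⊓ Subgroup.centralizer {y}
    have hBn : B.Normal := hnormal B y inf_le_left hy fun b hb => by
      rw [← Subgroup.mem_centralizer_singleton_iff.mp hb.2, mul_inv_cancel_right]; exact hb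
    rcases hmin B hBn inf_le_left with h | h
    · have : a ∈ B := ⟨ha, Subgroup.mem_centralizer_singleton_iff.mpr hya.symm⟩
      rw [h] at this
      exact Subgroup.mem_bot.mp this
    · exfalso
      refine hna ⟨⟨fun g g' => ?_⟩⟩
      have hy' : ∀ a ∈ A, a * y = y * a := fun a ha => Subgroup.mem_centralizer_singleton_iff.mp (h ▸ ha : a ∈ B).2
      have hC : Subgroup.centralizer (insert y (A : Set G)) = ⊤ := by
        refine hgen _ (fun a ha => Subgroup.mem_centralizer_iff.mpr fun b hb => ?_) y
          (Subgroup.mem_centralizer_iff.mpr fun b hb => ?_) hy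
        · rcases hb with rfl | hb
          exacts [(hy' a ha).symm, hAc b hb a ha]
        · rcases hb with rfl | hb
          exacts [rfl, hy' b hb]
      have hcen : Subgroup.center G = ⊤ := hgen _ (fun a ha => Subgroup.mem_center_iff.mpr fun c =>
          (Subgroup.mem_centralizer_iff.mp (hC ▸ Subgroup.mem_top c) a (Set.mem_insert_of_mem _ ha)).symm) y
        (Subgroup.mem_center_iff.mpr fun c => (Subgroup.mem_centralizer_iff.mp (hC ▸ Subgroup.mem_top c) y (Set.mem_insert _ _)).symm) hy
      exact Subgroup.mem_center_iff.mp (hcen ▸ Subgroup.mem_top g') g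
  have hdvdp : p ∣ Nat.card G := ⟨Nat.card A, by rw [← A.card_mul_index, hidx, mul_comm]⟩
  obtain ⟨e, he⟩ := IsPGroup.iff_card.mp (show IsPGroup q A from fun a => ⟨1, Subtype.ext (by
    rw [pow_one, SubgroupClass.coe_pow]; exact hA.2 a a.2)⟩)
  have hpA : ¬ p ∣ Nat.card A := fun h => hpq.symm ((Nat.prime_dvd_prime_iff_eq hp hq).mp (hp.dvd_of_dvd_pow (he ▸ h)))
  obtain ⟨x, hx⟩ := exists_prime_orderOf_dvd_card' p hdvdp
  have hxA : x ∉ A := fun h => hpA (hx ▸ Subgroup.orderOf_dvd_natCard A h)
  have hord : ∀ y ∉ A, ∀ H : Subgroup G, y ∈ H → A ⊓ H = ⊥ → Nat.card H = p := by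
    intro y hy H hyH hbot
    have h1 := Subgroup.relIndex_mul_relIndex ⊥ (A ⊓ H) H bot_le inf_le_right
    rw [hbot, Subgroup.relIndex_self, one_mul, Subgroup.relIndex_bot_left] at h1
    have hd : Nat.card H ∣ p := by
      rw [← Subgroup.relIndex_bot_left, ← hbot, Subgroup.inf_relIndex_right, ← hidx]
      exact Subgroup.relIndex_dvd_index_of_normal A H
    refine (hp.eq_one_or_self_of_dvd _ hd).resolve_left fun h => hy ?_
    have := (Nat.card_eq_one_iff_unique.mp h).1
    rw [show y = 1 from congrArg Subtype.val (Subsingleton.elim (⟨y, hyH⟩ : H) 1)]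
    exact A.one_mem
  refine ⟨?_, ?_, fun H hH => ?_, fun N _ hN => ?_⟩
  · -- the order of `A`
    let c : A →* A :=
      { toFun := fun a => ⟨x * a * x⁻¹, (inferInstance : A.Normal).conj_mem _ a.2 x⟩
        map_one' := Subtype.ext (by simp)
        map_mul' := fun a b => Subtype.ext (by simp [mul_assoc]) }
    let _ : CommGroup A := { (inferInstance : Group A) with mul_comm := hA.1.is_comm.comm }
    let s : AddMonoid.End (Additive A) := MonoidHom.toAdditive c
    have hpow : ∀ (k : ℕ) (a : A), ((Additive.toMul ((s ^ k) (Additive.ofMul a)) : A) : G) = x ^ k * a * (x ^ k)⁻¹ := by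
      intro k
      induction k with
      | zero => intro a; simp
      | succ k ih =>
        intro a
        rw [pow_succ]
        show ((Additive.toMul ((s ^ k) (s (Additive.ofMul a))) : A) : G) = _
        rw [show s (Additive.ofMul a) = Additive.ofMul (c a) from rfl, ih]
        show x ^ k * (x * (a : G) * x⁻¹) * (x ^ k)⁻¹ = _
        rw [pow_succ]; group
    have hs : s ^ p = 1 := by
      refine AddMonoidHom.ext fun a => ?_
      refine Additive.toMul.injective (Subtype.ext ?_)
      refine (hpow p (Additive.toMul a)).trans ?_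
      rw [← hx, pow_orderOf_eq_one, one_mul, inv_one, mul_one]
      rfl
    have : Nontrivial A := (Subgroup.nontrivial_iff_ne_bot A).mpr hA0
    have hqp : (q : ZMod p) ≠ 0 := fun h => hpq.symm ((Nat.prime_dvd_prime_iff_eq hp hq).mp ((ZMod.natCast_eq_zero_iff q p).mp h))
    have hle : Nat.card (Additive A) ≤ q ^ orderOf (q : ZMod p) := by
      refine CfsgLib.CyclicModule.card_le_of_irreducible ?_ (fun a => ?_) s hs fun B hB => ?_
      · refine orderOf_pos_iff.mpr ?_
        exact isOfFinOrder_iff_pow_eq_one.mpr ⟨p - 1, Nat.sub_pos_of_lt hp.one_lt, ZMod.pow_card_sub_one_eq_one hqp⟩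
      · refine Additive.toMul.injective ?_
        rw [toMul_nsmul]
        exact Subtype.ext (by rw [SubgroupClass.coe_pow]; exact hA.2 _ (Additive.toMul a).2)
      · let B' : Subgroup A := AddSubgroup.toSubgroup' B
        have hBn : (B'.map A.subtype).Normal := hnormal _ x (Subgroup.map_subtype_le _) hxA (by
          rintro _ ⟨b, hb, rfl⟩
          exact ⟨c b, hB _ hb, rfl⟩)
        rcases hmin _ hBn (Subgroup.map_subtype_le _) with h | h
        · left
          rw [Subgroup.map_eq_bot_iff_of_injective _ A.subtype_injective] at h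
          rw [eq_bot_iff]
          intro a ha
          have : Additive.toMul a ∈ B' := ha
          rw [h, Subgroup.mem_bot] at this
          exact this
        · right
          rw [eq_top_iff]
          intro a _
          have : ((Additive.toMul a : A) : G) ∈ B'.map A.subtype := h.ge (Additive.toMul a : A).2
          obtain ⟨b, hb, hba⟩ := this
          rw [show b = Additive.toMul a from Subtype.ext hba] at hb
          exact hb
    rw [Nat.card_congr Additive.toMul] at hle
    refine le_antisymm hle ?_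
    rw [he]
    refine Nat.pow_le_pow_right hq.pos (Nat.le_of_dvd (Nat.pos_of_ne_zero fun h => ?_) ?_)
    · rw [h, pow_zero] at he
      exact hA0 (A.card_eq_one.mp he)
    · refine orderOf_dvd_of_pow_eq_one ?_
      -- count the fixed points of `x`
      have hX : IsPGroup p (Subgroup.zpowers x) := IsPGroup.of_card (n := 1) (by rw [Nat.card_zpowers, hx, pow_one])
      let _ : MulAction (Subgroup.zpowers x) A :=
        { smul := fun g a => ⟨(g : G) * a * (g : G)⁻¹, (inferInstance : A.Normal).conj_mem _ a.2 g⟩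
          one_smul := fun a => Subtype.ext (by show (1 : G) * a * 1⁻¹ = a; simp)
          mul_smul := fun g g' a => Subtype.ext (by
            show ((g * g' : Subgroup.zpowers x) : G) * a * ((g * g' : Subgroup.zpowers x) : G)⁻¹ = (g : G) * ((g' : G) * a * (g' : G)⁻¹) * (g : G)⁻¹
            rw [Subgroup.coe_mul]; group) }
      have hf1 : Nat.card (MulAction.fixedPoints (Subgroup.zpowers x) A) = 1 := by
        refine Nat.card_eq_one_iff_unique.mpr ⟨⟨fun a b => ?_⟩, ⟨⟨1, fun g => Subtype.ext (by
          show (g : G) * (1 : G) * (g : G)⁻¹ = 1; simp)⟩⟩⟩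
        have key : ∀ a : MulAction.fixedPoints (Subgroup.zpowers x) A, a.1 = 1 := fun a => by
          have h1 : x * (a.1 : G) * x⁻¹ = a.1 := congrArg Subtype.val (a.2 ⟨x, Subgroup.mem_zpowers x⟩)
          exact Subtype.ext (hfix x hxA _ a.1.2 (mul_inv_eq_iff_eq_mul.mp h1))
        exact Subtype.ext ((key a).trans (key b).symm)
      have h1 := hX.card_modEq_card_fixedPoints A
      rw [hf1, he, ← ZMod.natCast_eq_natCast_iff, Nat.cast_pow, Nat.cast_one] at h1
      exact h1
  · intro hc
    obtain ⟨P, hP⟩ := (IsPGroup.of_card (n := 1) (by rw [Nat.card_zpowers, hx, pow_one]) : IsPGroup p (Subgroup.zpowers x)).exists_le_sylow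
    have hPn := hc P
    have hbot : A ⊓ (P : Subgroup G) = ⊥ := Subgroup.inf_eq_bot_of_coprime (by
      obtain ⟨k, hk⟩ := IsPGroup.iff_card.mp P.isPGroup'
      rw [hk]
      exact ((Nat.Prime.coprime_iff_not_dvd hp).mpr hpA).symm.pow_right k)
    obtain ⟨a, ha, ha1⟩ := (Subgroup.bot_or_exists_ne_one A).resolve_left hA0
    refine ha1 (hfix x hxA a ha ?_)
    have hmem : x * a * x⁻¹ * a⁻¹ ∈ A ⊓ (P : Subgroup G) := by
      refine ⟨A.mul_mem ((inferInstance : A.Normal).conj_mem a ha x) (A.inv_mem ha), ?_⟩
      rw [show x * a * x⁻¹ * a⁻¹ = x * (a * x⁻¹ * a⁻¹) by group]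
      exact (P : Subgroup G).mul_mem (hP (Subgroup.mem_zpowers x))
        (hPn.conj_mem _ ((P : Subgroup G).inv_mem (hP (Subgroup.mem_zpowers x))) a)
    rw [hbot, Subgroup.mem_bot, mul_inv_eq_one, mul_inv_eq_iff_eq_mul] at hmem
    exact hmem
  · intro R
    by_cases hHA : H ≤ A
    · refine (Subgroup.eq_bot_of_card_eq (R : Subgroup H) ?_) ▸ inferInstance
      rw [R.card_eq_multiplicity, Nat.factorization_eq_zero_of_not_dvd fun h => hpA (h.trans (Subgroup.card_dvd_of_le hHA)), pow_zero]
    obtain ⟨y, hyH, hyA⟩ := SetLike.not_le_iff_exists.mp hHA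
    have hBn : (A ⊓ H).Normal := hnormal _ y inf_le_left hyA fun b hb =>
      ⟨(inferInstance : A.Normal).conj_mem _ hb.1 y, H.mul_mem (H.mul_mem hyH hb.2) (H.inv_mem hyH)⟩
    rcases hmin _ hBn inf_le_left with h | h
    · have : (R : Subgroup H) = ⊤ := Subgroup.eq_top_of_card_eq _ (by
        rw [R.card_eq_multiplicity, hord y hyA H hyH h, hp.factorization_self, pow_one])
      rw [this]; infer_instance
    · exact absurd (hgen H (h ▸ inf_le_right) y hyH hyA) hH
  · intro R
    have hAN : A ≤ N := by
      rcases hmin (A ⊓ N) inferInstance inf_le_left with h | h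
      · exfalso
        obtain ⟨n, hn, hn1⟩ := (Subgroup.bot_or_exists_ne_one N).resolve_left hN
        have hnA : n ∉ A := fun h' => hn1 (Subgroup.mem_bot.mp (h ▸ ⟨h', hn⟩ : n ∈ (⊥ : Subgroup G)))
        obtain ⟨a, ha, ha1⟩ := (Subgroup.bot_or_exists_ne_one A).resolve_left hA0
        refine ha1 (hfix n hnA a ha ?_)
        have hmem : n * a * n⁻¹ * a⁻¹ ∈ A ⊓ N := by
          refine ⟨A.mul_mem ((inferInstance : A.Normal).conj_mem a ha n) (A.inv_mem ha), ?_⟩
          rw [show n * a * n⁻¹ * a⁻¹ = n * (a * n⁻¹ * a⁻¹) by group]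
          exact N.mul_mem hn ((inferInstance : N.Normal).conj_mem _ (N.inv_mem hn) a)
        rw [h, Subgroup.mem_bot, mul_inv_eq_one, mul_inv_eq_iff_eq_mul] at hmem
        exact hmem
      · exact h ▸ inf_le_right
    have hd : Nat.card (G ⧸ N) ∣ p := by
      rw [← Subgroup.index_eq_card, ← hidx]
      exact Subgroup.index_dvd_of_le hAN
    have hcyc : IsCyclic (G ⧸ N) := by
      rcases hp.eq_one_or_self_of_dvd _ hd with h | h
      · have := (Nat.card_eq_one_iff_unique.mp h).1
        exact isCyclic_of_subsingleton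
      · exact isCyclic_of_prime_card h
    exact ⟨fun r hr g => by
      rw [hcyc.isMulCommutative.is_comm.comm g r, mul_inv_cancel_right]; exact hr⟩

end Cfsg.Agent.S3869
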