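import Cfsg.Statements.S3868
import Mathlib
import Cfsg.Agent.S3869
import Cfsg.Agent.Lib.SylowExtra
import Cfsg.Agent.Lib.Coprime
import Cfsg.Agent.Lib.Elementary
-- import your own Cfsg.Agent.* helpers here

set_option autoImplicit false
open Cfsg

namespace Cfsg.Agent.S3868

/-- Structure of the non-simple minimal non-p-closed groups. Call a finite group p-closed when its Sylow p-subgroups are normal, and minimal non-p-closed when it is not p-closed but every proper subgroup and every proper quotient is. If such a group G is not simple, then there is a prime q ≠ p such that G has order p · q^e, where e is the multiplicative order of q modulo p, and G has a normal subgroup A of order q^e that is elementary abelian and is a minimal normal subgroup of G (so G is the semidirect product of A by a group of order p acting irreducibly). -/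
theorem result {G : Type*} [Group G] [Finite G] {p : ℕ} [Fact p.Prime]
    (hnc : ¬ Cfsg.IsPClosed p G) (hsub : ∀ H : Subgroup G, H ≠ ⊤ → Cfsg.IsPClosed p ↥H)
    (hquo : ∀ (N : Subgroup G) [N.Normal], N ≠ ⊥ → Cfsg.IsPClosed p (G ⧸ N)) (hns : ¬ IsSimpleGroup G) :
    ∃ q : ℕ, q.Prime ∧ q ≠ p ∧ Nat.card G = p * q ^ orderOf (q : ZMod p) ∧
      ∃ A : Subgroup G, A.Normal ∧ Nat.card ↥A = q ^ orderOf (q : ZMod p) ∧ Cfsg.IsElementaryAbelian q A ∧
        ∀ B : Subgroup G, B.Normal → B ≤ A → B = ⊥ ∨ B = A := by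
  classical
  have hp : p.Prime := Fact.out
  obtain ⟨N0, hN0, hN0b, hN0t⟩ : ∃ N : Subgroup G, N.Normal ∧ N ≠ ⊥ ∧ N ≠ ⊤ := by
    by_contra h
    push Not at h
    have : Nontrivial G := by
      by_contra h1
      rw [not_nontrivial_iff_subsingleton] at h1
      exact hnc fun P => ⟨fun a ha g => by rw [Subsingleton.elim (g * a * g⁻¹) a]; exact ha⟩
    exact hns ⟨fun N hN => or_iff_not_imp_left.mpr (h N hN)⟩
  obtain ⟨N, hN, hNle, hNb, hNmin⟩ := CfsgLib.exists_minimal_normal (N := N0) hN0b
  have hNt : N ≠ ⊤ := fun h => hN0t (top_le_iff.mp (h ▸ hNle))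
  obtain ⟨P⟩ : Nonempty (Sylow p G) := inferInstance
  have hPn : ¬ (P : Subgroup G).Normal := fun h => hnc fun R => by
    have := Sylow.unique_of_normal P h
    rwa [Subsingleton.elim R P]
  -- a normal Sylow subgroup of a proper normal subgroup is normal
  have hchar : ∀ (M : Subgroup G) (R : Sylow p M), M.Normal → M ≠ ⊤ → ((R : Subgroup M).map M.subtype).Normal := by
    intro M R hM hMt
    have := Sylow.characteristic_of_normal R (hsub M hMt R)
    infer_instance
  have hPN : (P : Subgroup G) ⊔ N = ⊤ := by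
    by_contra hne
    have h1 : (((P : Subgroup G) ⊔ N)).Normal := by
      have h2 := hquo N hNb (P.mapSurjective (QuotientGroup.mk'_surjective N))
      rw [Sylow.coe_mapSurjective] at h2
      have h3 := h2.comap (QuotientGroup.mk' N)
      rwa [QuotientGroup.comap_map_mk', sup_comm] at h3
    have h4 := hchar _ (P.subtype le_sup_left) h1 hne
    rw [Sylow.coe_subtype, Subgroup.map_subgroupOf_eq_of_le le_sup_left] at h4
    exact hPn h4
  have hD : (P : Subgroup G) ⊓ N = ⊥ := by
    have h4 := hchar N (CfsgLib.sylowInfNormal P N) hN hNt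
    rw [CfsgLib.coe_sylowInfNormal, Subgroup.subgroupOf_map_subtype] at h4
    rcases hNmin _ h4 inf_le_right with h | h
    · exact h
    · exfalso
      refine hPn ?_
      have : (P : Subgroup G) = ⊤ := by
        rw [← hPN, sup_eq_left.mpr (h ▸ inf_le_left)]
      rw [this]; infer_instance
  have hpN : ¬ p ∣ Nat.card N := fun hd => by
    have h1 := CfsgLib.not_dvd_relIndex_of_sylow P N
    rw [← Subgroup.inf_relIndex_right, hD, Subgroup.relIndex_bot_left] at h1
    exact h1 hd
  -- proper pieces commute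
  have hkey : ∀ (R M : Subgroup G), R ≤ (P : Subgroup G) → M ≤ N → R ≤ Subgroup.normalizer (M : Set G) → R ⊔ M ≠ ⊤ →
      R ≤ Subgroup.centralizer (M : Set G) := by
    intro R M hRP hMN hRM hne r hr
    have hMn : (M.subgroupOf (R ⊔ M)).Normal := (Subgroup.normal_subgroupOf_iff_le_normalizer le_sup_right).mpr (sup_le hRM Subgroup.le_normalizer)
    obtain ⟨S, hS⟩ := ((P.isPGroup'.to_le hRP).comap_subtype (H := R) (K := R ⊔ M)).exists_le_sylow
    have hSn := hsub _ hne S
    rw [Subgroup.mem_centralizer_iff]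
    intro m hm
    have hbot : (S : Subgroup (R ⊔ M : Subgroup G)) ⊓ M.subgroupOf (R ⊔ M) = ⊥ := Subgroup.inf_eq_bot_of_coprime (by
      obtain ⟨k, hk⟩ := IsPGroup.iff_card.mp S.isPGroup'
      rw [hk, Nat.card_congr (Subgroup.subgroupOfEquivOfLe le_sup_right).toEquiv]
      exact ((Nat.Prime.coprime_iff_not_dvd hp).mpr fun h => hpN (h.trans (Subgroup.card_dvd_of_le hMN))).pow_left k)
    set r' : (R ⊔ M : Subgroup G) := ⟨r, Subgroup.mem_sup_left hr⟩
    set m' : (R ⊔ M : Subgroup G) := ⟨m, Subgroup.mem_sup_right hm⟩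
    have hmem : r' * m' * r'⁻¹ * m'⁻¹ ∈ (S : Subgroup (R ⊔ M : Subgroup G)) ⊓ M.subgroupOf (R ⊔ M) := by
      refine ⟨?_, Subgroup.mul_mem _ (hMn.conj_mem m' hm r') (Subgroup.inv_mem _ hm)⟩
      rw [show r' * m' * r'⁻¹ * m'⁻¹ = r' * (m' * r'⁻¹ * m'⁻¹) by group]
      exact (S : Subgroup (R ⊔ M : Subgroup G)).mul_mem (hS hr)
        (hSn.conj_mem _ ((S : Subgroup (R ⊔ M : Subgroup G)).inv_mem (hS hr)) m')
    rw [hbot, Subgroup.mem_bot, mul_inv_eq_one, mul_inv_eq_iff_eq_mul] at hmem
    exact (congrArg Subtype.val hmem).symm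
  have hnotc : ¬ (P : Subgroup G) ≤ Subgroup.centralizer (N : Set G) := fun h => hPn (by
    rw [← Subgroup.normalizer_eq_top_iff, eq_top_iff, ← hPN]
    refine sup_le Subgroup.le_normalizer fun n hn => Subgroup.centralizer_le_normalizer _ ?_
    exact Subgroup.mem_centralizer_iff.mpr fun y hy => (Subgroup.mem_centralizer_iff.mp (h hy) n hn).symm)
  -- `N` has prime power order
  have hNp : ∃ q : ℕ, q.Prime ∧ IsPGroup q N := by
    by_contra hall
    push Not at hall
    refine hnotc ?_
    intro x hx
    have hle : N ≤ Subgroup.centralizer {x} := by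
      have hPnN : (P : Subgroup G) ≤ Subgroup.normalizer (N : Set G) := le_top.trans (Subgroup.normalizer_eq_top_iff.mpr hN).ge
      have hcop : (Nat.card (P : Subgroup G)).Coprime (Nat.card N) := by
        obtain ⟨k, hk⟩ := IsPGroup.iff_card.mp P.isPGroup'
        rw [hk]
        exact ((Nat.Prime.coprime_iff_not_dvd hp).mpr hpN).pow_left k
      have hsolv : Group.IsSolvable (P : Subgroup G) := by
        have := P.isPGroup'.isNilpotent
        infer_instance
      have hdiv : Nat.card N ∣ Nat.card (N ⊓ Subgroup.centralizer {x} : Subgroup G) := by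
        rw [← Nat.factorization_le_iff_dvd Nat.card_pos.ne' Nat.card_pos.ne', Finsupp.le_def]
        intro q
        by_cases hq : q.Prime
        swap
        · rw [Nat.factorization_eq_zero_of_not_prime _ hq]; exact Nat.zero_le _
        have := Fact.mk hq
        obtain ⟨Q, hQ⟩ := CfsgLib.coprime_exists_invariant_sylow hPnN hcop (Or.inl hsolv) q
        set Q' := (Q : Subgroup N).map N.subtype with hQ'
        have hQN : Q' ≤ N := Subgroup.map_subtype_le _
        have hne : (P : Subgroup G) ⊔ Q' ≠ ⊤ := fun htop => by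
          refine hall q hq ?_
          have : Q' = N := by
            refine le_antisymm hQN fun n hn => ?_
            have hn' : n ∈ (((P : Subgroup G) ⊔ Q' : Subgroup G) : Set G) := by rw [htop]; trivial
            rw [Subgroup.coe_mul_of_left_le_normalizer_right _ _ hQ] at hn'
            obtain ⟨a, ha, b, hb, hab⟩ := hn'
            have : a ∈ (P : Subgroup G) ⊓ N := ⟨ha, by
              rw [show a = n * b⁻¹ from eq_mul_inv_of_mul_eq hab]
              exact N.mul_mem hn (N.inv_mem (hQN hb))⟩
            rw [hD, Subgroup.mem_bot] at this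
            rw [← hab, this]
            show (1 : G) * b ∈ Q'
            rw [one_mul]
            exact hb
          exact this ▸ Q.isPGroup'.map _
        have hc := hkey _ Q' le_rfl hQN hQ hne
        have hle : Q' ≤ N ⊓ Subgroup.centralizer {x} := le_inf hQN fun y hy =>
          Subgroup.mem_centralizer_singleton_iff.mpr (Subgroup.mem_centralizer_iff.mp (hc hx) y hy)
        have h1 := Subgroup.card_dvd_of_le hle
        rw [Subgroup.card_map_of_injective N.subtype_injective, Q.card_eq_multiplicity,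
          Nat.Prime.pow_dvd_iff_le_factorization hq Nat.card_pos.ne'] at h1
        exact h1
      exact inf_eq_left.mp (Subgroup.eq_of_le_of_card_ge inf_le_left (Nat.le_of_dvd Nat.card_pos hdiv))
    exact Subgroup.mem_centralizer_iff.mpr fun n hn => Subgroup.mem_centralizer_singleton_iff.mp (hle hn)
  obtain ⟨q, hq, hNq⟩ := hNp
  have := Fact.mk hq
  obtain ⟨e, he⟩ := IsPGroup.iff_card.mp hNq
  have he0 : e ≠ 0 := fun h => hNb (N.card_eq_one.mp (by rw [he, h, pow_zero]))
  have hqp : q ≠ p := fun h => hpN (h ▸ he ▸ dvd_pow_self q he0)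
  have hNs : Group.IsSolvable N := by
    have := hNq.isNilpotent
    infer_instance
  obtain ⟨hNc, q', hq', hexp⟩ := CfsgLib.minimal_normal_elementary hNb hNs hNmin
  have hEl : Cfsg.IsElementaryAbelian q N := by
    refine ⟨hNc, fun x hx => ?_⟩
    have : q' = q := by
      obtain ⟨w, hw, hw1⟩ := (Subgroup.bot_or_exists_ne_one N).resolve_left hNb
      obtain ⟨k, hk⟩ := IsPGroup.iff_orderOf.mp hNq ⟨w, hw⟩
      rw [Subgroup.orderOf_mk] at hk
      have := Fact.mk hq'
      rw [orderOf_eq_prime (hexp w hw) hw1] at hk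
      exact (Nat.prime_dvd_prime_iff_eq hq' hq).mp (hq'.dvd_of_dvd_pow (dvd_of_eq hk))
    exact this ▸ hexp x hx
  -- proper subgroups of `P` centralize `N`
  have hRN : ∀ R : Subgroup G, R ≤ (P : Subgroup G) → R ≠ (P : Subgroup G) → R ≤ Subgroup.centralizer (N : Set G) := by
    intro R hR hne
    refine hkey R N hR le_rfl (le_top.trans (Subgroup.normalizer_eq_top_iff.mpr hN).ge) fun htop => hne ?_
    refine le_antisymm hR fun x hx => ?_
    obtain ⟨r, hr, n, hn, rfl⟩ := Subgroup.mem_sup_of_normal_right.mp (htop ▸ Subgroup.mem_top x : x ∈ R ⊔ N)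
    have : n ∈ (P : Subgroup G) ⊓ N := ⟨by
      have := (P : Subgroup G).mul_mem ((P : Subgroup G).inv_mem (hR hr)) hx
      rwa [inv_mul_cancel_left] at this, hn⟩
    rw [hD, Subgroup.mem_bot] at this
    rwa [this, mul_one]
  obtain ⟨x, hxP, hxN⟩ := SetLike.not_le_iff_exists.mp hnotc
  have hPx : (P : Subgroup G) = Subgroup.zpowers x := by
    by_contra hne
    exact hxN (hRN _ (Subgroup.zpowers_le.mpr hxP) (Ne.symm hne) (Subgroup.mem_zpowers x))
  have hxp : x ^ p = 1 := by
    by_contra hne1
    have hneP : Subgroup.zpowers (x ^ p) ≠ (P : Subgroup G) := fun h => by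
      obtain ⟨k, hk⟩ := IsPGroup.iff_orderOf.mp P.isPGroup' ⟨x, hxP⟩
      rw [Subgroup.orderOf_mk] at hk
      have hk0 : k ≠ 0 := fun h0 => hxN (by rw [orderOf_eq_one_iff.mp (by rw [hk, h0, pow_zero] : orderOf x = 1)]; exact one_mem _)
      have h1 := congrArg (fun H : Subgroup G => Nat.card H) h
      simp only [hPx, Nat.card_zpowers] at h1
      rw [orderOf_pow_of_dvd hp.ne_zero (hk ▸ dvd_pow_self p hk0)] at h1
      exact absurd h1 (Nat.ne_of_lt (Nat.div_lt_self (orderOf_pos x) hp.one_lt))
    have hc := hRN _ (Subgroup.zpowers_le.mpr ((P : Subgroup G).pow_mem hxP p)) hneP (Subgroup.mem_zpowers (x ^ p))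
    have hz : x ^ p ∈ Subgroup.center G := by
      have htop : Subgroup.centralizer {x ^ p} = ⊤ := by
        rw [eq_top_iff, ← hPN, hPx]
        refine sup_le (Subgroup.zpowers_le.mpr (Subgroup.mem_centralizer_singleton_iff.mpr ((Commute.refl x).pow_right p).eq)) fun n hn => ?_
        exact Subgroup.mem_centralizer_singleton_iff.mpr (Subgroup.mem_centralizer_iff.mp hc n hn)
      rw [Subgroup.mem_center_iff]
      intro g
      exact Subgroup.mem_centralizer_singleton_iff.mp (htop ▸ Subgroup.mem_top g)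
    have hZn : (Subgroup.zpowers (x ^ p)).Normal := ⟨fun a ha g => by
      rw [Subgroup.mem_center_iff.mp (Subgroup.zpowers_le.mpr hz ha) g, mul_inv_cancel_right]; exact ha⟩
    have h2 := hquo _ (fun h => hne1 (Subgroup.zpowers_eq_bot.mp h)) (P.mapSurjective (QuotientGroup.mk'_surjective (Subgroup.zpowers (x ^ p))))
    rw [Sylow.coe_mapSurjective] at h2
    have h3 := h2.comap (QuotientGroup.mk' (Subgroup.zpowers (x ^ p)))
    rw [QuotientGroup.comap_map_mk', sup_eq_right.mpr (Subgroup.zpowers_le.mpr ((P : Subgroup G).pow_mem hxP p))] at h3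
    exact hPn h3
  have hxo : orderOf x = p := orderOf_eq_prime hxp fun h => hxN (h ▸ one_mem _)
  have hc : Subgroup.IsComplement' N (P : Subgroup G) := Subgroup.isComplement'_of_disjoint_and_mul_eq_univ
    (disjoint_iff.mpr (inf_comm (P : Subgroup G) N ▸ hD))
    (by rw [← Subgroup.normal_mul, sup_comm, hPN, Subgroup.coe_top])
  have hidx : N.index = p := by rw [hc.symm.index_eq_card, hPx, Nat.card_zpowers, hxo]
  have hna : ¬ IsMulCommutative G := fun h => hPn ⟨fun a ha g => by rw [h.is_comm.comm g a, mul_inv_cancel_right]; exact ha⟩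
  obtain ⟨hcard, -, -, -⟩ := Cfsg.Agent.S3869.result hq hqp hna N hEl hidx hNmin
  exact ⟨q, hq, hqp, by rw [← N.card_mul_index, hidx, hcard, mul_comm], N, hN, hcard, hEl, hNmin⟩

end Cfsg.Agent.S3868
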