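import Cfsg.Statements.S3870
import Mathlib
-- import your own Cfsg.Agent.* helpers here

set_option autoImplicit false
open Cfsg

namespace Cfsg.Agent.S3870

open scoped Pointwise

/-- Let G be a finite simple group whose Sylow p-subgroups are not normal but such that every proper subgroup of G has a normal Sylow p-subgroup. Then any two distinct Sylow p-subgroups of G intersect trivially, and for every Sylow p-subgroup P the normalizer of every non-identity subgroup of P lies in the normalizer of P. -/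
theorem result {G : Type*} [Group G] [Finite G] [IsSimpleGroup G] {p : ℕ} [Fact p.Prime]
    (hnc : ¬ Cfsg.IsPClosed p G) (hsub : ∀ H : Subgroup G, H ≠ ⊤ → Cfsg.IsPClosed p ↥H) :
    (∀ P Q : Sylow p G, P ≠ Q → (P : Subgroup G) ⊓ (Q : Subgroup G) = ⊥) ∧
      ∀ (P : Sylow p G) (R : Subgroup G), R ≤ P → R ≠ ⊥ →
        Subgroup.normalizer (R : Set G) ≤ Subgroup.normalizer ((P : Subgroup G) : Set G) := by
  classical
  have hp : p.Prime := Fact.out
  have hnn : ∀ P : Sylow p G, ¬ (P : Subgroup G).Normal := by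
    intro P hP
    have := Sylow.unique_of_normal P hP
    exact hnc fun Q => (Subsingleton.elim P Q) ▸ hP
  -- a `p`-subgroup of a proper subgroup lies in its Sylow subgroup
  have hproper : ∀ R : Subgroup G, R ≠ ⊥ → R ≠ ⊤ → Subgroup.normalizer (R : Set G) ≠ ⊤ := by
    intro R hb ht h
    rcases (Subgroup.normalizer_eq_top_iff.mp h).eq_bot_or_eq_top with e | e
    · exact hb e
    · exact ht e
  have htop : ∀ P : Sylow p G, ∀ R : Subgroup G, R ≤ P → R ≠ ⊤ := by
    intro P R hR e
    have : (P : Subgroup G) = ⊤ := top_le_iff.mp (e ▸ hR)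
    exact hnn P (this ▸ inferInstance)
  have hS : ∀ H : Subgroup G, H ≠ ⊤ → ∃ T : Sylow p G, ∀ U : Subgroup G, IsPGroup p U → U ≤ H → U ≤ T := by
    intro H hH
    let S : Sylow p H := default
    have := hsub H hH S
    have := Sylow.unique_of_normal S this
    obtain ⟨T, hT⟩ := (S.isPGroup'.map H.subtype).exists_le_sylow
    refine ⟨T, fun U hU hUH => ?_⟩
    obtain ⟨S', hS'⟩ := (hU.comap_of_injective H.subtype H.subtype_injective).exists_le_sylow
    intro u hu
    have h1 : (⟨u, hUH hu⟩ : H) ∈ (S' : Subgroup H) := hS' hu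
    rw [Subsingleton.elim S' S] at h1
    exact hT ⟨_, h1, rfl⟩
  have hTI : ∀ P Q : Sylow p G, P ≠ Q → (P : Subgroup G) ⊓ (Q : Subgroup G) = ⊥ := by
    by_contra hcon
    push Not at hcon
    obtain ⟨P₀, Q₀, hne₀, hb₀⟩ := hcon
    have hfin : ({D : Subgroup G | ∃ P Q : Sylow p G, P ≠ Q ∧ D = (P : Subgroup G) ⊓ (Q : Subgroup G)}).Finite :=
      Set.toFinite _
    obtain ⟨D, hle, ⟨P, Q, hne, hD⟩, hmax⟩ := hfin.exists_le_maximal ⟨P₀, Q₀, hne₀, rfl⟩
    have hDb : D ≠ ⊥ := fun e => hb₀ (le_bot_iff.mp (e ▸ hle))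
    obtain ⟨T, hT⟩ := hS _ (hproper D hDb (htop P D (hD ▸ inf_le_left)))
    have key : ∀ P : Sylow p G, D < P → T = P := by
      intro P hlt
      by_contra hTP
      have : Group.IsNilpotent (P : Subgroup G) := P.isPGroup'.isNilpotent
      have h1 := Group.normalizerCondition_of_isNilpotent (D.subgroupOf (P : Subgroup G))
        (lt_top_iff_ne_top.mpr fun e => hlt.not_ge (Subgroup.subgroupOf_eq_top.mp e))
      obtain ⟨⟨u, huP⟩, hu, hun⟩ := SetLike.exists_of_lt h1
      have huN : u ∈ Subgroup.normalizer (D : Set G) := by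
        rw [Subgroup.mem_normalizer_iff] at hu ⊢
        intro w
        constructor
        · intro hw
          exact (hu ⟨w, hlt.le hw⟩).mp hw
        · intro hw
          have hwP : w ∈ (P : Subgroup G) := by
            have := mul_mem (mul_mem (inv_mem huP) (hlt.le hw)) huP
            simpa [mul_assoc] using this
          exact (hu ⟨w, hwP⟩).mpr hw
      have hle : (P : Subgroup G) ⊓ Subgroup.normalizer (D : Set G) ≤ T :=
        hT _ (P.isPGroup'.to_le inf_le_left) inf_le_right
      have h2 : (T : Subgroup G) ⊓ (P : Subgroup G) ≤ D :=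
        hmax ⟨T, P, hTP, rfl⟩ (fun w hw => ⟨hle ⟨hlt.le hw, Subgroup.le_normalizer hw⟩, hlt.le hw⟩)
      exact hun (h2 ⟨hle ⟨huP, huN⟩, huP⟩)
    have hlt : ∀ A B : Sylow p G, A ≠ B → (A : Subgroup G) ⊓ B < A := fun A B h =>
      lt_of_le_of_ne inf_le_left fun e => h (Sylow.ext (A.is_maximal' B.isPGroup' (inf_eq_left.mp e))).symm
    exact hne ((key P (hD ▸ hlt P Q hne)).symm.trans (key Q (hD ▸ inf_comm (Q : Subgroup G) (P : Subgroup G) ▸ hlt Q P (Ne.symm hne))))
  refine ⟨hTI, fun P R hR hR1 => ?_⟩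
  intro g hg
  by_contra hgn
  have hne : g • P ≠ P := fun e => hgn (Sylow.smul_eq_iff_mem_normalizer.mp e)
  apply hR1
  rw [eq_bot_iff, ← hTI _ _ hne]
  intro r hr
  refine Subgroup.mem_inf.mpr ⟨?_, hR hr⟩
  rw [Sylow.coe_subgroup_smul, Subgroup.mem_pointwise_smul_iff_inv_smul_mem,
    MulAut.smul_def, MulAut.inv_def, MulAut.conj_symm_apply]
  exact hR ((Subgroup.mem_normalizer_iff''.mp hg r).mp hr)

end Cfsg.Agent.S3870
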