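import Cfsg.Statements.S3872
import Mathlib
import Cfsg.Agent.Lib.RegularPGroup
import Cfsg.Agent.Lib.UniqueSubgroup
-- import your own Cfsg.Agent.* helpers here

set_option autoImplicit false
open Cfsg

namespace Cfsg.Agent.S3872

/-- Say that a finite group is p-exponent closed when its elements of order dividing p form a subgroup. Let G be a finite p-group that is not p-exponent closed, but all of whose proper subgroups and proper quotients are. Then G is generated by two elements, has nilpotency class at least p, has exponent p², has cyclic center, and has order at least p^(p+1). -/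
theorem result {G : Type*} [Group G] [Finite G] {p : ℕ} [Fact p.Prime] (hG : IsPGroup p G)
    (hnc : ¬ (∃ H : Subgroup G, (H : Set G) = {g : G | g ^ p = 1})) (hsub : ∀ K : Subgroup G, K ≠ ⊤ → (∃ H : Subgroup ↥K, (H : Set ↥K) = {g : ↥K | g ^ p = 1}))
    (hquo : ∀ (N : Subgroup G) [N.Normal], N ≠ ⊥ → (∃ H : Subgroup (G ⧸ N), (H : Set (G ⧸ N)) = {g : (G ⧸ N) | g ^ p = 1})) :
    (∃ x y : G, Subgroup.closure ({x, y} : Set G) = ⊤) ∧ (⊤ : Subgroup G).lowerCentralSeries (p - 1) ≠ ⊥ ∧
      Monoid.exponent G = p ^ 2 ∧ IsCyclic ↥(Subgroup.center G) ∧ p ^ (p + 1) ≤ Nat.card G := by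
  classical
  have hp := (Fact.out : p.Prime)
  have := hG.isNilpotent
  obtain ⟨x, y, hx, hy, hxy⟩ : ∃ x y : G, x ^ p = 1 ∧ y ^ p = 1 ∧ (x * y) ^ p ≠ 1 := by
    by_contra h
    push Not at h
    exact hnc ⟨{ carrier := {g : G | g ^ p = 1}
                 one_mem' := one_pow p
                 mul_mem' := fun {a b} ha hb => h a b ha hb
                 inv_mem' := fun {a} ha => by
                   show a⁻¹ ^ p = 1
                   rw [inv_pow, show a ^ p = 1 from ha, inv_one] }, rfl⟩
  have hgen : Subgroup.closure ({x, y} : Set G) = ⊤ := by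
    by_contra hne
    obtain ⟨H, hH⟩ := hsub _ hne
    have hmem : ∀ w : ↥(Subgroup.closure ({x, y} : Set G)), w ∈ H ↔ (w : G) ^ p = 1 := fun w => by
      rw [← SetLike.mem_coe, hH, Set.mem_setOf_eq, Subtype.ext_iff]
      rfl
    have := mul_mem ((hmem ⟨x, Subgroup.subset_closure (by simp)⟩).mpr hx)
      ((hmem ⟨y, Subgroup.subset_closure (by simp)⟩).mpr hy)
    exact hxy ((hmem _).mp this)
  have hnab : ∃ a b : G, a * b ≠ b * a := ⟨x, y, fun h => hxy (by rw [Commute.mul_pow h, hx, hy, one_mul])⟩
  -- quotients have exponent p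
  have hquot : ∀ N : Subgroup G, N.Normal → N ≠ ⊥ → ∀ g : G, g ^ p ∈ N := by
    intro N hN hne g
    obtain ⟨H, hH⟩ := hquo N hne
    have hle : (⊤ : Subgroup G) ≤ H.comap (QuotientGroup.mk' N) := by
      rw [← hgen, Subgroup.closure_le]
      rintro w (rfl | rfl) <;>
        (show QuotientGroup.mk' N _ ∈ (H : Set _); rw [hH, Set.mem_setOf_eq, ← map_pow]) <;>
        first | rw [hx, map_one] | rw [hy, map_one]
    have h1 : QuotientGroup.mk' N g ∈ (H : Set _) := hle (Subgroup.mem_top g)
    rw [hH, Set.mem_setOf_eq, ← map_pow] at h1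
    exact (QuotientGroup.eq_one_iff _).mp h1
  have hcen : ∀ z : G, z ∈ Subgroup.center G → (Subgroup.zpowers z).Normal := fun z hz => ⟨fun w hw g => by
    rw [Subgroup.mem_center_iff.mp ((Subgroup.zpowers_le.mpr hz) hw) g, mul_inv_cancel_right]
    exact hw⟩
  have : Nontrivial G := by
    obtain ⟨a, b, hab⟩ := hnab
    exact ⟨⟨a * b, b * a, hab⟩⟩
  obtain ⟨z, hz⟩ : ∃ z : Subgroup.center G, orderOf z = p := by
    obtain ⟨k, hk⟩ := IsPGroup.iff_card.mp (hG.to_subgroup (Subgroup.center G))
    have : Nontrivial (Subgroup.center G) := hG.center_nontrivial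
    have hk0 : k ≠ 0 := fun e => by
      have h1 : 1 < Nat.card (Subgroup.center G) := Finite.one_lt_card
      rw [hk, e, pow_zero] at h1
      exact lt_irrefl _ h1
    exact exists_prime_orderOf_dvd_card' p (hk ▸ dvd_pow_self p hk0)
  have hzo : orderOf (z : G) = p := by rw [Subgroup.orderOf_coe, hz]
  have hzne : Subgroup.zpowers (z : G) ≠ ⊥ := fun e => by
    rw [Subgroup.zpowers_eq_bot, ← orderOf_eq_one_iff, hzo] at e
    exact hp.ne_one e
  refine ⟨⟨x, y, hgen⟩, ?_, ?_, ?_, ?_⟩
  · intro hcl
    have hR := CfsgLib.Regular.r1_of_lowerCentralSeries hG hcl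
    have := (hR.pow_prime_eq_iff x y⁻¹).mp (by rw [inv_pow, hx, hy, inv_one])
    rw [inv_inv] at this
    exact hxy this
  · have h2 : ∀ g : G, g ^ p ^ 2 = 1 := fun g => by
      have h := Subgroup.orderOf_dvd_natCard _ (hquot _ (hcen _ z.2) hzne g)
      rw [Nat.card_zpowers, hzo] at h
      rw [pow_two, pow_mul]
      exact orderOf_dvd_iff_pow_eq_one.mp h
    obtain ⟨k, hk, hk'⟩ := (Nat.dvd_prime_pow hp).mp (Monoid.exponent_dvd_of_forall_pow_eq_one h2)
    rcases Nat.lt_or_ge k 2 with h | h
    · refine absurd ?_ hxy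
      refine Monoid.exponent_dvd_iff_forall_pow_eq_one.mp (hk' ▸ (by
        rcases Nat.le_one_iff_eq_zero_or_eq_one.mp (Nat.lt_succ_iff.mp h) with rfl | rfl <;> simp)) (x * y)
    · rw [hk', show k = 2 by omega]
  · have huniq : ∀ w : Subgroup.center G, w ^ p = 1 → w ∈ Subgroup.zpowers z := by
      intro w hw
      by_contra hwz
      have hw1 : w ≠ 1 := fun e => hwz (e ▸ one_mem _)
      have hwne : Subgroup.zpowers (w : G) ≠ ⊥ := fun e => hw1 (Subtype.ext (Subgroup.zpowers_eq_bot.mp e))
      have h1 := hquot _ (hcen _ w.2) hwne (x * y)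
      have h2 := hquot _ (hcen _ z.2) hzne (x * y)
      have hdis : Subgroup.zpowers (w : G) ⊓ Subgroup.zpowers (z : G) = ⊥ := by
        have hwo : Nat.card (Subgroup.zpowers (w : G)) = p := by
          rw [Nat.card_zpowers, Subgroup.orderOf_coe]
          exact orderOf_eq_prime hw hw1
        rcases (Nat.dvd_prime hp).mp (hwo ▸ Subgroup.card_dvd_of_le
          (inf_le_left : Subgroup.zpowers (w : G) ⊓ Subgroup.zpowers (z : G) ≤ _)) with h | h
        · exact Subgroup.card_eq_one.mp h
        · exfalso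
          have e := Subgroup.eq_of_le_of_card_ge (inf_le_left : Subgroup.zpowers (w : G) ⊓ Subgroup.zpowers (z : G) ≤ _)
            (hwo.trans h.symm).le
          obtain ⟨i, hi⟩ := Subgroup.mem_zpowers_iff.mp ((e.ge.trans inf_le_right) (Subgroup.mem_zpowers (w : G)))
          exact hwz ⟨i, Subtype.ext (by simpa using hi)⟩
      exact hxy (Subgroup.mem_bot.mp (hdis ▸ ⟨h1, h2⟩))
    obtain ⟨a, -, ha⟩ := CfsgLib.UniqueSubgroup.exists_generator (hG.to_subgroup (Subgroup.center G)) hz huniq ⊤
      (fun u _ v _ => Subtype.ext (Subgroup.mem_center_iff.mp v.2 u))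
    exact ⟨⟨a, fun u => ha.le (Subgroup.mem_top u)⟩⟩
  · obtain ⟨n, hn⟩ := IsPGroup.iff_card.mp hG
    have hne : (⊤ : Subgroup G).lowerCentralSeries (p - 1) ≠ ⊥ := fun hcl => by
      have hR := CfsgLib.Regular.r1_of_lowerCentralSeries hG hcl
      have := (hR.pow_prime_eq_iff x y⁻¹).mp (by rw [inv_pow, hx, hy, inv_one])
      rw [inv_inv] at this
      exact hxy this
    set γ := fun k => (⊤ : Subgroup G).lowerCentralSeries k with hγ
    have hpg : ∀ (A : Subgroup G), ∃ j, A.index = p ^ j := fun A =>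
      (Nat.dvd_prime_pow hp).mp (hn ▸ A.index_dvd_card) |>.elim fun j hj => ⟨j, hj.2⟩
    have hstep : ∀ k, γ k ≠ ⊥ → p * (γ k).index ≤ (γ (k + 1)).index := by
      intro k hk
      have hlt : γ (k + 1) < γ k := by
        refine lt_of_le_of_ne (Subgroup.lowerCentralSeries_antitone _ (Nat.le_succ k)) fun e => hk ?_
        have hstab : ∀ j, γ (k + j) = γ k := by
          intro j
          induction j with
          | zero => rfl
          | succ j ih =>
            show (⊤ : Subgroup G).lowerCentralSeries (k + j + 1) = _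
            rw [Subgroup.lowerCentralSeries_succ]
            show ⁅γ (k + j), ⊤⁆ = _
            rw [ih]
            exact e
        obtain ⟨m, hm⟩ := Subgroup.nilpotent_iff_lowerCentralSeries.mp (inferInstance : Group.IsNilpotent G)
        rw [← hstab m, eq_bot_iff, ← hm]
        exact Subgroup.lowerCentralSeries_antitone _ (Nat.le_add_left m k)
      obtain ⟨i, hi⟩ := hpg (γ k)
      obtain ⟨j, hj⟩ := hpg (γ (k + 1))
      rw [hi, hj, ← pow_succ']
      refine Nat.pow_le_pow_right hp.pos ?_
      by_contra h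
      have h1 : γ k = γ (k + 1) := (Subgroup.eq_of_le_of_card_ge hlt.le (by
        refine Nat.le_of_mul_le_mul_right (c := (γ k).index) ?_ (Nat.pos_of_ne_zero Subgroup.index_ne_zero_of_finite)
        rw [Subgroup.card_mul_index, ← Subgroup.card_mul_index (γ (k + 1))]
        exact Nat.mul_le_mul_left _ (hi ▸ hj ▸ Nat.pow_le_pow_right hp.pos (by omega)))).symm
      exact hlt.ne h1.symm
    have hbase : p ^ 2 ≤ (γ 1).index := by
      obtain ⟨j, hj⟩ := hpg (γ 1)
      rw [hj]
      refine Nat.pow_le_pow_right hp.pos ?_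
      by_contra h
      have hcyc : IsCyclic (G ⧸ γ 1) := by
        have hc : Nat.card (G ⧸ γ 1) = p ^ j := hj
        rcases Nat.le_one_iff_eq_zero_or_eq_one.mp (show j ≤ 1 by omega) with rfl | rfl
        · rw [pow_zero] at hc
          have := (Nat.card_eq_one_iff_unique.mp hc).1
          infer_instance
        · exact isCyclic_of_prime_card (p := p) (by rw [hc, pow_one])
      obtain ⟨a, b, hab⟩ := hnab
      obtain ⟨c, hc⟩ := hcyc.exists_generator
      obtain ⟨w, rfl⟩ := QuotientGroup.mk'_surjective (γ 1) c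
      have htop : Subgroup.zpowers w ⊔ commutator G = ⊤ := by
        rw [eq_top_iff]
        intro g _
        obtain ⟨i, hi⟩ := Subgroup.mem_zpowers_iff.mp (hc (QuotientGroup.mk' (γ 1) g))
        rw [← map_zpow] at hi
        have h2 : (w ^ i)⁻¹ * g ∈ γ 1 := QuotientGroup.eq.mp hi
        rw [← mul_inv_cancel_left (w ^ i) g]
        refine Subgroup.mul_mem_sup (Subgroup.zpow_mem _ (Subgroup.mem_zpowers w) i) ?_
        exact (Subgroup.top_lowerCentralSeries_one (G := G)).le h2
      exact CfsgLib.Regular.zpowers_sup_commutator_ne_top hG hab w htop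
    have hind : ∀ k, 1 ≤ k → k ≤ p - 1 → p ^ (k + 1) ≤ (γ k).index := by
      intro k hk
      induction k, hk using Nat.le_induction with
      | base => intro _; exact hbase
      | succ k hk ih =>
        intro hk'
        have hk0 : γ k ≠ ⊥ := fun e => hne (eq_bot_iff.mpr ((Subgroup.lowerCentralSeries_antitone _ (by omega)).trans e.le))
        rw [pow_succ']
        exact (Nat.mul_le_mul_left p (ih (by omega))).trans (hstep k hk0)
    have h1 : p ≤ Nat.card (γ (p - 1)) := by
      obtain ⟨j, hj⟩ := IsPGroup.iff_card.mp (hG.to_subgroup (γ (p - 1)))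
      rw [hj]
      refine Nat.le_self_pow (fun e => hne (Subgroup.card_eq_one.mp (by rw [hj, e, pow_zero]))) p
    rw [← Subgroup.card_mul_index (γ (p - 1)), pow_succ']
    have h2 := hind (p - 1) (by have := hp.two_le; omega) le_rfl
    rw [Nat.sub_add_cancel hp.one_le] at h2
    exact Nat.mul_le_mul h1 h2

end Cfsg.Agent.S3872
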