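import Cfsg.Statements.S3873
import Mathlib
import Cfsg.Agent.S3868
-- import your own Cfsg.Agent.* helpers here

set_option autoImplicit false
open Cfsg

namespace Cfsg.Agent.S3873

/-- Say that a finite group is p-exponent closed when its elements of order dividing p form a subgroup. Let G be a finite group that is not p-exponent closed, but all of whose proper subgroups and proper quotients are, and suppose G is neither simple nor a p-group. Then there is a prime q ≠ p such that G has order p · q^e, where e is the multiplicative order of q modulo p, and G has a normal elementary abelian subgroup of order q^e that is a minimal normal subgroup of G. -/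
theorem result {G : Type*} [Group G] [Finite G] {p : ℕ} [Fact p.Prime]
    (hnc : ¬ (∃ H : Subgroup G, (H : Set G) = {g : G | g ^ p = 1})) (hsub : ∀ K : Subgroup G, K ≠ ⊤ → (∃ H : Subgroup ↥K, (H : Set ↥K) = {g : ↥K | g ^ p = 1}))
    (hquo : ∀ (N : Subgroup G) [N.Normal], N ≠ ⊥ → (∃ H : Subgroup (G ⧸ N), (H : Set (G ⧸ N)) = {g : (G ⧸ N) | g ^ p = 1}))
    (hns : ¬ IsSimpleGroup G) (hnp : ¬ IsPGroup p G) :
    ∃ q : ℕ, q.Prime ∧ q ≠ p ∧ Nat.card G = p * q ^ orderOf (q : ZMod p) ∧
      ∃ A : Subgroup G, A.Normal ∧ Nat.card ↥A = q ^ orderOf (q : ZMod p) ∧ Cfsg.IsElementaryAbelian q A ∧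
        ∀ B : Subgroup G, B.Normal → B ≤ A → B = ⊥ ∨ B = A := by
  classical
  have hgen : Subgroup.closure {g : G | g ^ p = 1} = ⊤ := by
    by_contra hne
    obtain ⟨H, hH⟩ := hsub _ hne
    refine hnc ⟨H.map (Subgroup.closure {g : G | g ^ p = 1}).subtype, Set.ext fun g => ⟨?_, fun hg => ?_⟩⟩
    · rintro ⟨h, hh, rfl⟩
      rw [hH] at hh
      exact congrArg Subtype.val hh
    · exact ⟨⟨g, Subgroup.subset_closure hg⟩, by rw [hH]; exact Subtype.ext hg, rfl⟩
  have hq' : ∀ (N : Subgroup G) [N.Normal], N ≠ ⊥ → IsPGroup p (G ⧸ N) := fun N _ hN => by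
    obtain ⟨H, hH⟩ := hquo N hN
    have htop : H = ⊤ := by
      rw [eq_top_iff]
      intro x _
      obtain ⟨g, rfl⟩ := QuotientGroup.mk'_surjective N x
      have hle : Subgroup.closure {g : G | g ^ p = 1} ≤ H.comap (QuotientGroup.mk' N) := by
        rw [Subgroup.closure_le]
        intro y (hy : y ^ p = 1)
        show QuotientGroup.mk' N y ∈ (H : Set (G ⧸ N))
        rw [hH, Set.mem_setOf_eq, ← map_pow, hy, map_one]
      exact hle (hgen ▸ Subgroup.mem_top g)
    intro x
    have : x ∈ (H : Set (G ⧸ N)) := by rw [htop]; trivial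
    rw [hH] at this
    exact ⟨1, by rw [pow_one]; exact this⟩
  obtain ⟨N0, hN0, hN0b, hN0t⟩ : ∃ N : Subgroup G, N.Normal ∧ N ≠ ⊥ ∧ N ≠ ⊤ := by
    by_contra h
    push Not at h
    have : Nontrivial G := by
      by_contra h1
      rw [not_nontrivial_iff_subsingleton] at h1
      exact hnp fun g => ⟨0, Subsingleton.elim _ _⟩
    exact hns ⟨fun N hN => or_iff_not_imp_left.mpr (h N hN)⟩
  obtain ⟨N, hN, hNle, hNb, hNmin⟩ := CfsgLib.exists_minimal_normal (N := N0) hN0b
  have hNt : N ≠ ⊤ := fun h => hN0t (top_le_iff.mp (h ▸ hNle))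
  have hpN : ¬ p ∣ Nat.card N := fun hd => by
    obtain ⟨H, hH⟩ := hsub N hNt
    have hn : (H.map N.subtype).Normal := ⟨fun a ha g => by
      obtain ⟨h, hh, rfl⟩ := ha
      refine ⟨⟨g * h * g⁻¹, hN.conj_mem _ h.2 g⟩, ?_, rfl⟩
      rw [hH] at hh ⊢
      refine Subtype.ext ?_
      show (g * (h : G) * g⁻¹) ^ p = 1
      rw [conj_pow, show (h : G) ^ p = 1 from congrArg Subtype.val hh, mul_one, mul_inv_cancel]⟩
    rcases hNmin _ hn (Subgroup.map_subtype_le _) with h | h
    · obtain ⟨x, hx⟩ := exists_prime_orderOf_dvd_card' p hd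
      have hx' : (x : G) ∈ H.map N.subtype := ⟨x, by rw [hH]; exact hx ▸ pow_orderOf_eq_one x, rfl⟩
      rw [h, Subgroup.mem_bot, OneMemClass.coe_eq_one] at hx'
      rw [hx', orderOf_one] at hx
      exact (Fact.out : p.Prime).ne_one hx.symm
    · have hNp : IsPGroup p N := fun x => by
        obtain ⟨y, hy, hyx⟩ : (x : G) ∈ H.map N.subtype := h.ge x.2
        rw [hH] at hy
        exact ⟨1, by rw [pow_one, ← Subtype.ext hyx]; exact hy⟩
      refine hnp fun g => ?_
      obtain ⟨k, hk⟩ := hq' N hNb (QuotientGroup.mk' N g)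
      rw [← map_pow] at hk
      obtain ⟨l, hl⟩ := hNp ⟨g ^ p ^ k, (QuotientGroup.eq_one_iff _).mp hk⟩
      exact ⟨k + l, by rw [pow_add, pow_mul]; exact congrArg Subtype.val hl⟩
  have hexp : ∀ g : G, (∃ k, g ^ p ^ k = 1) → g ^ p = 1 := fun g hg => by
    obtain ⟨k, hk⟩ := hg
    obtain ⟨H, hH⟩ := hquo N hNb
    have hQ := hq' N hNb
    have hgp : g ^ p ∈ N := by
      have h1 : (QuotientGroup.mk' N g) ∈ (H : Set (G ⧸ N)) := by
        have hle : Subgroup.closure {g : G | g ^ p = 1} ≤ H.comap (QuotientGroup.mk' N) := by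
          rw [Subgroup.closure_le]
          intro y (hy : y ^ p = 1)
          show QuotientGroup.mk' N y ∈ (H : Set (G ⧸ N))
          rw [hH, Set.mem_setOf_eq, ← map_pow, hy, map_one]
        exact hle (hgen ▸ Subgroup.mem_top g)
      rw [hH, Set.mem_setOf_eq, ← map_pow] at h1
      exact (QuotientGroup.eq_one_iff _).mp h1
    by_contra hne
    obtain ⟨j, hj, hjo⟩ := (Nat.dvd_prime_pow (Fact.out : p.Prime)).mp (orderOf_dvd_of_pow_eq_one (show (g ^ p) ^ p ^ k = 1 by rw [← pow_mul, mul_comm, pow_mul, hk, one_pow]))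
    cases j with
    | zero => exact hne (orderOf_eq_one_iff.mp (hjo.trans (pow_zero p)))
    | succ j => exact hpN ((hjo ▸ dvd_pow_self p j.succ_ne_zero).trans (Subgroup.orderOf_dvd_natCard N hgp))
  refine Cfsg.Agent.S3868.result (fun hc => ?_) (fun K hK R => ?_) (fun M _ hM R => ?_) hns
  · -- a normal Sylow subgroup would give closure
    obtain ⟨P⟩ : Nonempty (Sylow p G) := inferInstance
    have hPn := hc P
    have := Sylow.unique_of_normal P hPn
    refine hnc ⟨(P : Subgroup G), Set.ext fun g => ⟨fun hg => ?_, fun (hg : g ^ p = 1) => ?_⟩⟩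
    · obtain ⟨k, hk⟩ := P.isPGroup' ⟨g, hg⟩
      exact hexp g ⟨k, congrArg Subtype.val hk⟩
    · obtain ⟨S, hS⟩ := (show IsPGroup p (Subgroup.zpowers g) from fun y => ⟨1, by
        obtain ⟨i, hi⟩ := Subgroup.mem_zpowers_iff.mp y.2
        refine Subtype.ext ?_
        rw [pow_one, SubgroupClass.coe_pow, ← hi, ← zpow_natCast, ← zpow_mul, mul_comm, zpow_mul, zpow_natCast, hg, one_zpow]
        rfl⟩).exists_le_sylow
      rw [Subsingleton.elim P S]
      exact hS (Subgroup.mem_zpowers g)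
  · obtain ⟨H, hH⟩ := hsub K hK
    have hle : (R : Subgroup K) ≤ H := fun r hr => by
      show r ∈ (H : Set K)
      rw [hH, Set.mem_setOf_eq]
      obtain ⟨k, hk⟩ := R.isPGroup' ⟨r, hr⟩
      exact Subtype.ext (hexp r ⟨k, congrArg (fun t : (R : Subgroup K) => ((t : K) : G)) hk⟩)
    have hHp : IsPGroup p H := fun h => ⟨1, by
      have : (h : K) ∈ (H : Set K) := h.2
      rw [hH] at this
      rw [pow_one]
      exact Subtype.ext this⟩
    have hEq : H = (R : Subgroup K) := R.is_maximal' hHp hle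
    rw [← hEq]
    refine ⟨fun a ha g => ?_⟩
    have h1 : a ∈ (H : Set K) := ha
    show g * a * g⁻¹ ∈ (H : Set K)
    rw [hH] at h1 ⊢
    show (g * a * g⁻¹) ^ p = 1
    rw [conj_pow, show a ^ p = 1 from h1, mul_one, mul_inv_cancel]
  · have hR : (R : Subgroup (G ⧸ M)) = ⊤ := by
      obtain ⟨k, hk⟩ := IsPGroup.iff_card.mp (hq' M hM)
      refine Subgroup.eq_top_of_card_eq _ ?_
      rw [R.card_eq_multiplicity, hk, (Fact.out : p.Prime).factorization_pow, Finsupp.single_eq_same]
    rw [hR]; infer_instance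

end Cfsg.Agent.S3873
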