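import Cfsg.Statements.S3878
import Mathlib
import Cfsg.Agent.Lib.Perm.PrimeDegree
import Cfsg.Agent.Lib.SmallSimple.EightSubgroups
-- import your own Cfsg.Agent.* helpers here

set_option autoImplicit false
open Cfsg

namespace Cfsg.Agent.S3878

namespace Aux

open Equiv

/-- `(m p)!` is divisible by `p ^ m`. -/
theorem pow_dvd_factorial (p m : ℕ) (hp : 1 ≤ p) : p ^ m ∣ (m * p).factorial := by
  induction m with
  | zero => simp
  | succ m ih =>
    have h : (m + 1) * p = ((m + 1) * p - 1) + 1 := by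
      have : 0 < (m + 1) * p := by positivity
      omega
    rw [h, Nat.factorial_succ, ← h, pow_succ, mul_comm]
    refine mul_dvd_mul (dvd_mul_left p _) (ih.trans (Nat.factorial_dvd_factorial ?_))
    rw [Nat.succ_mul]; omega

theorem two_mul_pow_gt {p m : ℕ} (hp : 3 ≤ p) (hm : 1 ≤ m) : (m + 1) * p ≤ 2 * p ^ m := by
  induction m, hm using Nat.le_induction with
  | base => simp
  | succ m hm ih =>
    have h1 : 3 * (2 * p ^ m) ≤ p * (2 * p ^ m) := Nat.mul_le_mul_right _ hp
    have h2 : p ≤ 2 * p ^ m := le_trans (Nat.le_self_pow (by omega) p) (Nat.le_mul_of_pos_left _ two_pos)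
    rw [pow_succ', Nat.succ_mul]
    nlinarith

/-- A transitive subgroup of prime degree without swapping of a pair is affine. -/
theorem pPart_dvd {q : ℕ} [Fact q.Prime] {p : ℕ} [Fact p.Prime] (hpq : p ≠ q)
    (H : Subgroup (Perm (Fin q))) (hodd : Odd (Nat.card H)) (hqH : q ∣ Nat.card H) (P : Sylow p H) :
    Nat.card P ∣ q - 1 := by
  have hq : q.Prime := Fact.out
  haveI : MulAction.IsPretransitive H (Fin q) := by
    obtain ⟨σ, hσ⟩ := exists_prime_orderOf_dvd_card' q hqH
    have hcyc : (σ : Perm (Fin q)).IsCycle :=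
      Perm.isCycle_of_prime_order'' (by rwa [Fintype.card_fin]) (by rw [Subgroup.orderOf_coe, hσ, Fintype.card_fin])
    have hsup : (σ : Perm (Fin q)).support = Finset.univ :=
      Finset.eq_univ_of_card _ (by rw [← hcyc.orderOf, Subgroup.orderOf_coe, hσ, Fintype.card_fin])
    refine ⟨fun x y => ?_⟩
    obtain ⟨i, hi⟩ := hcyc.exists_pow_eq (Perm.mem_support.mp (hsup ▸ Finset.mem_univ x))
      (Perm.mem_support.mp (hsup ▸ Finset.mem_univ y))
    exact ⟨σ ^ i, hi⟩
  have h2 : ¬ MulAction.IsMultiplyPretransitive H (Fin q) 2 := by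
    intro h
    have h01 : (⟨0, hq.pos⟩ : Fin q) ≠ ⟨1, hq.one_lt⟩ := by simp
    obtain ⟨g, hg0, hg1⟩ := MulAction.is_two_pretransitive_iff.mp h h01 h01.symm
    obtain ⟨k, hk⟩ := hodd.of_dvd_nat (orderOf_dvd_natCard g)
    have hsq : ∀ n : ℕ, (g ^ 2) ^ n • (⟨0, hq.pos⟩ : Fin q) = ⟨0, hq.pos⟩ := by
      intro n
      induction n with
      | zero => simp
      | succ n ih => rw [pow_succ, mul_smul, show g ^ 2 • (⟨0, hq.pos⟩ : Fin q) = ⟨0, hq.pos⟩ by rw [pow_two, mul_smul, hg0, hg1], ih]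
    have e : (g ^ 2) ^ k * g = 1 := by rw [← pow_mul, ← pow_succ, ← hk, pow_orderOf_eq_one]
    have hk1 := hsq k
    rw [show (g ^ 2) ^ k = g⁻¹ from eq_inv_of_mul_eq_one_left e, inv_smul_eq_iff, hg0] at hk1
    exact h01 hk1
  obtain ⟨e, he⟩ := CfsgLib.PrimeDegree.affine_coordinates (G := H) (α := Fin q) (Nat.card_fin q) h2
  choose a b hab using he
  have key : ∀ g h : H, a (g * h) = a g * a h := fun g h => by
    have k : ∀ x, a (g * h) * x + b (g * h) = a g * (a h * x + b h) + b g := fun x =>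
      e.injective (by rw [← hab, mul_smul, hab, hab])
    have h0 := k 0
    have h1 := k 1
    simp only [mul_zero, zero_add, mul_one] at h0 h1
    linear_combination h1 - h0
  have ha1 : a 1 = 1 := by
    have k : ∀ x, a 1 * x + b 1 = x := fun x => e.injective (by rw [← hab, one_smul])
    have h0 := k 0
    have h1 := k 1
    simp only [mul_zero, zero_add, mul_one] at h0 h1
    linear_combination h1 - h0
  let f : H →* ZMod q := { toFun := a, map_one' := ha1, map_mul' := key }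
  have hinj : ∀ g : (P : Subgroup H), a g = 1 → g = 1 := by
    intro g hg
    have k : ∀ n : ℕ, ∀ x, ((g : H) ^ n) • e x = e (x + n * b g) := by
      intro n
      induction n with
      | zero => intro x; simp
      | succ n ih =>
        intro x
        rw [pow_succ', mul_smul, ih, hab, hg]
        push_cast
        ring_nf
    have hgq : (g : H) ^ q = 1 := by
      refine Subtype.ext (Equiv.ext fun y => ?_)
      obtain ⟨x, rfl⟩ := e.surjective y
      have := k q x
      rw [ZMod.natCast_self, zero_mul, add_zero] at this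
      exact this
    obtain ⟨j, hj⟩ := P.2 g
    refine Subtype.ext (orderOf_eq_one_iff.mp ?_)
    exact Nat.eq_one_of_dvd_coprimes (((Nat.coprime_primes Fact.out hq).mpr hpq).pow_left j)
      (orderOf_dvd_of_pow_eq_one (by simpa using congrArg Subtype.val hj)) (orderOf_dvd_of_pow_eq_one hgq)
  let φ : (P : Subgroup H) →* (ZMod q)ˣ := (f.comp (P : Subgroup H).subtype).toHomUnits
  have hφ : Function.Injective φ := by
    refine (injective_iff_map_eq_one φ).mpr fun g hg => hinj g ?_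
    have := congrArg Units.val hg
    rw [MonoidHom.coe_toHomUnits] at this
    simpa [f] using this
  have hd := Subgroup.card_dvd_of_injective φ hφ
  rwa [Nat.card_eq_fintype_card (α := (ZMod q)ˣ), ZMod.card_units] at hd

/-- A Hall subgroup of odd order is impossible in the prime degree symmetric group. -/
theorem not_E_odd {π : Set ℕ} {p q : ℕ} (hp : p.Prime) (hq : q.Prime) (hpπ : p ∈ π) (hqπ : q ∈ π) (hpq : p < q)
    (h2 : 2 ∉ π) : ¬ Cfsg.IsEPiGroup π (Perm (Fin q)) := by
  haveI := Fact.mk hp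
  haveI := Fact.mk hq
  rintro ⟨H, hH1, hH2⟩
  have hp3 : 3 ≤ p := by
    have := hp.two_le
    rcases eq_or_ne p 2 with rfl | h
    · exact absurd hpπ h2
    · omega
  have hqodd : Odd q := hq.odd_of_ne_two (by omega)
  have hodd : Odd (Nat.card H) := Nat.odd_iff.mpr (by
    by_contra h
    exact h2 (hH1 2 Nat.prime_two (Nat.dvd_of_mod_eq_zero (by omega))))
  have hcard : Nat.card H * H.index = q.factorial := by
    rw [Subgroup.card_mul_index, Nat.card_perm, Nat.card_fin]
  have hqH : q ∣ Nat.card H := (hq.dvd_mul.mp (hcard ▸ Nat.dvd_factorial hq.pos le_rfl)).resolve_right (hH2 q hq hqπ)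
  obtain ⟨P⟩ : Nonempty (Sylow p H) := inferInstance
  have h1 := pPart_dvd hpq.ne H hodd hqH P
  set m := q / p with hm
  have hm1 : 1 ≤ m := Nat.one_le_iff_ne_zero.mpr (Nat.div_ne_zero_iff.mpr ⟨hp.ne_zero, hpq.le⟩)
  have hlt : q < (m + 1) * p := by
    have h := Nat.lt_div_mul_add (a := q) hp.pos
    rw [Nat.succ_mul]; exact h
  have hpow : p ^ m ∣ Nat.card P := by
    have h3 : p ^ m ∣ Nat.card H := by
      refine Nat.Coprime.dvd_of_dvd_mul_right ?_ (hcard ▸ (pow_dvd_factorial p m hp.pos).trans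
        (Nat.factorial_dvd_factorial (Nat.div_mul_le_self q p)))
      exact ((hp.coprime_iff_not_dvd).mpr (hH2 p hp hpπ)).pow_left m
    rw [P.card_eq_multiplicity]
    exact pow_dvd_pow p ((hp.pow_dvd_iff_le_factorization Nat.card_pos.ne').mp h3)
  have heven : 2 * p ^ m ∣ q - 1 := by
    refine Nat.Coprime.mul_dvd_of_dvd_of_dvd ?_ ?_ (hpow.trans h1)
    · exact ((Nat.coprime_primes Nat.prime_two hp).mpr (by omega)).pow_right m
    · obtain ⟨k, hk⟩ := hqodd; omega
  have h4 := Nat.le_of_dvd (by omega) heven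
  have h5 := two_mul_pow_gt hp3 hm1
  omega

/-- A proper Hall subgroup of a symmetric group of prime degree contains no transposition. -/
theorem not_E_swap {π : Set ℕ} {r q : ℕ} (hr : r.Prime) (hq : q.Prime) (hqπ : q ∈ π) (hrπ : r ∉ π) (hrq : r < q)
    (h2 : 2 ∈ π) : ¬ Cfsg.IsEPiGroup π (Perm (Fin q)) := by
  classical
  rintro ⟨H, hH1, hH2⟩
  haveI := Fact.mk Nat.prime_two
  have hcard : Nat.card H * H.index = q.factorial := by
    rw [Subgroup.card_mul_index, Nat.card_perm, Nat.card_fin]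
  have hqH : q ∣ Nat.card H := (hq.dvd_mul.mp (hcard ▸ Nat.dvd_factorial hq.pos le_rfl)).resolve_right (hH2 q hq hqπ)
  obtain ⟨T⟩ : Nonempty (Sylow 2 H) := inferInstance
  have hT : IsPGroup 2 ((T : Subgroup H).map H.subtype) := T.2.map _
  have hTi : ¬ 2 ∣ ((T : Subgroup H).map H.subtype).index := by
    rw [Subgroup.index_map_subtype]
    exact fun h => (Nat.prime_two.dvd_mul.mp h).elim T.not_dvd_index (hH2 2 Nat.prime_two h2)
  let T' : Sylow 2 (Perm (Fin q)) := hT.toSylow hTi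
  set τ : Perm (Fin q) := Equiv.swap ⟨0, hq.pos⟩ ⟨1, hq.one_lt⟩ with hτ
  have hswap : τ.IsSwap := ⟨_, _, by simp, hτ⟩
  have hτp : IsPGroup 2 (Subgroup.zpowers τ) :=
    IsPGroup.of_card_dvd_pow (n := 1) (by rw [Nat.card_zpowers, pow_one]; exact orderOf_dvd_of_pow_eq_one (by rw [pow_two, hτ, Equiv.swap_mul_self]))
  obtain ⟨S, hS⟩ := hτp.exists_le_sylow
  obtain ⟨g, hg⟩ := MulAction.exists_smul_eq (Perm (Fin q)) S T'
  have hmem : g * τ * g⁻¹ ∈ H := by
    have h : g * τ * g⁻¹ ∈ ((g • S : Sylow 2 (Perm (Fin q))) : Subgroup (Perm (Fin q))) := by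
      rw [Sylow.coe_subgroup_smul, Subgroup.pointwise_smul_def]
      exact ⟨τ, hS (Subgroup.mem_zpowers τ), rfl⟩
    rw [hg] at h
    obtain ⟨x, -, hx⟩ := h
    exact hx ▸ x.2
  have hs' : (g * τ * g⁻¹).IsSwap := by
    obtain ⟨x, y, hxy, e⟩ := hswap
    refine ⟨g x, g y, fun h => hxy (g.injective h), ?_⟩
    rw [e, Equiv.mul_swap_eq_swap_mul, mul_inv_cancel_right]
  have htop : H = ⊤ := Perm.subgroup_eq_top_of_swap_mem (by rwa [Fintype.card_fin])
    (by rw [Fintype.card_fin, ← Nat.card_eq_fintype_card]; exact hqH) hmem hs'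
  refine hrπ (hH1 r hr ?_)
  rw [htop, Subgroup.card_top, Nat.card_perm, Nat.card_fin]
  exact Nat.dvd_factorial hr.pos hrq.le

/-- If exactly the primes below `r` matter, the symmetric group of degree `r + 1` has no Hall subgroup. -/
theorem not_E_succ {π : Set ℕ} {r : ℕ} (hr : r.Prime) (hr5 : 5 ≤ r) (hrπ : r ∉ π)
    (hlow : ∀ s : ℕ, s.Prime → s < r → s ∈ π) : ¬ Cfsg.IsEPiGroup π (Perm (Fin (r + 1))) := by
  rintro ⟨H, hH1, hH2⟩
  have hcard : Nat.card H * H.index = (r + 1).factorial := by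
    rw [Subgroup.card_mul_index, Nat.card_perm, Nat.card_fin]
  have hrH : ¬ r ∣ Nat.card H := fun h => hrπ (hH1 r hr h)
  have hrI : r ∣ H.index := (hr.dvd_mul.mp (hcard ▸ Nat.dvd_factorial hr.pos (by omega))).resolve_left hrH
  obtain ⟨t, ht⟩ := hrI
  have ht1 : t = 1 := by
    by_contra h
    obtain ⟨s, hs, hst⟩ := Nat.exists_prime_and_dvd h
    have hsd : s ∣ (r + 1).factorial := hcard ▸ (hst.trans (dvd_mul_left t r)).trans (ht ▸ dvd_mul_left _ _)
    have hsle := hs.dvd_factorial.mp hsd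
    have hsr : s = r := by
      rcases Nat.lt_or_ge s r with h' | h'
      · exact absurd (ht ▸ hst.trans (dvd_mul_left t r)) (hH2 s hs (hlow s hs h'))
      · rcases eq_or_lt_of_le h' with h'' | h''
        · exact h''.symm
        · have h1 := hs.odd_of_ne_two (by omega)
          have h2 := hr.odd_of_ne_two (by omega)
          rw [Nat.odd_iff] at h1 h2
          omega
    have h2d : r * r ∣ (r + 1).factorial := hcard ▸ (mul_dvd_mul_left r (hsr ▸ hst)).trans (ht ▸ dvd_mul_left _ _)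
    rw [Nat.factorial_succ, ← Nat.mul_factorial_pred hr.ne_zero] at h2d
    have : r * r ∣ r * ((r + 1) * (r - 1).factorial) := by
      rwa [mul_left_comm]
    rcases hr.dvd_mul.mp (Nat.dvd_of_mul_dvd_mul_left hr.pos this) with h' | h'
    · have := Nat.le_of_dvd (by omega) ((Nat.dvd_add_right (dvd_refl r)).mp h'); omega
    · have := hr.dvd_factorial.mp h'; omega
  have hidx : H.index = r := by rw [ht, ht1, mul_one]
  haveI : Nontrivial (Fin (r + 1)) := Fin.nontrivial_iff_two_le.mpr (by omega)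
  have hle : alternatingGroup (Fin (r + 1)) ≤ H := by
    refine CfsgLib.EightSubgroups.alternatingGroup_le_of_index (m := r + 1) (Fintype.card_fin _) (by omega) fun hd => ?_
    set j := ((H ⊓ alternatingGroup (Fin (r + 1))).subgroupOf (alternatingGroup (Fin (r + 1)))).index with hj
    have hjle : j ≤ r := by
      rw [hj, show ((H ⊓ alternatingGroup (Fin (r + 1))).subgroupOf (alternatingGroup (Fin (r + 1)))).index =
        (H ⊓ alternatingGroup (Fin (r + 1))).relIndex (alternatingGroup (Fin (r + 1))) from rfl,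
        Subgroup.inf_relIndex_right]
      exact le_of_le_of_eq ((Subgroup.relIndex_le_of_le_right le_top (by rw [Subgroup.relIndex_top_right, hidx]; omega)).trans (le_of_eq (Subgroup.relIndex_top_right H))) hidx
    have h1 := Nat.le_of_dvd (Nat.factorial_pos _) (hd.trans (Nat.factorial_dvd_factorial hjle))
    have h2 := CfsgLib.EightSubgroups.card_alt (α := Fin (r + 1)) (r + 1) (Fintype.card_fin _) (by omega)
    rw [Nat.factorial_succ] at h2
    have := Nat.factorial_pos r
    nlinarith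
  have := Subgroup.index_dvd_of_le hle
  rw [alternatingGroup.index_eq_two, hidx] at this
  have := Nat.le_of_dvd (by omega) this
  omega

theorem cases_of_E {π : Set ℕ} (h : ∀ (G : Type) [Group G] [Finite G], Cfsg.IsEPiGroup π G) :
    (∀ p q : ℕ, p.Prime → q.Prime → p ∈ π → q ∈ π → p = q) ∨ ∀ p : ℕ, p.Prime → p ∈ π := by
  classical
  by_contra hcon
  push Not at hcon
  obtain ⟨⟨p₀, q₀, hp₀, hq₀, hp₀π, hq₀π, hne⟩, r₀, hr₀, hr₀π⟩ := hcon
  by_cases h2 : 2 ∈ π
  · by_cases hex : ∃ q r, q.Prime ∧ r.Prime ∧ q ∈ π ∧ r ∉ π ∧ r < q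
    · obtain ⟨q, r, hq, hr, hqπ, hrπ, hrq⟩ := hex
      exact not_E_swap hr hq hqπ hrπ hrq h2 (h _)
    · push Not at hex
      have hP : ∃ r, r.Prime ∧ r ∉ π := ⟨r₀, hr₀, hr₀π⟩
      obtain ⟨hr, hrπ⟩ := Nat.find_spec hP
      refine not_E_succ hr ?_ hrπ (fun s hs hsr => by_contra fun hsπ => Nat.find_min hP hsr ⟨hs, hsπ⟩) (h _)
      obtain ⟨q, hq, hqπ, hq2⟩ : ∃ q, q.Prime ∧ q ∈ π ∧ q ≠ 2 := by
        rcases eq_or_ne p₀ 2 with rfl | h'
        · exact ⟨q₀, hq₀, hq₀π, hne.symm⟩
        · exact ⟨p₀, hp₀, hp₀π, h'⟩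
      have h1 := hex q _ hq hr hqπ hrπ
      have h3 : q ≠ Nat.find hP := fun e => hrπ (e ▸ hqπ)
      have := hq.two_le
      have h4 : Nat.find hP ≠ 4 := fun e => by rw [e] at hr; norm_num at hr
      omega
  · rcases lt_or_gt_of_ne hne with hlt | hlt
    · exact not_E_odd hp₀ hq₀ hp₀π hq₀π hlt h2 (h _)
    · exact not_E_odd hq₀ hp₀ hq₀π hp₀π hlt h2 (h _)

theorem E_of_D {π : Set ℕ} {G : Type} [Group G] [Finite G] (h : Cfsg.IsDPiGroup π G) : Cfsg.IsEPiGroup π G := by
  obtain ⟨H, -, hH⟩ := Finite.exists_le_maximal (p := Cfsg.IsPiSubgroup π) (a := (⊥ : Subgroup G))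
    (fun p hp hd => absurd hd (by simp [hp.not_dvd_one]))
  refine ⟨H, hH.prop, fun p hp hpπ hd => ?_⟩
  haveI := Fact.mk hp
  obtain ⟨P⟩ : Nonempty (Sylow p G) := inferInstance
  obtain ⟨M, hPM, hM⟩ := Finite.exists_le_maximal (p := Cfsg.IsPiSubgroup π) (a := (P : Subgroup G)) (fun s hs hd' => by
    obtain ⟨k, hk⟩ := IsPGroup.iff_card.mp P.2
    rw [hk] at hd'
    exact (Nat.prime_dvd_prime_iff_eq hs hp).mp (hs.dvd_of_dvd_pow hd') ▸ hpπ)
  obtain ⟨g, hg⟩ := h M H hM hH
  refine P.not_dvd_index (dvd_trans ?_ (Subgroup.index_dvd_of_le hPM))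
  have e : H.index = M.index := by rw [hg]; exact Subgroup.index_map_equiv _ (MulAut.conj g)
  exact e ▸ hd

theorem conv {π : Set ℕ} (h : (∀ p q : ℕ, p.Prime → q.Prime → p ∈ π → q ∈ π → p = q) ∨ ∀ p : ℕ, p.Prime → p ∈ π)
    (G : Type) [Group G] [Finite G] : Cfsg.IsDPiGroup π G := by
  intro H K hH hK
  rcases h with h | h
  · by_cases hex : ∃ p : ℕ, p.Prime ∧ p ∈ π
    · obtain ⟨p, hp, hpπ⟩ := hex
      haveI := Fact.mk hp
      have hsyl : ∀ X : Subgroup G, Maximal (Cfsg.IsPiSubgroup π) X → ∃ P : Sylow p G, X = P := by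
        intro X hX
        have hXp : IsPGroup p X := by
          refine IsPGroup.of_card (n := (Nat.card X).primeFactorsList.length) ?_
          exact Nat.eq_prime_pow_of_unique_prime_dvd Nat.card_pos.ne' fun {s} hs hd => h s p hs hp (hX.prop s hs hd) hpπ
        obtain ⟨P, hP⟩ := hXp.exists_le_sylow
        refine ⟨P, le_antisymm hP (hX.2 (fun s hs hd => ?_) hP)⟩
        obtain ⟨k, hk⟩ := IsPGroup.iff_card.mp P.2
        rw [hk] at hd
        exact (Nat.prime_dvd_prime_iff_eq hs hp).mp (hs.dvd_of_dvd_pow hd) ▸ hpπ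
      obtain ⟨P, rfl⟩ := hsyl H hH
      obtain ⟨Q, rfl⟩ := hsyl K hK
      obtain ⟨g, rfl⟩ := MulAction.exists_smul_eq G P Q
      exact ⟨g, by rw [Sylow.coe_subgroup_smul, Subgroup.pointwise_smul_def]; rfl⟩
    · push Not at hex
      have hbot : ∀ X : Subgroup G, Maximal (Cfsg.IsPiSubgroup π) X → X = ⊥ := fun X hX => by
        by_contra hne
        obtain ⟨s, hs, hd⟩ := Nat.exists_prime_and_dvd (mt (Subgroup.card_eq_one).mp hne)
        exact hex s hs (hX.prop s hs hd)
      exact ⟨1, by rw [hbot H hH, hbot K hK, Subgroup.map_bot]⟩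
  · have htop : ∀ X : Subgroup G, Maximal (Cfsg.IsPiSubgroup π) X → X = ⊤ :=
      fun X hX => top_le_iff.mp (hX.2 (fun s hs _ => h s hs) le_top)
    exact ⟨1, by rw [htop H hH, htop K hK]; exact (Subgroup.map_top_of_surjective _ (MulAut.conj (1 : G)).surjective).symm⟩

end Aux

/-- For a set of primes π the following are equivalent: every finite group has a Hall π-subgroup; in every finite group the maximal π-subgroups are pairwise conjugate; π contains at most one prime or contains every prime. -/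
theorem result (π : Set ℕ) :
    ((∀ (G : Type) [Group G] [Finite G], Cfsg.IsEPiGroup π G) ↔
      ((∀ p q : ℕ, p.Prime → q.Prime → p ∈ π → q ∈ π → p = q) ∨ ∀ p : ℕ, p.Prime → p ∈ π)) ∧
    ((∀ (G : Type) [Group G] [Finite G], Cfsg.IsDPiGroup π G) ↔
      ((∀ p q : ℕ, p.Prime → q.Prime → p ∈ π → q ∈ π → p = q) ∨ ∀ p : ℕ, p.Prime → p ∈ π)) := by
  refine ⟨⟨Aux.cases_of_E, fun h G _ _ => Aux.E_of_D (Aux.conv h G)⟩,
    ⟨fun h => Aux.cases_of_E fun G _ _ => Aux.E_of_D (h G), fun h G _ _ => Aux.conv h G⟩⟩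

end Cfsg.Agent.S3878
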