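import Cfsg.Statements.S3883
import Mathlib
import Cfsg.Agent.Lib.MetacyclicCount
-- import your own Cfsg.Agent.* helpers here

set_option autoImplicit false
open Cfsg

namespace Cfsg.Agent.S3883

open CfsgLib.Metacyclic CfsgLib.CentrallyLarge

/-- Let p be an odd prime and G a finite metacyclic p-group (G has a cyclic normal subgroup with cyclic quotient). Suppose G is non-abelian. Then an element g of G lies outside the Frattini subgroup if and only if its centralizer C_G(g) is abelian. -/
theorem result {G : Type*} [Group G] [Finite G] {p : ℕ} [Fact p.Prime] (hp : p ≠ 2) (hG : IsPGroup p G) (hmc : Cfsg.IsMetacyclic G) (hna : ¬ IsMulCommutative G) (g : G) :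
    g ∉ frattini G ↔ IsMulCommutative ↥(Subgroup.centralizer ({g} : Set G)) := by
  obtain ⟨D⟩ := exists_data hp hG hmc
  have hp' : p.Prime := Fact.out
  have hn : 1 ≤ D.n := by
    by_contra hc
    have h1 := D.card_commutator
    rw [show D.n = 0 by omega, pow_zero, Subgroup.card_eq_one] at h1
    refine hna ⟨⟨fun a b => ?_⟩⟩
    have h2 := (Subgroup.commutator_eq_bot_iff_le_centralizer.mp h1) (Subgroup.mem_top a)
    exact (Subgroup.mem_centralizer_iff.mp h2 b (Subgroup.mem_top b)).symm
  rw [D.frattini_eq hn, D.mem_powers_iff 1 hn, ← D.smul_eq_zero_iff_exists hn, ← D.addOrderOf_le_iff,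
    ← D.index_centralizer_singleton]
  set C := Subgroup.centralizer ({g} : Set G)
  have hcm : Nat.card C * C.index = Nat.card (Subgroup.center G) * (p ^ D.n * p ^ D.n) := by
    rw [C.card_mul_index, D.card_group, two_mul, pow_add]
  constructor
  · intro h
    by_contra hc
    have h1 := D.lt_card_of_not_comm hc
    obtain ⟨k, hk⟩ := D.hpG.index C
    rw [hk] at hcm h
    have hk' : D.n ≤ k := by
      by_contra hk'
      exact h (Nat.pow_le_pow_right hp'.pos (by omega))
    have h2 : Nat.card C * p ^ D.n ≤ Nat.card C * p ^ k := Nat.mul_le_mul_left _ (Nat.pow_le_pow_right hp'.pos hk')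
    rw [hcm, ← mul_assoc] at h2
    exact h1.not_ge (Nat.le_of_mul_le_mul_right h2 (pow_pos hp'.pos _))
  · intro h hle
    have h1 := Nat.mul_le_mul (D.card_le_of_comm h) hle
    rw [hcm, mul_assoc] at h1
    have h2 := Nat.le_of_mul_le_mul_left (Nat.le_of_mul_le_mul_left h1 Nat.card_pos) (pow_pos hp'.pos _)
    exact absurd h2 (not_le.mpr (Nat.pow_lt_pow_right hp'.one_lt (by omega)))

end Cfsg.Agent.S3883
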