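import Cfsg.Statements.S3886
import Mathlib
import Cfsg.Agent.Lib.MetacyclicCount
-- import your own Cfsg.Agent.* helpers here

set_option autoImplicit false
open Cfsg

namespace Cfsg.Agent.S3886

open CfsgLib.Metacyclic CfsgLib.CentrallyLarge

/-- Let p be an odd prime and G a finite metacyclic p-group (G has a cyclic normal subgroup with cyclic quotient). Then the largest value of |R| · |Z(R)| over subgroups R of G is |G : G'|², and the subgroups attaining it (the centrally large subgroups) are exactly the non-abelian subgroups together with the maximal abelian subgroups of G. -/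
theorem result {G : Type*} [Group G] [Finite G] {p : ℕ} [Fact p.Prime] (hp : p ≠ 2) (hG : IsPGroup p G) (hmc : Cfsg.IsMetacyclic G) : Cfsg.maxCentralProduct G = (commutator G).index ^ 2 ∧
    ∀ R : Subgroup G, Cfsg.IsCentrallyLarge R ↔ (¬ IsMulCommutative ↥R ∨ Maximal (fun K : Subgroup G => IsMulCommutative ↥K) R) := by
  obtain ⟨D⟩ := exists_data hp hG hmc
  refine ⟨by rw [D.maxCentralProduct_eq', D.index_commutator], fun R => ?_⟩
  rw [CfsgLib.CentrallyLarge.isCentrallyLarge_iff, D.large_iff]
  constructor
  · rintro ⟨hZ, hle⟩
    by_cases hc : IsMulCommutative R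
    · refine Or.inr ⟨hc, fun K hK hle' x hx => hle ?_⟩
      have := Subgroup.le_centralizer_iff_isMulCommutative.mpr hK
      exact Subgroup.centralizer_le (SetLike.coe_subset_coe.mpr hle') (this hx)
    · exact Or.inl hc
  · rintro (h | h)
    · exact ⟨D.center_le_of_not_comm h, D.centralizer_le_of_not_comm h⟩
    · have hc := Data.centralizer_eq_of_maximal h
      exact ⟨hc ▸ Subgroup.center_le_centralizer _, hc.le⟩

end Cfsg.Agent.S3886
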