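import Cfsg.Statements.S3889
import Mathlib
-- import your own Cfsg.Agent.* helpers here

set_option autoImplicit false
open Cfsg

namespace Cfsg.Agent.S3889

/-- A finite abelian group that is the union of a family of proper subgroups any two of which intersect trivially is elementary abelian: its exponent is a prime. -/
theorem result {G : Type*} [CommGroup G] [Finite G] (𝓑 : Set (Subgroup G)) (hprop : ∀ B ∈ 𝓑, B ≠ ⊤)
    (hcov : ∀ g : G, ∃ B ∈ 𝓑, g ∈ B) (hdisj : ∀ B ∈ 𝓑, ∀ C ∈ 𝓑, B ≠ C → B ⊓ C = ⊥) :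
    (Monoid.exponent G).Prime := by
  have hpair : ∀ g h : G, g ≠ 1 → (∀ B ∈ 𝓑, g ∈ B → h ∉ B) → orderOf h ∣ orderOf g := by
    intro g h hg hgh
    obtain ⟨B, hB, hgB⟩ := hcov g
    obtain ⟨C, hC, hhC⟩ := hcov h
    obtain ⟨D, hD, hD'⟩ := hcov (g * h)
    have hDC : D ≠ C := fun e => by
      subst e
      have h1 := mul_mem hD' (inv_mem hhC)
      rw [mul_inv_cancel_right] at h1
      exact hgh D hD h1 hhC
    have h1 : h ^ orderOf g ∈ D ⊓ C := by
      refine Subgroup.mem_inf.mpr ⟨?_, pow_mem hhC _⟩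
      have := pow_mem hD' (orderOf g)
      rwa [mul_pow, pow_orderOf_eq_one, one_mul] at this
    rw [hdisj D hD C hC hDC, Subgroup.mem_bot] at h1
    exact orderOf_dvd_of_pow_eq_one h1
  obtain ⟨B₀, hB₀, -⟩ := hcov 1
  obtain ⟨u, -, hu⟩ := SetLike.exists_of_lt (lt_top_iff_ne_top.mpr (hprop B₀ hB₀))
  have hu1 : u ≠ 1 := fun e => hu (e ▸ one_mem _)
  have hsame : ∀ g : G, g ≠ 1 → ∀ B ∈ 𝓑, g ∈ B → ∀ h, h ∉ B → orderOf h = orderOf g := by
    intro g hg B hB hgB h hh
    have hh1 : h ≠ 1 := fun e => hh (e ▸ one_mem _)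
    have huniq : ∀ C ∈ 𝓑, g ∈ C → C = B := fun C hC hgC => Classical.byContradiction fun hne => hg (by
      rw [← Subgroup.mem_bot, ← hdisj C hC B hB hne]; exact Subgroup.mem_inf.mpr ⟨hgC, hgB⟩)
    exact Nat.dvd_antisymm (hpair g h hg fun C hC hgC => (huniq C hC hgC) ▸ hh)
      (hpair h g hh1 fun C hC hhC hgC => hh (huniq C hC hgC ▸ hhC))
  have hprime : ∀ g : G, g ≠ 1 → (orderOf g).Prime := by
    intro g hg
    obtain ⟨B, hB, hgB⟩ := hcov g
    obtain ⟨h, -, hh⟩ := SetLike.exists_of_lt (lt_top_iff_ne_top.mpr (hprop B hB))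
    obtain ⟨p, hp, hpd⟩ := Nat.exists_prime_and_dvd (fun e => hg (orderOf_eq_one_iff.mp e))
    have hop : orderOf (g ^ (orderOf g / p)) = p := orderOf_pow_orderOf_div (orderOf_pos g).ne' hpd
    have hne : g ^ (orderOf g / p) ≠ 1 := fun e => by rw [e, orderOf_one] at hop; exact hp.ne_one hop.symm
    have h1 := hsame _ hne B hB (pow_mem hgB _) h hh
    have h2 := hsame g hg B hB hgB h hh
    rw [hop] at h1
    rw [← h2, h1]
    exact hp
  have hall : ∀ g : G, g ≠ 1 → orderOf g = orderOf u := by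
    intro g hg
    obtain ⟨B, hB, hgB⟩ := hcov g
    by_cases huB : u ∈ B
    · obtain ⟨h, -, hh⟩ := SetLike.exists_of_lt (lt_top_iff_ne_top.mpr (hprop B hB))
      rw [← hsame g hg B hB hgB h hh, ← hsame u hu1 B hB huB h hh]
    · exact (hsame g hg B hB hgB u huB).symm
  have he : Monoid.exponent G = orderOf u := by
    refine Nat.dvd_antisymm (Monoid.exponent_dvd_of_forall_pow_eq_one fun g => ?_) (Monoid.order_dvd_exponent u)
    rcases eq_or_ne g 1 with rfl | hg
    · exact one_pow _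
    · rw [← hall g hg, pow_orderOf_eq_one]
  rw [he]
  exact hprime u hu1

end Cfsg.Agent.S3889
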