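import Cfsg.Statements.S3891
import Mathlib
import Cfsg.Agent.Lib.NilpotentCover
-- import your own Cfsg.Agent.* helpers here

set_option autoImplicit false
open Cfsg

namespace Cfsg.Agent.S3891

open scoped Pointwise

/-- A cover of a group is a finite set of proper subgroups whose union is the whole group; it is minimal when no cover has fewer members, and nilpotent when all its members are nilpotent. Let G be a finite group with trivial center admitting a nilpotent minimal cover, and let P be a non-normal Sylow p-subgroup of G that is cyclic, or abelian but not elementary abelian. Then the centralizer of P is nilpotent and the normalizer of P is the unique maximal subgroup of G containing the centralizer of P. -/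
theorem result {G : Type*} [Group G] [Finite G] (hZ : Subgroup.center G = ⊥) (𝓐 : Finset (Subgroup G))
    (h𝓐 : ((∀ A ∈ 𝓐, A ≠ ⊤) ∧ (∀ g : G, ∃ A ∈ 𝓐, g ∈ A)) ∧ (∀ 𝓑 : Finset (Subgroup G), (∀ A ∈ 𝓑, A ≠ ⊤) ∧ (∀ g : G, ∃ A ∈ 𝓑, g ∈ A) → 𝓐.card ≤ 𝓑.card) ∧ (∀ A ∈ 𝓐, Group.IsNilpotent ↥A)) {p : ℕ} [Fact p.Prime] (P : Sylow p G)
    (hP : IsCyclic ↥(P : Subgroup G) ∨ (IsMulCommutative ↥(P : Subgroup G) ∧ ¬ Cfsg.IsElementaryAbelian p (P : Subgroup G)))
    (hnn : ¬ (P : Subgroup G).Normal) :
    Group.IsNilpotent ↥(Subgroup.centralizer ((P : Subgroup G) : Set G)) ∧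
      IsCoatom (Subgroup.normalizer ((P : Subgroup G) : Set G)) ∧
      ∀ M : Subgroup G, IsCoatom M → Subgroup.centralizer ((P : Subgroup G) : Set G) ≤ M →
        M = Subgroup.normalizer ((P : Subgroup G) : Set G) := by
  classical
  have hab : IsMulCommutative (P : Subgroup G) := by
    rcases hP with h | h
    · exact inferInstance
    · exact h.1
  have hall' : ∀ Q : Sylow p G, IsMulCommutative (Q : Subgroup G) := fun Q => by
    obtain ⟨g, rfl⟩ := MulAction.exists_smul_eq G P Q
    refine ⟨⟨fun a b => Subtype.ext ?_⟩⟩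
    have ha := a.2
    have hb := b.2
    simp only [Sylow.coe_subgroup_smul, Subgroup.mem_pointwise_smul_iff_inv_smul_mem] at ha hb
    apply (MulAut.conj g)⁻¹.injective
    rw [Subgroup.coe_mul, Subgroup.coe_mul, map_mul, map_mul]
    exact congrArg Subtype.val (hab.is_comm.comm ⟨_, ha⟩ ⟨_, hb⟩)
  have hne : (P : Subgroup G) ≠ ⊥ := fun e => hnn (e ▸ inferInstance)
  have hel : ¬ (Cfsg.IsElementaryAbelian p (P : Subgroup G) ∧ p < Nat.card ↥(P : Subgroup G)) := by
    rintro ⟨he, hlt⟩
    rcases hP with h | h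
    · have h1 : Nat.card ↥(P : Subgroup G) ∣ p := by
        rw [← IsCyclic.exponent_eq_card (α := ↥(P : Subgroup G))]
        exact Monoid.exponent_dvd_of_forall_pow_eq_one fun u => Subtype.ext (he.2 u u.2)
      exact absurd (Nat.le_of_dvd (Fact.out : p.Prime).pos h1) (not_le.mpr hlt)
    · exact h.2 he
  have hall : ∀ Q : Sylow p G, ∃ B ∈ 𝓐, (Q : Subgroup G) ≤ B := by
    intro Q
    obtain ⟨g, rfl⟩ := MulAction.exists_smul_eq G P Q
    rcases CfsgLib.NilpotentCover.elementary_or_le hall' h𝓐 hZ (g • P)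
      (by rw [Sylow.coe_subgroup_smul]; exact fun e => hne ((Subgroup.map_eq_bot_iff_of_injective _ (MulAut.conj g).injective).mp e))
      with h | h
    · exfalso
      apply hel
      have hc : Nat.card ↥((g • P : Sylow p G) : Subgroup G) = Nat.card ↥(P : Subgroup G) := by
        rw [Sylow.coe_subgroup_smul]; exact (Nat.card_congr (Subgroup.equivSMul (MulAut.conj g) (P : Subgroup G)).toEquiv).symm
      refine ⟨⟨hab, fun a ha => ?_⟩, hc ▸ h.2⟩
      have h2 := h.1.2 (g * a * g⁻¹) (by
        rw [Sylow.coe_subgroup_smul]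
        exact Subgroup.smul_mem_pointwise_smul a (MulAut.conj g) _ ha)
      rw [conj_pow] at h2
      simpa [mul_assoc] using congrArg (fun t => g⁻¹ * t * g) h2
    · exact h
  obtain ⟨h1, -, h3⟩ := CfsgLib.NilpotentCover.structure_of_le hall' h𝓐 hZ hall P hnn
  obtain ⟨A, hA, hPA⟩ := hall P
  exact ⟨(CfsgLib.NilpotentCover.centralizer_eq hall' h𝓐 hZ P hne hA hPA).symm ▸ h𝓐.2.2 A hA, h1, h3⟩

end Cfsg.Agent.S3891
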