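import Cfsg.Statements.S3893
import Cfsg.Agent.Lib.Suzuki.Degrees.Setup
import Cfsg.Agent.Lib.Suzuki.Lie

set_option autoImplicit false
open Cfsg

namespace Cfsg.Agent.S3893

open CfsgLib.Suzuki

variable {F : Type*} [Field F] [Fintype F] {m : ℕ}

set_option quotPrecheck false in
local notation "𝔾" => ↥(Cfsg.Sz F m)

theorem nilp_eq_torus (hF : Fintype.card F = 2 ^ (2 * m + 1)) (hm : 1 ≤ m) {t : Fˣ} (ht : t ≠ 1)
    (hgen : ∀ s : Fˣ, s ∈ Subgroup.zpowers t) (A : Subgroup 𝔾) (hA : Group.IsNilpotent A)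
    (hta : dS hF t ∈ A) : A = T hF := by
  apply le_antisymm
  · have : Nontrivial A := Subgroup.nontrivial_iff_exists_ne_one A |>.mpr ⟨_, hta, fun e => ht (by
      have hd : dS hF t = dS hF (1 : Fˣ) := e.trans (dS_one hF).symm
      exact dEl_injective (congrArg Subtype.val hd))⟩
    have hzne : Subgroup.center A ≠ ⊥ := Group.IsNilpotent.center_ne_bot A
    obtain ⟨z, hz1⟩ := (Subgroup.ne_bot_iff_exists_ne_one.mp hzne)
    have hz1 : ((z : A) : 𝔾) ≠ 1 := fun e => hz1 (Subtype.ext (Subtype.ext e))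
    have hzT : ((z : A) : 𝔾) ∈ T hF := by
      rw [← centralizer_torus hF hm ht, Subgroup.mem_centralizer_singleton_iff]
      exact (congrArg Subtype.val (Subgroup.mem_center_iff.mp z.2 ⟨_, hta⟩)).symm
    obtain ⟨s, hs⟩ := (mem_T hF).mp hzT
    have hs1 : s ≠ 1 := fun e => hz1 (by rw [hs, e, dS_one])
    intro a ha
    rw [← centralizer_torus hF hm hs1, Subgroup.mem_centralizer_singleton_iff, ← hs]
    exact congrArg Subtype.val (Subgroup.mem_center_iff.mp z.2 ⟨a, ha⟩)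
  · intro g hg
    obtain ⟨s, rfl⟩ := (mem_T hF).mp hg
    obtain ⟨k, rfl⟩ := Subgroup.mem_zpowers_iff.mp (hgen s)
    have : dS hF (t ^ k) = dS hF t ^ k := map_zpow (dHomS hF) t k
    rw [this]
    exact A.zpow_mem hta k

theorem core (hF : Fintype.card F = 2 ^ (2 * m + 1)) (hm : 1 ≤ m)
    (𝓐 : Finset (Subgroup 𝔾)) (hprop : ∀ A ∈ 𝓐, A ≠ ⊤) (hcov : ∀ g : 𝔾, ∃ A ∈ 𝓐, g ∈ A)
    (hmin : ∀ 𝓑 : Finset (Subgroup 𝔾), (∀ A ∈ 𝓑, A ≠ ⊤) → (∀ g : 𝔾, ∃ A ∈ 𝓑, g ∈ A) → 𝓐.card ≤ 𝓑.card)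
    (hnil : ∀ A ∈ 𝓐, Group.IsNilpotent A) : False := by
  classical
  haveI : MulAction.IsPretransitive 𝔾 ↥(suzukiOvoid F m) := by
    haveI := two_transitive hF (F := F) (m := m)
    exact MulAction.isPretransitive_of_is_two_pretransitive
  have : Fintype ↥(suzukiOvoid F m) := Fintype.ofFinite _
  have : Fintype 𝔾 := Fintype.ofFinite _
  set q := 2 ^ (2 * m + 1) with hq
  have hq8 : 8 ≤ q := by
    have := Nat.pow_le_pow_right (n := 2) two_pos (show 3 ≤ 2 * m + 1 by omega)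
    simpa [hq] using this
  -- a generator of the torus
  obtain ⟨t, hgen⟩ := IsCyclic.exists_generator (α := Fˣ)
  have ht : t ≠ 1 := by
    intro e
    have : Fintype.card Fˣ ≤ 1 := Fintype.card_le_one_iff.mpr fun a b => by
      have h : ∀ x : Fˣ, x = 1 := fun x => by
        obtain ⟨k, hk⟩ := Subgroup.mem_zpowers_iff.mp (hgen x)
        rw [← hk, e, one_zpow]
      rw [h a, h b]
    rw [Fintype.card_units, hF] at this
    omega
  set N := Subgroup.normalizer (T hF : Set 𝔾) with hN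
  have : Fintype (𝔾 ⧸ N) := Fintype.ofFinite _
  let φ : 𝔾 ⧸ N → Subgroup 𝔾 := fun c => (T hF).map (MulAut.conj c.out).toMonoidHom
  have hφmem : ∀ c, φ c ∈ 𝓐 := by
    intro c
    obtain ⟨A, hA, hmem⟩ := hcov (c.out * dS hF t * c.out⁻¹)
    have hnA := hnil A hA
    have h := nilp_eq_torus hF hm ht hgen (A.map (MulAut.conj c.out⁻¹).toMonoidHom)
      (Group.nilpotent_of_mulEquiv ((A.equivMapOfInjective _ (MulAut.conj c.out⁻¹).injective)))
      ⟨_, hmem, by simp [mul_assoc]⟩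
    have : φ c = A := by
      show (T hF).map _ = A
      rw [← h, Subgroup.map_map]
      convert Subgroup.map_id A
      ext x
      simp [mul_assoc]
    exact this ▸ hA
  have hφinj : Function.Injective φ := by
    intro c d h
    rw [← c.out_eq, ← d.out_eq]
    refine QuotientGroup.eq.mpr (Subgroup.mem_normalizer_iff.mpr fun x => ?_)
    have e : ∀ (a : 𝔾) (y : 𝔾), y ∈ (T hF).map (MulAut.conj a).toMonoidHom ↔ a⁻¹ * y * a ∈ T hF := by
      intro a y
      constructor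
      · rintro ⟨w, hw, rfl⟩
        simpa [mul_assoc] using hw
      · exact fun hy => ⟨_, hy, by simp [mul_assoc]⟩
    have h1 := SetLike.ext_iff.mp h (d.out * x * d.out⁻¹)
    simp only [φ, e] at h1
    simpa [mul_assoc] using h1.symm
  set 𝓣 := Finset.univ.image φ with h𝓣
  have hsub : 𝓣 ⊆ 𝓐 := fun A hA => by
    obtain ⟨c, -, rfl⟩ := Finset.mem_image.mp hA
    exact hφmem c
  have hcard𝓣 : 2 * (q ^ 2 + 1) < 2 * 𝓣.card := by
    rw [h𝓣, Finset.card_image_of_injective _ hφinj, Finset.card_univ, ← Nat.card_eq_fintype_card,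
      ← Subgroup.index_eq_card]
    have h := N.card_mul_index
    have hNc : Nat.card N = 2 * (q - 1) := card_normalizer_T hF hm
    rw [hNc, card_Sz hF hm, ← hq] at h
    have h' : (q - 1) * (2 * N.index) = (q - 1) * (q ^ 2 * (q ^ 2 + 1)) := by linarith
    have h'' := Nat.eq_of_mul_eq_mul_left (by omega) h'
    have : 4 ≤ q ^ 2 := by nlinarith
    nlinarith
  -- the competing cover
  set 𝓟 : Finset (Subgroup 𝔾) := Finset.univ.image fun p : ↥(suzukiOvoid F m) => MulAction.stabilizer 𝔾 p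
    with h𝓟
  have hB := hmin (𝓟 ∪ (𝓐 \ 𝓣)) ?_ ?_
  · have h1 := hB.trans (Finset.card_union_le _ _)
    rw [Finset.card_sdiff_of_subset hsub] at h1
    have h2 : 𝓟.card ≤ q ^ 2 + 1 := by
      refine Finset.card_image_le.trans ?_
      rw [Finset.card_univ, ← Nat.card_eq_fintype_card, card_ovoid, hF]
    have h3 := Finset.card_le_card hsub
    omega
  · intro A hA
    rcases Finset.mem_union.mp hA with hA | hA
    · obtain ⟨p, -, rfl⟩ := Finset.mem_image.mp hA
      intro e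
      have h := MulAction.index_stabilizer_of_transitive 𝔾 p
      rw [e, Subgroup.index_top, card_ovoid, hF] at h
      have : 4 ≤ q ^ 2 := by nlinarith
      omega
    · exact hprop A (Finset.mem_sdiff.mp hA).1
  · intro g
    obtain ⟨A, hA, hg⟩ := hcov g
    by_cases hT : A ∈ 𝓣
    · obtain ⟨c, -, rfl⟩ := Finset.mem_image.mp hT
      have hfix : ∃ p : ↥(suzukiOvoid F m), g • p = p := by
        by_cases hg1 : g = 1
        · exact ⟨⟨suzukiPointInfinity F, inf_mem⟩, by rw [hg1, one_smul]⟩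
        · obtain ⟨w, hw, hwg⟩ := hg
          obtain ⟨p, hp, hgp⟩ := fix_of_conjSet hF (g := g) (Or.inr ⟨hg1, c.out, by
            rw [← hwg]; simpa [mul_assoc] using hw⟩)
          exact ⟨⟨p, hp⟩, Subtype.ext hgp⟩
      obtain ⟨p, hp⟩ := hfix
      exact ⟨_, Finset.mem_union_left _ (Finset.mem_image_of_mem _ (Finset.mem_univ p)), hp⟩
    · exact ⟨A, Finset.mem_union_right _ (Finset.mem_sdiff.mpr ⟨hA, hT⟩), hg⟩

/-- A cover of a group is a finite set of proper subgroups whose union is the whole group; it is minimal when no cover has fewer members, and nilpotent when all its members are nilpotent. The Suzuki groups Sz(q), q = 2^(2m+1) with m ≥ 1, have no nilpotent minimal cover. -/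
theorem result {F : Type*} [Field F] [Fintype F] (m : ℕ) (hm : 1 ≤ m) (hF : Fintype.card F = 2 ^ (2 * m + 1)) :
    ¬ ∃ 𝓐 : Finset (Subgroup ↥(Cfsg.Lie.Sz F (2 ^ (m + 1)))), ((∀ A ∈ 𝓐, A ≠ ⊤) ∧ (∀ g : ↥(Cfsg.Lie.Sz F (2 ^ (m + 1))), ∃ A ∈ 𝓐, g ∈ A)) ∧ (∀ 𝓑 : Finset (Subgroup ↥(Cfsg.Lie.Sz F (2 ^ (m + 1)))), (∀ A ∈ 𝓑, A ≠ ⊤) ∧ (∀ g : ↥(Cfsg.Lie.Sz F (2 ^ (m + 1))), ∃ A ∈ 𝓑, g ∈ A) → 𝓐.card ≤ 𝓑.card) ∧ (∀ A ∈ 𝓐, Group.IsNilpotent ↥A) := by
  classical
  rintro ⟨𝓐, ⟨hprop, hcov⟩, hmin, hnil⟩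
  let e := CfsgLib.Suzuki.lieEquiv hF hm
  have mapne : ∀ A : Subgroup ↥(Cfsg.Sz F m), A.map e.toMonoidHom = ⊤ → A = ⊤ := fun A h =>
    Subgroup.map_injective e.injective (h.trans (Subgroup.map_top_of_surjective _ e.surjective).symm)
  have comne : ∀ A : Subgroup ↥(Cfsg.Lie.Sz F (2 ^ (m + 1))), A.comap e.toMonoidHom = ⊤ → A = ⊤ := fun A h =>
    Subgroup.comap_injective e.surjective (h.trans (Subgroup.comap_top _).symm)
  refine core hF hm (𝓐.image fun A => A.comap e.toMonoidHom) ?_ ?_ ?_ ?_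
  · intro A hA
    obtain ⟨B, hB, rfl⟩ := Finset.mem_image.mp hA
    exact fun h => hprop B hB (comne B h)
  · intro g
    obtain ⟨A, hA, hg⟩ := hcov (e g)
    exact ⟨_, Finset.mem_image_of_mem _ hA, hg⟩
  · intro 𝓑 h1 h2
    refine Finset.card_image_le.trans ((hmin (𝓑.image fun A => A.map e.toMonoidHom) ⟨?_, ?_⟩).trans
      Finset.card_image_le)
    · intro A hA
      obtain ⟨B, hB, rfl⟩ := Finset.mem_image.mp hA
      exact fun h => h1 B hB (mapne B h)
    · intro g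
      obtain ⟨A, hA, hg⟩ := h2 (e.symm g)
      exact ⟨_, Finset.mem_image_of_mem _ hA, ⟨_, hg, e.apply_symm_apply g⟩⟩
  · intro A hA
    obtain ⟨B, hB, rfl⟩ := Finset.mem_image.mp hA
    have := hnil B hB
    exact Group.nilpotent_of_mulEquiv ((e.symm.subgroupMap B).trans
      (MulEquiv.subgroupCongr (Subgroup.comap_equiv_eq_map_symm e B).symm))

end Cfsg.Agent.S3893
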