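import Cfsg.Statements.S3895
import Mathlib
import Cfsg.Agent.Lib.Fusion.Hyperfocal
import Cfsg.Agent.Lib.CharTheory.Linear
import Cfsg.Agent.Lib.CharTheory.Irr
-- import your own Cfsg.Agent.* helpers here

set_option autoImplicit false
open Cfsg

namespace Cfsg.Agent.S3895

namespace Aux

universe a

set_option maxHeartbeats 1000000

open CfsgLib CfsgLib.CharTheory
open scoped Pointwise commutatorElement

variable {G : Type a} [Group G] [Finite G]

theorem four_mul_classes (K : Type a) [Group K] [Finite K] :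
    4 * Nat.card (ConjClasses K) ≤ Nat.card K + 3 * (commutator K).index := by
  classical
  haveI := Fintype.ofFinite K
  haveI := Fintype.ofFinite (IrrCharacter K)
  choose d hd using fun θ : IrrCharacter K => char_one_eq_natCast (isCharacter_of_irr θ.2)
  have hsq : Nat.card K = ∑ θ, d θ ^ 2 := by
    apply Nat.cast_injective (R := ℂ)
    rw [← sum_irr_degree_sq]
    push_cast
    refine Finset.sum_congr (by ext; simp) fun θ _ => ?_
    rw [hd]
  have hlin : (commutator K).index = ∑ θ : IrrCharacter K, if d θ = 1 then 1 else 0 := by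
    rw [← card_linear, Nat.card_congr (Equiv.subtypeEquivRight fun θ : IrrCharacter K =>
      (show ((θ : K → ℂ) 1 = 1) ↔ d θ = 1 by rw [hd]; exact Nat.cast_eq_one)),
      Nat.card_eq_fintype_card, Fintype.card_subtype, Finset.card_filter]
  rw [← card_irr_eq_card_conjClasses, hlin, hsq, Nat.card_eq_fintype_card, Fintype.card_eq_sum_ones,
    Finset.mul_sum, Finset.mul_sum, ← Finset.sum_add_distrib]
  refine Finset.sum_le_sum fun θ _ => ?_
  have hpos : d θ ≠ 0 := fun h0 => by
    obtain ⟨n, hn, he⟩ := irr_degree_pos θ.2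
    rw [hd, h0, Nat.cast_inj] at he
    omega
  split_ifs with h1
  · simp [h1]
  · have h2 : 2 ≤ d θ := by omega
    nlinarith

theorem exists_bad (P : Sylow 2 G) (h : ¬ Cfsg.HasNormalPComplement 2 G) :
    ∃ Q : Subgroup G, Q ≤ (P : Subgroup G) ∧ (P : Subgroup G) ⊓ Subgroup.centralizer (Q : Set G) ≤ Q ∧
      ∃ g ∈ Subgroup.normalizer (Q : Set G), (orderOf g).Coprime 2 ∧ g ∉ Subgroup.centralizer (Q : Set G) := by
  classical
  by_contra hcon
  push Not at hcon
  refine h (Cfsg.FusionSystem.hasNormalPComplement_of_centralizes P ?_)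
  suffices H : ∀ n, ∀ Q : Subgroup G, Q ≤ (P : Subgroup G) → Nat.card P - Nat.card Q = n →
      ∀ g ∈ Subgroup.normalizer (Q : Set G), (orderOf g).Coprime 2 → g ∈ Subgroup.centralizer (Q : Set G) from
    fun Q hQ => H _ Q hQ rfl
  intro n
  induction n using Nat.strong_induction_on with
  | _ n ih =>
  intro Q hQ hn g hg hgo
  by_contra hgC
  have hlt : ¬ (P : Subgroup G) ⊓ Subgroup.centralizer (Q : Set G) ≤ Q := fun hle => hgC (hcon Q hQ hle g hg hgo)
  set N := Subgroup.normalizer (Q : Set G) with hN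
  set M := Q ⊔ Subgroup.centralizer (Q : Set G) with hM
  have hCN : Subgroup.centralizer (Q : Set G) ≤ N := Subgroup.centralizer_le_normalizer _
  have hQN : Q ≤ N := Subgroup.le_normalizer
  have hMN : M ≤ N := sup_le hQN hCN
  have hgM : g ∉ M := by
    intro hm
    haveI : (Subgroup.centralizer (Q : Set G)).subgroupOf N |>.Normal := Subgroup.normal_subgroupOf_centralizer_normalizer (Q : Set G)
    obtain ⟨u, hu, c, hc, e⟩ : ∃ u ∈ Q, ∃ c ∈ Subgroup.centralizer (Q : Set G), u * c = g := by
      have h1 : (Subgroup.centralizer (Q : Set G)) ≤ Subgroup.normalizer (Q : Set G) := hCN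
      rw [← SetLike.mem_coe, hM, Subgroup.coe_mul_of_right_le_normalizer_left Q _ h1] at hm
      exact Set.mem_mul.mp hm
    have hcomm : Commute u c := Subgroup.mem_centralizer_iff.mp hc u hu
    obtain ⟨k, hk⟩ := (P.2.to_le hQ) ⟨u, hu⟩
    have hk' : u ^ 2 ^ k = 1 := congrArg Subtype.val hk
    have hgk : g ^ 2 ^ k ∈ Subgroup.centralizer (Q : Set G) := by
      rw [← e, hcomm.mul_pow, hk', one_mul]; exact pow_mem hc _
    obtain ⟨i, hi⟩ := exists_pow_eq_self_of_coprime (x := g) (n := 2 ^ k) (Nat.Coprime.pow_left k hgo.symm)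
    exact hgC (hi ▸ pow_mem hgk i)
  haveI hMn : (M.subgroupOf N).Normal := by
    rw [hM, Subgroup.subgroupOf_sup hQN hCN]
    haveI : (Q.subgroupOf N).Normal := Subgroup.normal_in_normalizer
    haveI : ((Subgroup.centralizer (Q : Set G)).subgroupOf N).Normal := Subgroup.normal_subgroupOf_centralizer_normalizer (Q : Set G)
    infer_instance
  set T := Q ⊔ (P : Subgroup G) ⊓ Subgroup.centralizer (Q : Set G) with hT
  have hTM : T ≤ M := sup_le le_sup_left (inf_le_right.trans le_sup_right)
  have hTN : T.subgroupOf N ≤ M.subgroupOf N := fun x hx => hTM hx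
  have hTp : IsPGroup 2 T := P.2.to_le (sup_le hQ inf_le_left)
  set M' := M.subgroupOf N with hM'
  set T' := (T.subgroupOf N).subgroupOf M' with hT'
  have hT'p : IsPGroup 2 T' := (hTp.of_equiv (Subgroup.subgroupOfEquivOfLe (hTM.trans hMN)).symm).of_equiv
    (Subgroup.subgroupOfEquivOfLe hTN).symm
  obtain ⟨R, hR⟩ := hT'p.exists_le_sylow
  have htop : Subgroup.normalizer ((R : Subgroup M').map M'.subtype : Set N) ⊔ M' = ⊤ :=
    Sylow.normalizer_sup_eq_top R
  have hgtop : (⟨g, hg⟩ : N) ∈ M' ⊔ Subgroup.normalizer ((R : Subgroup M').map M'.subtype : Set N) := by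
    rw [sup_comm, htop]; exact Subgroup.mem_top _
  obtain ⟨m, hm, x, hx, e⟩ := Subgroup.mem_sup_of_normal_left.mp hgtop
  set R' := ((R : Subgroup M').map M'.subtype).map N.subtype with hR'
  have hTR : T ≤ R' := fun t ht => by
    refine ⟨⟨t, hMN (hTM ht)⟩, ⟨⟨⟨t, hMN (hTM ht)⟩, hTM ht⟩, hR ht, rfl⟩, rfl⟩
  have hR'p : IsPGroup 2 R' := (R.2.map M'.subtype).map N.subtype
  obtain ⟨S, hS⟩ := hR'p.exists_le_sylow
  obtain ⟨y, hy⟩ := MulAction.exists_smul_eq G S P
  -- an element of odd order normalizing `R'`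
  set q := QuotientGroup.mk' M' with hq
  have hqx : q x = q ⟨g, hg⟩ := by
    rw [← e, map_mul, show q m = 1 from (QuotientGroup.eq_one_iff m).mpr hm, one_mul]
  obtain ⟨k, c, hc, ho⟩ := Nat.exists_eq_pow_mul_and_not_dvd (orderOf_pos x).ne' 2 (by norm_num)
  set z := x ^ 2 ^ k with hz
  have hzo : (orderOf (z : G)).Coprime 2 := by
    rw [Subgroup.orderOf_coe]
    have : orderOf z ∣ c := orderOf_dvd_of_pow_eq_one (by rw [hz, ← pow_mul, ← ho, pow_orderOf_eq_one])
    exact Nat.Coprime.coprime_dvd_left this ((Nat.prime_two.coprime_iff_not_dvd.mpr hc).symm)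
  have hzM : (z : G) ∉ M := by
    intro hzm
    have h1 : q (⟨g, hg⟩ : N) ^ 2 ^ k = 1 := by
      rw [← hqx, ← map_pow]; exact (QuotientGroup.eq_one_iff z).mpr hzm
    have h2 : orderOf (q (⟨g, hg⟩ : N)) = 1 := Nat.eq_one_of_dvd_coprimes (Nat.Coprime.pow_right k hgo)
      ((orderOf_map_dvd q _).trans (by rw [← Subgroup.orderOf_coe])) (orderOf_dvd_of_pow_eq_one h1)
    have h3 : q (⟨g, hg⟩ : N) = 1 := orderOf_eq_one_iff.mp h2
    exact hgM (Subgroup.mem_subgroupOf.mp ((QuotientGroup.eq_one_iff (⟨g, hg⟩ : N)).mp h3))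
  have hzR : (z : G) ∈ Subgroup.normalizer (R' : Set G) :=
    Subgroup.le_normalizer_map N.subtype ⟨z, pow_mem hx _, rfl⟩
  have hyR : (MulAut.conj y • R') ≤ (P : Subgroup G) := by
    rw [← hy, Sylow.coe_subgroup_smul, Subgroup.pointwise_smul_le_pointwise_smul_iff]; exact hS
  have hcard : Nat.card (MulAut.conj y • R' : Subgroup G) = Nat.card R' :=
    Nat.card_congr (Subgroup.equivSMul (MulAut.conj y) R').toEquiv.symm
  have hQT : Q < T := lt_of_le_of_ne le_sup_left fun e => hlt ((le_sup_right : _ ≤ T).trans e.ge)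
  have hlt2 : Nat.card Q < Nat.card R' := by
    refine lt_of_lt_of_le ?_ (Subgroup.card_le_of_le hTR)
    exact lt_of_le_of_ne (Subgroup.card_le_of_le hQT.le) fun e => hQT.ne (Subgroup.eq_of_le_of_card_ge hQT.le e.ge)
  have hle2 : Nat.card (MulAut.conj y • R' : Subgroup G) ≤ Nat.card P := Subgroup.card_le_of_le hyR
  have hzc := ih (Nat.card P - Nat.card (MulAut.conj y • R' : Subgroup G)) (by rw [← hn]; omega) _ hyR rfl
    (y * z * y⁻¹) (by
      rw [Subgroup.mem_normalizer_iff]
      intro w
      simp only [Subgroup.mem_pointwise_smul_iff_inv_smul_mem, MulAut.smul_def, ← map_inv, MulAut.conj_apply, inv_inv]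
      rw [show y⁻¹ * (y * z * y⁻¹ * w * (y * z * y⁻¹)⁻¹) * y = z * (y⁻¹ * w * y) * (z : G)⁻¹ by group]
      exact Subgroup.mem_normalizer_iff.mp hzR _)
    (by rw [← MulAut.conj_apply, MulEquiv.orderOf_eq]; exact hzo)
  refine hzM (Subgroup.mem_sup_right (Subgroup.mem_centralizer_iff.mpr fun w hw => ?_))
  have hwR : y * w * y⁻¹ ∈ MulAut.conj y • R' :=
    Subgroup.smul_mem_pointwise_smul w _ _ (hTR (Subgroup.mem_sup_left hw))
  have := Subgroup.mem_centralizer_iff.mp hzc _ hwR
  calc w * z = y⁻¹ * (y * w * y⁻¹ * (y * z * y⁻¹)) * y := by group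
    _ = y⁻¹ * (y * z * y⁻¹ * (y * w * y⁻¹)) * y := by rw [this]
    _ = z * w := by group

theorem two_le_card {α : Type*} [DecidableEq α] {s : Finset α} {x y : α} (hx : x ∈ s) (hy : y ∈ s) (h : x ≠ y) :
    2 ≤ s.card :=
  Finset.one_lt_card.mpr ⟨x, hx, y, hy, h⟩

theorem surj_of_sylow (P : Sylow 2 G) :
    ∃ f : ConjClasses (P : Subgroup G) → {c : ConjClasses G // ∀ x ∈ c.carrier, ∃ k : ℕ, orderOf x = 2 ^ k},
      Function.Surjective f ∧ ∀ x : (P : Subgroup G), (f (ConjClasses.mk x)).1 = ConjClasses.mk (x : G) := by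
  have hmem : ∀ c : ConjClasses (P : Subgroup G), ∀ x ∈ (ConjClasses.map (P : Subgroup G).subtype c).carrier,
      ∃ k : ℕ, orderOf x = 2 ^ k := by
    intro c
    induction c using Quotient.inductionOn with | h y => ?_
    intro x hx
    obtain ⟨k, hk⟩ := IsPGroup.iff_orderOf.mp P.2 y
    have he : ConjClasses.mk x = ConjClasses.mk (y : G) := ConjClasses.mem_carrier_iff_mk_eq.mp hx
    obtain ⟨u, hu⟩ := isConj_iff.mp (ConjClasses.mk_eq_mk_iff_isConj.mp he)
    exact ⟨k, by rw [← hk, ← Subgroup.orderOf_coe, ← hu, ← MulAut.conj_apply, MulEquiv.orderOf_eq]⟩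
  refine ⟨fun c => ⟨ConjClasses.map (P : Subgroup G).subtype c, hmem c⟩, ?_, fun x => rfl⟩
  rintro ⟨c, hc⟩
  induction c using Quotient.inductionOn with | h x => ?_
  obtain ⟨k, hk⟩ := hc x (ConjClasses.mem_carrier_mk)
  have hp : IsPGroup 2 (Subgroup.zpowers x) := IsPGroup.of_card (n := k) (by rw [Nat.card_zpowers, hk])
  obtain ⟨S, hS⟩ := hp.exists_le_sylow
  obtain ⟨y, hy⟩ := MulAction.exists_smul_eq G S P
  have hm : y * x * y⁻¹ ∈ (P : Subgroup G) := by
    rw [← hy, Sylow.coe_subgroup_smul]
    exact Subgroup.smul_mem_pointwise_smul x _ _ (hS (Subgroup.mem_zpowers x))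
  exact ⟨ConjClasses.mk ⟨_, hm⟩, Subtype.ext (ConjClasses.mk_eq_mk_iff_isConj.mpr (isConj_iff.mpr ⟨y⁻¹, by simp; group⟩))⟩

theorem fused_le (P : Sylow 2 G) (hk : Nat.card (P : Subgroup G) < 2 * Nat.card (ConjClasses (P : Subgroup G)))
    (hn : ¬ Cfsg.HasNormalPComplement 2 G) :
    2 * Nat.card {c : ConjClasses G // ∀ x ∈ c.carrier, ∃ k : ℕ, orderOf x = 2 ^ k} ≤ Nat.card (P : Subgroup G) := by
  classical
  obtain ⟨Q, hQP, hCQ, g, hgN, hgo, hgC⟩ := exists_bad P hn
  set K := ((P : Subgroup G) : Subgroup G) with hK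
  obtain ⟨f, hf, hfval⟩ : ∃ f : ConjClasses K → {c : ConjClasses G // ∀ x ∈ c.carrier, ∃ k : ℕ, orderOf x = 2 ^ k},
      Function.Surjective f ∧ ∀ x : K, (f (ConjClasses.mk x)).1 = ConjClasses.mk (x : G) := surj_of_sylow P
  haveI := Fintype.ofFinite K
  haveI := Fintype.ofFinite (ConjClasses K)
  haveI := Fintype.ofFinite {c : ConjClasses G // ∀ x ∈ c.carrier, ∃ k : ℕ, orderOf x = 2 ^ k}
  -- the derived subgroup has order at most two
  have hD : Nat.card (commutator K) ≤ 2 := by
    have h4 := four_mul_classes K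
    have hmul := (commutator K).card_mul_index
    obtain ⟨i, hi⟩ := IsPGroup.iff_card.mp (P.2.to_subgroup (commutator K))
    by_contra hlt
    have : 4 ≤ Nat.card (commutator K) := by
      rw [hi] at hlt ⊢
      rcases i with _ | _ | i <;> simp [pow_succ] at hlt ⊢
      have := Nat.one_le_two_pow (n := i); omega
    have h3 : 4 * (commutator K).index ≤ Nat.card K := hmul ▸ Nat.mul_le_mul_right _ this
    omega
  have hDc : commutator K ≤ Subgroup.center K := by
    intro c hc
    rw [Subgroup.mem_center_iff]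
    intro w
    by_cases hc1 : c = 1
    · simp [hc1]
    have hwc : w * c * w⁻¹ ∈ commutator K := (inferInstance : (commutator K).Normal).conj_mem c hc w
    by_contra hne
    have h3 : 3 ≤ Nat.card (commutator K) := by
      rw [Nat.card_eq_fintype_card]
      have : ({⟨1, one_mem _⟩, ⟨c, hc⟩, ⟨_, hwc⟩} : Finset (commutator K)).card = 3 := by
        refine Finset.card_eq_three.mpr ⟨_, _, _, ?_, ?_, ?_, rfl⟩ <;> simp only [ne_eq, Subtype.mk.injEq]
        · exact Ne.symm hc1
        · exact fun e => hc1 (conj_eq_one_iff.mp e.symm)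
        · exact fun e => hne (mul_inv_eq_iff_eq_mul.mp e.symm)
      exact this ▸ Finset.card_le_univ _
    omega
  have hclass : ∀ x : K, ∀ y ∈ (ConjClasses.mk x).carrier, y * x⁻¹ ∈ commutator K := by
    intro x y hy
    obtain ⟨u, hu⟩ := isConj_iff.mp (ConjClasses.mk_eq_mk_iff_isConj.mp (ConjClasses.mem_carrier_iff_mk_eq.mp hy).symm)
    rw [← hu]
    exact Subgroup.commutator_mem_commutator (Subgroup.mem_top u) (Subgroup.mem_top x)
  have hfib : ∀ c : ConjClasses K, (Finset.univ.filter fun x : K => ConjClasses.mk x = c).card ≤ 2 := by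
    intro c
    induction c using Quotient.inductionOn with | h x => ?_
    refine le_trans ?_ hD
    rw [Nat.card_eq_fintype_card, ← Finset.card_univ]
    refine Finset.card_le_card_of_injOn (fun y => if h : y * x⁻¹ ∈ commutator K then (⟨_, h⟩ : commutator K) else 1)
      (fun y _ => Finset.mem_univ _) ?_
    intro y hy z hz he
    simp only [Finset.coe_filter, Finset.mem_univ, true_and, Set.mem_setOf_eq] at hy hz
    simp only [hclass x y (ConjClasses.mem_carrier_iff_mk_eq.mpr hy), hclass x z (ConjClasses.mem_carrier_iff_mk_eq.mpr hz),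
      ↓reduceDIte, Subtype.mk.injEq, mul_left_inj] at he
    exact he
  -- `Q` is normal in `P` and contains its centre
  set Q' := Q.subgroupOf K with hQ'
  have hZQ : Subgroup.center K ≤ Q' := fun w hw => hCQ (Subgroup.mem_inf.mpr ⟨w.2, Subgroup.mem_centralizer_iff.mpr
    fun u hu => congrArg Subtype.val (Subgroup.mem_center_iff.mp hw ⟨u, hQP hu⟩)⟩)
  have hQn : ∀ x ∈ Q', ∀ y : K, ConjClasses.mk y = ConjClasses.mk x → y ∈ Q' := fun x hx y hy => by
    have := mul_mem (hZQ (hDc (hclass x y (ConjClasses.mem_carrier_iff_mk_eq.mpr hy)))) hx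
    rwa [inv_mul_cancel_right] at this
  -- the action of `g` on `Q`
  have hgQ : ∀ x ∈ Q, g * x * g⁻¹ ∈ Q := fun x hx => (Subgroup.mem_normalizer_iff.mp hgN x).mp hx
  let φ : MulAut Q := Subgroup.normalizerMonoidHom Q ⟨g, hgN⟩
  let τ : K → K := fun x => if h : (x : G) ∈ Q then ⟨g * x * g⁻¹, hQP (hgQ _ h)⟩ else x
  have hτ : ∀ x : K, x ∈ Q' → (τ x : G) = g * x * g⁻¹ := fun x hx => by
    have hx' : (x : G) ∈ Q := hx
    simp only [τ, hx', ↓reduceDIte]
  have hτQ : ∀ x : K, x ∈ Q' → τ x ∈ Q' := fun x hx => by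
    show (τ x : G) ∈ Q
    rw [hτ x hx]; exact hgQ _ hx
  have hτfix : ∀ x : K, x ∈ Q' → (τ x = x ↔ Commute g x) := fun x hx => by
    rw [Subtype.ext_iff, hτ x hx, mul_inv_eq_iff_eq_mul]; exact Iff.rfl
  have hfeq : ∀ x : K, x ∈ Q' → f (ConjClasses.mk (τ x)) = f (ConjClasses.mk x) := fun x hx => Subtype.ext (by
    rw [hfval, hfval, hτ x hx]
    exact ConjClasses.mk_eq_mk_iff_isConj.mpr (isConj_iff.mpr ⟨g, rfl⟩).symm)
  have hodd : ∀ x : G, g * (g * x * g⁻¹) * g⁻¹ = x → g * x * g⁻¹ = x := fun x hx => by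
    have h2 : g ^ 2 * x * (g ^ 2)⁻¹ = x := by rw [pow_two]; calc _ = g * (g * x * g⁻¹) * g⁻¹ := by group
                                                                _ = x := hx
    obtain ⟨i, hi⟩ := exists_pow_eq_self_of_coprime (x := g) (n := 2) hgo.symm
    have hc : Commute (g ^ 2) x := mul_inv_eq_iff_eq_mul.mp h2
    exact mul_inv_eq_iff_eq_mul.mpr (hi ▸ hc.pow_left i).eq
  -- the fixed points of `g` have index at least four in `Q`
  set C := (Q ⊓ Subgroup.centralizer {g}).subgroupOf K with hC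
  have hCQ' : C ≤ Q' := fun x hx => (Subgroup.mem_inf.mp hx).1
  have hC4 : 4 * Nat.card C ≤ Nat.card Q' := by
    have hmul := (C.subgroupOf Q').card_mul_index
    rw [Nat.card_congr (Subgroup.subgroupOfEquivOfLe hCQ').toEquiv] at hmul
    obtain ⟨i, hi⟩ := ((P.2.to_subgroup Q').index (C.subgroupOf Q'))
    suffices 2 ≤ i by
      rw [← hmul, hi, mul_comm]
      exact Nat.mul_le_mul_left _ (Nat.pow_le_pow_right two_pos this)
    by_contra hlt
    have hne : ∃ q ∈ Q, ¬ Commute g q := by
      by_contra hcon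
      push Not at hcon
      exact hgC (Subgroup.mem_centralizer_iff.mpr fun q hq => (hcon q hq).eq.symm)
    obtain ⟨q, hq, hgq⟩ := hne
    set x : Q' := ⟨⟨q, hQP hq⟩, hq⟩ with hx
    have hxC : x ∉ C.subgroupOf Q' := fun hm =>
      hgq (Subgroup.mem_centralizer_singleton_iff.mp (Subgroup.mem_inf.mp hm).2).symm
    interval_cases i
    · exact hxC ((Subgroup.index_eq_one.mp hi).symm ▸ Subgroup.mem_top x)
    · set y : Q' := ⟨τ x, hτQ _ x.2⟩ with hy
      have hyC : y ∉ C.subgroupOf Q' := fun hm => by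
        have h1 : ((y : K) : G) * g = g * ((y : K) : G) :=
          (Subgroup.mem_centralizer_singleton_iff.mp (Subgroup.mem_inf.mp hm).2)
        rw [show ((y : K) : G) = g * q * g⁻¹ from hτ _ x.2] at h1
        rw [inv_mul_cancel_right] at h1
        exact hgq (mul_inv_eq_iff_eq_mul.mp (mul_left_cancel h1).symm)
      have hd : x⁻¹ * y ∈ C.subgroupOf Q' := by
        rw [Subgroup.mul_mem_iff_of_index_two hi, inv_mem_iff]; exact iff_of_false hxC hyC
      have hdc : (((x⁻¹ * y : Q') : K) : G) * g = g * (((x⁻¹ * y : Q') : K) : G) :=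
        Subgroup.mem_centralizer_singleton_iff.mp (Subgroup.mem_inf.mp hd).2
      rw [show (((x⁻¹ * y : Q') : K) : G) = q⁻¹ * (g * q * g⁻¹) by
        push_cast; rw [show ((y : K) : G) = g * q * g⁻¹ from hτ _ x.2]] at hdc
      set d := q⁻¹ * (g * q * g⁻¹) with hd'
      have hdc' : Commute g d := hdc.symm
      have hpow : ∀ i : ℕ, g ^ i * q * (g ^ i)⁻¹ = q * d ^ i := by
        intro i
        induction i with
        | zero => simp
        | succ i ih =>
          calc g ^ (i + 1) * q * (g ^ (i + 1))⁻¹ = g * (g ^ i * q * (g ^ i)⁻¹) * g⁻¹ := by rw [pow_succ']; group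
            _ = (g * q * g⁻¹) * (g * d ^ i * g⁻¹) := by rw [ih]; group
            _ = q * d ^ (i + 1) := by
              rw [(hdc'.pow_right i).eq, mul_inv_cancel_right, pow_succ', ← mul_assoc]
              congr 1
              rw [hd']; group
      have hdn : d ^ orderOf g = 1 := by
        have := hpow (orderOf g)
        rw [pow_orderOf_eq_one, one_mul, inv_one, mul_one] at this
        exact left_eq_mul.mp this
      have hd1 : d = 1 := by
        obtain ⟨k, hk⟩ := (P.2.to_le hQP) ⟨d, mul_mem (inv_mem hq) (hgQ q hq)⟩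
        exact orderOf_eq_one_iff.mp (Nat.eq_one_of_dvd_coprimes (Nat.Coprime.pow_right k hgo)
          (orderOf_dvd_of_pow_eq_one hdn) (orderOf_dvd_of_pow_eq_one (congrArg Subtype.val hk)))
      exact hgq (mul_inv_eq_iff_eq_mul.mp (inv_mul_eq_one.mp hd1).symm)
  -- moved classes
  let S : Finset (ConjClasses K) := Finset.univ.filter fun c => ∃ x ∈ Q', ConjClasses.mk x = c ∧ ConjClasses.mk (τ x) ≠ c
  have hmove : ∀ x ∈ Q', x ∉ C → ConjClasses.mk x ∈ S := by
    intro x hx hxC
    have hne : τ x ≠ x := fun e => hxC (Subgroup.mem_inf.mpr ⟨hx, Subgroup.mem_centralizer_singleton_iff.mpr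
      ((hτfix x hx).mp e).eq.symm⟩)
    simp only [S, Finset.mem_filter, Finset.mem_univ, true_and]
    by_cases h1 : ConjClasses.mk (τ x) = ConjClasses.mk x
    · refine ⟨τ x, hτQ x hx, h1, fun h2 => ?_⟩
      have hthree : τ (τ x) ≠ τ x := fun e => hne (Subtype.ext (by
        have e' := congrArg (Subtype.val : K → G) e
        rw [hτ _ (hτQ x hx), hτ x hx] at e'
        rw [hτ x hx]
        exact mul_left_cancel (mul_right_cancel e')))
      have hne2 : τ (τ x) ≠ x := fun e => hne (Subtype.ext (by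
        have e' := congrArg (Subtype.val : K → G) e
        rw [hτ _ (hτQ x hx), hτ x hx] at e'
        rw [hτ x hx]
        exact hodd _ e'))
      have : 3 ≤ (Finset.univ.filter fun y : K => ConjClasses.mk y = ConjClasses.mk x).card := by
        calc 3 = ({x, τ x, τ (τ x)} : Finset K).card :=
            (Finset.card_eq_three.mpr ⟨_, _, _, hne.symm, hne2.symm, hthree.symm, rfl⟩).symm
          _ ≤ _ := Finset.card_le_card fun y hy => by
            simp only [Finset.mem_insert, Finset.mem_singleton] at hy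
            simp only [Finset.mem_filter, Finset.mem_univ, true_and]
            rcases hy with rfl | rfl | rfl
            exacts [rfl, h1, h2]
      have := hfib (ConjClasses.mk x); omega
    · exact ⟨x, hx, rfl, h1⟩
  have hS2 : ∀ c ∈ S, 2 ≤ (Finset.univ.filter fun d : ConjClasses K => f d = f c).card := by
    intro c hc
    simp only [S, Finset.mem_filter, Finset.mem_univ, true_and] at hc
    obtain ⟨x, hx, rfl, hne⟩ := hc
    exact two_le_card (x := ConjClasses.mk (τ x)) (y := ConjClasses.mk x) (by simp [hfeq x hx]) (by simp) hne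
  have hbound : ∀ m : ℕ, (∀ c ∈ S, m ≤ (Finset.univ.filter fun d : ConjClasses K => f d = f c).card) →
      m * Fintype.card {c : ConjClasses G // ∀ x ∈ c.carrier, ∃ k : ℕ, orderOf x = 2 ^ k} + m * S.card ≤
        m * Fintype.card (ConjClasses K) + S.card := by
    intro m hm
    have e1 := Finset.card_eq_sum_card_fiberwise (f := f) (s := (Finset.univ : Finset (ConjClasses K)))
      (t := Finset.univ) (fun x _ => Finset.mem_univ _)
    have e2 := Finset.card_eq_sum_card_fiberwise (f := f) (s := S) (t := Finset.univ) (fun x _ => Finset.mem_univ _)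
    rw [Finset.card_univ] at e1
    rw [e1, e2, ← Finset.card_univ, Finset.card_eq_sum_ones (Finset.univ : Finset {c : ConjClasses G // _}),
      Finset.mul_sum, Finset.mul_sum, Finset.mul_sum, ← Finset.sum_add_distrib, ← Finset.sum_add_distrib]
    refine Finset.sum_le_sum fun b _ => ?_
    obtain ⟨d, hd⟩ := hf b
    set F := Finset.univ.filter fun x => f x = b with hF
    set T := S.filter fun x => f x = b with hT
    have hTF : T ⊆ F := fun x hx => by
      simp only [hT, hF, Finset.mem_filter, Finset.mem_univ, true_and] at hx ⊢; exact hx.2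
    have hFd : d ∈ F := by simp [hF, hd]
    rcases (Finset.card_le_card hTF).lt_or_eq with hlt | heq
    · have : m * (T.card + 1) ≤ m * F.card := Nat.mul_le_mul_left _ hlt
      rw [mul_add] at this
      omega
    · have hdT : d ∈ T := (Finset.eq_of_subset_of_card_le hTF heq.ge).symm ▸ hFd
      have := hm d (Finset.mem_filter.mp hdT).1
      rw [hd] at this
      rw [heq]
      have : m ≤ F.card := this
      omega
  rw [Nat.card_eq_fintype_card (α := {c : ConjClasses G // _})]
  rw [Nat.card_eq_fintype_card (α := ConjClasses K)] at hk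
  have hQm : Nat.card Q' = (Finset.univ.filter fun x : K => x ∈ Q').card := by
    rw [Nat.card_eq_fintype_card, Fintype.card_subtype]
  have hCm : Nat.card C = (Finset.univ.filter fun x : K => x ∈ C).card := by
    rw [Nat.card_eq_fintype_card, Fintype.card_subtype]
  have hZm : Nat.card (Subgroup.center K) = (Finset.univ.filter fun x : K => x ∈ Subgroup.center K).card := by
    rw [Nat.card_eq_fintype_card, Fintype.card_subtype]
  set M := Finset.univ.filter fun x : K => x ∈ Q' ∧ x ∉ C with hM
  have hMcard : Nat.card Q' ≤ M.card + Nat.card C := by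
    rw [hQm, hCm]
    refine (Finset.card_le_card fun x hx => ?_).trans (Finset.card_union_le _ _)
    simp only [hM, Finset.mem_union, Finset.mem_filter, Finset.mem_univ, true_and] at hx ⊢
    tauto
  set M' := M.filter fun x => x ∈ Subgroup.center K with hM'
  have hM'card : Nat.card (Subgroup.center K) ≤ M'.card + Nat.card C := by
    rw [hZm, hCm]
    refine (Finset.card_le_card fun x hx => ?_).trans (Finset.card_union_le _ _)
    simp only [hM', hM, Finset.mem_union, Finset.mem_filter, Finset.mem_univ, true_and] at hx ⊢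
    have := hZQ hx
    tauto
  have hcentral : ∀ x y : K, x ∈ Subgroup.center K → ConjClasses.mk y = ConjClasses.mk x → y = x := by
    intro x y hx hy
    obtain ⟨u, hu⟩ := isConj_iff.mp (ConjClasses.mk_eq_mk_iff_isConj.mp hy.symm)
    rw [← hu, Subgroup.mem_center_iff.mp hx u, mul_inv_cancel_right]
  have hMS : M.card + M'.card ≤ 2 * S.card := by
    have hmaps : ∀ x ∈ M, ConjClasses.mk x ∈ S := fun x hx => by
      simp only [hM, Finset.mem_filter, Finset.mem_univ, true_and] at hx; exact hmove x hx.1 hx.2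
    rw [Finset.card_eq_sum_card_fiberwise hmaps,
      Finset.card_eq_sum_card_fiberwise (f := ConjClasses.mk) (s := M') (t := S)
        (fun x hx => hmaps x (Finset.mem_filter.mp hx).1),
      ← Finset.sum_add_distrib, mul_comm, ← smul_eq_mul]
    refine Finset.sum_le_card_nsmul _ _ _ fun c _ => ?_
    by_cases hz : ∃ x, x ∈ Subgroup.center K ∧ ConjClasses.mk x = c
    · obtain ⟨x, hx, rfl⟩ := hz
      have h1 : ∀ s : Finset K, (s.filter fun y => ConjClasses.mk y = ConjClasses.mk x).card ≤ 1 := fun s =>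
        Finset.card_le_one.mpr fun u hu v hv => (hcentral x u hx (Finset.mem_filter.mp hu).2).trans
          (hcentral x v hx (Finset.mem_filter.mp hv).2).symm
      exact Nat.add_le_add (h1 M) (h1 M')
    · have h0 : (M'.filter fun y => ConjClasses.mk y = c) = ∅ := Finset.filter_eq_empty_iff.mpr fun y hy e =>
        hz ⟨y, (Finset.mem_filter.mp hy).2, e⟩
      rw [h0, Finset.card_empty, add_zero]
      exact (Finset.card_le_card fun y hy => by
        simp only [Finset.mem_filter, Finset.mem_univ, true_and] at hy ⊢; exact hy.2).trans (hfib c)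
  have hkP : 2 * Fintype.card (ConjClasses K) ≤ Nat.card K + Nat.card (Subgroup.center K) := by
    rw [Nat.card_eq_fintype_card (α := K), hZm, ← Finset.card_univ (α := K),
      Finset.card_eq_sum_card_fiberwise (f := ConjClasses.mk) (s := (Finset.univ : Finset K)) (t := Finset.univ)
        (fun x _ => Finset.mem_univ _),
      Finset.card_eq_sum_card_fiberwise (f := ConjClasses.mk)
        (s := Finset.univ.filter fun x : K => x ∈ Subgroup.center K) (t := Finset.univ) (fun x _ => Finset.mem_univ _),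
      ← Finset.sum_add_distrib, Fintype.card_eq_sum_ones, Finset.mul_sum]
    refine Finset.sum_le_sum fun c _ => ?_
    obtain ⟨x, rfl⟩ := ConjClasses.mk_surjective c
    by_cases hx : x ∈ Subgroup.center K
    · have h1 : 1 ≤ (Finset.univ.filter fun y : K => ConjClasses.mk y = ConjClasses.mk x).card :=
        Finset.card_pos.mpr ⟨x, by simp⟩
      have h2 : 1 ≤ ((Finset.univ.filter fun y : K => y ∈ Subgroup.center K).filter
          fun y => ConjClasses.mk y = ConjClasses.mk x).card := Finset.card_pos.mpr ⟨x, by simp [hx]⟩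
      omega
    · obtain ⟨u, hu⟩ : ∃ u : K, u * x * u⁻¹ ≠ x := by
        by_contra hcon
        push Not at hcon
        exact hx (Subgroup.mem_center_iff.mpr fun u => mul_inv_eq_iff_eq_mul.mp (hcon u))
      refine le_trans ?_ (Nat.le_add_right _ _)
      exact two_le_card (x := u * x * u⁻¹) (y := x) (by
        simp only [Finset.mem_filter, Finset.mem_univ, true_and]
        exact ConjClasses.mk_eq_mk_iff_isConj.mpr (isConj_iff.mpr ⟨u, rfl⟩).symm) (by simp) hu
  rcases eq_or_ne (Subgroup.center K) ⊤ with hab | hab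
  · -- abelian Sylow 2-subgroups
    have hS3 : ∀ c ∈ S, 3 ≤ (Finset.univ.filter fun d : ConjClasses K => f d = f c).card := by
      intro c hc
      simp only [S, Finset.mem_filter, Finset.mem_univ, true_and] at hc
      obtain ⟨x, hx, rfl, hne⟩ := hc
      have hinj : ∀ u v : K, ConjClasses.mk u = ConjClasses.mk v → u = v := fun u v h =>
        hcentral v u (hab ▸ Subgroup.mem_top v) h
      have hne0 : τ x ≠ x := fun e => hne (by rw [e])
      have hne1 : τ (τ x) ≠ τ x := fun e => hne0 (Subtype.ext (by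
        have e' := congrArg (Subtype.val : K → G) e
        rw [hτ _ (hτQ x hx), hτ x hx] at e'
        rw [hτ x hx]
        exact mul_left_cancel (mul_right_cancel e')))
      have hne2 : τ (τ x) ≠ x := fun e => hne0 (Subtype.ext (by
        have e' := congrArg (Subtype.val : K → G) e
        rw [hτ _ (hτQ x hx), hτ x hx] at e'
        rw [hτ x hx]
        exact hodd _ e'))
      calc 3 = ({ConjClasses.mk x, ConjClasses.mk (τ x), ConjClasses.mk (τ (τ x))} : Finset (ConjClasses K)).card :=
          (Finset.card_eq_three.mpr ⟨_, _, _, fun e => hne0 (hinj _ _ e).symm, fun e => hne2 (hinj _ _ e).symm,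
            fun e => hne1 (hinj _ _ e).symm, rfl⟩).symm
        _ ≤ _ := Finset.card_le_card fun y hy => by
          simp only [Finset.mem_insert, Finset.mem_singleton] at hy
          simp only [Finset.mem_filter, Finset.mem_univ, true_and]
          rcases hy with rfl | rfl | rfl
          exacts [rfl, hfeq x hx, (hfeq _ (hτQ x hx)).trans (hfeq x hx)]
    have hb := hbound 3 hS3
    have hQtop : Nat.card Q' = Nat.card K := by
      have : Q' = ⊤ := top_unique (hab ▸ hZQ)
      rw [this, Subgroup.card_top]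
    have hZtop : Nat.card (Subgroup.center K) = Nat.card K := by rw [hab, Subgroup.card_top]
    show 2 * Fintype.card _ ≤ Nat.card K
    omega
  · have hb := hbound 2 hS2
    have hQ2 : 2 * Nat.card (Subgroup.center K) ≤ Nat.card Q' := by
      have hmul := ((Subgroup.center K).subgroupOf Q').card_mul_index
      rw [Nat.card_congr (Subgroup.subgroupOfEquivOfLe hZQ).toEquiv] at hmul
      rw [← hmul, mul_comm]
      refine Nat.mul_le_mul_left _ ?_
      by_contra hlt
      have h1 : ((Subgroup.center K).subgroupOf Q').index = 1 := by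
        have := Subgroup.index_ne_zero_of_finite (H := (Subgroup.center K).subgroupOf Q'); omega
      have hle : Q' ≤ Subgroup.center K := Subgroup.subgroupOf_eq_top.mp (Subgroup.index_eq_one.mp h1)
      refine hab (top_unique fun w _ => hle (hCQ (Subgroup.mem_inf.mpr ⟨w.2, Subgroup.mem_centralizer_iff.mpr
        fun u hu => ?_⟩)))
      exact (congrArg Subtype.val (Subgroup.mem_center_iff.mp (hle (show (⟨u, hQP hu⟩ : K) ∈ Q' from hu)) w)).symm
    show 2 * Fintype.card _ ≤ Nat.card K
    omega

theorem main (P : Sylow 2 G) :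
    Nat.card ↥(P : Subgroup G) < 2 * Nat.card {c : ConjClasses G // ∀ x ∈ c.carrier, ∃ k : ℕ, orderOf x = 2 ^ k} ↔
      Cfsg.HasNormalPComplement 2 G ∧ Nat.card ↥(P : Subgroup G) < 2 * Nat.card (ConjClasses ↥(P : Subgroup G)) := by
  obtain ⟨f, hf, hfval⟩ := surj_of_sylow P
  have hle := Nat.card_le_card_of_surjective f hf
  constructor
  · intro h
    have hk : Nat.card (P : Subgroup G) < 2 * Nat.card (ConjClasses (P : Subgroup G)) :=
      h.trans_le (Nat.mul_le_mul_left 2 hle)
    refine ⟨?_, hk⟩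
    by_contra hn
    exact absurd (fused_le P hk hn) (not_le.mpr h)
  · rintro ⟨⟨P₀, N, hN, hc⟩, hk⟩
    haveI := hN
    obtain ⟨y, hy⟩ := MulAction.exists_smul_eq G P₀ P
    set q := QuotientGroup.mk' N with hq
    have hcardN : (Nat.card N).Coprime (Nat.card P) := by
      have h1 : ¬ 2 ∣ (P₀ : Subgroup G).index := P₀.not_dvd_index
      rw [hc.index_eq_card] at h1
      obtain ⟨k, hk'⟩ := P.2.exists_card_eq
      rw [hk']
      exact Nat.Coprime.pow_right k ((Nat.prime_two.coprime_iff_not_dvd.mpr h1).symm)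
    have hinj : Function.Injective f := by
      intro c d h
      obtain ⟨u, rfl⟩ := ConjClasses.mk_surjective c
      obtain ⟨v, rfl⟩ := ConjClasses.mk_surjective d
      have h1 := congrArg Subtype.val h
      rw [hfval, hfval] at h1
      obtain ⟨w, hw⟩ := isConj_iff.mp (ConjClasses.mk_eq_mk_iff_isConj.mp h1)
      have hbij : Function.Bijective fun p : (P : Subgroup G) => q p := by
        rw [Nat.bijective_iff_injective_and_card]
        refine ⟨fun a b e => Subtype.ext ?_, ?_⟩
        · have hm : (a : G)⁻¹ * b ∈ N ⊓ (P : Subgroup G) :=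
            Subgroup.mem_inf.mpr ⟨QuotientGroup.eq.mp e, mul_mem (inv_mem a.2) b.2⟩
          rw [(Subgroup.disjoint_of_coprime_natCard hcardN).eq_bot, Subgroup.mem_bot, inv_mul_eq_one] at hm
          exact hm
        · show Nat.card P = Nat.card (G ⧸ N)
          rw [Sylow.card_eq_multiplicity, ← Sylow.card_eq_multiplicity P₀]
          exact hc.symm.index_eq_card.symm
      obtain ⟨p', hp'⟩ := hbij.2 (q w)
      refine ConjClasses.mk_eq_mk_iff_isConj.mpr (isConj_iff.mpr ⟨p', hbij.1 ?_⟩)
      have hp'' : q (p' : G) = q w := hp'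
      show q ((p' * u * p'⁻¹ : (P : Subgroup G)) : G) = q v
      rw [← hw]
      push_cast
      rw [map_mul, map_mul, map_inv, hp'', ← map_inv, ← map_mul, ← map_mul]
    calc _ < _ := hk
      _ = _ := by rw [Nat.card_congr (Equiv.ofBijective f ⟨hinj, hf⟩)]

end Aux

/-- Let G be a finite group with Sylow 2-subgroup P, and write k₂(G) for the number of conjugacy classes of G consisting of 2-elements (elements of 2-power order, the identity included). Then k₂(G) > |P|/2 if and only if G has a normal 2-complement and P has more than |P|/2 conjugacy classes. -/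
theorem result {G : Type*} [Group G] [Finite G] (P : Sylow 2 G) :
    Nat.card ↥(P : Subgroup G) < 2 * Nat.card {c : ConjClasses G // ∀ x ∈ c.carrier, ∃ k : ℕ, orderOf x = 2 ^ k} ↔
      Cfsg.HasNormalPComplement 2 G ∧ Nat.card ↥(P : Subgroup G) < 2 * Nat.card (ConjClasses ↥(P : Subgroup G)) := by

  exact Aux.main P

end Cfsg.Agent.S3895
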