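import Cfsg.Statements.S3898
import Mathlib
import Cfsg.Agent.S3895
import Cfsg.Agent.Lib.PComplement
import Cfsg.Agent.Lib.ClassPiCount
-- import your own Cfsg.Agent.* helpers here

set_option autoImplicit false
open Cfsg

namespace Cfsg.Agent.S3898

namespace Aux

universe a

open CfsgLib CfsgLib.ClassPiCount
open scoped commutatorElement Pointwise

set_option maxHeartbeats 1000000

abbrev CP {G : Type a} [Group G] (π : Set ℕ) (C : ConjClasses G) : Prop :=
  ∀ q : ℕ, q.Prime → (∃ g : G, ConjClasses.mk g = C ∧ q ∣ orderOf g) → q ∈ π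

noncomputable def kc (π : Set ℕ) (G : Type a) [Group G] : ℕ := Nat.card {C : ConjClasses G // CP π C}

def piPart (π : Finset ℕ) (n : ℕ) : ℕ := π.prod fun r => r ^ n.factorization r

theorem orderOf_eq_of_mk {G : Type a} [Group G] {x y : G} (h : ConjClasses.mk x = ConjClasses.mk y) :
    orderOf x = orderOf y := by
  obtain ⟨u, hu⟩ := isConj_iff.mp (ConjClasses.mk_eq_mk_iff_isConj.mp h)
  rw [← hu, ← MulAut.conj_apply, MulEquiv.orderOf_eq]

theorem cp_mk {G : Type a} [Group G] {π : Set ℕ} {x : G} (hx : IsPiEl π x) : CP π (ConjClasses.mk x) :=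
  fun q hq ⟨g, hg, hd⟩ => hx q hq (orderOf_eq_of_mk hg ▸ hd)

theorem piEl_coprime {G : Type a} [Group G] {p : ℕ} (hp : p.Prime) {x : G} (hx : IsPiEl ({p}ᶜ : Set ℕ) x) :
    (orderOf x).Coprime p :=
  (hp.coprime_iff_not_dvd.mpr fun hd => hx p hp hd rfl).symm

theorem exists_sylow_surj {G : Type a} [Group G] [Finite G] {p : ℕ} [Fact p.Prime] (P : Sylow p G) :
    ∃ f : ↥(P : Subgroup G) → {C : ConjClasses G // CP ({p} : Set ℕ) C}, Function.Surjective f ∧
      (∀ x, (f x).1 = ConjClasses.mk (x : G)) ∧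
      ∀ c, ∃ x : (P : Subgroup G), ConjClasses.map (P : Subgroup G).subtype c = (f x).1 := by
  have hp := (Fact.out : p.Prime)
  have hel : ∀ x : (P : Subgroup G), IsPiEl ({p} : Set ℕ) (x : G) := fun x q hq hd => by
    obtain ⟨k, hk⟩ := IsPGroup.iff_orderOf.mp P.2 x
    rw [Subgroup.orderOf_coe, hk] at hd
    exact (Nat.prime_dvd_prime_iff_eq hq hp).mp (hq.dvd_of_dvd_pow hd)
  refine ⟨fun x => ⟨_, cp_mk (hel x)⟩, ?_, fun x => rfl, fun c => ?_⟩
  · rintro ⟨c, hc⟩
    obtain ⟨x, rfl⟩ := ConjClasses.mk_surjective c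
    obtain ⟨k, hk⟩ : ∃ k, orderOf x = p ^ k := ⟨_, Nat.eq_prime_pow_of_unique_prime_dvd (orderOf_pos x).ne'
      fun {d} hd hdx => hc d hd ⟨x, rfl, hdx⟩⟩
    obtain ⟨S, hS⟩ := (IsPGroup.of_card (G := Subgroup.zpowers x) (n := k) (by rw [Nat.card_zpowers, hk])).exists_le_sylow
    obtain ⟨y, hy⟩ := MulAction.exists_smul_eq G S P
    have hm : y * x * y⁻¹ ∈ (P : Subgroup G) := by
      rw [← hy, Sylow.coe_subgroup_smul]
      exact Subgroup.smul_mem_pointwise_smul x _ _ (hS (Subgroup.mem_zpowers x))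
    exact ⟨⟨_, hm⟩, Subtype.ext (ConjClasses.mk_eq_mk_iff_isConj.mpr (isConj_iff.mpr ⟨y⁻¹, by simp; group⟩))⟩
  · obtain ⟨x, rfl⟩ := ConjClasses.mk_surjective c
    exact ⟨x, rfl⟩

theorem sylow_le {G : Type a} [Group G] [Finite G] {p : ℕ} (hp : p.Prime) :
    kc ({p} : Set ℕ) G ≤ p ^ (Nat.card G).factorization p := by
  haveI := Fact.mk hp
  let P : Sylow p G := default
  obtain ⟨f, hf, -, -⟩ := exists_sylow_surj P
  exact (Nat.card_le_card_of_surjective f hf).trans (Sylow.card_eq_multiplicity P).le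

theorem piPart_mono {π : Finset ℕ} (hπ : ∀ r ∈ π, r.Prime) {m n : ℕ} (hn : n ≠ 0) (h : m ∣ n) :
    piPart π m ≤ piPart π n := by
  have hm : m ≠ 0 := fun e => hn (Nat.eq_zero_of_zero_dvd (e ▸ h))
  exact Finset.prod_le_prod' fun r hr => Nat.pow_le_pow_right (hπ r hr).pos
    ((Nat.factorization_le_iff_dvd hm hn).mpr h r)

theorem split {π : Finset ℕ} (hπ : ∀ r ∈ π, r.Prime) {p : ℕ} (hp : p.Prime) (hpπ : p ∉ π)
    (ih : ∀ (H : Type a) [Group H] [Finite H], kc (π : Set ℕ) H ≤ piPart π (Nat.card H))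
    (G : Type a) [Group G] [Finite G] :
    kc ((insert p π : Finset ℕ) : Set ℕ) G ≤ kc ({p} : Set ℕ) G * piPart π (Nat.card G) := by
  classical
  haveI := Fintype.ofFinite G
  refine Nat.le_of_mul_le_mul_right ?_ (Nat.card_pos (α := G))
  set X := {x : G // IsPiEl ({p} : Set ℕ) x} with hX
  let C : X → Subgroup G := fun x => Subgroup.centralizer {(x : G)}
  choose I J hI hJ hIJ using fun y : G => exists_parts (G := G) ({p} : Set ℕ) y
  let F : {q : G × G // IsPiEl ((insert p π : Finset ℕ) : Set ℕ) q.2 ∧ Commute q.1 q.2} →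
      Σ x : X, {q : C x × C x // IsPiEl (π : Set ℕ) q.2 ∧ Commute q.1 q.2} := fun q =>
    ⟨⟨q.1.2 ^ I q.1.2, hI _⟩,
      ⟨(⟨q.1.1, Subgroup.mem_centralizer_singleton_iff.mpr (q.2.2.pow_right _).eq⟩,
        ⟨q.1.2 ^ J q.1.2, Subgroup.mem_centralizer_singleton_iff.mpr (Commute.pow_pow_self _ _ _).eq⟩),
      (fun r hr hd => by
        rw [Subgroup.orderOf_mk] at hd
        have h1 : r ∈ (insert p π : Finset ℕ) := q.2.1 r hr (hd.trans (orderOf_pow_dvd _))
        exact (Finset.mem_insert.mp h1).resolve_left (hJ _ r hr hd)),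
      Subtype.ext (q.2.2.pow_right _).eq⟩⟩
  have hF : Function.Injective F := fun q q' h => by
    let out : (Σ x : X, {q : C x × C x // IsPiEl (π : Set ℕ) q.2 ∧ Commute q.1 q.2}) → G × G := fun s =>
      ((s.2.1.1 : G), (s.1 : G) * (s.2.1.2 : G))
    have hout : ∀ q, out (F q) = q.1 := fun q => Prod.ext rfl (hIJ _)
    exact Subtype.ext ((hout q).symm.trans ((congrArg out h).trans (hout q')))
  haveI := Fintype.ofFinite X
  have h1 : kc ((insert p π : Finset ℕ) : Set ℕ) G * Nat.card G ≤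
      ∑ x : X, kc (π : Set ℕ) (C x) * Nat.card (C x) := by
    unfold kc
    rw [← card_pairs]
    refine (Nat.card_le_card_of_injective F hF).trans ?_
    rw [Nat.card_sigma]
    exact (Finset.sum_congr rfl fun x _ => card_pairs _).le
  refine h1.trans ?_
  have h2 : ∑ x : X, kc (π : Set ℕ) (C x) * Nat.card (C x) ≤ piPart π (Nat.card G) * ∑ x : X, Nat.card (C x) := by
    rw [Finset.mul_sum]
    exact Finset.sum_le_sum fun x _ => Nat.mul_le_mul_right _
      ((ih (C x)).trans (piPart_mono hπ Nat.card_pos.ne' (Subgroup.card_subgroup_dvd_card _)))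
  refine h2.trans ?_
  have h3 : ∑ x : X, Nat.card (C x) = kc ({p} : Set ℕ) G * Nat.card G := by
    unfold kc
    rw [← card_pairs, ← Nat.card_sigma]
    exact Nat.card_congr
      { toFun := fun s => ⟨((s.2 : G), (s.1 : G)), s.1.2, Subgroup.mem_centralizer_singleton_iff.mp s.2.2⟩
        invFun := fun q => ⟨⟨q.1.2, q.2.1⟩, ⟨q.1.1, Subgroup.mem_centralizer_singleton_iff.mpr q.2.2.eq⟩⟩
        left_inv := fun s => rfl
        right_inv := fun q => rfl }
  rw [h3]
  exact (by ring : piPart π (Nat.card G) * (kc ({p} : Set ℕ) G * Nat.card G) =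
    kc ({p} : Set ℕ) G * piPart π (Nat.card G) * Nat.card G).le

theorem kc_le (π : Finset ℕ) (hπ : ∀ r ∈ π, r.Prime) :
    ∀ (H : Type a) [Group H] [Finite H], kc (π : Set ℕ) H ≤ piPart π (Nat.card H) := by
  classical
  induction π using Finset.induction with
  | empty =>
    intro H _ _
    haveI : Subsingleton {C : ConjClasses H // CP ((∅ : Finset ℕ) : Set ℕ) C} := ⟨fun ⟨c, hc⟩ ⟨d, hd⟩ => by
      have h1 : ∀ e : ConjClasses H, CP ((∅ : Finset ℕ) : Set ℕ) e → e = ConjClasses.mk 1 := fun e he => by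
        obtain ⟨x, rfl⟩ := ConjClasses.mk_surjective e
        by_cases hx : x = 1
        · rw [hx]
        obtain ⟨r, hr, hd⟩ := Nat.exists_prime_and_dvd (fun e => hx (orderOf_eq_one_iff.mp e))
        exact absurd (he r hr ⟨x, rfl, hd⟩) (by simp)
      exact Subtype.ext ((h1 c hc).trans (h1 d hd).symm)⟩
    simpa [piPart, kc] using Finite.card_le_one_iff_subsingleton.mpr this
  | insert p s hps ih =>
    intro H _ _
    have hs : ∀ r ∈ s, r.Prime := fun r hr => hπ r (Finset.mem_insert_of_mem hr)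
    refine (split hs (hπ p (Finset.mem_insert_self _ _)) hps (ih hs) H).trans ?_
    rw [show piPart (insert p s) (Nat.card H) = _ from Finset.prod_insert hps]
    exact Nat.mul_le_mul_right _ (sylow_le (hπ p (Finset.mem_insert_self _ _)))

theorem fib_bound {α β : Type*} [Fintype α] [Fintype β] [DecidableEq α] [DecidableEq β] (f : α → β)
    (hf : Function.Surjective f) (S : Finset α) (m : ℕ)
    (hm : ∀ c ∈ S, m ≤ (Finset.univ.filter fun d => f d = f c).card) :
    m * Fintype.card β + m * S.card ≤ m * Fintype.card α + S.card := by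
  have e1 := Finset.card_eq_sum_card_fiberwise (f := f) (s := (Finset.univ : Finset α))
    (t := Finset.univ) (fun x _ => Finset.mem_univ _)
  have e2 := Finset.card_eq_sum_card_fiberwise (f := f) (s := S) (t := Finset.univ) (fun x _ => Finset.mem_univ _)
  rw [← Finset.card_univ (α := α), e1, e2, Fintype.card_eq_sum_ones, Finset.mul_sum, Finset.mul_sum, Finset.mul_sum,
    ← Finset.sum_add_distrib, ← Finset.sum_add_distrib]
  refine Finset.sum_le_sum fun b _ => ?_
  obtain ⟨d, hd⟩ := hf b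
  set F := Finset.univ.filter fun x => f x = b with hF
  set T := S.filter fun x => f x = b with hT
  have hTF : T ⊆ F := fun x hx => by
    simp only [hT, hF, Finset.mem_filter, Finset.mem_univ, true_and] at hx ⊢; exact hx.2
  have hFd : d ∈ F := by simp [hF, hd]
  rcases (Finset.card_le_card hTF).lt_or_eq with hlt | heq
  · have : m * (T.card + 1) ≤ m * F.card := Nat.mul_le_mul_left _ hlt
    rw [mul_add] at this
    omega
  · have hdT : d ∈ T := (Finset.eq_of_subset_of_card_le hTF heq.ge).symm ▸ hFd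
    have := hm d (Finset.mem_filter.mp hdT).1
    rw [hd] at this
    rw [heq]
    have : m ≤ F.card := this
    omega

theorem odd_half {K : Type a} [Group K] [Finite K] (hodd : ¬ 2 ∣ Nat.card K) {p : ℕ} (hp : p.Prime) (hp2 : p ≠ 2)
    (h : p ^ (Nat.card K).factorization p < 2 * kc ({p} : Set ℕ) K) :
    ∃ M : Subgroup K, M.Normal ∧ ¬ p ∣ Nat.card M ∧ (∃ j, M.index = p ^ j) ∧ commutator K ≤ M := by
  classical
  haveI := Fact.mk hp
  let P : Sylow p K := default
  obtain ⟨f, hf, hfval, hmap⟩ := exists_sylow_surj P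
  have hPc : Nat.card (P : Subgroup K) = p ^ (Nat.card K).factorization p := Sylow.card_eq_multiplicity P
  rw [← hPc] at h
  have hab : commutator (P : Subgroup K) = ⊥ := by
    by_contra hne
    have hle : kc ({p} : Set ℕ) K ≤ Nat.card (ConjClasses (P : Subgroup K)) := by
      choose x hx using hmap
      refine Nat.card_le_card_of_surjective (fun c => f (x c)) fun t => ?_
      obtain ⟨u, rfl⟩ := hf t
      refine ⟨ConjClasses.mk u, Subtype.ext ?_⟩
      rw [← hx, hfval]; rfl
    have h4 := S3895.Aux.four_mul_classes (P : Subgroup K)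
    obtain ⟨i, hi⟩ := IsPGroup.iff_card.mp (P.2.to_subgroup (commutator (P : Subgroup K)))
    have h3 : 3 ≤ Nat.card (commutator (P : Subgroup K)) := by
      rw [hi]
      rcases i with _ | i
      · exact absurd (Subgroup.card_eq_one.mp (by simpa using hi)) hne
      · have := Nat.le_self_pow (show i + 1 ≠ 0 by omega) p
        have := hp.two_le
        omega
    have h5 : 3 * (commutator (P : Subgroup K)).index ≤ Nat.card (P : Subgroup K) :=
      (commutator (P : Subgroup K)).card_mul_index ▸ Nat.mul_le_mul_right _ h3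
    omega
  have hcomm : ∀ a b : (P : Subgroup K), a * b = b * a := fun a b => by
    have := Subgroup.commutator_mem_commutator (Subgroup.mem_top a) (Subgroup.mem_top b)
    rw [← commutator_def, hab, Subgroup.mem_bot] at this
    exact commutatorElement_eq_one_iff_mul_comm.mp this
  have hPC : (P : Subgroup K) ≤ Subgroup.centralizer ((P : Subgroup K) : Set K) := fun a ha =>
    Subgroup.mem_centralizer_iff.mpr fun b hb => congrArg Subtype.val (hcomm ⟨b, hb⟩ ⟨a, ha⟩)
  have hNC : Subgroup.normalizer ((P : Subgroup K) : Set K) ≤ Subgroup.centralizer ((P : Subgroup K) : Set K) := by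
    by_contra hne
    obtain ⟨g, hgN, hgC⟩ := SetLike.not_le_iff_exists.mp hne
    obtain ⟨i, j, hi, hj, hij⟩ := exists_parts ({p} : Set ℕ) g
    have hgi : g ^ i ∈ (P : Subgroup K) := by
      obtain ⟨k, hk⟩ : ∃ k, orderOf (g ^ i) = p ^ k := ⟨_, Nat.eq_prime_pow_of_unique_prime_dvd (orderOf_pos _).ne'
        fun {d} hd hdx => hi d hd hdx⟩
      have hpz : IsPGroup p (Subgroup.zpowers (g ^ i)) := IsPGroup.of_card (n := k) (by rw [Nat.card_zpowers, hk])
      exact (Subgroup.mem_inf.mp (hpz.inf_normalizer_sylow P ▸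
        Subgroup.mem_inf.mpr ⟨Subgroup.mem_zpowers _, pow_mem hgN i⟩)).2
    set u := g ^ j with hu
    have huN : u ∈ Subgroup.normalizer ((P : Subgroup K) : Set K) := pow_mem hgN j
    have huC : u ∉ Subgroup.centralizer ((P : Subgroup K) : Set K) := fun hm =>
      hgC (hij ▸ mul_mem (hPC hgi) hm)
    have huo : (orderOf u).Coprime 2 := (Nat.prime_two.coprime_iff_not_dvd.mpr fun hd =>
      hodd (hd.trans (orderOf_dvd_natCard u))).symm
    have hup : (orderOf u).Coprime p := piEl_coprime hp hj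
    obtain ⟨m, hm1, hm2, hm3⟩ : ∃ m : ℕ, (p = 3 ∧ m = 5 ∨ 5 ≤ p ∧ m = 3) ∧
        (∀ d : ℕ, 0 < d → d < m → (orderOf u).Coprime d) ∧ 0 < m := by
      rcases Nat.lt_or_ge p 5 with hlt | hge
      · have hp3 : p = 3 := by
          have := hp.two_le
          interval_cases p
          · omega
          · rfl
          · exact absurd hp (by norm_num)
        subst hp3
        refine ⟨5, Or.inl ⟨rfl, rfl⟩, fun d hd0 hd => ?_, by norm_num⟩
        interval_cases d
        · exact Nat.coprime_one_right _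
        · exact huo
        · exact hup
        · exact Nat.Coprime.mul_right huo huo
      · refine ⟨3, Or.inr ⟨hge, rfl⟩, fun d hd0 hd => ?_, by norm_num⟩
        interval_cases d
        · exact Nat.coprime_one_right _
        · exact huo
    haveI := Fintype.ofFinite (P : Subgroup K)
    haveI := Fintype.ofFinite {C : ConjClasses K // CP ({p} : Set ℕ) C}
    set C := (Subgroup.centralizer {u}).subgroupOf (P : Subgroup K) with hC
    let S : Finset (P : Subgroup K) := Finset.univ.filter fun x => x ∉ C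
    have hfib : ∀ x ∈ S, m ≤ (Finset.univ.filter fun y => f y = f x).card := by
      intro x hx
      simp only [S, Finset.mem_filter, Finset.mem_univ, true_and] at hx
      let g' : ℕ → (P : Subgroup K) := fun d => ⟨u ^ d * x * (u ^ d)⁻¹,
        (Subgroup.mem_normalizer_iff.mp (pow_mem huN d) (x : K)).mp x.2⟩
      have hinj : Set.InjOn g' (Finset.range m : Set ℕ) := by
        suffices ∀ d e, d ≤ e → e < m → g' d = g' e → d = e by
          intro d hd e he hde
          simp only [Finset.coe_range, Set.mem_Iio] at hd he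
          rcases le_total d e with hle | hle
          · exact this d e hle he hde
          · exact (this e d hle hd hde.symm).symm
        intro d e hle he hde
        by_contra hne
        obtain ⟨c, rfl⟩ := Nat.exists_eq_add_of_le hle
        have h1 : u ^ d * x * (u ^ d)⁻¹ = u ^ (d + c) * x * (u ^ (d + c))⁻¹ := congrArg Subtype.val hde
        have h2 : Commute (u ^ c) (x : K) := by
          refine mul_inv_eq_iff_eq_mul.mp ?_
          rw [pow_add] at h1
          calc u ^ c * x * (u ^ c)⁻¹ = (u ^ d)⁻¹ * (u ^ d * u ^ c * x * (u ^ d * u ^ c)⁻¹) * u ^ d := by group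
            _ = x := by rw [← h1]; group
        obtain ⟨i, hi⟩ := exists_pow_eq_self_of_coprime (x := u) (n := c) (hm2 c (by omega) (by omega)).symm
        exact hx (Subgroup.mem_centralizer_singleton_iff.mpr (hi ▸ h2.pow_left i).eq.symm)
      calc m = ((Finset.range m).image g').card := by rw [Finset.card_image_of_injOn hinj, Finset.card_range]
        _ ≤ _ := Finset.card_le_card fun y hy => by
          obtain ⟨d, -, rfl⟩ := Finset.mem_image.mp hy
          simp only [Finset.mem_filter, Finset.mem_univ, true_and]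
          refine Subtype.ext ?_
          rw [hfval, hfval]
          exact (ConjClasses.mk_eq_mk_iff_isConj.mpr (isConj_iff.mpr ⟨u ^ d, rfl⟩)).symm
    have hb := fib_bound f hf S m hfib
    have hC2 : p * Nat.card C ≤ Nat.card (P : Subgroup K) := by
      obtain ⟨i, hi⟩ := P.2.index C
      rw [← C.card_mul_index, hi, mul_comm p]
      refine Nat.mul_le_mul_left _ (Nat.le_self_pow (fun h0 => huC ?_) p)
      have htop : C = ⊤ := Subgroup.index_eq_one.mp (by rw [hi, h0, pow_zero])
      exact Subgroup.mem_centralizer_iff.mpr fun w hw => Subgroup.mem_centralizer_singleton_iff.mp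
        (htop ▸ Subgroup.mem_top (⟨w, hw⟩ : (P : Subgroup K)) : (⟨w, hw⟩ : (P : Subgroup K)) ∈ C)
    have hS : Nat.card (P : Subgroup K) = S.card + Nat.card C := by
      rw [Nat.card_eq_fintype_card (α := C), Fintype.card_subtype, Nat.card_eq_fintype_card,
        ← Finset.card_univ, add_comm]
      exact (Finset.card_filter_add_card_filter_not (p := fun x => x ∈ C)).symm
    unfold kc at h
    rw [Nat.card_eq_fintype_card (α := {C : ConjClasses K // _})] at h
    rw [← Nat.card_eq_fintype_card (α := (P : Subgroup K))] at hb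
    rcases hm1 with ⟨rfl, rfl⟩ | ⟨hp5, rfl⟩
    · omega
    · have : 5 * Nat.card C ≤ Nat.card (P : Subgroup K) := (Nat.mul_le_mul_right _ hp5).trans hC2
      omega
  obtain ⟨P', M, hM, hMc⟩ := hasNormalPComplement_of_normalizer_le_centralizer P hNC
  haveI := hM
  refine ⟨M, hM, ?_, ⟨(Nat.card K).factorization p, ?_⟩, ?_⟩
  · rw [← hMc.index_eq_card]; exact P'.not_dvd_index
  · rw [hMc.symm.index_eq_card.trans (Sylow.card_eq_multiplicity P')]
  · rw [commutator_def, Subgroup.commutator_le]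
    intro a _ b _
    obtain ⟨y, hy⟩ := MulAction.exists_smul_eq K P P'
    have hcomm' : ∀ s t : (P' : Subgroup K), s * t = t * s := fun s t => by
      let e : (P : Subgroup K) ≃* (P' : Subgroup K) :=
        (Subgroup.equivSMul (MulAut.conj y) (P : Subgroup K)).trans
          (MulEquiv.subgroupCongr (by rw [← hy]; rfl))
      obtain ⟨s, rfl⟩ := e.surjective s
      obtain ⟨t, rfl⟩ := e.surjective t
      rw [← map_mul, ← map_mul, hcomm]
    rw [← QuotientGroup.eq_one_iff]
    have hsur : ∀ z : K, ∃ s : (P' : Subgroup K), (z : K ⧸ M) = ((s : K) : K ⧸ M) := fun z => by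
      obtain ⟨m, hm, s, hs, e⟩ := Subgroup.mem_sup_of_normal_left.mp (hMc.sup_eq_top ▸ Subgroup.mem_top z)
      exact ⟨⟨s, hs⟩, by rw [← e, QuotientGroup.mk_mul, (QuotientGroup.eq_one_iff m).mpr hm, one_mul]⟩
    obtain ⟨s, hs⟩ := hsur a
    obtain ⟨t, ht⟩ := hsur b
    show ((⁅a, b⁆ : K) : K ⧸ M) = 1
    rw [show ((⁅a, b⁆ : K) : K ⧸ M) = ⁅(a : K ⧸ M), (b : K ⧸ M)⁆ from map_commutatorElement (QuotientGroup.mk' M) a b,
      hs, ht, commutatorElement_eq_one_iff_mul_comm, ← QuotientGroup.mk_mul, ← QuotientGroup.mk_mul,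
      ← Subgroup.coe_mul, hcomm', Subgroup.coe_mul]

theorem main {G : Type a} [Group G] [Finite G] (π : Finset ℕ) (hπ : ∀ r ∈ π, r.Prime) (h2 : 2 ∈ π)
    (hk : π.prod (fun r => r ^ (Nat.card G).factorization r) < 2 * Nat.card {c : ConjClasses G // ∀ x ∈ c.carrier, ∀ r : ℕ, r.Prime → r ∣ orderOf x → r ∈ π}) :
    (∃ N : Subgroup G, N.Normal ∧ (∀ r : ℕ, r.Prime → r ∣ Nat.card ↥N → r ∉ π) ∧ ∀ r : ℕ, r.Prime → r ∣ N.index → r ∈ π) ∧ ∃ H : Subgroup G, Cfsg.IsPiHall ((↑π : Set ℕ) \ {2}) H ∧ IsMulCommutative ↥H := by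
  classical
  replace hk : piPart π (Nat.card G) < 2 * kc (π : Set ℕ) G := by
    refine hk.trans_le (le_of_eq ?_)
    congr 1
    exact Nat.card_congr (Equiv.subtypeEquivRight fun c => ⟨fun h q hq ⟨g, hg, hd⟩ =>
      h g (ConjClasses.mem_carrier_iff_mk_eq.mpr hg) q hq hd,
      fun h x hx r hr hd => h r hr ⟨x, ConjClasses.mem_carrier_iff_mk_eq.mp hx, hd⟩⟩)
  have hhalf : ∀ p ∈ π, p ^ (Nat.card G).factorization p < 2 * kc ({p} : Set ℕ) G := by
    intro p hp
    have hs : ∀ r ∈ π.erase p, r.Prime := fun r hr => hπ r (Finset.mem_of_mem_erase hr)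
    have h1 := split hs (hπ p hp) (Finset.notMem_erase p π) (kc_le _ hs) G
    rw [Finset.insert_erase hp] at h1
    have h2 : piPart π (Nat.card G) = p ^ (Nat.card G).factorization p * piPart (π.erase p) (Nat.card G) :=
      (Finset.mul_prod_erase π _ hp).symm
    rw [h2] at hk
    by_contra hle
    have h3 := Nat.mul_le_mul_right (piPart (π.erase p) (Nat.card G)) (not_lt.mp hle)
    rw [mul_assoc] at h3
    omega
  haveI : Fact (Nat.Prime 2) := ⟨Nat.prime_two⟩
  let P : Sylow 2 G := default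
  obtain ⟨⟨P₀, N, hN, hNc⟩, -⟩ := (S3895.Aux.main P).mp (by
    rw [Sylow.card_eq_multiplicity]
    refine (hhalf 2 h2).trans_le (le_of_eq ?_)
    congr 1
    refine Nat.card_congr (Equiv.subtypeEquivRight fun c => ⟨fun h x hx => ?_, fun h q hq ⟨g, hg, hd⟩ => ?_⟩)
    · exact ⟨_, Nat.eq_prime_pow_of_unique_prime_dvd (orderOf_pos x).ne'
        fun {d} hd hdx => h d hd ⟨x, ConjClasses.mem_carrier_iff_mk_eq.mp hx, hdx⟩⟩
    · obtain ⟨k, hk⟩ := h g (ConjClasses.mem_carrier_iff_mk_eq.mpr hg)
      exact (Nat.prime_dvd_prime_iff_eq hq Nat.prime_two).mp (hq.dvd_of_dvd_pow (hk ▸ hd)))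
  haveI := hN
  have hNodd : ¬ 2 ∣ Nat.card N := by rw [← hNc.index_eq_card]; exact P₀.not_dvd_index
  obtain ⟨t, ht⟩ : ∃ t, N.index = 2 ^ t := ⟨_, hNc.symm.index_eq_card.trans (Sylow.card_eq_multiplicity P₀)⟩
  have hstep : ∀ s ⊆ π.erase 2, ∃ M : Subgroup N, M.Normal ∧ (∀ p ∈ s, ¬ p ∣ Nat.card M) ∧
      (∀ q : ℕ, q.Prime → q ∣ M.index → q ∈ s) ∧ commutator N ≤ M := by
    intro s
    induction s using Finset.induction with
    | empty => exact fun _ => ⟨⊤, inferInstance, by simp, fun q hq hd => by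
        rw [Subgroup.index_top] at hd; exact absurd (Nat.dvd_one.mp hd) hq.one_lt.ne', le_top⟩
    | insert p s hps ih =>
      intro hsub
      obtain ⟨M, hM, hM1, hM2, hM3⟩ := ih ((Finset.subset_insert p s).trans hsub)
      obtain ⟨hp2, hpπ⟩ := Finset.mem_erase.mp (hsub (Finset.mem_insert_self p s))
      have hp := hπ p hpπ
      have hfac : (Nat.card G).factorization p = (Nat.card N).factorization p := by
        rw [← N.card_mul_index, Nat.factorization_mul Nat.card_pos.ne' (by rw [ht]; positivity), Finsupp.add_apply,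
          ht, Nat.prime_two.factorization_pow, Finsupp.single_apply, if_neg (Ne.symm hp2), add_zero]
      have hNhalf : p ^ (Nat.card N).factorization p < 2 * kc ({p} : Set ℕ) N := by
        rw [← hfac]
        refine (hhalf p hpπ).trans_le (Nat.mul_le_mul_left 2 ?_)
        refine (ClassPiCount.card_classes_le N ({p} : Set ℕ)).trans ?_
        have : kc ({p} : Set ℕ) (G ⧸ N) ≤ 1 := by
          refine Finite.card_le_one_iff_subsingleton.mpr ⟨fun ⟨c, hc⟩ ⟨d, hd⟩ => ?_⟩
          have h1 : ∀ e : ConjClasses (G ⧸ N), CP ({p} : Set ℕ) e → e = ConjClasses.mk 1 := fun e he => by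
            obtain ⟨x, rfl⟩ := ConjClasses.mk_surjective e
            by_cases hx : x = 1
            · rw [hx]
            obtain ⟨r, hr, hd⟩ := Nat.exists_prime_and_dvd (fun e => hx (orderOf_eq_one_iff.mp e))
            have h2 : r ∣ 2 ^ t := ht ▸ hd.trans (orderOf_dvd_natCard x)
            have hrp : r = p := he r hr ⟨x, rfl, hd⟩
            exact absurd (hrp.symm.trans ((Nat.prime_dvd_prime_iff_eq hr Nat.prime_two).mp (hr.dvd_of_dvd_pow h2))) hp2
          exact Subtype.ext ((h1 c hc).trans (h1 d hd).symm)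
        exact (Nat.mul_le_mul_left _ this).trans (mul_one _).le
      obtain ⟨L, hL, hL1, ⟨j, hL2⟩, hL3⟩ := odd_half hNodd hp hp2 hNhalf
      haveI := hM; haveI := hL
      refine ⟨M ⊓ L, inferInstance, fun r hr => ?_, fun q hq hd => ?_, le_inf hM3 hL3⟩
      · rcases Finset.mem_insert.mp hr with rfl | hr
        · exact fun hd => hL1 (hd.trans (Subgroup.card_dvd_of_le inf_le_right))
        · exact fun hd => hM1 r hr (hd.trans (Subgroup.card_dvd_of_le inf_le_left))
      · rw [← Subgroup.relIndex_mul_index (inf_le_left : M ⊓ L ≤ M), Subgroup.inf_relIndex_left] at hd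
        rcases hq.dvd_mul.mp hd with h | h
        · have := hq.dvd_of_dvd_pow (hL2 ▸ h.trans (Subgroup.relIndex_dvd_index_of_normal L M))
          rw [(Nat.prime_dvd_prime_iff_eq hq hp).mp this]
          exact Finset.mem_insert_self p s
        · exact Finset.mem_insert_of_mem (hM2 q hq h)
  obtain ⟨K, hKn, hK1, hK2, hK3⟩ := hstep _ subset_rfl
  haveI := hKn
  have hcop : (Nat.card K).Coprime K.index := Nat.coprime_of_dvd fun q hq h1 h2 => hK1 q (hK2 q hq h2) h1
  obtain ⟨H, hH⟩ := Subgroup.exists_right_complement'_of_coprime hcop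
  have hKG : ∀ g : G, ∀ x ∈ K, (⟨g * x * g⁻¹, hN.conj_mem _ x.2 g⟩ : N) ∈ K := by
    intro g x hx
    rw [← QuotientGroup.eq_one_iff, ← orderOf_eq_one_iff]
    refine Nat.eq_one_of_dvd_coprimes hcop ?_ (orderOf_dvd_natCard _)
    refine (orderOf_map_dvd (QuotientGroup.mk' K) _).trans ?_
    rw [Subgroup.orderOf_mk, ← MulAut.conj_apply, MulEquiv.orderOf_eq, Subgroup.orderOf_coe, ← Subgroup.orderOf_mk x hx]
    exact orderOf_dvd_natCard _
  refine ⟨⟨K.map N.subtype, ⟨?_⟩, ?_, ?_⟩, H.map N.subtype, ⟨?_, ?_⟩, ?_⟩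
  · rintro _ ⟨x, hx, rfl⟩ g
    exact ⟨_, hKG g x hx, rfl⟩
  · intro r hr hd hrπ
    rw [Subgroup.card_map_of_injective N.subtype_injective] at hd
    by_cases hr2 : r = 2
    · subst hr2; exact hNodd (hd.trans (Subgroup.card_subgroup_dvd_card K))
    · exact hK1 r (Finset.mem_erase.mpr ⟨hr2, hrπ⟩) hd
  · intro r hr hd
    rw [Subgroup.index_map_subtype, ht] at hd
    rcases hr.dvd_mul.mp hd with h | h
    · exact Finset.mem_of_mem_erase (hK2 r hr h)
    · rw [(Nat.prime_dvd_prime_iff_eq hr Nat.prime_two).mp (hr.dvd_of_dvd_pow h)]; exact h2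
  · intro r hr hd
    rw [Subgroup.card_map_of_injective N.subtype_injective, ← hH.symm.index_eq_card] at hd
    obtain ⟨h1, h3⟩ := Finset.mem_erase.mp (hK2 r hr hd)
    exact ⟨h3, h1⟩
  · rintro r hr ⟨hrπ, hr2⟩ hd
    rw [Subgroup.index_map_subtype, hH.index_eq_card, ht] at hd
    rcases hr.dvd_mul.mp hd with h | h
    · exact hK1 r (Finset.mem_erase.mpr ⟨hr2, hrπ⟩) h
    · exact hr2 ((Nat.prime_dvd_prime_iff_eq hr Nat.prime_two).mp (hr.dvd_of_dvd_pow h))
  · refine ⟨⟨?_⟩⟩
    rintro ⟨_, s, hs, rfl⟩ ⟨_, t, ht', rfl⟩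
    refine Subtype.ext ?_
    show (s : G) * t = t * s
    have hm : ⁅s, t⁆ ∈ K ⊓ H := Subgroup.mem_inf.mpr
      ⟨hK3 (Subgroup.commutator_mem_commutator (Subgroup.mem_top s) (Subgroup.mem_top t)),
        by rw [commutatorElement_def]; exact mul_mem (mul_mem (mul_mem hs ht') (inv_mem hs)) (inv_mem ht')⟩
    rw [hH.disjoint.eq_bot, Subgroup.mem_bot] at hm
    exact congrArg Subtype.val (commutatorElement_eq_one_iff_mul_comm.mp hm)

end Aux

/-- Let π be a finite set of primes containing 2 and G a finite group. Write k_π(G) for the number of conjugacy classes of G consisting of π-elements (elements all of whose order's prime divisors lie in π) and |G|_π for the π-part of the order of G. If k_π(G) > |G|_π/2, then G has a normal π-complement (a normal subgroup of order prime to π whose index is a π-number) and an abelian Hall subgroup for the set of odd primes in π. -/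
theorem result {G : Type*} [Group G] [Finite G] (π : Finset ℕ) (hπ : ∀ r ∈ π, r.Prime) (h2 : 2 ∈ π)
    (hk : π.prod (fun r => r ^ (Nat.card G).factorization r) < 2 * Nat.card {c : ConjClasses G // ∀ x ∈ c.carrier, ∀ r : ℕ, r.Prime → r ∣ orderOf x → r ∈ π}) :
    (∃ N : Subgroup G, N.Normal ∧ (∀ r : ℕ, r.Prime → r ∣ Nat.card ↥N → r ∉ π) ∧ ∀ r : ℕ, r.Prime → r ∣ N.index → r ∈ π) ∧ ∃ H : Subgroup G, Cfsg.IsPiHall ((↑π : Set ℕ) \ {2}) H ∧ IsMulCommutative ↥H := by

  exact Aux.main π hπ h2 hk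

end Cfsg.Agent.S3898
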