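import Cfsg.Statements.S3899
import Mathlib
import Cfsg.Agent.Lib.ClassPiBound
-- import your own Cfsg.Agent.* helpers here

set_option autoImplicit false
open Cfsg

namespace Cfsg.Agent.S3899

/-- Let π be a finite non-empty set of odd primes with smallest member p and G a finite group. Write k_π(G) for the number of conjugacy classes of G consisting of π-elements (elements all of whose order's prime divisors lie in π) and |G|_π for the π-part of the order of G. If k_π(G) > (p + 1)|G|_π/(2p), then G has a normal π-complement (a normal subgroup of order prime to π whose index is a π-number) and an abelian Hall π-subgroup. -/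
theorem result {G : Type*} [Group G] [Finite G] (π : Finset ℕ) (hπ : ∀ r ∈ π, r.Prime) (h2 : 2 ∉ π) (p : ℕ) (hp : p ∈ π)
    (hmin : ∀ r ∈ π, p ≤ r) (hk : (p + 1) * π.prod (fun r => r ^ (Nat.card G).factorization r) < 2 * p * Nat.card {c : ConjClasses G // ∀ x ∈ c.carrier, ∀ r : ℕ, r.Prime → r ∣ orderOf x → r ∈ π}) :
    (∃ N : Subgroup G, N.Normal ∧ (∀ r : ℕ, r.Prime → r ∣ Nat.card ↥N → r ∉ π) ∧ ∀ r : ℕ, r.Prime → r ∣ N.index → r ∈ π) ∧ ∃ H : Subgroup G, Cfsg.IsPiHall (↑π : Set ℕ) H ∧ IsMulCommutative ↥H := by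
  classical
  have hcnt : CfsgLib.ClassPiBound.cnt (↑π : Set ℕ) G =
      Nat.card {c : ConjClasses G // ∀ x ∈ c.carrier, ∀ r : ℕ, r.Prime → r ∣ orderOf x → r ∈ π} :=
    Nat.card_congr (Equiv.subtypeEquivRight fun c => Iff.rfl)
  rw [← hcnt] at hk
  -- every prime of `π` satisfies the hypothesis of the one-prime theorem
  have hloc : ∀ r ∈ π, ∃ f : G → G, (∀ x y, f (x * y) = f x * f y) ∧ (∀ x, ∃ k : ℕ, orderOf (f x) = r ^ k) ∧
      (∀ x y, f x * f y = f y * f x) ∧ ¬ ∃ x, f x = 1 ∧ orderOf x = r := by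
    intro r hr
    haveI : Fact r.Prime := ⟨hπ r hr⟩
    obtain ⟨P⟩ : Nonempty (Sylow r G) := inferInstance
    set R := ∏ q ∈ π.erase r, q ^ (Nat.card G).factorization q with hR
    have h1 := CfsgLib.ClassPiBound.cnt_le_single_mul (G := G) (hπ r hr) π hπ hr
    have h2 : π.prod (fun q => q ^ (Nat.card G).factorization q) = Nat.card (P : Subgroup G) * R := by
      rw [← Finset.mul_prod_erase π (fun q => q ^ (Nat.card G).factorization q) hr, P.card_eq_multiplicity]
    have hlt : (r + 1) * Nat.card (P : Subgroup G) < 2 * r * CfsgLib.ClassPiBound.cnt {r} G := by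
      rw [h2] at hk
      set k := CfsgLib.ClassPiBound.cnt {r} G
      set a := Nat.card (P : Subgroup G)
      have h3 : (p + 1) * a * R < 2 * p * k * R :=
        calc (p + 1) * a * R = (p + 1) * (a * R) := mul_assoc _ _ _
          _ < 2 * p * CfsgLib.ClassPiBound.cnt (↑π : Set ℕ) G := hk
          _ ≤ 2 * p * (k * R) := Nat.mul_le_mul_left _ h1
          _ = 2 * p * k * R := (mul_assoc _ _ _).symm
      have h4 := Nat.lt_of_mul_lt_mul_right h3
      have hpr := hmin r hr
      refine Nat.lt_of_mul_lt_mul_left (a := p) ?_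
      calc p * ((r + 1) * a) ≤ r * ((p + 1) * a) := by nlinarith
        _ < r * (2 * p * k) := Nat.mul_lt_mul_of_pos_left h4 (hπ r hr).pos
        _ = p * (2 * r * k) := by ring
    have hc := CfsgLib.ClassPiBound.centralizes_normalizer P hlt
    set φ := MonoidHom.transferSylow P hc
    refine ⟨fun x => (φ x : G), fun x y => by simp, fun x => ?_, fun x y => ?_, ?_⟩
    · obtain ⟨k, hk⟩ := IsPGroup.iff_orderOf.1 P.isPGroup' (φ x)
      exact ⟨k, by simpa using hk⟩
    · exact (hc (Subgroup.le_normalizer (φ x).2) _ (φ y).2).symm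
    · rintro ⟨x, hx, hxo⟩
      refine MonoidHom.not_dvd_card_ker_transferSylow P hc ?_
      have hxk : x ∈ φ.ker := Subtype.ext hx
      exact (dvd_of_eq hxo.symm).trans (Subgroup.orderOf_dvd_natCard _ hxk)
  choose! f hmul hord hcomm hfree using hloc
  let F : ∀ r ∈ π, G →* G := fun r hr => MonoidHom.mk' (f r) (hmul r hr)
  let N : Subgroup G := ⨅ r : ↥π, (F r r.2).ker
  haveI hN : N.Normal := Subgroup.normal_iInf_normal fun r => inferInstance
  have hmem : ∀ x, x ∈ N ↔ ∀ r ∈ π, f r x = 1 := fun x => by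
    rw [Subgroup.mem_iInf]
    exact ⟨fun h r hr => h ⟨r, hr⟩, fun h r => h r.1 r.2⟩
  have hNπ : ∀ r : ℕ, r.Prime → r ∣ Nat.card ↥N → r ∉ π := by
    intro r hr hd hrπ
    haveI := Fact.mk hr
    obtain ⟨x, hx⟩ := exists_prime_orderOf_dvd_card' r hd
    exact hfree r hrπ ⟨x, (hmem _).1 x.2 r hrπ, by rw [Subgroup.orderOf_coe, hx]⟩
  have hNi : ∀ r : ℕ, r.Prime → r ∣ N.index → r ∈ π := by
    intro q hq hd
    by_contra hqπ
    haveI := Fact.mk hq
    obtain ⟨x, hx⟩ := exists_prime_orderOf_dvd_card' (G := G ⧸ N) q hd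
    obtain ⟨x, rfl⟩ := QuotientGroup.mk'_surjective N x
    have hxq : x ^ q ∈ N := by
      rw [← QuotientGroup.eq_one_iff]
      exact (map_pow (QuotientGroup.mk' N) x q).trans (orderOf_dvd_iff_pow_eq_one.1 (dvd_of_eq hx))
    have hxN : x ∈ N := (hmem x).2 fun r hr => by
      obtain ⟨k, hk⟩ := hord r hr x
      have h1 : f r x ^ q = 1 := (map_pow (F r hr) x q).symm.trans ((hmem _).1 hxq r hr)
      rw [← orderOf_eq_one_iff, hk]
      refine Nat.eq_one_of_dvd_coprimes (Nat.Coprime.pow_left k ((Nat.coprime_primes (hπ r hr) hq).2 fun e => hqπ (e ▸ hr)))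
        dvd_rfl (hk ▸ orderOf_dvd_of_pow_eq_one h1)
    rw [show QuotientGroup.mk' N x = 1 from (QuotientGroup.eq_one_iff x).2 hxN, orderOf_one] at hx
    exact hq.one_lt.ne hx
  refine ⟨⟨N, hN, hNπ, hNi⟩, ?_⟩
  have hcop : (Nat.card ↥N).Coprime N.index :=
    Nat.coprime_of_dvd fun q hq h1 h2 => hNπ q hq h1 (hNi q hq h2)
  obtain ⟨H, hH⟩ := Subgroup.exists_right_complement'_of_coprime hcop
  refine ⟨H, ⟨fun q hq hd => hNi q hq (hH.symm.index_eq_card ▸ hd),
    fun q hq hqπ hd => hNπ q hq (hH.index_eq_card ▸ hd) hqπ⟩, ⟨⟨fun a b => ?_⟩⟩⟩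
  refine Subtype.ext (commutatorElement_eq_one_iff_mul_comm.1 ?_)
  rw [← Subgroup.mem_bot, ← hH.disjoint.eq_bot, commutatorElement_def]
  refine Subgroup.mem_inf.2 ⟨(hmem _).2 fun r hr => ?_,
    mul_mem (mul_mem (mul_mem a.2 b.2) (inv_mem a.2)) (inv_mem b.2)⟩
  show F r hr _ = 1
  rw [map_mul, map_mul, map_mul, show F r hr (a : G) * F r hr b = F r hr b * F r hr a from hcomm r hr _ _, map_inv, map_inv]
  group

end Cfsg.Agent.S3899
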