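import Cfsg.Statements.S3901
import Cfsg.Agent.Lib.PComplement
import Cfsg.Agent.Lib.Coprime
import Cfsg.Agent.Lib.FrobAction.Order
import Cfsg.Agent.Lib.CharTheory.Burnside
import Cfsg.Agent.Lib.NilpotentCommute

set_option autoImplicit false
open Cfsg

namespace Cfsg.Agent.S3901

variable {G : Type*} [Group G]

theorem false_of_commute {N : Subgroup G} (h : ∀ x : G, x ∉ N → IsPrimePow (orderOf x)) {a b : G}
    (hc : Commute a b) (hab : a * b ∉ N) (hcop : (orderOf a).Coprime (orderOf b)) (ha : a ≠ 1) (hb : b ≠ 1) :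
    False := by
  obtain ⟨p, k, hp, -, hpk⟩ := h _ hab
  rw [hc.orderOf_mul_eq_mul_orderOf_of_coprime hcop] at hpk
  have hp' : p.Prime := hp.nat_prime
  obtain ⟨q₁, hq₁, hd₁⟩ := Nat.exists_prime_and_dvd (n := orderOf a) (mt orderOf_eq_one_iff.mp ha)
  obtain ⟨q₂, hq₂, hd₂⟩ := Nat.exists_prime_and_dvd (n := orderOf b) (mt orderOf_eq_one_iff.mp hb)
  have e₁ : q₁ = p := (Nat.prime_dvd_prime_iff_eq hq₁ hp').mp
    (hq₁.dvd_of_dvd_pow (hpk ▸ hd₁.mul_right _))
  have e₂ : q₂ = p := (Nat.prime_dvd_prime_iff_eq hq₂ hp').mp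
    (hq₂.dvd_of_dvd_pow (hpk ▸ hd₂.mul_left _))
  subst e₁; subst e₂
  exact hp'.not_dvd_one (hcop ▸ Nat.dvd_gcd hd₁ hd₂)

/-- A finite group that is not of prime power order has a nontrivial subgroup of prime power order
normalised by an element of another prime order. -/
theorem exists_pair {Q : Type*} [Group Q] [Finite Q] (hQ : ∀ p : ℕ, p.Prime → ¬ IsPGroup p Q) :
    ∃ (r t : ℕ) (X : Subgroup Q) (y : Q), r.Prime ∧ t.Prime ∧ r ≠ t ∧ IsPGroup r X ∧ X ≠ ⊥ ∧
      orderOf y = t ∧ y ∈ Subgroup.normalizer (X : Set Q) := by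
  classical
  obtain ⟨r, hr, hrd⟩ := Nat.exists_prime_and_dvd (n := Nat.card Q) (fun e => by
    exact hQ 2 Nat.prime_two (IsPGroup.of_card (n := 0) (by rw [e, pow_zero])))
  have := Fact.mk hr
  by_cases hfc : CfsgLib.FrobeniusCond r Q
  · obtain ⟨P, K, hK, hKP⟩ := CfsgLib.hasNormalPComplement_of_frobeniusCond hfc
    have hK1 : K ≠ ⊥ := by
      intro e
      refine hQ r hr ?_
      have hP : (P : Subgroup Q) = ⊤ := by
        have := hKP.sup_eq_top
        rwa [e, bot_sup_eq] at this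
      exact (hP ▸ P.2 : IsPGroup r (⊤ : Subgroup Q)).of_equiv Subgroup.topEquiv
    have hKr : ¬ r ∣ Nat.card K := by
      intro hd
      have hcard : Nat.card K * Nat.card (P : Subgroup Q) = Nat.card Q := hKP.card_mul
      have hi : (P : Subgroup Q).index = Nat.card K := hKP.index_eq_card
      exact P.not_dvd_index (hi ▸ hd)
    obtain ⟨t, ht, htd⟩ := Nat.exists_prime_and_dvd (n := Nat.card K) (mt Subgroup.card_eq_one.mp hK1)
    have := Fact.mk ht
    obtain ⟨T⟩ := (inferInstance : Nonempty (Sylow t K))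
    set X := (T : Subgroup K).map K.subtype
    have htop := Sylow.normalizer_sup_eq_top T
    have hrn : r ∣ Nat.card (Subgroup.normalizer (X : Set Q)) := by
      by_contra hn
      have hcop : (Nat.card (Subgroup.normalizer (X : Set Q))).Coprime r :=
        ((hr.coprime_iff_not_dvd).mpr hn).symm
      obtain ⟨x, hx⟩ := exists_prime_orderOf_dvd_card' (G := Q) r hrd
      obtain ⟨n, hn', k, hk, hnk⟩ := (Subgroup.mem_sup_of_normal_right (t := K)).mp (htop ▸ Subgroup.mem_top x)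
      let π := QuotientGroup.mk' K
      have hπ : π x = π n := by
        rw [← hnk, map_mul, show π k = 1 from (QuotientGroup.eq_one_iff k).mpr hk, mul_one]
      have h1 : orderOf (π x) ∣ r := hx ▸ orderOf_map_dvd π x
      have h2 : orderOf (π x) ∣ Nat.card (Subgroup.normalizer (X : Set Q)) :=
        hπ ▸ (orderOf_map_dvd π n).trans (Subgroup.orderOf_dvd_natCard _ hn')
      have h3 : π x = 1 := orderOf_eq_one_iff.mp (Nat.eq_one_of_dvd_coprimes hcop.symm h1 h2)
      exact hKr (hx ▸ Subgroup.orderOf_dvd_natCard _ ((QuotientGroup.eq_one_iff x).mp h3))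
    obtain ⟨y, hy⟩ := exists_prime_orderOf_dvd_card' (G := Subgroup.normalizer (X : Set Q)) r hrn
    refine ⟨t, r, X, y, ht, hr, ?_, T.2.map _, ?_, by rw [Subgroup.orderOf_coe, hy], y.2⟩
    · rintro rfl
      exact hKr htd
    · intro e
      have hT : (T : Subgroup K) = ⊥ := (Subgroup.map_eq_bot_iff_of_injective _ K.subtype_injective).mp e
      exact T.ne_bot_of_dvd_card htd hT
  · simp only [CfsgLib.FrobeniusCond, not_forall] at hfc
    obtain ⟨X, hX, g, hg, hgr, hgc⟩ := hfc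
    have hg1 : g ≠ 1 := fun e => hgc (e ▸ Subgroup.one_mem _)
    obtain ⟨t, ht, htd⟩ := Nat.exists_prime_and_dvd (n := orderOf g) (mt orderOf_eq_one_iff.mp hg1)
    refine ⟨r, t, X, g ^ (orderOf g / t), hr, ht, ?_, hX, ?_, ?_, Subgroup.pow_mem _ hg _⟩
    · rintro rfl
      exact hr.not_dvd_one (hgr ▸ Nat.dvd_gcd htd dvd_rfl)
    · rintro rfl
      exact hgc (fun a ha => by rw [Subgroup.mem_bot.mp ha, one_mul, mul_one])
    · rw [orderOf_pow_of_dvd (Nat.div_pos (Nat.le_of_dvd (orderOf_pos g) htd) ht.pos).ne'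
        (Nat.div_dvd_of_dvd htd), Nat.div_div_self htd (orderOf_pos g).ne']

/-- Let N be a non-trivial normal subgroup of the finite group G such that every element of G outside N has prime power order. If N is not solvable, then G/N is solvable. -/
theorem result {G : Type*} [Group G] [Finite G] (N : Subgroup G) [N.Normal] (hN : N ≠ ⊥) (hns : ¬ Group.IsSolvable ↥N)
    (h : ∀ x : G, x ∉ N → IsPrimePow (orderOf x)) : Group.IsSolvable (G ⧸ N) := by
  classical
  by_contra hsol
  have hQ : ∀ p : ℕ, p.Prime → ¬ IsPGroup p (G ⧸ N) := by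
    intro p hp hP
    have := Fact.mk hp
    have := hP.isNilpotent
    exact hsol inferInstance
  obtain ⟨r, t, Xb, yb, hr, ht, hrt, hXb, hXb1, hyb, hybn⟩ := exists_pair hQ
  have := Fact.mk hr
  have := Fact.mk ht
  -- a third prime in N
  obtain ⟨s, hs, hsd, hsr, hst⟩ : ∃ s : ℕ, s.Prime ∧ s ∣ Nat.card N ∧ s ≠ r ∧ s ≠ t := by
    by_contra hcon
    simp only [not_exists, not_and, not_not] at hcon
    refine hns (CfsgLib.CharTheory.isSolvable_of_card_two_primes (a := (Nat.card N).factorization r)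
      (b := (Nat.card N).factorization t) hr ht ?_)
    refine Nat.eq_of_factorization_eq Nat.card_pos.ne' (Nat.pos_iff_ne_zero.mp
      (Nat.mul_pos (pow_pos hr.pos _) (pow_pos ht.pos _))) (fun p => ?_)
    rw [Nat.factorization_mul (pow_ne_zero _ hr.ne_zero) (pow_ne_zero _ ht.ne_zero), hr.factorization_pow,
      ht.factorization_pow, Finsupp.add_apply, Finsupp.single_apply, Finsupp.single_apply]
    by_cases hpr : r = p
    · subst hpr
      simp [hrt.symm]
    by_cases hpt : t = p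
    · subst hpt
      simp [hpr]
    · simp only [hpr, hpt, if_false, add_zero]
      by_contra hne
      have hp : p ∈ (Nat.card N).primeFactors := Nat.support_factorization _ ▸ Finsupp.mem_support_iff.mpr hne
      exact hpt (hcon p (Nat.prime_of_mem_primeFactors hp) (Nat.dvd_of_mem_primeFactors hp) (Ne.symm hpr)).symm
  have := Fact.mk hs
  obtain ⟨R0⟩ := (inferInstance : Nonempty (Sylow s N))
  set R := (R0 : Subgroup N).map N.subtype
  have hRN : R ≤ N := Subgroup.map_subtype_le _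
  have hR1 : R ≠ ⊥ := fun e =>
    R0.ne_bot_of_dvd_card hsd ((Subgroup.map_eq_bot_iff_of_injective _ N.subtype_injective).mp e)
  have hRp : IsPGroup s R := R0.2.map _
  set L := Subgroup.normalizer (R : Set G)
  have htop : L ⊔ N = ⊤ := Sylow.normalizer_sup_eq_top R0
  have lift : ∀ x : G ⧸ N, ∃ l ∈ L, QuotientGroup.mk' N l = x := fun x => by
    obtain ⟨g, rfl⟩ := QuotientGroup.mk'_surjective N x
    obtain ⟨l, hl, n, hn, rfl⟩ := (Subgroup.mem_sup_of_normal_right (t := N)).mp (htop ▸ Subgroup.mem_top g)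
    exact ⟨l, hl, by rw [map_mul, show QuotientGroup.mk' N n = 1 from (QuotientGroup.eq_one_iff n).mpr hn, mul_one]⟩
  set X' := L ⊓ Xb.comap (QuotientGroup.mk' N)
  let f : X' →* Xb := ((QuotientGroup.mk' N).comp X'.subtype).codRestrict Xb (fun x => x.2.2)
  have hf : Function.Surjective f := fun x => by
    obtain ⟨l, hl, hlx⟩ := lift x
    exact ⟨⟨l, hl, show QuotientGroup.mk' N l ∈ Xb from hlx ▸ x.2⟩, Subtype.ext hlx⟩
  obtain ⟨W0⟩ := (inferInstance : Nonempty (Sylow r X'))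
  set W := (W0 : Subgroup X').map X'.subtype
  have hWX : W ≤ X' := Subgroup.map_subtype_le _
  have hWp : IsPGroup r W := W0.2.map _
  have hWimg : ∀ x ∈ Xb, ∃ w ∈ W, QuotientGroup.mk' N w = x := by
    intro x hx
    have h1 : (W0 : Subgroup X').map f = ⊤ :=
      (W0.mapSurjective hf).3 (IsPGroup.to_subgroup hXb ⊤) le_top |>.symm
    obtain ⟨w, hw, hwx⟩ := Subgroup.mem_map.mp (h1 ▸ Subgroup.mem_top (⟨x, hx⟩ : Xb))
    exact ⟨w, ⟨w, hw, rfl⟩, congrArg Subtype.val hwx⟩
  -- a lift of yb normalising W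
  obtain ⟨y, hyL, hyW, hyq⟩ : ∃ y ∈ L, y ∈ Subgroup.normalizer (W : Set G) ∧ QuotientGroup.mk' N y = yb := by
    obtain ⟨y1, hy1, hy1q⟩ := lift yb
    have hX' : y1 ∈ Subgroup.normalizer (X' : Set G) := by
      rw [Subgroup.mem_normalizer_iff]
      intro x
      refine and_congr ?_ ?_
      · exact ⟨fun hx => L.mul_mem (L.mul_mem hy1 hx) (L.inv_mem hy1), fun hx => by
          simpa [mul_assoc] using L.mul_mem (L.mul_mem (L.inv_mem hy1) hx) hy1⟩
      · show QuotientGroup.mk' N x ∈ Xb ↔ QuotientGroup.mk' N (y1 * x * y1⁻¹) ∈ Xb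
        rw [map_mul, map_mul, map_inv, hy1q]
        exact Subgroup.mem_normalizer_iff.mp hybn _
    let e : X' ≃* X' := MulAut.conjNormal (H := X'.subgroupOf (Subgroup.normalizer (X' : Set G)))
        (⟨y1, hX'⟩ : Subgroup.normalizer (X' : Set G)) |> fun a =>
      ((Subgroup.subgroupOfEquivOfLe (Subgroup.le_normalizer (H := X'))).symm.trans a).trans
        (Subgroup.subgroupOfEquivOfLe (Subgroup.le_normalizer (H := X')))
    have he : ∀ x : X', (e x : G) = y1 * x * y1⁻¹ := fun x => rfl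
    let W1 : Sylow r X' := W0.comapOfInjective e.symm.toMonoidHom e.symm.injective
      (fun x _ => e.symm.toMonoidHom.mem_range.mpr ⟨e x, e.symm_apply_apply x⟩)
    obtain ⟨c, hc⟩ := MulAction.exists_smul_eq X' W0 W1
    have hc' : ∀ w : X', w ∈ (W0 : Subgroup X') → c * w * c⁻¹ ∈ (W1 : Subgroup X') := by
      intro w hw
      rw [← hc, Sylow.coe_subgroup_smul]
      exact Subgroup.smul_mem_pointwise_smul w (MulAut.conj c) _ hw
    obtain ⟨w0, hw0, hw0c⟩ := hWimg _ c.2.2
    refine ⟨((c : G) * w0⁻¹)⁻¹ * y1, L.mul_mem (L.inv_mem (L.mul_mem c.2.1 (L.inv_mem (hWX hw0).1))) hy1, ?_, ?_⟩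
    · refine Subgroup.inv_mem_iff _ |>.mp ?_
      rw [Subgroup.mem_normalizer_iff_map_conj_eq]
      refine Subgroup.eq_of_le_of_card_ge ?_ ?_
      · rintro _ ⟨w, hw, rfl⟩
        have hwc : w0⁻¹ * w * w0 ∈ W := W.mul_mem (W.mul_mem (W.inv_mem hw0) hw) hw0
        obtain ⟨v, hv, hvw⟩ := hwc
        have h1 : c * v * c⁻¹ ∈ (W1 : Subgroup X') := hc' v hv
        have h2 : e.symm (c * v * c⁻¹) ∈ (W0 : Subgroup X') := h1
        refine ⟨e.symm (c * v * c⁻¹), h2, ?_⟩
        show (e.symm (c * v * c⁻¹) : G) = _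
        have h3 := he (e.symm (c * v * c⁻¹))
        rw [MulEquiv.apply_symm_apply] at h3
        simp only [Subgroup.coe_mul, Subgroup.coe_inv] at h3
        have hv' : (v : G) = w0⁻¹ * w * w0 := hvw
        rw [hv'] at h3
        simp only [MulEquiv.coe_toMonoidHom, MulAut.conj_apply, mul_inv_rev, inv_inv]
        calc (e.symm (c * v * c⁻¹) : G) = y1⁻¹ * (y1 * (e.symm (c * v * c⁻¹) : G) * y1⁻¹) * y1 := by group
          _ = _ := by
            rw [← h3]
            show _ = (y1⁻¹ * ((c : G) * w0⁻¹)) * w * (y1⁻¹ * ((c : G) * w0⁻¹))⁻¹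
            group
      · exact (Subgroup.card_map_of_injective (MulAut.conj _).injective).ge
    · rw [map_mul, map_inv, map_mul, map_inv, hy1q, hw0c, mul_inv_cancel, inv_one, one_mul]
  have hyN : y ∉ N := fun hy => ht.ne_one (by
    rw [← hyb, ← hyq, show QuotientGroup.mk' N y = 1 from (QuotientGroup.eq_one_iff y).mpr hy, orderOf_one])
  obtain ⟨a, ha⟩ : ∃ a, orderOf y = t ^ a := by
    obtain ⟨p, k, hp, -, hpk⟩ := h y hyN
    have hd : t ∣ orderOf y := hyb ▸ hyq ▸ orderOf_map_dvd _ y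
    have : t = p := (Nat.prime_dvd_prime_iff_eq ht hp.nat_prime).mp (ht.dvd_of_dvd_pow (hpk ▸ hd))
    exact ⟨k, by rw [this, hpk]⟩
  have hXy : ∀ w ∈ W, QuotientGroup.mk' N w ∈ Xb := fun w hw => (hWX hw).2
  have notX : ∀ e ∈ Subgroup.zpowers y, QuotientGroup.mk' N e ∈ Xb → QuotientGroup.mk' N e = 1 := by
    intro e he hex
    obtain ⟨i, rfl⟩ := Subgroup.mem_zpowers_iff.mp he
    have h1 : orderOf (QuotientGroup.mk' N (y ^ i)) ∣ t := by
      rw [map_zpow, hyq, ← hyb]
      exact (Subgroup.orderOf_dvd_natCard _ (Subgroup.zpow_mem _ (Subgroup.mem_zpowers yb) i)).trans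
        (Nat.card_zpowers yb).dvd
    obtain ⟨j, hj⟩ := hXb ⟨_, hex⟩
    have h2 : orderOf (QuotientGroup.mk' N (y ^ i)) ∣ r ^ j :=
      orderOf_dvd_of_pow_eq_one (congrArg Subtype.val hj)
    exact orderOf_eq_one_iff.mp (Nat.eq_one_of_dvd_coprimes
      (((Nat.coprime_primes ht hr).mpr (Ne.symm hrt)).pow_right j) h1 h2)
  obtain ⟨xb, hxb, hxb1⟩ := (Subgroup.bot_or_exists_ne_one Xb).resolve_left hXb1
  obtain ⟨w, hw, hwx⟩ := hWimg xb hxb
  have hwN : w ∉ N := fun hwn => hxb1 (hwx ▸ (QuotientGroup.eq_one_iff w).mpr hwn)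
  obtain ⟨b, hb⟩ := IsPGroup.iff_card.mp hWp
  -- y has order t
  have hyt : y ^ t = 1 := by
    by_contra hz
    have hzN : y ^ t ∈ N := (QuotientGroup.eq_one_iff _).mp (show QuotientGroup.mk' N (y ^ t) = 1 by
      rw [map_pow, hyq, ← hyb, pow_orderOf_eq_one])
    have hAW : Subgroup.zpowers (y ^ t) ≤ Subgroup.normalizer (W : Set G) :=
      Subgroup.zpowers_le.mpr (Subgroup.pow_mem _ hyW _)
    have hA : ∀ x ∈ Subgroup.zpowers (y ^ t), x ∈ N := fun x hx => Subgroup.zpowers_le.mpr hzN hx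
    obtain ⟨c, ⟨hcW, hcA⟩, hkc⟩ := CfsgLib.coprime_fixed_quotient (A := Subgroup.zpowers (y ^ t)) (K := W)
      (N := W ⊓ N) hAW (by
        rw [Nat.card_zpowers, hb]
        exact (((Nat.coprime_primes ht hr).mpr (Ne.symm hrt)).pow a b).coprime_dvd_left
          (ha ▸ orderOf_pow_dvd t))
      (Or.inl inferInstance) inf_le_left
      ((le_inf Subgroup.le_normalizer (fun x _ => by rw [Subgroup.normalizer_eq_top N]; exact Subgroup.mem_top x)).trans
        (Subgroup.inf_normalizer_le_normalizer_inf))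
      ((le_inf hAW (fun x _ => by rw [Subgroup.normalizer_eq_top N]; exact Subgroup.mem_top x)).trans
        (Subgroup.inf_normalizer_le_normalizer_inf))
      hw (fun x hx => ⟨W.mul_mem ((Subgroup.mem_normalizer_iff.mp (hAW hx) _).mp hw) (W.inv_mem hw), by
        rw [show x * w * x⁻¹ * w⁻¹ = x * (w * x⁻¹ * w⁻¹) by group]
        exact N.mul_mem (hA x hx) (Subgroup.Normal.conj_mem inferInstance _ (N.inv_mem (hA x hx)) _)⟩)
    have hcN : c ∉ N := fun hcn => hwN (by simpa [mul_assoc] using N.mul_mem hcn (N.inv_mem hkc.2))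
    refine false_of_commute h (a := c) (b := y ^ t) ((hcA _ (Subgroup.mem_zpowers _)).symm) ?_ ?_ ?_ hz
    · exact fun hh => hcN (by simpa [mul_assoc] using N.mul_mem hh (N.inv_mem hzN))
    · exact (((Nat.coprime_primes hr ht).mpr hrt).pow b a).coprime_dvd_left
        (hb ▸ Subgroup.orderOf_dvd_natCard _ hcW) |>.coprime_dvd_right (ha ▸ orderOf_pow_dvd t)
    · exact fun e => hcN (e ▸ N.one_mem)
  have hyt' : orderOf y = t := orderOf_eq_prime hyt (fun e => hyN (e ▸ N.one_mem))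
  have hWR : W ≤ Subgroup.normalizer (R : Set G) := fun x hx => (hWX hx).1
  set U := R ⊔ W
  have hUdec : ∀ u ∈ U, ∃ v ∈ R, ∃ x ∈ W, u = v * x := fun u hu => by
    obtain ⟨v, hv, x, hx, e⟩ := CfsgLib.mem_sup_of_le_normalizer hWR hu
    exact ⟨v, hv, x, hx, e.symm⟩
  obtain ⟨m, hm⟩ := IsPGroup.iff_card.mp hRp
  have hUt : ∀ u ∈ U, (orderOf u).Coprime t := by
    intro u hu
    obtain ⟨v, hv, x, hx, rfl⟩ := hUdec u hu
    let ψ := QuotientGroup.mk' (R.subgroupOf L)
    have hv1 : ψ ⟨v, Subgroup.le_normalizer hv⟩ = 1 := (QuotientGroup.eq_one_iff _).mpr hv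
    have hpow : ψ ((⟨v, Subgroup.le_normalizer hv⟩ * ⟨x, hWR hx⟩ : L) ^ r ^ b) = 1 := by
      rw [map_pow, map_mul, hv1, one_mul, ← map_pow]
      convert map_one ψ
      exact Subtype.ext (by
        show x ^ r ^ b = 1
        rw [← hb]
        exact orderOf_dvd_iff_pow_eq_one.mp (Subgroup.orderOf_dvd_natCard _ hx))
    have hmem : (v * x) ^ r ^ b ∈ R := by
      simpa [Subgroup.mem_subgroupOf] using (QuotientGroup.eq_one_iff _).mp hpow
    have h2 : (v * x) ^ (r ^ b * s ^ m) = 1 := by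
      rw [pow_mul, ← hm]
      exact orderOf_dvd_iff_pow_eq_one.mp (Subgroup.orderOf_dvd_natCard _ hmem)
    exact ((((Nat.coprime_primes hr ht).mpr hrt).pow_left b).mul_left
      (((Nat.coprime_primes hs ht).mpr hst).pow_left m)).coprime_dvd_left (orderOf_dvd_of_pow_eq_one h2)
  have hEU : Subgroup.zpowers y ≤ Subgroup.normalizer (U : Set G) := by
    rw [Subgroup.zpowers_le, Subgroup.mem_normalizer_iff_map_conj_eq, Subgroup.map_sup,
      Subgroup.mem_normalizer_iff_map_conj_eq.mp hyW, Subgroup.mem_normalizer_iff_map_conj_eq.mp hyL]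
  have hnil : Group.IsNilpotent U := CfsgLib.FrobAction.isNilpotent_of_fpf_operators U (Subgroup.zpowers y)
    (by simpa [Subgroup.zpowers_eq_bot] using fun e : y = 1 => hyN (e ▸ N.one_mem)) hEU (by
    intro e he he1 u hu hc
    by_contra hu1
    have heo : orderOf e = t := by
      have hd : orderOf e ∣ t := by
        rw [← hyt']
        exact (Subgroup.orderOf_dvd_natCard _ he).trans (Nat.card_zpowers y).dvd
      exact (ht.eq_one_or_self_of_dvd _ hd).resolve_left (mt orderOf_eq_one_iff.mp he1)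
    refine false_of_commute h (show Commute e u from hc) ?_ (heo ▸ (hUt u hu).symm) he1 hu1
    intro hmem
    obtain ⟨v, hv, x, hx, rfl⟩ := hUdec u hu
    have h1 : QuotientGroup.mk' N (e * (v * x)) = 1 := (QuotientGroup.eq_one_iff _).mpr hmem
    rw [map_mul, map_mul, show QuotientGroup.mk' N v = 1 from (QuotientGroup.eq_one_iff v).mpr (hRN hv), one_mul,
      mul_eq_one_iff_eq_inv] at h1
    have h2 := (QuotientGroup.eq_one_iff e).mp (notX e he (h1 ▸ Xb.inv_mem (hXy x hx)))
    have h3 : Subgroup.zpowers e ≤ Subgroup.zpowers y := Subgroup.zpowers_le.mpr he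
    have h4 : Subgroup.zpowers e = Subgroup.zpowers y :=
      Subgroup.eq_of_le_of_card_ge h3 (by rw [Nat.card_zpowers, Nat.card_zpowers, heo, hyt'])
    exact hyN (Subgroup.zpowers_le.mpr h2 (h4 ▸ Subgroup.mem_zpowers y)))
  obtain ⟨v, hv, hv1⟩ := (Subgroup.bot_or_exists_ne_one R).resolve_left hR1
  have hcop : (orderOf w).Coprime (orderOf v) :=
    ((((Nat.coprime_primes hr hs).mpr (Ne.symm hsr)).pow b m).coprime_dvd_left
      (hb ▸ Subgroup.orderOf_dvd_natCard _ hw)).coprime_dvd_right (hm ▸ Subgroup.orderOf_dvd_natCard _ hv)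
  have hcomm : Commute w v := by
    have := hnil
    have h1 : Commute (⟨w, Subgroup.mem_sup_right hw⟩ : U) ⟨v, Subgroup.mem_sup_left hv⟩ :=
      CfsgLib.commute_of_nilpotent _ _ (by simpa [Subgroup.orderOf_mk] using hcop)
    exact congrArg Subtype.val h1
  exact false_of_commute h hcomm (fun hh => hwN (by simpa [mul_assoc] using N.mul_mem hh (N.inv_mem (hRN hv))))
    hcop (fun e => hwN (e ▸ N.one_mem)) hv1

end Cfsg.Agent.S3901
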