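import Cfsg.Statements.S3903
import Cfsg.Agent.Lib.WeakClosed.Reduce
/-! Elementary proof: all elements outside `N` are `p`-elements, each lying in a unique Sylow subgroup, which is
then abelian, self-normalizing and maximal; Burnside transfer gives a normal `p`-complement of prime power order. -/

set_option autoImplicit false
open Cfsg

namespace Cfsg.Agent.S3903

variable {G : Type*} [Group G] [Finite G]

theorem isPGroup_centralizer {N : Subgroup G} [N.Normal] {p k : ℕ} [hp : Fact p.Prime]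
    (h : ∀ x : G, x ∉ N → IsPrimePow (orderOf x)) {x : G} (hx : x ∉ N) (ho : orderOf x = p ^ k)
    {y : G} {q : ℕ} (hq : q.Prime) (hy : orderOf y = q) (hc : Commute x y) : q = p := by
  by_contra hne
  have hco : Nat.Coprime (p ^ k) q := Nat.Coprime.pow_left k ((Nat.coprime_primes hp.out hq).2 (Ne.symm hne))
  have hxy : orderOf (x * y) = p ^ k * q := by
    rw [hc.orderOf_mul_eq_mul_orderOf_of_coprime (by rw [ho, hy]; exact hco), ho, hy]
  have hnN : x * y ∉ N := by
    intro hmem
    refine hx ?_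
    have h1 : (x * y) ^ q = x ^ q := by
      rw [hc.mul_pow, ← hy, pow_orderOf_eq_one, mul_one]
    obtain ⟨m, hm⟩ := exists_pow_eq_self_of_coprime (n := q) (x := x) (by rw [ho]; exact hco.symm)
    rw [← hm, ← h1]
    exact pow_mem (pow_mem hmem q) m
  have hk : k ≠ 0 := by
    rintro rfl
    rw [pow_zero, orderOf_eq_one_iff] at ho
    exact hx (ho ▸ N.one_mem)
  obtain ⟨r, j, hr, hj, hrj⟩ := (isPrimePow_nat_iff _).1 (h _ hnN)
  rw [hxy] at hrj
  have h1 : p ∣ r := hp.out.dvd_of_dvd_pow (hrj ▸ Dvd.dvd.mul_right (dvd_pow_self p hk) q)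
  have h2 : q ∣ r := hq.dvd_of_dvd_pow (hrj ▸ dvd_mul_left q (p ^ k))
  exact hne (((Nat.prime_dvd_prime_iff_eq hq hr).1 h2).trans ((Nat.prime_dvd_prime_iff_eq hp.out hr).1 h1).symm)

theorem isPGroup_of_prime {p : ℕ} [hp : Fact p.Prime] (H : Subgroup G)
    (h : ∀ y ∈ H, ∀ q : ℕ, q.Prime → orderOf y = q → q = p) : IsPGroup p H := by
  refine IsPGroup.of_card (n := (Nat.card H).primeFactorsList.length) ?_
  refine Nat.eq_prime_pow_of_unique_prime_dvd Nat.card_pos.ne' fun {d} hd hdd => ?_
  haveI : Fact d.Prime := ⟨hd⟩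
  obtain ⟨y, hy⟩ := exists_prime_orderOf_dvd_card' (G := H) d hdd
  exact h y y.2 d hd (by rw [Subgroup.orderOf_coe]; exact hy)

/-- Let N be a proper normal subgroup of the finite group G such that every element x of G outside N has prime power order and has centralizer C_G(x) a maximal subgroup of G. Then N is solvable. -/
theorem result {G : Type*} [Group G] [Finite G] (N : Subgroup G) [N.Normal] (hN : N ≠ ⊤)
    (h : ∀ x : G, x ∉ N → IsPrimePow (orderOf x) ∧ IsCoatom (Subgroup.centralizer ({x} : Set G))) : Group.IsSolvable ↥N := by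
  by_contra hns
  have hGns : ¬ Group.IsSolvable G := fun hs => hns inferInstance
  have hex : ∃ x : G, x ∉ N := by
    by_contra hh
    push Not at hh
    exact hN (eq_top_iff.2 fun x _ => hh x)
  obtain ⟨x₀, hx₀⟩ := hex
  obtain ⟨p, k, hp, hk, hok⟩ := (isPrimePow_nat_iff _).1 (h x₀ hx₀).1
  haveI : Fact p.Prime := ⟨hp⟩
  have hP₀ : IsPGroup p (Subgroup.centralizer ({x₀} : Set G)) :=
    isPGroup_of_prime _ fun y hy q hq hoy =>
      isPGroup_centralizer (fun x hx => (h x hx).1) hx₀ hok.symm hq hoy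
        (Subgroup.mem_centralizer_singleton_iff.1 hy).symm
  -- every element outside `N` has `p`-power order
  have hsup : Subgroup.centralizer ({x₀} : Set G) ⊔ N = ⊤ := by
    rcases eq_or_lt_of_le (le_sup_left : Subgroup.centralizer ({x₀} : Set G) ≤ _ ⊔ N) with he | hl
    · have hle : N ≤ Subgroup.centralizer ({x₀} : Set G) := he.symm ▸ le_sup_right
      haveI : Group.IsNilpotent N := (hP₀.to_le hle).isNilpotent
      exact absurd (inferInstance : Group.IsSolvable N) hns
    · exact (h x₀ hx₀).2.2 _ hl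
  have hall : ∀ y : G, y ∉ N → ∃ j, orderOf y = p ^ j := by
    intro y hy
    obtain ⟨q, j, hq, hj, hoj⟩ := (isPrimePow_nat_iff _).1 (h y hy).1
    have hmem : y ∈ Subgroup.centralizer ({x₀} : Set G) ⊔ N := by rw [hsup]; trivial
    obtain ⟨c, hc, n, hn, rfl⟩ := Subgroup.mem_sup_of_normal_right.1 hmem
    obtain ⟨i, hi⟩ := hP₀ ⟨c, hc⟩
    have hci : c ^ p ^ i = 1 := by simpa using congrArg Subtype.val hi
    by_contra hno
    have hqp : q ≠ p := fun e => hno ⟨j, by rw [← hoj, e]⟩
    -- `y ^ (p ^ i) ∈ N`, and `p` is prime to the order of `y`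
    have h1 : (c * n) ^ p ^ i ∈ N := by
      rw [← QuotientGroup.eq_one_iff (N := N), QuotientGroup.mk_pow, QuotientGroup.mk_mul,
        (QuotientGroup.eq_one_iff n).2 hn, mul_one, ← QuotientGroup.mk_pow, hci, QuotientGroup.mk_one]
    obtain ⟨m, hm⟩ := exists_pow_eq_self_of_coprime (n := p ^ i) (x := c * n)
      (by rw [← hoj]; exact (((Nat.coprime_primes hp hq).2 (Ne.symm hqp)).pow i j))
    exact hy (hm ▸ pow_mem h1 m)
  have hcent : ∀ x : G, x ∉ N → IsPGroup p (Subgroup.centralizer ({x} : Set G)) := by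
    intro x hx
    obtain ⟨j, hj⟩ := hall x hx
    exact isPGroup_of_prime _ fun y hy q hq hoy =>
      isPGroup_centralizer (fun x hx => (h x hx).1) hx hj hq hoy
        (Subgroup.mem_centralizer_singleton_iff.1 hy).symm
  have hsyl : ∀ x : G, x ∉ N → ∀ Q : Subgroup G, IsPGroup p Q →
      Subgroup.centralizer ({x} : Set G) ≤ Q → Subgroup.centralizer ({x} : Set G) = Q := by
    intro x hx Q hQ hle
    rcases eq_or_lt_of_le hle with he | hl
    · exact he
    · have hQT := (h x hx).2.2 Q hl
      rw [hQT] at hQ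
      haveI : Group.IsNilpotent G := (hQ.of_equiv Subgroup.topEquiv).isNilpotent
      exact absurd (inferInstance : Group.IsSolvable G) hGns
  -- the normalizer of a `p`-subgroup outside `N` is a `p`-group
  have hloc : ∀ D : Subgroup G, IsPGroup p D → ¬ D ≤ N → IsPGroup p (Subgroup.normalizer (D : Set G)) := by
    intro D hD hDN
    obtain ⟨d, hdD, hdN⟩ := SetLike.not_le_iff_exists.1 hDN
    refine isPGroup_of_prime _ fun y hy q hq hoy => ?_
    by_contra hqp
    have hyN : y ∈ N := by
      by_contra hyN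
      obtain ⟨j, hj⟩ := hall y hyN
      rw [hoy] at hj
      exact hqp ((Nat.prime_dvd_prime_iff_eq hq hp).1 (hq.dvd_of_dvd_pow (dvd_of_eq hj)))
    haveI : Fact q.Prime := ⟨hq⟩
    let X := {e : G // e ∈ D ∧ d⁻¹ * e ∈ N}
    have hmaps : ∀ z : G, z ∈ Subgroup.normalizer (D : Set G) → z ∈ N → ∀ e : X,
        z * e.1 * z⁻¹ ∈ D ∧ d⁻¹ * (z * e.1 * z⁻¹) ∈ N := by
      intro z hz hzN e
      refine ⟨(Subgroup.mem_normalizer_iff.1 hz _).1 e.2.1, ?_⟩
      rw [show d⁻¹ * (z * e.1 * z⁻¹) = (d⁻¹ * z * d) * (d⁻¹ * e.1) * z⁻¹ by group]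
      have hc : d⁻¹ * z * d ∈ N := by simpa using ‹N.Normal›.conj_mem z hzN d⁻¹
      exact mul_mem (mul_mem hc e.2.2) (inv_mem hzN)
    let σ : Equiv.Perm X :=
      { toFun := fun e => ⟨y * e.1 * y⁻¹, hmaps y hy hyN e⟩
        invFun := fun e => ⟨y⁻¹ * e.1 * y⁻¹⁻¹, hmaps y⁻¹ (inv_mem hy) (inv_mem hyN) e⟩
        left_inv := fun e => Subtype.ext (by simp [mul_assoc])
        right_inv := fun e => Subtype.ext (by simp [mul_assoc]) }
    have hσpow : ∀ (n : ℕ) (e : X), ((σ ^ n) e).1 = y ^ n * e.1 * (y ^ n)⁻¹ := by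
      intro n
      induction n with
      | zero => intro e; simp
      | succ n ih =>
        intro e
        rw [pow_succ', Equiv.Perm.mul_apply]
        show y * ((σ ^ n) e).1 * y⁻¹ = _
        rw [ih e, pow_succ']
        group
    have hσ : σ ^ q ^ 1 = 1 := by
      refine Equiv.ext fun e => Subtype.ext ?_
      rw [hσpow, pow_one, ← hoy, pow_orderOf_eq_one]
      simp
    haveI : Fintype X := Fintype.ofFinite X
    have hcard : ¬ q ∣ Fintype.card X := by
      rw [← Nat.card_eq_fintype_card]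
      have he : X ≃ ↥(D ⊓ N) :=
        { toFun := fun e => ⟨d⁻¹ * e.1, Subgroup.mem_inf.2 ⟨D.mul_mem (D.inv_mem hdD) e.2.1, e.2.2⟩⟩
          invFun := fun e => ⟨d * e.1, mul_mem hdD e.2.1, by simpa using e.2.2⟩
          left_inv := fun e => Subtype.ext (by simp)
          right_inv := fun e => Subtype.ext (by simp) }
      rw [Nat.card_congr he]
      obtain ⟨n, hn⟩ := (hD.to_le (inf_le_left : D ⊓ N ≤ D)).exists_card_eq
      rw [hn]
      exact fun hdv => hqp ((Nat.prime_dvd_prime_iff_eq hq hp).1 (hq.dvd_of_dvd_pow hdv))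
    obtain ⟨e, he⟩ := Equiv.Perm.exists_fixed_point_of_prime hcard hσ
    have hev : y * e.1 * y⁻¹ = e.1 := congrArg Subtype.val he
    have heN : e.1 ∉ N := fun hh => hdN (by
      have := mul_mem hh (inv_mem e.2.2)
      simpa using this)
    have hyc : y ∈ Subgroup.centralizer ({e.1} : Set G) :=
      Subgroup.mem_centralizer_singleton_iff.2 (mul_inv_eq_iff_eq_mul.1 hev)
    obtain ⟨i, hi⟩ := hcent e.1 heN ⟨y, hyc⟩
    have : y ^ p ^ i = 1 := by simpa using congrArg Subtype.val hi
    rw [← orderOf_dvd_iff_pow_eq_one, hoy] at this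
    exact hqp ((Nat.prime_dvd_prime_iff_eq hq hp).1 (hq.dvd_of_dvd_pow this))
  -- two Sylow subgroups meeting outside `N` are equal
  have huniq : ∀ (n : ℕ) (S T : Sylow p G), Nat.card G - Nat.card ↥((S : Subgroup G) ⊓ T) ≤ n →
      ¬ (S : Subgroup G) ⊓ T ≤ N → S = T := by
    intro n
    induction n using Nat.strong_induction_on with
    | _ n ih =>
      intro S T hn hDN
      have hD : IsPGroup p ↥((S : Subgroup G) ⊓ T) := S.2.to_le inf_le_left
      by_contra hne
      have hS : (S : Subgroup G) ⊓ T ≠ S := fun e =>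
        hne (Sylow.ext (S.3 T.2 (e ▸ inf_le_right)).symm)
      have hT : (S : Subgroup G) ⊓ T ≠ T := fun e =>
        hne (Sylow.ext (T.3 S.2 (e ▸ inf_le_left)))
      obtain ⟨U, hU⟩ := (hloc _ hD hDN).exists_le_sylow
      have hSlt := CfsgLib.WeakClosed.lt_inf_normalizer' S.2 inf_le_left hS
      have hTlt := CfsgLib.WeakClosed.lt_inf_normalizer' T.2 inf_le_right hT
      have key : ∀ W : Sylow p G, (S : Subgroup G) ⊓ T < (W : Subgroup G) ⊓ Subgroup.normalizer
          (((S : Subgroup G) ⊓ T : Subgroup G) : Set G) → W = U := by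
        intro W hW
        have hlt : (S : Subgroup G) ⊓ T < (W : Subgroup G) ⊓ U :=
          lt_of_lt_of_le hW (inf_le_inf le_rfl hU)
        have hc : Nat.card ↥((S : Subgroup G) ⊓ T) < Nat.card ↥((W : Subgroup G) ⊓ U) :=
          Set.Finite.card_lt_card (Set.toFinite _) (SetLike.coe_ssubset_coe.2 hlt)
        have hle : Nat.card ↥((W : Subgroup G) ⊓ U) ≤ Nat.card G := Subgroup.card_le_card_group _
        exact ih (Nat.card G - Nat.card ↥((W : Subgroup G) ⊓ U)) (by omega) W U le_rfl
          (fun hh => hDN (hlt.le.trans hh))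
      exact hne ((key S hSlt).trans (key T hTlt).symm)
  obtain ⟨S, hSx⟩ := hP₀.exists_le_sylow
  have hSeq := hsyl x₀ hx₀ S S.2 hSx
  have hx₀S : x₀ ∈ (S : Subgroup G) := hSx (Subgroup.mem_centralizer_singleton_iff.2 rfl)
  have hSout : ∀ x ∈ (S : Subgroup G), x ∉ N → Subgroup.centralizer ({x} : Set G) = S := by
    intro x hxS hxN
    obtain ⟨T, hT⟩ := (hcent x hxN).exists_le_sylow
    have hxT : x ∈ (T : Subgroup G) := hT (Subgroup.mem_centralizer_singleton_iff.2 rfl)
    have := huniq _ S T le_rfl (fun hh => hxN (hh ⟨hxS, hxT⟩))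
    subst this
    exact hsyl x hxN S S.2 hT
  have hSN : ¬ (S : Subgroup G) ≤ N := fun hh => hx₀ (hh hx₀S)
  have hmax : IsCoatom (S : Subgroup G) := hSeq ▸ (h x₀ hx₀).2
  have hnorm : Subgroup.normalizer ((S : Subgroup G) : Set G) = S := by
    obtain ⟨U, hU⟩ := (hloc S S.2 hSN).exists_le_sylow
    have hUS : (U : Subgroup G) = S := S.3 U.2 (Subgroup.le_normalizer.trans hU)
    exact le_antisymm (hUS ▸ hU) Subgroup.le_normalizer
  have hab : ∀ a ∈ (S : Subgroup G), ∀ b ∈ (S : Subgroup G), a * b = b * a := by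
    have hout : ∀ a ∈ (S : Subgroup G), a ∉ N → ∀ b ∈ (S : Subgroup G), a * b = b * a := by
      intro a ha haN b hb
      have := Subgroup.mem_centralizer_singleton_iff.1 ((hSout a ha haN).symm ▸ hb)
      exact this.symm
    intro a ha b hb
    by_cases haN : a ∈ N
    · have h1 := hout x₀ hx₀S hx₀ b hb
      have h2 := hout (x₀ * a) (mul_mem hx₀S ha) (fun hh => hx₀ (by simpa using mul_mem hh (inv_mem haN))) b hb
      have h3 : x₀ * (a * b) = x₀ * (b * a) := by
        rw [← mul_assoc, h2, ← mul_assoc, ← mul_assoc, h1]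
      exact mul_left_cancel h3
    · exact hout a ha haN b hb
  have hb : Subgroup.normalizer ((S : Subgroup G) : Set G) ≤ Subgroup.centralizer ((S : Subgroup G) : Set G) := by
    rw [hnorm]
    intro a ha
    rw [Subgroup.mem_centralizer_iff]
    intro b hb
    exact hab b hb a ha
  have hcomp := MonoidHom.ker_transferSylow_isComplement' S hb
  set K := (MonoidHom.transferSylow S hb).ker
  -- the complement has prime power order
  have hKn : ¬ p ∣ Nat.card K := MonoidHom.not_dvd_card_ker_transferSylow S hb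
  have hKne : K ≠ ⊥ := by
    intro hK
    rw [hK, Subgroup.isComplement'_bot_left] at hcomp
    exact hmax.1 hcomp
  obtain ⟨q, hq, hqK⟩ := Nat.exists_prime_and_dvd (fun hc => hKne (Subgroup.card_eq_one.1 hc) :
    Nat.card K ≠ 1)
  haveI : Fact q.Prime := ⟨hq⟩
  obtain ⟨Q⟩ : Nonempty (Sylow q K) := inferInstance
  have hF := Sylow.normalizer_sup_eq_top Q
  set M := Subgroup.normalizer ((Q.toSubgroup.map K.subtype : Subgroup G) : Set G) with hM
  -- `M` contains a Sylow `p`-subgroup of `G`, hence a conjugate of `S`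
  obtain ⟨P⟩ : Nonempty (Sylow p M) := inferInstance
  have hPS : Nat.card ↥(P.toSubgroup.map M.subtype) = Nat.card ↥(S : Subgroup G) := by
    rw [Subgroup.card_map_of_injective M.subtype_injective, P.card_eq_multiplicity, S.card_eq_multiplicity]
    congr 1
    have hidx : ¬ p ∣ M.index := by
      intro hd
      apply hKn
      refine hd.trans ?_
      have h3 : K.relIndex M = K.index := by
        rw [← Subgroup.relIndex_sup_right M K, hF, Subgroup.relIndex_top_right]
      have h4 := (K.subgroupOf M).card_mul_index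
      rw [show (K.subgroupOf M).index = K.index from h3] at h4
      have h5 := M.card_mul_index
      rw [← h4, ← K.card_mul_index] at h5
      refine Dvd.intro (Nat.card ↥(K.subgroupOf M)) ?_
      refine Nat.eq_of_mul_eq_mul_right (Nat.pos_of_ne_zero (Subgroup.index_ne_zero_of_finite (H := K))) ?_
      rw [← h5]
      ring
    conv_rhs => rw [← M.card_mul_index]
    rw [Nat.factorization_mul Nat.card_pos.ne' Subgroup.index_ne_zero_of_finite,
      Finsupp.add_apply, Nat.factorization_eq_zero_of_not_dvd hidx, add_zero]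
  let P' : Sylow p G := Sylow.ofCard (P.toSubgroup.map M.subtype) (hPS.trans S.card_eq_multiplicity)
  obtain ⟨g, hg⟩ := MulAction.exists_smul_eq G S P'
  have hPM : (P' : Subgroup G) ≤ M := Subgroup.map_subtype_le _
  have hP'max : IsCoatom (P' : Subgroup G) := by
    have hP'out : ¬ (P' : Subgroup G) ≤ N := by
      intro hh
      refine hSN fun s hs => ?_
      have : g * s * g⁻¹ ∈ (P' : Subgroup G) := by
        rw [← hg]
        exact Subgroup.smul_mem_pointwise_smul s (MulAut.conj g) _ hs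
      simpa [mul_assoc] using ‹N.Normal›.conj_mem _ (hh this) g⁻¹
    obtain ⟨x, hxP, hxN⟩ := SetLike.not_le_iff_exists.1 hP'out
    obtain ⟨T, hT⟩ := (hcent x hxN).exists_le_sylow
    have := huniq _ P' T le_rfl (fun hh => hxN (hh ⟨hxP, hT (Subgroup.mem_centralizer_singleton_iff.2 rfl)⟩))
    rw [← this] at hT
    rw [← hsyl x hxN P' P'.2 hT]
    exact (h x hxN).2
  have hQM : Q.toSubgroup.map K.subtype ≤ M := Subgroup.le_normalizer
  have hMtop : M = ⊤ := by
    rcases eq_or_lt_of_le hPM with he | hl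
    · exfalso
      have hQp : IsPGroup p ↥(Q.toSubgroup.map K.subtype) := P'.2.to_le (he ▸ hQM)
      obtain ⟨n, hn⟩ := hQp.exists_card_eq
      rw [Subgroup.card_map_of_injective K.subtype_injective] at hn
      have h1 : q ∣ Nat.card Q := Q.dvd_card_of_dvd_card hqK
      rw [hn] at h1
      exact hKn (((Nat.prime_dvd_prime_iff_eq hq hp).1 (hq.dvd_of_dvd_pow h1)) ▸ hqK)
    · exact hP'max.2 _ hl
  haveI hQn : (Q.toSubgroup.map K.subtype).Normal := Subgroup.normalizer_eq_top_iff.1 hMtop
  -- `Q ⊔ P' = ⊤`, so `Q = K`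
  have hKQ : Q.toSubgroup.map K.subtype = K := by
    refine le_antisymm (Subgroup.map_subtype_le _) fun a ha => ?_
    have htop : (P' : Subgroup G) ⊔ Q.toSubgroup.map K.subtype = ⊤ := by
      rcases eq_or_lt_of_le (le_sup_left : (P' : Subgroup G) ≤ _ ⊔ Q.toSubgroup.map K.subtype) with he | hl
      · exfalso
        have hQp : IsPGroup p ↥(Q.toSubgroup.map K.subtype) := P'.2.to_le (he ▸ le_sup_right)
        obtain ⟨n, hn⟩ := hQp.exists_card_eq
        rw [Subgroup.card_map_of_injective K.subtype_injective] at hn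
        have h1 : q ∣ Nat.card Q := Q.dvd_card_of_dvd_card hqK
        rw [hn] at h1
        exact hKn (((Nat.prime_dvd_prime_iff_eq hq hp).1 (hq.dvd_of_dvd_pow h1)) ▸ hqK)
      · exact hP'max.2 _ hl
    have hmem : a ∈ (P' : Subgroup G) ⊔ Q.toSubgroup.map K.subtype := by rw [htop]; trivial
    obtain ⟨c, hc, n, hn, rfl⟩ := Subgroup.mem_sup_of_normal_right.1 hmem
    have hcK : c ∈ K := by simpa using mul_mem ha (inv_mem (Subgroup.map_subtype_le _ hn))
    have hc1 : c = 1 := by
      obtain ⟨i, hi⟩ := P'.2.exists_card_eq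
      have hco : Nat.Coprime (Nat.card K) (Nat.card ↥(P' : Subgroup G)) := by
        rw [hi]; exact ((hp.coprime_iff_not_dvd.2 hKn).pow_left i).symm
      exact Subgroup.mem_bot.1 (Subgroup.inf_eq_bot_of_coprime hco ▸ (⟨hcK, hc⟩ : c ∈ K ⊓ (P' : Subgroup G)))
    rw [hc1, one_mul]
    exact hn
  have hKq : IsPGroup q K := by
    have := Q.2.map K.subtype
    rwa [hKQ] at this
  haveI := hKq.isNilpotent
  haveI hSs : Group.IsSolvable (S : Subgroup G) := by
    haveI := S.2.isNilpotent
    infer_instance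
  exact hGns (Group.isSolvable_of_ker_le_range K.subtype (MonoidHom.transferSylow S hb)
    (by rw [Subgroup.range_subtype]))

end Cfsg.Agent.S3903
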