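import Cfsg.Statements.S3909
import Mathlib
-- import your own Cfsg.Agent.* helpers here

set_option autoImplicit false
open Cfsg

namespace Cfsg.Agent.S3909

open scoped Pointwise

/-- Let G be a finite group in which any two abelian subgroups of the same order are conjugate. Let M be a normal subgroup of G. If M contains an element of the same order as a ∈ G, then a ∈ M; and if M is elementary abelian of order p^t with p prime and t ≥ 2, then M is the unique Sylow p-subgroup of G. -/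
theorem result {G : Type*} [Group G] [Finite G] (hB : ∀ A B : Subgroup G, IsMulCommutative ↥A → IsMulCommutative ↥B → Nat.card ↥A = Nat.card ↥B → ∃ g : G, B = A.map (MulAut.conj g).toMonoidHom) (M : Subgroup G) [M.Normal] :
    (∀ a : G, (∃ m ∈ M, orderOf m = orderOf a) → a ∈ M) ∧
    ∀ (p t : ℕ) [Fact p.Prime], 2 ≤ t → Nat.card ↥M = p ^ t → Cfsg.IsElementaryAbelian p M → ∀ P : Sylow p G, (P : Subgroup G) = M := by
  classical
  have hmem : ∀ a : G, (∃ m ∈ M, orderOf m = orderOf a) → a ∈ M := by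
    rintro a ⟨m, hm, hma⟩
    obtain ⟨g, hg⟩ := hB (Subgroup.zpowers m) (Subgroup.zpowers a) inferInstance inferInstance
      (by rw [Nat.card_zpowers, Nat.card_zpowers, hma])
    have ha : a ∈ (Subgroup.zpowers m).map (MulAut.conj g).toMonoidHom := hg ▸ Subgroup.mem_zpowers a
    obtain ⟨w, hw, rfl⟩ := ha
    exact Subgroup.Normal.conj_mem inferInstance w (Subgroup.zpowers_le.mpr hm hw) g
  refine ⟨hmem, ?_⟩
  intro p t _ ht hcard hel P
  have hp : p.Prime := Fact.out
  obtain ⟨Q, hQ⟩ := (IsPGroup.of_card hcard).exists_le_sylow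
  obtain ⟨g, rfl⟩ := MulAction.exists_smul_eq G Q P
  have hMP : M ≤ ((g • Q : Sylow p G) : Subgroup G) := by
    intro m hm
    rw [Sylow.coe_subgroup_smul, Subgroup.mem_pointwise_smul_iff_inv_smul_mem, MulAut.smul_def,
      MulAut.inv_def, MulAut.conj_symm_apply]
    exact hQ (by simpa using Subgroup.Normal.conj_mem inferInstance m hm g⁻¹)
  refine le_antisymm ?_ hMP
  by_contra hnle
  have hPp := (g • Q : Sylow p G).isPGroup'
  -- an element outside `M` whose `p`-th power lies in `M`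
  obtain ⟨y, hy, hyM⟩ := SetLike.not_le_iff_exists.mp hnle
  obtain ⟨k, hk⟩ := IsPGroup.iff_orderOf.mp hPp ⟨y, hy⟩
  rw [Subgroup.orderOf_mk] at hk
  have hex : ∃ i, y ^ p ^ i ∈ M := ⟨k, by rw [← hk, pow_orderOf_eq_one]; exact one_mem M⟩
  have hi0 : Nat.find hex ≠ 0 := fun h0 => hyM (by simpa [h0] using Nat.find_spec hex)
  obtain ⟨i, hi⟩ := Nat.exists_eq_succ_of_ne_zero hi0
  set x := y ^ p ^ i with hx
  have hxM : x ∉ M := Nat.find_min hex (by omega)
  have hxp : x ^ p ∈ M := by
    rw [hx, ← pow_mul, ← pow_succ, ← Nat.succ_eq_add_one, ← hi]; exact Nat.find_spec hex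
  obtain ⟨m, hm⟩ := exists_prime_orderOf_dvd_card' (G := M) p (hcard ▸ dvd_pow_self p (by omega))
  rw [← Subgroup.orderOf_coe] at hm
  have hxp1 : x ^ p ≠ 1 := fun e => hxM (hmem x ⟨m, m.2, by
    rw [hm, orderOf_eq_prime e (fun e1 => hxM (e1 ▸ one_mem M))]⟩)
  have hxo : orderOf x = p ^ 2 := by
    refine orderOf_eq_prime_pow (n := 1) (by rwa [pow_one]) ?_
    rw [pow_succ, pow_one, pow_mul]; exact hel.2 _ hxp
  obtain ⟨B, hBc⟩ := Sylow.exists_subgroup_card_pow_prime (G := M) p (n := 2) (hcard ▸ pow_dvd_pow p ht)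
  have hBab : IsMulCommutative (B.map M.subtype) := ⟨⟨fun a b => by
    obtain ⟨a', -, ha⟩ := a.2
    obtain ⟨b', -, hb⟩ := b.2
    apply Subtype.ext
    show (a : G) * b = b * a
    rw [← ha, ← hb]
    exact congrArg Subtype.val (hel.1.is_comm.comm a' b')⟩⟩
  obtain ⟨c, hc⟩ := hB (B.map M.subtype) (Subgroup.zpowers x) hBab inferInstance
    (by rw [Nat.card_zpowers, hxo, Subgroup.card_map_of_injective M.subtype_injective, hBc])
  have hxc : x ∈ (B.map M.subtype).map (MulAut.conj c).toMonoidHom := hc ▸ Subgroup.mem_zpowers x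
  obtain ⟨_, ⟨w, -, rfl⟩, hw⟩ := hxc
  exact hxM (hw ▸ Subgroup.Normal.conj_mem inferInstance (w : G) w.2 c)

end Cfsg.Agent.S3909
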