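import Cfsg.Statements.S3910
import Mathlib
import Cfsg.Agent.Lib.CharTheory.PSection
-- import your own Cfsg.Agent.* helpers here

set_option autoImplicit false
open Cfsg

namespace Cfsg.Agent.S3910

/-- A finite nilpotent group in which any two abelian subgroups of the same order are conjugate is cyclic. -/
theorem result {G : Type*} [Group G] [Finite G] (hB : ∀ A B : Subgroup G, IsMulCommutative ↥A → IsMulCommutative ↥B → Nat.card ↥A = Nat.card ↥B → ∃ g : G, B = A.map (MulAut.conj g).toMonoidHom) (hnil : Group.IsNilpotent G) : IsCyclic G := by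
  classical
  suffices hz : IsZGroup G by
    haveI := hz; haveI := hnil
    infer_instance
  refine ⟨fun p hp P => ?_⟩
  have := Fact.mk hp
  have hcop : ∀ a b : G, Nat.Coprime (orderOf a) (orderOf b) → Commute a b :=
    (CfsgLib.CharTheory.exists_coprime_part hnil p).choose_spec.2.2
  have hnorm : ∀ M : Subgroup (P : Subgroup G), M.Normal → (M.map (P : Subgroup G).subtype).Normal := by
    intro M hM
    set M' := M.map (P : Subgroup G).subtype with hM'
    rw [← Subgroup.normalizer_eq_top_iff, ← Subgroup.index_eq_one]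
    by_contra hne
    obtain ⟨q, hq, hqd⟩ := Nat.exists_prime_and_dvd hne
    have := Fact.mk hq
    by_cases hqp : q = p
    · subst hqp
      refine P.not_dvd_index (hqd.trans (Subgroup.index_dvd_of_le ?_))
      intro u hu
      rw [Subgroup.mem_normalizer_iff]
      intro m
      constructor
      · rintro ⟨m, hm, rfl⟩
        exact ⟨_, hM.conj_mem m hm ⟨u, hu⟩, rfl⟩
      · rintro ⟨w, hw, hwe⟩
        refine ⟨_, hM.conj_mem w hw ⟨u, hu⟩⁻¹, ?_⟩
        rw [map_mul, map_mul, hwe]
        simp [mul_assoc]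
    · let Q : Sylow q G := default
      refine Q.not_dvd_index (hqd.trans (Subgroup.index_dvd_of_le ?_))
      intro u hu
      apply Subgroup.centralizer_le_normalizer
      rw [Subgroup.mem_centralizer_iff]
      rintro _ ⟨m, -, rfl⟩
      obtain ⟨i, hi⟩ := IsPGroup.iff_orderOf.mp Q.isPGroup' ⟨u, hu⟩
      obtain ⟨j, hj⟩ := IsPGroup.iff_orderOf.mp P.isPGroup' m
      rw [Subgroup.orderOf_mk] at hi
      rw [← Subgroup.orderOf_coe] at hj
      exact (hcop _ _ (by
        rw [Subgroup.subtype_apply, hi, hj]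
        exact ((Nat.coprime_primes hp hq).mpr (Ne.symm hqp)).pow _ _)).eq
  have hP := P.isPGroup'
  have hlt : ∀ M : Subgroup (P : Subgroup G), M.Normal → ∀ x, x ∉ M → ∀ y ∈ M, orderOf y < orderOf x := by
    intro M hM x hx y hy
    by_contra hcon
    push Not at hcon
    obtain ⟨i, hi⟩ := IsPGroup.iff_orderOf.mp hP y
    obtain ⟨j, hj⟩ := IsPGroup.iff_orderOf.mp hP x
    have hji : orderOf x ∣ orderOf y := by
      rw [hi, hj]
      apply pow_dvd_pow
      rw [hi, hj] at hcon
      exact (Nat.pow_le_pow_iff_right hp.one_lt).mp hcon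
    set z := y ^ (orderOf y / orderOf x) with hz
    have hzo : orderOf z = orderOf x := by
      rw [hz, orderOf_pow_of_dvd, Nat.div_div_self hji (orderOf_pos y).ne']
      · exact (Nat.div_pos (Nat.le_of_dvd (orderOf_pos y) hji) (orderOf_pos x)).ne'
      · exact Nat.div_dvd_of_dvd hji
    obtain ⟨g, hg⟩ := hB (Subgroup.zpowers (z : G)) (Subgroup.zpowers (x : G)) inferInstance inferInstance
      (by rw [Nat.card_zpowers, Nat.card_zpowers, Subgroup.orderOf_coe, Subgroup.orderOf_coe, hzo])
    have hxg : (x : G) ∈ (Subgroup.zpowers (z : G)).map (MulAut.conj g).toMonoidHom :=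
      hg ▸ Subgroup.mem_zpowers _
    have := hnorm M hM
    have hle : (Subgroup.zpowers (z : G)).map (MulAut.conj g).toMonoidHom ≤
        M.map (P : Subgroup G).subtype := by
      rw [Subgroup.map_le_iff_le_comap, Subgroup.zpowers_le]
      exact this.conj_mem _ ⟨z, pow_mem hy _, rfl⟩ g
    obtain ⟨w, hw, hwe⟩ := hle hxg
    exact hx ((Subtype.ext hwe : w = x) ▸ hw)
  rcases subsingleton_or_nontrivial (P : Subgroup G) with hs | hs
  · exact isCyclic_of_subsingleton
  have := hP.isNilpotent
  have hmaxn : ∀ M : Subgroup (P : Subgroup G), IsCoatom M → M.Normal := fun M hM =>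
    Subgroup.NormalizerCondition.normal_of_coatom M Group.normalizerCondition_of_isNilpotent hM
  obtain ⟨M, hM, -⟩ := (eq_top_or_exists_le_coatom (⊥ : Subgroup (P : Subgroup G))).resolve_left bot_ne_top
  obtain ⟨x, hx⟩ : ∃ x, x ∉ M := not_forall.mp fun h => hM.1 ((Subgroup.eq_top_iff' M).mpr h)
  refine ⟨x, fun w => ?_⟩
  have htop : Subgroup.zpowers x = ⊤ := by
    by_contra hne
    obtain ⟨M', hM', hle⟩ := (eq_top_or_exists_le_coatom (Subgroup.zpowers x)).resolve_left hne
    have hx' : x ∈ M' := hle (Subgroup.mem_zpowers x)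
    obtain ⟨x', hx'm, hx'n⟩ : ∃ x' ∈ M, x' ∉ M' := by
      by_contra hcon
      push Not at hcon
      rcases hM.le_iff.mp hcon with h | h
      · exact hM'.1 h
      · exact hx (h ▸ hx')
    exact lt_asymm (hlt M (hmaxn M hM) x hx x' hx'm) (hlt M' (hmaxn M' hM') x' hx'n x hx')
  show w ∈ Subgroup.zpowers x
  rw [htop]; exact Subgroup.mem_top w

end Cfsg.Agent.S3910
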