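import Cfsg.Statements.S3913
import Mathlib
import Mathlib
import Cfsg.Agent.S3912
import Cfsg.Agent.Lib.EqualOrder.Linear
-- import your own Cfsg.Agent.* helpers here

set_option autoImplicit false
open Cfsg

namespace Cfsg.Agent.S3913


open Subgroup
open CfsgLib.EqualOrder.Solv
open Cfsg.Agent.S4022.Aux (conj_card map_mk_card step conj_of_sup lift_quotient quotient_card_lt zconj Cyc cyclic_of_sylow)
open scoped IsMulCommutative commutatorElement

universe u

section Setup

variable {G : Type u} [Group G] [Finite G]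

/-- The linear group induced on a normal elementary abelian Sylow subgroup. -/
theorem induced (hB : HB G) (hs : Group.IsSolvable G) (N : Subgroup G) [N.Normal] [IsMulCommutative N]
    {p : ℕ} [Fact p.Prime] (hexp : ∀ x ∈ N, x ^ p = 1) (hcop : (Nat.card N).Coprime N.index) :
    let φ : G →* MulAut N := MulAut.conjNormal
    HB (G ⧸ φ.ker) ∧ Group.IsSolvable (G ⧸ φ.ker) ∧ (Nat.card (G ⧸ φ.ker)).Coprime (Nat.card N) ∧
      ∀ v w : N, v ≠ 1 → w ≠ 1 → ∃ x, QuotientGroup.kerLift φ x v ∈ zpowers w ∧
        w ∈ zpowers (QuotientGroup.kerLift φ x v) := by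
  intro φ
  haveI := hs
  refine ⟨Cfsg.Agent.S3912.quotient_closed hB hs _, Group.isSolvable_of_surjective (QuotientGroup.mk'_surjective φ.ker),
    (hcop.coprime_dvd_right ?_).symm, fun v w hv hw => ?_⟩
  · refine Subgroup.index_dvd_of_le (fun x hx => mem_ker_conjNormal.mpr (mem_centralizer_iff.mpr fun n hn => ?_))
    exact CfsgLib.EqualOrder.mem_centralizer_self inferInstance hn hx
  · have ho : ∀ u : N, u ≠ 1 → orderOf (u : G) = p := fun u hu =>
      orderOf_eq_prime (hexp u u.2) (fun h => hu (Subtype.ext h))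
    obtain ⟨g, ⟨i, hi⟩, ⟨j, hj⟩⟩ := hB.exists_conj_mem (x := (v : G)) (y := (w : G)) (by rw [ho v hv, ho w hw])
    refine ⟨(g : G ⧸ φ.ker), ⟨i, Subtype.ext ?_⟩, ⟨j, Subtype.ext ?_⟩⟩
    · simp only [Subgroup.coe_zpow, QuotientGroup.kerLift_mk, φ, MulAut.conjNormal_apply]
      exact hi
    · simp only [Subgroup.coe_zpow, QuotientGroup.kerLift_mk, φ, MulAut.conjNormal_apply]
      exact hj

theorem noncyclic_centralizes (hB : HB G) (hs : Group.IsSolvable G) (N : Subgroup G) [N.Normal] [IsMulCommutative N]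
    {p : ℕ} [Fact p.Prime] (hexp : ∀ x ∈ N, x ^ p = 1) (hcop : (Nat.card N).Coprime N.index) (hN : N ≠ ⊥)
    {q : ℕ} [Fact q.Prime] (Q : Sylow q G) (hnc : ¬ IsCyclic (Q : Subgroup G))
    (hQ : ∀ x ∈ (Q : Subgroup G), x ^ q = 1) : (Q : Subgroup G) ≤ centralizer (N : Set G) := by
  obtain ⟨hBX, hsX, hcX, htr⟩ := induced hB hs N hexp hcop
  haveI := hsX
  haveI : Nontrivial N := (nontrivial_iff_ne_bot _).mpr hN
  set φ : G →* MulAut N := MulAut.conjNormal
  set π := QuotientGroup.mk' φ.ker
  let Q' := Q.mapSurjective (QuotientGroup.mk'_surjective φ.ker)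
  have hQ' : ∀ x ∈ (Q' : Subgroup (G ⧸ φ.ker)), x ^ q = 1 := by
    rw [Sylow.coe_mapSurjective]
    rintro _ ⟨x, hx, rfl⟩
    rw [← map_pow, hQ x hx, map_one]
  haveI := linear_sylow hBX (QuotientGroup.kerLift φ) (QuotientGroup.kerLift_injective φ) hcX htr Q' hQ'
  have hle : Nat.card (Q' : Subgroup (G ⧸ φ.ker)) ≤ q :=
    card_le_of_exponent (Fact.out : q.Prime).pos fun x => Subtype.ext (by simpa using hQ' x x.2)
  obtain ⟨e, heQ, hek, he1⟩ : ∃ e, e ∈ (Q : Subgroup G) ∧ e ∈ φ.ker ∧ e ≠ 1 := by
    by_contra h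
    push Not at h
    have h1 : Nat.card (Q : Subgroup G) ≤ q := by
      refine le_trans (Nat.card_le_card_of_injective (π.subgroupMap (Q : Subgroup G)) ?_) (by
        rw [← Sylow.coe_mapSurjective (QuotientGroup.mk'_surjective φ.ker) Q]; exact hle)
      rw [← MonoidHom.ker_eq_bot_iff, eq_bot_iff]
      intro x hx
      exact Subtype.ext (h x x.2 ((QuotientGroup.eq_one_iff (x : G)).mp (congrArg Subtype.val hx)))
    have h2 := Nat.le_of_dvd Nat.card_pos (sq_le_card Q.2 hnc)
    nlinarith [(Fact.out : q.Prime).two_le]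
  intro x hx
  rcases eq_or_ne x 1 with rfl | hx1
  · exact one_mem _
  refine mem_ker_conjNormal.mp (hB.mem_normal hek ?_)
  rw [orderOf_eq_prime (hQ e heQ) he1, orderOf_eq_prime (hQ x hx) hx1]

theorem quat_facts {P : Type u} [Group P] [Finite P] (e : P ≃* QuaternionGroup 2) :
    ∃ z : P, z ≠ 1 ∧ z ^ 2 = 1 ∧ (∀ x : P, x ^ 2 = 1 → x = 1 ∨ x = z) ∧
      (∀ x : P, x = 1 ∨ x = z ∨ orderOf x = 4) ∧ ∀ x : P, x ≠ 1 → z ∈ zpowers x := by
  have hd : ∀ x : QuaternionGroup 2, x = 1 ∨ x = QuaternionGroup.a 2 ∨ (x * x = QuaternionGroup.a 2) := by decide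
  have hz2 : (QuaternionGroup.a 2 : QuaternionGroup 2) * QuaternionGroup.a 2 = 1 := by decide
  have hzne : (QuaternionGroup.a 2 : QuaternionGroup 2) ≠ 1 := by decide
  set z := e.symm (QuaternionGroup.a 2) with hz
  have hd' : ∀ x : P, x = 1 ∨ x = z ∨ x ^ 2 = z := by
    intro x
    rcases hd (e x) with h | h | h
    · exact Or.inl (e.injective (by rw [h, map_one]))
    · exact Or.inr (Or.inl (e.injective (by rw [h, hz, MulEquiv.apply_symm_apply])))
    · exact Or.inr (Or.inr (e.injective (by rw [map_pow, pow_two, h, hz, MulEquiv.apply_symm_apply])))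
  have hz1 : z ≠ 1 := fun h => hzne (e.symm.injective (by rw [← hz, h, map_one]))
  have hzz : z ^ 2 = 1 := by rw [hz, ← map_pow, pow_two, hz2, map_one]
  refine ⟨z, hz1, hzz, fun x hx => ?_, fun x => ?_, fun x hx => ?_⟩
  · rcases hd' x with h | h | h
    · exact Or.inl h
    · exact Or.inr h
    · exact absurd (h.symm.trans hx) hz1
  · rcases hd' x with h | h | h
    · exact Or.inl h
    · exact Or.inr (Or.inl h)
    · refine Or.inr (Or.inr ?_)
      haveI := Fact.mk Nat.prime_two
      refine orderOf_eq_prime_pow (p := 2) (n := 1) (by rw [pow_one, h]; exact hz1) ?_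
      rw [show 2 ^ (1 + 1) = 2 * 2 from rfl, pow_mul, h, hzz]
  · rcases hd' x with h | h | h
    · exact absurd h hx
    · rw [h]; exact mem_zpowers z
    · rw [← h]; exact pow_mem (mem_zpowers x) 2

theorem quat_centralizes (hB : HB G) (hs : Group.IsSolvable G) (N : Subgroup G) [N.Normal] [IsMulCommutative N]
    {p : ℕ} [Fact p.Prime] (hexp : ∀ x ∈ N, x ^ p = 1) (hcop : (Nat.card N).Coprime N.index)
    (Q : Sylow 2 G) (e : (Q : Subgroup G) ≃* QuaternionGroup 2)
    (U : Subgroup G) (hUN : U ≤ N) (hU1 : U ≠ ⊥) (hU2 : U ≠ N) (hQU : (Q : Subgroup G) ≤ normalizer (U : Set G)) :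
    (Q : Subgroup G) ≤ centralizer (N : Set G) := by
  haveI := Fact.mk Nat.prime_two
  have hN : N ≠ ⊥ := fun h => hU1 (le_bot_iff.mp (h ▸ hUN))
  obtain ⟨hBX, hsX, hcX, htr⟩ := induced hB hs N hexp hcop
  haveI := hsX
  haveI : Nontrivial N := (nontrivial_iff_ne_bot _).mpr hN
  set φ : G →* MulAut N := MulAut.conjNormal with hφ
  set π := QuotientGroup.mk' φ.ker
  let Q' := Q.mapSurjective (QuotientGroup.mk'_surjective φ.ker)
  obtain ⟨z, hz1, hz2, hzu, hz4, hzp⟩ := quat_facts e
  by_cases hzk : (z : G) ∈ φ.ker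
  · obtain ⟨y, hy, hyk⟩ : ∃ y : (Q : Subgroup G), orderOf y = 4 ∧ (y : G) ∈ φ.ker := by
      have hQ' : ∀ x ∈ (Q' : Subgroup (G ⧸ φ.ker)), x ^ 2 = 1 := by
        rw [Sylow.coe_mapSurjective]
        rintro _ ⟨x, hx, rfl⟩
        rw [← map_pow]
        refine (QuotientGroup.eq_one_iff _).mpr ?_
        rcases hzu ((⟨x, hx⟩ : (Q : Subgroup G)) ^ 2) (by
          rw [← pow_mul]
          rcases hz4 ⟨x, hx⟩ with h | h | h
          · rw [h, one_pow]
          · rw [h, pow_mul, hz2, one_pow]
          · exact orderOf_dvd_iff_pow_eq_one.mp (dvd_of_eq h)) with h | h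
        · have h' : x ^ 2 = 1 := congrArg Subtype.val h
          rw [h']; exact one_mem _
        · have h' : x ^ 2 = (z : G) := congrArg Subtype.val h
          rw [h']; exact hzk
      haveI := linear_sylow hBX (QuotientGroup.kerLift φ) (QuotientGroup.kerLift_injective φ) hcX htr Q' hQ'
      have hle : Nat.card (Q' : Subgroup (G ⧸ φ.ker)) ≤ 2 :=
        card_le_of_exponent two_pos fun x => Subtype.ext (by simpa using hQ' x x.2)
      by_contra hno
      push Not at hno
      set K := φ.ker.subgroupOf (Q : Subgroup G)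
      have hK : Nat.card K ≤ 2 := by
        refine card_le_two_of_exponent (Or.inr ⟨e⟩) fun x hx => ?_
        rcases hz4 x with h | h | h
        · rw [h, one_pow]
        · rw [h, hz2]
        · exact absurd hx (hno x h)
      have h1 := map_mk_card φ.ker (Q : Subgroup G)
      rw [← Sylow.coe_mapSurjective (QuotientGroup.mk'_surjective φ.ker) Q] at h1
      have h2 : Nat.card ↥(φ.ker ⊓ (Q : Subgroup G)) = Nat.card K := by
        rw [← Subgroup.card_map_of_injective (f := (Q : Subgroup G).subtype) (K := K) (Q : Subgroup G).subtype_injective,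
          subgroupOf_map_subtype]
      rw [h2, Nat.card_congr e.toEquiv, q8_card] at h1
      have h3 := Nat.mul_le_mul hle hK
      change Nat.card (Q' : Subgroup (G ⧸ φ.ker)) * _ = 8 at h1
      omega
    intro x hx
    refine mem_ker_conjNormal.mp ?_
    rcases hz4 ⟨x, hx⟩ with h | h | h
    · rw [show x = 1 from congrArg Subtype.val h]; exact one_mem _
    · rw [show x = (z : G) from congrArg Subtype.val h]; exact hzk
    · refine hB.mem_normal hyk ?_
      rw [Subgroup.orderOf_coe, hy, ← h, Subgroup.orderOf_mk]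
  · exfalso
    have hinj : Function.Injective (π.subgroupMap (Q : Subgroup G)) := by
      rw [← MonoidHom.ker_eq_bot_iff, eq_bot_iff]
      intro x hx
      by_contra hx1
      rw [mem_bot] at hx1
      have hxk : (x : G) ∈ φ.ker := (QuotientGroup.eq_one_iff (x : G)).mp (congrArg Subtype.val hx)
      obtain ⟨i, hi⟩ := hzp x hx1
      exact hzk (by rw [← congrArg Subtype.val hi]; simp only [Subgroup.coe_zpow]; exact zpow_mem hxk i)
    let e' : (Q : Subgroup G) ≃* (Q' : Subgroup (G ⧸ φ.ker)) :=
      MulEquiv.ofBijective (π.subgroupMap (Q : Subgroup G)) ⟨hinj, π.subgroupMap_surjective _⟩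
    haveI := quat_normal hBX (QuotientGroup.kerLift φ) (QuotientGroup.kerLift_injective φ) hcX htr Q' (e'.symm.trans e)
    refine no_invariant (f := QuotientGroup.kerLift φ) (QuotientGroup.kerLift_injective φ) (p := p)
      (fun v => Subtype.ext (by simpa using hexp v v.2)) (Q' : Subgroup (G ⧸ φ.ker)) ?_ (U.subgroupOf N)
      (fun h => hU1 ?_) (fun h => hU2 ?_) ?_ ?_
    · obtain ⟨a, b, hab⟩ : ∃ a b : QuaternionGroup 2, a * b ≠ b * a :=
        ⟨QuaternionGroup.a 1, QuaternionGroup.xa 0, by decide⟩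
      refine ⟨_, (e' (e.symm a)).2, _, (e' (e.symm b)).2, fun h => hab (e.symm.injective (e'.injective (Subtype.ext ?_)))⟩
      rw [map_mul, map_mul, map_mul, map_mul, Subgroup.coe_mul, Subgroup.coe_mul]
      exact h
    · rw [← inf_eq_left.mpr hUN, ← subgroupOf_map_subtype, h, Subgroup.map_bot]
    · exact le_antisymm hUN (subgroupOf_eq_top.mp h)
    · rw [Sylow.coe_mapSurjective]
      rintro _ ⟨x, hx, rfl⟩ u hu
      rw [mem_subgroupOf] at hu ⊢
      exact (mem_normalizer_iff.mp (hQU hx) (u : G)).mp hu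
    · intro W hW
      obtain ⟨g, hg⟩ := hB U (W.map N.subtype)
        ⟨⟨fun a b => Subtype.ext (CfsgLib.EqualOrder.mem_centralizer_self (A := N) inferInstance (hUN a.2) (hUN b.2))⟩⟩
        ⟨⟨fun a b => Subtype.ext (CfsgLib.EqualOrder.mem_centralizer_self (A := N) inferInstance (map_subtype_le W a.2) (map_subtype_le W b.2))⟩⟩
        (by rw [Subgroup.card_map_of_injective N.subtype_injective, hW, Nat.card_congr (subgroupOfEquivOfLe hUN).toEquiv])
      refine ⟨(g : G ⧸ φ.ker), ?_⟩
      ext w
      constructor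
      · intro hw
        obtain ⟨u, hu, hu'⟩ := (hg ▸ mem_map_of_mem N.subtype hw : (w : G) ∈ U.map (MulAut.conj g).toMonoidHom)
        exact ⟨⟨u, hUN hu⟩, hu, Subtype.ext hu'⟩
      · rintro ⟨u, hu, rfl⟩
        have h1 : g * (u : G) * g⁻¹ ∈ W.map N.subtype := hg ▸ ⟨u, hu, rfl⟩
        obtain ⟨w, hw, hw'⟩ := h1
        have h2 : (QuotientGroup.kerLift φ (g : G ⧸ φ.ker)) u = w := Subtype.ext hw'.symm
        change (QuotientGroup.kerLift φ (g : G ⧸ φ.ker)) u ∈ W
        rw [h2]; exact hw

end Setup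

/-- The case in which all minimal normal subgroups are noncyclic Sylow subgroups. -/
theorem big {G : Type u} [Group G] [Finite G] [Group.IsSolvable G] (hB : HB G)
    (hcore : ∀ r : ℕ, r.Prime → pCore r G ≠ ⊥ → IsMulCommutative (pCore r G) ∧ (∀ x ∈ pCore r G, x ^ r = 1) ∧
      ¬ r ∣ (pCore r G).index)
    (A B : Subgroup G) (hcard : Nat.card A = Nat.card B) : ∃ g : G, B = A.map (MulAut.conj g).toMonoidHom := by
  classical
  set F := fittingSubgroup G with hF
  have hFab : ∀ a ∈ F, ∀ b ∈ F, a * b = b * a := by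
    suffices h : F ≤ centralizer (F : Set G) from fun a ha b hb => mem_centralizer_iff.mp (h hb) a ha
    rw [hF, CfsgLib.fittingSubgroup_eq_iSup_pCore]
    refine iSup_le fun r => ?_
    rw [Subgroup.le_centralizer_iff]
    refine iSup_le fun s => ?_
    intro x hx
    rw [mem_centralizer_iff]
    intro y hy
    haveI := Fact.mk r.2
    haveI := Fact.mk s.2
    rcases eq_or_ne r s with rfl | hrs
    · rcases eq_or_ne (pCore (r : ℕ) G) ⊥ with h | h
      · have hx1 : x = 1 := by rwa [h, mem_bot] at hx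
        simp [hx1]
      · exact CfsgLib.EqualOrder.mem_centralizer_self (hcore r r.2 h).1 hy hx
    · refine Subgroup.commute_of_normal_of_disjoint (pCore (r : ℕ) G) (pCore (s : ℕ) G) inferInstance inferInstance ?_ y x hy hx
      exact IsPGroup.disjoint_of_ne (r : ℕ) (s : ℕ) (fun h => hrs (Subtype.ext h)) _ _
        (CfsgLib.isPGroup_pCore _) (CfsgLib.isPGroup_pCore _)
  have hFcop : (Nat.card F).Coprime F.index := by
    refine Nat.coprime_of_dvd fun r hr h1 h2 => ?_
    haveI := Fact.mk hr
    obtain ⟨x, hx⟩ := exists_prime_orderOf_dvd_card' r h1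
    have hle : zpowers (x : G) ≤ pCore r G := le_pCore_of_le_fitting
      (IsPGroup.of_card (n := 1) (by rw [Nat.card_zpowers, Subgroup.orderOf_coe, hx, pow_one])) (zpowers_le.mpr x.2)
    have hne : pCore r G ≠ ⊥ := fun h => by
      have h1 : (x : G) = 1 := mem_bot.mp (h ▸ hle (mem_zpowers _))
      have h3 : x = 1 := Subtype.ext h1
      rw [h3, orderOf_one] at hx
      exact hr.one_lt.ne hx
    exact (hcore r hr hne).2.2 (h2.trans (index_dvd_of_le (CfsgLib.pCore_le_fittingSubgroup hr)))
  have hsylN : ∀ {r : ℕ}, r.Prime → pCore r G ≠ ⊥ → (Nat.card (pCore r G)).Coprime (pCore r G).index := by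
    intro r hr hne
    haveI := Fact.mk hr
    obtain ⟨k, hk⟩ := IsPGroup.iff_card.mp (CfsgLib.isPGroup_pCore (G := G) r)
    rw [hk]
    exact (hr.coprime_iff_not_dvd.mpr (hcore r hr hne).2.2).pow_left k
  -- Sylow subgroups outside the Fitting subgroup
  have hsyl : ∀ (q : ℕ) [Fact q.Prime], ¬ q ∣ Nat.card F → ∀ P : Sylow q G,
      IsCyclic (P : Subgroup G) ∨ (q = 2 ∧ Nonempty ((P : Subgroup G) ≃* QuaternionGroup 2)) := by
    intro q _ hqF P
    rcases trichotomy hB P with h | ⟨rfl, n, hn, ⟨e⟩⟩ | hexp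
    · exact Or.inl h
    · obtain rfl := quaternion_eq_one hB P hn e
      exact Or.inr ⟨rfl, ⟨e⟩⟩
    · left
      by_contra hnc
      have hle : (P : Subgroup G) ≤ centralizer (F : Set G) := by
        rw [Subgroup.le_centralizer_iff, hF, CfsgLib.fittingSubgroup_eq_iSup_pCore]
        refine iSup_le fun r => ?_
        rw [← Subgroup.le_centralizer_iff]
        haveI := Fact.mk r.2
        rcases eq_or_ne (pCore (r : ℕ) G) ⊥ with h | h
        · rw [h]
          intro x _
          rw [mem_centralizer_iff]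
          intro y hy
          rw [mem_bot.mp hy, one_mul, mul_one]
        · obtain ⟨hab, hexpN, -⟩ := hcore r r.2 h
          exact noncyclic_centralizes hB inferInstance _ hexpN (hsylN r.2 h) h P hnc hexp
      have hle2 := card_dvd_of_le (hle.trans CfsgLib.centralizer_fitting_le)
      exact hqF (((dvd_pow_self q two_ne_zero).trans (sq_le_card P.2 hnc)).trans hle2)
  -- the intersections with `F`
  have hinf : ∀ X : Subgroup G, Nat.card ↥(F ⊓ X) = (Nat.card F).gcd (Nat.card X) := by
    intro X
    refine Nat.dvd_antisymm (Nat.dvd_gcd (card_dvd_of_le inf_le_left) (card_dvd_of_le inf_le_right)) ?_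
    have h1 := map_mk_card F X
    have h2 : (Nat.card (X.map (QuotientGroup.mk' F))).Coprime (Nat.card F) :=
      (hFcop.coprime_dvd_right (card_subgroup_dvd_card _)).symm
    refine Nat.Coprime.dvd_of_dvd_mul_left (h2.symm.coprime_dvd_left (Nat.gcd_dvd_left _ _)) ?_
    rw [h1]
    exact Nat.gcd_dvd_right _ _
  obtain ⟨g, hg⟩ := hB (F ⊓ A) (F ⊓ B) ⟨⟨fun a b => Subtype.ext (hFab a a.2.1 b b.2.1)⟩⟩
    ⟨⟨fun a b => Subtype.ext (hFab a a.2.1 b b.2.1)⟩⟩ (by rw [hinf, hinf, hcard])
  -- it is enough to treat subgroups with the same intersection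
  suffices main : ∀ A : Subgroup G, Nat.card A = Nat.card B → F ⊓ A = F ⊓ B →
      ∃ g : G, B = A.map (MulAut.conj g).toMonoidHom by
    obtain ⟨y, hy⟩ := main (A.map (MulAut.conj g).toMonoidHom) (by rw [conj_card, hcard]) (by
      rw [hg, Subgroup.map_inf _ _ _ (MulAut.conj g).injective]
      congr 1
      ext x
      constructor
      · intro hx
        exact ⟨g⁻¹ * x * g, by simpa using (inferInstance : F.Normal).conj_mem x hx g⁻¹, by simp [mul_assoc]⟩
      · rintro ⟨w, hw, rfl⟩
        exact (inferInstance : F.Normal).conj_mem w hw g)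
    refine ⟨y * g, ?_⟩
    rw [hy, Subgroup.map_map]
    congr 1
    ext x
    simp [mul_assoc]
  clear hcard hg g A
  intro A hcard hU
  set U := F ⊓ B with hUdef
  set T := normalizer (U : Set G) with hT
  have hleT : ∀ X : Subgroup G, F ⊓ X = U → X ≤ T := by
    intro X hX x hx
    rw [hT]
    refine mem_normalizer_iff.mpr fun u => ?_
    rw [← hX]
    constructor
    · intro hu
      exact ⟨(inferInstance : F.Normal).conj_mem u hu.1 x, X.mul_mem (X.mul_mem hx hu.2) (X.inv_mem hx)⟩
    · intro hu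
      refine ⟨?_, ?_⟩
      · simpa [mul_assoc] using (inferInstance : F.Normal).conj_mem _ hu.1 x⁻¹
      · simpa [mul_assoc] using X.mul_mem (X.mul_mem (X.inv_mem hx) hu.2) hx
  have hAT := hleT A hU
  have hBT := hleT B rfl
  have hFT : F ≤ T := by
    intro x hx
    rw [hT]
    refine centralizer_le_normalizer _ (mem_centralizer_iff.mpr fun u hu => hFab u hu.1 x hx)
  have hUT : (U.subgroupOf T).Normal := normal_subgroupOf_iff_le_normalizer (inf_le_left.trans hFT) |>.mpr le_rfl
  set FT := F.subgroupOf T with hFTdef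
  haveI hFTn : FT.Normal := by rw [hFTdef]; infer_instance
  have hFTc : Nat.card FT = Nat.card F := Nat.card_congr (subgroupOfEquivOfLe hFT).toEquiv
  have hFTi : FT.index ∣ F.index := relIndex_dvd_index_of_normal F T
  have hcopT : (Nat.card FT).Coprime FT.index := by rw [hFTc]; exact hFcop.coprime_dvd_right hFTi
  set π := QuotientGroup.mk' FT with hπ
  -- the Sylow subgroups of `T / F`
  have hSq : ∀ (q : ℕ) [Fact q.Prime] (S : Sylow q ↥T), ¬ q ∣ Nat.card F →
      IsCyclic (S : Subgroup ↥T) ∨ (q = 2 ∧ ∃ P : Sylow 2 G, (P : Subgroup G) = (S : Subgroup ↥T).map T.subtype ∧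
        Nonempty ((P : Subgroup G) ≃* QuaternionGroup 2)) := by
    intro q _ S hq
    obtain ⟨P, hP⟩ := (S.2.map T.subtype).exists_le_sylow
    rcases hsyl q hq P with hc | ⟨rfl, ⟨e⟩⟩
    · left
      haveI : IsCyclic ((S : Subgroup ↥T).map T.subtype) := isCyclic_of_injective (inclusion hP) (inclusion_injective hP)
      exact ((S : Subgroup ↥T).equivMapOfInjective T.subtype T.subtype_injective).isCyclic.mpr inferInstance
    · by_cases hc : IsCyclic (S : Subgroup ↥T)
      · exact Or.inl hc
      refine Or.inr ⟨rfl, P, (eq_of_le_of_card_ge hP ?_).symm, ⟨e⟩⟩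
      rw [Nat.card_congr e.toEquiv, q8_card, Subgroup.card_map_of_injective T.subtype_injective]
      obtain ⟨k, hk⟩ := IsPGroup.iff_card.mp S.2
      rw [hk]
      have hk3 : 3 ≤ k := by
        by_contra h3
        refine hc ?_
        by_contra hnc
        have h4 : 2 ^ 2 ∣ Nat.card (S : Subgroup ↥T) := sq_le_card S.2 hnc
        rw [hk] at h4
        have hk2 : k = 2 := by
          have := (Nat.pow_dvd_pow_iff_le_right (by norm_num)).mp h4
          omega
        set S' := ((S : Subgroup ↥T).map T.subtype).subgroupOf P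
        have h5 : Nat.card S' = 4 := by
          rw [Nat.card_congr (subgroupOfEquivOfLe hP).toEquiv, Subgroup.card_map_of_injective T.subtype_injective, hk, hk2]
          rfl
        obtain ⟨z, -, -, -, hz4, -⟩ := quat_facts e
        obtain ⟨y, hy, hy4⟩ : ∃ y ∈ S', orderOf y = 4 := by
          by_contra hno
          push Not at hno
          have := card_le_two_of_exponent (K := S') (Or.inr ⟨e⟩) fun x hx => by
            obtain ⟨z', hz1, hz2, -, hz4', -⟩ := quat_facts e
            rcases hz4' x with h | h | h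
            · rw [h, one_pow]
            · rw [h, hz2]
            · exact absurd h (hno x hx)
          omega
        haveI : IsCyclic S' := isCyclic_of_orderOf_eq_card ⟨y, hy⟩ (by rw [Subgroup.orderOf_mk, h5, hy4])
        have : IsCyclic ((S : Subgroup ↥T).map T.subtype) := (subgroupOfEquivOfLe hP).isCyclic.mp inferInstance
        exact hnc (((S : Subgroup ↥T).equivMapOfInjective T.subtype T.subtype_injective).isCyclic.mpr this)
      exact le_trans (by norm_num) (Nat.pow_le_pow_right (n := 2) two_pos hk3)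
  have hcycq : ∀ q : ℕ, q.Prime → q ≠ 2 → ∀ P : Sylow q (↥T ⧸ FT), IsCyclic (P : Subgroup (↥T ⧸ FT)) := by
    intro q hq hq2 P
    haveI := Fact.mk hq
    obtain ⟨S⟩ : Nonempty (Sylow q ↥T) := inferInstance
    let S' := S.mapSurjective (QuotientGroup.mk'_surjective FT)
    refine ((S'.equiv P).isCyclic).mp ?_
    by_cases hqF : q ∣ Nat.card F
    · obtain ⟨k, hk⟩ := IsPGroup.iff_card.mp S'.2
      have : k = 0 := by
        by_contra hk0
        have h0 : Nat.card (S' : Subgroup (↥T ⧸ FT)) ∣ Nat.card (↥T ⧸ FT) := card_subgroup_dvd_card _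
        rw [hk] at h0
        have h1 := (dvd_pow_self q hk0).trans h0
        exact Nat.not_coprime_of_dvd_of_dvd hq.one_lt (hFTc.symm ▸ hqF) h1 hcopT
      rw [this, pow_zero] at hk
      haveI := (Nat.card_eq_one_iff_unique.mp hk).1
      infer_instance
    · rcases hSq q S hqF with h | ⟨h, -⟩
      · exact isCyclic_of_surjective (π.subgroupMap (S : Subgroup ↥T)) (MonoidHom.subgroupMap_surjective _ _)
      · exact absurd h hq2
  have hD : ∀ p : ℕ, p.Prime → ∀ H K : Subgroup (↥T ⧸ FT), IsPGroup p H → IsPGroup p K → Nat.card H = Nat.card K →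
      ∃ g, K = H.map (MulAut.conj g).toMonoidHom := by
    intro p hp H K hH hK hHK
    haveI := Fact.mk hp
    obtain ⟨a, ha⟩ := IsPGroup.iff_card.mp hH
    rcases eq_or_ne a 0 with rfl | ha0
    · rw [pow_zero] at ha
      have hK1 : Nat.card K = 1 := hHK ▸ ha
      rw [card_eq_one.mp ha, card_eq_one.mp hK1]
      exact ⟨1, by rw [Subgroup.map_bot]⟩
    have hpF : ¬ p ∣ Nat.card F := fun h =>
      Nat.not_coprime_of_dvd_of_dvd hp.one_lt (hFTc.symm ▸ h) ((dvd_pow_self p ha0).trans (ha ▸ card_subgroup_dvd_card H)) hcopT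
    -- lifts
    have lift : ∀ C : Subgroup (↥T ⧸ FT), IsPGroup p C →
        ∃ L : Subgroup ↥T, IsPGroup p L ∧ L.map π = C ∧ Nat.card L = Nat.card C := by
      intro C hC
      obtain ⟨S⟩ : Nonempty (Sylow p ↥(C.comap π)) := inferInstance
      obtain ⟨b, hb⟩ := IsPGroup.iff_card.mp hC
      set L := (S : Subgroup ↥(C.comap π)).map (C.comap π).subtype with hL
      have hLc : Nat.card L = Nat.card C := by
        rw [hL, Subgroup.card_map_of_injective (C.comap π).subtype_injective, Sylow.card_eq_multiplicity,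
          CfsgLib.card_comap_mk, hb, hFTc, Nat.factorization_mul Nat.card_pos.ne' (pow_ne_zero _ hp.ne_zero),
          Finsupp.add_apply, Nat.factorization_eq_zero_of_not_dvd hpF, hp.factorization_pow, Finsupp.single_eq_same,
          zero_add]
      refine ⟨L, S.2.map _, eq_of_le_of_card_ge (map_le_iff_le_comap.mpr (map_subtype_le _)) ?_, hLc⟩
      have h1 := map_mk_card FT L
      have h2 : FT ⊓ L = ⊥ := card_eq_one.mp (Nat.eq_one_of_dvd_coprimes
        (show (Nat.card F).Coprime (p ^ b) from ((hp.coprime_iff_not_dvd.mpr hpF).symm.pow_right b))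
        (hFTc ▸ card_dvd_of_le inf_le_left) (hb ▸ hLc ▸ card_dvd_of_le inf_le_right))
      rw [h2, card_bot, mul_one, hLc] at h1
      exact h1.ge
    obtain ⟨L, hL, hLm, hLc⟩ := lift H hH
    obtain ⟨M, hM, hMm, hMc⟩ := lift K hK
    suffices h : ∃ g : ↥T, M = L.map (MulAut.conj g).toMonoidHom by
      obtain ⟨g, hg⟩ := h
      refine ⟨π g, ?_⟩
      rw [← hMm, hg, ← hLm, Subgroup.map_map, Subgroup.map_map]
      congr 1
    by_cases hcp : Cyc p ↥T
    · refine zconj (Nat.card ↥T) ↥T rfl inferInstance L M (by rw [hLc, hMc, hHK]) fun r hr hrd => ?_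
      have : r = p := by
        rw [hLc, ha] at hrd
        exact (Nat.prime_dvd_prime_iff_eq hr hp).mp (hr.dvd_of_dvd_pow hrd)
      exact this ▸ hcp
    obtain ⟨S, hS⟩ : ∃ S : Sylow p ↥T, ¬ IsCyclic (S : Subgroup ↥T) := by
      by_contra h
      push Not at h
      exact hcp fun Q hQ => cyclic_of_sylow hp h hQ
    obtain ⟨rfl, P, hPS, ⟨e⟩⟩ := (hSq p S hpF).resolve_left hS
    obtain ⟨z, hz1, hz2, hzu, hz4, hzp⟩ := quat_facts e
    -- everything may be moved into `P`
    have move : ∀ X : Subgroup ↥T, IsPGroup 2 X →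
        ∃ t : ↥T, (X.map (MulAut.conj t).toMonoidHom).map T.subtype ≤ (P : Subgroup G) := by
      intro X hX
      obtain ⟨S', hS'⟩ := hX.exists_le_sylow
      obtain ⟨t, rfl⟩ := MulAction.exists_smul_eq ↥T S' S
      refine ⟨t, ?_⟩
      rw [hPS]
      refine map_mono ?_
      rintro _ ⟨x, hx, rfl⟩
      rw [Sylow.coe_subgroup_smul, Subgroup.pointwise_smul_def]
      exact ⟨x, hS' hx, rfl⟩
    obtain ⟨t, ht⟩ := move L hL
    obtain ⟨s, hs⟩ := move M hM
    suffices h : ∃ g ∈ T, (M.map (MulAut.conj s).toMonoidHom).map T.subtype =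
        ((L.map (MulAut.conj t).toMonoidHom).map T.subtype).map (MulAut.conj g).toMonoidHom by
      obtain ⟨g, hgT, hg⟩ := h
      refine ⟨s⁻¹ * ⟨g, hgT⟩ * t, map_injective (f := (MulAut.conj s).toMonoidHom) (MulAut.conj s).injective (map_injective T.subtype_injective ?_)⟩
      change (M.map (MulAut.conj s).toMonoidHom).map T.subtype = _
      rw [hg]
      simp only [Subgroup.map_map]
      congr 1
      ext x
      simp [mul_assoc]
    set L' := (L.map (MulAut.conj t).toMonoidHom).map T.subtype with hL'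
    set M' := (M.map (MulAut.conj s).toMonoidHom).map T.subtype with hM'
    have hc2 : Nat.card L' = 2 ^ a ∧ Nat.card M' = 2 ^ a := by
      constructor
      · rw [hL', Subgroup.card_map_of_injective T.subtype_injective, conj_card, hLc, ha]
      · rw [hM', Subgroup.card_map_of_injective T.subtype_injective, conj_card, hMc, ← hHK, ha]
    have hP8 : Nat.card (P : Subgroup G) = 2 ^ 3 := by rw [Nat.card_congr e.toEquiv, q8_card]; rfl
    have ha3 : a ≤ 3 := (Nat.pow_dvd_pow_iff_le_right (by norm_num)).mp (hP8 ▸ hc2.1 ▸ card_dvd_of_le ht)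
    have h4 : ∀ X : Subgroup G, X ≤ (P : Subgroup G) → Nat.card X = 2 ^ 2 → ∃ y : (P : Subgroup G), orderOf y = 4 ∧ X = zpowers (y : G) := by
      intro X hX hXc
      obtain ⟨y, hyX, hy⟩ : ∃ y : (P : Subgroup G), (y : G) ∈ X ∧ orderOf y = 4 := by
        by_contra hno
        push Not at hno
        have := card_le_two_of_exponent (K := X.subgroupOf (P : Subgroup G)) (Or.inr ⟨e⟩) fun x hx => by
          rcases hz4 x with h | h | h
          · rw [h, one_pow]
          · rw [h, hz2]
          · exact absurd h (hno x hx)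
        rw [Nat.card_congr (subgroupOfEquivOfLe hX).toEquiv, hXc] at this
        omega
      refine ⟨y, hy, (eq_of_le_of_card_ge (zpowers_le.mpr hyX) ?_).symm⟩
      rw [hXc, Nat.card_zpowers, Subgroup.orderOf_coe, hy]; norm_num
    interval_cases a
    · exact absurd rfl ha0
    · -- order two
      have h2 : ∀ X : Subgroup G, X ≤ (P : Subgroup G) → Nat.card X = 2 ^ 1 → X = zpowers (z : G) := by
        intro X hX hXc
        obtain ⟨x, hx⟩ := exists_prime_orderOf_dvd_card' (G := X) 2 (by rw [hXc]; norm_num)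
        have hxz : (⟨x, hX x.2⟩ : (P : Subgroup G)) = z := (hzu _ (Subtype.ext (by
          simp only [Subgroup.coe_pow, Subgroup.coe_one]
          rw [← Subgroup.coe_pow, ← hx, pow_orderOf_eq_one, Subgroup.coe_one]))).resolve_left fun h => by
            have : x = 1 := Subtype.ext (congrArg Subtype.val h :)
            rw [this, orderOf_one] at hx
            omega
        refine (eq_of_le_of_card_ge (zpowers_le.mpr ((congrArg Subtype.val hxz) ▸ x.2)) ?_).symm
        rw [hXc, Nat.card_zpowers, ← congrArg Subtype.val hxz]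
        change _ ≤ orderOf (x : G)
        rw [Subgroup.orderOf_coe, hx]
        norm_num
      exact ⟨1, one_mem T, by rw [h2 L' ht hc2.1, h2 M' hs hc2.2]; simp⟩
    · -- order four
      obtain ⟨i, hi, hLi⟩ := h4 L' ht hc2.1
      obtain ⟨j, hj, hMj⟩ := h4 M' hs hc2.2
      have hPT : (P : Subgroup G) ≤ T := hPS ▸ map_subtype_le _
      set V := U ⊓ centralizer ((P : Subgroup G) : Set G) with hV
      have hcm : ∀ y : (P : Subgroup G), IsMulCommutative ↥(V ⊔ zpowers (y : G)) := by
        intro y
        have h1 : V ⊔ zpowers (y : G) = closure ((V : Set G) ∪ {(y : G)}) := by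
          rw [Subgroup.closure_union, closure_eq, zpowers_eq_closure]
        rw [h1]
        refine Subgroup.isMulCommutative_closure ?_
        rintro a (ha | rfl) b (hb | rfl)
        · exact hFab a ha.1.1 b hb.1.1
        · exact (mem_centralizer_iff.mp ha.2 _ y.2).symm
        · exact mem_centralizer_iff.mp hb.2 _ y.2
        · rfl
      have hVy : ∀ y : (P : Subgroup G), ∀ w ∈ V ⊔ zpowers (y : G), ∃ v ∈ V, ∃ k ∈ zpowers (y : G), v * k = w := by
        intro y w hw
        refine CfsgLib.mem_sup_of_le_normalizer (zpowers_le.mpr ((centralizer_le_normalizer _) ?_)) hw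
        exact mem_centralizer_iff.mpr fun v hv => (mem_centralizer_iff.mp hv.2 _ y.2).symm
      have hcVy : ∀ y : (P : Subgroup G), orderOf y = 4 → Nat.card ↥(V ⊔ zpowers (y : G)) = Nat.card V * 4 := by
        intro y hy
        haveI := hcm y
        have hdis : V ⊓ zpowers (y : G) = ⊥ := card_eq_one.mp (Nat.eq_one_of_dvd_coprimes
          (show (Nat.card F).Coprime (2 ^ 2) from (Nat.prime_two.coprime_iff_not_dvd.mpr hpF).symm.pow_right 2)
          (card_dvd_of_le (inf_le_left.trans (inf_le_left.trans inf_le_left)))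
          ((card_dvd_of_le inf_le_right).trans (dvd_of_eq (by rw [Nat.card_zpowers, Subgroup.orderOf_coe, hy]; rfl))))
        rw [← show Nat.card (zpowers (y : G)) = 4 by rw [Nat.card_zpowers, Subgroup.orderOf_coe, hy],
          ← Nat.card_prod]
        refine (Nat.card_congr (Equiv.ofBijective (fun t : V × zpowers (y : G) =>
          (⟨(t.1 : G) * t.2, mul_mem_sup t.1.2 t.2.2⟩ : ↥(V ⊔ zpowers (y : G)))) ⟨?_, ?_⟩)).symm
        · exact fun a b h => mul_injective_of_disjoint (disjoint_iff.mpr hdis) (congrArg Subtype.val h :)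
        · rintro ⟨w, hw⟩
          obtain ⟨v, hv, k, hk, e'⟩ := hVy y w hw
          exact ⟨(⟨v, hv⟩, ⟨k, hk⟩), Subtype.ext e'⟩
      obtain ⟨g, hg⟩ := hB (V ⊔ zpowers (i : G)) (V ⊔ zpowers (j : G)) (hcm i) (hcm j) (by rw [hcVy i hi, hcVy j hj])
      have hco : ∀ v : G, v ∈ V → ∀ k : G, k ∈ zpowers (j : G) → ∀ m : ℕ, (v * k) ^ m = 1 → v ^ m = 1 := by
        intro v hv k hk m hm
        obtain ⟨c, rfl⟩ := hk
        simp only at hm
        rw [(Commute.zpow_right (show Commute v (j : G) from (mem_centralizer_iff.mp hv.2 _ j.2).symm) c).mul_pow] at hm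
        have h1 : v ^ m ∈ zpowers (j : G) := by
          rw [eq_inv_of_mul_eq_one_left hm]
          exact inv_mem (pow_mem (zpow_mem (mem_zpowers _) c) m)
        exact orderOf_eq_one_iff.mp (Nat.eq_one_of_dvd_coprimes
          (show (Nat.card F).Coprime (2 ^ 2) from (Nat.prime_two.coprime_iff_not_dvd.mpr hpF).symm.pow_right 2)
          (Subgroup.orderOf_dvd_natCard F (pow_mem hv.1.1 m))
          ((orderOf_dvd_of_mem_zpowers h1).trans (dvd_of_eq (by rw [Subgroup.orderOf_coe, hj]; rfl))))
      have hmem : ∀ w ∈ V ⊔ zpowers (i : G), g * w * g⁻¹ ∈ V ⊔ zpowers (j : G) := fun w hw =>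
        hg ▸ mem_map_of_mem (MulAut.conj g).toMonoidHom hw
      have hgi : g * (i : G) * g⁻¹ ∈ zpowers (j : G) := by
        obtain ⟨v, hv, k, hk, hvk⟩ := hVy j _ (hmem _ (mem_sup_right (mem_zpowers _)))
        have h4' : (g * (i : G) * g⁻¹) ^ 4 = 1 := by
          rw [conj_pow, show ((i : G)) ^ 4 = 1 from by rw [← hi, ← Subgroup.orderOf_coe, pow_orderOf_eq_one]]
          group
        rw [← hvk] at h4'
        have := hco v hv k hk 4 h4'
        have hv1 : v = 1 := orderOf_eq_one_iff.mp (Nat.eq_one_of_dvd_coprimes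
          (show (Nat.card F).Coprime (2 ^ 2) from (Nat.prime_two.coprime_iff_not_dvd.mpr hpF).symm.pow_right 2)
          (Subgroup.orderOf_dvd_natCard F hv.1.1) (orderOf_dvd_of_pow_eq_one this))
        rw [← hvk, hv1, one_mul]
        exact hk
      have hgT : g ∈ T := by
        rw [hT]
        refine mem_normalizer_fintype fun u hu => ?_
        let S : Subgroup G := U ⊓ U.comap (MulAut.conj g).toMonoidHom
        suffices hS : S = U from ((hS.symm ▸ hu : u ∈ S)).2
        refine eq_of_le_of_card_ge inf_le_left (Nat.le_of_dvd Nat.card_pos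
          ((Nat.factorization_le_iff_dvd Nat.card_pos.ne' Nat.card_pos.ne').mp fun r => ?_))
        by_cases hr : r.Prime
        swap
        · rw [Nat.factorization_eq_zero_of_not_prime _ hr]; exact Nat.zero_le _
        haveI := Fact.mk hr
        obtain ⟨R⟩ : Nonempty (Sylow r U) := inferInstance
        have hRU : (R : Subgroup U).map U.subtype ≤ U ⊓ pCore r G :=
          le_inf (map_subtype_le _) (le_pCore_of_le_fitting (R.2.map _) ((map_subtype_le _).trans inf_le_left))
        suffices hRS : (R : Subgroup U).map U.subtype ≤ S by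
          have h1 := (Nat.factorization_le_iff_dvd Nat.card_pos.ne' Nat.card_pos.ne').mpr (card_dvd_of_le hRS) r
          rwa [Subgroup.card_map_of_injective U.subtype_injective, R.card_eq_multiplicity, hr.factorization_pow,
            Finsupp.single_eq_same] at h1
        intro x hx
        obtain ⟨hxU, hxN⟩ := hRU hx
        refine ⟨hxU, ?_⟩
        change g * x * g⁻¹ ∈ U
        have hgN : g * x * g⁻¹ ∈ pCore r G := (inferInstance : (pCore r G).Normal).conj_mem x hxN g
        rcases eq_or_ne (U ⊓ pCore r G) ⊥ with h | h1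
        · have : x = 1 := mem_bot.mp (h ▸ ⟨hxU, hxN⟩)
          simp [this]
        rcases eq_or_ne (U ⊓ pCore r G) (pCore r G) with h | h2
        · exact (inf_eq_right.mp h) hgN
        have hne : pCore r G ≠ ⊥ := fun h => h1 (by rw [h, inf_bot_eq])
        obtain ⟨hab, hexpN, hidx⟩ := hcore r hr hne
        have hQC := quat_centralizes hB inferInstance (pCore r G) hexpN (hsylN hr hne) P e (U ⊓ pCore r G)
          inf_le_right h1 h2 (fun q hq => by
            rw [mem_normalizer_iff]
            intro w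
            have := mem_normalizer_iff.mp (hPT hq) w
            exact and_congr this ⟨fun h => (inferInstance : (pCore r G).Normal).conj_mem w h q,
              fun h => by simpa [mul_assoc] using (inferInstance : (pCore r G).Normal).conj_mem _ h q⁻¹⟩)
        have hxV : x ∈ V := ⟨hxU, mem_centralizer_iff.mpr fun q hq => (mem_centralizer_iff.mp (hQC hq) x hxN).symm⟩
        obtain ⟨v, hv, k, hk, hvk⟩ := hVy j _ (hmem x (mem_sup_left hxV))
        have hk1 : k = 1 := by
          have hkF : k ∈ F := by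
            rw [show k = v⁻¹ * (g * x * g⁻¹) by rw [← hvk, inv_mul_cancel_left]]
            exact mul_mem (inv_mem hv.1.1) ((inferInstance : F.Normal).conj_mem x hxU.1 g)
          exact orderOf_eq_one_iff.mp (Nat.eq_one_of_dvd_coprimes
            (show (Nat.card F).Coprime (2 ^ 2) from (Nat.prime_two.coprime_iff_not_dvd.mpr hpF).symm.pow_right 2)
            (Subgroup.orderOf_dvd_natCard F hkF)
            ((orderOf_dvd_of_mem_zpowers hk).trans (dvd_of_eq (by rw [Subgroup.orderOf_coe, hj]; rfl))))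
        rw [← hvk, hk1, mul_one]
        exact hv.1
      refine ⟨g, hgT, ?_⟩
      rw [hLi, hMj, MonoidHom.map_zpowers]
      refine (eq_of_le_of_card_ge (zpowers_le.mpr hgi) ?_).symm
      rw [Nat.card_zpowers, Nat.card_zpowers]
      change _ ≤ orderOf ((MulAut.conj g) (i : G))
      rw [MulEquiv.orderOf_eq, Subgroup.orderOf_coe, Subgroup.orderOf_coe, hi, hj]
    · refine ⟨1, one_mem T, ?_⟩
      rw [eq_of_le_of_card_ge ht (by rw [hP8, hc2.1]), eq_of_le_of_card_ge hs (by rw [hP8, hc2.2])]
      ext y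
      simp
  -- apply the result on `T / F`
  set AT := A.subgroupOf T with hATd
  set BT := B.subgroupOf T with hBTd
  have hATc : Nat.card AT = Nat.card A := Nat.card_congr (subgroupOfEquivOfLe hAT).toEquiv
  have hBTc : Nat.card BT = Nat.card B := Nat.card_congr (subgroupOfEquivOfLe hBT).toEquiv
  set UT := U.subgroupOf T with hUTd
  have hAU : FT ⊓ AT = UT := by rw [hUTd, ← hU]; rfl
  have hBU : FT ⊓ BT = UT := rfl
  haveI := hUT
  obtain ⟨t, ht⟩ := Cfsg.Agent.S4022.result (G := ↥T ⧸ FT) hD 2 hcycq (AT.map π) (BT.map π) (by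
    have h1 := map_mk_card FT AT
    have h2 := map_mk_card FT BT
    rw [hAU, hATc, hcard] at h1
    rw [hBU, hBTc] at h2
    exact Nat.eq_of_mul_eq_mul_right Nat.card_pos (h1.trans h2.symm))
  obtain ⟨x, hx⟩ := lift_quotient ht
  set A' := AT.map (MulAut.conj x).toMonoidHom with hA'
  have hA'U : FT ⊓ A' = UT := by
    have hfix : ∀ W : Subgroup ↥T, W.Normal → W.map (MulAut.conj x).toMonoidHom = W := by
      intro W hW
      ext y
      constructor
      · rintro ⟨w, hw, rfl⟩
        exact hW.conj_mem w hw x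
      · intro hy
        exact ⟨x⁻¹ * y * x, by simpa using hW.conj_mem y hy x⁻¹, by simp [mul_assoc]⟩
    conv_lhs => rw [hA', ← hfix FT hFTn, ← Subgroup.map_inf _ _ _ (MulAut.conj x).injective, hAU, hfix UT hUT]
  -- complements of `U`
  have hcompl : ∀ X : Subgroup ↥T, FT ⊓ X = UT → Nat.card X = Nat.card B →
      ∃ C : Subgroup ↥T, UT ⊔ C = X ∧ Nat.card C * Nat.card UT = Nat.card B ∧ (Nat.card FT).Coprime (Nat.card C) := by
    intro X hX hXc
    have h1 := map_mk_card FT X
    rw [hX, hXc] at h1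
    have hUX : UT ≤ X := hX ▸ inf_le_right
    have hidx : (UT.subgroupOf X).index = Nat.card (X.map π) := by
      have h2 := (UT.subgroupOf X).card_mul_index
      rw [Nat.card_congr (subgroupOfEquivOfLe hUX).toEquiv, hXc, ← h1, mul_comm] at h2
      exact Nat.eq_of_mul_eq_mul_right Nat.card_pos h2
    have hc : (Nat.card FT).Coprime (Nat.card (X.map π)) := hcopT.coprime_dvd_right (card_subgroup_dvd_card _)
    obtain ⟨C, hC⟩ := exists_right_complement'_of_coprime (N := UT.subgroupOf X) (by
      rw [hidx, Nat.card_congr (subgroupOfEquivOfLe hUX).toEquiv]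
      exact hc.coprime_dvd_left (card_dvd_of_le (hX ▸ inf_le_left)))
    have hCc : Nat.card (C.map X.subtype) = Nat.card (X.map π) := by
      rw [Subgroup.card_map_of_injective X.subtype_injective, ← hC.symm.index_eq_card, hidx]
    refine ⟨C.map X.subtype, ?_, by rw [hCc, h1], by rw [hCc]; exact hc⟩
    have h3 := congrArg (Subgroup.map X.subtype) hC.sup_eq_top
    rw [Subgroup.map_sup, subgroupOf_map_subtype, inf_eq_left.mpr hUX, ← MonoidHom.range_eq_map, range_subtype] at h3
    exact h3
  obtain ⟨CA, hCA, hCAc, hCAf⟩ := hcompl A' hA'U (by rw [hA', conj_card, hATc, hcard])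
  obtain ⟨CB, hCB, hCBc, -⟩ := hcompl BT hBU hBTc
  have hUF : UT ≤ FT := hA'U ▸ inf_le_left
  obtain ⟨n, hn⟩ := conj_of_sup (N := FT) hCAf (Nat.eq_of_mul_eq_mul_right Nat.card_pos (hCAc.trans hCBc.symm)) (by
    have hx' : FT ⊔ A' = FT ⊔ BT := hx
    rw [← hCA, ← hCB, ← sup_assoc, ← sup_assoc, sup_eq_left.mpr hUF] at hx'
    exact hx')
  have hB' : BT = A'.map (MulAut.conj n).toMonoidHom := by
    rw [← hCA, Subgroup.map_sup, ← hn, ← hCB]
    congr 1
    ext y
    constructor
    · intro hy
      exact ⟨n⁻¹ * y * n, by simpa using hUT.conj_mem y hy n⁻¹, by simp [mul_assoc]⟩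
    · rintro ⟨w, hw, rfl⟩
      exact hUT.conj_mem w hw n
  refine ⟨((n * x : ↥T) : G), ?_⟩
  have h3 := congrArg (Subgroup.map T.subtype) hB'
  rw [hBTd, subgroupOf_map_subtype, inf_eq_left.mpr hBT, hA', hATd] at h3
  rw [h3]
  conv_rhs => rw [← inf_eq_left.mpr hAT, ← subgroupOf_map_subtype]
  rw [Subgroup.map_map, Subgroup.map_map, Subgroup.map_map]
  congr 1
  ext y
  simp [mul_assoc]

theorem main : ∀ (m : ℕ) (G : Type u) [Group G] [Finite G], Nat.card G = m → HB G → Group.IsSolvable G →
    ∀ A B : Subgroup G, Nat.card A = Nat.card B → ∃ g : G, B = A.map (MulAut.conj g).toMonoidHom := by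
  intro m
  induction m using Nat.strong_induction_on with
  | _ m ih =>
    intro G _ _ hm hB hs A B hcard
    haveI := hs
    by_cases hsmall : ∃ N : Subgroup G, N.Normal ∧ ∃ q : ℕ, q.Prime ∧ Nat.card N = q
    · obtain ⟨N, hN, q, hq, hNq⟩ := hsmall
      haveI := hN
      haveI := Fact.mk hq
      have hN1 : N ≠ ⊥ := fun h => by rw [h, card_bot] at hNq; exact hq.one_lt.ne hNq
      refine step (N := N) hcard ?_ fun H' K' hc _ => ih _ (hm ▸ quotient_card_lt hN1) _ rfl
        (Cfsg.Agent.S3912.quotient_closed hB hs N) inferInstance H' K' hc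
      by_cases hd : q ∣ Nat.card A
      · have key : ∀ X : Subgroup G, q ∣ Nat.card X → N ≤ X := by
          intro X hX
          obtain ⟨x, hx⟩ := exists_prime_orderOf_dvd_card' q hX
          have hxN : (x : G) ∈ N := hB.mem_normal_prime (dvd_of_eq hNq.symm)
            (by rw [← Subgroup.coe_pow, ← hx, pow_orderOf_eq_one, Subgroup.coe_one])
          exact (eq_of_le_of_card_ge (zpowers_le.mpr hxN) (by rw [Nat.card_zpowers, Subgroup.orderOf_coe, hx, hNq])).symm.le.trans
            (zpowers_le.mpr x.2)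
        exact Or.inl ⟨key A hd, key B (hcard ▸ hd)⟩
      · exact Or.inr (by rw [hNq]; exact hq.coprime_iff_not_dvd.mpr hd)
    push Not at hsmall
    refine big hB (fun r hr hne => ?_) A B hcard
    haveI := Fact.mk hr
    obtain ⟨N, hN, hNle, hN1, hmin⟩ := CfsgLib.exists_minimal_normal (N := pCore r G) hne
    haveI := hN
    obtain ⟨hab, q, hq, hqN⟩ := CfsgLib.minimal_normal_elementary hN1 inferInstance hmin
    obtain ⟨a, ha⟩ := IsPGroup.iff_card.mp ((CfsgLib.isPGroup_pCore r).to_le hNle)
    have ha0 : a ≠ 0 := fun h => hN1 (card_eq_one.mp (by rw [ha, h, pow_zero]))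
    have hrN : r ∣ Nat.card N := ha ▸ dvd_pow_self r ha0
    have hqr : q = r := by
      obtain ⟨x, hx⟩ := exists_prime_orderOf_dvd_card' r hrN
      exact ((Nat.prime_dvd_prime_iff_eq hr hq).mp (hx ▸ orderOf_dvd_of_pow_eq_one (Subtype.ext (by simpa using hqN x x.2)))).symm
    subst hqr
    have hidx : ¬ q ∣ N.index := by
      intro h2
      obtain ⟨P⟩ : Nonempty (Sylow q G) := inferInstance
      have hNP : N ≤ P := hNle.trans (CfsgLib.pCore_le_sylow P)
      refine hsmall N inferInstance q hr (le_antisymm ?_ (Nat.le_of_dvd Nat.card_pos hrN))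
      rcases trichotomy hB P with hc | ⟨h2', n, hn, ⟨e⟩⟩ | hexp
      · haveI : IsCyclic N := isCyclic_of_injective (inclusion hNP) (inclusion_injective hNP)
        exact card_le_of_exponent hr.pos fun x => Subtype.ext (by simpa using hqN x x.2)
      · subst h2'
        obtain rfl := quaternion_eq_one hB P hn e
        have := card_le_two_of_exponent (Or.inr ⟨e⟩) (K := N.subgroupOf P) (fun x hx => Subtype.ext (hqN x hx))
        rwa [Nat.card_congr (subgroupOfEquivOfLe hNP).toEquiv] at this
      · exact absurd (h2.trans (index_dvd_of_le (fun x hx => hB.mem_normal_prime hrN (hexp x hx)))) P.not_dvd_index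
    have hNe : N = pCore q G := by
      refine le_antisymm hNle ?_
      rw [← Subgroup.relIndex_eq_one]
      obtain ⟨k, hk⟩ := IsPGroup.index (CfsgLib.isPGroup_pCore (G := G) q) (N.subgroupOf (pCore q G))
      rw [relIndex, hk]
      rcases k with _ | k
      · rfl
      · exfalso
        refine hidx ((dvd_pow_self q (Nat.succ_ne_zero k)).trans ?_)
        rw [← hk]
        exact relIndex_dvd_index_of_le hNle
    subst hNe
    exact ⟨hab, hqN, hidx⟩

/-- If G is a finite solvable group in which any two abelian subgroups of the same order are conjugate, then any two subgroups of G of the same order are conjugate. -/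
theorem result {G : Type*} [Group G] [Finite G] (hB : ∀ A B : Subgroup G, IsMulCommutative ↥A → IsMulCommutative ↥B → Nat.card ↥A = Nat.card ↥B → ∃ g : G, B = A.map (MulAut.conj g).toMonoidHom) (hsol : Group.IsSolvable G) (A B : Subgroup G)
    (h : Nat.card ↥A = Nat.card ↥B) : ∃ g : G, B = A.map (MulAut.conj g).toMonoidHom := by
  exact main (Nat.card G) G rfl hB hsol A B h

end Cfsg.Agent.S3913
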