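import Cfsg.Statements.S3915
import Cfsg.Agent.Lib.Components
import Cfsg.Agent.Lib.OddOrder.FeitThompson

set_option autoImplicit false
open Cfsg

namespace Cfsg.Agent.S3915


/-- Number of components not centralised by `z`. -/
noncomputable def moved {G : Type*} [Group G] (z : G) : ℕ :=
  Nat.card {M : Subgroup G // IsComponent M ∧ ∃ k ∈ M, z * k ≠ k * z}

theorem moved_conj {G : Type*} [Group G] (g z : G) : moved (g * z * g⁻¹) = moved z := by
  let e : G ≃* G := MulAut.conj g
  refine (Nat.card_congr (Equiv.subtypeEquiv (e.mapSubgroup.toEquiv) ?_)).symm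
  intro M
  simp only [RelIso.coe_fn_toEquiv, MulEquiv.mapSubgroup_apply]
  constructor
  · rintro ⟨hM, k, hk, hne⟩
    refine ⟨CfsgLib.isComponent_map_equiv e hM, e k, Subgroup.mem_map.2 ⟨k, hk, rfl⟩, ?_⟩
    intro h
    apply hne
    apply e.injective
    rw [map_mul, map_mul]
    exact h
  · rintro ⟨hM, k, hk, hne⟩
    refine ⟨?_, ?_⟩
    · have := CfsgLib.isComponent_map_equiv e.symm hM
      rwa [Subgroup.map_map, show (e.symm.toMonoidHom).comp (e : G →* G) = MonoidHom.id G from
        MonoidHom.ext fun x => e.symm_apply_apply x, Subgroup.map_id] at this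
    · obtain ⟨k', hk', rfl⟩ := Subgroup.mem_map.1 hk
      refine ⟨k', hk', fun h => hne ?_⟩
      show e z * e k' = e k' * e z
      rw [← map_mul, h, map_mul]

theorem moved_of_zpowers_eq {G : Type*} [Group G] {y z : G}
    (h : Subgroup.zpowers y = Subgroup.zpowers z) : moved y = moved z := by
  have key : ∀ (a b : G), a ∈ Subgroup.zpowers b → ∀ k : G, b * k = k * b → a * k = k * a := by
    intro a b hab k hk
    obtain ⟨n, rfl⟩ := Subgroup.mem_zpowers_iff.1 hab
    exact (Commute.zpow_left hk n).eq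
  refine Nat.card_congr (Equiv.subtypeEquivRight fun M => and_congr_right fun _ => ?_)
  exact exists_congr fun k => and_congr_right fun _ =>
    not_congr ⟨key z y (h ▸ Subgroup.mem_zpowers z) k, key y z (h.symm ▸ Subgroup.mem_zpowers y) k⟩

theorem moved_eq {G : Type*} [Group G] [Finite G]
    (hP : ∀ (p : ℕ), p.Prime → ∀ A B : Subgroup G, IsCyclic ↥A → IsCyclic ↥B → IsPGroup p ↥A → Nat.card ↥A = Nat.card ↥B → ∃ g : G, B = A.map (MulAut.conj g).toMonoidHom)
    {y z : G} {c : ℕ} (hy : orderOf y = 2 ^ c) (hz : orderOf z = 2 ^ c) : moved y = moved z := by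
  have h2 : IsPGroup 2 ↥(Subgroup.zpowers y) := IsPGroup.of_card (by rw [Nat.card_zpowers]; exact hy)
  obtain ⟨g, hg⟩ := hP 2 Nat.prime_two _ (Subgroup.zpowers z) inferInstance inferInstance h2
    (by rw [Nat.card_zpowers, Nat.card_zpowers, hy, hz])
  rw [MonoidHom.map_zpowers] at hg
  rw [moved_of_zpowers_eq hg, ← moved_conj g y]
  rfl

theorem exists_two_noncentral {H : Type*} [Group H] [Finite H] (hq : IsQuasisimple H) :
    ∃ a : ℕ, ∃ x : H, x ^ (2 ^ a) = 1 ∧ x ∉ Subgroup.center H := by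
  by_contra hno
  push Not at hno
  apply CfsgLib.isQuasisimple_not_isSolvable hq
  obtain ⟨S⟩ := (inferInstance : Nonempty (Sylow 2 H))
  have hle : (S : Subgroup H) ≤ Subgroup.center H := by
    intro x hx
    obtain ⟨n, hn⟩ := S.2 ⟨x, hx⟩
    exact hno n x (by simpa using congrArg Subtype.val hn)
  have hodd : Odd (Nat.card (H ⧸ Subgroup.center H)) := by
    rw [← Subgroup.index_eq_card, Nat.odd_iff, ← Nat.two_dvd_ne_zero]
    exact fun h => S.not_dvd_index (h.trans (Subgroup.index_dvd_of_le hle))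
  have h1 : Group.IsSolvable (H ⧸ Subgroup.center H) := CfsgLib.OddOrder.feitThompson hodd
  have h2 : Group.IsSolvable (Subgroup.center H) := Group.isSolvable_of_comm fun a b => Subtype.ext (Subgroup.mem_center_iff.1 b.2 _)
  exact Group.isSolvable_of_ker_le_range (Subgroup.center H).subtype
    (QuotientGroup.mk' (Subgroup.center H)) (by rw [QuotientGroup.ker_mk', Subgroup.range_subtype])

theorem component_unique {G : Type*} [Group G] [Finite G]
    (hP : ∀ (p : ℕ), p.Prime → ∀ A B : Subgroup G, IsCyclic ↥A → IsCyclic ↥B → IsPGroup p ↥A → Nat.card ↥A = Nat.card ↥B → ∃ g : G, B = A.map (MulAut.conj g).toMonoidHom)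
    {K L : Subgroup G} (hK : IsComponent K) (hL : IsComponent L) : K = L := by
  classical
  by_contra hne
  let pick := fun (M : Subgroup G) (hM : IsComponent M) => exists_two_noncentral hM.2
  wlog hab : Nat.find (pick L hL) ≤ Nat.find (pick K hK) generalizing K L
  · exact this hL hK (Ne.symm hne) (le_of_not_ge hab)
  set a := Nat.find (pick K hK) with ha
  obtain ⟨x, hx1, hx2⟩ := Nat.find_spec (pick K hK)
  obtain ⟨y, hy1, hy2⟩ := Nat.find_spec (pick L hL)
  have hcomm : ∀ {M N : Subgroup G}, IsComponent M → IsComponent N → M ≠ N →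
      ∀ u ∈ M, ∀ v ∈ N, u * v = v * u := by
    intro M N hM hN hMN u hu v hv
    exact (Subgroup.mem_centralizer_iff.1
      ((Subgroup.commutator_eq_bot_iff_le_centralizer.1
        ((CfsgLib.components_eq_or_commute hM hN).resolve_left hMN)) hu) v hv).symm
  have hxy : Commute (x : G) (y : G) := hcomm hK hL hne _ x.2 _ y.2
  obtain ⟨k, hk, hxk⟩ : ∃ k ∈ K, (x : G) * k ≠ k * x := by
    by_contra hc
    push Not at hc
    exact hx2 (Subgroup.mem_center_iff.2 fun k => Subtype.ext (hc k k.2).symm)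
  obtain ⟨l, hl, hyl⟩ : ∃ l ∈ L, (y : G) * l ≠ l * y := by
    by_contra hc
    push Not at hc
    exact hy2 (Subgroup.mem_center_iff.2 fun k => Subtype.ext (hc k k.2).symm)
  have hmovedx : ∀ z ∈ K, (moved z) ≤ 1 := by
    intro z hz
    rw [moved, Finite.card_le_one_iff_subsingleton]
    refine ⟨fun M N => Subtype.ext ?_⟩
    have : ∀ M : {M : Subgroup G // IsComponent M ∧ ∃ k ∈ M, z * k ≠ k * z}, M.1 = K := by
      rintro ⟨M, hM, q, hq, hzq⟩
      by_contra hMK
      exact hzq (hcomm hK hM (Ne.symm hMK) z hz q hq)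
    rw [this M, this N]
  have hmoved : 2 ≤ moved ((x : G) * y) := by
    have hKm : ∃ q ∈ K, (x : G) * y * q ≠ q * ((x : G) * y) := by
      refine ⟨k, hk, fun h => hxk ?_⟩
      rw [mul_assoc, (hcomm hL hK (Ne.symm hne) _ y.2 k hk), ← mul_assoc, ← mul_assoc] at h
      exact mul_right_cancel h
    have hLm : ∃ q ∈ L, (x : G) * y * q ≠ q * ((x : G) * y) := by
      refine ⟨l, hl, fun h => hyl ?_⟩
      rw [← mul_assoc, ← (hcomm hK hL hne _ x.2 l hl), mul_assoc, mul_assoc] at h
      exact mul_left_cancel h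
    rw [moved, ← Nat.not_lt, Nat.lt_succ_iff, Finite.card_le_one_iff_subsingleton]
    intro hs
    exact hne (congrArg Subtype.val (hs.allEq ⟨K, hK, hKm⟩ ⟨L, hL, hLm⟩))
  have hpow : ((x : G) * y) ^ (2 ^ a) = 1 := by
    obtain ⟨d, hd⟩ := Nat.pow_dvd_pow 2 hab
    rw [hxy.mul_pow]
    have h1 : (x : G) ^ (2 ^ a) = 1 := by rw [ha]; simpa using congrArg Subtype.val hx1
    have h2 : (y : G) ^ (2 ^ Nat.find (pick L hL)) = 1 := by simpa using congrArg Subtype.val hy1
    rw [h1, hd, pow_mul, h2, one_pow, one_mul]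
  obtain ⟨c, hc, hco⟩ := (Nat.dvd_prime_pow Nat.prime_two).1 (orderOf_dvd_of_pow_eq_one hpow)
  have hord : orderOf x = 2 ^ a := by
    obtain ⟨d, hd, hdo⟩ := (Nat.dvd_prime_pow Nat.prime_two).1 (orderOf_dvd_of_pow_eq_one hx1)
    rcases hd.eq_or_lt with rfl | hlt
    · exact hdo
    · exact absurd ⟨x, by rw [← hdo]; exact pow_orderOf_eq_one x, hx2⟩ (Nat.find_min (pick K hK) hlt)
  have hz : orderOf ((x ^ (2 ^ (a - c)) : K) : G) = 2 ^ c := by
    rw [Subgroup.orderOf_coe, orderOf_pow' _ (by positivity), hord,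
      Nat.gcd_eq_right (Nat.pow_dvd_pow 2 (by omega)), Nat.pow_div (by omega) two_pos]
    congr 1
    omega
  have := moved_eq hP hco hz
  have := hmovedx _ (x ^ (2 ^ (a - c))).2
  omega

/-- Let G be a finite group in which, for every prime p, any two cyclic p-subgroups of the same order are conjugate. If the layer E(G), the subgroup generated by the components of G, is non-trivial, then E(G)/Z(E(G)) is a non-abelian simple group. -/
theorem result {G : Type*} [Group G] [Finite G] (hP : ∀ (p : ℕ), p.Prime → ∀ A B : Subgroup G, IsCyclic ↥A → IsCyclic ↥B → IsPGroup p ↥A → Nat.card ↥A = Nat.card ↥B → ∃ g : G, B = A.map (MulAut.conj g).toMonoidHom) (hE : Cfsg.layer G ≠ ⊥) :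
    IsSimpleGroup (↥(Cfsg.layer G) ⧸ Subgroup.center ↥(Cfsg.layer G)) ∧ ¬ IsMulCommutative (↥(Cfsg.layer G) ⧸ Subgroup.center ↥(Cfsg.layer G)) := by
  obtain ⟨K, hK⟩ : ∃ K : Subgroup G, IsComponent K := by
    by_contra h
    push Not at h
    exact hE (le_bot_iff.1 (sSup_le fun K hK => absurd hK (h K)))
  have hEK : layer G = K :=
    le_antisymm (sSup_le fun L hL => (component_unique hP hL hK).le) (CfsgLib.le_layer hK)
  have hq : IsQuasisimple ↥(layer G) := by rw [hEK]; exact hK.2
  refine ⟨hq.2, fun hc => ?_⟩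
  apply CfsgLib.isQuasisimple_not_isSolvable hq
  have : Group.IsSolvable (↥(layer G) ⧸ Subgroup.center ↥(layer G)) :=
    Group.isSolvable_of_comm fun a b => hc.is_comm.comm a b
  have : Group.IsSolvable (Subgroup.center ↥(layer G)) := Group.isSolvable_of_comm fun a b => Subtype.ext (Subgroup.mem_center_iff.1 b.2 _)
  exact Group.isSolvable_of_ker_le_range (Subgroup.center ↥(layer G)).subtype
    (QuotientGroup.mk' (Subgroup.center ↥(layer G))) (by rw [QuotientGroup.ker_mk', Subgroup.range_subtype])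

end Cfsg.Agent.S3915
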