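import Cfsg.Statements.S3917
import Mathlib
import Cfsg.Agent.Lib.UniqueSubgroup
-- import your own Cfsg.Agent.* helpers here

set_option autoImplicit false
open Cfsg

namespace Cfsg.Agent.S3917

/-- Say that a group has self-centralizing non-cyclic subgroups when every non-cyclic subgroup H satisfies C_G(H) ≤ H. A finite abelian group with self-centralizing non-cyclic subgroups is cyclic or elementary abelian of order p² for a prime p. -/
theorem result {G : Type*} [CommGroup G] [Finite G] (hX : (∀ H : Subgroup G, ¬ IsCyclic ↥H → Subgroup.centralizer (H : Set G) ≤ H)) :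
    IsCyclic G ∨ ∃ p : ℕ, p.Prime ∧ Nat.card G = p ^ 2 ∧ Monoid.exponent G = p := by
  classical
  by_cases hc : IsCyclic G
  · exact Or.inl hc
  right
  have htop : ∀ H : Subgroup G, ¬ IsCyclic H → H = ⊤ := fun H hH => by
    refine top_le_iff.mp (le_trans ?_ (hX H hH))
    intro g _
    exact Subgroup.mem_centralizer_iff.mpr fun u _ => mul_comm u g
  obtain ⟨q, hq, P, hP⟩ : ∃ q : ℕ, q.Prime ∧ ∃ P : Sylow q G, ¬ IsCyclic (P : Subgroup G) := by
    by_contra hcon
    push Not at hcon
    have : IsZGroup G := ⟨fun p hp P => hcon p hp P⟩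
    exact hc inferInstance
  have := Fact.mk hq
  have hG : IsPGroup q G := by
    have h2 := P.isPGroup'
    rw [htop _ hP] at h2
    exact h2.of_equiv Subgroup.topEquiv
  have hnt : Nontrivial G := not_subsingleton_iff_nontrivial.mp fun h => hc isCyclic_of_subsingleton
  obtain ⟨k, hk⟩ := IsPGroup.iff_card.mp hG
  have hk0 : k ≠ 0 := by
    rintro rfl
    exact (Finite.one_lt_card (α := G)).ne' (by simpa using hk)
  obtain ⟨z, hz⟩ := exists_prime_orderOf_dvd_card' (G := G) q (hk ▸ dvd_pow_self q hk0)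
  obtain ⟨x, hx, hxz⟩ : ∃ x : G, x ^ q = 1 ∧ x ∉ Subgroup.zpowers z := by
    by_contra hcon
    push Not at hcon
    obtain ⟨a, -, ha⟩ := CfsgLib.UniqueSubgroup.exists_generator hG hz hcon ⊤ (fun a _ b _ => mul_comm a b)
    exact hc ⟨a, fun g => show g ∈ Subgroup.zpowers a from ha ▸ Subgroup.mem_top g⟩
  have hxo : orderOf x = q := orderOf_eq_prime hx (fun e => hxz (e ▸ one_mem _))
  set H := Subgroup.zpowers z ⊔ Subgroup.zpowers x with hH
  have hexp : ∀ h ∈ H, h ^ q = 1 := by
    intro h hh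
    obtain ⟨a, ⟨i, rfl⟩, b, ⟨j, rfl⟩, rfl⟩ := Subgroup.mem_sup.mp hh
    have hz1 : z ^ q = 1 := hz ▸ pow_orderOf_eq_one z
    simp only [mul_pow]
    rw [← zpow_natCast (z ^ i), ← zpow_natCast (x ^ j), zpow_comm z, zpow_comm x, zpow_natCast, zpow_natCast,
      hz1, hx, one_zpow, one_zpow, one_mul]
  have hlt : Subgroup.zpowers z < H :=
    lt_of_le_of_ne le_sup_left fun e => hxz (e ▸ Subgroup.mem_sup_right (Subgroup.mem_zpowers x))
  have hnc : ¬ IsCyclic H := by
    intro hcy
    have hle : Nat.card H ≤ q := by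
      rw [← IsCyclic.exponent_eq_card (α := H)]
      exact Nat.le_of_dvd hq.pos (Monoid.exponent_dvd_of_forall_pow_eq_one fun h => Subtype.ext (hexp h h.2))
    exact hlt.ne (Subgroup.eq_of_le_of_card_ge hlt.le (by rw [Nat.card_zpowers, hz]; exact hle))
  have hHt := htop H hnc
  have hinf : Subgroup.zpowers z ⊓ Subgroup.zpowers x = ⊥ := by
    by_contra hne
    have hd := Subgroup.card_dvd_of_le (inf_le_right : Subgroup.zpowers z ⊓ Subgroup.zpowers x ≤ _)
    rw [Nat.card_zpowers, hxo] at hd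
    rcases hq.eq_one_or_self_of_dvd _ hd with h | h
    · exact hne (Subgroup.card_eq_one.mp h)
    · have e := Subgroup.eq_of_le_of_card_ge (inf_le_right : Subgroup.zpowers z ⊓ Subgroup.zpowers x ≤ _)
        (by rw [Nat.card_zpowers, hxo, h])
      exact hxz ((le_of_eq e.symm).trans inf_le_left (Subgroup.mem_zpowers x))
  refine ⟨q, hq, ?_, ?_⟩
  · have h1 := Subgroup.relIndex_mul_relIndex ⊥ (Subgroup.zpowers z) H bot_le le_sup_left
    rw [Subgroup.relIndex_bot_left, Subgroup.relIndex_bot_left, hH, sup_comm,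
      Subgroup.relIndex_sup_right, ← Subgroup.inf_relIndex_right, hinf, Subgroup.relIndex_bot_left,
      Nat.card_zpowers, Nat.card_zpowers, hz, hxo] at h1
    rw [sup_comm] at h1
    rw [← hH, hHt, Subgroup.card_top] at h1
    rw [← h1, pow_two]
  · refine Nat.dvd_antisymm (Monoid.exponent_dvd_of_forall_pow_eq_one fun g => hexp g (hHt ▸ Subgroup.mem_top g)) ?_
    exact hz ▸ Monoid.order_dvd_exponent z

end Cfsg.Agent.S3917
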