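import Cfsg.Statements.S3918
import Mathlib
import Cfsg.Agent.Lib.UniqueSubgroup
import Cfsg.Agent.Lib.Basic
-- import your own Cfsg.Agent.* helpers here

set_option autoImplicit false
open Cfsg

namespace Cfsg.Agent.S3918

/-- Say that a group has self-centralizing non-cyclic subgroups when every non-cyclic subgroup H satisfies C_G(H) ≤ H. For an odd prime p, a finite non-abelian p-group has self-centralizing non-cyclic subgroups if and only if it has order p³. -/
theorem result {G : Type*} [Group G] [Finite G] {p : ℕ} [Fact p.Prime] (hp : p ≠ 2) (hG : IsPGroup p G) (hna : ¬ IsMulCommutative G) :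
    (∀ H : Subgroup G, ¬ IsCyclic ↥H → Subgroup.centralizer (H : Set G) ≤ H) ↔ Nat.card G = p ^ 3 := by
  classical
  have hp' : p.Prime := Fact.out
  have hcy : ¬ IsCyclic G := fun h => hna inferInstance
  constructor
  · intro hX
    have : Nontrivial G := by
      by_contra hh
      rw [not_nontrivial_iff_subsingleton] at hh
      exact hcy isCyclic_of_subsingleton
    have : Group.IsNilpotent G := hG.isNilpotent
    have := hG.center_nontrivial
    obtain ⟨k, hk⟩ := IsPGroup.iff_card.mp (hG.to_subgroup (Subgroup.center G))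
    have hk0 : k ≠ 0 := by
      rintro rfl
      exact (Finite.one_lt_card (α := Subgroup.center G)).ne' (by simpa using hk)
    obtain ⟨⟨z, hzc⟩, hzo⟩ := exists_prime_orderOf_dvd_card' (G := Subgroup.center G) p (hk ▸ dvd_pow_self p hk0)
    rw [Subgroup.orderOf_mk] at hzo
    -- an elementary abelian subgroup of order `p ^ 2` is self-centralising
    have hE : ∀ e : G, e ^ p = 1 → e ∉ Subgroup.zpowers z →
        ∀ c, c * e = e * c → c ∈ Subgroup.zpowers z ⊔ Subgroup.zpowers e := by
      intro e he hez c hc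
      set E := Subgroup.zpowers z ⊔ Subgroup.zpowers e with hEdef
      have hEc : ¬ IsCyclic E := by
        intro hcyc
        have hle : Nat.card E ≤ p := by
          rw [← IsCyclic.exponent_eq_card (α := E)]
          refine Nat.le_of_dvd hp'.pos (Monoid.exponent_dvd_of_forall_pow_eq_one fun u => Subtype.ext ?_)
          obtain ⟨u, hu⟩ := u
          have : (Subgroup.zpowers z).Normal := ⟨fun w hw g => by
            obtain ⟨i, rfl⟩ := Subgroup.mem_zpowers_iff.mp hw
            rw [Subgroup.mem_center_iff.mp (zpow_mem hzc i) g, mul_inv_cancel_right]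
            exact Subgroup.zpow_mem_zpowers z i⟩
          obtain ⟨a, ⟨i, rfl⟩, b, ⟨j, rfl⟩, rfl⟩ := Subgroup.mem_sup_of_normal_left.mp hu
          show (z ^ i * e ^ j) ^ p = 1
          have hz1 : z ^ p = 1 := hzo ▸ pow_orderOf_eq_one z
          rw [Commute.mul_pow ((Subgroup.mem_center_iff.mp (zpow_mem hzc i) (e ^ j)).symm : Commute (z ^ i) (e ^ j)),
            ← zpow_natCast (z ^ i), ← zpow_natCast (e ^ j), zpow_comm z, zpow_comm e, zpow_natCast, zpow_natCast,
            hz1, he, one_zpow, one_zpow, one_mul]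
        have heq : Subgroup.zpowers z = E :=
          Subgroup.eq_of_le_of_card_ge le_sup_left (by rw [Nat.card_zpowers, hzo]; exact hle)
        exact hez (heq ▸ Subgroup.mem_sup_right (Subgroup.mem_zpowers e))
      refine hX E hEc ?_
      have hle2 : E ≤ Subgroup.centralizer ({c} : Set G) :=
        sup_le (Subgroup.zpowers_le.mpr (Subgroup.mem_centralizer_singleton_iff.mpr (Subgroup.mem_center_iff.mp hzc c).symm))
          (Subgroup.zpowers_le.mpr (Subgroup.mem_centralizer_singleton_iff.mpr hc.symm))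
      exact Subgroup.mem_centralizer_iff.mpr fun u hu => Subgroup.mem_centralizer_singleton_iff.mp (hle2 hu)
    obtain ⟨x, hxp, hxz⟩ : ∃ x : G, x ^ p = 1 ∧ x ∉ Subgroup.zpowers z := by
      by_contra hcon
      push Not at hcon
      rcases CfsgLib.UniqueSubgroup.cyclic_or_quaternion hG hzo hcon with h | ⟨h, -⟩
      · exact hcy h
      · exact hp h
    have hzn : (Subgroup.zpowers z).Normal := ⟨fun w hw g => by
      obtain ⟨i, rfl⟩ := Subgroup.mem_zpowers_iff.mp hw
      rw [Subgroup.mem_center_iff.mp (zpow_mem hzc i) g, mul_inv_cancel_right]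
      exact Subgroup.zpow_mem_zpowers z i⟩
    have hxo : orderOf x = p := orderOf_eq_prime hxp (fun e => hxz (e ▸ one_mem _))
    have hEcard : ∀ e : G, orderOf e = p → Nat.card ↥(Subgroup.zpowers z ⊔ Subgroup.zpowers e) ≤ p * p := by
      intro e he
      refine (Nat.le_of_dvd (Nat.mul_pos Nat.card_pos Nat.card_pos) (CfsgLib.card_sup_dvd_mul (Subgroup.zpowers e) (Subgroup.zpowers z) |> fun h => sup_comm (Subgroup.zpowers z) (Subgroup.zpowers e) ▸ h)).trans (le_of_eq ?_)
      rw [Nat.card_zpowers, Nat.card_zpowers, he, hzo]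
    -- a normal subgroup `W` of order `p ^ 2`
    have hZc : Nat.card (Subgroup.zpowers z) = p := by rw [Nat.card_zpowers, hzo]
    obtain ⟨n, hn⟩ := IsPGroup.iff_card.mp hG
    have hn3 : 3 ≤ n := by
      by_contra hlt
      apply hna
      interval_cases n
      · exact absurd (show IsCyclic G by have := (Nat.card_eq_one_iff_unique.mp (by rw [hn, pow_zero] : Nat.card G = 1)).1; exact isCyclic_of_subsingleton) hcy
      · exact absurd (isCyclic_of_prime_card (by rw [hn, pow_one] : Nat.card G = p)) hcy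
      · exact IsPGroup.isMulCommutative_of_card_eq_prime_sq hn
    let π := QuotientGroup.mk' (Subgroup.zpowers z)
    have hqne : Nontrivial (G ⧸ Subgroup.zpowers z) :=
      ⟨π x, 1, fun e => hxz ((QuotientGroup.eq_one_iff x).mp e)⟩
    have hqp : IsPGroup p (G ⧸ Subgroup.zpowers z) := hG.to_quotient _
    have := hqp.center_nontrivial
    obtain ⟨j, hj⟩ := IsPGroup.iff_card.mp (hqp.to_subgroup (Subgroup.center (G ⧸ Subgroup.zpowers z)))
    have hj0 : j ≠ 0 := by
      rintro rfl
      exact (Finite.one_lt_card (α := Subgroup.center (G ⧸ Subgroup.zpowers z))).ne' (by simpa using hj)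
    obtain ⟨⟨w, hwc⟩, hwo⟩ := exists_prime_orderOf_dvd_card' (G := Subgroup.center (G ⧸ Subgroup.zpowers z)) p (hj ▸ dvd_pow_self p hj0)
    rw [Subgroup.orderOf_mk] at hwo
    obtain ⟨w, rfl⟩ := QuotientGroup.mk_surjective w
    have hwz : w ∉ Subgroup.zpowers z := fun h => hp'.ne_one (by
      rw [← hwo, (QuotientGroup.eq_one_iff w).mpr h, orderOf_one])
    have hcomm : ∀ g, g * w * g⁻¹ * w⁻¹ ∈ Subgroup.zpowers z := fun g => by
      apply (QuotientGroup.eq_one_iff _).mp
      show π (g * w * g⁻¹ * w⁻¹) = 1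
      have h1 : π g * π w = π w * π g := Subgroup.mem_center_iff.mp hwc (π g)
      rw [map_mul, map_mul, map_mul, map_inv, map_inv, h1]; group
    -- the hom `g ↦ [g, w]`
    let φ : G →* Subgroup.zpowers z := MonoidHom.mk' (fun g => ⟨g * w * g⁻¹ * w⁻¹, hcomm g⟩) (fun a b => by
      apply Subtype.ext
      show a * b * w * (a * b)⁻¹ * w⁻¹ = (a * w * a⁻¹ * w⁻¹) * (b * w * b⁻¹ * w⁻¹)
      obtain ⟨i, hi⟩ := Subgroup.mem_zpowers_iff.mp (hcomm b)
      have hc := Subgroup.mem_center_iff.mp (hi ▸ zpow_mem hzc i) (a * w * a⁻¹ * w⁻¹)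
      have hc2 := Subgroup.mem_center_iff.mp (hi ▸ zpow_mem hzc i) a
      calc a * b * w * (a * b)⁻¹ * w⁻¹ = (a * (b * w * b⁻¹ * w⁻¹)) * (w * a⁻¹ * w⁻¹) := by group
        _ = (b * w * b⁻¹ * w⁻¹) * (a * w * a⁻¹ * w⁻¹) := by rw [hc2]; group
        _ = _ := hc.symm)
    set C := φ.ker with hCdef
    have hCmem : ∀ g, g ∈ C ↔ g * w = w * g := fun g => by
      rw [hCdef, MonoidHom.mem_ker, ← Subtype.coe_inj]
      show g * w * g⁻¹ * w⁻¹ = 1 ↔ _
      rw [mul_inv_eq_one, mul_inv_eq_iff_eq_mul]
    have hCi : C.index ≤ p := by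
      rw [hCdef, Subgroup.index_ker, ← hZc]
      exact Subgroup.card_le_card_group _
    have hbound : Nat.card C ≤ p * p → Nat.card G = p ^ 3 := by
      intro hc
      have h1 : p ^ n ≤ p ^ 3 := by
        rw [← hn, ← C.card_mul_index, pow_succ, pow_two]
        exact Nat.mul_le_mul hc hCi
      have h2 := (Nat.pow_le_pow_iff_right hp'.one_lt).mp h1
      rw [hn, show n = 3 by omega]
    by_cases hwp : w ^ p = 1
    · apply hbound
      refine (Subgroup.card_le_of_le (fun c hc => hE w hwp hwz c ((hCmem c).mp hc))).trans ?_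
      exact hEcard w (orderOf_eq_prime hwp (fun e => hwz (e ▸ one_mem _)))
    · -- `C` is cyclic
      have hxC : x ∉ C := by
        intro hx
        have hwE := hE x hxp hxz w ((hCmem x).mp hx).symm
        apply hwp
        obtain ⟨a, ⟨i, rfl⟩, b, ⟨l, rfl⟩, rfl⟩ := Subgroup.mem_sup_of_normal_left.mp hwE
        have hz1 : z ^ p = 1 := hzo ▸ pow_orderOf_eq_one z
        show (z ^ i * x ^ l) ^ p = 1
        rw [Commute.mul_pow ((Subgroup.mem_center_iff.mp (zpow_mem hzc i) (x ^ l)).symm : Commute (z ^ i) (x ^ l)),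
          ← zpow_natCast (z ^ i), ← zpow_natCast (x ^ l), zpow_comm z, zpow_comm x, zpow_natCast, zpow_natCast,
          hz1, hxp, one_zpow, one_zpow, one_mul]
      have hzC : z ∈ C := (hCmem z).mpr (Subgroup.mem_center_iff.mp hzc w).symm
      have huniq : ∀ y : C, y ^ p = 1 → y ∈ Subgroup.zpowers (⟨z, hzC⟩ : C) := by
        rintro ⟨y, hy⟩ hyp
        have hyp' : y ^ p = 1 := congrArg Subtype.val hyp
        by_contra hno
        have hyz : y ∉ Subgroup.zpowers z := fun h => hno (by
          obtain ⟨i, hi⟩ := Subgroup.mem_zpowers_iff.mp h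
          exact Subgroup.mem_zpowers_iff.mpr ⟨i, Subtype.ext (by simpa using hi)⟩)
        have hwE := hE y hyp' hyz w ((hCmem y).mp hy).symm
        apply hwp
        obtain ⟨a, ⟨i, rfl⟩, b, ⟨l, rfl⟩, rfl⟩ := Subgroup.mem_sup_of_normal_left.mp hwE
        have hz1 : z ^ p = 1 := hzo ▸ pow_orderOf_eq_one z
        show (z ^ i * y ^ l) ^ p = 1
        rw [Commute.mul_pow ((Subgroup.mem_center_iff.mp (zpow_mem hzc i) (y ^ l)).symm : Commute (z ^ i) (y ^ l)),
          ← zpow_natCast (z ^ i), ← zpow_natCast (y ^ l), zpow_comm z, zpow_comm y, zpow_natCast, zpow_natCast,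
          hz1, hyp', one_zpow, one_zpow, one_mul]
      have hzo' : orderOf (⟨z, hzC⟩ : C) = p := by rw [Subgroup.orderOf_mk, hzo]
      rcases CfsgLib.UniqueSubgroup.cyclic_or_quaternion (hG.to_subgroup C) hzo' huniq with hc | ⟨h, -⟩
      swap
      · exact absurd h hp
      obtain ⟨⟨c, hcC⟩, hgen⟩ := hc.exists_generator
      have hgen' : ∀ u ∈ C, ∃ i : ℤ, c ^ i = u := fun u hu => by
        obtain ⟨i, hi⟩ := Subgroup.mem_zpowers_iff.mp (hgen ⟨u, hu⟩)
        exact ⟨i, by simpa using congrArg Subtype.val hi⟩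
      have hCn : C.Normal := inferInstance
      obtain ⟨r, hr⟩ := hgen' _ (hCn.conj_mem c hcC x)
      have hiter : ∀ k : ℕ, x ^ k * c * (x ^ k)⁻¹ = c ^ (r ^ k) := by
        intro k
        induction k with
        | zero => simp
        | succ k ih =>
          rw [pow_succ' x k, pow_succ r k]
          calc x * x ^ k * c * (x * x ^ k)⁻¹ = x * (x ^ k * c * (x ^ k)⁻¹) * x⁻¹ := by group
            _ = c ^ (r ^ k * r) := by rw [ih, ← conj_zpow, ← hr, ← zpow_mul, mul_comm]
      have hrp : (orderOf c : ℤ) ∣ r ^ p - 1 := by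
        rw [orderOf_dvd_iff_zpow_eq_one, zpow_sub, zpow_one, ← hiter p, hxp]; simp
      obtain ⟨m, hm⟩ := IsPGroup.iff_orderOf.mp (hG.to_subgroup C) ⟨c, hcC⟩
      rw [Subgroup.orderOf_mk] at hm
      rcases Nat.eq_zero_or_pos m with hm0 | hm0
      · exfalso
        obtain ⟨i, hi⟩ := hgen' z hzC
        rw [hm0, pow_zero, orderOf_eq_one_iff] at hm
        rw [hm, one_zpow] at hi
        exact hp'.ne_one (by rw [← hzo, ← hi, orderOf_one])
      obtain ⟨m, rfl⟩ : ∃ m', m = m' + 1 := ⟨m - 1, by omega⟩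
      have hr1 : (p : ℤ) ∣ r - 1 := by
        obtain ⟨i, hi⟩ := hgen' z hzC
        have h1 : x * z * x⁻¹ = z := by rw [Subgroup.mem_center_iff.mp hzc x, mul_inv_cancel_right]
        rw [← hi, ← conj_zpow, ← hr, ← zpow_mul] at h1
        have h2 : (orderOf c : ℤ) ∣ r * i - i := by
          rw [orderOf_dvd_iff_zpow_eq_one, zpow_sub, h1, mul_inv_cancel]
        have h3 : ¬ (orderOf c : ℤ) ∣ i := fun h => hp'.ne_one (by
          rw [← hzo, ← hi, orderOf_dvd_iff_zpow_eq_one.mp h, orderOf_one])
        by_contra hnd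
        apply h3
        have hcp : IsCoprime ((orderOf c : ℤ)) (r - 1) := by
          rw [hm, Nat.cast_pow]
          exact ((Nat.prime_iff_prime_int.mp hp').coprime_iff_not_dvd.mpr hnd).pow_left
        exact hcp.dvd_of_dvd_mul_left (by rwa [show (r - 1) * i = r * i - i by ring])
      rw [hm, Nat.cast_pow] at hrp
      have hrm := CfsgLib.UniqueSubgroup.pow_sub_one_dvd (hp'.odd_of_ne_two hp) hr1 hrp
      have hxc : x * c ^ (p : ℕ) * x⁻¹ = c ^ (p : ℕ) := by
        rw [← conj_pow, ← hr, ← zpow_natCast (c ^ r), ← zpow_mul, ← zpow_natCast c p]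
        have : (orderOf c : ℤ) ∣ r * p - p := by
          obtain ⟨d, hd⟩ := hrm
          exact ⟨d, by rw [hm, Nat.cast_pow, show r * p - (p : ℤ) = (r - 1) * p by ring, hd]; ring⟩
        rw [orderOf_dvd_iff_zpow_eq_one, zpow_sub, mul_inv_eq_one] at this
        exact this
      have hcp : c ^ p ∈ Subgroup.zpowers z := by
        have h1 := hE x hxp hxz (c ^ p) (mul_inv_eq_iff_eq_mul.mp hxc).symm
        obtain ⟨a, ha, b, ⟨l, rfl⟩, hab⟩ := Subgroup.mem_sup_of_normal_left.mp h1
        have hb : x ^ l ∈ C := by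
          have e : x ^ l = a⁻¹ * c ^ p := by rw [← hab]; group
          rw [e]; exact mul_mem (inv_mem (Subgroup.zpowers_le.mpr hzC ha)) (pow_mem hcC p)
        rw [← hab]
        refine mul_mem ha ?_
        by_cases hd : (p : ℤ) ∣ l
        · show x ^ l ∈ Subgroup.zpowers z
          rw [orderOf_dvd_iff_zpow_eq_one.mp (hxo.symm ▸ hd : (orderOf x : ℤ) ∣ l)]; exact one_mem _
        · exfalso
          obtain ⟨u, v, huv⟩ := (Nat.prime_iff_prime_int.mp hp').coprime_iff_not_dvd.mpr hd
          apply hxC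
          have : x = (x ^ l) ^ v := by
            have e : l * v = 1 - u * p := by linear_combination huv
            rw [← zpow_mul, e, zpow_sub, zpow_one, mul_comm u, zpow_mul, zpow_natCast, hxp, one_zpow, inv_one, mul_one]
          rw [this]; exact zpow_mem hb v
      apply hbound
      have h1 : orderOf c ∣ p * p := by
        apply orderOf_dvd_of_pow_eq_one
        obtain ⟨i, hi⟩ := Subgroup.mem_zpowers_iff.mp hcp
        rw [pow_mul, ← hi, ← zpow_natCast (z ^ i), zpow_comm, zpow_natCast, (hzo ▸ pow_orderOf_eq_one z : z ^ p = 1), one_zpow]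
      refine le_trans ?_ (Nat.le_of_dvd (Nat.mul_pos hp'.pos hp'.pos) h1)
      rw [← Nat.card_zpowers]
      exact Subgroup.card_le_of_le fun u hu => Subgroup.mem_zpowers_iff.mpr (hgen' u hu)
  · intro hc3 H hH
    obtain ⟨k, hk⟩ := IsPGroup.iff_card.mp (hG.to_subgroup H)
    have hk3 : k ≤ 3 := (Nat.pow_le_pow_iff_right hp'.one_lt).mp (hk ▸ hc3 ▸ Subgroup.card_le_card_group H)
    have hk2 : 2 ≤ k := by
      by_contra hlt
      apply hH
      interval_cases k
      · have := (Nat.card_eq_one_iff_unique.mp (by rw [hk, pow_zero] : Nat.card H = 1)).1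
        exact isCyclic_of_subsingleton
      · exact isCyclic_of_prime_card (by rw [hk, pow_one] : Nat.card H = p)
    rcases (show k = 2 ∨ k = 3 by omega) with rfl | rfl
    swap
    · intro u _
      rw [Subgroup.eq_top_of_card_eq H (by rw [hk, hc3])]; trivial
    intro u hu
    by_contra huH
    apply hna
    -- otherwise `H` is central of index `p`
    have hab : IsMulCommutative H := IsPGroup.isMulCommutative_of_card_eq_prime_sq hk
    have hHi : H.index = p := by
      have h1 := H.card_mul_index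
      rw [hk, hc3, pow_succ p 2] at h1
      exact Nat.eq_of_mul_eq_mul_left (pow_pos hp'.pos 2) h1
    have hcl : IsMulCommutative (Subgroup.closure ((H : Set G) ∪ {u})) := by
      refine Subgroup.isMulCommutative_closure ?_
      rintro a (ha | rfl) b (hb | rfl)
      · exact congrArg Subtype.val (hab.is_comm.comm ⟨a, ha⟩ ⟨b, hb⟩)
      · exact Subgroup.mem_centralizer_iff.mp hu a ha
      · exact (Subgroup.mem_centralizer_iff.mp hu b hb).symm
      · rfl
    have htop : Subgroup.closure ((H : Set G) ∪ {u}) = ⊤ := by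
      set K := Subgroup.closure ((H : Set G) ∪ {u}) with hK
      have hle : H ≤ K := fun a ha => Subgroup.subset_closure (Or.inl ha)
      have h := Subgroup.relIndex_mul_index hle
      rw [hHi] at h
      rcases hp'.eq_one_or_self_of_dvd K.index ⟨H.relIndex K, by rw [mul_comm]; exact h.symm⟩ with e | e
      · exact Subgroup.index_eq_one.mp e
      · rw [e] at h
        exact absurd (Subgroup.relIndex_eq_one.mp ((Nat.mul_eq_right hp'.ne_zero).mp h) (Subgroup.subset_closure (Or.inr rfl))) huH
    rw [htop] at hcl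
    exact ⟨⟨fun a b => congrArg Subtype.val (hcl.is_comm.comm ⟨a, trivial⟩ ⟨b, trivial⟩)⟩⟩

end Cfsg.Agent.S3918
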