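import Cfsg.Statements.S3920
import Mathlib
-- import your own Cfsg.Agent.* helpers here

set_option autoImplicit false
open Cfsg

namespace Cfsg.Agent.S3920

/-- Say that a group has self-centralizing non-cyclic subgroups when every non-cyclic subgroup H satisfies C_G(H) ≤ H. For n ≥ 3, the dihedral group of order 2n has self-centralizing non-cyclic subgroups if and only if n is odd or a power of 2. -/
theorem result (n : ℕ) (hn : 3 ≤ n) : (∀ H : Subgroup (DihedralGroup n), ¬ IsCyclic ↥H → Subgroup.centralizer (H : Set (DihedralGroup n)) ≤ H) ↔ (Odd n ∨ ∃ k : ℕ, n = 2 ^ k) := by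
  classical
  have : NeZero n := ⟨by omega⟩
  constructor
  · intro h
    by_contra hcon
    push Not at hcon
    obtain ⟨m, hm⟩ := Nat.not_odd_iff_even.mp hcon.1
    obtain ⟨q, hq, hqd, hq2⟩ : ∃ q : ℕ, q.Prime ∧ q ∣ n ∧ q ≠ 2 := by
      by_contra hno
      push Not at hno
      obtain ⟨k, hk⟩ : ∃ k, n = 2 ^ k := ⟨_, Nat.eq_prime_pow_of_unique_prime_dvd (by omega) (fun hp hd => hno _ hp hd)⟩
      exact hcon.2 k hk
    have hqn : (q : ℕ) ∣ n := hqd
    obtain ⟨t, ht⟩ := hqd
    let D : ZMod n → Prop := fun i => (q : ZMod n) * i = 0
    let H : Subgroup (DihedralGroup n) :=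
      { carrier := {g | match g with | DihedralGroup.r i => D i | DihedralGroup.sr i => D i}
        one_mem' := by show D 0; simp [D]
        mul_mem' := by
          rintro (i | i) (j | j) hi hj
          · show D (i + j); simp only [Set.mem_ofPred_eq, D] at hi hj ⊢; linear_combination hi + hj
          · show D (j - i); simp only [Set.mem_ofPred_eq, D] at hi hj ⊢; linear_combination hj - hi
          · show D (i + j); simp only [Set.mem_ofPred_eq, D] at hi hj ⊢; linear_combination hi + hj
          · show D (j - i); simp only [Set.mem_ofPred_eq, D] at hi hj ⊢; linear_combination hj - hi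
        inv_mem' := by
          rintro (i | i) hi
          · show D (-i); simp only [Set.mem_ofPred_eq, D] at hi ⊢; linear_combination -hi
          · exact hi }
    have htH : DihedralGroup.r ((t : ℕ) : ZMod n) ∈ H := by
      show (q : ZMod n) * (t : ZMod n) = 0
      rw [← Nat.cast_mul, ← ht, ZMod.natCast_self]
    have h0H : DihedralGroup.sr (0 : ZMod n) ∈ H := by show (q : ZMod n) * 0 = 0; simp
    have ht0 : 0 < t := by rcases Nat.eq_zero_or_pos t with e | e; (· subst e; omega); exact e
    have hnc : ¬ IsCyclic H := by
      intro hc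
      have := congrArg Subtype.val ((IsCyclic.commGroup (α := H)).mul_comm ⟨_, htH⟩ ⟨_, h0H⟩)
      simp only [Subgroup.coe_mul, DihedralGroup.r_mul_sr, DihedralGroup.sr_mul_r, DihedralGroup.sr.injEq] at this
      have h4 : ((2 * t : ℕ) : ZMod n) = 0 := by push_cast; linear_combination -this
      rw [ZMod.natCast_eq_zero_iff, ht] at h4
      have := (Nat.prime_dvd_prime_iff_eq hq Nat.prime_two).mp (Nat.dvd_of_mul_dvd_mul_right ht0 h4)
      exact hq2 this
    have hmc : DihedralGroup.r ((m : ℕ) : ZMod n) ∈ Subgroup.centralizer (H : Set (DihedralGroup n)) := by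
      have h2m : (m : ZMod n) + m = 0 := by
        rw [← Nat.cast_add, ← hm, ZMod.natCast_self]
      rw [Subgroup.mem_centralizer_iff]
      rintro (i | i) -
      · simp [add_comm]
      · simp only [DihedralGroup.sr_mul_r, DihedralGroup.r_mul_sr, DihedralGroup.sr.injEq]
        linear_combination h2m
    have hmem : (q : ZMod n) * (m : ZMod n) = 0 := h H hnc hmc
    rw [← Nat.cast_mul, ZMod.natCast_eq_zero_iff] at hmem
    have hm0 : 0 < m := by omega
    have h2q : 2 ∣ q := by
      rw [show n = 2 * m by omega] at hmem
      exact Nat.dvd_of_mul_dvd_mul_right hm0 hmem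
    exact hq2 ((Nat.prime_dvd_prime_iff_eq Nat.prime_two hq).mp h2q).symm
  · intro hn' H hnc z hz
    rw [Subgroup.mem_centralizer_iff] at hz
    obtain ⟨b, hb⟩ : ∃ b, DihedralGroup.sr b ∈ H := by
      by_contra hno
      push Not at hno
      apply hnc
      have hle : H ≤ Subgroup.zpowers (DihedralGroup.r (1 : ZMod n)) := by
        rintro (i | i) hi
        · exact Subgroup.mem_zpowers_iff.mpr ⟨(i.val : ℤ), by rw [zpow_natCast, DihedralGroup.r_one_pow, ZMod.natCast_zmod_val]⟩
        · exact absurd hi (hno i)
      exact isCyclic_of_injective _ (Subgroup.inclusion_injective hle)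
    obtain ⟨d, hd, hd0⟩ : ∃ d, DihedralGroup.r d ∈ H ∧ d ≠ 0 := by
      by_contra hno
      push Not at hno
      apply hnc
      have heq : H = Subgroup.zpowers (DihedralGroup.sr b) := by
        refine le_antisymm ?_ (Subgroup.zpowers_le.mpr hb)
        rintro (i | i) hi
        · rw [hno i hi]; exact one_mem _
        · have := hno _ (by simpa using mul_mem hb hi)
          rw [sub_eq_zero.mp this]; exact Subgroup.mem_zpowers _
      rw [heq]; exact inferInstance
    -- rotations killed by `2` lie in `H`
    have key : ∀ j : ZMod n, 2 * j = 0 → DihedralGroup.r j ∈ H := by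
      intro j hj
      rcases hn' with hodd | ⟨k, hk⟩
      · have h2 : IsUnit ((2 : ℕ) : ZMod n) := (ZMod.unitOfCoprime 2 (Nat.coprime_two_left.mpr hodd)).isUnit
        push_cast at h2
        rw [(IsUnit.mul_right_eq_zero h2).mp hj]; exact one_mem H
      · by_cases hj0 : j = 0
        · rw [hj0]; exact one_mem H
        have hjo : j.val * 2 = n := by
          have h1 : n ∣ 2 * j.val := by
            rw [← ZMod.natCast_eq_zero_iff]; push_cast; rw [ZMod.natCast_zmod_val]; exact hj
          have h2 : j.val ≠ 0 := fun e => hj0 ((ZMod.val_eq_zero j).mp e)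
          have h3 := ZMod.val_lt j
          obtain ⟨c, hc⟩ := h1
          have hc1 : c = 1 := by
            rcases c with _ | _ | c
            · omega
            · rfl
            · nlinarith
          subst hc1; omega
        -- the least power of two multiple of `d`
        obtain ⟨i, hi⟩ : ∃ i : ℕ, orderOf (DihedralGroup.r d) = 2 ^ i := by
          obtain ⟨i, -, hi⟩ := (Nat.dvd_prime_pow Nat.prime_two).mp
            (show orderOf (DihedralGroup.r d) ∣ 2 ^ k from hk ▸ orderOf_dvd_of_pow_eq_one (by simp [DihedralGroup.r_pow]))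
          exact ⟨i, hi⟩
        have hi0 : i ≠ 0 := by
          rintro rfl
          rw [pow_zero, orderOf_eq_one_iff, DihedralGroup.one_def, DihedralGroup.r.injEq] at hi
          exact hd0 hi
        obtain ⟨g, hg⟩ : ∃ g, g = DihedralGroup.r d ^ 2 ^ (i - 1) := ⟨_, rfl⟩
        have hgo : orderOf g = 2 := by
          rw [hg, orderOf_pow_of_dvd (by positivity) (by rw [hi]; exact pow_dvd_pow 2 (Nat.sub_le _ _)), hi,
            Nat.pow_div (Nat.sub_le _ _) (by norm_num), show i - (i - 1) = 1 by omega, pow_one]
        have hgH : g ∈ H := hg ▸ pow_mem hd _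
        rw [hg, DihedralGroup.r_pow] at hgo hgH
        set e := d * ((2 ^ (i - 1) : ℕ) : ZMod n) with he
        have he2 : 2 * e = 0 := by
          have h5 := pow_orderOf_eq_one (DihedralGroup.r e)
          rw [hgo, DihedralGroup.r_pow, DihedralGroup.one_def, DihedralGroup.r.injEq] at h5
          linear_combination h5
        have he0 : e ≠ 0 := fun h0 => by rw [h0, DihedralGroup.r_zero, orderOf_one] at hgo; omega
        have : e = j := by
          apply ZMod.val_injective n
          have h1 : n ∣ 2 * e.val := by
            rw [← ZMod.natCast_eq_zero_iff]; push_cast; rw [ZMod.natCast_zmod_val]; exact he2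
          have h2 : e.val ≠ 0 := fun h => he0 ((ZMod.val_eq_zero e).mp h)
          have h3 := ZMod.val_lt e
          obtain ⟨c, hc⟩ := h1
          rcases c with _ | _ | c
          · omega
          · omega
          · nlinarith
        exact this ▸ hgH
    rcases z with j | j
    · have h1 := hz _ hb
      simp only [DihedralGroup.sr_mul_r, DihedralGroup.r_mul_sr, DihedralGroup.sr.injEq] at h1
      exact key j (by linear_combination h1)
    · have h1 := hz _ hb
      simp only [DihedralGroup.sr_mul_sr, DihedralGroup.r.injEq] at h1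
      have h3 := mul_mem hb (key (j - b) (by linear_combination h1))
      rwa [DihedralGroup.sr_mul_r, add_sub_cancel] at h3

end Cfsg.Agent.S3920
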