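import Cfsg.Statements.S3921
import Cfsg.Agent.Lib.SCNonCyclic.Shape
import Cfsg.Agent.Lib.SCNonCyclic.Psl

set_option autoImplicit false
open Cfsg

namespace Cfsg.Agent.S3921

/-- Say that a group has self-centralizing non-cyclic subgroups when every non-cyclic subgroup H satisfies C_G(H) ≤ H. A non-abelian finite simple group has self-centralizing non-cyclic subgroups if and only if it is isomorphic to PSL₂(q) with q = 4, q = 9, or q a prime of the form 2^k + 1 or 2^k − 1. -/
theorem result {G : Type*} [Group G] [Finite G] [IsSimpleGroup G] (hna : ¬ IsMulCommutative G) :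
    (∀ H : Subgroup G, ¬ IsCyclic ↥H → Subgroup.centralizer (H : Set G) ≤ H) ↔ ∃ (F : Type) (_ : Field F) (_ : Fintype F),
      (Fintype.card F = 4 ∨ Fintype.card F = 9 ∨ ((Fintype.card F).Prime ∧ ∃ k : ℕ, Fintype.card F = 2 ^ k + 1 ∨ Fintype.card F = 2 ^ k - 1)) ∧
      Nonempty (G ≃* Matrix.ProjectiveSpecialLinearGroup (Fin 2) F) := by
  constructor
  · intro h
    obtain ⟨S, t, ht, hC, F, iF, iFt, hodd, ⟨e⟩⟩ := CfsgLib.SCNonCyclic.exists_psl hna h
    refine ⟨F, iF, iFt, ?_, ⟨e⟩⟩
    obtain ⟨n, hn⟩ := S.2.exists_card_eq
    have hto : orderOf (e t) = 2 := (MulEquiv.orderOf_eq e t).trans ht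
    have hcard : Nat.card (Subgroup.centralizer ({e t} : Set (Matrix.ProjectiveSpecialLinearGroup (Fin 2) F))) = 2 ^ n := by
      rw [← hn, ← hC]
      refine (Nat.card_congr (e.toEquiv.subtypeEquiv fun y => ?_)).symm
      rw [Subgroup.mem_centralizer_singleton_iff, Subgroup.mem_centralizer_singleton_iff, MulEquiv.toEquiv_eq_coe,
        EquivLike.coe_coe, ← map_mul, ← map_mul, e.injective.eq_iff]
    have hq := CfsgLib.SCNonCyclic.card_cent_invol hodd hto
    rw [hcard] at hq
    obtain ⟨p, hp⟩ := CharP.exists F
    haveI := hp
    obtain ⟨m, hpp, hm⟩ := FiniteField.card F p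
    have hpodd : Odd p := by
      rw [hm] at hodd
      exact (Nat.odd_pow_iff m.pos.ne').mp hodd
    have h2 : 0 < 2 ^ n := by positivity
    have hadj : p ^ (m : ℕ) = 2 ^ n + 1 ∨ p ^ (m : ℕ) + 1 = 2 ^ n := by
      rw [hm] at hq
      omega
    right
    rcases CfsgLib.SCNonCyclic.prime_of_adjacent hpp hpodd m.pos hadj with h1 | h1
    · right
      rw [hm, h1, pow_one]
      rw [h1, pow_one] at hadj
      refine ⟨hpp, n, ?_⟩
      omega
    · exact Or.inl (hm.trans h1)
  · rintro ⟨F, iF, iFt, hq, ⟨e⟩⟩ H hnc
    have key : ∀ K : Subgroup (Matrix.ProjectiveSpecialLinearGroup (Fin 2) F), ¬ IsCyclic K →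
        Subgroup.centralizer (K : Set (Matrix.ProjectiveSpecialLinearGroup (Fin 2) F)) ≤ K := by
      rcases hq with hq | hq
      · exact CfsgLib.SCNonCyclic.scnc_four hq
      · by_cases hodd : Odd (Fintype.card F)
        · refine CfsgLib.SCNonCyclic.scnc_odd hodd ?_
          rcases hq with hq | ⟨hp, k, hk⟩
          · exact Or.inl hq
          · refine Or.inr ⟨hp, k, ?_⟩
            have : 0 < 2 ^ k := by positivity
            have := hp.two_le
            omega
        · exfalso
          rcases hq with hq | ⟨hp, -⟩
          · exact hodd (by rw [hq]; decide)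
          · -- a field with two elements
            have h2 : Fintype.card F = 2 := by
              by_contra hne
              exact hodd (hp.odd_of_ne_two hne)
            have h1 := CfsgLib.SLCard.gcd_mul_card_PSL (F := F) (n := 2) (by norm_num)
            rw [CfsgLib.SLCard.card_SL_two, h2] at h1
            norm_num at h1
            have hG : Nat.card G = 2 * 3 := by rw [Nat.card_congr e.toEquiv, h1]
            haveI : Fact (Nat.Prime 3) := ⟨Nat.prime_three⟩
            obtain ⟨P⟩ : Nonempty (Sylow 3 G) := inferInstance
            have hP : Nat.card (P : Subgroup G) = 3 := by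
              rw [P.card_eq_multiplicity, hG]
              have : (2 * 3).factorization 3 = 1 := by
                rw [Nat.factorization_mul (by norm_num) (by norm_num), Nat.Prime.factorization Nat.prime_two,
                  Nat.Prime.factorization Nat.prime_three]
                simp
              rw [this, pow_one]
            have hidx : (P : Subgroup G).index = 2 := by
              have := (P : Subgroup G).card_mul_index
              rw [hP, hG] at this
              omega
            haveI := Subgroup.normal_of_index_eq_two hidx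
            rcases (inferInstance : (P : Subgroup G).Normal).eq_bot_or_eq_top with h | h
            · rw [h, Subgroup.card_bot] at hP; omega
            · rw [h, Subgroup.index_top] at hidx; omega
    have hnc' : ¬ IsCyclic ↥(H.map e.toMonoidHom) := fun hc =>
      hnc ((H.equivMapOfInjective e.toMonoidHom e.injective).isCyclic.mpr hc)
    intro x hx
    have hx' : e x ∈ H.map e.toMonoidHom := key _ hnc' (Subgroup.mem_centralizer_iff.mpr fun y hy => by
      obtain ⟨y, hy, rfl⟩ := hy
      rw [MulEquiv.coe_toMonoidHom, ← map_mul, ← map_mul, Subgroup.mem_centralizer_iff.mp hx y hy])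
    obtain ⟨y, hy, hye⟩ := hx'
    exact e.injective hye ▸ hy

end Cfsg.Agent.S3921
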