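import Cfsg.Statements.S3930
import Cfsg.Agent.Lib.Pyramidal.Reduction
import Cfsg.Agent.Lib.Pyramidal.Example

set_option autoImplicit false
open Cfsg

namespace Cfsg.Agent.S3930

/-- Call a finite group m-pyramidal when it has exactly m involutions and they form a single conjugacy class. Let p be an odd prime and k ≥ 1. Then every p^k-pyramidal finite group is solvable if and only if k is odd or p^k = 9. -/
theorem result (p k : ℕ) (hp : p.Prime) (hp2 : p ≠ 2) (hk : 1 ≤ k) :
    (∀ (G : Type) [Group G] [Finite G], Nat.card {x : G // orderOf x = 2} = p ^ k →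
      (∀ x y : G, orderOf x = 2 → orderOf y = 2 → ∃ g : G, g * x * g⁻¹ = y) → Group.IsSolvable G) ↔ (Odd k ∨ p ^ k = 9) := by
  refine ⟨fun hall => ?_, fun hpk G _ _ hcard hconj =>
    CfsgLib.Pyramidal.solvable_of_class hp hp2 _ G k rfl hpk hcard hconj⟩
  by_contra hcon
  push Not at hcon
  obtain ⟨hodd, h9⟩ := hcon
  obtain ⟨m, rfl⟩ := Nat.not_odd_iff_even.mp hodd
  haveI := Fact.mk hp
  have hm : m ≠ 0 := by omega
  have hF : Nat.card (GaloisField p m) = p ^ m := GaloisField.card p m hm
  haveI : Fintype (GaloisField p m) := Fintype.ofFinite _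
  have h2 : (2 : GaloisField p m) ≠ 0 := Ring.two_ne_zero (by rw [ringChar.eq (GaloisField p m) p]; exact hp2)
  have h4 : 4 ≤ Fintype.card (GaloisField p m) := by
    rw [← Nat.card_eq_fintype_card, hF]
    by_contra hlt
    have h3 : 3 ≤ p := by have := hp.two_le; omega
    have hle : p ≤ p ^ m := Nat.le_self_pow hm p
    apply h9
    rw [pow_add, show p ^ m = 3 by omega]
    norm_num
  exact CfsgLib.Pyramidal.natExt_not_solvable h4 (hall (CfsgLib.Pyramidal.NatExt (GaloisField p m))
    (by rw [CfsgLib.Pyramidal.natExt_card h2, hF, ← pow_mul, Nat.mul_two])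
    (CfsgLib.Pyramidal.natExt_conj h2))

end Cfsg.Agent.S3930
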