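import Cfsg.Statements.S3933
import Cfsg.Agent.Lib.CharTheory.Burnside

set_option autoImplicit false
open Cfsg

namespace Cfsg.Agent.S3933

open Subgroup

universe u

/-- All prime divisors of the number of Sylow `r`-subgroups coincide, for each prime `r`. -/
def SylowPP (G : Type u) [Group G] : Prop :=
  ∀ r : ℕ, r.Prime → ∀ s t : ℕ, s.Prime → t.Prime →
    s ∣ Nat.card (Sylow r G) → t ∣ Nat.card (Sylow r G) → s = t

variable {G : Type u} [Group G] [Finite G]

/-- A Sylow subgroup times a subgroup of index a power of that prime is everything. -/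
theorem exists_mul_of_index_primePow {b : ℕ} [hb : Fact b.Prime] (H : Subgroup G)
    (hH : ∀ s : ℕ, s.Prime → s ∣ H.index → s = b) (Q : Sylow b G) (g : G) :
    ∃ x ∈ (Q : Subgroup G), ∃ h ∈ H, g = x * h := by
  classical
  have hidx : H.index ≠ 0 := Subgroup.index_ne_zero_of_finite
  obtain ⟨e, he⟩ : ∃ e, H.index = b ^ e :=
    ⟨_, Nat.eq_prime_pow_of_unique_prime_dvd hidx fun hp hd => hH _ hp hd⟩
  have hcop : H.index.Coprime (Q : Subgroup G).index := by
    rw [he]
    exact Nat.Coprime.pow_left _ (hb.out.coprime_iff_not_dvd.mpr Q.not_dvd_index)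
  have hrel : H.relIndex Q = H.index := by
    refine le_antisymm ?_ (Nat.le_of_dvd (Nat.pos_of_ne_zero ?_) ?_)
    · exact (Subgroup.relIndex_le_of_le_right le_top (by simp [hidx])).trans_eq
        (Subgroup.relIndex_top_right H)
    · exact Subgroup.index_ne_zero_of_finite (H := H.subgroupOf (Q : Subgroup G))
    · refine hcop.dvd_of_dvd_mul_right ?_
      rw [← Subgroup.inf_relIndex_right,
        Subgroup.relIndex_mul_index (inf_le_right : H ⊓ (Q : Subgroup G) ≤ Q)]
      exact Subgroup.index_dvd_of_le inf_le_left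
  let f : (↥(Q : Subgroup G) ⧸ H.subgroupOf Q) → G ⧸ H :=
    Quotient.map' (fun x => (x : G)) (fun x y hxy => by
      rw [QuotientGroup.leftRel_apply] at hxy ⊢
      simpa [Subgroup.mem_subgroupOf] using hxy)
  have hfinj : Function.Injective f := by
    rintro ⟨x⟩ ⟨y⟩ hxy
    refine Quotient.sound' ?_
    have := QuotientGroup.eq.mp hxy
    rw [QuotientGroup.leftRel_apply]
    simpa [Subgroup.mem_subgroupOf] using this
  have hbij : Function.Bijective f :=
    hfinj.bijective_of_nat_card_le (le_of_eq hrel.symm)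
  obtain ⟨⟨x⟩, hx⟩ := hbij.2 (QuotientGroup.mk g)
  exact ⟨x, x.2, (x : G)⁻¹ * g, QuotientGroup.eq.mp hx, by simp⟩

/-- A Sylow subgroup of a subgroup with prime-to-`c` index is a Sylow subgroup of the group. -/
theorem exists_sylow_le {c : ℕ} [hc : Fact c.Prime] (K : Subgroup G) (hK : ¬ c ∣ K.index) :
    ∃ C : Sylow c G, (C : Subgroup G) ≤ K := by
  let C₀ : Sylow c K := Sylow.nonempty.some
  have h1 : ¬ c ∣ (C₀.1.map K.subtype).index := by
    rw [Subgroup.index_map_subtype]
    exact hc.out.not_dvd_mul C₀.not_dvd_index hK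
  exact ⟨(C₀.2.map K.subtype).toSylow h1, Subgroup.map_subtype_le _⟩

/-- The key lemma. -/
theorem key [IsSimpleGroup G] {a b c : ℕ} [Fact a.Prime] [hb : Fact b.Prime] [hc : Fact c.Prime]
    (hca : c ∣ Nat.card G) (hn : Nat.card (Sylow a G) ≠ 1)
    (hab : ∀ s : ℕ, s.Prime → s ∣ Nat.card (Sylow a G) → s = b)
    (hcb : c ≠ b) (hbc : ¬ b ∣ Nat.card (Sylow c G)) : False := by
  obtain ⟨A⟩ : Nonempty (Sylow a G) := Sylow.nonempty
  have hidx : (normalizer ((A : Subgroup G) : Set G)).index = Nat.card (Sylow a G) :=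
    (Sylow.card_eq_index_normalizer A).symm
  obtain ⟨C, hC⟩ := exists_sylow_le (c := c) (normalizer ((A : Subgroup G) : Set G))
    (fun h => hcb (hab c hc.out (hidx ▸ h)))
  obtain ⟨B, hB⟩ := exists_sylow_le (c := b) (normalizer ((C : Subgroup G) : Set G))
    (fun h => hbc (by rwa [Sylow.card_eq_index_normalizer C]))
  have hle : (C : Subgroup G) ≤ (normalizer ((A : Subgroup G) : Set G)).normalCore := by
    intro y hy g
    obtain ⟨x, hx, h, hh, hg⟩ := exists_mul_of_index_primePow
      (normalizer ((A : Subgroup G) : Set G)) (fun s hs hd => hab s hs (hidx ▸ hd)) B g⁻¹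
    have hg' : g = h⁻¹ * x⁻¹ := by rw [← inv_inv g, hg, mul_inv_rev]
    have hxy : x⁻¹ * y * x ∈ (C : Subgroup G) := (Subgroup.mem_normalizer_iff''.mp (hB hx) y).mp hy
    rw [hg', show h⁻¹ * x⁻¹ * y * (h⁻¹ * x⁻¹)⁻¹ = h⁻¹ * (x⁻¹ * y * x) * h by group]
    exact mul_mem (mul_mem (inv_mem hh) (hC hxy)) hh
  rcases (Subgroup.normalCore_normal (normalizer ((A : Subgroup G) : Set G))).eq_bot_or_eq_top with
    h | h
  · have hbot : (C : Subgroup G) = ⊥ := le_bot_iff.mp (h ▸ hle)
    apply C.not_dvd_index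
    rw [hbot, Subgroup.index_bot]
    exact hca
  · apply hn
    rw [← hidx, Subgroup.index_eq_one, eq_top_iff, ← h]
    exact Subgroup.normalCore_le _

theorem isSolvable_of_simple [IsSimpleGroup G] (h : SylowPP G) : Group.IsSolvable G := by
  classical
  by_contra hns
  have hne : ∀ r : ℕ, r.Prime → r ∣ Nat.card G → Nat.card (Sylow r G) ≠ 1 := by
    intro r hr hrd h1
    haveI : Fact r.Prime := ⟨hr⟩
    obtain ⟨P⟩ : Nonempty (Sylow r G) := Sylow.nonempty
    haveI := Nat.card_eq_one_iff_unique.mp h1 |>.1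
    have hPn : (P : Subgroup G).Normal := P.normal_of_subsingleton
    rcases hPn.eq_bot_or_eq_top with hb | ht
    · apply P.not_dvd_index
      rw [hb, Subgroup.index_bot]
      exact hrd
    · apply hns
      have hp : IsPGroup r G := by
        have := P.2
        rw [ht] at this
        exact this.of_equiv Subgroup.topEquiv
      haveI := hp.isNilpotent
      infer_instance
  -- the unique prime
  have huni : ∀ r : ℕ, r.Prime → r ∣ Nat.card G → ∃ b, b.Prime ∧ b ≠ r ∧ b ∣ Nat.card G ∧
      b ∣ Nat.card (Sylow r G) ∧ ∀ s : ℕ, s.Prime → s ∣ Nat.card (Sylow r G) → s = b := by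
    intro r hr hrd
    haveI : Fact r.Prime := ⟨hr⟩
    obtain ⟨b, hb, hbd⟩ := Nat.exists_prime_and_dvd (hne r hr hrd)
    obtain ⟨P⟩ : Nonempty (Sylow r G) := Sylow.nonempty
    refine ⟨b, hb, ?_, ?_, hbd, fun s hs hsd => h r hr s b hs hb hsd hbd⟩
    · rintro rfl
      exact not_dvd_card_sylow b G hbd
    · exact hbd.trans ((Sylow.card_dvd_index P).trans (Subgroup.index_dvd_card _))
  have hstep : ∀ a b c : ℕ, a.Prime → a ∣ Nat.card G → b.Prime →
      (∀ s : ℕ, s.Prime → s ∣ Nat.card (Sylow a G) → s = b) → c.Prime → c ∣ Nat.card G → c ≠ b →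
      b ∣ Nat.card (Sylow c G) := by
    intro a b c ha had hb hab hc hcd hcb
    by_contra hbc
    haveI : Fact a.Prime := ⟨ha⟩
    haveI : Fact b.Prime := ⟨hb⟩
    haveI : Fact c.Prime := ⟨hc⟩
    exact key hcd (hne a ha had) hab hcb hbc
  have hG1 : Nat.card G ≠ 1 := by
    intro h1
    haveI := (Nat.card_eq_one_iff_unique.mp h1).1
    exact hns (Group.isSolvable_of_top_eq_bot G (Subsingleton.elim _ _))
  obtain ⟨p, hp, hpd⟩ := Nat.exists_prime_and_dvd hG1
  obtain ⟨b, hb, -, hbd, -, hpb⟩ := huni p hp hpd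
  obtain ⟨e, he, heb, hed, -, hbe⟩ := huni b hb hbd
  have honly : ∀ c : ℕ, c.Prime → c ∣ Nat.card G → c = b ∨ c = e := by
    intro c hc hcd
    by_contra hne'
    rw [not_or] at hne'
    obtain ⟨d, -, -, -, -, hd⟩ := huni c hc hcd
    have h1 := hd b hb (hstep p b c hp hpd hb hpb hc hcd hne'.1)
    have h2 := hd e he (hstep b e c hb hbd he hbe hc hcd hne'.2)
    exact heb (h2.trans h1.symm)
  apply hns
  have hsub : (Nat.card G).primeFactors ⊆ {b, e} := by
    intro x hx
    rcases honly x (Nat.prime_of_mem_primeFactors hx) (Nat.dvd_of_mem_primeFactors hx) with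
      rfl | rfl <;> simp
  have hcard : Nat.card G =
      b ^ (Nat.card G).factorization b * e ^ (Nat.card G).factorization e := by
    conv_lhs => rw [← Nat.prod_factorization_pow_eq_self (Nat.card_pos (α := G)).ne']
    rw [Finsupp.prod_of_support_subset _ (s := {b, e}) (by simpa using hsub) _ (by simp),
      Finset.prod_pair heb.symm]
  exact CfsgLib.CharTheory.isSolvable_of_card_two_primes hb he hcard

theorem sylowPP_quotient (h : SylowPP G) (N : Subgroup G) [N.Normal] : SylowPP (G ⧸ N) := by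
  intro r hr s t hs ht hsd htd
  haveI : Fact r.Prime := ⟨hr⟩
  obtain ⟨P⟩ : Nonempty (Sylow r G) := Sylow.nonempty
  have hd : Nat.card (Sylow r (G ⧸ N)) ∣ Nat.card (Sylow r G) := by
    let P' := P.mapSurjective (QuotientGroup.mk'_surjective N)
    rw [Sylow.card_eq_index_normalizer P, Sylow.card_eq_index_normalizer P']
    refine dvd_trans (Subgroup.index_dvd_of_le ?_)
      (Subgroup.index_map_dvd (f := QuotientGroup.mk' N) _ (QuotientGroup.mk'_surjective N))
    simp only [P', Sylow.coe_mapSurjective]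
    exact Subgroup.le_normalizer_map _
  exact h r hr s t hs ht (hsd.trans hd) (htd.trans hd)

theorem sylowPP_normal (h : SylowPP G) (N : Subgroup G) [N.Normal] : SylowPP ↥N := by
  intro r hr s t hs ht hsd htd
  haveI : Fact r.Prime := ⟨hr⟩
  obtain ⟨R⟩ : Nonempty (Sylow r G) := Sylow.nonempty
  have hd : Nat.card (Sylow r ↥N) ∣ Nat.card (Sylow r G) := by
    obtain ⟨P⟩ : Nonempty (Sylow r ↥N) := Sylow.nonempty
    obtain ⟨R', hR'⟩ := (P.2.map N.subtype).exists_le_sylow
    have hK : (R' : Subgroup G) ⊓ N = P.1.map N.subtype := by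
      apply le_antisymm
      · have : P.1 = ((R' : Subgroup G) ⊓ N).subgroupOf N := by
          refine (P.3 ?_ ?_).symm
          · exact (R'.2.to_le inf_le_left).comap_subtype
          · intro y hy
            exact ⟨hR' ⟨y, hy, rfl⟩, y.2⟩
        rw [this, Subgroup.subgroupOf_map_subtype]
        simp
      · exact le_inf hR' (Subgroup.map_subtype_le _)
    have hN : normalizer ((R' : Subgroup G) : Set G) ≤
        normalizer (((P.1.map N.subtype : Subgroup G)) : Set G) := by
      intro g hg
      rw [Subgroup.mem_normalizer_iff] at hg ⊢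
      intro y
      rw [← hK, Subgroup.mem_inf, Subgroup.mem_inf, ← hg y]
      exact and_congr_right' ⟨fun hy => Subgroup.Normal.conj_mem inferInstance y hy g, fun hy => by
        simpa [mul_assoc] using Subgroup.Normal.conj_mem inferInstance _ hy g⁻¹⟩
    have e1 : normalizer ((P.1 : Subgroup ↥N) : Set ↥N) =
        (normalizer (((P.1.map N.subtype : Subgroup G)) : Set G)).subgroupOf N := by
      rw [Subgroup.subgroupOf_normalizer_eq (Subgroup.map_subtype_le _), Subgroup.subgroupOf,
        Subgroup.comap_map_eq_self_of_injective N.subtype_injective]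
    have e2 : (normalizer (((P.1.map N.subtype : Subgroup G)) : Set G)).relIndex N =
        (normalizer (((P.1.map N.subtype : Subgroup G)) : Set G)).index := by
      have htop := Sylow.normalizer_sup_eq_top P
      set K := normalizer (((P.1.map N.subtype : Subgroup G)) : Set G) with hKdef
      let f : (↥N ⧸ K.subgroupOf N) → G ⧸ K :=
        Quotient.map' (fun x => (x : G)) (fun x y hxy => by
          rw [QuotientGroup.leftRel_apply] at hxy ⊢
          simpa [Subgroup.mem_subgroupOf] using hxy)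
      refine Nat.card_eq_of_bijective f ⟨?_, ?_⟩
      · rintro ⟨x⟩ ⟨y⟩ hxy
        refine Quotient.sound' ?_
        have := QuotientGroup.eq.mp hxy
        rw [QuotientGroup.leftRel_apply]
        simpa [Subgroup.mem_subgroupOf] using this
      · rintro ⟨g⟩
        have hg : g ∈ (↑(N ⊔ K) : Set G) := by
          rw [sup_comm, hKdef, htop]; trivial
        rw [Subgroup.normal_mul] at hg
        obtain ⟨n, hn, k, hk, rfl⟩ := hg
        refine ⟨QuotientGroup.mk ⟨n, hn⟩, QuotientGroup.eq.mpr ?_⟩
        simpa using hk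
    rw [Sylow.card_eq_index_normalizer P, Sylow.card_eq_index_normalizer R']
    show (normalizer ((P.1 : Subgroup ↥N) : Set ↥N)).index ∣ _
    rw [e1]
    exact (dvd_of_eq e2).trans (Subgroup.index_dvd_of_le hN)
  exact h r hr s t hs ht (hsd.trans hd) (htd.trans hd)

theorem isSolvable_of_sylowPP : ∀ (n : ℕ) (G : Type u) [Group G] [Finite G],
    Nat.card G = n → SylowPP G → Group.IsSolvable G := by
  intro n
  induction n using Nat.strong_induction_on with
  | _ n ih =>
  intro G _ _ hn h
  rcases subsingleton_or_nontrivial G with hs | hnt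
  · exact Group.isSolvable_of_top_eq_bot G (Subsingleton.elim _ _)
  by_cases hs : IsSimpleGroup G
  · exact isSolvable_of_simple h
  · obtain ⟨N, hN, hN0, hN1⟩ : ∃ N : Subgroup G, N.Normal ∧ N ≠ ⊥ ∧ N ≠ ⊤ := by
      by_contra hcon
      push Not at hcon
      exact hs ⟨fun N hN => or_iff_not_imp_left.mpr (hcon N hN)⟩
    haveI := hN
    have h1 : Nat.card ↥N < n := hn ▸ lt_of_le_of_ne (Subgroup.card_le_card_group N)
      fun e => hN1 (Subgroup.eq_top_of_card_eq N e)
    have h2 : Nat.card (G ⧸ N) < n := by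
      rw [← hn, ← N.card_mul_index, ← Subgroup.index_eq_card]
      exact lt_mul_of_one_lt_left (Nat.pos_of_ne_zero Subgroup.index_ne_zero_of_finite)
        ((Subgroup.one_lt_card_iff_ne_bot N).mpr hN0)
    haveI := ih _ h1 ↥N rfl (sylowPP_normal h N)
    haveI := ih _ h2 (G ⧸ N) rfl (sylowPP_quotient h N)
    exact Group.isSolvable_of_ker_le_range N.subtype (QuotientGroup.mk' N) (by simp)

/-- If for every prime r the number of Sylow r-subgroups of the finite group G is a prime power or 1, then G is solvable. -/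
theorem result {G : Type*} [Group G] [Finite G] (h : ∀ (r : ℕ) [Fact r.Prime], Nat.card (Sylow r G) = 1 ∨ IsPrimePow (Nat.card (Sylow r G))) :
    Group.IsSolvable G := by
  refine isSolvable_of_sylowPP _ G rfl ?_
  intro r hr s t hs ht hsd htd
  haveI : Fact r.Prime := ⟨hr⟩
  rcases h r with h1 | h1
  · exact absurd (Nat.dvd_one.mp (h1 ▸ hsd)) hs.ne_one
  · obtain ⟨q, k, hq, -, hqk⟩ := (isPrimePow_nat_iff _).mp h1
    rw [← hqk] at hsd htd
    exact ((Nat.prime_dvd_prime_iff_eq hs hq).mp (hs.dvd_of_dvd_pow hsd)).trans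
      ((Nat.prime_dvd_prime_iff_eq ht hq).mp (ht.dvd_of_dvd_pow htd)).symm

end Cfsg.Agent.S3933
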