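import Cfsg.Statements.S3937
import Mathlib
import Cfsg.Agent.Lib.Subnormal
import Cfsg.Agent.Lib.Components
import Cfsg.Agent.Lib.Basic
-- import your own Cfsg.Agent.* helpers here

set_option autoImplicit false
open Cfsg

namespace Cfsg.Agent.S3937

open scoped Pointwise commutatorElement

universe w

/-- One step of the Engel sequence. -/
def step {G : Type*} [Group G] (g x : G) : G := x * g * x⁻¹ * g⁻¹

theorem foldl_eq {G : Type*} [Group G] (g x : G) (n : ℕ) :
    (List.replicate n g).foldl (fun a b => a * b * a⁻¹ * b⁻¹) x = (step g)^[n] x := by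
  induction n generalizing x with
  | zero => rfl
  | succ n ih =>
    rw [List.replicate_succ, List.foldl_cons, ih, Function.iterate_succ_apply]
    rfl

theorem engel_main : ∀ (n : ℕ) (G : Type w) [Group G] [Finite G], Nat.card G = n →
    ∀ g : G, (∀ x : G, ∃ k : ℕ, (step g)^[k] x = 1) → g ∈ Cfsg.fittingSubgroup G := by
  intro n
  induction n using Nat.strong_induction_on with
  | _ n ih =>
  intro G _ _ hn g hg
  set S := Subgroup.zpowers g with hSdef
  have hsub : S.IsSubnormal → g ∈ Cfsg.fittingSubgroup G := fun hS => by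
    refine CfsgLib.isSubnormal_nilpotent_le_fitting hS ?_ (Subgroup.mem_zpowers g)
    let : CommGroup S := { (inferInstance : Group S) with
      mul_comm := fun a b => by
        obtain ⟨a, i, rfl⟩ := a; obtain ⟨b, j, rfl⟩ := b
        exact Subtype.ext ((Commute.zpow_zpow_self g i j).eq) }
    infer_instance
  by_contra hgF
  have hS : ¬ S.IsSubnormal := fun h => hgF (hsub h)
  have hlocal : ∀ H : Subgroup G, H ≠ ⊤ → S ≤ H → (S.subgroupOf H).IsSubnormal := by
    intro H hH hSH
    have hlt : Nat.card H < n := by
      rw [← hn]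
      exact lt_of_le_of_ne (Subgroup.card_le_card_group H) fun e => hH (H.eq_top_of_card_eq e)
    have hgH : g ∈ H := hSH (Subgroup.mem_zpowers g)
    have hF := ih _ hlt H rfl ⟨g, hgH⟩ fun x => by
      obtain ⟨k, hk⟩ := hg (x : G)
      refine ⟨k, Subtype.ext ?_⟩
      have e : ∀ j : ℕ, (((step (⟨g, hgH⟩ : H))^[j] x : H) : G) = (step g)^[j] (x : G) := by
        intro j
        induction j with
        | zero => rfl
        | succ j ihj =>
          rw [Function.iterate_succ_apply', Function.iterate_succ_apply', ← ihj]
          rfl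
      rw [e, hk]
      rfl
    set F := Cfsg.fittingSubgroup H
    have : Group.IsNilpotent F := CfsgLib.isNilpotent_fittingSubgroup
    have hle : S.subgroupOf H ≤ F := by
      rintro ⟨y, hy⟩ hy'
      obtain ⟨i, rfl⟩ := hy'
      exact F.zpow_mem hF i
    have h1 := CfsgLib.isSubnormal_of_nilpotent ((S.subgroupOf H).subgroupOf F)
    have h2 : F.IsSubnormal := (inferInstance : F.Normal).isSubnormal
    exact Subgroup.IsSubnormal.trans hle h1 h2
  obtain ⟨M, ⟨hM, hSM⟩, huniq⟩ := CfsgLib.zipper S hlocal hS
  have hgM : g ∈ M := hSM (Subgroup.mem_zpowers g)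
  have hMn : ¬ M.Normal := fun hN => hS <| by
    have h1 := hlocal M hM.1 hSM
    exact Subgroup.IsSubnormal.trans hSM h1 hN.isSubnormal
  have hNM : Subgroup.normalizer (M : Set G) = M := by
    refine le_antisymm ?_ Subgroup.le_normalizer
    by_contra hc
    exact hMn (Subgroup.normalizer_eq_top_iff.mp
      (hM.2 _ (lt_of_le_not_ge Subgroup.le_normalizer hc)))
  -- an element whose commutator with g lies in M lies in M
  have key : ∀ x : G, step g x ∈ M → x ∈ M := by
    intro x hx
    have hxg : x * g * x⁻¹ ∈ M := by
      have := M.mul_mem hx hgM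
      simpa [step] using this
    have hle : S ≤ MulAut.conj x⁻¹ • M := by
      rw [hSdef, Subgroup.zpowers_le, Subgroup.mem_pointwise_smul_iff_inv_smul_mem, MulAut.smul_def,
        MulAut.inv_def, MulAut.conj_symm_apply]
      simpa [mul_assoc] using hxg
    have hco : IsCoatom (MulAut.conj x⁻¹ • M) := by
      rw [Subgroup.pointwise_smul_def]
      exact (OrderIso.isCoatom_iff (MulEquiv.mapSubgroup (MulAut.conj x⁻¹)) M).mpr hM
    have heq := huniq _ ⟨hco, hle⟩
    have hxN : x⁻¹ ∈ Subgroup.normalizer (M : Set G) := by
      rw [Subgroup.mem_normalizer_iff]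
      intro z
      conv_rhs => rw [← heq, Subgroup.mem_pointwise_smul_iff_inv_smul_mem, MulAut.smul_def,
        MulAut.inv_def, MulAut.conj_symm_apply]
      simp [mul_assoc]
    rw [hNM] at hxN
    simpa using M.inv_mem hxN
  have htop : ∀ x : G, x ∈ M := by
    intro x
    obtain ⟨k, hk⟩ := hg x
    have : ∀ (k : ℕ) (x : G), (step g)^[k] x ∈ M → x ∈ M := by
      intro k
      induction k with
      | zero => exact fun x h => h
      | succ k ihk =>
        intro x h
        rw [Function.iterate_succ_apply] at h
        exact key x (ihk _ h)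
    exact this k x (hk ▸ M.one_mem)
  exact hM.1 (top_le_iff.mp fun x _ => htop x)

theorem engel_mem_fitting {G : Type w} [Group G] [Finite G] (g : G)
    (h : ∀ x : G, ∃ k : ℕ, (step g)^[k] x = 1) : g ∈ Cfsg.fittingSubgroup G :=
  engel_main _ G rfl g h

/-- Baer's characterization of the Fitting subgroup: in a finite group G, an element g lies in the Fitting subgroup if and only if g is a left Engel element, that is, for every x there is n with [x, g, g, …, g] = 1 (n entries g, [a, b] = aba⁻¹b⁻¹). -/
theorem result {G : Type*} [Group G] [Finite G] (g : G) :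
    g ∈ Cfsg.fittingSubgroup G ↔ ∀ x : G, ∃ n : ℕ, (List.replicate n g).foldl (fun a b => a * b * a⁻¹ * b⁻¹) x = 1 := by
  simp only [foldl_eq]
  constructor
  · intro hg x
    let F := Cfsg.fittingSubgroup G
    have : Group.IsNilpotent F := CfsgLib.isNilpotent_fittingSubgroup
    have : F.Normal := inferInstance
    have h1 : step g x ∈ F := by
      have := F.mul_mem (this.conj_mem g hg x) (F.inv_mem hg)
      simpa [step, mul_assoc] using this
    have key : ∀ k : ℕ, ∃ h : (step g)^[k + 1] x ∈ F,
        (⟨_, h⟩ : F) ∈ (⊤ : Subgroup F).lowerCentralSeries k := by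
      intro k
      induction k with
      | zero => exact ⟨h1, by simp⟩
      | succ k ih =>
        obtain ⟨h, hk⟩ := ih
        have e : (step g)^[k + 1 + 1] x = step g ((step g)^[k + 1] x) :=
          Function.iterate_succ_apply' _ _ _
        refine ⟨?_, ?_⟩
        · rw [e]
          exact F.mul_mem (F.mul_mem (F.mul_mem h hg) (F.inv_mem h)) (F.inv_mem hg)
        · have := Subgroup.commutator_mem_commutator hk (Subgroup.mem_top (⟨g, hg⟩ : F))
          rw [Subgroup.lowerCentralSeries_succ]
          convert this using 1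
          apply Subtype.ext
          simp only [e]
          simp [step, commutatorElement_def]
    obtain ⟨k, hk⟩ := Subgroup.nilpotent_iff_lowerCentralSeries.mp (inferInstance : Group.IsNilpotent F)
    obtain ⟨h, hk'⟩ := key k
    refine ⟨k + 1, ?_⟩
    rw [hk, Subgroup.mem_bot] at hk'
    exact congrArg Subtype.val hk'
  · exact engel_mem_fitting g

end Cfsg.Agent.S3937
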