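import Cfsg.Statements.S3939
import Mathlib
import Cfsg.Agent.Lib.PComplement
import Cfsg.Agent.Lib.PSplit
-- import your own Cfsg.Agent.* helpers here

set_option autoImplicit false
open Cfsg

namespace Cfsg.Agent.S3939

open scoped Pointwise commutatorElement

universe w

theorem commute_of_nilpotent {H : Type w} [Group H] [Finite H] [Group.IsNilpotent H] :
    ∀ a b : H, (orderOf a).Coprime (orderOf b) → Commute a b := by
  refine Group.nilpotent_center_quotient_ind
    (P := fun K _ _ => Finite K → ∀ a b : K, (orderOf a).Coprime (orderOf b) → Commute a b) H ?_ ?_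
    inferInstance
  · intro K _ _ _ a b _
    exact Subsingleton.elim _ _
  · intro K _ _ ih hK a b hab
    have hcop : (orderOf (QuotientGroup.mk' (Subgroup.center K) a)).Coprime
        (orderOf (QuotientGroup.mk' (Subgroup.center K) b)) :=
      (hab.coprime_dvd_left (orderOf_map_dvd _ a)).coprime_dvd_right (orderOf_map_dvd _ b)
    have h1 := ih inferInstance _ _ hcop
    set z := ⁅a, b⁆ with hz
    have hzc : z ∈ Subgroup.center K := by
      rw [← QuotientGroup.eq_one_iff, ← QuotientGroup.mk'_apply, map_commutatorElement,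
        commutatorElement_eq_one_iff_commute]
      exact h1
    have hzcomm : ∀ y, Commute z y := fun y => (Subgroup.mem_center_iff.mp hzc y).symm
    have hab' : a * b * a⁻¹ = z * b := by rw [hz, commutatorElement_def, inv_mul_cancel_right]
    have hba : b * a * b⁻¹ = z⁻¹ * a := by
      rw [hz, commutatorElement_def]; group
    have e1 : z ^ orderOf b = 1 := by
      have h2 : (a * b * a⁻¹) ^ orderOf b = 1 := by
        rw [conj_pow, pow_orderOf_eq_one, mul_one, mul_inv_cancel]
      rwa [hab', (hzcomm b).mul_pow, pow_orderOf_eq_one, mul_one] at h2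
    have e2 : z ^ orderOf a = 1 := by
      have h2 : (b * a * b⁻¹) ^ orderOf a = 1 := by
        rw [conj_pow, pow_orderOf_eq_one, mul_one, mul_inv_cancel]
      rw [hba, (hzcomm a).inv_left.mul_pow, pow_orderOf_eq_one, mul_one, inv_pow, inv_eq_one] at h2
      exact h2
    have h3 : orderOf z = 1 := Nat.eq_one_of_dvd_coprimes hab (orderOf_dvd_of_pow_eq_one e2)
      (orderOf_dvd_of_pow_eq_one e1)
    exact commutatorElement_eq_one_iff_commute.mp (orderOf_eq_one_iff.mp h3)

variable {G : Type w} [Group G] [Finite G]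

theorem commutes_of_pair {g x : G} (h : Group.IsNilpotent ↥(Subgroup.closure ({x, g} : Set G)))
    (hc : (orderOf g).Coprime (orderOf x)) : Commute g x := by
  have := commute_of_nilpotent (H := ↥(Subgroup.closure ({x, g} : Set G)))
    ⟨g, Subgroup.subset_closure (by simp)⟩ ⟨x, Subgroup.subset_closure (by simp)⟩
    (by rwa [← Subgroup.orderOf_coe, ← Subgroup.orderOf_coe])
  exact congrArg Subtype.val this.eq

set_option maxHeartbeats 1000000 in
theorem mem_hyper_p (Z : Subgroup G) [Z.Normal]
    (hZ : ∀ y, (∀ z, ⁅y, z⁆ ∈ Z) → y ∈ Z)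
    {p : ℕ} [Fact p.Prime] {g : G} (hg : ∃ k, orderOf g = p ^ k)
    (h : ∀ x : G, Group.IsNilpotent ↥(Subgroup.closure ({x, g} : Set G))) :
    g ∈ Z := by
  classical
  set R := Cfsg.pResidual p G with hRdef
  have hRn : R.Normal := inferInstance
  have hsylow : ∀ Q : Sylow p G, (Q : Subgroup G) ⊔ R = ⊤ := fun Q =>
    sup_comm R _ ▸ CfsgLib.sylow_sup_eq_top_of_pResidual_le (N := R) Q (le_refl R)
  clear_value R
  obtain ⟨k, hk⟩ := hg
  have hR : ∀ r ∈ R, g * r = r * g := by
    have : R ≤ Subgroup.centralizer ({g} : Set G) := hRdef ▸ CfsgLib.pResidual_le fun x hx => by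
      rw [Subgroup.mem_centralizer_singleton_iff]
      exact ((commutes_of_pair (h x) (hk ▸ hx.symm.pow_left k)).eq).symm
    exact fun r hr => (Subgroup.mem_centralizer_singleton_iff.mp (this hr)).symm
  have hA : IsPGroup p (Subgroup.zpowers g) := IsPGroup.of_card (n := k) (by rw [Nat.card_zpowers, hk])
  obtain ⟨Q, hQ⟩ := hA.exists_le_sylow
  have hgen : (Q : Subgroup G) ⊔ R = ⊤ := hsylow Q
  set K := Subgroup.normalClosure ({g} : Set G)
  have hKR : K ≤ Subgroup.centralizer (R : Set G) :=
    Subgroup.normalClosure_le_normal (Set.singleton_subset_iff.mpr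
      (Subgroup.mem_centralizer_iff.mpr fun r hr => (hR r hr).symm))
  have hKQ : K ≤ (Q : Subgroup G) := by
    refine Subgroup.closure_le _ |>.mpr ?_
    intro y hy
    obtain ⟨g', hg', hc⟩ := Group.mem_conjugatesOfSet_iff.mp hy
    rw [Set.mem_singleton_iff.mp hg'] at hc
    obtain ⟨c, rfl⟩ := isConj_iff.mp hc
    have hc' : c ∈ (Q : Subgroup G) ⊔ R := hgen ▸ Subgroup.mem_top c
    obtain ⟨q, hq, r, hr, rfl⟩ := Subgroup.mem_sup_of_normal_right.mp hc'
    have e : q * r * g * (q * r)⁻¹ = q * (r * g * r⁻¹) * q⁻¹ := by group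
    rw [e, ← hR r hr, mul_inv_cancel_right]
    exact Subgroup.mul_mem _ (Subgroup.mul_mem _ hq (hQ (Subgroup.mem_zpowers g))) (Subgroup.inv_mem _ hq)
  refine (?_ : K ≤ Z) (Subgroup.subset_normalClosure rfl)
  -- in G / Z the image is a normal p-subgroup centralised by R
  by_contra hne
  set f := QuotientGroup.mk' Z
  set K' := K.map f
  have : K'.Normal := (inferInstance : K.Normal).map f (QuotientGroup.mk'_surjective Z)
  have hK' : IsPGroup p K' := (Q.2.to_le hKQ).map f
  obtain ⟨j, hj⟩ := hK'.exists_card_eq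
  have hj0 : j ≠ 0 := fun h0 => hne <| by
    have h1 : K' = ⊥ := Subgroup.card_eq_one.mp (by rw [hj, h0, pow_zero])
    rwa [Subgroup.map_eq_bot_iff, QuotientGroup.ker_mk'] at h1
  let φ : ↥(Q : Subgroup G) →* MulAut K' := MulAut.conjNormal.comp (f.comp (Q : Subgroup G).subtype)
  let := MulAction.compHom K' φ
  have h1 : (1 : K') ∈ MulAction.fixedPoints ↥(Q : Subgroup G) K' := fun x => map_one (φ x)
  obtain ⟨c, hc, hc1⟩ := Q.2.exists_fixed_point_of_prime_dvd_card_of_fixed_point K'
    (hj ▸ dvd_pow_self p hj0) h1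
  obtain ⟨_, y, hy, rfl⟩ := c
  refine hc1 (Subtype.ext ?_)
  show (1 : G ⧸ Z) = f y
  refine ((QuotientGroup.eq_one_iff y).mpr ?_).symm
  refine hZ y fun z => ?_
  have hz : z ∈ (Q : Subgroup G) ⊔ R := hgen ▸ Subgroup.mem_top z
  obtain ⟨q, hq, r, hr, rfl⟩ := Subgroup.mem_sup_of_normal_right.mp hz
  have h2 : f q * f y * (f q)⁻¹ = f y := congrArg Subtype.val (hc ⟨q, hq⟩)
  have h3 : r * y = y * r := Subgroup.mem_centralizer_iff.mp (hKR hy) r hr
  rw [← QuotientGroup.eq_one_iff, ← QuotientGroup.mk'_apply, map_commutatorElement,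
    commutatorElement_eq_one_iff_commute, map_mul]
  refine Commute.mul_right ?_ ?_
  · show f y * f q = f q * f y
    exact (mul_inv_eq_iff_eq_mul.mp h2).symm
  · show f y * f r = f r * f y
    rw [← map_mul, ← map_mul, h3]

theorem mem_hyper (N : ℕ)
    (hN : ∀ n, Subgroup.upperCentralSeries G n ≤ Subgroup.upperCentralSeries G N) :
    ∀ (o : ℕ) (g : G), orderOf g = o →
    (∀ x : G, Group.IsNilpotent ↥(Subgroup.closure ({x, g} : Set G))) →
    g ∈ Subgroup.upperCentralSeries G N := by
  intro o
  induction o using Nat.strong_induction_on with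
  | _ o ih =>
  intro g ho h
  rcases eq_or_ne g 1 with rfl | hg1
  · exact Subgroup.one_mem _
  obtain ⟨p, hp, hpo⟩ := Nat.exists_prime_and_dvd (fun e => hg1 (orderOf_eq_one_iff.mp e))
  have : Fact p.Prime := ⟨hp⟩
  obtain ⟨a, b, hab, -, ⟨k, hk⟩, hb, ha, hb'⟩ := CfsgLib.exists_p_split (p := p) g
  have hpow : ∀ y ∈ Subgroup.zpowers g, ∀ x : G,
      Group.IsNilpotent ↥(Subgroup.closure ({x, y} : Set G)) := by
    intro y hy x
    have := h x
    have hle : Subgroup.closure ({x, y} : Set G) ≤ Subgroup.closure ({x, g} : Set G) := by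
      rw [Subgroup.closure_le, Set.insert_subset_iff, Set.singleton_subset_iff]
      exact ⟨Subgroup.subset_closure (by simp),
        (Subgroup.zpowers_le.mpr (Subgroup.subset_closure (by simp))) hy⟩
    have hn := Subgroup.isNilpotent ((Subgroup.closure ({x, y} : Set G)).subgroupOf
      (Subgroup.closure ({x, g} : Set G)))
    exact (Group.isNilpotent_congr (Subgroup.subgroupOfEquivOfLe hle)).mp hn
  rw [← hab]
  refine Subgroup.mul_mem _ (mem_hyper_p _
    (fun y hy => hN (N + 1) (Subgroup.mem_upperCentralSeries_succ_iff.mpr hy)) (p := p) ?_ (hpow a ha)) ?_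
  · obtain ⟨j, -, hj⟩ := (Nat.dvd_prime_pow hp).mp (orderOf_dvd_of_pow_eq_one hk)
    exact ⟨j, hj⟩
  · refine ih (orderOf b) (lt_of_le_of_ne ?_ ?_) b rfl (hpow b hb')
    · exact Nat.le_of_dvd (ho ▸ orderOf_pos g) (ho ▸ by
        obtain ⟨i, rfl⟩ := hb'; exact orderOf_dvd_of_mem_zpowers ⟨i, rfl⟩)
    · intro e
      exact hp.coprime_iff_not_dvd.mp hb.symm (e ▸ ho ▸ hpo)

theorem nilpotent_pair (N : ℕ) (g x : G) (hg : g ∈ Subgroup.upperCentralSeries G N) :
    Group.IsNilpotent ↥(Subgroup.closure ({x, g} : Set G)) := by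
  set H := Subgroup.closure ({x, g} : Set G) with hH
  have key : ∀ n, ∀ y : H, (y : G) ∈ Subgroup.upperCentralSeries G n →
      y ∈ Subgroup.upperCentralSeries H n := by
    intro n
    induction n with
    | zero => exact fun y hy => by simpa using hy
    | succ n ih =>
      intro y hy
      rw [Subgroup.mem_upperCentralSeries_succ_iff] at hy ⊢
      exact fun z => ih _ (hy z)
  let Z := Subgroup.upperCentralSeries H N
  let f := QuotientGroup.mk' Z
  have hxH : x ∈ H := Subgroup.subset_closure (by simp)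
  have hgen : ∀ y : H, f y ∈ Subgroup.zpowers (f ⟨x, hxH⟩) := by
    rintro ⟨y, hy⟩
    induction hy using Subgroup.closure_induction with
    | mem y hy =>
      rcases hy with rfl | rfl
      · exact Subgroup.mem_zpowers _
      · rw [show f ⟨y, _⟩ = 1 from (QuotientGroup.eq_one_iff _).mpr (key N _ hg)]
        exact one_mem _
    | one => exact (map_one f).symm ▸ one_mem _
    | mul a b ha hb iha ihb =>
      have := mul_mem iha ihb
      rwa [← map_mul] at this
    | inv a ha iha =>
      have := inv_mem iha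
      rwa [← map_inv] at this
  refine ⟨⟨N + 1, top_le_iff.mp fun y _ => ?_⟩⟩
  rw [Subgroup.mem_upperCentralSeries_succ_iff]
  intro z
  rw [← QuotientGroup.eq_one_iff, ← QuotientGroup.mk'_apply, map_commutatorElement,
    commutatorElement_eq_one_iff_commute]
  obtain ⟨i, hi⟩ := hgen y
  obtain ⟨j, hj⟩ := hgen z
  show Commute (f y) (f z)
  rw [← hi, ← hj]
  exact Commute.zpow_zpow_self _ i j

/-- In a finite group G the set of elements g such that the subgroup generated by g and x is nilpotent for every x ∈ G is exactly the hypercenter of G (the last term of the upper central series). -/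
theorem result {G : Type*} [Group G] [Finite G] (g : G) :
    (∀ x : G, Group.IsNilpotent ↥(Subgroup.closure ({x, g} : Set G))) ↔ g ∈ ⨆ n : ℕ, Subgroup.upperCentralSeries G n := by
  classical
  obtain ⟨N, hN⟩ : ∃ N, ∀ n, Subgroup.upperCentralSeries G n ≤ Subgroup.upperCentralSeries G N := by
    obtain ⟨_, ⟨⟨N, rfl⟩, hmax⟩⟩ := (Set.toFinite (Set.range (Subgroup.upperCentralSeries G))).exists_maximal
      (Set.range_nonempty _)
    exact ⟨N, fun n => le_trans (Subgroup.upperCentralSeries_mono G (le_max_left n N))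
      (hmax ⟨max n N, rfl⟩ (Subgroup.upperCentralSeries_mono G (le_max_right n N)))⟩
  have hZ : (⨆ n : ℕ, Subgroup.upperCentralSeries G n) = Subgroup.upperCentralSeries G N :=
    le_antisymm (iSup_le hN) (le_iSup _ N)
  rw [hZ]
  constructor
  · intro h
    exact mem_hyper N hN (orderOf g) g rfl h
  · exact fun hg x => nilpotent_pair N g x hg

end Cfsg.Agent.S3939
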