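import Cfsg.Statements.S3941
import Mathlib
-- import your own Cfsg.Agent.* helpers here

set_option autoImplicit false
open Cfsg

namespace Cfsg.Agent.S3941

/-- Let n ≥ 5 and p an odd prime with p ≤ n, and suppose that every proper subgroup of the alternating group of degree n whose order is divisible by p has a normal Sylow p-subgroup. Then n = p. -/
theorem result (n p : ℕ) (hn : 5 ≤ n) [Fact p.Prime] (hp : p ≠ 2) (hpn : p ≤ n)
    (h : ∀ H : Subgroup ↥(alternatingGroup (Fin n)), H ≠ ⊤ → p ∣ Nat.card ↥H → Cfsg.IsPClosed p ↥H) : n = p := by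
  classical
  by_contra hne
  have hp2 : p.Prime := Fact.out
  obtain ⟨m, rfl⟩ : ∃ m, n = m + 1 := ⟨n - 1, by omega⟩
  have hpm : p ≤ m := by omega
  let e : Fin m ≃ {x : Fin (m + 1) // x ≠ Fin.last m} :=
    { toFun := fun i => ⟨i.castSucc, (Fin.castSucc_lt_last i).ne⟩
      invFun := fun x => x.1.castPred x.2
      left_inv := fun i => Fin.castPred_castSucc
      right_inv := fun x => Subtype.ext (Fin.castSucc_castPred x.1 x.2) }
  let ψ : Equiv.Perm (Fin m) →* Equiv.Perm (Fin (m + 1)) := Equiv.Perm.extendDomainHom e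
  let χ : ↥(alternatingGroup (Fin m)) →* ↥(alternatingGroup (Fin (m + 1))) :=
    (ψ.comp (alternatingGroup (Fin m)).subtype).codRestrict _ (fun s => by
      rw [Equiv.Perm.mem_alternatingGroup]
      show Equiv.Perm.sign ((s : Equiv.Perm (Fin m)).extendDomain e) = 1
      rw [Equiv.Perm.sign_extendDomain]
      exact s.2)
  have hχ : Function.Injective χ := fun a b hab =>
    Subtype.ext (Equiv.Perm.extendDomainHom_injective e (congrArg Subtype.val hab))
  have : Nontrivial (Fin m) := Fin.nontrivial_iff_two_le.mpr (by omega)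
  have : Nontrivial (Fin (m + 1)) := Fin.nontrivial_iff_two_le.mpr (by omega)
  have hcard : 2 * Nat.card (alternatingGroup (Fin m)) = m.factorial := by
    rw [Nat.card_eq_fintype_card, two_mul_card_alternatingGroup, Fintype.card_perm, Fintype.card_fin]
  have hcard' : 2 * Nat.card (alternatingGroup (Fin (m + 1))) = (m + 1).factorial := by
    rw [Nat.card_eq_fintype_card, two_mul_card_alternatingGroup, Fintype.card_perm, Fintype.card_fin]
  have hrange : Nat.card χ.range = Nat.card (alternatingGroup (Fin m)) :=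
    (Nat.card_congr (MonoidHom.ofInjective hχ).toEquiv).symm
  have hne' : χ.range ≠ ⊤ := by
    intro ht
    rw [ht, Subgroup.card_top] at hrange
    rw [hrange, hcard, Nat.factorial_succ] at hcard'
    have := Nat.factorial_pos m
    nlinarith
  have hdvd : p ∣ Nat.card (alternatingGroup (Fin m)) := by
    have h1 : p ∣ 2 * Nat.card (alternatingGroup (Fin m)) := hcard ▸ Nat.dvd_factorial hp2.pos hpm
    exact ((Nat.Prime.dvd_mul hp2).mp h1).resolve_left (fun h2 => hp ((Nat.prime_dvd_prime_iff_eq hp2 Nat.prime_two).mp h2))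
  have hcl := h χ.range hne' (hrange ▸ hdvd)
  have hcl' : ∀ P : Sylow p ↥(alternatingGroup (Fin m)), (P : Subgroup ↥(alternatingGroup (Fin m))).Normal := by
    intro P
    let ev := MonoidHom.ofInjective hχ
    have hn := hcl (P.mapSurjective (f := ev.toMonoidHom) ev.surjective)
    have h2 := Subgroup.Normal.comap hn ev.toMonoidHom
    have h2' : (((P : Subgroup ↥(alternatingGroup (Fin m))).map ev.toMonoidHom).comap ev.toMonoidHom).Normal := h2
    rwa [Subgroup.comap_map_eq_self_of_injective (f := ev.toMonoidHom) ev.injective] at h2'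
  by_cases hm : 5 ≤ m
  · have := alternatingGroup.isSimpleGroup (α := Fin m) (by simpa using hm)
    let P : Sylow p ↥(alternatingGroup (Fin m)) := default
    rcases (hcl' P).eq_bot_or_eq_top with h1 | h1
    · have h2 := P.dvd_card_of_dvd_card hdvd
      rw [h1, Subgroup.card_bot] at h2
      exact hp2.ne_one (Nat.dvd_one.mp h2)
    · have hpg : IsPGroup p ↥(alternatingGroup (Fin m)) := by
        have h2 := P.isPGroup'
        rw [h1] at h2
        exact h2.of_equiv Subgroup.topEquiv
      obtain ⟨k, hk⟩ := IsPGroup.iff_card.mp hpg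
      have h2 : 2 ∣ Nat.card (alternatingGroup (Fin m)) := by
        have h4 : 2 * 2 ∣ 2 * Nat.card (alternatingGroup (Fin m)) := hcard ▸ Nat.dvd_factorial (by norm_num) (by omega)
        exact Nat.dvd_of_mul_dvd_mul_left (by norm_num) h4
      rw [hk] at h2
      exact hp ((Nat.prime_dvd_prime_iff_eq Nat.prime_two hp2).mp (Nat.prime_two.dvd_of_dvd_pow h2)).symm
  · obtain rfl : m = 4 := by omega
    obtain rfl : p = 3 := by
      interval_cases p
      all_goals first | rfl | (exact absurd rfl hp) | (exact absurd hp2 (by decide))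
    have hex : ∃ c d : ↥(alternatingGroup (Fin 4)), c ^ 3 = 1 ∧ c ≠ 1 ∧ d ^ 3 = 1 ∧ d ≠ 1 ∧ (c * d) ^ 3 ≠ 1 ∧ (c * d) ^ 2 = 1 := by
      decide +kernel
    obtain ⟨c, d, hc, hc1, hd, hd1, hcd, hcd2⟩ := hex
    have hall : ∀ t : ↥(alternatingGroup (Fin 4)), t ^ 3 = 1 → ∀ P : Sylow 3 ↥(alternatingGroup (Fin 4)), t ∈ (P : Subgroup ↥(alternatingGroup (Fin 4))) := by
      intro t ht P
      have := Sylow.unique_of_normal P (hcl' P)
      have hz : IsPGroup 3 (Subgroup.zpowers t) := by
        obtain ⟨i, -, hi⟩ := (Nat.dvd_prime_pow Nat.prime_three).mp (show orderOf t ∣ 3 ^ 1 by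
          rw [pow_one]; exact orderOf_dvd_of_pow_eq_one ht)
        exact IsPGroup.of_card (by rw [Nat.card_zpowers, hi])
      obtain ⟨Q, hQ⟩ := hz.exists_le_sylow
      rw [Subsingleton.elim Q P] at hQ
      exact hQ (Subgroup.mem_zpowers t)
    let P : Sylow 3 ↥(alternatingGroup (Fin 4)) := default
    obtain ⟨k, hk⟩ := IsPGroup.iff_orderOf.mp P.isPGroup' ⟨c * d, mul_mem (hall c hc P) (hall d hd P)⟩
    rw [Subgroup.orderOf_mk] at hk
    have h23 : orderOf (c * d) = 1 := by
      refine Nat.eq_one_of_dvd_coprimes (a := 2) (b := 3 ^ k) ?_ (orderOf_dvd_of_pow_eq_one hcd2) (hk ▸ dvd_rfl)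
      exact (by norm_num : Nat.Coprime 2 3).pow_right k
    exact hcd (by rw [orderOf_eq_one_iff.mp h23, one_pow])

end Cfsg.Agent.S3941
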