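import Cfsg.Statements.S3946
import Mathlib
import Cfsg.Agent.Lib.Frobenius.Splitting
-- import your own Cfsg.Agent.* helpers here

set_option autoImplicit false
open Cfsg

namespace Cfsg.Agent.S3946

/-- Call an automorphism α of order n of a group G splitting when x · α(x) · α²(x) ⋯ α^(n−1)(x) = 1 for every x ∈ G. A finite group admitting a splitting automorphism of prime order is nilpotent (this contains the case of a fixed-point-free automorphism of prime order). -/
theorem result {G : Type*} [Group G] [Finite G] (α : MulAut G) (hp : (orderOf α).Prime)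
    (hsplit : ∀ x : G, (((List.range (orderOf α)).map (fun i : ℕ => (α ^ i) x)).prod = 1)) : Group.IsNilpotent G := by
  classical
  set p := orderOf α with hpdef
  let C := Subgroup.zpowers α
  let φ : C →* MulAut G := C.subtype
  let a : C := ⟨α, Subgroup.mem_zpowers α⟩
  have hcard : Nat.card C = p := Nat.card_zpowers α
  haveI : Finite C := Nat.finite_of_card_ne_zero (by rw [hcard]; exact hp.ne_zero)
  haveI : Finite (G ⋊[φ] C) := Finite.of_equiv _ SemidirectProduct.equivProd.symm
  set H := (SemidirectProduct.inl : G →* G ⋊[φ] C).range with hH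
  have hker : H = (SemidirectProduct.rightHom : G ⋊[φ] C →* C).ker :=
    SemidirectProduct.range_inl_eq_ker_rightHom
  haveI : H.Normal := by rw [hker]; infer_instance
  have hne : H ≠ ⊤ := by
    intro e
    have h1 : (SemidirectProduct.inr a : G ⋊[φ] C) ∈ (SemidirectProduct.rightHom : G ⋊[φ] C →* C).ker := by
      rw [← hker, e]; exact Subgroup.mem_top _
    rw [MonoidHom.mem_ker, SemidirectProduct.rightHom_inr] at h1
    exact hp.ne_one (orderOf_eq_one_iff.mpr (congrArg Subtype.val h1))
  -- powers in the coset of `α`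
  have hformula : ∀ (g : G) (n : ℕ), ((⟨g, a⟩ : G ⋊[φ] C) ^ n).left =
      ((List.range n).map (fun i : ℕ => (α ^ i) g)).prod ∧ ((⟨g, a⟩ : G ⋊[φ] C) ^ n).right = a ^ n := by
    intro g n
    induction n with
    | zero => simp
    | succ n ih =>
      refine ⟨?_, by rw [pow_succ, SemidirectProduct.mul_right, ih.2, pow_succ]⟩
      rw [pow_succ, SemidirectProduct.mul_left, ih.1, ih.2, List.range_succ, List.map_append, List.prod_append,
        List.map_singleton, List.prod_singleton]
      rfl
  have hp1 : ∀ g : G, (⟨g, a⟩ : G ⋊[φ] C) ^ p = 1 := fun g =>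
    SemidirectProduct.ext (by rw [(hformula g p).1, hsplit g]; rfl)
      (by rw [(hformula g p).2]; exact Subtype.ext (pow_orderOf_eq_one α))
  have hout : ∀ y : G ⋊[φ] C, y ∉ H → y ^ p = 1 := by
    intro y hy
    have hyr : y.right ≠ 1 := fun e => hy (by rw [hker]; exact e)
    obtain ⟨k, hk⟩ := (mem_powers_iff_mem_zpowers (x := α)).mpr y.right.2
    simp only at hk
    have hyra : y.right = a ^ k := Subtype.ext hk.symm
    have hpk : ¬ p ∣ k := by
      rintro ⟨l, rfl⟩
      refine hyr (Subtype.ext ?_)
      rw [← hk, pow_mul, pow_orderOf_eq_one, one_pow]; rfl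
    obtain ⟨k', hk'⟩ := Nat.exists_mul_mod_eq_one_of_coprime ((Nat.Prime.coprime_iff_not_dvd hp).mpr hpk).symm hp.one_lt
    set N := ordCompl[p] (orderOf y) with hN
    have hpN : p.Coprime N := Nat.coprime_ordCompl hp (orderOf_pos y).ne'
    obtain ⟨m, hm1, hm2⟩ := Nat.chineseRemainder hpN k' 1
    have hkm : k * m ≡ 1 [MOD p] := by
      have h1 : k * k' ≡ 1 [MOD p] := by
        show k * k' % p = 1 % p
        rw [Nat.mod_eq_of_lt hp.one_lt]; exact hk'.2
      exact (hm1.mul_left k).trans h1
    have hmy : (y ^ m) = ⟨(y ^ m).left, a⟩ := by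
      refine SemidirectProduct.ext rfl ?_
      show (SemidirectProduct.rightHom (y ^ m)) = a
      rw [map_pow]
      show y.right ^ m = a
      rw [hyra, ← pow_mul]
      conv_rhs => rw [← pow_one a]
      refine pow_eq_pow_iff_modEq.mpr ?_
      rwa [show orderOf a = p from Subgroup.orderOf_mk _ _]
    have h1 : (y ^ m) ^ p = 1 := by rw [hmy]; exact hp1 _
    have hcop : (orderOf y).Coprime m := by
      rw [← Nat.ordProj_mul_ordCompl_eq_self (orderOf y) p]
      refine Nat.Coprime.mul_left (Nat.Coprime.pow_left _ ((Nat.Prime.coprime_iff_not_dvd hp).mpr fun hd => ?_)) ?_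
      · have h2 : k * m ≡ 0 [MOD p] := Nat.modEq_zero_iff_dvd.mpr (dvd_mul_of_dvd_right hd k)
        have h3 : 1 % p = 0 % p := hkm.symm.trans h2
        rw [Nat.mod_eq_of_lt hp.one_lt, Nat.zero_mod] at h3
        omega
      · rw [← hN, Nat.coprime_comm, Nat.Coprime, hm2.gcd_eq, Nat.gcd_one_left]
    rw [← pow_mul, mul_comm, pow_mul] at h1
    exact orderOf_eq_one_iff.mp (Nat.eq_one_of_dvd_coprimes hcop (orderOf_pow_dvd p) (orderOf_dvd_of_pow_eq_one h1))
  have := CfsgLib.Frob.isNilpotent_of_pow_eq_one_outside hp H hne hout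
  exact (Group.isNilpotent_congr (MonoidHom.ofInjective (SemidirectProduct.inl_injective (φ := φ))).symm).mp this

end Cfsg.Agent.S3946
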