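import Cfsg.Statements.S3949
import Mathlib
-- import your own Cfsg.Agent.* helpers here

set_option autoImplicit false
open Cfsg

namespace Cfsg.Agent.S3949

/-- Let G be a finite group and α an automorphism of G of order 2 such that the elements g·α(g)⁻¹ generate G. Let j be a positive integer such that 2^j divides the order of no element inverted by α. Then the set of values of the j-th iterate of the map c ↦ c·α(c)⁻¹ is exactly the set of elements of odd order inverted by α. -/
theorem result {G : Type*} [Group G] [Finite G] (α : MulAut G) (hα : orderOf α = 2) (hG : Subgroup.closure (Set.range (fun c : G => c * (α c)⁻¹)) = ⊤)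
    (j : ℕ) (hj : ∀ g : G, α g = g⁻¹ → ¬ 2 ^ j ∣ orderOf g) :
    Set.range ((fun c : G => c * (α c)⁻¹)^[j]) = {g : G | Odd (orderOf g) ∧ α g = g⁻¹} := by
  classical
  set f : G → G := fun c => c * (α c)⁻¹ with hf
  have hα2 : ∀ c, α (α c) = c := fun c => by
    have := MulEquiv.congr_fun (pow_orderOf_eq_one α) c
    rw [hα, pow_two] at this
    exact this
  have hinv : ∀ c, α (f c) = (f c)⁻¹ := fun c => by
    simp only [hf, map_mul, map_inv, hα2, mul_inv_rev, inv_inv]
  have hsq : ∀ (k : ℕ) (g : G), α g = g⁻¹ → f^[k] g = g ^ 2 ^ k ∧ α (g ^ 2 ^ k) = (g ^ 2 ^ k)⁻¹ := by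
    intro k
    induction k with
    | zero => intro g hg; simpa using hg
    | succ k ih =>
      intro g hg
      obtain ⟨h1, h2⟩ := ih g hg
      have e : g ^ 2 ^ (k + 1) = g ^ 2 ^ k * g ^ 2 ^ k := by rw [pow_succ, pow_mul, pow_two]
      refine ⟨?_, by rw [e, map_mul, h2, mul_inv_rev]⟩
      rw [Function.iterate_succ_apply', h1, e]
      show g ^ 2 ^ k * (α (g ^ 2 ^ k))⁻¹ = _
      rw [h2, inv_inv]
  have hj0 : j ≠ 0 := by
    rintro rfl
    exact hj 1 (by simp) (by simp)
  obtain ⟨i, rfl⟩ := Nat.exists_eq_succ_of_ne_zero hj0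
  ext g
  constructor
  · rintro ⟨c, rfl⟩
    rw [Function.iterate_succ_apply, (hsq i _ (hinv c)).1]
    refine ⟨?_, (hsq i _ (hinv c)).2⟩
    by_contra hodd
    rw [Nat.not_odd_iff_even, even_iff_two_dvd] at hodd
    apply hj (f c) (hinv c)
    rw [orderOf_pow, pow_succ] at *
    obtain ⟨k, -, hk⟩ := (Nat.dvd_prime_pow Nat.prime_two).mp (Nat.gcd_dvd_right (orderOf (f c)) (2 ^ i))
    have h3 : orderOf (f c) = orderOf (f c) / Nat.gcd (orderOf (f c)) (2 ^ i) * Nat.gcd (orderOf (f c)) (2 ^ i) :=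
      (Nat.div_mul_cancel (Nat.gcd_dvd_left _ _)).symm
    have h4 : 2 ^ (k + 1) ∣ orderOf (f c) := by
      rw [h3, pow_succ', hk]
      exact Nat.mul_dvd_mul_right (hk ▸ hodd) _
    by_contra hnd
    rcases Nat.lt_or_ge k i with hki | hki
    · have h5 : 2 ^ (k + 1) ∣ Nat.gcd (orderOf (f c)) (2 ^ i) := Nat.dvd_gcd h4 (pow_dvd_pow 2 hki)
      rw [hk] at h5
      have := Nat.le_of_dvd (Nat.two_pow_pos k) h5
      rw [pow_succ] at this
      have := Nat.two_pow_pos k
      omega
    · exact hnd (dvd_trans (by rw [← pow_succ]; exact pow_dvd_pow 2 (by omega)) h4)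
  · rintro ⟨hodd, hg⟩
    have hcop : (2 ^ (i + 1)).Coprime (orderOf g) := (Nat.coprime_two_left.mpr hodd).pow_left _
    obtain ⟨m, hm⟩ := exists_pow_eq_self_of_coprime hcop
    refine ⟨g ^ m, ?_⟩
    rw [(hsq (i + 1) (g ^ m) (by rw [map_pow, hg, inv_pow])).1, ← pow_mul, mul_comm, pow_mul, hm]

end Cfsg.Agent.S3949
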