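import Cfsg.Statements.S3950
import Mathlib
import Cfsg.Agent.Lib.SchurSmall
-- import your own Cfsg.Agent.* helpers here

set_option autoImplicit false
open Cfsg

namespace Cfsg.Agent.S3950

open scoped commutatorElement

/-- A finite abelian group has trivial Schur multiplier if and only if it is cyclic. -/
theorem result {G : Type*} [CommGroup G] [Finite G] : Cfsg.HasCyclicSchurMultiplier G 1 ↔ IsCyclic G := by
  refine ⟨fun h => ?_, fun hc => CfsgLib.SchurSmall.trivial_multiplier fun Γ _ _ σ hσ => ?_⟩
  swap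
  · have hab : ∀ a b : Γ, a * b = b * a := commutative_of_cyclic_center_quotient σ hσ.2.1
    refine le_bot_iff.mp (hσ.2.2.trans ?_)
    rw [commutator_def, Subgroup.commutator_le]
    intro a _ b _
    rw [Subgroup.mem_bot, commutatorElement_eq_one_iff_mul_comm]
    exact hab a b
  classical
  obtain ⟨ι, _, n, hn, ⟨e⟩⟩ := CommGroup.equiv_prod_multiplicative_zmod_of_finite G
  by_contra hnc
  by_cases hcop : Pairwise fun i j => (n i).Coprime (n j)
  · refine hnc ?_
    have : ∀ i, NeZero (n i) := fun i => ⟨by have := hn i; omega⟩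
    let w : ∀ i, Multiplicative (ZMod (n i)) := fun _ => Multiplicative.ofAdd 1
    refine isCyclic_of_orderOf_eq_card (e.symm w) ?_
    rw [MulEquiv.orderOf_eq, Nat.card_congr e.toEquiv]
    refine Nat.dvd_antisymm (orderOf_dvd_natCard w) ?_
    rw [Nat.card_pi]
    refine Finset.prod_dvd_of_isRelPrime (fun i _ j _ hij => ?_) fun i _ => ?_
    · simp only [Function.onFun, Nat.card_congr Multiplicative.toAdd, Nat.card_zmod]
      exact Nat.coprime_iff_isRelPrime.mp (hcop hij)
    · have h1 := orderOf_map_dvd (Pi.evalMonoidHom (fun i => Multiplicative (ZMod (n i))) i) w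
      simpa [w, orderOf_ofAdd_eq_addOrderOf, Nat.card_congr Multiplicative.toAdd] using h1
  · simp only [Pairwise, not_forall] at hcop
    obtain ⟨i, j, hij, hc⟩ := hcop
    obtain ⟨p, hp, hpi, hpj⟩ := Nat.Prime.not_coprime_iff_dvd.mp hc
    have := Fact.mk hp
    let mkf : ∀ (k : ι), p ∣ n k → (Additive G →+ ZMod p) := fun k hk =>
      (ZMod.castHom hk (ZMod p)).toAddMonoidHom.comp
        { toFun := fun a => (e a.toMul k).toAdd
          map_zero' := by simp
          map_add' := fun a b => by simp }
    have hval : ∀ k l (hk : p ∣ n k), mkf k hk (Additive.ofMul (e.symm (Pi.mulSingle l (Multiplicative.ofAdd 1)))) =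
        if k = l then 1 else 0 := by
      intro k l hk
      show (ZMod.castHom hk (ZMod p)) (e (e.symm _) k).toAdd = _
      rw [MulEquiv.apply_symm_apply]
      split_ifs with hkl
      · subst hkl
        rw [Pi.mulSingle_eq_same, toAdd_ofAdd, map_one]
      · rw [Pi.mulSingle_eq_of_ne hkl, toAdd_one, map_zero]
    have hst : Cfsg.IsStemExtension (CfsgLib.SchurSmall.Heis.proj (mkf i hpi) (mkf j hpj)) :=
      CfsgLib.SchurSmall.Heis.stem_of_unit (x := e.symm (Pi.mulSingle i (Multiplicative.ofAdd 1)))
        (y := e.symm (Pi.mulSingle j (Multiplicative.ofAdd 1)))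
        (by rw [hval, hval, hval, hval, if_pos rfl, if_pos rfl, if_neg hij, zero_mul, sub_zero, one_mul])
    have hb := CfsgLib.SchurSmall.ker_eq_bot_of_trivial h _ hst
    obtain ⟨ek⟩ := CfsgLib.SchurSmall.Heis.ker_equiv (f := mkf i hpi) (g := mkf j hpj)
    have h1 := Nat.card_congr ek.toEquiv
    rw [hb, Subgroup.card_bot, Nat.card_congr Multiplicative.toAdd, Nat.card_zmod] at h1
    exact hp.ne_one h1.symm

end Cfsg.Agent.S3950
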