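import Cfsg.Statements.S3951
import Mathlib
import Cfsg.Agent.Lib.SchurSmall
-- import your own Cfsg.Agent.* helpers here

set_option autoImplicit false
open Cfsg

namespace Cfsg.Agent.S3951

open scoped commutatorElement

/-- For positive integers `m` and `n` with `n` dividing `m`, the Schur multiplier of the abelian group `ZMod m × ZMod n` (written multiplicatively) is cyclic of order `n`. In particular the elementary abelian group of order `p ^ 2` has multiplier of order `p`. -/
theorem result (m n : ℕ) [NeZero m] [NeZero n] (hnm : n ∣ m) : Cfsg.HasCyclicSchurMultiplier (Multiplicative (ZMod m × ZMod n)) n := by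
  let f : Additive (Multiplicative (ZMod m × ZMod n)) →+ ZMod n :=
    (ZMod.castHom hnm (ZMod n)).toAddMonoidHom.comp
      { toFun := fun a => a.toMul.toAdd.1
        map_zero' := rfl
        map_add' := fun a b => rfl }
  let g : Additive (Multiplicative (ZMod m × ZMod n)) →+ ZMod n :=
    { toFun := fun a => a.toMul.toAdd.2
      map_zero' := rfl
      map_add' := fun a b => rfl }
  have hst : Cfsg.IsStemExtension (CfsgLib.SchurSmall.Heis.proj f g) :=
    CfsgLib.SchurSmall.Heis.stem_of_unit (x := Multiplicative.ofAdd ((1, 0) : ZMod m × ZMod n))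
      (y := Multiplicative.ofAdd ((0, 1) : ZMod m × ZMod n)) (by simp [f, g, ZMod.cast_one hnm])
  refine ⟨⟨_, inferInstance, inferInstance, _, hst, CfsgLib.SchurSmall.Heis.ker_equiv⟩, fun Γ _ _ σ hσ => ?_⟩
  obtain ⟨a, ha⟩ := hσ.1 (Multiplicative.ofAdd ((1, 0) : ZMod m × ZMod n))
  obtain ⟨b, hb⟩ := hσ.1 (Multiplicative.ofAdd ((0, 1) : ZMod m × ZMod n))
  have hgen : Subgroup.closure {a, b} ⊔ σ.ker = ⊤ := by
    refine CfsgLib.SchurSmall.sup_ker_eq_top σ (eq_top_iff.mpr fun q _ => ?_)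
    rw [ha, hb]
    obtain ⟨⟨i, j⟩, rfl⟩ := Multiplicative.ofAdd.surjective q
    obtain ⟨i', rfl⟩ := ZMod.intCast_surjective i
    obtain ⟨j', rfl⟩ := ZMod.intCast_surjective j
    rw [show Multiplicative.ofAdd (((i' : ZMod m), (j' : ZMod n)) : ZMod m × ZMod n) =
      (Multiplicative.ofAdd ((1, 0) : ZMod m × ZMod n)) ^ i' * (Multiplicative.ofAdd ((0, 1) : ZMod m × ZMod n)) ^ j' by
        rw [← ofAdd_zsmul, ← ofAdd_zsmul, ← ofAdd_add]
        refine congrArg Multiplicative.ofAdd (Prod.ext ?_ ?_)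
        · rw [Prod.fst_add, Prod.smul_fst, Prod.smul_fst, smul_zero, add_zero, zsmul_one]
        · rw [Prod.snd_add, Prod.smul_snd, Prod.smul_snd, smul_zero, zero_add, zsmul_one]]
    exact Subgroup.mul_mem _ (Subgroup.zpow_mem _ (Subgroup.subset_closure (Set.mem_insert _ _)) _)
      (Subgroup.zpow_mem _ (Subgroup.subset_closure (Set.mem_insert_of_mem _ (Set.mem_singleton _))) _)
  have hcK : ⁅b, a⁆ ∈ σ.ker := by
    rw [MonoidHom.mem_ker, map_commutatorElement, commutatorElement_eq_one_iff_mul_comm, mul_comm]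
  have hcc : ∀ x, Commute x ⁅b, a⁆ := fun x => Subgroup.mem_center_iff.mp (hσ.2.1 hcK) x
  have hle := CfsgLib.SchurSmall.commutator_le_zpowers hσ.2.1 hgen (Subgroup.mem_zpowers ⁅b, a⁆)
    (by rw [(hcc a).eq, mul_inv_cancel_right]; exact Subgroup.mem_zpowers _)
    (by rw [(hcc b).eq, mul_inv_cancel_right]; exact Subgroup.mem_zpowers _)
  have hcn : ⁅b, a⁆ ^ n = 1 := by
    have hk : ∀ k : ℕ, ⁅b ^ k, a⁆ = ⁅b, a⁆ ^ k := by
      intro k
      induction k with
      | zero => simp
      | succ k ih =>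
        have e : ⁅b * b ^ k, a⁆ = b * ⁅b ^ k, a⁆ * b⁻¹ * ⁅b, a⁆ := by simp only [commutatorElement_def]; group
        rw [← pow_succ' b k] at e
        rw [e, ih, ((hcc b).pow_right k).eq, mul_inv_cancel_right, ← pow_succ]
    have hbn : b ^ n ∈ σ.ker := by
      rw [MonoidHom.mem_ker, map_pow, hb, ← ofAdd_nsmul]
      simp
    rw [← hk, commutatorElement_eq_one_iff_mul_comm]
    exact (Subgroup.mem_center_iff.mp (hσ.2.1 hbn) a).symm
  have hK : σ.ker ≤ Subgroup.zpowers ⁅b, a⁆ := hσ.2.2.trans hle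
  exact CfsgLib.SchurSmall.exists_surjective_of_cyclic (Subgroup.isCyclic_of_le hK)
    ((Subgroup.card_dvd_of_le hK).trans (Nat.card_zpowers ⁅b, a⁆ ▸ orderOf_dvd_of_pow_eq_one hcn))

end Cfsg.Agent.S3951
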