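import Cfsg.Statements.S3953
import Mathlib
import Cfsg.Agent.Lib.SchurTheory.Restriction
-- import your own Cfsg.Agent.* helpers here

set_option autoImplicit false
open Cfsg

namespace Cfsg.Agent.S3953

/-- Let `P` be a Sylow `p`-subgroup of the finite group `G`, let `A` be the Schur multiplier of `G` and `B` that of `P`. Then the `p`-primary component of `A` is isomorphic to a direct factor of `B`: there are subgroups `C` and `D` of `B` meeting trivially and generating `B`, with `C` isomorphic to the `p`-primary component of `A`. -/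
theorem result {G : Type*} [Group G] [Finite G] (p : ℕ) [Fact p.Prime] (P : Sylow p G) {A B : Type*} [CommGroup A] [CommGroup B] (hA : Cfsg.HasSchurMultiplier G A) (hB : Cfsg.HasSchurMultiplier P B) : ∃ C D : Subgroup B, C ⊓ D = ⊥ ∧ C ⊔ D = ⊤ ∧ Nonempty (CommGroup.primaryComponent A p ≃* C) := by

  haveI := CfsgLib.Schur.finite_of_hasSchur hA
  obtain ⟨res, cor, h⟩ := CfsgLib.Schur.exists_res_cor (P : Subgroup G) hB
  obtain ⟨e⟩ := CfsgLib.Schur.mulEquiv_mult hA (CfsgLib.Schur.basePres_surjective G)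
  have hp : p.Prime := Fact.out
  obtain ⟨a, b, hb, hab⟩ := Nat.exists_eq_pow_mul_and_not_dvd (Nat.card_pos (α := A)).ne' p hp.ne_one
  have hcm : (p ^ a).Coprime (P : Subgroup G).index := ((hp.coprime_iff_not_dvd.mpr P.not_dvd_index)).pow_left a
  have hcb : (p ^ a).Coprime b := (hp.coprime_iff_not_dvd.mpr hb).pow_left a
  haveI : NeZero (p ^ a) := ⟨(pow_pos hp.pos a).ne'⟩
  obtain ⟨k₁, hk₁⟩ : ∃ k : ℕ, (P : Subgroup G).index * k ≡ 1 [MOD p ^ a] := by
    refine ⟨(((P : Subgroup G).index : ZMod (p ^ a))⁻¹).val, (ZMod.natCast_eq_natCast_iff _ _ _).mp ?_⟩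
    rw [Nat.cast_mul, ZMod.natCast_val, ZMod.cast_id', id, ZMod.coe_mul_inv_eq_one _ hcm.symm, Nat.cast_one]
  obtain ⟨k, hka, hkb⟩ := Nat.chineseRemainder hcb k₁ 0
  obtain ⟨b', hb'⟩ := Nat.modEq_zero_iff_dvd.mp hkb
  let S := CommGroup.primaryComponent A p
  have hS : ∀ x : S, x.1 ^ p ^ a = 1 := fun x => by
    obtain ⟨j, hj⟩ := x.2
    obtain ⟨i, -, hi⟩ := (Nat.dvd_prime_pow hp).mp (orderOf_dvd_of_pow_eq_one hj)
    refine orderOf_dvd_iff_pow_eq_one.mp ((?_ : (orderOf x.1).Coprime b).dvd_of_dvd_mul_right (hab ▸ orderOf_dvd_natCard x.1))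
    rw [hi]
    exact (hp.coprime_iff_not_dvd.mpr hb).pow_left i
  let ψ : B →* S := (((powMonoidHom k).comp (e.symm.toMonoidHom.comp cor))).codRestrict S fun y =>
    ⟨a, by
      show ((e.symm (cor y)) ^ k) ^ p ^ a = 1
      rw [← pow_mul, hb', show b * b' * p ^ a = p ^ a * b * b' by ring, ← hab, pow_mul, pow_card_eq_one', one_pow]⟩
  let r : S →* B := res.comp (e.toMonoidHom.comp S.subtype)
  have hψr : ∀ x, ψ (r x) = x := fun x => Subtype.ext (by
    show (e.symm (cor (res (e x.1)))) ^ k = x.1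
    rw [h, map_pow, MulEquiv.symm_apply_apply, ← pow_mul, pow_eq_pow_mod _ (hS x),
      (Nat.ModEq.mul_left (P : Subgroup G).index hka).trans hk₁, ← pow_eq_pow_mod 1 (hS x), pow_one])
  refine ⟨r.range, ψ.ker, ?_, ?_, ⟨r.ofInjective (Function.LeftInverse.injective hψr)⟩⟩
  · rw [eq_bot_iff]
    rintro _ ⟨⟨x, rfl⟩, hx⟩
    have hx' : ψ (r x) = 1 := hx
    rw [hψr] at hx'
    rw [hx', map_one]
    exact Subgroup.one_mem _
  · rw [eq_top_iff]
    intro y _
    rw [show y = r (ψ y) * ((r (ψ y))⁻¹ * y) by group]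
    exact Subgroup.mul_mem_sup ⟨_, rfl⟩ (by rw [MonoidHom.mem_ker, map_mul, map_inv, hψr, inv_mul_cancel])

end Cfsg.Agent.S3953
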