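import Cfsg.Statements.S3954
import Mathlib
import Cfsg.Agent.Lib.SchurTheory.Restriction
-- import your own Cfsg.Agent.* helpers here

set_option autoImplicit false
open Cfsg

namespace Cfsg.Agent.S3954

/-- Let `U` be a subgroup of index `m` in the finite group `G`, let `A` be the Schur multiplier of `G` and `B` that of `U`. Then the subgroup of `m`-th powers of `A` is isomorphic to a subgroup of `B`. -/
theorem result {G : Type*} [Group G] [Finite G] (U : Subgroup G) {A B : Type*} [CommGroup A] [CommGroup B] (hA : Cfsg.HasSchurMultiplier G A) (hB : Cfsg.HasSchurMultiplier U B) : ∃ C : Subgroup B, Nonempty ((powMonoidHom U.index : A →* A).range ≃* C) := by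

  haveI := CfsgLib.Schur.finite_of_hasSchur hA
  haveI := CfsgLib.Schur.finite_of_hasSchur hB
  obtain ⟨res, cor, h⟩ := CfsgLib.Schur.exists_res_cor U hB
  obtain ⟨e⟩ := CfsgLib.Schur.mulEquiv_mult hA (CfsgLib.Schur.basePres_surjective G)
  let r : A →* B := res.comp e.toMonoidHom
  let c : B →* A := e.symm.toMonoidHom.comp cor
  have hrc : ∀ a, c (r a) = a ^ U.index := fun a => by
    show e.symm (cor (res (e a))) = _
    rw [h, map_pow, MulEquiv.symm_apply_apply]
  let f : r.range →* (powMonoidHom U.index : A →* A).range :=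
    (c.comp r.range.subtype).codRestrict _ fun x => by
      obtain ⟨_, a, rfl⟩ := x
      exact ⟨a, (hrc a).symm⟩
  obtain ⟨g, hg⟩ := CfsgLib.Schur.embed_of_subquotient r.range.subtype Subtype.val_injective f fun y => by
    obtain ⟨_, a, rfl⟩ := y
    exact ⟨⟨r a, a, rfl⟩, Subtype.ext (hrc a)⟩
  exact ⟨g.range, ⟨g.ofInjective hg⟩⟩

end Cfsg.Agent.S3954
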