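import Cfsg.Statements.S3957
import Mathlib
import Cfsg.Agent.Lib.SchurTheory.Hopf
-- import your own Cfsg.Agent.* helpers here

set_option autoImplicit false
universe u v
open Cfsg

namespace Cfsg.Agent.S3957

/-- Let `Q` be a finite group with Schur multiplier `A` and let `τ : Δ →* Q` be a finite stem extension, `Δ` in the universe of `Q`. Then there is a finite stem extension `σ : Γ →* Q` with kernel isomorphic to `A` (a Schur covering group) and a surjective homomorphism `β : Γ →* Δ` with `τ ∘ β = σ`. -/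
theorem result {Q : Type u} [Group Q] [Finite Q] {A : Type v} [CommGroup A] (hA : Cfsg.HasSchurMultiplier Q A) {Δ : Type u} [Group Δ] [Finite Δ] (τ : Δ →* Q) (hτ : Cfsg.IsStemExtension τ) : ∃ (Γ : Type u) (_ : Group Γ) (_ : Finite Γ) (σ : Γ →* Q), Cfsg.IsStemExtension σ ∧ Nonempty (σ.ker ≃* A) ∧ ∃ β : Γ →* Δ, Function.Surjective β ∧ τ.comp β = σ := by

  open CfsgLib.Schur in
  have hπ := basePres_surjective Q
  open CfsgLib.Schur in
  obtain ⟨η, hη⟩ := exists_lift (π := basePres Q) hτ.1 hτ.2.1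
  open CfsgLib.Schur in
  obtain ⟨hsurj, hmap⟩ := surjective_of_stem hπ hτ.2.1 hτ.2.2 hη
  open CfsgLib.Schur in
  have hN : η.ker ≤ (proj (basePres Q)).ker := fun x hx => by
    rw [MonoidHom.mem_ker, ← hη, MonoidHom.comp_apply, MonoidHom.mem_ker.mp hx, map_one]
  open CfsgLib.Schur in
  have hsup : η.ker ⊔ mult (basePres Q) = (proj (basePres Q)).ker := by
    refine le_antisymm (sup_le hN inf_le_left) fun x hx => ?_
    have hx' : η x ∈ τ.ker := by
      rw [MonoidHom.mem_ker, ← MonoidHom.comp_apply, hη]; exact hx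
    rw [← hmap] at hx'
    obtain ⟨m, hm, hmx⟩ := hx'
    rw [show x = x * m⁻¹ * m by group]
    exact Subgroup.mul_mem_sup (by rw [MonoidHom.mem_ker, map_mul, map_inv, hmx, mul_inv_cancel]) hm
  obtain ⟨L, hLN, hLn, h1, h2⟩ := CfsgLib.Schur.exists_compl η.ker hN hsup
  obtain ⟨hfin, hst, e, -⟩ := CfsgLib.Schur.cover_spec hπ (hLN.trans hN) h1 h2
  obtain ⟨e'⟩ := CfsgLib.Schur.mulEquiv_mult hA hπ
  refine ⟨_, inferInstance, hfin, _, hst, ⟨e.symm.trans e'.symm⟩, QuotientGroup.lift L η hLN, fun d => ?_, ?_⟩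
  · obtain ⟨x, rfl⟩ := hsurj d
    exact ⟨x, rfl⟩
  · exact MonoidHom.ext fun z => QuotientGroup.induction_on z fun x => DFunLike.congr_fun hη x

end Cfsg.Agent.S3957
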