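import Cfsg.Statements.S3958
import Mathlib
import Cfsg.Agent.Lib.SchurTheory.Hopf
-- import your own Cfsg.Agent.* helpers here

set_option autoImplicit false
universe u v
open Cfsg

namespace Cfsg.Agent.S3958

/-- Let `σ : Γ →* Q` be a finite stem extension of the finite group `Q` with `Γ` of trivial Schur multiplier. Then `σ` is a Schur covering group of `Q`: for every finite stem extension `τ : Δ →* Q` with `Δ` in the same universe as `Q`, the kernel of `τ` is a homomorphic image of the kernel of `σ`. -/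
theorem result {Q : Type u} [Group Q] [Finite Q] {Γ : Type v} [Group Γ] [Finite Γ] (σ : Γ →* Q) (hσ : Cfsg.IsStemExtension σ) (hΓ : Cfsg.HasCyclicSchurMultiplier Γ 1) (Δ : Type u) [Group Δ] [Finite Δ] (τ : Δ →* Q) (hτ : Cfsg.IsStemExtension τ) : ∃ π : σ.ker →* τ.ker, Function.Surjective π := by

  refine CfsgLib.Schur.exists_surjective_of_card hσ ?_ hτ
  have hπ := CfsgLib.Schur.basePres_surjective Q
  obtain ⟨η, hη⟩ := CfsgLib.Schur.exists_lift (π := CfsgLib.Schur.basePres Q) hσ.1 hσ.2.1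
  obtain ⟨hsurj, hmap⟩ := CfsgLib.Schur.surjective_of_stem hπ hσ.2.1 hσ.2.2 hη
  have hN : η.ker ≤ (CfsgLib.Schur.proj (CfsgLib.Schur.basePres Q)).ker := fun x hx => by
    rw [MonoidHom.mem_ker, ← hη, MonoidHom.comp_apply, MonoidHom.mem_ker.mp hx, map_one]
  have hsup : η.ker ⊔ CfsgLib.Schur.mult (CfsgLib.Schur.basePres Q) = (CfsgLib.Schur.proj (CfsgLib.Schur.basePres Q)).ker := by
    refine le_antisymm (sup_le hN inf_le_left) fun x hx => ?_
    have hx' : η x ∈ σ.ker := by
      rw [MonoidHom.mem_ker, ← MonoidHom.comp_apply, hη]; exact hx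
    rw [← hmap] at hx'
    obtain ⟨m, hm, hmx⟩ := hx'
    rw [show x = x * m⁻¹ * m by group]
    exact Subgroup.mul_mem_sup (by rw [MonoidHom.mem_ker, map_mul, map_inv, hmx, mul_inv_cancel]) hm
  obtain ⟨L, hLN, hLn, h1, h2⟩ := CfsgLib.Schur.exists_compl η.ker hN hsup
  obtain ⟨hfin, hst, e, -⟩ := CfsgLib.Schur.cover_spec hπ (hLN.trans hN) h1 h2
  haveI := hfin
  let β := QuotientGroup.lift L η hLN
  have hβker : β.ker ≤ (CfsgLib.Schur.coverMap (CfsgLib.Schur.basePres Q) (hLN.trans hN)).ker := by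
    intro z hz
    induction z using QuotientGroup.induction_on with
    | _ x => exact hN hz
  have hβ : Cfsg.IsStemExtension β := ⟨fun d => by obtain ⟨x, rfl⟩ := hsurj d; exact ⟨x, rfl⟩,
    hβker.trans hst.2.1, hβker.trans hst.2.2⟩
  have p := CfsgLib.Schur.ker_eq_bot_of_trivial_any hΓ hβ
  have hinj : Function.Injective β := (MonoidHom.ker_eq_bot_iff β).mp p
  rw [Nat.card_congr e.toEquiv]
  refine Nat.card_le_card_of_injective (fun z => (⟨β z.1, ?_⟩ : σ.ker)) fun a b h => Subtype.ext (hinj (congrArg Subtype.val h))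
  obtain ⟨z, hz⟩ := z
  induction z using QuotientGroup.induction_on with
  | _ x =>
    rw [MonoidHom.mem_ker]
    show σ (η x) = 1
    rw [← MonoidHom.comp_apply, hη]
    exact hz

end Cfsg.Agent.S3958
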