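import Cfsg.Statements.S3962
import Mathlib
-- import your own Cfsg.Agent.* helpers here

set_option autoImplicit false
open Cfsg

namespace Cfsg.Agent.S3962

open scoped commutatorElement

/-- Let `G` be a perfect group and `π : G →* Q` a surjective homomorphism whose kernel is central. Then `π` maps the centre of `G` onto the centre of `Q`. Taking `π` to be the map to `G ⧸ Z(G)` shows that the central quotient of a perfect group has trivial centre. -/
theorem result {G Q : Type*} [Group G] [Group Q] (hG : Group.IsPerfect G) (π : G →* Q) (hπ : Function.Surjective π) (hker : π.ker ≤ Subgroup.center G) : (Subgroup.center G).map π = Subgroup.center Q := by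
  refine le_antisymm ?_ fun q hq => ?_
  · rintro _ ⟨z, hz, rfl⟩
    rw [Subgroup.mem_center_iff]
    intro q
    obtain ⟨g, rfl⟩ := hπ q
    rw [← map_mul, Subgroup.mem_center_iff.mp hz g, map_mul]
  · obtain ⟨z, rfl⟩ := hπ q
    refine ⟨z, ?_, rfl⟩
    have hc : ∀ g : G, z * g * z⁻¹ * g⁻¹ ∈ Subgroup.center G := fun g => hker (by
      rw [MonoidHom.mem_ker, map_mul, map_mul, map_mul, map_inv, map_inv,
        ← Subgroup.mem_center_iff.mp hq (π g)]
      group)
    let f : G →* Subgroup.center G := MonoidHom.mk' (fun g => ⟨z * g * z⁻¹ * g⁻¹, hc g⟩) fun a b => by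
      apply Subtype.ext
      show z * (a * b) * z⁻¹ * (a * b)⁻¹ = (z * a * z⁻¹ * a⁻¹) * (z * b * z⁻¹ * b⁻¹)
      calc z * (a * b) * z⁻¹ * (a * b)⁻¹ = (z * a * z⁻¹) * ((z * b * z⁻¹ * b⁻¹) * a⁻¹) := by group
        _ = (z * a * z⁻¹) * (a⁻¹ * (z * b * z⁻¹ * b⁻¹)) := by rw [(Subgroup.mem_center_iff.mp (hc b) a⁻¹).symm]
        _ = _ := by group
    rw [SetLike.mem_coe, Subgroup.mem_center_iff]
    intro g
    haveI := hG
    have hle : commutator G ≤ f.ker := by
      rw [commutator_def, Subgroup.commutator_le]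
      intro a _ b _
      rw [MonoidHom.mem_ker, map_commutatorElement, commutatorElement_eq_one_iff_mul_comm]
      exact Subtype.ext (Subgroup.mem_center_iff.mp (f b).2 (f a))
    have h1 : g ∈ f.ker := hle Group.IsPerfect.mem_commutator
    have h2 : z * g * z⁻¹ * g⁻¹ = 1 := congrArg Subtype.val (MonoidHom.mem_ker.mp h1)
    calc g * z = (z * g * z⁻¹ * g⁻¹) * (g * z) := by rw [h2, one_mul]
      _ = z * g := by group

end Cfsg.Agent.S3962
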