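import Cfsg.Statements.S3963
import Mathlib
import Cfsg.Agent.Lib.SchurSmall
-- import your own Cfsg.Agent.* helpers here

set_option autoImplicit false
open Cfsg

namespace Cfsg.Agent.S3963

open scoped commutatorElement

/-- For every `n ≥ 1` the dicyclic (generalized quaternion) group of order `4 n` has trivial Schur multiplier. -/
theorem result (n : ℕ) [NeZero n] : Cfsg.HasCyclicSchurMultiplier (QuaternionGroup n) 1 := by
  refine CfsgLib.SchurSmall.trivial_multiplier fun Γ _ _ σ hσ => ?_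
  obtain ⟨a, ha⟩ := hσ.1 (QuaternionGroup.a 1)
  obtain ⟨b, hb⟩ := hσ.1 (QuaternionGroup.xa 0)
  have hgen : Subgroup.closure {a, b} ⊔ σ.ker = ⊤ := by
    refine CfsgLib.SchurSmall.sup_ker_eq_top σ (eq_top_iff.mpr fun q _ => ?_)
    rw [ha, hb]
    have hr : ∀ i : ZMod (2 * n), QuaternionGroup.a i ∈ Subgroup.closure ({QuaternionGroup.a 1, QuaternionGroup.xa 0} : Set (QuaternionGroup n)) := fun i => by
      obtain ⟨i', rfl⟩ := ZMod.natCast_zmod_surjective i
      rw [← QuaternionGroup.a_one_pow]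
      exact Subgroup.pow_mem _ (Subgroup.subset_closure (Set.mem_insert _ _)) _
    rcases q with i | i
    · exact hr i
    · rw [show QuaternionGroup.xa i = QuaternionGroup.xa 0 * QuaternionGroup.a i by simp]
      exact Subgroup.mul_mem _ (Subgroup.subset_closure (Set.mem_insert_of_mem _ rfl)) (hr i)
  have hw : b * a * b⁻¹ * a ∈ σ.ker := by
    have e1 : QuaternionGroup.xa 0 * QuaternionGroup.a 1 * (QuaternionGroup.xa (0 : ZMod (2 * n)))⁻¹ = QuaternionGroup.a (-1) := by
      rw [mul_inv_eq_iff_eq_mul]; simp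
    rw [MonoidHom.mem_ker, map_mul, map_mul, map_mul, map_inv, ha, hb, e1]
    simp
  have hz : a ^ n * (b * b)⁻¹ ∈ σ.ker := by
    rw [MonoidHom.mem_ker, map_mul, map_inv, map_mul, map_pow, ha, hb, QuaternionGroup.a_one_pow, QuaternionGroup.xa_mul_xa]
    simp
  have hcomm : Commute b (a ^ n) := by
    have h1 : Commute b (a ^ n * (b * b)⁻¹ * (b * b)) :=
      (show Commute b (a ^ n * (b * b)⁻¹) from Subgroup.mem_center_iff.mp (hσ.2.1 hz) b).mul_right
        ((Commute.refl b).mul_right (Commute.refl b))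
    rwa [inv_mul_cancel_right] at h1
  obtain ⟨h1, h2⟩ := CfsgLib.SchurSmall.inversion_type hσ.2.1 hgen hw hcomm
  rw [eq_bot_iff]
  intro x hx
  obtain ⟨k, rfl⟩ := mem_powers_iff_mem_zpowers.mpr (h1 (hσ.2.2 hx))
  have hk := MonoidHom.mem_ker.mp hx
  simp only [map_pow, map_mul, MonoidHom.mem_ker.mp hw, mul_one, map_inv, ha, inv_pow, inv_eq_one,
    ← pow_mul] at hk
  rw [QuaternionGroup.a_one_pow, QuaternionGroup.one_def, QuaternionGroup.a.injEq, ZMod.natCast_eq_zero_iff] at hk
  obtain ⟨t, rfl⟩ := Nat.dvd_of_mul_dvd_mul_left two_pos hk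
  show _ ^ (n * t) ∈ (⊥ : Subgroup Γ)
  rw [pow_mul, h2, one_pow]
  exact one_mem _

end Cfsg.Agent.S3963
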