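import Cfsg.Statements.S3964
import Mathlib
import Cfsg.Agent.Lib.SchurSmall
-- import your own Cfsg.Agent.* helpers here

set_option autoImplicit false
open Cfsg

namespace Cfsg.Agent.S3964

open scoped commutatorElement

theorem lifts (n : ℕ) {Γ : Type} [Group Γ] [Finite Γ] (σ : Γ →* DihedralGroup n) (hσ : Cfsg.IsStemExtension σ) :
    ∃ c : Γ, commutator Γ ≤ Subgroup.zpowers c ∧ c ^ n = 1 ∧ ∀ k : ℕ, c ^ k ∈ σ.ker → n ∣ 2 * k := by
  obtain ⟨a, ha⟩ := hσ.1 (DihedralGroup.r 1)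
  obtain ⟨b, hb⟩ := hσ.1 (DihedralGroup.sr 0)
  have hgen : Subgroup.closure {a, b} ⊔ σ.ker = ⊤ := by
    refine CfsgLib.SchurSmall.sup_ker_eq_top σ (eq_top_iff.mpr fun q _ => ?_)
    rw [ha, hb]
    have hr : ∀ i : ZMod n, DihedralGroup.r i ∈ Subgroup.closure ({DihedralGroup.r 1, DihedralGroup.sr 0} : Set (DihedralGroup n)) := fun i => by
      obtain ⟨i', rfl⟩ := ZMod.intCast_surjective i
      rw [← DihedralGroup.r_one_zpow]
      exact Subgroup.zpow_mem _ (Subgroup.subset_closure (Set.mem_insert _ _)) _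
    rcases q with i | i
    · exact hr i
    · rw [show DihedralGroup.sr i = DihedralGroup.sr 0 * DihedralGroup.r i by simp]
      exact Subgroup.mul_mem _ (Subgroup.subset_closure (Set.mem_insert_of_mem _ rfl)) (hr i)
  have hw : b * a * b⁻¹ * a ∈ σ.ker := by
    rw [MonoidHom.mem_ker, map_mul, map_mul, map_mul, map_inv, ha, hb, inv_eq_of_mul_eq_one_right (DihedralGroup.sr_mul_self 0)]
    simp
  have hn : a ^ n ∈ σ.ker := by
    rw [MonoidHom.mem_ker, map_pow, ha, DihedralGroup.r_one_pow]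
    simp
  obtain ⟨h1, h2⟩ := CfsgLib.SchurSmall.inversion_type hσ.2.1 hgen hw
    (show Commute b (a ^ n) from Subgroup.mem_center_iff.mp (hσ.2.1 hn) b)
  refine ⟨_, h1, h2, fun k hk => ?_⟩
  rw [MonoidHom.mem_ker, map_pow, map_mul, MonoidHom.mem_ker.mp hw, mul_one, map_inv, map_pow, ha, inv_pow, inv_eq_one,
    ← pow_mul, DihedralGroup.r_one_pow, DihedralGroup.one_def, DihedralGroup.r.injEq] at hk
  exact (ZMod.natCast_eq_zero_iff _ _).mp hk

/-- For odd `n` the dihedral group of order `2 n` has trivial Schur multiplier. -/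
theorem result (n : ℕ) (hn : Odd n) : Cfsg.HasCyclicSchurMultiplier (DihedralGroup n) 1 := by
  have : NeZero n := ⟨(Odd.pos hn).ne'⟩
  refine CfsgLib.SchurSmall.trivial_multiplier fun Γ _ _ σ hσ => ?_
  obtain ⟨c, hle, hcn, hk⟩ := lifts n σ hσ
  rw [eq_bot_iff]
  intro x hx
  obtain ⟨k, rfl⟩ := mem_powers_iff_mem_zpowers.mpr (hle (hσ.2.2 hx))
  obtain ⟨t, rfl⟩ := ((Nat.coprime_two_right.mpr hn).dvd_of_dvd_mul_left (hk k hx))
  show c ^ (n * t) ∈ (⊥ : Subgroup Γ)
  rw [pow_mul, hcn, one_pow]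
  exact one_mem _

end Cfsg.Agent.S3964
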