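import Cfsg.Statements.S3966
import Mathlib
-- import your own Cfsg.Agent.* helpers here

set_option autoImplicit false
open Cfsg

namespace Cfsg.Agent.S3966

/-- For even `n ≥ 2` the dicyclic group of order `4 n` is a stem extension of the dihedral group of order `2 n` with kernel of order `2`: there is a surjective homomorphism `QuaternionGroup n →* DihedralGroup n` whose kernel is central, lies in the commutator subgroup and has two elements. Together with the order of the multiplier this exhibits the dicyclic group as a Schur covering group of the dihedral group. -/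
theorem result (n : ℕ) [NeZero n] (hn : Even n) : ∃ σ : QuaternionGroup n →* DihedralGroup n, Cfsg.IsStemExtension σ ∧ Nat.card σ.ker = 2 := by
  obtain ⟨m, hm⟩ := hn
  let c : ZMod (2 * n) →+* ZMod n := ZMod.castHom (dvd_mul_left n 2) (ZMod n)
  let φ : QuaternionGroup n → DihedralGroup n := fun g => match g with
    | QuaternionGroup.a i => DihedralGroup.r (c i)
    | QuaternionGroup.xa i => DihedralGroup.sr (c i)
  let σ : QuaternionGroup n →* DihedralGroup n := MonoidHom.mk' φ (by
    rintro (i | i) (j | j)
    · show φ (QuaternionGroup.a (i + j)) = _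
      simp [φ, map_add]
    · show φ (QuaternionGroup.xa (j - i)) = _
      simp [φ, map_sub]
    · show φ (QuaternionGroup.xa (i + j)) = _
      simp [φ, map_add]
    · show φ (QuaternionGroup.a (n + j - i)) = _
      simp [φ, map_add, map_sub])
  have hc0 : ∀ i : ZMod (2 * n), c i = 0 ↔ i = 0 ∨ i = (n : ZMod (2 * n)) := by
    intro i
    have hlt := ZMod.val_lt i
    constructor
    · intro h
      rw [← ZMod.natCast_zmod_val i, map_natCast, ZMod.natCast_eq_zero_iff] at h
      obtain ⟨t, ht⟩ := h
      rcases t with _ | _ | t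
      · exact Or.inl ((ZMod.val_eq_zero i).mp (by simpa using ht))
      · exact Or.inr (by rw [← ZMod.natCast_zmod_val i, ht]; simp)
      · rw [ht] at hlt; nlinarith
    · rintro (rfl | rfl) <;> simp
  have hker : ∀ g, g ∈ σ.ker ↔ g = QuaternionGroup.a 0 ∨ g = QuaternionGroup.a (n : ZMod (2 * n)) := by
    rintro (i | i)
    · rw [MonoidHom.mem_ker]
      show DihedralGroup.r (c i) = 1 ↔ _
      rw [DihedralGroup.one_def, DihedralGroup.r.injEq, QuaternionGroup.a.injEq, QuaternionGroup.a.injEq, hc0]
    · rw [MonoidHom.mem_ker]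
      show DihedralGroup.sr (c i) = 1 ↔ _
      refine iff_of_false (by simp [DihedralGroup.one_def, -DihedralGroup.r_zero]) ?_
      rintro (h | h) <;> exact absurd h (by simp [QuaternionGroup.one_def, -QuaternionGroup.a_zero])
  have hnn : ((n : ℕ) : ZMod (2 * n)) + n = 0 := by
    rw [← Nat.cast_add, ← two_mul, ZMod.natCast_self]
  refine ⟨σ, ⟨?_, ?_, ?_⟩, ?_⟩
  · rintro (i | i)
    · obtain ⟨j, rfl⟩ := ZMod.castHom_surjective (dvd_mul_left n 2) i
      exact ⟨QuaternionGroup.a j, rfl⟩
    · obtain ⟨j, rfl⟩ := ZMod.castHom_surjective (dvd_mul_left n 2) i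
      exact ⟨QuaternionGroup.xa j, rfl⟩
  · intro g hg
    rw [Subgroup.mem_center_iff]
    rcases (hker g).mp hg with rfl | rfl
    · exact fun h => by rw [show QuaternionGroup.a (0 : ZMod (2 * n)) = 1 from rfl, mul_one, one_mul]
    · rintro (i | i)
      · simp [add_comm]
      · simp only [QuaternionGroup.xa_mul_a, QuaternionGroup.a_mul_xa, QuaternionGroup.xa.injEq]
        rw [eq_sub_iff_add_eq, add_assoc, hnn, add_zero]
  · intro g hg
    rcases (hker g).mp hg with rfl | rfl
    · exact one_mem _
    · have hmem := Subgroup.commutator_mem_commutator (H₁ := (⊤ : Subgroup (QuaternionGroup n))) (H₂ := ⊤)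
        (g₁ := QuaternionGroup.a (m : ZMod (2 * n))) (g₂ := QuaternionGroup.xa 0) trivial trivial
      rw [commutator_def]
      convert hmem using 1
      rw [commutatorElement_def]
      have e1 : (QuaternionGroup.a (m : ZMod (2 * n)))⁻¹ = QuaternionGroup.a (-(m : ZMod (2 * n))) := rfl
      have e2 : (QuaternionGroup.xa (0 : ZMod (2 * n)))⁻¹ = QuaternionGroup.xa ((n : ZMod (2 * n)) + 0) := rfl
      rw [e1, e2]
      simp only [QuaternionGroup.a_mul_xa, QuaternionGroup.xa_mul_a, QuaternionGroup.xa_mul_xa,
        QuaternionGroup.a.injEq]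
      have h4 : ((4 * m : ℕ) : ZMod (2 * n)) = 0 := by
        rw [show 4 * m = 2 * n by omega]; exact ZMod.natCast_self _
      push_cast at h4
      have hnm : (n : ZMod (2 * n)) = m + m := by rw [← Nat.cast_add]; exact congrArg Nat.cast hm
      rw [hnm]; linear_combination (-1 : ZMod (2 * n)) * h4
  · rw [Nat.card_eq_two_iff]
    refine ⟨⟨QuaternionGroup.a 0, (hker _).mpr (Or.inl rfl)⟩,
      ⟨QuaternionGroup.a (n : ZMod (2 * n)), (hker _).mpr (Or.inr rfl)⟩, ?_, ?_⟩
    · simp only [ne_eq, Subtype.mk.injEq, QuaternionGroup.a.injEq]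
      intro h
      have h2 := (ZMod.natCast_eq_zero_iff n (2 * n)).mp h.symm
      exact absurd (Nat.le_of_dvd (Nat.pos_of_neZero n) h2) (by have := Nat.pos_of_neZero n; omega)
    · refine Set.eq_univ_of_forall fun ⟨g, hg⟩ => ?_
      rcases (hker g).mp hg with rfl | rfl
      · exact Or.inl rfl
      · exact Or.inr rfl

end Cfsg.Agent.S3966
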