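import Cfsg.Statements.S3967
import Mathlib
import Cfsg.Agent.Lib.SchurTheory.MetacyclicModel
import Cfsg.Agent.Lib.SchurSmall
-- import your own Cfsg.Agent.* helpers here

set_option autoImplicit false
open Cfsg

namespace Cfsg.Agent.S3967

namespace Aux

open CfsgLib.Schur
open scoped commutatorElement

theorem coprime_lift {m₀ g : ℕ} (hg : g ≠ 0) (hm₀ : m₀ ≠ 0) {u : ℕ} (hu : Nat.Coprime u m₀) :
    ∃ u' : ℕ, Nat.Coprime u' (m₀ * g) ∧ u' ≡ u [MOD m₀] := by
  haveI : NeZero (m₀ * g) := ⟨Nat.mul_ne_zero hm₀ hg⟩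
  haveI : NeZero m₀ := ⟨hm₀⟩
  obtain ⟨v, hv⟩ := ZMod.unitsMap_surjective (dvd_mul_right m₀ g) (ZMod.unitOfCoprime u hu)
  refine ⟨(v : ZMod (m₀ * g)).val, ZMod.val_coe_unit_coprime v, (ZMod.natCast_eq_natCast_iff _ _ _).mp ?_⟩
  have h := congrArg Units.val hv
  rw [ZMod.coe_unitOfCoprime, ZMod.unitsMap_def, Units.coe_map] at h
  rw [← h]
  show _ = ZMod.castHom (dvd_mul_right m₀ g) (ZMod m₀) (v : ZMod (m₀ * g))
  conv_rhs => rw [← ZMod.natCast_zmod_val (v : ZMod (m₀ * g)), map_natCast]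

theorem main (m n r l : ℕ) (hm : 0 < m) (hn : 0 < n) (hr : 0 < r) (hrn : r ^ n ≡ 1 [MOD m]) :
    Cfsg.HasCyclicSchurMultiplier (PresentedGroup ({FreeGroup.of true ^ m,
      (FreeGroup.of false) ^ n * (FreeGroup.of true ^ (m * l / Nat.gcd m (r - 1)))⁻¹,
      FreeGroup.of false * FreeGroup.of true * (FreeGroup.of false)⁻¹ * (FreeGroup.of true ^ r)⁻¹} : Set (FreeGroup Bool)))
      (Nat.gcd l (Nat.gcd m (r - 1) * Nat.gcd m (∑ i ∈ Finset.range n, r ^ i) / m)) := by
  set d := Nat.gcd m (r - 1) with hd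
  have hd0 : 0 < d := Nat.gcd_pos_of_pos_left _ hm
  obtain ⟨m₀, hm₀⟩ : d ∣ m := Nat.gcd_dvd_left _ _
  obtain ⟨u, hu⟩ : d ∣ r - 1 := Nat.gcd_dvd_right _ _
  have hm₀0 : m₀ ≠ 0 := fun h => by rw [h, mul_zero] at hm₀; omega
  have hcop : Nat.Coprime u m₀ := by
    rw [Nat.coprime_comm, Nat.coprime_iff_gcd_eq_one]
    have h := hd
    rw [hu, hm₀, Nat.gcd_mul_left] at h
    exact (Nat.eq_of_mul_eq_mul_left hd0 (by rw [mul_one]; exact h.symm))
  set S := ∑ i ∈ Finset.range n, r ^ i with hS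
  obtain ⟨s, hs⟩ : m₀ ∣ S := by
    have h1 : m ∣ S * (r - 1) := by
      rw [geom_sum_mul_of_one_le hr]
      exact (Nat.modEq_iff_dvd' (Nat.one_le_pow n r hr)).mp hrn.symm
    rw [hu, hm₀, mul_left_comm] at h1
    exact (Nat.Coprime.dvd_of_dvd_mul_right hcop.symm (Nat.dvd_of_mul_dvd_mul_left hd0 h1))
  have hh : d * Nat.gcd m S / m = Nat.gcd d s := by
    rw [hs, hm₀, mul_comm d m₀, Nat.gcd_mul_left, ← mul_assoc, mul_comm d m₀]
    exact Nat.mul_div_cancel_left _ (Nat.pos_of_ne_zero (Nat.mul_ne_zero hm₀0 hd0.ne'))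
  rw [hh]
  set g := Nat.gcd l (Nat.gcd d s) with hg
  have hgd : g ∣ d := (Nat.gcd_dvd_right _ _).trans (Nat.gcd_dvd_left _ _)
  have hgs : g ∣ s := (Nat.gcd_dvd_right _ _).trans (Nat.gcd_dvd_right _ _)
  have hgl : g ∣ l := Nat.gcd_dvd_left _ _
  have hg0 : g ≠ 0 := fun h => hd0.ne' (Nat.eq_zero_of_zero_dvd (h ▸ hgd))
  have ht : m * l / d = m₀ * l := by rw [hm₀, mul_assoc, Nat.mul_div_cancel_left _ hd0]
  rw [ht]
  set rels : Set (FreeGroup Bool) := {FreeGroup.of true ^ m,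
      (FreeGroup.of false) ^ n * (FreeGroup.of true ^ (m₀ * l))⁻¹,
      FreeGroup.of false * FreeGroup.of true * (FreeGroup.of false)⁻¹ * (FreeGroup.of true ^ r)⁻¹} with hrels
  let a : PresentedGroup rels := PresentedGroup.of true
  let b : PresentedGroup rels := PresentedGroup.of false
  have hrel : ∀ x ∈ rels, PresentedGroup.mk rels x = 1 := fun x hx =>
    (QuotientGroup.eq_one_iff x).mpr (Subgroup.subset_normalClosure hx)
  have ha : a ^ m = 1 := by
    have h := hrel (FreeGroup.of true ^ m) (Set.mem_insert _ _)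
    rwa [map_pow] at h
  have hbn : b ^ n = a ^ (m₀ * l) := by
    have h := hrel ((FreeGroup.of false) ^ n * (FreeGroup.of true ^ (m₀ * l))⁻¹) (Set.mem_insert_of_mem _ (Set.mem_insert _ _))
    rwa [map_mul, map_inv, map_pow, map_pow, mul_inv_eq_one] at h
  have hba : b * a * b⁻¹ = a ^ r := by
    have h := hrel (FreeGroup.of false * FreeGroup.of true * (FreeGroup.of false)⁻¹ * (FreeGroup.of true ^ r)⁻¹)
      (Set.mem_insert_of_mem _ (Set.mem_insert_of_mem _ rfl))
    rwa [map_mul, map_mul, map_mul, map_inv, map_inv, map_pow, mul_inv_eq_one] at h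
  have hgen : Subgroup.closure ({a, b} : Set (PresentedGroup rels)) = ⊤ := by
    rw [← PresentedGroup.closure_range_of rels]
    congr 1
    ext x
    constructor
    · rintro (rfl | rfl)
      exacts [⟨true, rfl⟩, ⟨false, rfl⟩]
    · rintro ⟨_ | _, rfl⟩
      exacts [Or.inr rfl, Or.inl rfl]
  -- the model of the group
  have hru : r = 1 + d * u := by omega
  have htr : ((m₀ * l : ℕ) : ZMod m) * r = ((m₀ * l : ℕ) : ZMod m) := by
    rw [← Nat.cast_mul, hru, mul_add, mul_one, show m₀ * l * (d * u) = m * (l * u) by rw [hm₀]; ring, Nat.cast_add,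
      Nat.cast_mul m, ZMod.natCast_self, zero_mul, add_zero]
  have hr1 : (r : ZMod m) ^ n = 1 := by
    rw [← Nat.cast_pow, ← Nat.cast_one]; exact (ZMod.natCast_eq_natCast_iff _ _ _).mpr hrn
  let D₀ : MCData := ⟨m, n, r, m₀ * l, hm.ne', hn.ne', hr1, htr⟩
  obtain ⟨ψ₀, hψA, hψB⟩ := D₀.exists_hom a b ha hba hbn
  have hsurj₀ : Function.Surjective ψ₀ := by
    rw [← MonoidHom.range_eq_top, eq_top_iff, ← hgen, Subgroup.closure_le]
    rintro x (rfl | rfl)
    exacts [⟨_, hψA⟩, ⟨_, hψB⟩]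
  haveI : Finite (PresentedGroup rels) := by
    haveI := MCData.finite_model (D := D₀)
    exact Finite.of_surjective ψ₀ hsurj₀
  let fgen : Bool → MCData.Model D₀ := fun x => if x = true then MCData.gA D₀ else MCData.gB D₀
  have hφrel : ∀ x ∈ rels, FreeGroup.lift fgen x = 1 := by
    rintro x (rfl | rfl | rfl)
    · rw [map_pow, FreeGroup.lift_apply_of]; exact MCData.gA_pow_M (D := D₀)
    · rw [map_mul, map_inv, map_pow, map_pow, FreeGroup.lift_apply_of, FreeGroup.lift_apply_of, mul_inv_eq_one]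
      exact MCData.gB_pow_n (D := D₀)
    · rw [map_mul, map_mul, map_mul, map_inv, map_inv, map_pow, FreeGroup.lift_apply_of, FreeGroup.lift_apply_of,
        mul_inv_eq_one]
      exact MCData.gB_conj (D := D₀)
  let φ := PresentedGroup.toGroup hφrel
  have hφa : φ a = MCData.gA D₀ := (PresentedGroup.toGroup.of hφrel).trans rfl
  have hφb : φ b = MCData.gB D₀ := (PresentedGroup.toGroup.of hφrel).trans rfl
  have hoa : orderOf a = m := by
    refine Nat.dvd_antisymm (orderOf_dvd_of_pow_eq_one ha) ?_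
    have h := orderOf_map_dvd φ a
    rwa [hφa, MCData.orderOf_gA] at h
  constructor
  · -- the covering group
    obtain ⟨u', hu'c, hu'u⟩ := coprime_lift hg0 hm₀0 hcop
    set r' := 1 + d * u' with hr'
    have hrr : r' ≡ r [MOD m] := by
      rw [hru, hm₀]
      exact (Nat.ModEq.mul_left' d hu'u).add_left 1
    have hS' : m₀ * g ∣ ∑ i ∈ Finset.range n, r' ^ i := by
      have hmod : ∑ i ∈ Finset.range n, r' ^ i ≡ S [MOD m] := by
        rw [hS, ← ZMod.natCast_eq_natCast_iff]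
        push_cast
        rw [show (r' : ZMod m) = (r : ZMod m) from (ZMod.natCast_eq_natCast_iff _ _ _).mpr hrr]
      exact ((hmod.of_dvd (by rw [hm₀, mul_comm d]; exact Nat.mul_dvd_mul_left _ hgd)).dvd_iff dvd_rfl).mpr
        (by rw [hs]; exact Nat.mul_dvd_mul_left _ hgs)
    have hrn' : (r' : ZMod (m * g)) ^ n = 1 := by
      rw [← Nat.cast_pow, ← Nat.cast_one, ZMod.natCast_eq_natCast_iff]
      refine ((Nat.modEq_iff_dvd' (Nat.one_le_pow n r' (by omega))).mpr ?_).symm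
      rw [← geom_sum_mul_of_one_le (by omega : 1 ≤ r'), hr', Nat.add_sub_cancel_left, hm₀, mul_comm _ (d * u'), mul_assoc d m₀ g]
      exact Nat.mul_dvd_mul (dvd_mul_right d u') hS'
    have htr' : ((m₀ * l : ℕ) : ZMod (m * g)) * r' = ((m₀ * l : ℕ) : ZMod (m * g)) := by
      obtain ⟨l', hl'⟩ := hgl
      rw [← Nat.cast_mul, hr', mul_add, mul_one,
        show m₀ * l * (d * u') = m * g * (l' * u') by rw [hm₀, hl']; ring, Nat.cast_add, Nat.cast_mul (m * g),
        ZMod.natCast_self, zero_mul, add_zero]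
    let D : MCData := ⟨m * g, n, r', m₀ * l, Nat.mul_ne_zero hm.ne' hg0, hn.ne', hrn', htr'⟩
    haveI := MCData.finite_model (D := D)
    obtain ⟨σ, hσA, hσB⟩ := D.exists_hom a b (by show a ^ (m * g) = 1; rw [pow_mul, ha, one_pow])
      (by show b * a * b⁻¹ = a ^ r'
          rw [hba]; exact pow_eq_pow_iff_modEq.mpr (by rw [hoa]; exact hrr.symm)) hbn
    set A := MCData.gA D
    set B := MCData.gB D
    have hAo : orderOf A = m * g := MCData.orderOf_gA
    have hcen : A ^ m ∈ Subgroup.center (MCData.Model D) := by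
      rw [Subgroup.mem_center_iff]
      have hB : Commute B (A ^ m) := by
        refine mul_inv_eq_iff_eq_mul.mp ?_
        rw [← conj_pow, MCData.gB_conj, ← pow_mul]
        refine pow_eq_pow_iff_modEq.mpr ?_
        rw [hAo]
        show r' * m ≡ m [MOD m * g]
        rw [← ZMod.natCast_eq_natCast_iff]
        obtain ⟨d', hd'⟩ := hgd
        rw [hr', show (1 + d * u') * m = m + m * g * (d' * u') by rw [hd']; ring, Nat.cast_add, Nat.cast_mul (m * g),
          ZMod.natCast_self, zero_mul, add_zero]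
      intro y
      obtain ⟨i, j, -, rfl⟩ := MCData.exists_prod y
      exact (((Commute.pow_pow_self A i m)).mul_left (hB.pow_left j)).eq
    have hkerσ : σ.ker = Subgroup.zpowers (A ^ m) := by
      refine le_antisymm (fun x hx => ?_) (Subgroup.zpowers_le.mpr (by
        rw [MonoidHom.mem_ker, map_pow, hσA, ha]))
      obtain ⟨i, j, hj, rfl⟩ := MCData.exists_prod x
      rw [MonoidHom.mem_ker, map_mul, map_pow, map_pow, hσA, hσB] at hx
      have h := congrArg φ hx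
      rw [map_mul, map_pow, map_pow, map_one, hφa, hφb] at h
      obtain ⟨hj0, hi⟩ := MCData.eq_one_of_prod (D := D₀) hj h
      obtain ⟨c, rfl⟩ := hi
      rw [hj0, pow_zero, mul_one, pow_mul]
      exact Subgroup.pow_mem _ (Subgroup.mem_zpowers _) c
    have hst : Cfsg.IsStemExtension σ := by
      refine ⟨?_, hkerσ ▸ Subgroup.zpowers_le.mpr hcen, hkerσ ▸ Subgroup.zpowers_le.mpr ?_⟩
      · rw [← MonoidHom.range_eq_top, eq_top_iff, ← hgen, Subgroup.closure_le]
        rintro x (rfl | rfl)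
        exacts [⟨_, hσA⟩, ⟨_, hσB⟩]
      have hC : ⁅B, A⁆ = A ^ (d * u') := by
        rw [commutatorElement_def, MCData.gB_conj, show D.r = d * u' + 1 from add_comm _ _, pow_succ, mul_inv_cancel_right]
      have hmem : A ^ (d * u') ∈ commutator (MCData.Model D) :=
        hC ▸ Subgroup.commutator_mem_commutator (Subgroup.mem_top _) (Subgroup.mem_top _)
      have hod : (A ^ d) ^ (m₀ * g) = 1 := by
        rw [← pow_mul, ← mul_assoc, ← hm₀, ← hAo, pow_orderOf_eq_one]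
      obtain ⟨k, hk⟩ := exists_pow_eq_self_of_coprime (x := A ^ d) (n := u')
        (hu'c.coprime_dvd_right (orderOf_dvd_of_pow_eq_one hod))
      rw [hm₀, pow_mul, ← hk, ← pow_mul A, ← pow_mul (A ^ (d * u'))]
      exact pow_mem hmem _
    have hcard : Nat.card σ.ker = g := by
      rw [hkerσ, Nat.card_zpowers, orderOf_pow, hAo, Nat.gcd_eq_right (dvd_mul_right m g),
        Nat.mul_div_cancel_left _ hm]
    have hcyc : IsCyclic σ.ker := by rw [hkerσ]; infer_instance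
    exact ⟨MCData.Model D, inferInstance, inferInstance, σ, hst, ⟨hcard ▸ (zmodCyclicMulEquiv hcyc).symm⟩⟩
  -- the kernels of stem extensions
  intro Γ _ _ σ hσ
  obtain ⟨A, hA⟩ := hσ.1 a
  obtain ⟨B, hB⟩ := hσ.1 b
  set C := ⁅B, A⁆ with hC
  have hcen : ∀ x ∈ σ.ker, ∀ y, y * x = x * y := fun x hx => Subgroup.mem_center_iff.mp (hσ.2.1 hx)
  have hzk : (A ^ r)⁻¹ * (B * A * B⁻¹) ∈ σ.ker := by
    rw [MonoidHom.mem_ker, map_mul, map_inv, map_mul, map_mul, map_inv, map_pow, hA, hB, hba, inv_mul_cancel]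
  obtain ⟨z, hz⟩ : ∃ z, z = (A ^ r)⁻¹ * (B * A * B⁻¹) := ⟨_, rfl⟩
  have hzz : ∀ y, y * z = z * y := hcen z (hz ▸ hzk)
  have hBA : B * A * B⁻¹ = A ^ r * z := by rw [hz, mul_inv_cancel_left]
  have hCA : Commute A C := by
    rw [hC, commutatorElement_def, hBA]
    exact ((((Commute.refl A).pow_right r)).mul_right (hzz A)).mul_right ((Commute.refl A).inv_right)
  have hCdef : B * A * B⁻¹ = C * A := by rw [hC, commutatorElement_def, inv_mul_cancel_right]
  have hBk : ∀ k : ℕ, B * A ^ k * B⁻¹ = C ^ k * A ^ k := fun k => by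
    rw [← conj_pow, hCdef, hCA.symm.mul_pow]
  have hBC : B * C * B⁻¹ = C ^ r := by
    have e : C = A ^ r * z * A⁻¹ := by rw [hC, commutatorElement_def, hBA]
    have hzB : B * z * B⁻¹ = z := by rw [hzz B, mul_inv_cancel_right]
    have e2 : B * (A ^ r * z * A⁻¹) * B⁻¹ = (B * A ^ r * B⁻¹) * (B * z * B⁻¹) * (B * A * B⁻¹)⁻¹ := by group
    calc B * C * B⁻¹ = B * (A ^ r * z * A⁻¹) * B⁻¹ := by rw [← e]
      _ = (B * A ^ r * B⁻¹) * (B * z * B⁻¹) * (B * A * B⁻¹)⁻¹ := e2
      _ = C ^ r * A ^ r * z * (A ^ r * z)⁻¹ := by rw [hBk, hzB, hBA]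
      _ = C ^ r := by group
  have hcomm : commutator Γ ≤ Subgroup.zpowers C := by
    refine CfsgLib.SchurSmall.commutator_le_zpowers hσ.2.1 (CfsgLib.SchurSmall.sup_ker_eq_top σ (a := A) (b := B) ?_) (Subgroup.mem_zpowers C) ?_ ?_
    · rw [hA, hB, hgen]
    · rw [hCA.eq, mul_inv_cancel_right]; exact Subgroup.mem_zpowers C
    · rw [hBC]; exact Subgroup.pow_mem _ (Subgroup.mem_zpowers C) r
  have hfix : ∀ k : ℕ, B * A ^ k * B⁻¹ = A ^ k → C ^ k = 1 := fun k h => by
    rw [hBk] at h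
    exact mul_eq_right.mp h
  have hAm : A ^ m ∈ σ.ker := by rw [MonoidHom.mem_ker, map_pow, hA, ha]
  have hC1 : (C ^ m₀) ^ d = 1 := by
    rw [← pow_mul, mul_comm, ← hm₀]
    exact hfix m (by rw [hcen _ hAm B, mul_inv_cancel_right])
  have hz3 : (A ^ (m₀ * l))⁻¹ * B ^ n ∈ σ.ker := by
    rw [MonoidHom.mem_ker, map_mul, map_inv, map_pow, map_pow, hA, hB, hbn, inv_mul_cancel]
  have hC3 : (C ^ m₀) ^ l = 1 := by
    rw [← pow_mul]
    refine hfix _ ?_
    have e : A ^ (m₀ * l) = B ^ n * ((A ^ (m₀ * l))⁻¹ * B ^ n)⁻¹ := by group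
    rw [e]
    have h1 : Commute B (B ^ n * ((A ^ (m₀ * l))⁻¹ * B ^ n)⁻¹) :=
      ((Commute.refl B).pow_right n).mul_right (hcen _ (inv_mem hz3) B)
    rw [h1.eq, mul_inv_cancel_right]
  have hiter : ∀ j : ℕ, B ^ j * A * (B ^ j)⁻¹ = C ^ (∑ i ∈ Finset.range j, r ^ i) * A := by
    intro j
    induction j with
    | zero => simp
    | succ j ih =>
      calc B ^ (j + 1) * A * (B ^ (j + 1))⁻¹ = B * (B ^ j * A * (B ^ j)⁻¹) * B⁻¹ := by rw [pow_succ']; group
        _ = (B * C * B⁻¹) ^ (∑ i ∈ Finset.range j, r ^ i) * (B * A * B⁻¹) := by rw [ih, conj_pow]; group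
        _ = C ^ (∑ i ∈ Finset.range (j + 1), r ^ i) * A := by
          rw [hBC, hCdef, geom_sum_succ, pow_succ, ← pow_mul]; group
  have hC2 : (C ^ m₀) ^ s = 1 := by
    rw [← pow_mul, ← hs, hS]
    have h := hiter n
    have hcomm' : Commute (B ^ n) A := by
      rw [show B ^ n = A ^ (m₀ * l) * ((A ^ (m₀ * l))⁻¹ * B ^ n) by group]
      exact ((Commute.refl A).pow_left _).mul_left ((hcen _ hz3 A).symm)
    rw [hcomm'.eq, mul_inv_cancel_right] at h
    exact mul_eq_right.mp h.symm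
  have hw : orderOf (C ^ m₀) ∣ g :=
    Nat.dvd_gcd (orderOf_dvd_of_pow_eq_one hC3)
      (Nat.dvd_gcd (orderOf_dvd_of_pow_eq_one hC1) (orderOf_dvd_of_pow_eq_one hC2))
  have hker : σ.ker ≤ Subgroup.zpowers (C ^ m₀) := by
    intro x hx
    obtain ⟨k, rfl⟩ := hcomm (hσ.2.2 hx)
    have hx' : σ C ^ k = 1 := by rw [← map_zpow]; exact hx
    have hσC : σ C = a ^ (d * u) := by
      rw [hC, map_commutatorElement, hA, hB, commutatorElement_def, hba, hru, add_comm, pow_succ, mul_inv_cancel_right]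
    rw [hσC, ← zpow_natCast, ← zpow_mul] at hx'
    have hdiv := orderOf_dvd_iff_zpow_eq_one.mpr hx'
    rw [hoa, hm₀] at hdiv
    push_cast at hdiv
    rw [mul_assoc] at hdiv
    have h2 : (m₀ : ℤ) ∣ (u : ℤ) * k := (mul_dvd_mul_iff_left (Nat.cast_ne_zero.mpr hd0.ne')).mp hdiv
    obtain ⟨c, rfl⟩ := (Int.isCoprime_iff_nat_coprime.mpr (by simpa using hcop.symm) : IsCoprime (m₀ : ℤ) (u : ℤ)).dvd_of_dvd_mul_left h2
    exact ⟨c, by show (C ^ m₀) ^ c = C ^ ((m₀ : ℤ) * c); rw [← zpow_natCast, ← zpow_mul]⟩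
  have hcyc : IsCyclic σ.ker := isCyclic_of_injective (Subgroup.inclusion hker) (Subgroup.inclusion_injective hker)
  refine CfsgLib.SchurSmall.exists_surjective_of_cyclic hcyc ?_
  refine (Subgroup.card_dvd_of_le hker).trans ?_
  rw [Nat.card_zpowers]
  exact hw

end Aux

/-- Let `m, n ≥ 1`, `r ≥ 1` with `r ^ n ≡ 1 (mod m)`, and `l` a natural number; put `d = gcd(m, r - 1)`, `t = m l / d` and `h = d · gcd(m, 1 + r + ⋯ + r^(n-1)) / m`. The group presented by generators `a, b` and relations `a ^ m = 1`, `b ^ n = a ^ t`, `b a b⁻¹ = a ^ r` (a metacyclic group of order `m n`) has Schur multiplier cyclic of order `gcd(l, h)`. -/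
theorem result (m n r l : ℕ) (hm : 0 < m) (hn : 0 < n) (hr : 0 < r) (hrn : r ^ n ≡ 1 [MOD m]) : Cfsg.HasCyclicSchurMultiplier (PresentedGroup ({FreeGroup.of true ^ m, (FreeGroup.of false) ^ n * (FreeGroup.of true ^ (m * l / Nat.gcd m (r - 1)))⁻¹, FreeGroup.of false * FreeGroup.of true * (FreeGroup.of false)⁻¹ * (FreeGroup.of true ^ r)⁻¹} : Set (FreeGroup Bool))) (Nat.gcd l (Nat.gcd m (r - 1) * Nat.gcd m (∑ i ∈ Finset.range n, r ^ i) / m)) := by

  exact Aux.main m n r l hm hn hr hrn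

end Cfsg.Agent.S3967
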