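import Cfsg.Statements.S3968
import Mathlib
import Cfsg.Agent.Lib.CharTheory.Burnside
import Cfsg.Agent.Lib.CharTheory.Degree
import Cfsg.Agent.Lib.PSolvable
import Cfsg.Agent.Lib.Elementary
-- import your own Cfsg.Agent.* helpers here

set_option autoImplicit false
open Cfsg

namespace Cfsg.Agent.S3968

/-- Let `p` be a prime and `G` a finite group with a faithful irreducible complex character of degree `p` (so `G` is an irreducible linear group in `p` variables). If `p ^ 2` divides the order of `G`, then the centre of `G` is nontrivial. -/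
theorem result {G : Type*} [Group G] [Finite G] (p : ℕ) (hp : p.Prime) (χ : Cfsg.IrrCharacter G) (hdeg : χ.1 1 = p) (hfaith : ∀ g : G, χ.1 g = χ.1 1 → g = 1) (hdiv : p ^ 2 ∣ Nat.card G) : Subgroup.center G ≠ ⊥ := by

  classical
  haveI := Fact.mk hp
  intro hZ
  obtain ⟨f, hirr⟩ := χ
  obtain ⟨n, ρ, hρ, rfl⟩ := hirr
  simp only at hdeg hfaith
  have hn : Module.finrank ℂ (Fin n → ℂ) = p := by
    rw [ρ.char_one] at hdeg; exact_mod_cast hdeg
  obtain ⟨P⟩ : Nonempty (Sylow p G) := inferInstance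
  set Q := ↥(P : Subgroup G)
  -- values vanish on nontrivial central elements of a Sylow subgroup
  have hvan : ∀ z : Q, z ∈ Subgroup.center Q → z ≠ 1 → ρ.character (z : G) = 0 := by
    intro z hz hz1
    have hsub : (P : Subgroup G) ≤ Subgroup.centralizer ({(z : G)} : Set G) := fun x hx =>
      Subgroup.mem_centralizer_singleton_iff.mpr
        (congrArg Subtype.val (Subgroup.mem_center_iff.mp hz ⟨x, hx⟩))
    have hcop : Nat.Coprime (Module.finrank ℂ (Fin n → ℂ))
        (Subgroup.centralizer ({(z : G)} : Set G)).index := by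
      rw [hn, hp.coprime_iff_not_dvd]
      exact fun h => P.not_dvd_index (h.trans (Subgroup.index_dvd_of_le hsub))
    rcases CfsgLib.CharTheory.zero_or_norm_of_coprime ρ (z : G) hcop with h | h
    · exact h
    exfalso
    obtain ⟨ω, hω⟩ := (CfsgLib.CharTheory.norm_character_eq_iff ρ (z : G)).mp h
    refine hz1 (Subtype.ext (Subgroup.mem_bot.mp (hZ ▸ Subgroup.mem_center_iff.mpr fun x => ?_)))
    have he : ρ (x * z) = ρ ((z : G) * x) := by
      rw [map_mul, map_mul, hω, ← Module.End.one_eq_id, mul_smul_comm, smul_mul_assoc, mul_one, one_mul]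
    refine mul_inv_eq_one.mp (hfaith _ ?_)
    rw [ρ.char_one]
    refine (CfsgLib.CharTheory.character_eq_finrank_iff ρ _).mpr ?_
    rw [map_mul, he, ← map_mul, mul_inv_cancel, map_one, Module.End.one_eq_id]
  have hres : IsCharacter Q (fun x : Q => ρ.character (x : G)) :=
    CfsgLib.CharTheory.isCharacter_restrict ⟨n, ρ, rfl⟩ (P : Subgroup G)
  by_cases hab : ∀ a b : Q, a * b = b * a
  · haveI := Fintype.ofFinite Q
    obtain ⟨m, hm⟩ := CfsgLib.CharTheory.classInner_char_nat hres (CfsgLib.CharTheory.isCharacter_one (G := Q))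
    rw [classInner, Finset.sum_eq_single (1 : Q) (fun x _ hx => by
      rw [hvan x (Subgroup.mem_center_iff.mpr fun y => hab y x) hx, zero_mul]) (by simp)] at hm
    simp only [OneMemClass.coe_one, hdeg, map_one, mul_one] at hm
    have hne : (Nat.card Q : ℂ) ≠ 0 := Nat.cast_ne_zero.mpr Nat.card_pos.ne'
    rw [inv_mul_eq_iff_eq_mul₀ hne] at hm
    have hd : Nat.card Q ∣ p := ⟨m, by exact_mod_cast hm⟩
    have h2 : p ^ 2 ∣ Nat.card Q := P.pow_dvd_card_of_pow_dvd_card hdiv
    have := Nat.le_of_dvd hp.pos (h2.trans hd)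
    nlinarith [hp.two_le]
  -- non-abelian Sylow subgroup
  haveI := (P.2).isNilpotent
  have hD : commutator Q ⊓ Subgroup.center Q ≠ ⊥ := CfsgLib.inf_center_ne_bot_of_nilpotent fun h => hab fun a b =>
    commutatorElement_eq_one_iff_mul_comm.mp (Subgroup.mem_bot.mp
      (h ▸ Subgroup.commutator_mem_commutator (Subgroup.mem_top a) (Subgroup.mem_top b)))
  obtain ⟨z, hz, hz1⟩ := (Subgroup.bot_or_exists_ne_one _).resolve_left hD
  have hv := hvan z hz.2 hz1
  haveI := Fintype.ofFinite Q
  obtain ⟨l, hl, hsum⟩ := CfsgLib.CharTheory.exists_list_irr hres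
  have heval : ∀ x : Q, (l.map fun ψ => ψ x).sum = ρ.character (x : G) := by
    intro x
    have := congrFun hsum x
    refine Eq.trans ?_ this.symm
    clear this hsum hl
    induction l with
    | nil => rfl
    | cons a t ih => simp [ih]
  by_cases hall : ∀ ψ ∈ l, ψ 1 = 1
  · have h1 : (l.map fun ψ => ψ z).sum = (l.map fun ψ => ψ 1).sum := by
      refine congrArg List.sum (List.map_congr_left fun ψ hψ => ?_)
      obtain ⟨φ, rfl⟩ := CfsgLib.CharTheory.exists_hom_of_degree_one
        (CfsgLib.CharTheory.isCharacter_of_irr (hl ψ hψ)) (hall ψ hψ)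
      show ((φ z : ℂˣ) : ℂ) = (φ 1 : ℂˣ)
      rw [map_one, MonoidHom.mem_ker.mp (Abelianization.commutator_subset_ker φ hz.1)]
    rw [heval, heval, OneMemClass.coe_one, hv, hdeg] at h1
    exact hp.ne_zero (by exact_mod_cast h1.symm)
  push Not at hall
  obtain ⟨ψ, hψ, hψ1⟩ := hall
  obtain ⟨m, σ, hσ, rfl⟩ := hl ψ hψ
  obtain ⟨a, ha⟩ := IsPGroup.iff_card.mp P.2
  have hdeg1 : ((l.map fun ψ => ψ 1).sum : ℂ) = p := by rw [heval, OneMemClass.coe_one, hdeg]
  have hnat : ∀ l' : List (Q → ℂ), (∀ x ∈ l', IsIrrCharacter Q x) →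
      ∃ d : ℕ, (l'.map fun ψ => ψ 1).sum = (d : ℂ) ∧ l'.length ≤ d := by
    intro l' h'
    induction l' with
    | nil => exact ⟨0, by simp⟩
    | cons b t ih =>
      obtain ⟨d, hd, hle⟩ := ih fun x hx => h' x (List.mem_cons_of_mem _ hx)
      obtain ⟨e, he0, he⟩ := CfsgLib.CharTheory.irr_degree_pos (h' b List.mem_cons_self)
      exact ⟨e + d, by simp [he, hd], by simp; omega⟩
  obtain ⟨d, hd, hdl⟩ := hnat (l.erase σ.character) fun x hx => hl x (List.mem_of_mem_erase hx)
  rw [((List.perm_cons_erase hψ).map (fun ψ : Q → ℂ => ψ 1)).sum_eq, List.map_cons, List.sum_cons, hd,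
    σ.char_one] at hdeg1
  have hsum' : Module.finrank ℂ (Fin m → ℂ) + d = p := by exact_mod_cast hdeg1
  obtain ⟨b, -, hb⟩ := (Nat.dvd_prime_pow hp).mp (ha ▸ CfsgLib.CharTheory.finrank_dvd_card σ)
  have hb0 : b ≠ 0 := fun h => hψ1 (by rw [σ.char_one, hb, h, pow_zero, Nat.cast_one])
  have := Nat.le_self_pow hb0 p
  have hd0 : (l.erase σ.character).length = 0 := by omega
  have hls : (l.map fun ψ => ψ z).sum = σ.character z := by
    rw [((List.perm_cons_erase hψ).map (fun ψ : Q → ℂ => ψ z)).sum_eq, List.map_cons, List.sum_cons,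
      List.eq_nil_of_length_eq_zero hd0]
    simp
  rw [heval, hv] at hls
  have hnorm : ‖σ.character z‖ = (Module.finrank ℂ (Fin m → ℂ) : ℝ) :=
    (CfsgLib.CharTheory.norm_character_eq_iff σ z).mpr (CfsgLib.CharTheory.exists_scalar_of_mem_center σ hz.2)
  rw [← hls, norm_zero, hb] at hnorm
  exact (pow_pos hp.pos b).ne' (by exact_mod_cast hnorm.symm)

end Cfsg.Agent.S3968
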