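import Cfsg.Statements.S3969
import Mathlib
import Cfsg.Agent.Lib.RankAutomizer
-- import your own Cfsg.Agent.* helpers here

set_option autoImplicit false
open Cfsg

namespace Cfsg.Agent.S3969

/-- Let `P` be an abelian Sylow `p`-subgroup of the finite group `G`, generated by `d` elements (`d` its minimal number of generators). If the order of `G` is coprime to `(p - 1)(p ^ 2 - 1) ⋯ (p ^ d - 1)`, then `G` has a normal `p`-complement. (The classical statement needs only the largest number of cyclic factors of `P` of equal order in place of `d`; the form here follows from it.) -/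
theorem result {G : Type*} [Group G] [Finite G] (p : ℕ) [Fact p.Prime] (P : Sylow p G) (hab : IsMulCommutative (P : Subgroup G)) (hcop : Nat.Coprime (Nat.card G) (∏ i ∈ Finset.Icc 1 (Group.rank (P : Subgroup G)), (p ^ i - 1))) : Cfsg.HasNormalPComplement p G := by
  classical
  refine CfsgLib.hasNormalPComplement_of_normalizer_le_centralizer P fun g hg => ?_
  set C := Subgroup.centralizer ((P : Subgroup G) : Set G) with hC
  have hPC : ∀ x ∈ (P : Subgroup G), x ∈ C := fun x hx => Subgroup.mem_centralizer_iff.mpr fun y hy =>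
    congrArg Subtype.val (hab.is_comm.comm ⟨y, hy⟩ ⟨x, hx⟩)
  obtain ⟨k, m, hm, hkm⟩ : ∃ k m, ¬ p ∣ m ∧ orderOf g = p ^ k * m :=
    Nat.exists_eq_pow_mul_and_not_dvd (orderOf_pos g).ne' p (Fact.out : p.Prime).ne_one
  have hcop' : m.Coprime p := ((Nat.Prime.coprime_iff_not_dvd Fact.out).mpr hm).symm
  have h1 : g ^ p ^ k ∈ C := by
    have ho : orderOf (g ^ p ^ k) = m := by
      rw [orderOf_pow' g (pow_pos (Fact.out : p.Prime).pos k).ne', hkm,
        Nat.gcd_eq_right (Dvd.intro m rfl), Nat.mul_div_cancel_left _ (pow_pos (Fact.out : p.Prime).pos k)]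
    refine CfsgLib.RankAut.mem_centralizer P.isPGroup' le_rfl (Subgroup.pow_mem _ hg _) (ho ▸ hcop') fun i h1 h2 => ?_
    exact ((hcop.coprime_dvd_left (orderOf_dvd_natCard _)).coprime_dvd_right
      (Finset.dvd_prod_of_mem (fun i => p ^ i - 1) (Finset.mem_Icc.mpr ⟨h1, h2⟩)))
  have h2 : g ^ m ∈ C := by
    refine hPC _ ?_
    have hX : IsPGroup p (Subgroup.zpowers (g ^ m)) := by
      have hm0 : m ≠ 0 := fun e => hm (e ▸ dvd_zero p)
      refine IsPGroup.of_card (n := k) ?_
      rw [Nat.card_zpowers, orderOf_pow' g hm0, hkm, Nat.gcd_eq_right (Dvd.intro_left _ rfl),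
        Nat.mul_div_cancel _ (Nat.pos_of_ne_zero hm0)]
    have hle : Subgroup.zpowers (g ^ m) ≤ Subgroup.normalizer ((P : Subgroup G) : Set G) :=
      Subgroup.zpowers_le.mpr (Subgroup.pow_mem _ hg m)
    have hsup := hX.to_sup_of_normal_right' P.isPGroup' hle
    rw [← P.is_maximal' hsup le_sup_right]
    exact Subgroup.mem_sup_left (Subgroup.mem_zpowers _)
  have hg1 : g = (g ^ p ^ k) ^ Nat.gcdA (p ^ k) m * (g ^ m) ^ Nat.gcdB (p ^ k) m := by
    have h := Nat.gcd_eq_gcd_ab (p ^ k) m
    rw [(hcop'.symm.pow_left k).gcd_eq_one] at h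
    rw [← zpow_natCast g (p ^ k), ← zpow_natCast g m, ← zpow_mul, ← zpow_mul, ← zpow_add, ← h, Nat.cast_one, zpow_one]
  rw [hg1]
  exact mul_mem (zpow_mem h1 _) (zpow_mem h2 _)

end Cfsg.Agent.S3969
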