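import Cfsg.Statements.S3970
import Mathlib
import Cfsg.Agent.S3969
-- import your own Cfsg.Agent.* helpers here

set_option autoImplicit false
open Cfsg

namespace Cfsg.Agent.S3970

universe u

theorem aux : ∀ (n : ℕ) (G : Type u) [Group G] [Finite G], Nat.card G = n →
    (∀ p : ℕ, p.Prime → p ∣ Nat.card G → (∃ q : ℕ, q.Prime ∧ q ∣ Nat.card G ∧ p < q) → ∀ P : Sylow p G,
      IsMulCommutative (P : Subgroup G) ∧ Group.rank (P : Subgroup G) ≤ 2) → ¬ 12 ∣ Nat.card G → Group.IsSolvable G := by
  intro n
  induction n using Nat.strong_induction_on with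
  | _ n IH =>
  intro G _ _ hn h h12
  subst hn
  classical
  rcases eq_or_ne (Nat.card G) 1 with h1 | h1
  · have := (Nat.card_eq_one_iff_unique.mp h1).1
    infer_instance
  set p := (Nat.card G).minFac with hp
  have hpp : p.Prime := Nat.minFac_prime h1
  have := Fact.mk hpp
  by_cases hq : ∃ q : ℕ, q.Prime ∧ q ∣ Nat.card G ∧ p < q
  swap
  · have hP : IsPGroup p G := by
      refine IsPGroup.of_card (n := (Nat.card G).primeFactorsList.length)
        (Nat.eq_prime_pow_of_unique_prime_dvd Nat.card_pos.ne' fun {d} hd hdd => ?_)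
      by_contra hne
      exact hq ⟨d, hd, hdd, lt_of_le_of_ne (Nat.minFac_le_of_dvd hd.two_le hdd) (Ne.symm hne)⟩
    have := hP.isNilpotent
    infer_instance
  obtain ⟨P⟩ : Nonempty (Sylow p G) := inferInstance
  obtain ⟨hab, hr⟩ := h p hpp (Nat.minFac_dvd _) hq P
  have hcop : Nat.Coprime (Nat.card G) (∏ i ∈ Finset.Icc 1 (Group.rank (P : Subgroup G)), (p ^ i - 1)) := by
    refine Nat.coprime_of_dvd fun r hr' hrG hrp => ?_
    obtain ⟨i, hi, hri⟩ := (Nat.Prime.prime hr').exists_mem_finset_dvd hrp
    rw [Finset.mem_Icc] at hi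
    have hpr : p ≤ r := Nat.minFac_le_of_dvd hr'.two_le hrG
    have h2 : 2 ≤ p := hpp.two_le
    rcases (show i = 1 ∨ i = 2 by omega) with rfl | rfl
    · rw [pow_one] at hri
      have := Nat.le_of_dvd (by omega) hri
      omega
    · rw [show p ^ 2 - 1 = (p + 1) * (p - 1) by rw [← Nat.sq_sub_sq, one_pow]] at hri
      rcases hr'.dvd_mul.mp hri with h3 | h3
      swap
      · have := Nat.le_of_dvd (by omega) h3
        omega
      -- `r = p + 1`, so `p = 2` and `r = 3`
      have hle := Nat.le_of_dvd (by omega) h3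
      have hrne : r ≠ p := fun e => by
        rw [e] at h3
        exact hpp.ne_one (Nat.dvd_one.mp ((Nat.dvd_add_right (dvd_refl p)).mp h3))
      have hr1 : r = p + 1 := by omega
      have hp2 : p = 2 := by
        rcases hpp.eq_two_or_odd with e | e
        · exact e
        · rcases hr'.eq_two_or_odd with e' | e' <;> omega
      have hr3 : r = 3 := by omega
      -- four does not divide the order, so the Sylow subgroup is cyclic
      have h4 : ¬ 2 ^ 2 ∣ Nat.card G := fun h4 => h12 (Nat.Coprime.mul_dvd_of_dvd_of_dvd (m := 4) (n := 3) (by norm_num) h4 (hr3 ▸ hrG))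
      obtain ⟨k, hk⟩ := IsPGroup.iff_card.mp P.isPGroup'
      have hk1 : k ≤ 1 := by
        by_contra hk2
        exact h4 (dvd_trans (pow_dvd_pow 2 (by omega : 2 ≤ k)) (hp2 ▸ hk ▸ Subgroup.card_subgroup_dvd_card _))
      have hcyc : IsCyclic (P : Subgroup G) := by
        rcases (show k = 0 ∨ k = 1 by omega) with rfl | rfl
        · have := (Nat.card_eq_one_iff_unique.mp (hk.trans (pow_zero p))).1; exact isCyclic_of_subsingleton
        · exact isCyclic_of_prime_card (hk.trans (pow_one p))
      obtain ⟨c, hc⟩ := IsCyclic.exists_generator (α := (P : Subgroup G))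
      have : Group.rank (P : Subgroup G) ≤ 1 := (Group.rank_le (S := {c}) (by
        rw [Finset.coe_singleton, ← Subgroup.zpowers_eq_closure]; exact eq_top_iff.mpr fun y _ => hc y)).trans (by simp)
      omega
  obtain ⟨P', N, hN, hc⟩ := Cfsg.Agent.S3969.result p P hab hcop
  have hcard := hc.card_mul_card
  have hdvd : Nat.card N ∣ Nat.card G := Subgroup.card_subgroup_dvd_card N
  have hlt : Nat.card N < Nat.card G := by
    have h2 : 1 < Nat.card (P' : Subgroup G) := Nat.lt_of_lt_of_le hpp.one_lt
      (Nat.le_of_dvd Nat.card_pos (P'.dvd_card_of_dvd_card (Nat.minFac_dvd _)))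
    rw [← hcard]
    exact lt_mul_of_one_lt_right Nat.card_pos h2
  have hNs : Group.IsSolvable N := by
    refine IH _ hlt N rfl (fun r hr hrN hq' R => ?_) fun h' => h12 (h'.trans hdvd)
    have := Fact.mk hr
    obtain ⟨S, hS⟩ := (R.isPGroup'.map N.subtype).exists_le_sylow
    obtain ⟨q', hq1, hq2, hq3⟩ := hq'
    obtain ⟨a, b⟩ := h r hr (hrN.trans hdvd) ⟨q', hq1, hq2.trans hdvd, hq3⟩ S
    have e : (R : Subgroup N).map N.subtype = (S : Subgroup G) := by
      refine Subgroup.eq_of_le_of_card_ge hS ?_
      rw [Subgroup.card_map_of_injective N.subtype_injective, S.card_eq_multiplicity, R.card_eq_multiplicity]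
      refine Nat.pow_le_pow_right hr.pos (le_of_eq ?_)
      have hrp : r ≠ p := fun e => by
        have h5 := P'.not_dvd_index
        rw [hc.index_eq_card] at h5
        exact h5 (e ▸ hrN)
      rw [← hcard, Nat.factorization_mul Nat.card_pos.ne' Nat.card_pos.ne', Finsupp.add_apply, P'.card_eq_multiplicity,
        hpp.factorization_pow, Finsupp.single_eq_of_ne hrp, add_zero]
    let eqv := ((R : Subgroup N).equivMapOfInjective N.subtype N.subtype_injective).trans (MulEquiv.subgroupCongr e)
    refine ⟨⟨⟨fun u v => eqv.injective (by rw [map_mul, map_mul]; exact a.is_comm.comm _ _)⟩⟩, ?_⟩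
    exact (Group.rank_congr eqv).trans_le b
  have : Group.IsSolvable (G ⧸ N) := by
    have hp' : IsPGroup p (G ⧸ N) := IsPGroup.of_card (n := (Nat.card G).factorization p) (by
      rw [← Subgroup.index_eq_card, hc.symm.index_eq_card, P'.card_eq_multiplicity])
    have := hp'.isNilpotent
    infer_instance
  exact Group.isSolvable_of_ker_le_range N.subtype (QuotientGroup.mk' N) (by simp)

/-- Let `G` be a finite group such that for every prime `p` dividing its order, other than the largest such prime, the Sylow `p`-subgroups are abelian and generated by at most two elements, and suppose `12` does not divide the order of `G`. Then `G` is solvable. In particular a group of cube-free order not divisible by `12` is solvable. -/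
theorem result {G : Type*} [Group G] [Finite G] (h : ∀ p : ℕ, p.Prime → p ∣ Nat.card G → (∃ q : ℕ, q.Prime ∧ q ∣ Nat.card G ∧ p < q) → ∀ P : Sylow p G, IsMulCommutative (P : Subgroup G) ∧ Group.rank (P : Subgroup G) ≤ 2) (h12 : ¬ 12 ∣ Nat.card G) : Group.IsSolvable G := by
  exact aux _ G rfl h h12

end Cfsg.Agent.S3970
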