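import Cfsg.Statements.S3971
import Mathlib
import Cfsg.Agent.Lib.RankAutomizer
import Cfsg.Agent.Lib.Fusion.Hyperfocal
-- import your own Cfsg.Agent.* helpers here

set_option autoImplicit false
open Cfsg

namespace Cfsg.Agent.S3971

/-- Let `G` be a finite group of order `2 ^ a * n` with `n` odd and not divisible by `3`, and suppose `G` has an element of order `2 ^ (a - 1)` (so a Sylow `2`-subgroup has a cyclic subgroup of index at most `2`). Then `G` has a normal subgroup of order `n`. -/
theorem result {G : Type*} [Group G] [Finite G] (a n : ℕ) (hG : Nat.card G = 2 ^ a * n) (hn : Odd n) (h3 : ¬ 3 ∣ n) (hx : ∃ x : G, orderOf x = 2 ^ (a - 1)) : ∃ N : Subgroup G, N.Normal ∧ Nat.card N = n := by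
  classical
  have := Fact.mk Nat.prime_two
  obtain ⟨x, hx⟩ := hx
  obtain ⟨S, hS⟩ := (IsPGroup.of_card (n := a - 1) (by rw [Nat.card_zpowers, hx]) : IsPGroup 2 (Subgroup.zpowers x)).exists_le_sylow
  have hScard : Nat.card (S : Subgroup G) = 2 ^ a := by
    rw [S.card_eq_multiplicity, hG, Nat.factorization_mul (pow_pos two_pos a).ne' (Odd.pos hn).ne', Finsupp.add_apply,
      Nat.prime_two.factorization_pow, Finsupp.single_eq_same, Nat.factorization_eq_zero_of_not_dvd hn.not_two_dvd_nat, add_zero]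
  have hnc : HasNormalPComplement 2 G := by
    refine Cfsg.FusionSystem.hasNormalPComplement_of_centralizes S fun Q hQ g hg hgp => ?_
    refine CfsgLib.RankAut.mem_centralizer (S.isPGroup'.to_le hQ) (d := 2) ?_ hg hgp fun i h1 h2 => ?_
    · have : IsCyclic (Subgroup.zpowers x ⊓ Q : Subgroup G) := Subgroup.isCyclic_of_le inf_le_left
      obtain ⟨⟨c, hcQ⟩, hc⟩ := IsCyclic.exists_generator (α := (Subgroup.zpowers x ⊓ Q : Subgroup G))
      have hcgen : ∀ y ∈ Subgroup.zpowers x ⊓ Q, y ∈ Subgroup.zpowers c := fun y hy => by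
        obtain ⟨i, hi⟩ := Subgroup.mem_zpowers_iff.mp (hc ⟨y, hy⟩)
        exact Subgroup.mem_zpowers_iff.mpr ⟨i, congrArg Subtype.val hi⟩
      by_cases hsub : Q ≤ Subgroup.zpowers x
      · have : IsCyclic Q := Subgroup.isCyclic_of_le hsub
        obtain ⟨q, hq⟩ := IsCyclic.exists_generator (α := Q)
        refine (Group.rank_le (S := {q}) ?_).trans (by simp)
        rw [Finset.coe_singleton, ← Subgroup.zpowers_eq_closure]
        exact eq_top_iff.mpr fun y _ => hq y
      · obtain ⟨u, huQ, hux⟩ := SetLike.not_le_iff_exists.mp hsub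
        have hidx : (Subgroup.zpowers x).relIndex (S : Subgroup G) = 2 := by
          have h1 := Subgroup.relIndex_mul_relIndex ⊥ (Subgroup.zpowers x) (S : Subgroup G) bot_le hS
          rw [Subgroup.relIndex_bot_left, Subgroup.relIndex_bot_left, Nat.card_zpowers, hx, hScard] at h1
          rcases Nat.eq_zero_or_pos a with rfl | ha
          · exfalso
            have : (S : Subgroup G) = Subgroup.zpowers x := (Subgroup.eq_of_le_of_card_ge hS (by rw [Nat.card_zpowers, hx, hScard])).symm
            exact hux (this ▸ hQ huQ)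
          · rw [show 2 ^ a = 2 ^ (a - 1) * 2 by rw [← pow_succ, Nat.sub_add_cancel ha]] at h1
            exact Nat.eq_of_mul_eq_mul_left (pow_pos two_pos _) h1
        refine (Group.rank_le (S := {(⟨c, hcQ.2⟩ : Q), ⟨u, huQ⟩}) ?_).trans (Finset.card_le_two)
        refine eq_top_iff.mpr ?_
        rintro ⟨y, hy⟩ -
        have hcm : ∀ w ∈ Subgroup.zpowers x, ∀ hw : w ∈ Q, (⟨w, hw⟩ : Q) ∈ Subgroup.closure
            (({(⟨c, hcQ.2⟩ : Q), ⟨u, huQ⟩} : Finset Q) : Set Q) := fun w hwx hw => by
          obtain ⟨i, hi⟩ := Subgroup.mem_zpowers_iff.mp (hcgen w ⟨hwx, hw⟩)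
          rw [show (⟨w, hw⟩ : Q) = (⟨c, hcQ.2⟩ : Q) ^ i from Subtype.ext (by rw [SubgroupClass.coe_zpow]; exact hi.symm)]
          exact Subgroup.zpow_mem _ (Subgroup.subset_closure (by simp)) i
        by_cases hyx : y ∈ Subgroup.zpowers x
        · exact hcm y hyx hy
        · have hmem : u * y ∈ Subgroup.zpowers x :=
            (Subgroup.mul_mem_iff_of_index_two (H := (Subgroup.zpowers x).subgroupOf (S : Subgroup G)) hidx
              (a := ⟨u, hQ huQ⟩) (b := ⟨y, hQ hy⟩)).mpr ⟨fun h => absurd h hux, fun h => absurd h hyx⟩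
          rw [show (⟨y, hy⟩ : Q) = (⟨u, huQ⟩ : Q)⁻¹ * ⟨u * y, Q.mul_mem huQ hy⟩ from Subtype.ext (inv_mul_cancel_left u y).symm]
          exact Subgroup.mul_mem _ (Subgroup.inv_mem _ (Subgroup.subset_closure (by simp))) (hcm _ hmem _)
    · have h3 : (orderOf g).Coprime 3 := by
        refine ((Nat.Prime.coprime_iff_not_dvd Nat.prime_three).mpr fun h => h3 ?_).symm
        have := h.trans (orderOf_dvd_natCard g)
        rw [hG] at this
        exact (Nat.Coprime.pow_right a (by norm_num : Nat.Coprime 3 2)).dvd_of_dvd_mul_left this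
      interval_cases i
      · simp
      · simpa using h3
  obtain ⟨P, N, hN, hc⟩ := hnc
  refine ⟨N, hN, ?_⟩
  have h1 := hc.card_mul_card
  rw [Nat.card_congr (Sylow.equiv P S).toEquiv, hScard, hG, mul_comm (2 ^ a) n] at h1
  exact Nat.eq_of_mul_eq_mul_right (pow_pos two_pos a) h1

end Cfsg.Agent.S3971
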