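import Cfsg.Statements.S3973
import Mathlib
import Cfsg.Agent.Lib.SchurTheory.Hopf
-- import your own Cfsg.Agent.* helpers here

set_option autoImplicit false
open Cfsg

namespace Cfsg.Agent.S3973

namespace Aux

universe v

open CfsgLib.Schur

theorem main (n : ℕ) (rels : Finset (FreeGroup (Fin n))) [Finite (PresentedGroup (rels : Set (FreeGroup (Fin n))))]
    {A : Type v} [CommGroup A] [Finite A]
    (hA : Cfsg.HasSchurMultiplier (PresentedGroup (rels : Set (FreeGroup (Fin n)))) A) :
    Group.rank A ≤ rels.card - n := by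
  classical
  let π : FreeGroup (Fin n) →* PresentedGroup (rels : Set (FreeGroup (Fin n))) := PresentedGroup.mk _
  have hπ : Function.Surjective π := PresentedGroup.mk_surjective _
  obtain ⟨eA⟩ := mulEquiv_mult hA hπ
  set E := Ext π
  set K := (proj π).ker
  letI : CommGroup K := { (inferInstance : Group K) with
    mul_comm := fun a b => Subtype.ext (Subgroup.mem_center_iff.mp (ker_le_center π b.2) a) }
  have hker : π.ker = Subgroup.normalClosure (rels : Set (FreeGroup (Fin n))) := QuotientGroup.ker_mk' _
  have hr : ∀ i : rels, ((i.1 : FreeGroup (Fin n)) : E) ∈ K := fun i => by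
    have : i.1 ∈ π.ker := hker ▸ Subgroup.subset_normalClosure i.2
    exact this
  let ψ : (rels → ℤ) →+ Additive K :=
    AddMonoidHom.mk' (fun c => ∑ i : rels, c i • Additive.ofMul (⟨_, hr i⟩ : K)) fun a b =>
      (Finset.sum_congr rfl fun i _ => add_zsmul (Additive.ofMul (⟨_, hr i⟩ : K)) (a i) (b i)).trans Finset.sum_add_distrib
  have hψ : Function.Surjective ψ := by
    intro k
    let C : Subgroup E := (AddSubgroup.toSubgroup' ψ.range).map K.subtype
    have hCK : C ≤ K := Subgroup.map_subtype_le _
    haveI : C.Normal := ⟨fun x hx y => by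
      rw [Subgroup.mem_center_iff.mp (ker_le_center π (hCK hx)) y, mul_inv_cancel_right]; exact hx⟩
    have hle : π.ker ≤ C.comap (QuotientGroup.mk' (rel π)) := by
      refine hker.le.trans (Subgroup.normalClosure_le_normal fun r hr' => ?_)
      refine ⟨⟨_, hr ⟨r, hr'⟩⟩, ⟨Pi.single ⟨r, hr'⟩ 1, ?_⟩, rfl⟩
      exact (Finset.sum_eq_single (⟨r, hr'⟩ : rels)
        (fun b _ hb => by rw [Pi.single_eq_of_ne hb]; exact zero_zsmul _)
        (fun h => absurd (Finset.mem_univ _) h)).trans (by rw [Pi.single_eq_same]; exact one_zsmul _)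
    obtain ⟨k, hk⟩ : ∃ x : K, Additive.ofMul x = k := ⟨k.toMul, rfl⟩
    subst hk
    obtain ⟨x, hx⟩ := QuotientGroup.mk'_surjective (rel π) k.1
    have hxk : x ∈ π.ker := by
      rw [MonoidHom.mem_ker, ← proj_mk π x]
      show proj π (QuotientGroup.mk' _ x) = 1
      rw [hx]; exact k.2
    obtain ⟨y, ⟨c, hc⟩, hy⟩ := hle hxk
    rw [hx] at hy
    rw [Subtype.ext hy] at hc
    exact ⟨c, hc⟩
  let φ₀ : FreeGroup (Fin n) →* Multiplicative (Fin n → ℤ) :=
    FreeGroup.lift fun a => Multiplicative.ofAdd (Pi.single a 1)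
  have hφ₀ : rel π ≤ φ₀.ker := (Subgroup.commutator_mono le_top le_rfl).trans (Abelianization.commutator_subset_ker φ₀)
  let φ : E →* Multiplicative (Fin n → ℤ) := QuotientGroup.lift _ φ₀ hφ₀
  have hkerφ : φ.ker ≤ commutator E := by
    let back : (Fin n → ℤ) →+ Additive (Abelianization (FreeGroup (Fin n))) :=
      AddMonoidHom.mk' (fun c => ∑ i : Fin n, c i • Additive.ofMul (Abelianization.of (FreeGroup.of i))) fun a b =>
        (Finset.sum_congr rfl fun i _ => add_zsmul (Additive.ofMul (Abelianization.of (FreeGroup.of i))) (a i) (b i)).trans Finset.sum_add_distrib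
    have hb : (AddMonoidHom.toMultiplicativeLeft back).comp φ₀ = Abelianization.of := FreeGroup.ext_hom _ _ fun a => by
      show Additive.toMul (back (Multiplicative.toAdd (φ₀ (FreeGroup.of a)))) = _
      rw [FreeGroup.lift_apply_of, toAdd_ofAdd]
      exact congrArg Additive.toMul ((Finset.sum_eq_single a
        (fun b _ hb => by rw [Pi.single_eq_of_ne hb]; exact zero_zsmul _)
        (fun h => absurd (Finset.mem_univ _) h)).trans (by rw [Pi.single_eq_same]; exact one_zsmul _))
    intro x hx
    induction x using QuotientGroup.induction_on with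
    | _ x =>
      have hxc : x ∈ commutator (FreeGroup (Fin n)) := by
        rw [← Abelianization.ker_of, MonoidHom.mem_ker, ← hb, MonoidHom.comp_apply, MonoidHom.mem_ker.mp
          (show x ∈ φ₀.ker from hx), map_one]
      have h2 := Subgroup.mem_map_of_mem (QuotientGroup.mk' (rel π)) hxc
      rw [commutator_def, Subgroup.map_commutator] at h2
      exact Subgroup.commutator_mono le_top le_top h2
  let F : (rels → ℤ) →ₗ[ℤ] (Fin n → ℤ) :=
    ((MonoidHom.toAdditiveLeft (φ.comp K.subtype)).comp ψ).toIntLinearMap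
  have hF : ∀ c, F c = Multiplicative.toAdd (φ (Additive.toMul (ψ c)).1) := fun c => rfl
  have hrange : n ≤ Module.finrank ℤ (LinearMap.range F) := by
    set N : ℕ := Nat.card (PresentedGroup (rels : Set (FreeGroup (Fin n))))
    have hN : (N : ℤ) ≠ 0 := Nat.cast_ne_zero.mpr Nat.card_pos.ne'
    have hmem : ∀ v : Fin n → ℤ, (N : ℤ) • v ∈ LinearMap.range F := by
      intro v
      obtain ⟨x, hx⟩ : ∃ x, φ₀ x = Multiplicative.ofAdd v := by
        refine ⟨(List.finRange n).map (fun i => FreeGroup.of i ^ v i) |>.prod, ?_⟩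
        rw [map_list_prod, List.map_map, ← List.ofFn_eq_map, List.prod_ofFn]
        simp only [Function.comp_apply, map_zpow, φ₀, FreeGroup.lift_apply_of, ← ofAdd_zsmul]
        rw [← ofAdd_sum]
        congr 1
        exact (Finset.sum_congr rfl fun i _ => by rw [← Pi.single_smul, smul_eq_mul, mul_one]).trans (Finset.univ_sum_single v)
      have hk : ((x : E)) ^ N ∈ K := by
        rw [MonoidHom.mem_ker, map_pow, pow_card_eq_one']
      obtain ⟨c, hc⟩ := hψ (Additive.ofMul ⟨_, hk⟩)
      refine ⟨c, ?_⟩
      rw [hF, hc, natCast_zsmul]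
      show Multiplicative.toAdd (φ ((x : E) ^ N)) = N • v
      rw [map_pow, toAdd_pow, show φ (x : E) = φ₀ x from rfl, hx, toAdd_ofAdd]
    let μ : (Fin n → ℤ) →ₗ[ℤ] LinearMap.range F := LinearMap.codRestrict _ ((N : ℤ) • LinearMap.id) hmem
    have hμ : Function.Injective μ := fun a b h => smul_right_injective _ hN (congrArg Subtype.val h)
    simpa using LinearMap.finrank_le_finrank_of_injective hμ
  have hsum : Module.finrank ℤ (LinearMap.range F) + Module.finrank ℤ (LinearMap.ker F) = rels.card := by
    rw [← F.quotKerEquivRange.finrank_eq, Submodule.finrank_quotient_add_finrank, Module.finrank_fintype_fun_eq_card,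
      Fintype.card_coe]
  let b := Module.Free.chooseBasis ℤ (LinearMap.ker F)
  have hm : ∀ c : LinearMap.ker F, ((Additive.toMul (ψ c.1) : K) : E) ∈ mult π := fun c => by
    refine ⟨(Additive.toMul (ψ c.1)).2, hkerφ ?_⟩
    exact congrArg Multiplicative.ofAdd (LinearMap.mem_ker.mp c.2)
  let Θ : LinearMap.ker F →+ Additive A :=
    { toFun := fun c => Additive.ofMul (eA.symm ⟨_, hm c⟩)
      map_zero' := by
        rw [show (⟨_, hm 0⟩ : mult π) = 1 from Subtype.ext (by simp), map_one, ofMul_one]
      map_add' := fun c d => by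
        rw [← ofMul_mul, ← map_mul]
        exact congrArg (fun t => Additive.ofMul (eA.symm t)) (Subtype.ext (by simp)) }
  have hΘ : Function.Surjective Θ := fun a => by
    obtain ⟨c, hc⟩ := hψ (Additive.ofMul ⟨(eA a.toMul).1, (Subgroup.mem_inf.mp (eA a.toMul).2).1⟩)
    refine ⟨⟨c, LinearMap.mem_ker.mpr ?_⟩, ?_⟩
    · rw [hF, hc]
      exact congrArg Multiplicative.toAdd (Abelianization.commutator_subset_ker φ (Subgroup.mem_inf.mp (eA a.toMul).2).2)
    · show Additive.ofMul (eA.symm ⟨_, _⟩) = a
      have : (⟨((Additive.toMul (ψ c) : K) : E), hm ⟨c, LinearMap.mem_ker.mpr (by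
          rw [hF, hc]; exact congrArg Multiplicative.toAdd (Abelianization.commutator_subset_ker φ (Subgroup.mem_inf.mp (eA a.toMul).2).2))⟩⟩ : mult π) =
          eA a.toMul := Subtype.ext (by show ((Additive.toMul (ψ c) : K) : E) = _; rw [hc]; rfl)
      rw [this, MulEquiv.symm_apply_apply]
      exact ofMul_toMul a
  have hgen : Subgroup.closure ((Finset.univ.image fun i => Additive.toMul (Θ (b i))) : Set A) = ⊤ := by
    rw [eq_top_iff]
    intro a _
    obtain ⟨c, hc⟩ := hΘ (Additive.ofMul a)
    rw [← b.sum_repr c, map_sum] at hc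
    rw [show a = Additive.toMul (Additive.ofMul a) from rfl, ← hc, toMul_sum]
    refine Subgroup.prod_mem _ fun i _ => ?_
    rw [map_zsmul]
    exact Subgroup.zpow_mem _ (Subgroup.subset_closure (by simp)) _
  refine (Group.rank_le hgen).trans (Finset.card_image_le.trans ?_)
  rw [Finset.card_univ, ← Module.finrank_eq_card_basis b]
  omega

end Aux

/-- If a finite group is presented by `n` generators and a finite set of `r` relators, then its Schur multiplier can be generated by `r - n` elements. In particular a finite group with a presentation having as many relators as generators has trivial Schur multiplier. -/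
theorem result (n : ℕ) (rels : Finset (FreeGroup (Fin n))) [Finite (PresentedGroup (rels : Set (FreeGroup (Fin n))))] {A : Type*} [CommGroup A] [Finite A] (hA : Cfsg.HasSchurMultiplier (PresentedGroup (rels : Set (FreeGroup (Fin n)))) A) : Group.rank A ≤ rels.card - n := by

  exact Aux.main n rels hA

end Cfsg.Agent.S3973
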