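import Cfsg.Statements.S3974
import Mathlib
import Cfsg.Agent.Lib.SchurTheory.Perfect
-- import your own Cfsg.Agent.* helpers here

set_option autoImplicit false
universe u v
open Cfsg

namespace Cfsg.Agent.S3974

namespace Aux

universe a

open CfsgLib.Schur
open scoped commutatorElement

theorem twist {Q : Type a} [Group Q] {F : Type a} [Group F] {π : F →* Q} {Γ : Type a} [Group Γ] {σ : Γ →* Q}
    (hσ : σ.ker ≤ Subgroup.center Γ) (η : Ext π →* Γ) (f : Ext π →* σ.ker) :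
    ∃ η' : Ext π →* Γ, ∀ x, η' x = η x * (f x).1 :=
  ⟨MonoidHom.mk' (fun x => η x * (f x).1) fun x y => by
    have h := Subgroup.mem_center_iff.mp (hσ (f x).2) (η y)
    rw [map_mul, map_mul, Subgroup.coe_mul]
    calc η x * η y * ((f x).1 * (f y).1) = η x * (η y * (f x).1) * (f y).1 := by simp only [mul_assoc]
      _ = η x * ((f x).1 * η y) * (f y).1 := by rw [h]
      _ = η x * (f x).1 * (η y * (f y).1) := by simp only [mul_assoc], fun _ => rfl⟩

theorem exists_iso {Q : Type a} [Group Q] [Finite Q] (hcop : Nat.Coprime (Nat.card (Abelianization Q)) (Nat.card (mult (basePres Q))))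
    {Γ₁ Γ₂ : Type a} [Group Γ₁] [Finite Γ₁] [Group Γ₂] [Finite Γ₂] (σ₁ : Γ₁ →* Q) (σ₂ : Γ₂ →* Q)
    (h1 : Cfsg.IsStemExtension σ₁) (h2 : Cfsg.IsStemExtension σ₂)
    (k1 : Nonempty (σ₁.ker ≃* mult (basePres Q))) (k2 : Nonempty (σ₂.ker ≃* mult (basePres Q))) :
    ∃ e : Γ₁ ≃* Γ₂, σ₂.comp e.toMonoidHom = σ₁ := by
  classical
  set p := basePres Q
  have hp := basePres_surjective Q
  haveI := finite_mult p
  obtain ⟨k1⟩ := k1
  obtain ⟨k2⟩ := k2
  obtain ⟨η₁, hη₁⟩ := exists_lift (π := p) h1.1 h1.2.1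
  obtain ⟨η₂, hη₂⟩ := exists_lift (π := p) h2.1 h2.2.1
  obtain ⟨hs₁, hm₁⟩ := surjective_of_stem hp h1.2.1 h1.2.2 hη₁
  have hN : η₁.ker ≤ (proj p).ker := fun x hx => by
    rw [MonoidHom.mem_ker, ← hη₁, MonoidHom.comp_apply, MonoidHom.mem_ker.mp hx, map_one]
  have hinj : ∀ x ∈ η₁.ker, x ∈ commutator (Ext p) → x = 1 := by
    let f : mult p →* σ₁.ker := (η₁.comp (mult p).subtype).codRestrict _ fun m => hm₁.le ⟨m, m.2, rfl⟩
    have hf : Function.Bijective f := (Nat.bijective_iff_surjective_and_card _).mpr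
      ⟨fun z => by obtain ⟨m, hm, hmz⟩ := hm₁.ge z.2; exact ⟨⟨m, hm⟩, Subtype.ext hmz⟩, (Nat.card_congr k1.toEquiv).symm⟩
    intro x hx hxc
    exact congrArg Subtype.val (show (⟨x, hN hx, hxc⟩ : mult p) = 1 from hf.1 (Subtype.ext (by
      show η₁ x = (f 1).1
      rw [map_one, MonoidHom.mem_ker.mp hx]
      rfl)))
  set d := Nat.card (Abelianization Q)
  have hpow : ∀ x, ∃ l : η₁.ker, (l : Ext p)⁻¹ * x ^ d ∈ commutator (Ext p) := by
    intro x
    have h : (Abelianization.of (proj p x)) ^ d = 1 := pow_card_eq_one'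
    rw [← map_pow, ← map_pow, ← MonoidHom.mem_ker, Abelianization.ker_of] at h
    have h' := Subgroup.map_commutator (⊤ : Subgroup (Ext p)) ⊤ (proj p)
    rw [Subgroup.map_top_of_surjective _ (proj_surjective hp), ← commutator_def, ← commutator_def] at h'
    obtain ⟨c, hc, hce⟩ := h'.ge h
    have hk : c⁻¹ * x ^ d ∈ (proj p).ker := by rw [MonoidHom.mem_ker, map_mul, map_inv, hce, inv_mul_cancel]
    have hη : η₁ (c⁻¹ * x ^ d) ∈ σ₁.ker := by rw [MonoidHom.mem_ker, ← MonoidHom.comp_apply, hη₁]; exact hk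
    obtain ⟨m, hm, hmx⟩ := hm₁.ge hη
    refine ⟨⟨(c⁻¹ * x ^ d) * m⁻¹, by rw [MonoidHom.mem_ker, map_mul (f := η₁), map_inv (f := η₁), hmx, mul_inv_cancel]⟩, ?_⟩
    show ((c⁻¹ * x ^ d) * m⁻¹)⁻¹ * x ^ d ∈ _
    rw [show ((c⁻¹ * x ^ d) * m⁻¹)⁻¹ * x ^ d = m * ((x ^ d)⁻¹ * c * x ^ d) by group]
    refine mul_mem hm.2 ?_
    have := Subgroup.Normal.conj_mem (inferInstance : (commutator (Ext p)).Normal) c hc (x ^ d)⁻¹
    rwa [inv_inv] at this
  choose l hl using hpow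
  letI : CommGroup σ₂.ker := { (inferInstance : Group σ₂.ker) with
    mul_comm := fun a b => Subtype.ext (Subgroup.mem_center_iff.mp (h2.2.1 b.2) a) }
  have hab : ∀ x, Abelianization.of (l x : Ext p) = Abelianization.of x ^ d := fun x => by
    rw [← map_pow, ← inv_mul_eq_one, ← map_inv, ← map_mul, ← MonoidHom.mem_ker, Abelianization.ker_of]
    exact hl x
  have heq : ∀ a b : η₁.ker, Abelianization.of (a : Ext p) = Abelianization.of (b : Ext p) → a = b := fun a b h => by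
    rw [← inv_mul_eq_one, ← map_inv, ← map_mul, ← MonoidHom.mem_ker, Abelianization.ker_of] at h
    exact Subtype.ext (inv_mul_eq_one.mp (hinj _ (mul_mem (inv_mem a.2) b.2) h))
  let L' : Ext p →* η₁.ker := MonoidHom.mk' l fun x y => heq _ _ (by
    rw [Subgroup.coe_mul, map_mul, hab, hab, hab, map_mul, mul_pow])
  let g : η₁.ker →* σ₂.ker := (η₂.comp η₁.ker.subtype).codRestrict _ fun z => by
    rw [MonoidHom.mem_ker, ← MonoidHom.comp_apply σ₂]
    show σ₂ (η₂ z.1) = 1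
    rw [← MonoidHom.comp_apply σ₂ η₂, hη₂]
    exact hN z.2
  haveI : NeZero (Nat.card σ₂.ker) := ⟨Nat.card_pos.ne'⟩
  obtain ⟨k, hk⟩ : ∃ k : ℕ, d * k ≡ 1 [MOD Nat.card σ₂.ker] := by
    refine ⟨((d : ZMod (Nat.card σ₂.ker))⁻¹).val, (ZMod.natCast_eq_natCast_iff _ _ _).mp ?_⟩
    rw [Nat.cast_mul, ZMod.natCast_val, ZMod.cast_id', id, ZMod.coe_mul_inv_eq_one _ (Nat.card_congr k2.toEquiv ▸ hcop), Nat.cast_one]
  obtain ⟨η', hη'⟩ := twist h2.2.1 η₂ ((powMonoidHom k).comp (g.comp L'))⁻¹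
  have hker : η₁.ker ≤ η'.ker := fun z hz => by
    have hz' : L' z = (⟨z, hz⟩ : η₁.ker) ^ d := heq _ _ (by
      show Abelianization.of (l z : Ext p) = _
      rw [hab, Subgroup.coe_pow, map_pow])
    rw [MonoidHom.mem_ker, hη']
    show η₂ z * (((g (L' z)) ^ k)⁻¹ : σ₂.ker).1 = 1
    rw [hz', map_pow, ← pow_mul, pow_eq_pow_mod _ (pow_card_eq_one' (x := g ⟨z, hz⟩)), hk,
      ← pow_eq_pow_mod 1 (pow_card_eq_one' (x := g ⟨z, hz⟩)), pow_one]
    exact mul_inv_cancel (η₂ z)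
  have hη'σ : σ₂.comp η' = proj p := MonoidHom.ext fun x => by
    rw [MonoidHom.comp_apply, hη', map_mul, MonoidHom.mem_ker.mp (Subtype.mem _), mul_one, ← MonoidHom.comp_apply, hη₂]
  let θ : Γ₁ →* Γ₂ := η₁.liftOfRightInverse _ (Function.rightInverse_surjInv hs₁) ⟨η', hker⟩
  have hθ : ∀ x, θ (η₁ x) = η' x := fun x => MonoidHom.liftOfRightInverse_comp_apply _ _ _ _ x
  have hsurj : Function.Surjective θ := fun y => by
    obtain ⟨x, rfl⟩ := (surjective_of_stem hp h2.2.1 h2.2.2 hη'σ).1 y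
    exact ⟨η₁ x, hθ x⟩
  have hcard : Nat.card Γ₁ = Nat.card Γ₂ := by
    rw [Subgroup.card_eq_card_quotient_mul_card_subgroup σ₁.ker, Subgroup.card_eq_card_quotient_mul_card_subgroup σ₂.ker,
      Nat.card_congr (QuotientGroup.quotientKerEquivOfSurjective σ₁ h1.1).toEquiv,
      Nat.card_congr (QuotientGroup.quotientKerEquivOfSurjective σ₂ h2.1).toEquiv, Nat.card_congr k1.toEquiv,
      Nat.card_congr k2.toEquiv]
  refine ⟨MulEquiv.ofBijective θ ((Nat.bijective_iff_surjective_and_card _).mpr ⟨hsurj, hcard⟩), MonoidHom.ext fun y => ?_⟩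
  obtain ⟨x, rfl⟩ := hs₁ y
  show σ₂ (θ (η₁ x)) = σ₁ (η₁ x)
  rw [hθ, ← MonoidHom.comp_apply σ₂ η', hη'σ, ← MonoidHom.comp_apply σ₁ η₁, hη₁]

theorem coprime_of_unique {Q : Type a} [Group Q] [Finite Q]
    (h : ∀ (Γ₁ Γ₂ : Type a) [Group Γ₁] [Finite Γ₁] [Group Γ₂] [Finite Γ₂] (σ₁ : Γ₁ →* Q) (σ₂ : Γ₂ →* Q),
      Cfsg.IsStemExtension σ₁ → Cfsg.IsStemExtension σ₂ → Nonempty (σ₁.ker ≃* mult (basePres Q)) →
      Nonempty (σ₂.ker ≃* mult (basePres Q)) → ∃ e : Γ₁ ≃* Γ₂, σ₂.comp e.toMonoidHom = σ₁) :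
    Nat.Coprime (Nat.card (Abelianization Q)) (Nat.card (mult (basePres Q))) := by
  classical
  by_contra hcop
  obtain ⟨q, hq, hq1, hq2⟩ := Nat.Prime.not_coprime_iff_dvd.mp hcop
  set p := basePres Q
  have hp := basePres_surjective Q
  haveI := finite_mult p
  haveI : Fact q.Prime := ⟨hq⟩
  obtain ⟨L, hL, hLn, h1, h2⟩ := exists_compl' p
  haveI := hLn
  obtain ⟨hfin, hst, e₀, he₀⟩ := cover_spec hp hL h1 h2
  -- an element of the multiplier which is not a q-th power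
  obtain ⟨z, hz⟩ : ∃ z : mult p, ∀ w : mult p, w ^ q ≠ z := by
    by_contra hc
    push Not at hc
    have hsurj : Function.Surjective (fun w : mult p => w ^ q) := fun z => hc z
    obtain ⟨x, hx⟩ := exists_prime_orderOf_dvd_card' q hq2
    have hinj := Finite.injective_iff_surjective.mpr hsurj
    have : x = 1 := hinj (show x ^ q = (1 : mult p) ^ q by rw [one_pow, ← hx, pow_orderOf_eq_one])
    rw [this, orderOf_one] at hx
    exact hq.ne_one hx.symm
  -- an element of the extension of order `q` modulo `K` and commutators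
  obtain ⟨v, hv⟩ : ∃ v : Ext p, orderOf (Abelianization.of (proj p v)) = q := by
    obtain ⟨x, hx⟩ := exists_prime_orderOf_dvd_card' q hq1
    obtain ⟨y, rfl⟩ := QuotientGroup.mk_surjective x
    obtain ⟨v, rfl⟩ := proj_surjective hp y
    exact ⟨v, hx⟩
  obtain ⟨l, hl, hlc⟩ : ∃ l ∈ L, l⁻¹ * v ^ q ∈ commutator (Ext p) := by
    have h0 : Abelianization.of (proj p (v ^ q)) = 1 := by
      rw [map_pow, map_pow, ← hv, pow_orderOf_eq_one]
    rw [← MonoidHom.mem_ker, Abelianization.ker_of] at h0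
    have h' := Subgroup.map_commutator (⊤ : Subgroup (Ext p)) ⊤ (proj p)
    rw [Subgroup.map_top_of_surjective _ (proj_surjective hp), ← commutator_def, ← commutator_def] at h'
    obtain ⟨c, hc, hce⟩ := h'.ge h0
    have hk : v ^ q * c⁻¹ ∈ L ⊔ mult p := by rw [h2, MonoidHom.mem_ker, map_mul, map_inv, hce, mul_inv_cancel]
    obtain ⟨l, hl, m, hm, hlm⟩ := Subgroup.mem_sup_of_normal_left.mp hk
    refine ⟨l, hl, ?_⟩
    rw [show l⁻¹ * v ^ q = l⁻¹ * (v ^ q * c⁻¹) * c by group, ← hlm, inv_mul_cancel_left]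
    exact mul_mem hm.2 hc
  -- the lattice
  obtain ⟨V, _, hfinV, htf, φ₀, hφ₀⟩ := exists_free_abelianization (F := FreeGroup Q)
  haveI := hfinV
  haveI := htf
  have hle : rel p ≤ φ₀.ker := by
    rw [hφ₀]
    exact Subgroup.commutator_mono le_top le_rfl
  let φ : Ext p →* Multiplicative V := QuotientGroup.lift _ φ₀ hle
  have hker : φ.ker = commutator (Ext p) := by
    refine le_antisymm (fun x hx => ?_) (Abelianization.commutator_subset_ker φ)
    induction x using QuotientGroup.induction_on with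
    | _ a =>
      have : a ∈ commutator (FreeGroup Q) := hφ₀ ▸ MonoidHom.mem_ker.mpr (MonoidHom.mem_ker.mp hx)
      have h2 := Subgroup.mem_map_of_mem (QuotientGroup.mk' (rel p)) this
      rw [commutator_def, Subgroup.map_commutator] at h2
      exact Subgroup.commutator_mono le_top le_top h2
  have hinjL : ∀ x ∈ L, φ x = 1 → x = 1 := fun x hx hx1 => by
    have : x ∈ L ⊓ mult p := Subgroup.mem_inf.mpr ⟨hx, Subgroup.mem_inf.mpr ⟨hL hx, hker.le hx1⟩⟩
    rw [h1] at this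
    exact Subgroup.mem_bot.mp this
  let S : Submodule ℤ V := AddSubgroup.toIntSubmodule (Subgroup.toAddSubgroup' (L.map φ))
  haveI : Module.Free ℤ S := inferInstance
  let b := Module.Free.chooseBasis ℤ S
  let s : L → S := fun x => ⟨Multiplicative.toAdd (φ x.1), ⟨x.1, x.2, rfl⟩⟩
  obtain ⟨i, hi⟩ : ∃ i, ¬ (q : ℤ) ∣ b.repr (s ⟨l, hl⟩) i := by
    by_contra hc
    push Not at hc
    choose c hc using hc
    let t : S := ∑ i ∈ (b.repr (s ⟨l, hl⟩)).support, c i • b i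
    have ht : (q : ℤ) • t = s ⟨l, hl⟩ := by
      conv_rhs => rw [← b.linearCombination_repr (s ⟨l, hl⟩)]
      rw [Finsupp.linearCombination_apply, Finsupp.sum, Finset.smul_sum]
      exact Finset.sum_congr rfl fun i _ => by rw [smul_smul, ← hc i]
    obtain ⟨l₀, hl₀, hl₀t⟩ := t.2
    have hq0 : (q : ℤ) • (Multiplicative.toAdd (φ v) - (t : V)) = 0 := by
      have h3 := MonoidHom.mem_ker.mp (hker.ge hlc)
      rw [map_mul, map_inv, map_pow, inv_mul_eq_one] at h3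
      rw [smul_sub, ← Submodule.coe_smul, ht, natCast_zsmul]
      show q • Multiplicative.toAdd (φ v) - Multiplicative.toAdd (φ l) = 0
      rw [h3, toAdd_pow, sub_self]
    have hvt : Multiplicative.toAdd (φ v) = (t : V) := sub_eq_zero.mp
      ((smul_eq_zero.mp hq0).resolve_left (Nat.cast_ne_zero.mpr hq.ne_zero))
    have hmem : l₀⁻¹ * v ∈ commutator (Ext p) := by
      rw [← hker, MonoidHom.mem_ker, map_mul, map_inv, inv_mul_eq_one]
      exact Multiplicative.toAdd.injective ((congrArg Multiplicative.toAdd hl₀t).trans hvt.symm)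
    have h4 : Abelianization.of (proj p v) = 1 := by
      have h5 := Subgroup.mem_map_of_mem (proj p) hmem
      rw [commutator_def, Subgroup.map_commutator] at h5
      rw [← MonoidHom.mem_ker, Abelianization.ker_of]
      rw [map_mul, map_inv, MonoidHom.mem_ker.mp (hL hl₀), inv_one, one_mul] at h5
      exact Subgroup.commutator_mono le_top le_top h5
    rw [h4, orderOf_one] at hv
    exact hq.ne_one hv.symm
  -- the twisted complement
  let g : L →* mult p := MonoidHom.mk' (fun x => z ^ (b.repr (s x) i)) fun x y => by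
    rw [show s (x * y) = s x + s y from Subtype.ext (by
      show Multiplicative.toAdd (φ (x.1 * y.1)) = _
      rw [map_mul, toAdd_mul]; rfl), map_add, Finsupp.add_apply, zpow_add]
  let w : L →* Ext p := MonoidHom.mk' (fun x => x.1 * (g x).1) fun x y => by
    have hc := Subgroup.mem_center_iff.mp (mult_le_center p (g x).2) y.1
    rw [map_mul, Subgroup.coe_mul, Subgroup.coe_mul]
    calc x.1 * y.1 * ((g x).1 * (g y).1) = x.1 * (y.1 * (g x).1) * (g y).1 := by simp only [mul_assoc]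
      _ = x.1 * ((g x).1 * y.1) * (g y).1 := by rw [hc]
      _ = x.1 * (g x).1 * (y.1 * (g y).1) := by simp only [mul_assoc]
  let L' := w.range
  have hL' : L' ≤ (proj p).ker := by
    rintro _ ⟨x, rfl⟩
    exact mul_mem (hL x.2) (g x).2.1
  haveI hLn' : L'.Normal := ⟨fun x hx y => by
    rw [Subgroup.mem_center_iff.mp (ker_le_center p (hL' hx)) y, mul_inv_cancel_right]; exact hx⟩
  have h1' : L' ⊓ mult p = ⊥ := by
    rw [eq_bot_iff]
    intro u hu
    obtain ⟨x, rfl⟩ := (Subgroup.mem_inf.mp hu).1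
    have hxm : x.1 ∈ L ⊓ mult p := Subgroup.mem_inf.mpr ⟨x.2, by
      have := mul_mem (Subgroup.mem_inf.mp hu).2 (inv_mem (g x).2)
      rwa [show w x * (g x).1⁻¹ = x.1 from mul_inv_cancel_right _ _] at this⟩
    rw [h1] at hxm
    rw [show x = 1 from Subtype.ext (Subgroup.mem_bot.mp hxm), map_one]
    exact Subgroup.one_mem _
  have h2' : L' ⊔ mult p = (proj p).ker := by
    refine le_antisymm (sup_le hL' inf_le_left) ?_
    rw [← h2]
    refine sup_le (fun x hx => ?_) le_sup_right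
    rw [show x = w ⟨x, hx⟩ * (g ⟨x, hx⟩).1⁻¹ from (mul_inv_cancel_right _ _).symm]
    exact Subgroup.mul_mem_sup ⟨_, rfl⟩ (inv_mem (g ⟨x, hx⟩).2)
  obtain ⟨hfin', hst', e₁, he₁⟩ := cover_spec hp hL' h1' h2'
  haveI := hfin
  haveI := hfin'
  obtain ⟨e, he⟩ := h _ _ _ _ hst hst' ⟨e₀.symm⟩ ⟨e₁.symm⟩
  -- compare
  let σ' := coverMap p hL'
  have hd : ∀ x : Ext p, (x : Ext p ⧸ L')⁻¹ * e (x : Ext p ⧸ L) ∈ σ'.ker := fun x => by
    rw [MonoidHom.mem_ker, map_mul, map_inv]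
    have := DFunLike.congr_fun he (x : Ext p ⧸ L)
    rw [show σ' (e (x : Ext p ⧸ L)) = proj p x from this]
    exact inv_mul_cancel _
  let f : Ext p →* mult p := MonoidHom.mk' (fun x => e₁.symm ⟨_, hd x⟩) fun x y => by
    rw [← map_mul]
    refine congrArg _ (Subtype.ext ?_)
    show ((x * y : Ext p) : Ext p ⧸ L')⁻¹ * e ((x * y : Ext p) : Ext p ⧸ L) = _
    have hc := Subgroup.mem_center_iff.mp (hst'.2.1 (hd x)) ((y : Ext p ⧸ L')⁻¹)
    rw [QuotientGroup.mk_mul, QuotientGroup.mk_mul, map_mul, mul_inv_rev, Subgroup.coe_mul]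
    calc (y : Ext p ⧸ L')⁻¹ * (x : Ext p ⧸ L')⁻¹ * (e (x : Ext p ⧸ L) * e (y : Ext p ⧸ L))
        = (y : Ext p ⧸ L')⁻¹ * ((x : Ext p ⧸ L')⁻¹ * e (x : Ext p ⧸ L)) * e (y : Ext p ⧸ L) := by simp only [mul_assoc]
      _ = ((x : Ext p ⧸ L')⁻¹ * e (x : Ext p ⧸ L)) * (y : Ext p ⧸ L')⁻¹ * e (y : Ext p ⧸ L) := by rw [hc]
      _ = _ := by simp only [mul_assoc]
  have hfg : f l = g ⟨l, hl⟩ := by
    show e₁.symm ⟨_, hd l⟩ = _
    rw [MulEquiv.symm_apply_eq]
    refine Subtype.ext ?_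
    refine Eq.trans ?_ (he₁ (g ⟨l, hl⟩)).symm
    show (l : Ext p ⧸ L')⁻¹ * e (l : Ext p ⧸ L) = _
    rw [(QuotientGroup.eq_one_iff l).mpr hl, map_one, mul_one, ← QuotientGroup.mk_inv, QuotientGroup.eq]
    rw [inv_inv]
    exact ⟨⟨l, hl⟩, rfl⟩
  have hfv : f v ^ q = f l := by
    rw [← map_pow, ← inv_mul_eq_one, ← map_inv, ← map_mul]
    have h3 : f (l⁻¹ * v ^ q) = 1 := Abelianization.commutator_subset_ker f hlc
    rw [show (v ^ q)⁻¹ * l = (l⁻¹ * v ^ q)⁻¹ by group, map_inv, h3, inv_one]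
  rw [hfg] at hfv
  -- the value is not a q-th power
  obtain ⟨x, y, hxy⟩ := ((Nat.prime_iff_prime_int.mp hq).coprime_iff_not_dvd.mpr hi)
  refine hz (z ^ x * (f v) ^ y) ?_
  have hfv' : f v ^ q = z ^ (b.repr (s ⟨l, hl⟩) i) := hfv
  rw [mul_pow, ← zpow_natCast, ← zpow_mul, ← zpow_natCast ((f v) ^ y), ← zpow_mul, mul_comm y, zpow_mul (f v), zpow_natCast,
    hfv', ← zpow_mul, ← zpow_add, show x * (q : ℤ) + b.repr (s ⟨l, hl⟩) i * y = 1 by rw [← hxy]; ring, zpow_one]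

end Aux

/-- Let `Q` be a finite group with Schur multiplier `A`. Any two Schur covering groups of `Q` (finite stem extensions `σ₁ : Γ₁ →* Q`, `σ₂ : Γ₂ →* Q` with kernels isomorphic to `A`, `Γ₁, Γ₂` in the universe of `Q`) are isomorphic over `Q` — there is a group isomorphism `e : Γ₁ ≃* Γ₂` with `σ₂ ∘ e = σ₁` — if and only if the order of the commutator quotient of `Q` is coprime to the order of `A`. In particular a finite perfect group has a unique Schur covering group up to isomorphism over it. -/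
theorem result {Q : Type u} [Group Q] [Finite Q] {A : Type v} [CommGroup A] (hA : Cfsg.HasSchurMultiplier Q A) : (∀ (Γ₁ Γ₂ : Type u) [Group Γ₁] [Finite Γ₁] [Group Γ₂] [Finite Γ₂] (σ₁ : Γ₁ →* Q) (σ₂ : Γ₂ →* Q), Cfsg.IsStemExtension σ₁ → Cfsg.IsStemExtension σ₂ → Nonempty (σ₁.ker ≃* A) → Nonempty (σ₂.ker ≃* A) → ∃ e : Γ₁ ≃* Γ₂, σ₂.comp e.toMonoidHom = σ₁) ↔ Nat.Coprime (Nat.card (Abelianization Q)) (Nat.card A) := by

  obtain ⟨e⟩ := CfsgLib.Schur.mulEquiv_mult hA (CfsgLib.Schur.basePres_surjective Q)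
  constructor
  · intro h
    rw [Nat.card_congr e.toEquiv]
    refine Aux.coprime_of_unique fun Γ₁ Γ₂ _ _ _ _ σ₁ σ₂ h1 h2 k1 k2 => ?_
    obtain ⟨k1⟩ := k1
    obtain ⟨k2⟩ := k2
    exact h Γ₁ Γ₂ σ₁ σ₂ h1 h2 ⟨k1.trans e.symm⟩ ⟨k2.trans e.symm⟩
  · intro hcop Γ₁ Γ₂ _ _ _ _ σ₁ σ₂ h1 h2 k1 k2
    obtain ⟨k1⟩ := k1
    obtain ⟨k2⟩ := k2
    exact Aux.exists_iso (by rwa [← Nat.card_congr e.toEquiv]) σ₁ σ₂ h1 h2 ⟨k1.trans e⟩ ⟨k2.trans e⟩

end Cfsg.Agent.S3974
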