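import Cfsg.Statements.S3976
import Cfsg.Agent.S3975
import Mathlib
-- import your own Cfsg.Agent.* helpers here

set_option autoImplicit false
open Cfsg Pointwise

namespace Cfsg.Agent.S3976

/-- Let `p` be a prime and `G` a group of order `p ^ m`. For every `s ≤ m` the number of normal subgroups of `G` of order `p ^ s` is congruent to `1` modulo `p`. -/
theorem result {G : Type*} [Group G] [Finite G] (p m s : ℕ) (hp : p.Prime) (hG : Nat.card G = p ^ m) (hs : s ≤ m) : Nat.card {H : Subgroup G // H.Normal ∧ Nat.card H = p ^ s} ≡ 1 [MOD p] := by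
  have := Fact.mk hp
  let Ω := {H : Subgroup G // Nat.card H = p ^ s}
  let _ : MulAction (ConjAct G) Ω :=
    { smul := fun g H => ⟨g • H.1, by
        rw [Nat.card_congr (Subgroup.equivSMul g H.1).toEquiv.symm]; exact H.2⟩
      one_smul := fun H => Subtype.ext (one_smul (ConjAct G) H.1)
      mul_smul := fun g h H => Subtype.ext (mul_smul g h H.1) }
  have hp' : IsPGroup p (ConjAct G) := IsPGroup.of_card (n := m) (by
    rw [Nat.card_congr ConjAct.ofConjAct.toEquiv, hG])
  have hmod := hp'.card_modEq_card_fixedPoints Ω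
  have h1 := Cfsg.Agent.S3975.result (G := G) p s hp (hG ▸ pow_dvd_pow p hs)
  have e : Nat.card (MulAction.fixedPoints (ConjAct G) Ω) =
      Nat.card {H : Subgroup G // H.Normal ∧ Nat.card H = p ^ s} := by
    refine Nat.card_congr
      { toFun := fun H => ⟨H.1.1, ⟨fun x hx g => ?_⟩, H.1.2⟩
        invFun := fun H => ⟨⟨H.1, H.2.2⟩, fun g => Subtype.ext ?_⟩
        left_inv := fun H => rfl
        right_inv := fun H => rfl }
    · have h2 : ConjAct.toConjAct g • H.1.1 = H.1.1 := congrArg Subtype.val (H.2 (ConjAct.toConjAct g))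
      rw [← h2]
      exact Subgroup.smul_mem_pointwise_smul x (ConjAct.toConjAct g) H.1.1 hx
    · show g • H.1 = H.1
      have := H.2.1
      exact Subgroup.Normal.conjAct this g
  rw [← e]
  exact hmod.symm.trans h1

end Cfsg.Agent.S3976
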