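import Cfsg.Statements.S3977
import Mathlib
import Cfsg.Agent.Lib.UniqueSubgroup
-- import your own Cfsg.Agent.* helpers here

set_option autoImplicit false
open Cfsg

namespace Cfsg.Agent.S3977

/-- Let `p` be a prime and `G` a group of order `p ^ m` which has exactly one subgroup of order `p ^ s`, where `1 ≤ s < m`, and where `s ≥ 2` if `p = 2`. Then `G` is cyclic. (For `p = 2` and `s = 1` the generalized quaternion groups also occur; that case is the classical criterion for a unique involution.) -/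
theorem result {G : Type*} [Group G] [Finite G] (p m s : ℕ) (hp : p.Prime) (hG : Nat.card G = p ^ m) (hs : 1 ≤ s) (hsm : s < m) (h2 : p ≠ 2 ∨ 2 ≤ s) (huniq : ∀ H K : Subgroup G, Nat.card H = p ^ s → Nat.card K = p ^ s → H = K) : IsCyclic G := by
  classical
  have : Fact p.Prime := ⟨hp⟩
  have hGp : IsPGroup p G := IsPGroup.of_card hG
  obtain ⟨H, hH⟩ := Sylow.exists_subgroup_card_pow_prime p (n := s) (hG ▸ pow_dvd_pow p hsm.le)
  have hmem : ∀ x : G, x ^ p ^ s = 1 → x ∈ H := by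
    intro x hx
    obtain ⟨k, hk, hk'⟩ := (Nat.dvd_prime_pow hp).mp (orderOf_dvd_of_pow_eq_one hx)
    obtain ⟨K, hK, hxK⟩ := Sylow.exists_subgroup_card_pow_prime_le p (n := k) (m := s)
      (hG ▸ pow_dvd_pow p hsm.le) (Subgroup.zpowers x) (by rw [Nat.card_zpowers, hk']) hk
    rw [huniq H K hH hK]
    exact hxK (Subgroup.mem_zpowers x)
  obtain ⟨K, hK, hHK⟩ := Sylow.exists_subgroup_card_pow_prime_le p (n := s) (m := s + 1)
    (hG ▸ pow_dvd_pow p hsm) H hH (Nat.le_succ s)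
  obtain ⟨x, hxK, hxH⟩ : ∃ x ∈ K, x ∉ H := by
    by_contra hc
    push Not at hc
    have h1 := Subgroup.card_le_of_le (show K ≤ H from hc)
    rw [hK, hH] at h1
    exact absurd h1 (not_le.mpr (Nat.pow_lt_pow_right hp.one_lt (Nat.lt_succ_self s)))
  have hxo : orderOf x = p ^ (s + 1) := by
    obtain ⟨k, hk, hk'⟩ := (Nat.dvd_prime_pow hp).mp (hK ▸ Subgroup.orderOf_dvd_natCard K hxK)
    rcases eq_or_lt_of_le hk with e | e
    · rw [hk', e]
    · exact absurd (hmem x (orderOf_dvd_iff_pow_eq_one.mp (hk' ▸ pow_dvd_pow p (Nat.le_of_lt_succ e)))) hxH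
  have hKx : Subgroup.zpowers x = K :=
    Subgroup.eq_of_le_of_card_ge (Subgroup.zpowers_le.mpr hxK) (by rw [Nat.card_zpowers, hxo, hK])
  have hcyc : ∀ y ∈ H, ∃ j : ℤ, x ^ j = y := fun y hy => (hKx ▸ hHK hy : y ∈ Subgroup.zpowers x)
  set z := x ^ p ^ s
  have hz : orderOf z = p := by
    rw [orderOf_pow_of_dvd (pow_ne_zero _ hp.ne_zero) (hxo ▸ pow_dvd_pow p (Nat.le_succ s)), hxo,
      pow_succ, Nat.mul_div_cancel_left _ (pow_pos hp.pos s)]
  have huz : ∀ y : G, y ^ p = 1 → y ∈ Subgroup.zpowers z := by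
    intro y hy
    have hyH : y ∈ H := hmem y (by
      obtain ⟨c, hc⟩ := dvd_pow_self p (show s ≠ 0 by omega)
      rw [hc, pow_mul, hy, one_pow])
    obtain ⟨j, rfl⟩ := hcyc y hyH
    rw [← zpow_natCast, ← zpow_mul, ← orderOf_dvd_iff_zpow_eq_one, hxo, pow_succ] at hy
    push_cast at hy
    obtain ⟨t, rfl⟩ := Int.dvd_of_mul_dvd_mul_right (by exact_mod_cast hp.ne_zero) hy
    refine ⟨t, ?_⟩
    show (x ^ p ^ s) ^ t = _
    rw [← zpow_natCast, ← zpow_mul]
    push_cast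
    rfl
  rcases CfsgLib.UniqueSubgroup.cyclic_or_quaternion hGp hz huz with h | ⟨rfl, n, hn, ⟨e⟩⟩
  · exact h
  exfalso
  have hs2 : 2 ≤ s := h2.resolve_left (not_not.mpr rfl)
  have hin : ∀ i : ZMod (2 * 2 ^ n), e.symm (QuaternionGroup.xa i) ∈ H := fun i => by
    refine hmem _ (orderOf_dvd_iff_pow_eq_one.mp ?_)
    rw [MulEquiv.orderOf_eq, QuaternionGroup.orderOf_xa]
    exact pow_dvd_pow 2 hs2
  obtain ⟨a, ha⟩ := hcyc _ (hin 0)
  obtain ⟨b, hb⟩ := hcyc _ (hin 1)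
  have hc : Commute (e.symm (QuaternionGroup.xa 0)) (e.symm (QuaternionGroup.xa 1)) := by
    rw [← ha, ← hb]; exact Commute.zpow_zpow_self x a b
  have h3 := hc.map e.toMonoidHom
  simp only [MulEquiv.coe_toMonoidHom, MulEquiv.apply_symm_apply] at h3
  have h4 := h3.eq
  rw [QuaternionGroup.xa_mul_xa, QuaternionGroup.xa_mul_xa] at h4
  simp only [QuaternionGroup.a.injEq] at h4
  have h5 : ((2 : ℕ) : ZMod (2 * 2 ^ n)) = 0 := by
    have h6 := sub_eq_zero.mpr h4
    push_cast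
    rw [← h6]
    ring
  rw [ZMod.natCast_eq_zero_iff] at h5
  have h7 := Nat.le_of_dvd (by norm_num) h5
  have : 2 ≤ 2 ^ n := Nat.le_self_pow (by omega) 2
  omega

end Cfsg.Agent.S3977
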