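import Cfsg.Statements.S3978
import Mathlib
import Cfsg.Agent.Lib.SchurTheory.Projective
-- import your own Cfsg.Agent.* helpers here

set_option autoImplicit false
open Cfsg

namespace Cfsg.Agent.S3978

/-- A finite group `Q` has trivial Schur multiplier if and only if, for every `n`, every homomorphism from `Q` to the projective general linear group (the quotient of `GL n ℂ` by its centre) lifts to a homomorphism into `GL n ℂ`. -/
theorem result {Q : Type*} [Group Q] [Finite Q] : Cfsg.HasCyclicSchurMultiplier Q 1 ↔ ∀ (n : ℕ) (γ : Q →* (GL (Fin n) ℂ ⧸ Subgroup.center (GL (Fin n) ℂ))), ∃ ρ : Q →* GL (Fin n) ℂ, (QuotientGroup.mk' (Subgroup.center (GL (Fin n) ℂ))).comp ρ = γ := by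

  have hid : Cfsg.IsStemExtension (MonoidHom.id Q) :=
    ⟨Function.surjective_id, by simp [MonoidHom.ker_id], by simp [MonoidHom.ker_id]⟩
  have hk : Nat.card (MonoidHom.id Q).ker = 1 := by rw [MonoidHom.ker_id, Subgroup.card_bot]
  constructor
  · intro h n γ
    obtain ⟨e⟩ := CfsgLib.Schur.mulEquiv_mult h (CfsgLib.Schur.basePres_surjective Q)
    obtain ⟨ρ, hρ⟩ := CfsgLib.Schur.exists_proj_lift hid
      (by rw [← Nat.card_congr e.toEquiv, hk, Nat.card_unique]) n γ
    exact ⟨ρ, by rw [hρ, MonoidHom.comp_id]⟩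
  · intro h
    have hle := CfsgLib.Schur.card_le_of_lift hid (fun n γ => by
      obtain ⟨ρ, hρ⟩ := h n γ
      exact ⟨ρ, by rw [hρ, MonoidHom.comp_id]⟩)
    refine ⟨⟨Q, inferInstance, inferInstance, MonoidHom.id Q, hid, ?_⟩, fun Γ _ _ σ hσ => ?_⟩
    · rw [MonoidHom.ker_id]
      exact ⟨MulEquiv.ofUnique⟩
    obtain ⟨p, hp⟩ := CfsgLib.Schur.exists_surjective_of_card hid hle hσ
    haveI : Subsingleton (MonoidHom.id Q).ker := (Nat.card_eq_one_iff_unique.mp hk).1
    exact ⟨1, fun x => by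
      obtain ⟨a, rfl⟩ := hp x
      exact ⟨1, by rw [Subsingleton.elim a 1, map_one, map_one]⟩⟩

end Cfsg.Agent.S3978
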