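import Cfsg.Statements.S3979
import Mathlib
-- import your own Cfsg.Agent.* helpers here

set_option autoImplicit false
open Cfsg

namespace Cfsg.Agent.S3979

open scoped commutatorElement

/-- A finite cyclic group has trivial Schur multiplier: every finite stem extension of it is an isomorphism, said through `HasCyclicSchurMultiplier G 1`. -/
theorem result {G : Type*} [Group G] [Finite G] [IsCyclic G] : Cfsg.HasCyclicSchurMultiplier G 1 := by
  refine ⟨⟨G, inferInstance, inferInstance, MonoidHom.id G, ⟨Function.surjective_id, ?_, ?_⟩, ?_⟩, fun Γ _ _ σ hσ => ?_⟩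
  · simp [MonoidHom.ker_id]
  · simp [MonoidHom.ker_id]
  · rw [MonoidHom.ker_id]
    exact ⟨MulEquiv.ofUnique⟩
  · have hbot : σ.ker = ⊥ := by
      have hab : ∀ a b : Γ, a * b = b * a := commutative_of_cyclic_center_quotient σ hσ.2.1
      have hcb : commutator Γ = ⊥ := by
        rw [eq_bot_iff, commutator_def, Subgroup.commutator_le]
        intro a _ b _
        rw [Subgroup.mem_bot, commutatorElement_eq_one_iff_mul_comm]
        exact hab a b
      exact le_bot_iff.mp (hcb ▸ hσ.2.2)
    refine ⟨1, fun x => ⟨1, Subtype.ext ?_⟩⟩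
    have : (x : Γ) ∈ (⊥ : Subgroup Γ) := hbot ▸ x.2
    rw [Subgroup.mem_bot.mp this]
    rfl

end Cfsg.Agent.S3979
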