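import Cfsg.Statements.S3980
import Mathlib
import Cfsg.Agent.Lib.SchurTheory.Product
-- import your own Cfsg.Agent.* helpers here

set_option autoImplicit false
universe u v w
open Cfsg

namespace Cfsg.Agent.S3980

/-- Let `Q₁` and `Q₂` be finite groups whose commutator quotients have coprime orders, with Schur multipliers `A` and `B`. Then the Schur multiplier of `Q₁ × Q₂` is isomorphic to `A × B`. -/
theorem result {Q₁ : Type u} {Q₂ : Type v} [Group Q₁] [Group Q₂] [Finite Q₁] [Finite Q₂] {A B : Type w} [CommGroup A] [CommGroup B] (hA : Cfsg.HasSchurMultiplier Q₁ A) (hB : Cfsg.HasSchurMultiplier Q₂ B) (hcop : Nat.Coprime (Nat.card (Abelianization Q₁)) (Nat.card (Abelianization Q₂))) : Cfsg.HasSchurMultiplier (Q₁ × Q₂) (A × B) := by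

  obtain ⟨e₁⟩ := CfsgLib.Schur.mulEquiv_mult hA (CfsgLib.Schur.basePres_surjective Q₁)
  obtain ⟨e₂⟩ := CfsgLib.Schur.mulEquiv_mult hB (CfsgLib.Schur.basePres_surjective Q₂)
  have hT : ∀ t : CfsgLib.Schur.abTensor Q₁ Q₂, t = 0 := by
    obtain ⟨x, y, hxy⟩ := Nat.isCoprime_iff_coprime.mpr hcop
    intro t
    induction t using TensorProduct.induction_on with
    | zero => rfl
    | add a b ha hb => rw [ha, hb, add_zero]
    | tmul a b =>
      have h1 : ((Nat.card (Abelianization Q₁) : ℤ)) • a = 0 := by
        rw [natCast_zsmul]; exact Additive.toMul.injective (show a.toMul ^ Nat.card (Abelianization Q₁) = 1 from pow_card_eq_one')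
      have h2 : ((Nat.card (Abelianization Q₂) : ℤ)) • b = 0 := by
        rw [natCast_zsmul]; exact Additive.toMul.injective (show b.toMul ^ Nat.card (Abelianization Q₂) = 1 from pow_card_eq_one')
      calc TensorProduct.tmul ℤ a b = (x * Nat.card (Abelianization Q₁) + y * Nat.card (Abelianization Q₂)) • TensorProduct.tmul ℤ a b := by rw [hxy, one_smul]
        _ = x • TensorProduct.tmul ℤ ((Nat.card (Abelianization Q₁) : ℤ) • a) b +
            y • TensorProduct.tmul ℤ a ((Nat.card (Abelianization Q₂) : ℤ) • b) := by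
              rw [add_smul, mul_smul, mul_smul, TensorProduct.smul_tmul', TensorProduct.tmul_smul]
        _ = 0 := by rw [h1, h2, TensorProduct.zero_tmul, TensorProduct.tmul_zero, smul_zero, smul_zero, add_zero]
  refine CfsgLib.Schur.hasSchur_congr ?_ CfsgLib.Schur.hasSchur_prod
  exact
    { toFun := fun z => (e₁.symm z.1, e₂.symm z.2.1)
      invFun := fun z => (e₁ z.1, e₂ z.2, 1)
      left_inv := fun z => by
        refine Prod.ext (e₁.apply_symm_apply _) (Prod.ext (e₂.apply_symm_apply _) ?_)
        exact Multiplicative.toAdd.injective (hT _).symm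
      right_inv := fun z => Prod.ext (e₁.symm_apply_apply _) (e₂.symm_apply_apply _)
      map_mul' := fun z z' => Prod.ext (map_mul e₁.symm _ _) (map_mul e₂.symm _ _) }

end Cfsg.Agent.S3980
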