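import Cfsg.Statements.S3981
import Mathlib
-- import your own Cfsg.Agent.* helpers here

set_option autoImplicit false
open Cfsg

namespace Cfsg.Agent.S3981

open scoped Pointwise

/-- Let p be an odd prime, Q a p-subgroup of the finite group G and y an involution normalizing Q. Then Q is maximal among the p-subgroups of G normalized by y if and only if the image of y in N_G(Q) ⧸ Q neither inverts nor centralizes any element of order p there; the latter is phrased inside N_G(Q): for every x in N_G(Q) outside Q with x ^ p ∈ Q, neither y x y⁻¹ x nor y x y⁻¹ x⁻¹ lies in Q. -/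
theorem result {G : Type*} [Group G] [Finite G] (p : ℕ) [Fact p.Prime] (hp2 : p ≠ 2) (Q : Subgroup G) (hQ : IsPGroup p ↥Q) (y : G) (hy : orderOf y = 2) (hyQ : y ∈ Subgroup.normalizer (Q : Set G)) : (∀ R : Subgroup G, IsPGroup p ↥R → Q ≤ R → y ∈ Subgroup.normalizer (R : Set G) → R = Q) ↔ ∀ x : G, x ∈ Subgroup.normalizer (Q : Set G) → x ∉ Q → x ^ p ∈ Q → (y * x * y⁻¹ * x ∉ Q ∧ y * x * y⁻¹ * x⁻¹ ∉ Q) := by
  classical
  have hy2 : y * y = 1 := by rw [← pow_two, ← hy, pow_orderOf_eq_one]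
  constructor
  · intro hmax x hxN hxQ hxp
    have hR : IsPGroup p ↥(Q ⊔ Subgroup.zpowers x) := by
      refine IsPGroup.to_sup_of_normal_left' hQ ?_ (Subgroup.zpowers_le.mpr hxN)
      obtain ⟨k, hk⟩ := hQ ⟨x ^ p, hxp⟩
      have : x ^ p ^ (k + 1) = 1 := by
        rw [pow_succ', pow_mul]; exact congrArg Subtype.val hk
      rintro ⟨w, i, rfl⟩
      refine ⟨k + 1, Subtype.ext ?_⟩
      show (x ^ i) ^ p ^ (k + 1) = 1
      rw [← zpow_natCast (x ^ i), ← zpow_mul, mul_comm, zpow_mul, zpow_natCast, this, one_zpow]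
    have hxm : x ∈ Q ⊔ Subgroup.zpowers x := Subgroup.mem_sup_right (Subgroup.mem_zpowers x)
    have main : y * x * y⁻¹ ∈ Q ⊔ Subgroup.zpowers x → False := by
      intro hyx
      have hn : y ∈ Subgroup.normalizer ((Q ⊔ Subgroup.zpowers x : Subgroup G) : Set G) := by
        have key : ∀ w ∈ Q ⊔ Subgroup.zpowers x, y * w * y⁻¹ ∈ Q ⊔ Subgroup.zpowers x := by
          have : Q ⊔ Subgroup.zpowers x ≤ (Q ⊔ Subgroup.zpowers x).comap (MulAut.conj y).toMonoidHom :=
            sup_le (fun w hw => Subgroup.mem_sup_left ((Subgroup.mem_normalizer_iff.mp hyQ w).mp hw))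
              (Subgroup.zpowers_le.mpr hyx)
          exact fun w hw => this hw
        rw [Subgroup.mem_normalizer_iff]
        refine fun w => ⟨key w, fun h => ?_⟩
        have h2 := key _ h
        have e : y * (y * w * y⁻¹) * y⁻¹ = w := by
          rw [inv_eq_of_mul_eq_one_right hy2]
          calc y * (y * w * y) * y = (y * y) * w * (y * y) := by group
            _ = w := by rw [hy2, one_mul, mul_one]
        rwa [e] at h2
      exact hxQ (hmax _ hR le_sup_left hn ▸ hxm)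
    constructor
    · intro h
      exact main (by simpa using mul_mem (Subgroup.mem_sup_left h : _ ∈ Q ⊔ Subgroup.zpowers x) (inv_mem hxm))
    · intro h
      exact main (by simpa using mul_mem (Subgroup.mem_sup_left h : _ ∈ Q ⊔ Subgroup.zpowers x) hxm)
  · intro h R hR hQR hyR
    by_contra hne
    set N := Subgroup.normalizer (Q : Set G) with hN
    have hQN : Q ≤ N := Subgroup.le_normalizer
    have hQn : (Q.subgroupOf N).Normal := (Subgroup.normal_subgroupOf_iff_le_normalizer hQN).mpr le_rfl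
    let π := QuotientGroup.mk' (Q.subgroupOf N)
    set Rb : Subgroup (N ⧸ Q.subgroupOf N) := (R.subgroupOf N).map π with hRb
    have hRbp : IsPGroup p Rb := (hR.comap_of_injective N.subtype N.subtype_injective).map π
    have hRne : Nontrivial Rb := by
      have := hR.isNilpotent
      have hlt : Q.subgroupOf R < ⊤ :=
        lt_top_iff_ne_top.mpr fun e => hne (le_antisymm (Subgroup.subgroupOf_eq_top.mp e) hQR)
      obtain ⟨⟨u, huR⟩, hu, hun⟩ := SetLike.exists_of_lt (Group.normalizerCondition_of_isNilpotent _ hlt)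
      have huN : u ∈ N := by
        rw [hN, Subgroup.mem_normalizer_iff]
        intro w
        rw [Subgroup.mem_normalizer_iff] at hu
        constructor
        · intro hw
          exact (hu ⟨w, hQR hw⟩).mp hw
        · intro hw
          have hwR : w ∈ R := by simpa [mul_assoc] using mul_mem (mul_mem (inv_mem huR) (hQR hw)) huR
          exact (hu ⟨w, hwR⟩).mpr hw
      refine ⟨⟨π ⟨u, huN⟩, ⟨⟨u, huN⟩, huR, rfl⟩⟩, 1, fun e => hun ?_⟩
      exact (QuotientGroup.eq_one_iff (⟨u, huN⟩ : N)).mp (congrArg Subtype.val e)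
    have := hRbp.center_nontrivial
    obtain ⟨k, hk⟩ := IsPGroup.iff_card.mp (hRbp.to_subgroup (Subgroup.center Rb))
    have hk0 : k ≠ 0 := by
      rintro rfl
      exact (Finite.one_lt_card (α := Subgroup.center Rb)).ne' (by simpa using hk)
    obtain ⟨⟨⟨z, hzR⟩, hzc⟩, hzo⟩ := exists_prime_orderOf_dvd_card' (G := Subgroup.center Rb) p (hk ▸ dvd_pow_self p hk0)
    rw [Subgroup.orderOf_mk, Subgroup.orderOf_mk] at hzo
    set yb := π ⟨y, hyQ⟩ with hyb
    have hyb2 : yb * yb = 1 := by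
      rw [hyb, ← map_mul, show (⟨y, hyQ⟩ * ⟨y, hyQ⟩ : N) = 1 from Subtype.ext hy2, map_one]
    have hconj : ∀ w ∈ Rb, yb * w * yb⁻¹ ∈ Rb := by
      rintro _ ⟨⟨v, hvN⟩, hv, rfl⟩
      refine ⟨⟨y, hyQ⟩ * ⟨v, hvN⟩ * ⟨y, hyQ⟩⁻¹, (Subgroup.mem_normalizer_iff.mp hyR v).mp hv, ?_⟩
      rw [map_mul, map_mul, map_inv]
    have hyi : yb⁻¹ = yb := inv_eq_of_mul_eq_one_right hyb2
    set w := yb * z * yb⁻¹ with hw
    have hwR : w ∈ Rb := hconj z hzR
    have hzw : Commute z w := (congrArg Subtype.val (Subgroup.mem_center_iff.mp hzc ⟨w, hwR⟩)).symm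
    have hwy : yb * w * yb⁻¹ = z := by
      rw [hw, hyi]
      calc yb * (yb * z * yb) * yb = (yb * yb) * z * (yb * yb) := by group
        _ = z := by rw [hyb2, one_mul, mul_one]
    have hzp : z ^ p = 1 := hzo ▸ pow_orderOf_eq_one z
    have key : ∀ t ∈ Rb, t ≠ 1 → t ^ p = 1 → (yb * t * yb⁻¹ * t = 1 ∨ yb * t * yb⁻¹ * t⁻¹ = 1) → False := by
      intro t ht ht1 htp hor
      obtain ⟨⟨x, hxN⟩, hx, rfl⟩ := ht
      have hxQ : x ∉ Q := fun hq => ht1 ((QuotientGroup.eq_one_iff (⟨x, hxN⟩ : N)).mpr hq)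
      have hxp : x ^ p ∈ Q := (QuotientGroup.eq_one_iff ((⟨x, hxN⟩ : N) ^ p)).mp
        ((map_pow π (⟨x, hxN⟩ : N) p).trans htp)
      obtain ⟨h1, h2⟩ := h x hxN hxQ hxp
      rcases hor with e | e
      · exact h1 ((QuotientGroup.eq_one_iff ((⟨y, hyQ⟩ * ⟨x, hxN⟩ * ⟨y, hyQ⟩⁻¹ * ⟨x, hxN⟩ : N))).mp
          (by show π _ = 1; rw [map_mul, map_mul, map_mul, map_inv]; exact e))
      · exact h2 ((QuotientGroup.eq_one_iff ((⟨y, hyQ⟩ * ⟨x, hxN⟩ * ⟨y, hyQ⟩⁻¹ * ⟨x, hxN⟩⁻¹ : N))).mp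
          (by show π _ = 1; rw [map_mul, map_mul, map_mul, map_inv, map_inv]; exact e))
    by_cases hu : z * w = 1
    · refine key z hzR (fun e => (Fact.out : p.Prime).ne_one (by rw [← hzo, e, orderOf_one])) hzp (Or.inl ?_)
      rw [← hw, ← hzw.eq, hu]
    · refine key (z * w) (mul_mem hzR hwR) hu ?_ (Or.inr ?_)
      · rw [hzw.mul_pow, hzp, hw, conj_pow, hzp, mul_one, mul_inv_cancel, mul_one]
      · have e : yb * (z * w) * yb⁻¹ = (yb * z * yb⁻¹) * (yb * w * yb⁻¹) := by group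
        rw [e, hwy, ← hw, ← hzw.eq, mul_inv_cancel]

end Cfsg.Agent.S3981
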