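import Cfsg.Statements.S3982
import Mathlib
import Cfsg.Agent.Lib.Coprime
-- import your own Cfsg.Agent.* helpers here

set_option autoImplicit false
open Cfsg

namespace Cfsg.Agent.S3982

open scoped Pointwise

/-- Let p be an odd prime and G a finite group of even order divisible by p in which the centralizer of every non-identity p-element has odd order. If some nontrivial p-subgroup of G has a normalizer of even order, then the normalizer of every Sylow p-subgroup of G has even order. -/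
theorem result {G : Type*} [Group G] [Finite G] (p : ℕ) [Fact p.Prime] (hp2 : p ≠ 2) (hpG : p ∣ Nat.card G) (h2G : 2 ∣ Nat.card G) (hC : ∀ g : G, g ≠ 1 → (∃ k : ℕ, orderOf g = p ^ k) → Odd (Nat.card ↥(Subgroup.centralizer ({g} : Set G)))) (Q : Subgroup G) (hQ : IsPGroup p ↥Q) (hQ1 : Q ≠ ⊥) (hev : Even (Nat.card ↥(Subgroup.normalizer (Q : Set G)))) (P : Sylow p G) : Even (Nat.card ↥(Subgroup.normalizer ((P : Subgroup G) : Set G))) := by
  classical
  have hp : p.Prime := Fact.out
  have : Fact (Nat.Prime 2) := ⟨Nat.prime_two⟩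
  obtain ⟨⟨y, hyQ⟩, hyo⟩ := exists_prime_orderOf_dvd_card' 2 (even_iff_two_dvd.mp hev)
  rw [Subgroup.orderOf_mk] at hyo
  have hy2 : y * y = 1 := by rw [← pow_two, ← hyo, pow_orderOf_eq_one]
  have hyi : y⁻¹ = y := inv_eq_of_mul_eq_one_right hy2
  obtain ⟨R, hQR, ⟨hR, hyR⟩, hmax⟩ := (Set.toFinite {R : Subgroup G | IsPGroup p R ∧ y ∈ Subgroup.normalizer (R : Set G)}).exists_le_maximal
    (show Q ∈ {R : Subgroup G | IsPGroup p R ∧ y ∈ Subgroup.normalizer (R : Set G)} from ⟨hQ, hyQ⟩)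
  have hR1 : R ≠ ⊥ := fun e => hQ1 (le_bot_iff.mp (e ▸ hQR))
  have hodd : ∀ g : G, g ≠ 1 → (∃ k : ℕ, orderOf g = p ^ k) → ∀ u : G, u * g = g * u → orderOf u ≠ 2 := by
    intro g hg hgp u hu h2
    have h1 : orderOf u ∣ Nat.card (Subgroup.centralizer ({g} : Set G)) :=
      Subgroup.orderOf_dvd_natCard _ (Subgroup.mem_centralizer_singleton_iff.mpr hu)
    rw [h2] at h1
    exact (hC g hg hgp).not_two_dvd_nat h1
  have hpel : ∀ r ∈ R, ∃ k : ℕ, orderOf r = p ^ k := fun r hr => by
    obtain ⟨k, hk⟩ := IsPGroup.iff_orderOf.mp hR ⟨r, hr⟩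
    exact ⟨k, by rwa [Subgroup.orderOf_mk] at hk⟩
  -- `y` inverts `R`
  let φ : R →* R := MonoidHom.mk' (fun r => ⟨y * r * y⁻¹, (Subgroup.mem_normalizer_iff.mp hyR r).mp r.2⟩)
    (fun a b => Subtype.ext (by show y * ((a : G) * b) * y⁻¹ = y * a * y⁻¹ * (y * b * y⁻¹); group))
  have hfpf : MonoidHom.FixedPointFree φ := by
    intro r hr
    by_contra hr1
    have h1 : y * (r : G) * y⁻¹ = r := congrArg Subtype.val hr
    exact hodd r (fun e => hr1 (Subtype.ext e)) (hpel r r.2) y (mul_inv_eq_iff_eq_mul.mp h1) hyo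
  have hinv2 : Function.Involutive φ := fun r => Subtype.ext (by
    show y * (y * (r : G) * y⁻¹) * y⁻¹ = r
    rw [hyi]
    calc y * (y * (r : G) * y) * y = (y * y) * r * (y * y) := by group
      _ = r := by rw [hy2, one_mul, mul_one])
  have hyinv : ∀ r ∈ R, y * r * y⁻¹ = r⁻¹ := fun r hr =>
    congrArg Subtype.val (congrFun (MonoidHom.FixedPointFree.coe_eq_inv_of_involutive hfpf hinv2) ⟨r, hr⟩)
  have hRab : ∀ a ∈ R, ∀ b ∈ R, a * b = b * a := fun a ha b hb =>
    congrArg Subtype.val (MonoidHom.FixedPointFree.commute_all_of_involutive hfpf hinv2 ⟨a, ha⟩ ⟨b, hb⟩).eq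
  set N := Subgroup.normalizer (R : Set G) with hN
  set C := Subgroup.centralizer (R : Set G) with hCdef
  have hRC : R ≤ C := fun a ha => Subgroup.mem_centralizer_iff.mpr fun b hb => hRab b hb a ha
  have hCN : C ≤ N := Subgroup.centralizer_le_normalizer _
  have hCodd : Odd (Nat.card C) := by
    obtain ⟨r, hr, hr1⟩ := (Subgroup.bot_or_exists_ne_one R).resolve_left hR1
    refine Odd.of_dvd_nat (hC r hr1 (hpel r hr)) (Subgroup.card_dvd_of_le fun c hc => ?_)
    exact Subgroup.mem_centralizer_singleton_iff.mpr (Subgroup.mem_centralizer_iff.mp hc r hr).symm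
  have hCn : ∀ g ∈ N, ∀ c ∈ C, g * c * g⁻¹ ∈ C := by
    intro g hg c hc
    rw [hCdef, Subgroup.mem_centralizer_iff]
    intro r hr
    have h1 := Subgroup.mem_centralizer_iff.mp hc (g⁻¹ * r * g) ((Subgroup.mem_normalizer_iff''.mp hg r).mp hr)
    have h2 := congrArg (fun t => g * t * g⁻¹) h1
    simpa [mul_assoc] using h2
  have hyC : Subgroup.zpowers y ≤ Subgroup.normalizer (C : Set G) := by
    rw [Subgroup.zpowers_le, Subgroup.mem_normalizer_iff]
    refine fun c => ⟨hCn y hyR c, fun h => ?_⟩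
    simpa [mul_assoc] using hCn y⁻¹ (inv_mem hyR) _ h
  obtain ⟨S, hS⟩ := CfsgLib.coprime_exists_invariant_sylow hyC
    (by rw [Nat.card_zpowers, hyo]; exact Nat.coprime_two_left.mpr hCodd)
    (Or.inl inferInstance) p
  have hSR : (S : Subgroup C).map C.subtype ≤ R := by
    have hp2 : IsPGroup p (R ⊔ (S : Subgroup C).map C.subtype : Subgroup G) :=
      IsPGroup.to_sup_of_normal_left' hR (S.isPGroup'.map _) ((Subgroup.map_subtype_le _).trans hCN)
    have hy' : y ∈ Subgroup.normalizer ((R ⊔ (S : Subgroup C).map C.subtype : Subgroup G) : Set G) := by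
      have h1 := hS (Subgroup.mem_zpowers y)
      have key : ∀ u, (u = y) → (R ⊔ (S : Subgroup C).map C.subtype).map (MulAut.conj u).toMonoidHom ≤ R ⊔ (S : Subgroup C).map C.subtype := by
        rintro u rfl
        rw [Subgroup.map_sup]
        refine sup_le_sup ?_ ?_
        · rintro _ ⟨r, hr, rfl⟩; exact (Subgroup.mem_normalizer_iff.mp hyR r).mp hr
        · rintro _ ⟨r, hr, rfl⟩; exact (Subgroup.mem_normalizer_iff.mp h1 r).mp hr
      rw [Subgroup.mem_normalizer_iff]
      intro w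
      refine ⟨fun hw => key y rfl ⟨w, hw, rfl⟩, fun hw => ?_⟩
      have h2 : y * (y * w * y⁻¹) * y⁻¹ ∈ R ⊔ (S : Subgroup C).map C.subtype := key y rfl ⟨_, hw, rfl⟩
      rw [hyi] at h2
      have e : y * (y * w * y) * y = w := by
        calc y * (y * w * y) * y = (y * y) * w * (y * y) := by group
          _ = w := by rw [hy2, one_mul, mul_one]
      rwa [e] at h2
    exact le_sup_right.trans (hmax ⟨hp2, hy'⟩ le_sup_left)
  -- `C · C_G(y)` contains the normalizer
  have hfac : ∀ g ∈ N, ∃ c ∈ C, ∃ h ∈ Subgroup.centralizer ({y} : Set G), g = c * h := by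
    intro g hg
    set c₀ := y * (g * y * g⁻¹) with hc₀
    have hc₀C : c₀ ∈ C := by
      rw [hCdef, Subgroup.mem_centralizer_iff]
      intro r hr
      have h1 : g⁻¹ * r * g ∈ R := (Subgroup.mem_normalizer_iff''.mp hg r).mp hr
      have h2 : g * y * g⁻¹ * r * (g * y * g⁻¹)⁻¹ = r⁻¹ := by
        calc g * y * g⁻¹ * r * (g * y * g⁻¹)⁻¹ = g * (y * (g⁻¹ * r * g) * y⁻¹) * g⁻¹ := by group
          _ = r⁻¹ := by rw [hyinv _ h1]; group
      have h3 : c₀ * r * c₀⁻¹ = r := by
        calc c₀ * r * c₀⁻¹ = y * (g * y * g⁻¹ * r * (g * y * g⁻¹)⁻¹) * y⁻¹ := by rw [hc₀]; group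
          _ = r := by rw [h2, hyinv _ (inv_mem hr), inv_inv]
      exact (mul_inv_eq_iff_eq_mul.mp h3).symm
    have hodd0 : Odd (orderOf c₀) := Odd.of_dvd_nat hCodd (Subgroup.orderOf_dvd_natCard C hc₀C)
    obtain ⟨m, hm⟩ := hodd0
    set d := c₀ ^ (m + 1) with hd
    have hd2 : d * d = c₀ := by
      rw [hd, ← pow_add, show m + 1 + (m + 1) = (2 * m + 1) + 1 by omega, pow_succ, ← hm, pow_orderOf_eq_one, one_mul]
    have hdy : y * d * y⁻¹ = d⁻¹ := by
      have h1 : y * c₀ * y⁻¹ = c₀⁻¹ := by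
        rw [hc₀]
        simp only [mul_inv_rev, inv_inv, hyi]
        calc y * (y * (g * y * g⁻¹)) * y = (y * y) * (g * y * g⁻¹) * y := by group
          _ = g * (y * g⁻¹) * y := by rw [hy2]; group
      rw [hd, ← conj_pow, h1, inv_pow]
    refine ⟨d⁻¹, inv_mem (pow_mem hc₀C _), d * g, ?_, by group⟩
    rw [Subgroup.mem_centralizer_singleton_iff]
    have h1 : g * y * g⁻¹ = y * c₀ := by rw [hc₀, ← mul_assoc, hy2, one_mul]
    have h2 : d * y = y * d⁻¹ := by
      rw [← hdy, hyi]
      calc d * y = (y * y) * d * y := by rw [hy2, one_mul]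
        _ = y * (y * d * y) := by group
    calc d * g * y = d * (g * y * g⁻¹) * g := by group
      _ = (d * y) * (c₀ * g) := by rw [h1]; group
      _ = y * (d * g) := by rw [h2, ← hd2]; group
  -- `R` is a Sylow subgroup of its normalizer
  have hcy : ¬ p ∣ Nat.card (Subgroup.centralizer ({y} : Set G)) := by
    intro hd
    obtain ⟨⟨u, hu⟩, huo⟩ := exists_prime_orderOf_dvd_card' p hd
    rw [Subgroup.orderOf_mk] at huo
    exact hodd u (fun e => hp.ne_one (by rw [← huo, e, orderOf_one])) ⟨1, by rw [pow_one]; exact huo⟩ y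
      (Subgroup.mem_centralizer_singleton_iff.mp hu).symm hyo
  have hRN : ¬ p ∣ R.relIndex N := by
    intro hd
    have hRC' : ¬ p ∣ R.relIndex C := by
      intro hd'
      have h1 : (S : Subgroup C) ≤ R.subgroupOf C := fun s hs => hSR ⟨s, hs, rfl⟩
      exact S.not_dvd_index (hd'.trans (Subgroup.index_dvd_of_le h1))
    have h2 := Subgroup.relIndex_mul_relIndex R C N hRC hCN
    rw [← h2] at hd
    rcases (Nat.Prime.dvd_mul hp).mp hd with h | h
    · exact hRC' h
    have hsub : C.relIndex N ∣ Nat.card (Subgroup.centralizer ({y} : Set G)) := by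
      have hCn' : (C.subgroupOf N).Normal := ⟨fun c hc g => hCn g g.2 c hc⟩
      have hsur : Function.Surjective ((QuotientGroup.mk' (C.subgroupOf N)).comp
          (Subgroup.inclusion (inf_le_left : N ⊓ Subgroup.centralizer ({y} : Set G) ≤ N))) := by
        intro q
        obtain ⟨g, rfl⟩ := QuotientGroup.mk_surjective q
        obtain ⟨c, hc, h', hh, hgc⟩ := hfac g g.2
        have hh' : h' ∈ N := by
          have : h' = c⁻¹ * g := by rw [hgc]; group
          rw [this]; exact mul_mem (inv_mem (hCN hc)) g.2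
        refine ⟨⟨h', Subgroup.mem_inf.mpr ⟨hh', hh⟩⟩, (QuotientGroup.eq.mpr ?_)⟩
        show h'⁻¹ * (g : G) ∈ C
        have := hCn h'⁻¹ (inv_mem hh') c hc
        rw [hgc]
        simpa [mul_assoc] using this
      exact (Subgroup.card_dvd_of_surjective _ hsur).trans (Subgroup.card_dvd_of_le inf_le_right)
    exact hcy (h.trans hsub)
  -- hence of `G`
  obtain ⟨S', hS'⟩ := hR.exists_le_sylow
  have hRS : R = (S' : Subgroup G) := by
    by_contra hne
    have := S'.isPGroup'.isNilpotent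
    have hlt : R.subgroupOf (S' : Subgroup G) < ⊤ :=
      lt_top_iff_ne_top.mpr fun e => hne (le_antisymm hS' (Subgroup.subgroupOf_eq_top.mp e))
    obtain ⟨⟨u, huS⟩, hu, hun⟩ := SetLike.exists_of_lt (Group.normalizerCondition_of_isNilpotent _ hlt)
    have huN : u ∈ N := by
      rw [hN, Subgroup.mem_normalizer_iff]
      intro w
      rw [Subgroup.mem_normalizer_iff] at hu
      constructor
      · intro hw
        exact (hu ⟨w, hS' hw⟩).mp hw
      · intro hw
        have hwS : w ∈ (S' : Subgroup G) := by simpa [mul_assoc] using mul_mem (mul_mem (inv_mem huS) (hS' hw)) huS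
        exact (hu ⟨w, hwS⟩).mpr hw
    apply hRN
    have hp3 : IsPGroup p ↥((S' : Subgroup G) ⊓ N) := S'.isPGroup'.to_le inf_le_left
    have h1 := Subgroup.relIndex_mul_relIndex R ((S' : Subgroup G) ⊓ N) N (le_inf hS' Subgroup.le_normalizer) inf_le_right
    have h2 : p ∣ R.relIndex ((S' : Subgroup G) ⊓ N) := by
      obtain ⟨k, hk⟩ := (Nat.dvd_prime_pow hp).mp ((Subgroup.relIndex_dvd_card R ((S' : Subgroup G) ⊓ N)).trans
        (IsPGroup.iff_card.mp hp3).choose_spec.dvd)
      rcases Nat.eq_zero_or_pos k with h0 | h0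
      · exfalso
        rw [h0, pow_zero] at hk
        exact hun (Subgroup.relIndex_eq_one.mp hk.2 (Subgroup.mem_inf.mpr ⟨huS, huN⟩))
      · rw [hk.2]; exact dvd_pow_self p h0.ne'
    exact h1 ▸ h2.mul_right _
  obtain ⟨g, rfl⟩ := MulAction.exists_smul_eq G S' P
  have hmem : g * y * g⁻¹ ∈ Subgroup.normalizer (((g • S' : Sylow p G) : Subgroup G) : Set G) := by
    refine Sylow.smul_eq_iff_mem_normalizer.mp ?_
    rw [← mul_smul, inv_mul_cancel_right, mul_smul]
    congr 1
    refine Sylow.smul_eq_iff_mem_normalizer.mpr ?_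
    show y ∈ Subgroup.normalizer ((S' : Subgroup G) : Set G)
    rw [← hRS]
    exact hyR
  rw [even_iff_two_dvd]
  have ho : orderOf (g * y * g⁻¹) = 2 := hyo ▸ MulEquiv.orderOf_eq (MulAut.conj g) y
  exact ho ▸ Subgroup.orderOf_dvd_natCard _ hmem

end Cfsg.Agent.S3982
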