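import Cfsg.Statements.S3983
import Mathlib
-- import your own Cfsg.Agent.* helpers here

set_option autoImplicit false
open scoped Pointwise
open Cfsg

namespace Cfsg.Agent.S3983

open scoped Pointwise

/-- Let P be a Sylow p-subgroup of the finite group G that meets each conjugate g P g⁻¹ with g outside N_G(P) trivially, and let U be a subgroup of G of order divisible by p. Then a Sylow p-subgroup Q of U has the same property inside U: Q meets each conjugate u Q u⁻¹ with u ∈ U outside N_U(Q) trivially. -/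
theorem result {G : Type*} [Group G] [Finite G] (p : ℕ) [Fact p.Prime] (P : Sylow p G) (hTI : ∀ g : G, g ∉ Subgroup.normalizer ((P : Subgroup G) : Set G) → (P : Subgroup G) ⊓ (MulAut.conj g • (P : Subgroup G)) = ⊥) (U : Subgroup G) (hU : p ∣ Nat.card ↥U) (Q : Sylow p ↥U) : ∀ u : ↥U, u ∉ Subgroup.normalizer ((Q : Subgroup ↥U) : Set ↥U) → (Q : Subgroup ↥U) ⊓ (MulAut.conj u • (Q : Subgroup ↥U)) = ⊥ := by
  intro u hu
  by_contra hne
  obtain ⟨y, hy, hy1⟩ := (Subgroup.bot_or_exists_ne_one _).resolve_left hne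
  rw [Subgroup.mem_inf, Subgroup.mem_pointwise_smul_iff_inv_smul_mem, ← map_inv, MulAut.smul_def,
    MulAut.conj_apply, inv_inv] at hy
  obtain ⟨P', hP'⟩ := (Q.isPGroup'.map U.subtype).exists_le_sylow
  obtain ⟨c, hc⟩ := MulAction.exists_smul_eq G P P'
  have hmemP' : ∀ z : G, z ∈ (P' : Subgroup G) ↔ c⁻¹ * z * c ∈ (P : Subgroup G) := fun z => by
    rw [← hc, Sylow.coe_subgroup_smul, Subgroup.mem_pointwise_smul_iff_inv_smul_mem, ← map_inv,
      MulAut.smul_def, MulAut.conj_apply, inv_inv]
  have h1 : (y : G) ∈ (P' : Subgroup G) := hP' (Subgroup.mem_map_of_mem _ hy.1)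
  have h2 : (u : G)⁻¹ * y * u ∈ (P' : Subgroup G) := hP' (Subgroup.mem_map_of_mem U.subtype hy.2)
  have huN : (u : G) ∈ Subgroup.normalizer ((P' : Subgroup G) : Set G) := by
    set g := c⁻¹ * (u : G) * c with hg
    by_cases hgN : g ∈ Subgroup.normalizer ((P : Subgroup G) : Set G)
    · rw [Subgroup.mem_normalizer_iff] at hgN ⊢
      intro z
      show z ∈ (P' : Subgroup G) ↔ _
      rw [hmemP', hmemP']
      refine (hgN _).trans (iff_of_eq ?_)
      congr 1
      rw [hg]; group
    · exfalso
      have hmem : c⁻¹ * (y : G) * c ∈ (P : Subgroup G) ⊓ (MulAut.conj g • (P : Subgroup G)) := by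
        refine Subgroup.mem_inf.mpr ⟨(hmemP' _).mp h1, ?_⟩
        rw [Subgroup.mem_pointwise_smul_iff_inv_smul_mem, ← map_inv, MulAut.smul_def, MulAut.conj_apply,
          inv_inv]
        convert (hmemP' _).mp h2 using 1
        rw [hg]; group
      rw [hTI g hgN, Subgroup.mem_bot] at hmem
      refine hy1 (Subtype.ext ?_)
      calc (y : G) = c * (c⁻¹ * y * c) * c⁻¹ := by group
        _ = 1 := by rw [hmem]; group
  have hQeq : (P' : Subgroup G).subgroupOf U = (Q : Subgroup U) := Q.is_maximal'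
    (P'.isPGroup'.comap_of_injective U.subtype U.subtype_injective)
    (Subgroup.map_le_iff_le_comap.mp hP')
  refine hu ?_
  rw [← hQeq, Subgroup.mem_normalizer_iff]
  intro z
  exact Subgroup.mem_normalizer_iff.mp huN z

end Cfsg.Agent.S3983
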