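import Cfsg.Statements.S3984
import Mathlib
-- import your own Cfsg.Agent.* helpers here

set_option autoImplicit false
open scoped Pointwise
open Cfsg

namespace Cfsg.Agent.S3984

open scoped Pointwise

/-- Let P be a Sylow p-subgroup of the finite group G that meets each conjugate g P g⁻¹ with g outside N_G(P) trivially, and let N be a normal subgroup of G of order prime to p. Then every Sylow p-subgroup Q of G ⧸ N meets each conjugate x Q x⁻¹ with x outside its normalizer trivially. -/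
theorem result {G : Type*} [Group G] [Finite G] (p : ℕ) [Fact p.Prime] (P : Sylow p G) (hTI : ∀ g : G, g ∉ Subgroup.normalizer ((P : Subgroup G) : Set G) → (P : Subgroup G) ⊓ (MulAut.conj g • (P : Subgroup G)) = ⊥) (N : Subgroup G) [N.Normal] (hN : (Nat.card ↥N).Coprime p) (Q : Sylow p (G ⧸ N)) : ∀ x : G ⧸ N, x ∉ Subgroup.normalizer ((Q : Subgroup (G ⧸ N)) : Set (G ⧸ N)) → (Q : Subgroup (G ⧸ N)) ⊓ (MulAut.conj x • (Q : Subgroup (G ⧸ N))) = ⊥ := by
  classical
  intro x hx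
  have hp : p.Prime := Fact.out
  set π := QuotientGroup.mk' N with hπ
  have hsur : Function.Surjective π := QuotientGroup.mk'_surjective N
  have hker : ∀ a : G, π a = 1 ↔ a ∈ N := fun a => QuotientGroup.eq_one_iff a
  obtain ⟨x₀, hx₀⟩ := hsur x
  obtain ⟨y, hy⟩ := MulAction.exists_smul_eq (G ⧸ N) (P.mapSurjective hsur) Q
  obtain ⟨b, rfl⟩ := hsur y
  have hQ : ∀ w, w ∈ (Q : Subgroup (G ⧸ N)) ↔ ∃ v ∈ (P : Subgroup G), π (b * v * b⁻¹) = w := by
    intro w
    rw [← hy, Sylow.coe_subgroup_smul, Subgroup.mem_pointwise_smul_iff_inv_smul_mem,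
      MulAut.smul_def, MulAut.inv_def, MulAut.conj_symm_apply, Sylow.coe_mapSurjective, Subgroup.mem_map]
    refine exists_congr fun v => and_congr_right fun _ => ?_
    rw [map_mul, map_mul, map_inv]
    exact ⟨fun h => by rw [h]; group, fun h => by rw [← h]; group⟩
  rw [eq_bot_iff]
  intro w hw
  obtain ⟨hw1, hw2⟩ := Subgroup.mem_inf.mp hw
  rw [Subgroup.mem_pointwise_smul_iff_inv_smul_mem, MulAut.smul_def, MulAut.inv_def,
    MulAut.conj_symm_apply] at hw2
  obtain ⟨v₁, hv₁, rfl⟩ := (hQ w).mp hw1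
  obtain ⟨v₂, hv₂, hv₂e⟩ := (hQ _).mp hw2
  set a : G := b * v₁ * b⁻¹ with ha
  set c : G := x₀ * (b * v₂ * b⁻¹) * x₀⁻¹ with hc
  have hac : π c = π a := by
    rw [hc, map_mul, map_mul, map_inv, hx₀, hv₂e]; group
  by_contra hwne
  rw [Subgroup.mem_bot] at hwne
  -- `a` and `c` generate conjugate Sylow subgroups of `K`
  set K : Subgroup G := (Subgroup.zpowers (π a)).comap π with hK
  have haK : a ∈ K := Subgroup.mem_zpowers _
  have hcK : c ∈ K := show π c ∈ _ by rw [hac]; exact Subgroup.mem_zpowers _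
  have hordp : ∀ t : G, IsPGroup p (Subgroup.zpowers t) → (orderOf t).Coprime (Nat.card N) := by
    intro t ht
    obtain ⟨i, hi⟩ := IsPGroup.iff_card.mp ht
    rw [Nat.card_zpowers] at hi
    rw [hi]; exact (hN.symm).pow_left _
  have hpa : ∀ (k v : G), v ∈ (P : Subgroup G) → IsPGroup p (Subgroup.zpowers (k * v * k⁻¹)) := by
    intro k v hv
    obtain ⟨i, hi⟩ := IsPGroup.iff_orderOf.mp P.isPGroup' ⟨v, hv⟩
    rw [Subgroup.orderOf_mk] at hi
    refine IsPGroup.of_card (n := i) ?_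
    rw [Nat.card_zpowers, ← hi]
    exact MulEquiv.orderOf_eq (MulAut.conj k) v
  have hinj : ∀ t : G, IsPGroup p (Subgroup.zpowers t) → orderOf (π t) = orderOf t := by
    intro t ht
    refine Nat.dvd_antisymm (orderOf_map_dvd π t) (orderOf_dvd_of_pow_eq_one ?_)
    have h1 : t ^ orderOf (π t) ∈ N := (hker _).mp (by rw [map_pow, pow_orderOf_eq_one])
    have h2 : orderOf (t ^ orderOf (π t)) ∣ Nat.card N := Subgroup.orderOf_dvd_natCard N h1
    exact orderOf_eq_one_iff.mp (Nat.eq_one_of_dvd_coprimes (hordp t ht) (orderOf_pow_dvd _) h2)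
  have hc' : c = (x₀ * b) * v₂ * (x₀ * b)⁻¹ := by rw [hc]; group
  have hpta := hpa b v₁ hv₁
  have hptc : IsPGroup p (Subgroup.zpowers c) := hc' ▸ hpa (x₀ * b) v₂ hv₂
  have hcardK : Nat.card K = Nat.card N * orderOf (π a) := by
    have hfr := Subgroup.relIndex_mul_relIndex ⊥ N K bot_le
      (fun n hn => show π n ∈ Subgroup.zpowers (π a) by rw [(hker n).mpr hn]; exact one_mem _)
    rw [Subgroup.relIndex_bot_left, Subgroup.relIndex_bot_left] at hfr
    rw [← hfr]
    congr 1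
    have hrk := Subgroup.relIndex_ker (f := π) (K := K)
    rw [QuotientGroup.ker_mk'] at hrk
    rw [hrk, hK, Subgroup.map_comap_eq_self_of_surjective hsur, Nat.card_zpowers]
  have hmk : ∀ t : G, IsPGroup p (Subgroup.zpowers t) → π t = π a → ∃ S : Sylow p K,
      (S : Subgroup K) = (Subgroup.zpowers t).subgroupOf K := by
    intro t ht hta
    have htK : Subgroup.zpowers t ≤ K := Subgroup.zpowers_le.mpr (show π t ∈ _ by rw [hta]; exact Subgroup.mem_zpowers _)
    have hcard : Nat.card ((Subgroup.zpowers t).subgroupOf K) = p ^ (Nat.card K).factorization p := by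
      rw [Nat.card_congr (Subgroup.subgroupOfEquivOfLe htK).toEquiv, Nat.card_zpowers, hcardK, ← hta, hinj t ht]
      obtain ⟨i, hi⟩ := IsPGroup.iff_card.mp ht
      rw [Nat.card_zpowers] at hi
      rw [hi, Nat.factorization_mul Nat.card_pos.ne' (pow_ne_zero _ hp.ne_zero), Finsupp.add_apply,
        Nat.factorization_pow_self hp, Nat.factorization_eq_zero_of_not_dvd
          ((hp.coprime_iff_not_dvd).mp hN.symm), zero_add]
    exact ⟨Sylow.ofCard _ hcard, rfl⟩
  obtain ⟨Sa, hSa⟩ := hmk a hpta rfl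
  obtain ⟨Sc, hSc⟩ := hmk c hptc hac
  obtain ⟨⟨k, hk⟩, hkS⟩ := MulAction.exists_smul_eq K Sa Sc
  have hkmem : k * a * k⁻¹ ∈ Subgroup.zpowers c := by
    have h1 : (⟨k, hk⟩ * ⟨a, haK⟩ * ⟨k, hk⟩⁻¹ : K) ∈ (Sc : Subgroup K) := by
      rw [← hkS, Sylow.coe_subgroup_smul]
      exact Subgroup.smul_mem_pointwise_smul _ (MulAut.conj (⟨k, hk⟩ : K)) _ (hSa ▸ Subgroup.mem_zpowers a)
    rw [hSc] at h1
    exact h1
  -- absorb the cyclic part
  obtain ⟨i, hi⟩ := Subgroup.mem_zpowers_iff.mp (show π k ∈ Subgroup.zpowers (π a) from hk)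
  set n := k * (a ^ i)⁻¹ with hn
  have hnN : n ∈ N := (hker _).mp (by rw [hn, map_mul, map_inv, map_zpow, hi, mul_inv_cancel])
  have hnmem : n * a * n⁻¹ ∈ Subgroup.zpowers c := by
    have e : n * a * n⁻¹ = k * a * k⁻¹ := by rw [hn]; group
    rw [e]; exact hkmem
  obtain ⟨j, hj⟩ := Subgroup.mem_zpowers_iff.mp hnmem
  set g : G := (x₀ * b)⁻¹ * n * b with hg
  have hgN : g ∈ Subgroup.normalizer ((P : Subgroup G) : Set G) := by
    by_contra hgn
    have hz : g * v₁ * g⁻¹ ∈ (P : Subgroup G) ⊓ MulAut.conj g • (P : Subgroup G) := by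
      refine ⟨?_, Subgroup.smul_mem_pointwise_smul v₁ (MulAut.conj g) _ hv₁⟩
      have e : g * v₁ * g⁻¹ = (x₀ * b)⁻¹ * (n * a * n⁻¹) * (x₀ * b) := by rw [hg, ha]; group
      have e2 : (x₀ * b)⁻¹ * c ^ j * (x₀ * b) = v₂ ^ j := by rw [hc', conj_zpow]; group
      rw [SetLike.mem_coe, e, ← hj, e2]
      exact zpow_mem hv₂ j
    rw [hTI g hgn, Subgroup.mem_bot] at hz
    apply hwne
    have : v₁ = 1 := by simpa [mul_assoc] using congrArg (fun t => g⁻¹ * t * g) hz
    show π (b * v₁ * b⁻¹) = 1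
    rw [this, mul_one, mul_inv_cancel, map_one]
  apply hx
  have hπn : π n = 1 := (hker n).mpr hnN
  have hxg : x = π b * (π g)⁻¹ * (π b)⁻¹ := by
    rw [← hx₀, hg, map_mul, map_mul, map_inv, map_mul, hπn]; group
  have hgN' := Subgroup.mem_normalizer_iff.mp (inv_mem hgN)
  have key : ∀ h : G, h ∈ Subgroup.normalizer ((P : Subgroup G) : Set G) → ∀ w ∈ (Q : Subgroup (G ⧸ N)),
      π (b * h * b⁻¹) * w * (π (b * h * b⁻¹))⁻¹ ∈ (Q : Subgroup (G ⧸ N)) := by
    intro h hh w hw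
    obtain ⟨v, hv, rfl⟩ := (hQ w).mp hw
    refine (hQ _).mpr ⟨h * v * h⁻¹, (Subgroup.mem_normalizer_iff.mp hh v).mp hv, ?_⟩
    rw [← map_inv, ← map_mul, ← map_mul]
    exact congrArg π (by group)
  rw [Subgroup.mem_normalizer_iff]
  intro w
  have e1 : x = π (b * g⁻¹ * b⁻¹) := by rw [hxg]; simp only [map_mul, map_inv]
  refine ⟨fun hw => by rw [e1]; exact key _ (inv_mem hgN) w hw, fun hw => ?_⟩
  have h2 := key g hgN _ hw
  have e2 : π (b * g * b⁻¹) = x⁻¹ := by rw [hxg, map_mul, map_mul, map_inv]; group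
  rw [e2] at h2
  simpa [mul_assoc] using h2

end Cfsg.Agent.S3984
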