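import Cfsg.Statements.S3985
import Mathlib
-- import your own Cfsg.Agent.* helpers here

set_option autoImplicit false
open scoped Pointwise
open Cfsg

namespace Cfsg.Agent.S3985

open scoped Pointwise

theorem conj_pow_zpow {G : Type*} [Group G] {g y : G} {k : ℤ} (h : g * y * g⁻¹ = y ^ k) :
    ∀ m : ℕ, g ^ m * y * (g ^ m)⁻¹ = y ^ (k ^ m)
  | 0 => by simp
  | m + 1 => by
    calc g ^ (m + 1) * y * (g ^ (m + 1))⁻¹ = g * (g ^ m * y * (g ^ m)⁻¹) * g⁻¹ := by rw [pow_succ']; group
      _ = (g * y * g⁻¹) ^ (k ^ m) := by rw [conj_pow_zpow h m, conj_zpow]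
      _ = y ^ (k ^ (m + 1)) := by rw [h, ← zpow_mul, pow_succ']

theorem mem_of_pElement_normalizer {G : Type*} [Group G] [Finite G] {p : ℕ} [Fact p.Prime]
    (P : Sylow p G) {z : G} (hz : ∃ j : ℕ, z ^ p ^ j = 1)
    (hN : z ∈ Subgroup.normalizer ((P : Subgroup G) : Set G)) : z ∈ (P : Subgroup G) := by
  obtain ⟨j, hj⟩ := hz
  obtain ⟨i, -, hi⟩ := (Nat.dvd_prime_pow (Fact.out : p.Prime)).mp (orderOf_dvd_of_pow_eq_one hj)
  have hp : IsPGroup p (Subgroup.zpowers z) :=
    IsPGroup.of_card (n := i) (by rw [Nat.card_zpowers, hi])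
  have h := hp.inf_normalizer_sylow P
  have hz' : z ∈ Subgroup.zpowers z ⊓ Subgroup.normalizer ((P : Subgroup G) : Set G) :=
    Subgroup.mem_inf.mpr ⟨Subgroup.mem_zpowers z, hN⟩
  exact (Subgroup.mem_inf.mp (h.le hz')).2

/-- Let P be a cyclic Sylow p-subgroup of the finite group G. Then P meets each conjugate g P g⁻¹ with g outside N_G(P) trivially if and only if P is weakly self-centralizing: C_G(x) = C_G(P) for every non-identity x ∈ P. -/
theorem result {G : Type*} [Group G] [Finite G] (p : ℕ) [Fact p.Prime] (P : Sylow p G) (hcyc : IsCyclic ↥(P : Subgroup G)) : (∀ g : G, g ∉ Subgroup.normalizer ((P : Subgroup G) : Set G) → (P : Subgroup G) ⊓ (MulAut.conj g • (P : Subgroup G)) = ⊥) ↔ ∀ x : G, x ∈ (P : Subgroup G) → x ≠ 1 → Subgroup.centralizer ({x} : Set G) = Subgroup.centralizer ((P : Subgroup G) : Set G) := by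
  have hp := (Fact.out : p.Prime)
  obtain ⟨y, hy⟩ := (Subgroup.isCyclic_iff_exists_zpowers_eq_top _).mp hcyc
  have hyP : y ∈ (P : Subgroup G) := hy ▸ Subgroup.mem_zpowers y
  obtain ⟨n, hn⟩ : ∃ n, orderOf y = p ^ n := by
    obtain ⟨n, hn⟩ := P.isPGroup'.exists_card_eq
    exact ⟨n, by rw [← Nat.card_zpowers, hy, hn]⟩
  have hcomm : ∀ a ∈ (P : Subgroup G), ∀ b ∈ (P : Subgroup G), a * b = b * a := by
    rw [← hy]
    rintro _ ⟨i, rfl⟩ _ ⟨j, rfl⟩
    exact (Commute.zpow_zpow (Commute.refl y) i j).eq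
  constructor
  · intro hTI x hx hx1
    refine le_antisymm (fun g hg => ?_) (Subgroup.centralizer_le (Set.singleton_subset_iff.mpr hx))
    rw [Subgroup.mem_centralizer_singleton_iff] at hg
    have hgN : g ∈ Subgroup.normalizer ((P : Subgroup G) : Set G) := by
      by_contra hgN
      have : x ∈ (P : Subgroup G) ⊓ (MulAut.conj g • (P : Subgroup G)) := by
        refine Subgroup.mem_inf.mpr ⟨hx, ?_⟩
        rw [Subgroup.mem_pointwise_smul_iff_inv_smul_mem, ← map_inv, MulAut.smul_def, MulAut.conj_apply,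
          inv_inv, mul_assoc, ← hg, inv_mul_cancel_left]
        exact hx
      rw [hTI g hgN, Subgroup.mem_bot] at this
      exact hx1 this
    obtain ⟨k, hk⟩ : ∃ k : ℤ, y ^ k = g * y * g⁻¹ := by
      rw [← Subgroup.mem_zpowers_iff, hy]
      exact (Subgroup.mem_normalizer_iff.mp hgN y).mp hyP
    obtain ⟨j, rfl⟩ := Subgroup.mem_zpowers_iff.mp (hy.symm ▸ hx : x ∈ Subgroup.zpowers y)
    have hdvd : ((p ^ n : ℕ) : ℤ) ∣ j * (k - 1) := by
      rw [← hn, orderOf_dvd_iff_zpow_eq_one, mul_sub, mul_one, zpow_sub, mul_comm, zpow_mul, hk,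
        conj_zpow, hg]
      group
    have hpk : (p : ℤ) ∣ k - 1 := by
      by_contra hpk
      have hco : IsCoprime ((p : ℤ) ^ n) (k - 1) :=
        ((Nat.prime_iff_prime_int.mp hp).coprime_iff_not_dvd.mpr hpk).pow_left
      refine hx1 (orderOf_dvd_iff_zpow_eq_one.mp ?_)
      rw [hn]
      push_cast at hdvd ⊢
      exact hco.dvd_of_dvd_mul_right hdvd
    have hA : Commute (g ^ p ^ n) y := by
      have h1 := conj_pow_zpow hk.symm (p ^ n)
      have h2 : y ^ (k ^ (p ^ n) - 1) = 1 := by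
        rw [← orderOf_dvd_iff_zpow_eq_one, hn]
        have h3 := dvd_sub_pow_of_dvd_sub (R := ℤ) (p := p) (a := k) (b := 1) hpk n
        rw [one_pow] at h3
        push_cast
        exact (pow_dvd_pow _ (Nat.le_succ n)).trans h3
      rw [zpow_sub, zpow_one, mul_inv_eq_one] at h2
      rw [h2, mul_inv_eq_iff_eq_mul] at h1
      exact h1
    have hB : Commute (g ^ ordCompl[p] (orderOf g)) y := by
      refine hcomm _ (mem_of_pElement_normalizer P ⟨(orderOf g).factorization p, ?_⟩
        (pow_mem hgN _)) y hyP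
      rw [← pow_mul, mul_comm, Nat.ordProj_mul_ordCompl_eq_self, pow_orderOf_eq_one]
    have hgy : Commute g y := by
      have hco : Nat.gcd (p ^ n) (ordCompl[p] (orderOf g)) = 1 :=
        Nat.Coprime.pow_left _ (Nat.coprime_ordCompl hp (orderOf_pos g).ne')
      have hb := Nat.gcd_eq_gcd_ab (p ^ n) (ordCompl[p] (orderOf g))
      rw [hco] at hb
      rw [← zpow_one g, show (1 : ℤ) = ((1 : ℕ) : ℤ) from rfl, hb, zpow_add, zpow_mul, zpow_mul,
        zpow_natCast, zpow_natCast]
      exact (hA.zpow_left _).mul_left (hB.zpow_left _)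
    rw [Subgroup.mem_centralizer_iff]
    intro a ha
    obtain ⟨i, rfl⟩ := Subgroup.mem_zpowers_iff.mp (hy.symm ▸ ha : a ∈ Subgroup.zpowers y)
    exact (hgy.zpow_right i).eq.symm
  · intro h g hgN
    by_contra hne
    obtain ⟨x, hx, hx1⟩ := (Subgroup.bot_or_exists_ne_one _).resolve_left hne
    rw [Subgroup.mem_inf, Subgroup.mem_pointwise_smul_iff_inv_smul_mem, ← map_inv, MulAut.smul_def,
      MulAut.conj_apply, inv_inv] at hx
    have hx' : g⁻¹ * x * g ≠ 1 := fun e => hx1 (by
      calc x = g * (g⁻¹ * x * g) * g⁻¹ := by group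
        _ = 1 := by rw [e]; group)
    have hCx := h x hx.1 hx1
    have hCx' := h _ hx.2 hx'
    refine hgN (Subgroup.mem_normalizer_iff.mpr ?_)
    have hle : ∀ a ∈ (P : Subgroup G), g * a * g⁻¹ ∈ (P : Subgroup G) := by
      intro a ha
      obtain ⟨i, hi⟩ := P.isPGroup' ⟨a, ha⟩
      have hai : a ^ p ^ i = 1 := congrArg Subtype.val hi
      refine mem_of_pElement_normalizer P ⟨i, ?_⟩ ?_
      · rw [conj_pow, hai]; group
      · have hac : g * a * g⁻¹ ∈ Subgroup.centralizer ((P : Subgroup G) : Set G) := by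
          rw [← hCx, Subgroup.mem_centralizer_singleton_iff]
          have : a * (g⁻¹ * x * g) = (g⁻¹ * x * g) * a := by
            rw [← Subgroup.mem_centralizer_singleton_iff, hCx', Subgroup.mem_centralizer_iff]
            exact fun b hb => hcomm b hb a ha
          calc g * a * g⁻¹ * x = g * (a * (g⁻¹ * x * g)) * g⁻¹ := by group
            _ = g * ((g⁻¹ * x * g) * a) * g⁻¹ := by rw [this]
            _ = x * (g * a * g⁻¹) := by group
        rw [Subgroup.mem_normalizer_iff]
        intro b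
        constructor
        · intro hb
          rwa [← Subgroup.mem_centralizer_iff.mp hac b hb, mul_inv_cancel_right]
        · intro hb
          have h2 := Subgroup.mem_centralizer_iff.mp hac _ hb
          have h3 : b = (g * a * g⁻¹) * b * (g * a * g⁻¹)⁻¹ := by
            calc b = (g * a * g⁻¹)⁻¹ * ((g * a * g⁻¹) * b * (g * a * g⁻¹)⁻¹ * (g * a * g⁻¹)) := by group
              _ = (g * a * g⁻¹)⁻¹ * ((g * a * g⁻¹) * ((g * a * g⁻¹) * b * (g * a * g⁻¹)⁻¹)) := by rw [h2]
              _ = (g * a * g⁻¹) * b * (g * a * g⁻¹)⁻¹ := by group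
          rwa [h3]
    have hmap : (P : Subgroup G).map (MulAut.conj g).toMonoidHom = P := by
      refine Subgroup.eq_of_le_of_card_ge ?_
        (le_of_eq (Subgroup.card_map_of_injective (MulAut.conj g).injective).symm)
      rintro _ ⟨a, ha, rfl⟩
      exact hle a ha
    intro a
    refine ⟨hle a, fun ha => ?_⟩
    obtain ⟨b, hb, hab⟩ := (hmap.symm ▸ ha : g * a * g⁻¹ ∈ (P : Subgroup G).map (MulAut.conj g).toMonoidHom)
    have : b = a := (MulAut.conj g).injective hab
    exact this ▸ hb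

end Cfsg.Agent.S3985
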