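import Cfsg.Statements.S3987
import Mathlib
import Cfsg.Agent.S3986
import Cfsg.Agent.Lib.PRegularClass
-- import your own Cfsg.Agent.* helpers here

set_option autoImplicit false
open Cfsg

namespace Cfsg.Agent.S3987

/-- Let p be a prime and G a finite group. Then some Sylow p-subgroup of G is a direct factor of G (normal with a normal complement) if and only if for every element x of p-power order and every element y whose order is a power of a prime other than p, the conjugacy class of x y has as many elements as the product of the sizes of the classes of x and of y. -/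
theorem result {G : Type*} [Group G] [Finite G] (p : ℕ) [Fact p.Prime] : (∃ (P : Sylow p G) (K : Subgroup G), (P : Subgroup G).Normal ∧ K.Normal ∧ (P : Subgroup G) ⊓ K = ⊥ ∧ (P : Subgroup G) ⊔ K = ⊤) ↔ ∀ x y : G, (∃ a : ℕ, orderOf x = p ^ a) → (∃ q b : ℕ, q.Prime ∧ q ≠ p ∧ orderOf y = q ^ b) → (Subgroup.centralizer ({x * y} : Set G)).index = (Subgroup.centralizer ({x} : Set G)).index * (Subgroup.centralizer ({y} : Set G)).index := by
  have hp := (Fact.out : p.Prime)
  constructor
  · rintro ⟨P, K, hPn, hKn, h1, h2⟩ x y hx hy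
    obtain ⟨hxP, hyK⟩ := Cfsg.Agent.S3986.mem_factors p P K h1 h2 hx hy
    have hcomm : ∀ a ∈ (P : Subgroup G), ∀ b ∈ K, a * b = b * a := fun a ha b hb =>
      Subgroup.commute_of_normal_of_disjoint (P : Subgroup G) K hPn hKn (disjoint_iff.mpr h1) a b ha hb
    have hxy : Commute x y := hcomm x hxP y hyK
    obtain ⟨a, ha⟩ := hx
    obtain ⟨q, b, hq, hqp, hb⟩ := hy
    have hcop : (p ^ a).Coprime (q ^ b) := ((Nat.coprime_primes hp hq).mpr hqp.symm).pow a b
    obtain ⟨k, hk1, hk0⟩ := Nat.chineseRemainder hcop 1 0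
    have hxk : (x * y) ^ k = x := by
      rw [hxy.mul_pow, (pow_eq_pow_iff_modEq (x := x) (n := k) (m := 1)).mpr (ha ▸ hk1), pow_one,
        (pow_eq_pow_iff_modEq (x := y) (n := k) (m := 0)).mpr (hb ▸ hk0), pow_zero, mul_one]
    have hC : Subgroup.centralizer ({x * y} : Set G) =
        Subgroup.centralizer ({x} : Set G) ⊓ Subgroup.centralizer ({y} : Set G) := by
      ext g
      simp only [Subgroup.mem_inf, Subgroup.mem_centralizer_singleton_iff]
      constructor
      · intro hg
        have hgx : g * x = x * g := by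
          rw [← hxk]
          exact (Commute.pow_right (hg : Commute g (x * y)) k).eq
        refine ⟨hgx, ?_⟩
        calc g * y = x⁻¹ * (x * g) * y := by group
          _ = x⁻¹ * (g * (x * y)) := by rw [← hgx]; group
          _ = x⁻¹ * (x * y * g) := by rw [hg]
          _ = y * g := by group
      · rintro ⟨h3, h4⟩
        exact (Commute.mul_right (h3 : Commute g x) (h4 : Commute g y)).eq
    rw [hC]
    refine le_antisymm Subgroup.index_inf_le ?_
    refine Nat.le_of_dvd (Nat.pos_of_ne_zero Subgroup.index_ne_zero_of_finite) ?_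
    refine Nat.Coprime.mul_dvd_of_dvd_of_dvd ?_ (Subgroup.index_dvd_of_le inf_le_left)
      (Subgroup.index_dvd_of_le inf_le_right)
    have hx' : K ≤ Subgroup.centralizer ({x} : Set G) := fun c hc =>
      Subgroup.mem_centralizer_singleton_iff.mpr (hcomm x hxP c hc).symm
    have hy' : (P : Subgroup G) ≤ Subgroup.centralizer ({y} : Set G) := fun c hc =>
      Subgroup.mem_centralizer_singleton_iff.mpr (hcomm c hc y hyK)
    have h4 := Subgroup.isComplement'_of_disjoint_and_mul_eq_univ (H := (P : Subgroup G)) (K := K)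
      (disjoint_iff.mpr h1) (by rw [← Subgroup.mul_normal, h2, Subgroup.coe_top])
    refine Nat.Coprime.of_dvd ((Subgroup.index_dvd_of_le hx').trans (dvd_of_eq h4.index_eq_card))
      (Subgroup.index_dvd_of_le hy') ?_
    exact P.card_coprime_index
  · intro h
    refine Cfsg.Agent.S3986.direct_factor_of_commute p fun x y hx hy => ?_
    classical
    have hy' : ∃ q b : ℕ, q.Prime ∧ q ≠ p ∧ orderOf y⁻¹ = q ^ b := by rwa [orderOf_inv]
    set A := (ConjClasses.mk x).carrier with hA
    set B := (ConjClasses.mk y⁻¹).carrier with hB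
    let f : A × B → G := fun z => (z.1 : G) * z.2
    have hsub : (ConjClasses.mk (x * y⁻¹)).carrier ⊆ Set.range f := by
      intro w hw
      obtain ⟨c, hc⟩ := isConj_iff.mp (ConjClasses.mk_eq_mk_iff_isConj.mp (ConjClasses.mem_carrier_iff_mk_eq.mp hw)).symm
      refine ⟨(⟨c * x * c⁻¹, ?_⟩, ⟨c * y⁻¹ * c⁻¹, ?_⟩), ?_⟩
      · exact ConjClasses.mem_carrier_iff_mk_eq.mpr (ConjClasses.mk_eq_mk_iff_isConj.mpr (isConj_iff.mpr ⟨c, rfl⟩ : IsConj x _).symm)
      · exact ConjClasses.mem_carrier_iff_mk_eq.mpr (ConjClasses.mk_eq_mk_iff_isConj.mpr (isConj_iff.mpr ⟨c, rfl⟩ : IsConj y⁻¹ _).symm)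
      · show c * x * c⁻¹ * (c * y⁻¹ * c⁻¹) = w
        rw [← hc]; group
    have hinj : Function.Injective f := by
      have hcard : Nat.card (A × B) ≤ Nat.card (Set.range f) := by
        have h3 := Set.ncard_le_ncard hsub (Set.toFinite _)
        rwa [← Nat.card_coe_set_eq (Set.range f), CfsgLib.ncard_carrier_eq_index_centralizer, h x y⁻¹ hx hy',
          ← CfsgLib.ncard_carrier_eq_index_centralizer, ← CfsgLib.ncard_carrier_eq_index_centralizer,
          ← Nat.card_coe_set_eq, ← Nat.card_coe_set_eq, ← Nat.card_prod] at h3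
      have hs : Function.Surjective (Set.rangeFactorization f) := fun ⟨_, z, hz⟩ => ⟨z, Subtype.ext hz⟩
      have hb := hs.bijective_of_nat_card_le hcard
      exact fun u v huv => hb.1 (Subtype.ext huv)
    have m1 : y⁻¹ * x * y ∈ A := ConjClasses.mem_carrier_iff_mk_eq.mpr (ConjClasses.mk_eq_mk_iff_isConj.mpr
      (isConj_iff.mpr ⟨y⁻¹, by group⟩ : IsConj x (y⁻¹ * x * y)).symm)
    have m2 : x⁻¹ * y⁻¹ * x ∈ B := ConjClasses.mem_carrier_iff_mk_eq.mpr (ConjClasses.mk_eq_mk_iff_isConj.mpr
      (isConj_iff.mpr ⟨x⁻¹, by group⟩ : IsConj y⁻¹ (x⁻¹ * y⁻¹ * x)).symm)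
    have := @hinj (⟨_, m1⟩, ⟨_, ConjClasses.mem_carrier_mk⟩) (⟨_, ConjClasses.mem_carrier_mk⟩, ⟨_, m2⟩)
      (by show y⁻¹ * x * y * y⁻¹ = x * (x⁻¹ * y⁻¹ * x); group)
    have h5 : y⁻¹ * x * y = x := congrArg Subtype.val (congrArg Prod.fst this)
    calc x * y = y * (y⁻¹ * x * y) := by group
      _ = y * x := by rw [h5]

end Cfsg.Agent.S3987
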