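import Cfsg.Statements.S3994
import Cfsg.Agent.Lib.SolutionCount
-- import your own Cfsg.Agent.* helpers here

set_option autoImplicit false
open Cfsg

namespace Cfsg.Agent.S3994

/-- Let G be a finite group and n a positive integer. The number of elements of G whose order is divisible by n is either 0 or divisible by the largest divisor of the order of G that is coprime to n. -/
theorem result {G : Type*} [Group G] [Finite G] (n : ℕ) (hn : 0 < n) :
    Nat.card {g : G // n ∣ orderOf g} = 0 ∨
      (Nat.card G / Nat.gcd (Nat.card G) (n ^ Nat.card G)) ∣ Nat.card {g : G // n ∣ orderOf g} := by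
  right
  classical
  have := Fintype.ofFinite G
  set N := Nat.card G with hN
  set a := Nat.gcd N (n ^ N) with ha
  set s := N / a with hs
  have hN0 : N ≠ 0 := Nat.card_pos.ne'
  have has : a * s = N := Nat.mul_div_cancel' (Nat.gcd_dvd_left _ _)
  have hcop : a.Coprime s := by
    refine Nat.coprime_of_dvd fun r hr hra hrs => ?_
    have hrn : r ∣ n := hr.dvd_of_dvd_pow (hra.trans (Nat.gcd_dvd_right _ _))
    have hv : r ^ N.factorization r ∣ a := by
      refine Nat.dvd_gcd (Nat.ordProj_dvd N r) ?_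
      refine (pow_dvd_pow r ?_).trans (pow_dvd_pow_of_dvd hrn N)
      exact ((Nat.factorization_lt r hN0)).le
    have hbad : r ^ (N.factorization r + 1) ∣ N := by
      refine dvd_trans ?_ has.dvd
      rw [pow_succ]
      exact Nat.mul_dvd_mul hv hrs
    exact Nat.pow_succ_factorization_not_dvd hN0 hr hbad
  have hna : ∀ g : G, n ∣ orderOf g → n ∣ a := fun g hg => by
    refine Nat.dvd_gcd (hg.trans (orderOf_dvd_natCard g)) ?_
    exact dvd_pow_self n hN0
  have e : Nat.card {g : G // n ∣ orderOf g} = Nat.card {g : G // g ^ (a * s) = 1 ∧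
      ∀ e, e ≡ 1 [MOD a] → e ≡ 0 [MOD s] → ((g ^ e) ^ a = 1 ∧ n ∣ orderOf (g ^ e))} := by
    refine Nat.card_congr (Equiv.subtypeEquivRight fun g => ?_)
    have hg : g ^ (a * s) = 1 := by rw [has]; exact pow_card_eq_one'
    refine ⟨fun h => ⟨hg, fun e hea hes => ⟨?_, ?_⟩⟩, fun h => ?_⟩
    · obtain ⟨k, hk⟩ := Nat.modEq_zero_iff_dvd.mp hes
      rw [← pow_mul, hk, show s * k * a = a * s * k by ring, pow_mul, hg, one_pow]
    · have hae : a.Coprime e := by
        rw [Nat.Coprime, Nat.gcd_comm, hea.gcd_eq, Nat.gcd_one_left]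
      have hd : orderOf g ∣ e * orderOf (g ^ e) :=
        orderOf_dvd_iff_pow_eq_one.mpr (by rw [pow_mul, pow_orderOf_eq_one])
      exact (hae.coprime_dvd_left (hna g h)).dvd_of_dvd_mul_left (h.trans hd)
    · obtain ⟨e, hea, hes⟩ := Nat.chineseRemainder hcop 1 0
      exact (h.2 e hea hes).2.trans (orderOf_pow_dvd e)
  rw [e, CfsgLib.card_split_eq_sum hcop (fun x : G => x ^ a = 1 ∧ n ∣ orderOf x) (fun x hx => hx.1)]
  refine CfsgLib.dvd_sum_class_invariant _ _ (fun g x hx => ?_)
    (fun g x => CfsgLib.card_centralizer_solutions_conj g x s) fun x _ => ?_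
  · simp only [Finset.mem_filter, Finset.mem_univ, true_and] at hx ⊢
    rw [← MulAut.conj_apply, MulEquiv.orderOf_eq, ← map_pow, hx.1, map_one]
    exact ⟨rfl, hx.2⟩
  · refine dvd_trans ?_ (Nat.mul_dvd_mul_left _ (CfsgLib.frobenius_solutions s))
    rw [← Nat.gcd_mul_left]
    refine Nat.dvd_gcd (dvd_mul_left _ _) ?_
    rw [mul_comm, Subgroup.card_mul_index]
    exact Dvd.intro_left a has

end Cfsg.Agent.S3994
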