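import Cfsg.Statements.S3995
import Mathlib
import Cfsg.Agent.Lib.SolutionCount
import Cfsg.Agent.Lib.UniqueSubgroup
-- import your own Cfsg.Agent.* helpers here

set_option autoImplicit false
open Cfsg

namespace Cfsg.Agent.S3995

/-- Let G be a finite group such that the numbers of elements of each order that occurs in G (the numbers #{g : o(g) = m}, m ranging over the element orders of G) take exactly two values, 1 and some n ≠ 1. Then either G is a p-group of exponent p and order at least 3 for some prime p, or G is the quaternion group of order 8, or G is cyclic of order 4, or G ≅ Z₂ × P for a p-group P of exponent p with p an odd prime. -/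
theorem result {G : Type*} [Group G] [Finite G] (n : ℕ) (hn : n ≠ 1) (h : ((fun m : ℕ => Nat.card {g : G // orderOf g = m}) '' Set.range (orderOf : G → ℕ)) = {1, n}) :
    (∃ p : ℕ, p.Prime ∧ IsPGroup p G ∧ 3 ≤ Nat.card G ∧ Monoid.exponent G = p) ∨
      Nonempty (G ≃* QuaternionGroup 2) ∨ (IsCyclic G ∧ Nat.card G = 4) ∨
      (∃ (p : ℕ) (P : Type) (_ : Group P) (_ : Finite P), p.Prime ∧ p ≠ 2 ∧ IsPGroup p P ∧ Monoid.exponent P = p ∧
        Nonempty (G ≃* Multiplicative (ZMod 2) × P)) := by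
  classical
  haveI := Fintype.ofFinite G
  set c : ℕ → ℕ := fun m => Nat.card {g : G // orderOf g = m} with hc
  have hmem : ∀ g : G, c (orderOf g) = 1 ∨ c (orderOf g) = n := fun g => by
    have : c (orderOf g) ∈ ({1, n} : Set ℕ) := h ▸ ⟨_, ⟨g, rfl⟩, rfl⟩
    simpa using this
  have htot : ∀ m : ℕ, Nat.totient m ∣ c m := fun m => by
    have := CfsgLib.totient_dvd_card_of_generators (n := m) (Finset.univ.filter fun g : G => orderOf g = m)
      (fun g hg => (Finset.mem_filter.mp hg).2.ge.trans_eq rfl |> fun _ => (Finset.mem_filter.mp hg).2 ▸ dvd_rfl)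
      (fun g hg g' hg' => Finset.mem_filter.mpr ⟨Finset.mem_univ _, by
        rw [← (Finset.mem_filter.mp hg).2, ← Nat.card_zpowers, ← Nat.card_zpowers, hg']⟩)
    rwa [← Fintype.card_subtype, ← Nat.card_eq_fintype_card] at this
  have hn0 : 2 ≤ n := by
    obtain ⟨m, ⟨g, rfl⟩, hm⟩ : n ∈ (fun m : ℕ => Nat.card {g : G // orderOf g = m}) '' Set.range (orderOf : G → ℕ) := by
      rw [h]; simp
    haveI : Nonempty {x : G // orderOf x = orderOf g} := ⟨⟨g, rfl⟩⟩
    have := Nat.card_pos (α := {x : G // orderOf x = orderOf g})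
    simp only at hm
    omega
  have hN : ∀ d : ℕ, 0 < d → Nat.card {g : G // g ^ d = 1} = ∑ m ∈ d.divisors, c m := by
    intro d hd
    rw [Nat.card_eq_fintype_card, Fintype.card_subtype,
      Finset.card_eq_sum_card_fiberwise (f := fun g : G => orderOf g) (t := d.divisors) (fun g hg =>
        Nat.mem_divisors.mpr ⟨orderOf_dvd_of_pow_eq_one (Finset.mem_filter.mp hg).2, hd.ne'⟩)]
    refine Finset.sum_congr rfl fun m hm => ?_
    rw [hc]; dsimp only
    rw [Nat.card_eq_fintype_card, Fintype.card_subtype]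
    congr 1
    ext g
    simp only [Finset.mem_filter, Finset.mem_univ, true_and, and_iff_right_iff_imp]
    intro hg
    exact orderOf_dvd_iff_pow_eq_one.mp (hg ▸ Nat.dvd_of_mem_divisors hm)
  have hc1 : c 1 = 1 := by
    rw [hc]; dsimp only
    rw [Nat.card_eq_one_iff_unique]
    exact ⟨⟨fun a b => Subtype.ext ((orderOf_eq_one_iff.mp a.2).trans (orderOf_eq_one_iff.mp b.2).symm)⟩,
      ⟨⟨1, orderOf_one⟩⟩⟩
  have hbig : ∀ g : G, 3 ≤ orderOf g → c (orderOf g) = n ∧ 2 ∣ n := by
    intro g hg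
    have h2 : 2 ∣ c (orderOf g) := (even_iff_two_dvd.mp (Nat.totient_even hg)).trans (htot _)
    rcases hmem g with h | h
    · rw [h] at h2; omega
    · exact ⟨h, h ▸ h2⟩
  have hexcnt : ∀ g : G, Nat.card G = 1 → g = 1 := fun g hg =>
    @Subsingleton.elim G (Nat.card_eq_one_iff_unique.mp hg).1 g 1
  by_cases hsmall : ∀ g : G, g ^ 2 = 1
  · -- exponent two
    haveI := Fact.mk Nat.prime_two
    obtain ⟨m, ⟨g, rfl⟩, hm⟩ : n ∈ (fun m : ℕ => Nat.card {g : G // orderOf g = m}) '' Set.range (orderOf : G → ℕ) := by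
      rw [h]; simp
    have hg2 : orderOf g = 2 := by
      rcases (Nat.dvd_prime Nat.prime_two).mp (orderOf_dvd_of_pow_eq_one (hsmall g)) with e | e
      · exfalso
        change c (orderOf g) = n at hm
        rw [e, hc1] at hm
        exact hn hm.symm
      · exact e
    refine Or.inl ⟨2, Nat.prime_two, fun x => ⟨1, by simpa using hsmall x⟩, ?_, ?_⟩
    · change c (orderOf g) = n at hm
      have : Nat.card G = Nat.card {x : G // x ^ 2 = 1} := (Nat.card_congr (Equiv.subtypeUnivEquiv hsmall)).symm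
      rw [this, hN 2 two_pos, show (2 : ℕ).divisors = {1, 2} from rfl, Finset.sum_pair (by norm_num), hc1,
        ← hg2, hm]
      omega
    · rcases (Nat.dvd_prime Nat.prime_two).mp (Monoid.exponent_dvd_of_forall_pow_eq_one hsmall) with e | e
      · have := Monoid.exp_eq_one_iff.mp e
        rw [Subsingleton.elim g 1, orderOf_one] at hg2
        omega
      · exact e
  push Not at hsmall
  obtain ⟨g₀, hg₀⟩ := hsmall
  have hg₀3 : 3 ≤ orderOf g₀ := by
    have h0 := orderOf_pos g₀
    by_contra hlt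
    have : orderOf g₀ = 1 ∨ orderOf g₀ = 2 := by omega
    rcases this with e | e
    · exact hg₀ (by rw [orderOf_eq_one_iff.mp e, one_pow])
    · exact hg₀ (e ▸ pow_orderOf_eq_one g₀)
  have hneven : 2 ∣ n := (hbig g₀ hg₀3).2
  have hfrob : ∀ d : ℕ, 0 < d → d ∣ Nat.card G → d ∣ ∑ m ∈ d.divisors, c m := fun d hd hdG => by
    have := CfsgLib.frobenius_solutions (G := G) d
    rwa [Nat.gcd_eq_left hdG, hN d hd] at this
  have hocc : ∀ m : ℕ, (∃ g : G, orderOf g = m) → 3 ≤ m → c m = n := fun m ⟨g, hg⟩ h3 => hg ▸ (hbig g (hg.symm ▸ h3)).1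
  have hnocc : ∀ m : ℕ, (¬ ∃ g : G, orderOf g = m) → c m = 0 := fun m hm => by
    rw [hc]; dsimp only
    haveI : IsEmpty {g : G // orderOf g = m} := ⟨fun g => hm ⟨g.1, g.2⟩⟩
    exact Nat.card_of_isEmpty
  -- odd primes
  have hodd : ∀ p : ℕ, p.Prime → p ≠ 2 → p ∣ Nat.card G → p ∣ n + 1 ∧ ∀ g : G, orderOf g ≠ p ^ 2 := by
    intro p hp hp2 hpG
    haveI := Fact.mk hp
    have h3 : 3 ≤ p := by have := hp.two_le; omega
    have hcp : c p = n := hocc p (exists_prime_orderOf_dvd_card' p hpG) h3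
    have := hfrob p hp.pos hpG
    rw [hp.divisors, Finset.sum_pair (Ne.symm hp.ne_one), hc1, hcp] at this
    refine ⟨by rwa [add_comm], fun g hg => ?_⟩
    have hc2 : c (p ^ 2) = n := hocc _ ⟨g, hg⟩ (h3.trans (Nat.le_self_pow two_ne_zero p))
    have h1 : p ∣ n := by
      have := htot (p ^ 2)
      rw [hc2, Nat.totient_prime_pow hp two_pos, show 2 - 1 = 1 from rfl, pow_one] at this
      exact (dvd_mul_right p _).trans this
    have h2 : p ∣ 1 := (Nat.dvd_add_right (dvd_refl 0 |> fun _ => h1)).mp (by rwa [add_comm] at this)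
    exact hp.ne_one (Nat.dvd_one.mp h2)
  have hone : ∀ p q : ℕ, p.Prime → q.Prime → p ≠ 2 → q ≠ 2 → p ∣ Nat.card G → q ∣ Nat.card G → p = q := by
    intro p q hp hq hp2 hq2 hpG hqG
    by_contra hpq
    haveI := Fact.mk hp
    haveI := Fact.mk hq
    have hcop := (Nat.coprime_primes hp hq).mpr hpq
    have hdvd : p * q ∣ Nat.card G := hcop.mul_dvd_of_dvd_of_dvd hpG hqG
    have h3p : 3 ≤ p := by have := hp.two_le; omega
    have h3q : 3 ≤ q := by have := hq.two_le; omega
    have := hfrob (p * q) (Nat.mul_pos hp.pos hq.pos) hdvd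
    have hdiv : (p * q).divisors = {1, p, q, p * q} := by
      ext m
      rw [Nat.mem_divisors, Nat.dvd_mul]
      simp only [Finset.mem_insert, Finset.mem_singleton]
      constructor
      · rintro ⟨⟨a, b, ha, hb, rfl⟩, -⟩
        rcases (Nat.dvd_prime hp).mp ha with rfl | rfl <;> rcases (Nat.dvd_prime hq).mp hb with rfl | rfl <;> simp
      · intro hm
        refine ⟨?_, (Nat.mul_pos hp.pos hq.pos).ne'⟩
        rcases hm with rfl | rfl | rfl | rfl
        · exact ⟨1, 1, one_dvd _, one_dvd _, rfl⟩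
        · exact ⟨m, 1, dvd_rfl, one_dvd _, mul_one _⟩
        · exact ⟨1, m, one_dvd _, dvd_rfl, one_mul _⟩
        · exact ⟨p, q, dvd_rfl, dvd_rfl, rfl⟩
    have hpq' : p * q ≠ p ∧ p * q ≠ q ∧ 1 ≠ p * q := by
      refine ⟨?_, ?_, ?_⟩ <;> nlinarith
    rw [hdiv, Finset.sum_insert (by simp [Ne.symm hp.ne_one, Ne.symm hq.ne_one, hpq'.2.2]),
      Finset.sum_insert (by simp [hpq, hpq'.1.symm]), Finset.sum_pair hpq'.2.1.symm, hc1,
      hocc p (exists_prime_orderOf_dvd_card' p hpG) h3p, hocc q (exists_prime_orderOf_dvd_card' q hqG) h3q] at this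
    have hp' : p ∣ 1 + (n + (n + c (p * q))) := (dvd_mul_right p q).trans this
    have hn1 := (hodd p hp hp2 hpG).1
    by_cases hex : ∃ g : G, orderOf g = p * q
    · rw [hocc _ hex (by nlinarith), show 1 + (n + (n + n)) = 3 * (n + 1) - 2 by omega] at hp'
      have : p ∣ 2 := by
        have h5 := Nat.dvd_sub (hn1.mul_left 3) hp'
        rwa [show 3 * (n + 1) - (3 * (n + 1) - 2) = 2 by omega] at h5
      exact hp2 ((Nat.prime_dvd_prime_iff_eq hp Nat.prime_two).mp this)
    · rw [hnocc _ hex, show 1 + (n + (n + 0)) = 2 * (n + 1) - 1 by omega] at hp'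
      have h5 := Nat.dvd_sub (hn1.mul_left 2) hp'
      rw [show 2 * (n + 1) - (2 * (n + 1) - 1) = 1 by omega] at h5
      exact hp.ne_one (Nat.dvd_one.mp h5)
  haveI := Fact.mk Nat.prime_two
  -- the two-part
  have hinv : 2 ∣ Nat.card G → c 2 = 1 := by
    intro h2G
    obtain ⟨t, ht⟩ := exists_prime_orderOf_dvd_card' 2 h2G
    have := hfrob 2 two_pos h2G
    rw [show (2 : ℕ).divisors = {1, 2} from rfl, Finset.sum_pair (by norm_num), hc1] at this
    rcases hmem t with e | e <;> rw [ht] at e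
    · exact e
    · rw [e] at this; omega
  have huniq : ∀ a b : G, orderOf a = 2 → orderOf b = 2 → a = b := by
    intro a b ha hb
    have := Nat.card_eq_one_iff_unique.mp (hinv (ha ▸ orderOf_dvd_natCard a))
    exact congrArg Subtype.val (@Subsingleton.elim _ this.1 (⟨a, ha⟩ : {g : G // orderOf g = 2}) ⟨b, hb⟩)
  have h8 : ∀ g : G, orderOf g ≠ 8 := by
    intro g hg
    have h4 : ∃ x : G, orderOf x = 4 := ⟨g ^ 2, by rw [orderOf_pow' g two_ne_zero, hg]; rfl⟩
    obtain ⟨x, hx⟩ := h4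
    have h4G : 4 ∣ Nat.card G := hx ▸ orderOf_dvd_natCard x
    have := hfrob 4 (by norm_num) h4G
    rw [show (4 : ℕ).divisors = {1, 2, 4} from rfl, Finset.sum_insert (by simp), Finset.sum_pair (by norm_num),
      hc1, hinv ((by norm_num : 2 ∣ 4).trans h4G), hocc 4 ⟨x, hx⟩ (by norm_num)] at this
    have h' := htot 8
    rw [hocc 8 ⟨g, hg⟩ (by norm_num), show Nat.totient 8 = 4 by decide] at h'
    omega
  have h4odd : ∀ p : ℕ, p.Prime → p ≠ 2 → p ∣ Nat.card G → ∀ g : G, orderOf g ≠ 4 := by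
    intro p hp hp2 hpG g hg
    haveI := Fact.mk hp
    have h3 : 3 ≤ p := by have := hp.two_le; omega
    have hp4 : Nat.Coprime 4 p := by
      rw [show 4 = 2 ^ 2 by rfl]; exact ((Nat.coprime_primes Nat.prime_two hp).mpr (Ne.symm hp2)).pow_left 2
    have hdvd : 4 * p ∣ Nat.card G := hp4.mul_dvd_of_dvd_of_dvd (hg ▸ orderOf_dvd_natCard g) hpG
    have h2G : 2 ∣ Nat.card G := (by norm_num : 2 ∣ 4).trans (hg ▸ orderOf_dvd_natCard g)
    obtain ⟨t, ht⟩ := exists_prime_orderOf_dvd_card' 2 h2G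
    obtain ⟨x, hx⟩ := exists_prime_orderOf_dvd_card' p hpG
    have htc : Commute t x := by
      have : x * t * x⁻¹ = t := huniq _ _ (by rw [← ht]; exact orderOf_injective (MulAut.conj x).toMonoidHom (MulAut.conj x).injective t) ht
      exact (mul_inv_eq_iff_eq_mul.mp this).symm
    have h2p : ∃ y : G, orderOf y = 2 * p :=
      ⟨t * x, by rw [htc.orderOf_mul_eq_mul_orderOf_of_coprime (by rw [ht, hx]; exact (Nat.coprime_primes Nat.prime_two hp).mpr (Ne.symm hp2)), ht, hx]⟩
    have := hfrob (4 * p) (by positivity) hdvd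
    have hdiv : (4 * p).divisors = {1, 2, 4, p, 2 * p, 4 * p} := by
      ext m
      rw [Nat.mem_divisors, Nat.dvd_mul]
      simp only [Finset.mem_insert, Finset.mem_singleton]
      constructor
      · rintro ⟨⟨a, b, ha, hb, rfl⟩, -⟩
        have ha' : a ∈ (4 : ℕ).divisors := Nat.mem_divisors.mpr ⟨ha, by norm_num⟩
        rw [show (4 : ℕ).divisors = {1, 2, 4} from rfl] at ha'
        simp only [Finset.mem_insert, Finset.mem_singleton] at ha'
        rcases ha' with rfl | rfl | rfl <;> rcases (Nat.dvd_prime hp).mp hb with rfl | rfl <;> simp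
      · intro hm
        refine ⟨?_, by positivity⟩
        rcases hm with rfl | rfl | rfl | rfl | rfl | rfl
        · exact ⟨1, 1, one_dvd _, one_dvd _, rfl⟩
        · exact ⟨2, 1, by norm_num, one_dvd _, rfl⟩
        · exact ⟨4, 1, dvd_rfl, one_dvd _, rfl⟩
        · exact ⟨1, m, one_dvd _, dvd_rfl, one_mul _⟩
        · exact ⟨2, p, by norm_num, dvd_rfl, rfl⟩
        · exact ⟨4, p, dvd_rfl, dvd_rfl, rfl⟩
    have hpne4 : p ≠ 4 := fun e => by rw [e] at hp; norm_num at hp
    rw [hdiv, Finset.sum_insert (by simp <;> omega), Finset.sum_insert (by simp <;> omega),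
      Finset.sum_insert (by simp <;> omega), Finset.sum_insert (by simp <;> omega), Finset.sum_pair (by omega),
      hc1, hinv h2G, hocc 4 ⟨g, hg⟩ (by norm_num), hocc p ⟨x, hx⟩ h3, hocc _ h2p (by omega)] at this
    have hp' : p ∣ 1 + (1 + (n + (n + (n + c (4 * p))))) := (dvd_mul_left p 4).trans this
    have hn1 := (hodd p hp hp2 hpG).1
    by_cases hex : ∃ g : G, orderOf g = 4 * p
    · rw [hocc _ hex (by omega), show 1 + (1 + (n + (n + (n + n)))) = 4 * (n + 1) - 2 by omega] at hp'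
      have h5 := Nat.dvd_sub (hn1.mul_left 4) hp'
      rw [show 4 * (n + 1) - (4 * (n + 1) - 2) = 2 by omega] at h5
      exact hp2 ((Nat.prime_dvd_prime_iff_eq hp Nat.prime_two).mp h5)
    · rw [hnocc _ hex, show 1 + (1 + (n + (n + (n + 0)))) = 3 * (n + 1) - 1 by omega] at hp'
      have h5 := Nat.dvd_sub (hn1.mul_left 3) hp'
      rw [show 3 * (n + 1) - (3 * (n + 1) - 1) = 1 by omega] at h5
      exact hp.ne_one (Nat.dvd_one.mp h5)
  by_cases hP : ∃ p : ℕ, p.Prime ∧ p ≠ 2 ∧ p ∣ Nat.card G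
  swap
  · -- a two-group
    push Not at hP
    have h2 : IsPGroup 2 G := IsPGroup.of_card (n := (Nat.card G).primeFactorsList.length) (Nat.eq_prime_pow_of_unique_prime_dvd
      Nat.card_pos.ne' fun {d} hd hdd => by_contra fun hne => hP d hd hne hdd)
    have hord : ∀ g : G, orderOf g ∣ 4 := by
      intro g
      obtain ⟨k, hk⟩ := IsPGroup.iff_orderOf.mp h2 g
      rcases Nat.lt_or_ge k 3 with hk3 | hk3
      · rw [hk, show 4 = 2 ^ 2 by rfl]; exact pow_dvd_pow 2 (by omega)
      · refine absurd ?_ (h8 (g ^ 2 ^ (k - 3)))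
        rw [orderOf_pow' g (pow_ne_zero _ two_ne_zero), hk, Nat.gcd_eq_right (pow_dvd_pow 2 (Nat.sub_le k 3)),
          Nat.pow_div (Nat.sub_le k 3) two_pos, show k - (k - 3) = 3 by omega]
        rfl
    obtain ⟨t, ht⟩ := exists_prime_orderOf_dvd_card' 2 (show 2 ∣ Nat.card G from by
      obtain ⟨k, hk⟩ := IsPGroup.iff_orderOf.mp h2 g₀
      have : k ≠ 0 := by rintro rfl; rw [pow_zero] at hk; omega
      exact ((dvd_pow_self 2 this).trans (hk ▸ dvd_rfl)).trans (orderOf_dvd_natCard g₀))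
    have hu : ∀ x : G, x ^ 2 = 1 → x ∈ Subgroup.zpowers t := by
      intro x hx
      rcases (Nat.dvd_prime Nat.prime_two).mp (orderOf_dvd_of_pow_eq_one hx) with e | e
      · rw [orderOf_eq_one_iff.mp e]; exact one_mem _
      · rw [huniq x t e ht]; exact Subgroup.mem_zpowers t
    rcases CfsgLib.UniqueSubgroup.cyclic_or_quaternion h2 ht hu with hcyc | ⟨-, m, hm, ⟨e⟩⟩
    · refine Or.inr (Or.inr (Or.inl ⟨hcyc, ?_⟩))
      obtain ⟨g, hg⟩ := hcyc.exists_generator
      have hG4 : orderOf g = Nat.card G := orderOf_eq_card_of_forall_mem_zpowers hg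
      have h4 := Nat.le_of_dvd (by norm_num) (hord g)
      have h3 : 3 ≤ Nat.card G := hg₀3.trans (Nat.le_of_dvd Nat.card_pos (orderOf_dvd_natCard g₀))
      obtain ⟨k, hk⟩ := IsPGroup.iff_card.mp h2
      have hk2 : k < 3 := (Nat.pow_lt_pow_iff_right (by norm_num : 1 < 2)).mp (by rw [← hk, ← hG4]; omega)
      interval_cases k <;> omega
    · refine Or.inr (Or.inl ?_)
      rcases hm.eq_or_lt with rfl | hm2
      · exact ⟨e⟩
      exfalso
      haveI : NeZero (2 ^ m) := ⟨by positivity⟩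
      have h4 := hord (e.symm (QuaternionGroup.a 1))
      rw [MulEquiv.orderOf_eq] at h4
      rw [QuaternionGroup.orderOf_a_one] at h4
      have := Nat.le_of_dvd (by norm_num) h4
      have : 2 ^ 2 ≤ 2 ^ m := Nat.pow_le_pow_right (by norm_num) hm2
      omega
  obtain ⟨p, hp, hp2, hpG⟩ := hP
  haveI := Fact.mk hp
  have hsingle : ∀ q : ℕ, q.Prime → q ≠ 2 → q ∣ Nat.card G → q = p := fun q hq hq2 hqG => hone q p hq hp hq2 hp2 hqG hpG
  have hord : ∀ g : G, orderOf g ∣ 2 * p := by
    intro g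
    refine (Nat.dvd_iff_prime_pow_dvd_dvd _ _).mpr fun q k hq hqk => ?_
    rcases Nat.eq_zero_or_pos k with rfl | hk
    · simp
    have hqG : q ∣ Nat.card G := (dvd_pow_self q hk.ne').trans (hqk.trans (orderOf_dvd_natCard g))
    obtain ⟨y, hy⟩ : ∃ y : G, orderOf y = q ^ k := ⟨g ^ (orderOf g / q ^ k), by
      rw [orderOf_pow' g (Nat.div_pos (Nat.le_of_dvd (orderOf_pos g) hqk) (pow_pos hq.pos k)).ne',
        Nat.gcd_eq_right (Nat.div_dvd_of_dvd hqk), Nat.div_div_self hqk (orderOf_pos g).ne']⟩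
    have hk1 : k = 1 := by
      by_contra hk1
      have hy' : orderOf (y ^ q ^ (k - 2)) = q ^ 2 := by
        rw [orderOf_pow' y (pow_ne_zero _ hq.ne_zero), hy, Nat.gcd_eq_right (pow_dvd_pow q (Nat.sub_le k 2)),
          Nat.pow_div (Nat.sub_le k 2) hq.pos, show k - (k - 2) = 2 by omega]
      rcases eq_or_ne q 2 with rfl | hq2
      · exact h4odd p hp hp2 hpG _ hy'
      · exact (hodd q hq hq2 hqG).2 _ hy'
    subst hk1
    rw [pow_one]
    rcases eq_or_ne q 2 with rfl | hq2
    · exact dvd_mul_right 2 p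
    · rw [hsingle q hq hq2 hqG]; exact dvd_mul_left p 2
  by_cases h2G : 2 ∣ Nat.card G
  swap
  · have hexp : ∀ g : G, g ^ p = 1 := fun g => orderOf_dvd_iff_pow_eq_one.mp
      ((Nat.Coprime.dvd_of_dvd_mul_left ((Nat.prime_two.coprime_iff_not_dvd.mpr fun hd =>
        h2G (hd.trans (orderOf_dvd_natCard g))).symm) (hord g)))
    refine Or.inl ⟨p, hp, fun x => ⟨1, by simpa using hexp x⟩, hg₀3.trans (Nat.le_of_dvd Nat.card_pos (orderOf_dvd_natCard g₀)), ?_⟩
    rcases (Nat.dvd_prime hp).mp (Monoid.exponent_dvd_of_forall_pow_eq_one hexp) with e | e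
    · have := Monoid.exp_eq_one_iff.mp e
      rw [Subsingleton.elim g₀ 1, orderOf_one] at hg₀3
      omega
    · exact e
  -- `G = 2 × P`
  refine Or.inr (Or.inr (Or.inr ?_))
  obtain ⟨t, ht⟩ := exists_prime_orderOf_dvd_card' 2 h2G
  have htc : ∀ x : G, t * x = x * t := fun x => by
    have : x * t * x⁻¹ = t := huniq _ _ (by rw [← ht]; exact orderOf_injective (MulAut.conj x).toMonoidHom (MulAut.conj x).injective t) ht
    exact (mul_inv_eq_iff_eq_mul.mp this).symm
  obtain ⟨Q⟩ : Nonempty (Sylow 2 G) := inferInstance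
  obtain ⟨P⟩ : Nonempty (Sylow p G) := inferInstance
  have hQ2 : Nat.card Q = 2 := by
    have hQle : ∀ x ∈ (Q : Subgroup G), x ∈ Subgroup.zpowers t := by
      intro x hx
      obtain ⟨k, hk⟩ := IsPGroup.iff_orderOf.mp Q.2 ⟨x, hx⟩
      rw [Subgroup.orderOf_mk] at hk
      have h1 : orderOf x ∣ 2 := by
        have := hord x
        rw [hk] at this ⊢
        exact Nat.Coprime.dvd_of_dvd_mul_right (((Nat.coprime_primes Nat.prime_two hp).mpr (Ne.symm hp2)).pow_left k) this
      rcases (Nat.dvd_prime Nat.prime_two).mp h1 with e | e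
      · rw [orderOf_eq_one_iff.mp e]; exact one_mem _
      · rw [huniq x t e ht]; exact Subgroup.mem_zpowers t
    refine le_antisymm ((Subgroup.card_le_of_le hQle).trans (by rw [Nat.card_zpowers, ht])) ?_
    rw [Q.card_eq_multiplicity]
    exact Nat.le_self_pow (Nat.prime_two.factorization_pos_of_dvd Nat.card_pos.ne' h2G).ne' 2
  have hcardG : Nat.card G = 2 * Nat.card P := by
    have hfull : Nat.card G = ∏ q ∈ (Nat.card G).primeFactors, q ^ (Nat.card G).factorization q := by
      rw [← Nat.prod_factorization_eq_prod_primeFactors, Nat.prod_factorization_pow_eq_self Nat.card_pos.ne']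
    have hset : (Nat.card G).primeFactors = {2, p} := by
      ext q
      simp only [Nat.mem_primeFactors, Finset.mem_insert, Finset.mem_singleton]
      constructor
      · rintro ⟨hq, hqG, -⟩
        by_cases hq2 : q = 2
        · exact Or.inl hq2
        · exact Or.inr (hsingle q hq hq2 hqG)
      · rintro (rfl | rfl)
        · exact ⟨Nat.prime_two, h2G, Nat.card_pos.ne'⟩
        · exact ⟨hp, hpG, Nat.card_pos.ne'⟩
    rw [hset, Finset.prod_pair (Ne.symm hp2), ← Q.card_eq_multiplicity, ← P.card_eq_multiplicity, hQ2] at hfull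
    exact hfull
  have hinj : ∀ x ∈ Subgroup.zpowers t, x ∈ (P : Subgroup G) → x = 1 := by
    intro x hx hxP
    have h1 : orderOf x ∣ 2 := ht ▸ orderOf_dvd_of_mem_zpowers hx
    obtain ⟨k, hk⟩ := IsPGroup.iff_orderOf.mp P.2 ⟨x, hxP⟩
    rw [Subgroup.orderOf_mk] at hk
    exact orderOf_eq_one_iff.mp (Nat.eq_one_of_dvd_coprimes
      (((Nat.coprime_primes hp Nat.prime_two).mpr hp2).pow_left k) (hk ▸ dvd_rfl) h1)
  let u : Multiplicative (ZMod 2) →* G := (zmodCyclicMulEquiv (G := Subgroup.zpowers t) inferInstance |>.toMonoidHom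
    |> fun f => (Subgroup.zpowers t).subtype.comp (f.comp (MulEquiv.toMonoidHom
      (AddEquiv.toMultiplicative (ZMod.ringEquivCongr (show 2 = Nat.card (Subgroup.zpowers t) by rw [Nat.card_zpowers, ht])).toAddEquiv))))
  have hu : Function.Injective u :=
    Subtype.coe_injective.comp ((zmodCyclicMulEquiv (G := Subgroup.zpowers t) inferInstance).injective.comp
      (AddEquiv.toMultiplicative (ZMod.ringEquivCongr (show 2 = Nat.card (Subgroup.zpowers t) by rw [Nat.card_zpowers, ht])).toAddEquiv).injective)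
  have huz : ∀ a, u a ∈ Subgroup.zpowers t := fun a => Subtype.property _
  let φ : Multiplicative (ZMod 2) × ↥(P : Subgroup G) →* G :=
    MonoidHom.noncommCoprod u (P : Subgroup G).subtype (fun a b => by
      obtain ⟨i, hi⟩ := huz a
      rw [← hi]
      exact (show Commute t b from htc b).zpow_left i)
  have hφ : Function.Injective φ := by
    rw [injective_iff_map_eq_one]
    rintro ⟨a, b⟩ hab
    rw [MonoidHom.noncommCoprod_apply] at hab
    have hb : ((b : G)) ∈ Subgroup.zpowers t := by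
      rw [show ((b : G)) = (u a)⁻¹ from (eq_inv_of_mul_eq_one_right hab)]
      exact inv_mem (huz a)
    have hb1 : b = 1 := Subtype.ext (hinj _ hb b.2)
    subst hb1
    simp only [map_one, mul_one] at hab
    exact Prod.ext (hu (hab.trans (map_one u).symm)) rfl
  have hbij : Function.Bijective φ := (Nat.bijective_iff_injective_and_card φ).mpr ⟨hφ, by
    rw [Nat.card_prod, Nat.card_congr Multiplicative.toAdd, Nat.card_zmod, hcardG]⟩
  haveI : Small.{0} ↥(P : Subgroup G) := Countable.toSmall _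
  let me : Shrink.{0} ↥(P : Subgroup G) ≃* ↥(P : Subgroup G) := Shrink.mulEquiv
  refine ⟨p, Shrink.{0} ↥(P : Subgroup G), inferInstance, Finite.of_equiv _ (equivShrink _), hp, hp2, P.2.of_equiv me.symm, ?_,
    ⟨(MulEquiv.ofBijective φ hbij).symm.trans (MulEquiv.prodCongr (MulEquiv.refl _) me.symm)⟩⟩
  rw [Monoid.exponent_eq_of_mulEquiv me]
  have hexp : ∀ x : ↥(P : Subgroup G), x ^ p = 1 := by
    intro x
    refine orderOf_dvd_iff_pow_eq_one.mp ?_
    obtain ⟨k, hk⟩ := IsPGroup.iff_orderOf.mp P.2 x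
    have := hord (x : G)
    rw [Subgroup.orderOf_coe] at this
    rw [hk] at this ⊢
    exact Nat.Coprime.dvd_of_dvd_mul_left (((Nat.coprime_primes hp Nat.prime_two).mpr hp2).pow_left k) this
  rcases (Nat.dvd_prime hp).mp (Monoid.exponent_dvd_of_forall_pow_eq_one hexp) with e1 | e1
  · have := Monoid.exp_eq_one_iff.mp e1
    obtain ⟨x, hx⟩ := exists_prime_orderOf_dvd_card' (G := ↥(P : Subgroup G)) p (by
      rw [P.card_eq_multiplicity]; exact dvd_pow_self p (hp.factorization_pos_of_dvd Nat.card_pos.ne' hpG).ne')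
    rw [Subsingleton.elim x 1, orderOf_one] at hx
    exact absurd hx.symm hp.ne_one
  · exact e1

end Cfsg.Agent.S3995
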