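import Cfsg.Statements.S3996
import Cfsg.Agent.Lib.SolutionCount
import Cfsg.Agent.Lib.CharTheory.Burnside
import Mathlib

set_option autoImplicit false
open Cfsg

namespace Cfsg.Agent.S3996

open Finset
open scoped Classical

universe u

variable {G : Type u} [Group G] [Finite G]

/-- The number of elements of a given order. -/
noncomputable def cnt (G : Type u) [Group G] (m : ℕ) : ℕ := Nat.card {g : G // orderOf g = m}

theorem cnt_ne_zero_iff (m : ℕ) : cnt G m ≠ 0 ↔ ∃ g : G, orderOf g = m := by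
  rw [cnt, ← Nat.pos_iff_ne_zero, Finite.card_pos_iff]
  exact ⟨fun ⟨g⟩ => ⟨g.1, g.2⟩, fun ⟨g, hg⟩ => ⟨⟨g, hg⟩⟩⟩

theorem dvd_card {m : ℕ} (h : cnt G m ≠ 0) : m ∣ Nat.card G := by
  obtain ⟨g, rfl⟩ := (cnt_ne_zero_iff m).mp h
  exact orderOf_dvd_natCard g

theorem cnt_of_dvd {d m : ℕ} (hd : d ∣ m) (h : cnt G m ≠ 0) : cnt G d ≠ 0 := by
  obtain ⟨g, hg⟩ := (cnt_ne_zero_iff m).mp h
  refine (cnt_ne_zero_iff d).mpr ⟨g ^ (orderOf g / d), orderOf_pow_orderOf_div ?_ (hg ▸ hd)⟩
  exact (orderOf_pos g).ne'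

theorem cnt_prime {p : ℕ} (hp : p.Prime) (h : p ∣ Nat.card G) : cnt G p ≠ 0 := by
  haveI := Fact.mk hp
  obtain ⟨g, hg⟩ := exists_prime_orderOf_dvd_card' p h
  exact (cnt_ne_zero_iff p).mpr ⟨g, hg⟩

theorem cnt_one : cnt G 1 = 1 := by
  rw [cnt, Nat.card_eq_one_iff_unique]
  refine ⟨⟨fun a b => Subtype.ext ?_⟩, ⟨⟨1, orderOf_one⟩⟩⟩
  rw [orderOf_eq_one_iff.mp a.2, orderOf_eq_one_iff.mp b.2]

theorem totient_dvd (m : ℕ) : Nat.totient m ∣ cnt G m := by
  have := Fintype.ofFinite G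
  have h := CfsgLib.totient_dvd_card_of_generators (G := G) (n := m)
    (Finset.univ.filter fun g : G => orderOf g = m)
    (fun g hg => by rw [(Finset.mem_filter.mp hg).2])
    (fun g hg g' hz => Finset.mem_filter.mpr ⟨Finset.mem_univ _, by
      rw [← Nat.card_zpowers, hz, Nat.card_zpowers, (Finset.mem_filter.mp hg).2]⟩)
  rwa [cnt, Nat.card_eq_fintype_card, Fintype.card_subtype]

/-- The solutions of `g ^ m = 1` by order. -/
theorem sum_cnt {m : ℕ} (hm : m ≠ 0) :
    ∑ d ∈ m.divisors, cnt G d = Nat.card {g : G // g ^ m = 1} := by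
  have := Fintype.ofFinite G
  simp only [cnt, Nat.card_eq_fintype_card, Fintype.card_subtype]
  rw [Finset.card_eq_sum_card_fiberwise (f := fun g : G => orderOf g) (t := m.divisors)
    (s := Finset.univ.filter fun g : G => g ^ m = 1) (fun g hg => Nat.mem_divisors.mpr
      ⟨orderOf_dvd_of_pow_eq_one (Finset.mem_filter.mp hg).2, hm⟩)]
  refine Finset.sum_congr rfl fun d hd => congrArg Finset.card ?_
  ext g
  simp only [Finset.mem_filter, Finset.mem_univ, true_and]
  exact ⟨fun h => ⟨orderOf_dvd_iff_pow_eq_one.mp (h ▸ Nat.dvd_of_mem_divisors hd), h⟩, fun h => h.2⟩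

theorem sum_le {m : ℕ} (hm : m ≠ 0) : ∑ d ∈ m.divisors, cnt G d ≤ Nat.card G := by
  rw [sum_cnt hm]
  exact Nat.card_le_card_of_injective Subtype.val Subtype.val_injective

theorem frob {m : ℕ} (h : m ∣ Nat.card G) : m ∣ ∑ d ∈ m.divisors, cnt G d := by
  rw [sum_cnt (ne_zero_of_dvd_ne_zero Nat.card_pos.ne' h)]
  exact CfsgLib.frobenius_main _ G rfl m h

theorem frobZ {m n : ℕ} (hn : n ∣ m) (h : m ∣ Nat.card G) :
    ∑ d ∈ m.divisors, (cnt G d : ZMod n) = 0 := by
  rw [← Nat.cast_sum, ZMod.natCast_eq_zero_iff]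
  exact hn.trans (frob h)

theorem sum_divisors_mul_prime {M : Type*} [AddCommMonoid M] (f : ℕ → M) {m r : ℕ} (hm : m ≠ 0) (hr : r.Prime)
    (hrm : ¬ r ∣ m) : ∑ d ∈ (m * r).divisors, f d =
      ∑ d ∈ m.divisors, f d + ∑ d ∈ m.divisors, f (d * r) := by
  have e : (m * r).divisors = m.divisors ∪ m.divisors.image (· * r) := by
    ext d
    simp only [Nat.mem_divisors, Finset.mem_union, Finset.mem_image]
    constructor
    · rintro ⟨hd, -⟩
      obtain ⟨x, y, hx, hy, rfl⟩ := Nat.dvd_mul.mp hd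
      rcases (Nat.dvd_prime hr).mp hy with rfl | rfl
      · exact Or.inl ⟨by rwa [mul_one], hm⟩
      · exact Or.inr ⟨x, ⟨hx, hm⟩, rfl⟩
    · rintro (⟨hd, -⟩ | ⟨x, ⟨hx, -⟩, rfl⟩)
      · exact ⟨dvd_mul_of_dvd_left hd r, mul_ne_zero hm hr.ne_zero⟩
      · exact ⟨Nat.mul_dvd_mul_right hx r, mul_ne_zero hm hr.ne_zero⟩
  rw [e, Finset.sum_union, Finset.sum_image]
  · exact fun a _ b _ h => Nat.eq_of_mul_eq_mul_right hr.pos h
  · rw [Finset.disjoint_left]
    intro d hd hd'
    obtain ⟨x, -, rfl⟩ := Finset.mem_image.mp hd'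
    exact hrm ((dvd_mul_left r x).trans (Nat.dvd_of_mem_divisors hd))

theorem sum_prime_divisors {M : Type*} [AddCommMonoid M] (f : ℕ → M) {p : ℕ} (hp : p.Prime) :
    ∑ d ∈ p.divisors, f d = f 1 + f p := by
  rw [hp.divisors, Finset.sum_pair hp.one_lt.ne]

theorem sum_two_primes {M : Type*} [AddCommMonoid M] (f : ℕ → M) {p q : ℕ} (hp : p.Prime) (hq : q.Prime) (hpq : p ≠ q) :
    ∑ d ∈ (p * q).divisors, f d = f 1 + f p + (f q + f (p * q)) := by
  rw [sum_divisors_mul_prime f hp.ne_zero hq (fun h => hpq ((Nat.prime_dvd_prime_iff_eq hq hp).mp h).symm),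
    sum_prime_divisors f hp, sum_prime_divisors (fun d => f (d * q)) hp, one_mul]

/-- A prime dividing the group order but extending no element of order `m` divides their number. -/
theorem dvd_cnt {m r : ℕ} (hr : r.Prime) (hrG : r ∣ Nat.card G) (hm : ¬ r ∣ m) (h : cnt G (m * r) = 0) :
    r ∣ cnt G m := by
  haveI := Fact.mk hr
  obtain ⟨z, hz⟩ := exists_prime_orderOf_dvd_card' r hrG
  let X := {g : G // orderOf g = m}
  letI : MulAction (Subgroup.zpowers z) X :=
    { smul := fun a g => ⟨(a : G) * g.1 * (a : G)⁻¹,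
        (show orderOf (MulAut.conj (a : G) g.1) = m by rw [MulEquiv.orderOf_eq, g.2])⟩
      one_smul := fun g => Subtype.ext (by show (1 : G) * g.1 * (1 : G)⁻¹ = g.1; group)
      mul_smul := fun a b g => Subtype.ext (by
        show ((a : G) * b) * g.1 * ((a : G) * b)⁻¹ = (a : G) * ((b : G) * g.1 * (b : G)⁻¹) * (a : G)⁻¹
        group) }
  have hP : IsPGroup r (Subgroup.zpowers z) := IsPGroup.of_card (n := 1) (by rw [Nat.card_zpowers, hz, pow_one])
  have he : IsEmpty (MulAction.fixedPoints (Subgroup.zpowers z) X) := ⟨fun g => by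
    have h1 : z * g.1.1 * z⁻¹ = g.1.1 := congrArg Subtype.val (g.2 ⟨z, Subgroup.mem_zpowers z⟩)
    have hc : Commute g.1.1 z := by
      have := congrArg (· * z) h1
      simpa [mul_assoc, Commute, SemiconjBy] using this.symm
    refine (cnt_ne_zero_iff (m * r)).mpr ⟨g.1.1 * z, ?_⟩ h
    rw [hc.orderOf_mul_eq_mul_orderOf_of_coprime (by
      rw [g.1.2, hz]; exact ((hr.coprime_iff_not_dvd).mpr hm).symm), g.1.2, hz]⟩
  have := hP.card_modEq_card_fixedPoints X
  rw [Nat.card_of_isEmpty (α := MulAction.fixedPoints (Subgroup.zpowers z) X)] at this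
  exact Nat.modEq_zero_iff_dvd.mp this

/-- The odd primes dividing the order. -/
def OP (G : Type u) [Group G] (p : ℕ) : Prop := p.Prime ∧ p ≠ 2 ∧ p ∣ Nat.card G

theorem two_ne (p : ℕ) (hp : p.Prime) (h2 : p ≠ 2) : (2 : ZMod p) ≠ 0 := by
  intro h
  rw [show (2 : ZMod p) = ((2 : ℕ) : ZMod p) by norm_num, ZMod.natCast_eq_zero_iff] at h
  exact h2 ((Nat.prime_dvd_prime_iff_eq hp Nat.prime_two).mp h)

theorem prime_cast {p : ℕ} (hp : p.Prime) (hG : p ∣ Nat.card G) : (cnt G p : ZMod p) = -1 := by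
  have h := frobZ (G := G) (dvd_refl p) hG
  rw [sum_prime_divisors _ hp, cnt_one, Nat.cast_one] at h
  linear_combination h

theorem pq_cast {p q : ℕ} (hp : p.Prime) (hq : q.Prime) (hpq : p ≠ q) (h : cnt G (p * q) ≠ 0) :
    (cnt G q : ZMod p) + cnt G (p * q) = 0 := by
  have h1 := frobZ (G := G) (dvd_mul_right p q) (dvd_card h)
  rw [sum_two_primes _ hp hq hpq, cnt_one, Nat.cast_one,
    prime_cast hp ((dvd_mul_right p q).trans (dvd_card h))] at h1
  linear_combination h1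

/-- Every number of elements of an order above `2` is one of two values. -/
def TwoVal (G : Type u) [Group G] : Prop :=
  ∃ a b : ℕ, ∀ m, 2 < m → cnt G m ≠ 0 → cnt G m = a ∨ cnt G m = b

theorem pick (hT : TwoVal G) {x y z : ℕ} (hx : 2 < x) (hy : 2 < y) (hz : 2 < z) (hx0 : cnt G x ≠ 0)
    (hy0 : cnt G y ≠ 0) (hz0 : cnt G z ≠ 0) (hne : cnt G x ≠ cnt G y) :
    cnt G z = cnt G x ∨ cnt G z = cnt G y := by
  obtain ⟨a, b, h⟩ := hT
  rcases h x hx hx0 with h1 | h1 <;> rcases h y hy hy0 with h2 | h2 <;> rcases h z hz hz0 with h3 | h3 <;>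
    omega

theorem OP.lt {p : ℕ} (h : OP G p) : 2 < p := lt_of_le_of_ne h.1.two_le (Ne.symm h.2.1)

theorem mul_lt {p q : ℕ} (hp : 2 < p) (hq : 1 ≤ q) : 2 < p * q := lt_of_lt_of_le hp (Nat.le_mul_of_pos_right p hq)

theorem claimA {p q : ℕ} (hp : OP G p) (hq : OP G q) (hpq : p ≠ q) (he : cnt G p = cnt G q) :
    cnt G (p * q) ≠ 0 ∧ (cnt G (p * q) : ZMod p) = 1 ∧ cnt G (p * q) ≠ cnt G p := by
  haveI := Fact.mk hp.1
  haveI := Fact.mk hq.1
  have h0 : cnt G (p * q) ≠ 0 := fun h => by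
    have h1 := dvd_cnt hq.1 hq.2.2 (fun h => hpq ((Nat.prime_dvd_prime_iff_eq hq.1 hp.1).mp h).symm) h
    rw [he, ← ZMod.natCast_eq_zero_iff, prime_cast hq.1 hq.2.2] at h1
    exact neg_ne_zero.mpr one_ne_zero h1
  have h1 := pq_cast hp.1 hq.1 hpq h0
  rw [← he, prime_cast hp.1 hp.2.2] at h1
  have hv : (cnt G (p * q) : ZMod p) = 1 := by linear_combination h1
  refine ⟨h0, hv, fun e => ?_⟩
  rw [e, prime_cast hp.1 hp.2.2] at hv
  exact two_ne p hp.1 hp.2.1 (by linear_combination -hv)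

theorem claimB (hT : TwoVal G) {p q r : ℕ} (hp : OP G p) (hq : OP G q) (hr : OP G r) (hpq : p ≠ q) (hpr : p ≠ r)
    (hqr : q ≠ r) (he : cnt G p = cnt G q) : cnt G r = cnt G p := by
  by_contra hne
  haveI := Fact.mk hp.1
  haveI := Fact.mk hr.1
  obtain ⟨hA0, hA1, hA2⟩ := claimA hp hq hpq he
  have hp0 := cnt_prime hp.1 hp.2.2
  have hpq2 := mul_lt hp.lt hq.1.one_le
  have hrv : cnt G r = cnt G (p * q) :=
    (pick hT hp.lt hpq2 hr.lt hp0 hA0 (cnt_prime hr.1 hr.2.2) (Ne.symm hA2)).resolve_left hne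
  have hvr : (cnt G (p * q) : ZMod r) = -1 := by rw [← hrv, prime_cast hr.1 hr.2.2]
  have two := two_ne r hr.1 hr.2.1
  -- the pairs with the third prime
  have pair : ∀ {s : ℕ}, OP G s → s ≠ r → cnt G s = cnt G p → (cnt G (p * q) : ZMod s) = 1 → cnt G (s * r) ≠ 0 →
      cnt G (s * r) = cnt G p := by
    intro s hs hsr hse hsv h0
    haveI := Fact.mk hs.1
    refine (pick hT hp.lt hpq2 (mul_lt hs.lt hr.1.one_le) hp0 hA0 h0 (Ne.symm hA2)).resolve_right fun e => ?_
    have h1 := pq_cast hs.1 hr.1 hsr h0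
    rw [e, hrv, hsv] at h1
    exact two_ne s hs.1 hs.2.1 (by linear_combination h1)
  have hu : (cnt G p : ZMod r) = 0 := by
    by_cases h0 : cnt G (p * r) = 0
    · exact (ZMod.natCast_eq_zero_iff _ _).mpr
        (dvd_cnt hr.1 hr.2.2 (fun h => hpr ((Nat.prime_dvd_prime_iff_eq hr.1 hp.1).mp h).symm) h0)
    · have h1 := frobZ (G := G) (dvd_mul_left r p) (dvd_card h0)
      rw [sum_two_primes _ hp.1 hr.1 hpr, cnt_one, Nat.cast_one, pair hp hpr rfl hA1 h0, hrv, hvr] at h1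
      have h2 : (2 : ZMod r) * (cnt G p : ZMod r) = 0 := by linear_combination h1
      exact (mul_eq_zero.mp h2).resolve_left two
  have hr' : ¬ r ∣ p * q := fun h => by
    rcases hr.1.dvd_mul.mp h with h | h
    · exact hpr ((Nat.prime_dvd_prime_iff_eq hr.1 hp.1).mp h).symm
    · exact hqr ((Nat.prime_dvd_prime_iff_eq hr.1 hq.1).mp h).symm
  by_cases h3 : cnt G (p * q * r) = 0
  · have h1 := (ZMod.natCast_eq_zero_iff _ _).mpr (dvd_cnt hr.1 hr.2.2 hr' h3)
    rw [hvr] at h1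
    exact neg_ne_zero.mpr one_ne_zero h1
  have hpr0 : cnt G (p * r) ≠ 0 := cnt_of_dvd (Nat.mul_dvd_mul_right (dvd_mul_right p q) r) h3
  have hqr0 : cnt G (q * r) ≠ 0 := cnt_of_dvd (Nat.mul_dvd_mul_right (dvd_mul_left q p) r) h3
  have hA1' : (cnt G (p * q) : ZMod q) = 1 := by
    rw [mul_comm p q]; exact (claimA hq hp (Ne.symm hpq) he.symm).2.1
  have h1 := frobZ (G := G) (dvd_mul_left r (p * q)) (dvd_card h3)
  rw [sum_divisors_mul_prime _ (mul_ne_zero hp.1.ne_zero hq.1.ne_zero) hr.1 hr',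
    sum_two_primes _ hp.1 hq.1 hpq, sum_two_primes _ hp.1 hq.1 hpq, cnt_one, Nat.cast_one, one_mul,
    pair hp hpr rfl hA1 hpr0, pair hq hqr he.symm hA1' hqr0, hrv, ← he, hvr, hu] at h1
  rcases pick hT hp.lt hpq2 (mul_lt hpq2 hr.1.one_le) hp0 hA0 h3 (Ne.symm hA2) with e | e
  · rw [e, hu] at h1
    exact one_ne_zero (α := ZMod r) (by linear_combination -h1)
  · rw [e, hvr] at h1
    exact two (by linear_combination -h1)

theorem share (hT : TwoVal G) {p q r : ℕ} (hp : OP G p) (hq : OP G q) (hr : OP G r) (hpq : p ≠ q) (hpr : p ≠ r)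
    (hqr : q ≠ r) : ∀ s, OP G s → cnt G s = cnt G p := by
  have key : cnt G q = cnt G p := by
    by_contra hne
    rcases pick hT hp.lt hq.lt hr.lt (cnt_prime hp.1 hp.2.2) (cnt_prime hq.1 hq.2.2) (cnt_prime hr.1 hr.2.2)
        (Ne.symm hne) with e | e
    · exact hne (claimB hT hp hr hq hpr hpq (Ne.symm hqr) e.symm)
    · exact hne (claimB hT hq hr hp hqr (Ne.symm hpq) (Ne.symm hpr) e.symm).symm
  intro s hs
  by_cases h1 : s = p
  · rw [h1]
  by_cases h2 : s = q
  · rw [h2, key]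
  exact claimB hT hp hq hs hpq (Ne.symm h1) (Ne.symm h2) key.symm

/-- With a common value no odd prime squares occur. -/
theorem no_sq (hT : TwoVal G) {p q : ℕ} (hp : OP G p) (hq : OP G q) (hpq : p ≠ q) (he : cnt G p = cnt G q) :
    cnt G (p * p) = 0 := by
  by_contra h0
  haveI := Fact.mk hp.1
  obtain ⟨hA0, hA1, hA2⟩ := claimA hp hq hpq he
  have h1 := frobZ (G := G) (dvd_mul_right p p) (dvd_card h0)
  rw [show p * p = p ^ 2 by ring, Nat.sum_divisors_prime_pow hp.1, Finset.sum_range_succ, Finset.sum_range_succ,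
    Finset.sum_range_succ, Finset.sum_range_zero, pow_zero, pow_one, zero_add, cnt_one, Nat.cast_one,
    prime_cast hp.1 hp.2.2, show p ^ 2 = p * p by ring] at h1
  rcases pick hT hp.lt (mul_lt hp.lt hq.1.one_le) (mul_lt hp.lt hp.1.one_le) (cnt_prime hp.1 hp.2.2) hA0 h0
      (Ne.symm hA2) with e | e
  · rw [e, prime_cast hp.1 hp.2.2] at h1
    exact one_ne_zero (α := ZMod p) (by linear_combination -h1)
  · rw [e, hA1] at h1
    exact one_ne_zero (α := ZMod p) (by linear_combination h1)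

theorem card_ne_zero : Nat.card G ≠ 0 := Nat.card_pos.ne'

/-- The odd part divides one more than the common value. -/
theorem odd_part_dvd (hT : TwoVal G) {u : ℕ} (hu : ∀ s, OP G s → cnt G s = u) {a b : ℕ} (ha : OP G a) (hb : OP G b)
    (hab : a ≠ b) {O : ℕ} (hO : O ∣ Nat.card G) (hO2 : ¬ 2 ∣ O) : O ∣ u + 1 := by
  rw [Nat.dvd_iff_prime_pow_dvd_dvd]
  intro p k hp hk
  rcases Nat.eq_zero_or_pos k with rfl | hk0
  · simp
  have hpO : p ∣ O := (dvd_pow_self p hk0.ne').trans hk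
  have hP : OP G p := ⟨hp, fun e => hO2 (e ▸ hpO), hpO.trans hO⟩
  obtain ⟨q, hq, hpq⟩ : ∃ q, OP G q ∧ p ≠ q := by
    by_cases h : p = a
    · exact ⟨b, hb, h ▸ hab⟩
    · exact ⟨a, ha, h⟩
  have hsq := no_sq hT hP hq hpq (by rw [hu p hP, hu q hq])
  have h1 := frob (G := G) (hk.trans hO)
  have e : ∑ d ∈ (p ^ k).divisors, cnt G d = u + 1 := by
    rw [Nat.sum_divisors_prime_pow hp, Finset.sum_range_succ', pow_zero, cnt_one,
      Finset.sum_eq_single_of_mem 0 (Finset.mem_range.mpr hk0)]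
    · rw [zero_add, pow_one, hu p hP]
    · intro i _ hi
      by_contra h
      exact cnt_of_dvd (d := p * p) (by
        rw [show p * p = p ^ 2 by ring]; exact pow_dvd_pow p (by omega)) h hsq
  rwa [e] at h1

theorem solvable_of_few (h : ∀ p q r : ℕ, p.Prime → q.Prime → r.Prime → p ∣ Nat.card G → q ∣ Nat.card G →
    r ∣ Nat.card G → p = q ∨ p = r ∨ q = r) : Group.IsSolvable G := by
  have h0 := card_ne_zero (G := G)
  by_cases h1 : Nat.card G = 1
  · exact CfsgLib.CharTheory.isSolvable_of_card_two_primes (a := 0) (b := 0) Nat.prime_two Nat.prime_two (by simp [h1])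
  obtain ⟨p, hp, hpd⟩ := Nat.exists_prime_and_dvd h1
  by_cases hall : ∀ d : ℕ, d.Prime → d ∣ Nat.card G → d = p
  · exact CfsgLib.CharTheory.isSolvable_of_card_two_primes (a := (Nat.card G).primeFactorsList.length) (b := 0) hp hp (by
      rw [pow_zero, mul_one]; exact Nat.eq_prime_pow_of_unique_prime_dvd h0 (fun hd1 hd2 => hall _ hd1 hd2))
  push Not at hall
  obtain ⟨q, hq, hqd, hqp⟩ := hall
  obtain ⟨m, hm⟩ : ordProj[p] (Nat.card G) ∣ Nat.card G := Nat.ordProj_dvd _ _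
  have hm0 : m ≠ 0 := fun e => h0 (by rw [hm, e, mul_zero])
  have hmp : ¬ p ∣ m := fun hd => by
    have := Nat.not_dvd_ordCompl hp h0
    apply this
    rw [Nat.dvd_div_iff_mul_dvd (Nat.ordProj_dvd _ _)]
    conv_rhs => rw [hm]
    exact mul_dvd_mul_left _ hd
  refine CfsgLib.CharTheory.isSolvable_of_card_two_primes hp hq (b := m.primeFactorsList.length)
    (a := (Nat.card G).factorization p) ?_
  have hmq : m = q ^ m.primeFactorsList.length :=
    Nat.eq_prime_pow_of_unique_prime_dvd hm0 (fun {d} hd1 hd2 => by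
      rcases h p q d hp hq hd1 hpd hqd (hd2.trans ⟨_, hm.trans (mul_comm _ _)⟩) with e | e | e
      · exact absurd e.symm hqp
      · exact absurd (e ▸ hd2) hmp
      · exact e.symm)
  rw [← hmq]
  exact hm

theorem two_le_of_even {u : ℕ} (h0 : u ≠ 0) (h : 2 ∣ u) : 2 ≤ u := by omega

theorem even_cnt {m : ℕ} (hm : 2 < m) : 2 ∣ cnt G m :=
  (even_iff_two_dvd.mp (Nat.totient_even hm)).trans (totient_dvd m)

section Unique

variable (hT : TwoVal G) (h2 : cnt G 2 = 1)

include h2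

theorem exists_central : ∃ z : G, orderOf z = 2 ∧ z ∈ Subgroup.center G ∧ ∀ g : G, orderOf g = 2 → g = z := by
  rw [cnt, Nat.card_eq_one_iff_unique] at h2
  obtain ⟨hs, ⟨z⟩⟩ := h2
  have huniq : ∀ g : G, orderOf g = 2 → g = z.1 := fun g hg => congrArg Subtype.val (hs.elim ⟨g, hg⟩ z)
  refine ⟨z.1, z.2, Subgroup.mem_center_iff.mpr fun g => ?_, huniq⟩
  have := huniq (MulAut.conj g z.1) (by rw [MulEquiv.orderOf_eq, z.2])
  rw [MulAut.conj_apply] at this
  calc g * z.1 = g * z.1 * g⁻¹ * g := by group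
    _ = z.1 * g := by rw [this]

theorem cnt_double {m : ℕ} (hm : ¬ 2 ∣ m) : cnt G (2 * m) = cnt G m := by
  obtain ⟨z, hz, hzc, huniq⟩ := exists_central h2
  have hcm : ∀ g : G, Commute z g := fun g => (Subgroup.mem_center_iff.mp hzc g).symm
  symm
  refine Nat.card_eq_of_bijective (fun g => ⟨z * g.1, ?_⟩) ⟨fun a b h => ?_, fun g => ?_⟩
  · rw [(hcm g.1).orderOf_mul_eq_mul_orderOf_of_coprime (by
      rw [hz, g.2]; exact (Nat.prime_two.coprime_iff_not_dvd).mpr hm), hz, g.2]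
  · exact Subtype.ext (mul_left_cancel (congrArg Subtype.val h))
  · have hgm : orderOf (g.1 ^ m) = 2 := by
      rw [orderOf_pow' g.1 (by rintro rfl; exact hm (dvd_zero _)), g.2, Nat.gcd_eq_right (dvd_mul_left m 2),
        Nat.mul_div_cancel _ (Nat.pos_of_ne_zero (by rintro rfl; exact hm (dvd_zero _)))]
    have h1 : (z * g.1) ^ m = 1 := by
      rw [(hcm g.1).mul_pow, huniq _ hgm]
      obtain ⟨k, rfl⟩ := Nat.not_even_iff_odd.mp (fun h => hm (even_iff_two_dvd.mp h))
      rw [← pow_succ, show 2 * k + 1 + 1 = 2 * (k + 1) by ring, pow_mul, ← hz, pow_orderOf_eq_one, one_pow]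
    have hzz : z * (z * g.1) = g.1 := by
      rw [← mul_assoc, show z * z = 1 by rw [← sq, ← hz, pow_orderOf_eq_one], one_mul]
    refine ⟨⟨z * g.1, Nat.dvd_antisymm (orderOf_dvd_of_pow_eq_one h1) ?_⟩, Subtype.ext hzz⟩
    have h3 := (hcm (z * g.1)).orderOf_mul_dvd_mul_orderOf
    rw [hzz, g.2, hz] at h3
    exact Nat.dvd_of_mul_dvd_mul_left (by norm_num) h3

theorem two_pow_cast {p i : ℕ} (hp : OP G p) (h : 2 ^ (i + 1) ∣ Nat.card G) :
    (cnt G (2 ^ (i + 1)) : ZMod p) + cnt G (2 ^ (i + 1) * p) = 0 := by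
  have hnp : ∀ j, ¬ p ∣ 2 ^ j := fun j h => hp.2.1 ((Nat.prime_dvd_prime_iff_eq hp.1 Nat.prime_two).mp (hp.1.dvd_of_dvd_pow h))
  have hdiv : ∀ j, j ≤ i + 1 → 2 ^ j * p ∣ Nat.card G := fun j hj =>
    Nat.Coprime.mul_dvd_of_dvd_of_dvd ((hp.1.coprime_iff_not_dvd).mpr (hnp j)).symm
      ((pow_dvd_pow 2 hj).trans h) hp.2.2
  have e : ∀ j, j ≤ i + 1 → ∑ k ∈ Finset.range (j + 1), ((cnt G (2 ^ k) : ZMod p) + cnt G (2 ^ k * p)) = 0 := by
    intro j hj
    have h1 := frobZ (G := G) (dvd_mul_left p (2 ^ j)) (hdiv j hj)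
    rw [sum_divisors_mul_prime _ (pow_ne_zero _ two_ne_zero) hp.1 (hnp j),
      Nat.sum_divisors_prime_pow Nat.prime_two, Nat.sum_divisors_prime_pow Nat.prime_two] at h1
    rw [Finset.sum_add_distrib]
    exact h1
  have h1 := e (i + 1) le_rfl
  rw [Finset.sum_range_succ, e i (by omega), zero_add] at h1
  exact h1

theorem four_facts (h4 : 4 ∣ Nat.card G) : cnt G 4 ≠ 0 ∧ ¬ 4 ∣ cnt G 4 := by
  have h := frob (G := G) (m := 2 ^ 2) h4
  rw [Nat.sum_divisors_prime_pow Nat.prime_two, Finset.sum_range_succ, Finset.sum_range_succ,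
    Finset.sum_range_succ, Finset.sum_range_zero, pow_zero, pow_one, zero_add, cnt_one, h2] at h
  norm_num at h
  omega

include hT

omit h2 in
theorem four_dvd_pq {p q : ℕ} (hp : OP G p) (hq : OP G q) (hpq : p ≠ q) : 4 ∣ cnt G (p * q) := by
  refine dvd_trans ?_ (totient_dvd (p * q))
  rw [Nat.totient_mul ((Nat.coprime_primes hp.1 hq.1).mpr hpq)]
  exact mul_dvd_mul (even_iff_two_dvd.mp (Nat.totient_even hp.lt)) (even_iff_two_dvd.mp (Nat.totient_even hq.lt))

theorem four_mul_dvd {p : ℕ} (hp : OP G p) : 4 ∣ cnt G (4 * p) := by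
  refine dvd_trans ?_ (totient_dvd (4 * p))
  have hcop : Nat.Coprime 4 p := ((hp.1.coprime_iff_not_dvd).mpr fun h : p ∣ 4 =>
    hp.2.1 ((Nat.prime_dvd_prime_iff_eq hp.1 Nat.prime_two).mp (hp.1.dvd_of_dvd_pow (n := 2) h))).symm
  rw [Nat.totient_mul hcop,
    show Nat.totient 4 = 2 by decide]
  exact mul_dvd_mul_left 2 (even_iff_two_dvd.mp (Nat.totient_even hp.lt))

theorem same_values (h4 : 4 ∣ Nat.card G) {p q : ℕ} (hp : OP G p) (hq : OP G q) (hpq : p ≠ q) :
    cnt G p = cnt G q := by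
  by_contra hne
  haveI := Fact.mk hp.1
  haveI := Fact.mk hq.1
  obtain ⟨h40, h41⟩ := four_facts h2 h4
  have hp0 := cnt_prime hp.1 hp.2.2
  have hq0 := cnt_prime hq.1 hq.2.2
  have hnd : ∀ {a b : ℕ}, OP G a → OP G b → a ≠ b → ¬ b ∣ a := fun ha hb hab h =>
    hab ((Nat.prime_dvd_prime_iff_eq hb.1 ha.1).mp h).symm
  have cast4 : ∀ {a : ℕ}, OP G a → (cnt G 4 : ZMod a) + cnt G (4 * a) = 0 := fun ha =>
    two_pow_cast h2 (i := 1) ha h4
  by_cases h0 : cnt G (p * q) = 0
  · have h1 : (cnt G p : ZMod q) = 0 :=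
      (ZMod.natCast_eq_zero_iff _ _).mpr (dvd_cnt hq.1 hq.2.2 (hnd hp hq hpq) h0)
    have h1' : (cnt G q : ZMod p) = 0 :=
      (ZMod.natCast_eq_zero_iff _ _).mpr (dvd_cnt hp.1 hp.2.2 (hnd hq hp (Ne.symm hpq)) (by rwa [mul_comm]))
    -- neither value of order four survives
    have key : ∀ {a b : ℕ}, OP G a → OP G b → cnt G a ≠ cnt G b → (cnt G b : ZMod a) = 0 → cnt G 4 = cnt G b := by
      intro a b ha hb hab hba
      haveI := Fact.mk ha.1
      have hs := prime_cast ha.1 ha.2.2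
      have hc := cast4 ha
      have ha0 := cnt_prime ha.1 ha.2.2
      have hb0 := cnt_prime hb.1 hb.2.2
      rcases pick hT ha.lt hb.lt (by norm_num : 2 < 4) ha0 hb0 h40 hab with e | e
      · exfalso
        rw [e, hs] at hc
        by_cases h4a : cnt G (4 * a) = 0
        · rw [h4a] at hc
          exact one_ne_zero (α := ZMod a) (by linear_combination -hc - (Nat.cast_zero (R := ZMod a)))
        · rcases pick hT ha.lt hb.lt (mul_lt (by norm_num : 2 < 4) ha.1.one_le) ha0 hb0 h4a hab with e' | e'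
          · exact h41 (e ▸ e' ▸ four_mul_dvd hT h2 ha)
          · rw [e', hba] at hc
            exact one_ne_zero (α := ZMod a) (by linear_combination -hc)
      · exact e
    exact hne ((key hq hp (Ne.symm hne) h1).symm.trans (key hp hq hne h1'))
  · have key : ∀ {a b : ℕ}, OP G a → OP G b → a ≠ b → cnt G a ≠ cnt G b → cnt G (a * b) ≠ 0 →
        cnt G (a * b) = cnt G a → False := by
      intro a b ha hb hab hne hab0 e
      haveI := Fact.mk ha.1
      haveI := Fact.mk hb.1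
      have ha0 := cnt_prime ha.1 ha.2.2
      have hb0 := cnt_prime hb.1 hb.2.2
      have hb1 := prime_cast hb.1 hb.2.2
      have hau : (cnt G a : ZMod b) = 0 := by
        have h1 := frobZ (G := G) (dvd_mul_left b a) (dvd_card hab0)
        rw [sum_two_primes _ ha.1 hb.1 hab, cnt_one, Nat.cast_one, e, hb1] at h1
        have h2' : (2 : ZMod b) * (cnt G a : ZMod b) = 0 := by linear_combination h1
        exact (mul_eq_zero.mp h2').resolve_left (two_ne b hb.1 hb.2.1)
      have h4a : 4 ∣ cnt G a := e ▸ four_dvd_pq hT ha hb hab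
      have e4 : cnt G 4 = cnt G b := (pick hT ha.lt hb.lt (by norm_num : 2 < 4) ha0 hb0 h40 hne).resolve_left
        fun e' => h41 (e' ▸ h4a)
      have hc := cast4 hb
      rw [e4, hb1] at hc
      by_cases h4b : cnt G (4 * b) = 0
      · rw [h4b] at hc
        exact one_ne_zero (α := ZMod b) (by linear_combination -hc - (Nat.cast_zero (R := ZMod b)))
      · rcases pick hT ha.lt hb.lt (mul_lt (by norm_num : 2 < 4) hb.1.one_le) ha0 hb0 h4b hne with e' | e'
        · rw [e', hau] at hc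
          exact one_ne_zero (α := ZMod b) (by linear_combination -hc)
        · exact h41 (e4 ▸ e' ▸ four_mul_dvd hT h2 hb)
    rcases pick hT hp.lt hq.lt (mul_lt hp.lt hq.1.one_le) hp0 hq0 h0 hne with e | e
    · exact key hp hq hpq hne h0 e
    · exact key hq hp (Ne.symm hpq) (Ne.symm hne) (by rwa [mul_comm]) (by rwa [mul_comm])

omit hT in
/-- A two-group in `G` without elements of order eight, but with one of order four, has order at most eight. -/
theorem two_group_le_eight (S : Subgroup G) (hS : IsPGroup 2 S) {x : G} (hx : x ∈ S) (hx4 : orderOf x = 4)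
    (h8 : cnt G 8 = 0) : Nat.card S ≤ 8 := by
  obtain ⟨z, hz, hzc, huniq⟩ := exists_central h2
  have hzz : z * z = 1 := by rw [← sq, ← hz, pow_orderOf_eq_one]
  have hcm : ∀ g : G, z * g = g * z := fun g => (Subgroup.mem_center_iff.mp hzc g).symm
  have hsq : ∀ g ∈ S, g * g = 1 ∨ g * g = z := by
    intro g hg
    obtain ⟨k, hk⟩ := IsPGroup.iff_orderOf.mp hS ⟨g, hg⟩
    rw [Subgroup.orderOf_mk] at hk
    have h4 : orderOf g ∣ 4 := by
      rcases Nat.lt_or_ge k 3 with h | h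
      · rw [hk, show (4 : ℕ) = 2 ^ 2 by norm_num]; exact pow_dvd_pow 2 (by omega)
      · exact absurd h8 (cnt_of_dvd (d := 8) (m := orderOf g) (by
          rw [hk, show (8 : ℕ) = 2 ^ 3 by norm_num]; exact pow_dvd_pow 2 h) ((cnt_ne_zero_iff _).mpr ⟨g, rfl⟩))
    by_cases h : g * g = 1
    · exact Or.inl h
    refine Or.inr (huniq _ (orderOf_eq_prime ?_ h))
    rw [← sq, ← pow_mul]
    exact orderOf_dvd_iff_pow_eq_one.mp h4
  have hone : ∀ g : G, g * g = 1 → g = 1 ∨ g = z := fun g h =>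
    (em (g = 1)).imp id fun h1 => huniq g (orderOf_eq_prime (by rw [sq, h]) h1)
  have hx2 : x * x = z := (hsq x hx).resolve_left fun h => by
    have := orderOf_dvd_of_pow_eq_one (x := x) (n := 2) (by rw [sq, h])
    rw [hx4] at this
    norm_num at this
  have hxP : x ∈ Subgroup.zpowers x := Subgroup.mem_zpowers x
  have hzP : z ∈ Subgroup.zpowers x := hx2 ▸ mul_mem hxP hxP
  have hcent : ∀ y ∈ S, Commute x y → y ∈ Subgroup.zpowers x := by
    intro y hy hc
    rcases hsq y hy with h | h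
    · rcases hone y h with rfl | rfl
      · exact one_mem _
      · exact hzP
    · have h' : x * y * (x * y) = 1 := by rw [hc.symm.mul_mul_mul_comm, hx2, h, hzz]
      rcases hone _ h' with e | e
      · rw [eq_inv_of_mul_eq_one_right e]; exact inv_mem hxP
      · rw [show y = x⁻¹ * z by rw [← e, inv_mul_cancel_left]]; exact mul_mem (inv_mem hxP) hzP
  -- commutators lie in the central subgroup
  have hcomm : ∀ y ∈ S, Commute x y ∨ y * x * y⁻¹ = x * z := by
    intro y hy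
    obtain ⟨c, hc, e⟩ : ∃ c, (c = 1 ∨ c = z) ∧ y * x = x * y * c := by
      have hinv : ∀ g ∈ S, ∃ c, (c = 1 ∨ c = z) ∧ g⁻¹ = g * c := by
        intro g hg
        rcases hsq g hg with h | h
        · exact ⟨1, Or.inl rfl, by rw [mul_one]; exact inv_eq_of_mul_eq_one_right h⟩
        · exact ⟨z, Or.inr rfl, inv_eq_of_mul_eq_one_right (by rw [← mul_assoc, h, hzz])⟩
      obtain ⟨c1, hc1, e1⟩ := hinv x hx
      obtain ⟨c2, hc2, e2⟩ := hinv y hy
      obtain ⟨c3, hc3, e3⟩ := hinv _ (mul_mem hy hx)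
      have hcen : ∀ {c : G}, (c = 1 ∨ c = z) → ∀ g : G, c * g = g * c := by
        rintro c (rfl | rfl) g
        · rw [one_mul, mul_one]
        · exact hcm g
      have hsc : ∀ {c : G}, (c = 1 ∨ c = z) → c * c = 1 := by
        rintro c (rfl | rfl)
        · exact one_mul 1
        · exact hzz
      have hmul : ∀ {a b : G}, (a = 1 ∨ a = z) → (b = 1 ∨ b = z) → a * b = 1 ∨ a * b = z := by
        rintro a b (rfl | rfl) (rfl | rfl) <;> simp [hzz]
      refine ⟨c1 * c2 * c3, hmul (hmul hc1 hc2) hc3, ?_⟩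
      have e4 : x * y * (c1 * c2) = y * x * c3 := by
        rw [← e3, mul_inv_rev, e1, e2]
        calc x * y * (c1 * c2) = x * (y * c1) * c2 := by group
          _ = x * (c1 * y) * c2 := by rw [hcen hc1]
          _ = x * c1 * (y * c2) := by group
      rw [← mul_assoc (x * y), e4, mul_assoc (y * x), hsc hc3, mul_one]
    rcases hc with rfl | rfl
    · left; rw [mul_one] at e; exact e.symm
    · right
      rw [e, mul_assoc (x * y), hcm, ← mul_assoc (x * y), mul_inv_cancel_right]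
  by_cases hall : ∀ y ∈ S, Commute x y
  · have : S ≤ Subgroup.zpowers x := fun y hy => hcent y hy (hall y hy)
    have h1 := Subgroup.card_le_of_le this
    rw [Nat.card_zpowers, hx4] at h1
    omega
  push Not at hall
  obtain ⟨w, hw, hwc⟩ := hall
  have hwz := (hcomm w hw).resolve_left hwc
  have hsub : (S : Set G) ⊆ (Subgroup.zpowers x : Set G) ∪ (fun y => w * y) '' (Subgroup.zpowers x : Set G) := by
    intro y hy
    rcases hcomm y hy with h | h
    · exact Or.inl (hcent y hy h)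
    · refine Or.inr ⟨w⁻¹ * y, hcent _ (mul_mem (inv_mem hw) hy) ?_, mul_inv_cancel_left w y⟩
      show x * (w⁻¹ * y) = w⁻¹ * y * x
      have h' : y * x = x * z * y := by rw [← h, inv_mul_cancel_right]
      have hw' : w⁻¹ * (x * z) = x * w⁻¹ := by rw [← hwz]; group
      calc x * (w⁻¹ * y) = (x * w⁻¹) * y := by rw [mul_assoc]
        _ = w⁻¹ * (x * z) * y := by rw [hw']
        _ = w⁻¹ * (x * z * y) := by rw [mul_assoc]
        _ = w⁻¹ * y * x := by rw [← h', mul_assoc]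
  have h1 := (Set.ncard_le_ncard hsub (Set.toFinite _)).trans (Set.ncard_union_le _ _)
  rw [Set.ncard_image_of_injective _ (mul_right_injective w)] at h1
  have e : ∀ H : Subgroup G, (H : Set G).ncard = Nat.card H := fun H => (Nat.card_coe_set_eq _).symm
  rw [e, e, Nat.card_zpowers, hx4] at h1
  omega

theorem four_case (h4 : 4 ∣ Nat.card G) {p q : ℕ} (hp : OP G p) (hq : OP G q) (hpq : p ≠ q) : False := by
  haveI := Fact.mk hp.1
  haveI := Fact.mk hq.1
  obtain ⟨h40, h41⟩ := four_facts h2 h4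
  have hall : ∀ s, OP G s → cnt G s = cnt G p := fun s hs => by
    by_cases h : s = p
    · rw [h]
    · exact same_values hT h2 h4 hs hp h
  have he : cnt G p = cnt G q := (hall q hq).symm
  obtain ⟨hv0, hv1, hv2⟩ := claimA hp hq hpq he
  have hp0 := cnt_prime hp.1 hp.2.2
  have hpq2 := mul_lt hp.lt hq.1.one_le
  have hv4 := four_dvd_pq hT hp hq hpq
  have val : ∀ {m : ℕ}, 2 < m → cnt G m ≠ 0 → cnt G m = cnt G p ∨ cnt G m = cnt G (p * q) := fun hm h =>
    pick hT hp.lt hpq2 hm hp0 hv0 h (Ne.symm hv2)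
  have hv1q : (cnt G (p * q) : ZMod q) = 1 := by rw [mul_comm p q]; exact (claimA hq hp (Ne.symm hpq) he.symm).2.1
  have e4 : cnt G 4 = cnt G p := (val (by norm_num) h40).resolve_right fun e => h41 (e ▸ hv4)
  have hu4 : ¬ 4 ∣ cnt G p := e4 ▸ h41
  have hval4 : ∀ {m : ℕ}, 2 < m → cnt G m ≠ 0 → 4 ∣ cnt G m → cnt G m = cnt G (p * q) := fun hm h hd =>
    (val hm h).resolve_left fun e => hu4 (e ▸ hd)
  have h4s : ∀ {s : ℕ}, OP G s → cnt G s = cnt G p → cnt G (4 * s) = cnt G (p * q) := by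
    intro s hs hse
    haveI := Fact.mk hs.1
    have hc : (cnt G 4 : ZMod s) + cnt G (4 * s) = 0 := two_pow_cast h2 (i := 1) hs h4
    rw [e4, ← hse, prime_cast hs.1 hs.2.2] at hc
    refine hval4 (mul_lt (by norm_num) hs.1.one_le) (fun h => ?_) (four_mul_dvd hT h2 hs)
    rw [h, Nat.cast_zero] at hc
    exact one_ne_zero (α := ZMod s) (by linear_combination -hc)
  -- no element of order eight
  have h8 : cnt G 8 = 0 := by
    by_contra h
    have t8 : 4 ∣ cnt G 8 := by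
      have := totient_dvd (G := G) 8
      rwa [show Nat.totient 8 = 4 by decide] at this
    have hc : (cnt G 8 : ZMod p) + cnt G (8 * p) = 0 := two_pow_cast h2 (i := 2) hp (dvd_card h)
    rw [hval4 (by norm_num) h t8, hv1] at hc
    by_cases h8p : cnt G (8 * p) = 0
    · rw [h8p, Nat.cast_zero] at hc
      exact one_ne_zero (α := ZMod p) (by linear_combination hc)
    · have t8p : 4 ∣ cnt G (8 * p) := by
        refine dvd_trans ?_ (totient_dvd (G := G) (8 * p))
        have hcop : Nat.Coprime 8 p := ((hp.1.coprime_iff_not_dvd).mpr fun h : p ∣ 8 =>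
          hp.2.1 ((Nat.prime_dvd_prime_iff_eq hp.1 Nat.prime_two).mp (hp.1.dvd_of_dvd_pow (n := 3) h))).symm
        rw [Nat.totient_mul hcop,
          show Nat.totient 8 = 4 by decide]
        exact dvd_mul_right 4 _
      rw [hval4 (mul_lt (by norm_num) hp.1.one_le) h8p t8p, hv1] at hc
      exact two_ne p hp.1 hp.2.1 (by linear_combination hc)
  -- exactly two odd primes
  have honly : ∀ s, OP G s → s = p ∨ s = q := by
    intro r hr
    by_contra hcon
    push Not at hcon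
    obtain ⟨hrp, hrq⟩ := hcon
    haveI := Fact.mk hr.1
    have hr' : ¬ r ∣ p * q := fun h => by
      rcases hr.1.dvd_mul.mp h with h | h
      · exact hrp ((Nat.prime_dvd_prime_iff_eq hr.1 hp.1).mp h)
      · exact hrq ((Nat.prime_dvd_prime_iff_eq hr.1 hq.1).mp h)
    have hpr := claimA hp hr (Ne.symm hrp) (hall r hr).symm
    have hqr := claimA hq hr (Ne.symm hrq) (by rw [← he, hall r hr])
    have hprv := hval4 (mul_lt hp.lt hr.1.one_le) hpr.1 (four_dvd_pq hT hp hr (Ne.symm hrp))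
    have hqrv := hval4 (mul_lt hq.lt hr.1.one_le) hqr.1 (four_dvd_pq hT hq hr (Ne.symm hrq))
    have hvr : (cnt G (p * q) : ZMod r) = 1 := by
      rw [← hprv, mul_comm p r]; exact (claimA hr hp hrp (hall r hr)).2.1
    have h3 : cnt G (p * q * r) ≠ 0 := fun h => by
      have h1 := (ZMod.natCast_eq_zero_iff _ _).mpr (dvd_cnt hr.1 hr.2.2 hr' h)
      rw [hvr] at h1
      exact one_ne_zero h1
    have t3 : 4 ∣ cnt G (p * q * r) := by
      refine dvd_trans ?_ (totient_dvd (G := G) (p * q * r))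
      rw [Nat.totient_mul ((hr.1.coprime_iff_not_dvd).mpr hr').symm,
        Nat.totient_mul ((Nat.coprime_primes hp.1 hq.1).mpr hpq)]
      exact dvd_mul_of_dvd_left (mul_dvd_mul (even_iff_two_dvd.mp (Nat.totient_even hp.lt))
        (even_iff_two_dvd.mp (Nat.totient_even hq.lt))) _
    have h1 := frobZ (G := G) ((dvd_mul_right p q).trans (dvd_mul_right (p * q) r)) (dvd_card h3)
    rw [sum_divisors_mul_prime _ (mul_ne_zero hp.1.ne_zero hq.1.ne_zero) hr.1 hr',
      sum_two_primes _ hp.1 hq.1 hpq, sum_two_primes _ hp.1 hq.1 hpq, cnt_one, Nat.cast_one, one_mul,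
      hqrv, hprv, hall r hr, ← he, hval4 (mul_lt hpq2 hr.1.one_le) h3 t3, hv1, prime_cast hp.1 hp.2.2] at h1
    exact two_ne p hp.1 hp.2.1 (by linear_combination h1)
  -- the odd part
  set O := ordCompl[2] (Nat.card G) with hO
  have hOd : O ∣ Nat.card G := Nat.ordCompl_dvd _ _
  have hO2 : ¬ 2 ∣ O := Nat.not_dvd_ordCompl Nat.prime_two card_ne_zero
  have hOu : O ∣ cnt G p + 1 := odd_part_dvd hT hall hp hq hpq hOd hO2
  have hpO : ∀ {s : ℕ}, OP G s → s ∣ O := fun hs =>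
    Nat.dvd_ordCompl_of_dvd_not_dvd hs.2.2 fun h => hs.2.1 ((Nat.prime_dvd_prime_iff_eq Nat.prime_two hs.1).mp h).symm
  have hO0 : O ≠ 0 := fun e => hO2 (e ▸ dvd_zero 2)
  have hOsum : ∑ d ∈ O.divisors, cnt G d = ∑ d ∈ (p * q).divisors, cnt G d := by
    symm
    refine Finset.sum_subset (Nat.divisors_subset_of_dvd hO0
      (Nat.Coprime.mul_dvd_of_dvd_of_dvd ((Nat.coprime_primes hp.1 hq.1).mpr hpq) (hpO hp) (hpO hq))) fun d hd hd' => ?_
    by_contra h
    apply hd'
    rw [Nat.mem_divisors]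
    refine ⟨?_, mul_ne_zero hp.1.ne_zero hq.1.ne_zero⟩
    rw [Nat.dvd_iff_prime_pow_dvd_dvd]
    intro s k hs hk
    rcases Nat.eq_zero_or_pos k with rfl | hk0
    · simp
    have hsd : s ∣ O := ((dvd_pow_self s hk0.ne').trans hk).trans (Nat.dvd_of_mem_divisors hd)
    have hS : OP G s := ⟨hs, fun e => hO2 (e ▸ hsd), hsd.trans hOd⟩
    obtain ⟨s', hs', hss⟩ : ∃ s', OP G s' ∧ s ≠ s' := by
      by_cases h' : s = p
      · exact ⟨q, hq, h' ▸ hpq⟩
      · exact ⟨p, hp, h'⟩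
    have hk1 : k = 1 := by
      by_contra hk1
      exact cnt_of_dvd (d := s * s) (m := d) (dvd_trans (by
        rw [show s * s = s ^ 2 by ring]; exact pow_dvd_pow s (by omega)) hk) h
        (no_sq hT hS hs' hss (by rw [hall s hS, hall s' hs']))
    rw [hk1, pow_one]
    rcases honly s hS with rfl | rfl
    · exact dvd_mul_right _ _
    · exact dvd_mul_left _ _
  have hOv : O ∣ 1 + 2 * cnt G p + cnt G (p * q) := by
    have := frob (G := G) hOd
    rw [hOsum, sum_two_primes _ hp.1 hq.1 hpq, cnt_one, ← he] at this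
    convert this using 1
    omega
  have hvge : O + 1 ≤ cnt G (p * q) := by
    obtain ⟨a, ha⟩ := hOu
    obtain ⟨b, hb⟩ := hOv
    have hab : 2 * a < b := by
      by_contra hle
      push Not at hle
      have := Nat.mul_le_mul_left O hle
      rw [← hb, mul_left_comm, ← ha] at this
      omega
    have := Nat.mul_le_mul_left O hab
    rw [← hb, Nat.mul_succ, mul_left_comm, ← ha] at this
    omega
  -- the two-part is at most eight
  obtain ⟨x, hx⟩ := (cnt_ne_zero_iff 4).mp h40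
  have hxp : IsPGroup 2 (Subgroup.zpowers x) := IsPGroup.of_card (n := 2) (by rw [Nat.card_zpowers, hx]; norm_num)
  obtain ⟨S, hS⟩ := hxp.exists_le_sylow
  have hS8 := two_group_le_eight h2 (S : Subgroup G) S.2 (hS (Subgroup.mem_zpowers x)) hx h8
  rw [Sylow.card_eq_multiplicity] at hS8
  have hG8 : Nat.card G ≤ 8 * O := by
    conv_lhs => rw [← Nat.ordProj_mul_ordCompl_eq_self (Nat.card G) 2]
    exact Nat.mul_le_mul_right _ hS8
  -- too many elements
  have hnd : ∀ {s : ℕ}, OP G s → ¬ s ∣ 4 := fun hs h =>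
    hs.2.1 ((Nat.prime_dvd_prime_iff_eq hs.1 Nat.prime_two).mp (hs.1.dvd_of_dvd_pow (n := 2) h))
  have hq4 : ¬ q ∣ 4 * p := fun h => by
    rcases hq.1.dvd_mul.mp h with h | h
    · exact hnd hq h
    · exact hpq ((Nat.prime_dvd_prime_iff_eq hq.1 hp.1).mp h).symm
  have hb := sum_le (G := G) (m := 4 * p * q) (mul_ne_zero (mul_ne_zero (by norm_num) hp.1.ne_zero) hq.1.ne_zero)
  rw [sum_divisors_mul_prime _ (mul_ne_zero (by norm_num) hp.1.ne_zero) hq.1 hq4,
    sum_divisors_mul_prime _ (by norm_num) hp.1 (hnd hp),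
    sum_divisors_mul_prime _ (by norm_num) hp.1 (hnd hp),
    show Nat.divisors 4 = {1, 2, 4} by decide] at hb
  simp only [Finset.mem_insert, Finset.mem_singleton, OfNat.one_ne_ofNat, OfNat.ofNat_ne_one, or_self,
    not_false_eq_true, Finset.sum_insert, Finset.sum_singleton, one_mul, OfNat.ofNat_eq_ofNat,
    Nat.reduceEqDiff] at hb
  have hodd : ∀ {s : ℕ}, OP G s → ¬ 2 ∣ s := fun hs h => hs.2.1 ((Nat.prime_dvd_prime_iff_eq Nat.prime_two hs.1).mp h).symm
  have hpqo : ¬ 2 ∣ p * q := fun h => by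
    rcases Nat.prime_two.dvd_mul.mp h with h | h
    · exact hodd hp h
    · exact hodd hq h
  rw [cnt_one, h2, e4, cnt_double h2 (hodd hp), cnt_double h2 (hodd hq), h4s hp rfl, h4s hq he.symm,
    show 2 * p * q = 2 * (p * q) by ring, cnt_double h2 hpqo, ← he] at hb
  have hOu' := Nat.le_of_dvd (Nat.succ_pos _) hOu
  omega

end Unique

theorem odd_case (hT : TwoVal G) (h2 : ¬ 2 ∣ Nat.card G) : Group.IsSolvable G := by
  by_contra hns
  obtain ⟨p, q, r, hp, hq, hr, hpd, hqd, hrd, hpq, hpr, hqr⟩ : ∃ p q r : ℕ, p.Prime ∧ q.Prime ∧ r.Prime ∧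
      p ∣ Nat.card G ∧ q ∣ Nat.card G ∧ r ∣ Nat.card G ∧ p ≠ q ∧ p ≠ r ∧ q ≠ r := by
    by_contra hcon
    apply hns
    refine solvable_of_few fun p q r hp hq hr h1 h2 h3 => ?_
    by_contra h
    push Not at h
    exact hcon ⟨p, q, r, hp, hq, hr, h1, h2, h3, h.1, h.2.1, h.2.2⟩
  have hP : OP G p := ⟨hp, fun e => h2 (e ▸ hpd), hpd⟩
  have hQ : OP G q := ⟨hq, fun e => h2 (e ▸ hqd), hqd⟩
  have hR : OP G r := ⟨hr, fun e => h2 (e ▸ hrd), hrd⟩
  have hall := share hT hP hQ hR hpq hpr hqr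
  have h := Nat.le_of_dvd (Nat.succ_pos _) (odd_part_dvd hT hall hP hQ hpq dvd_rfl h2)
  have hb := sum_le (G := G) (m := p * q) (mul_ne_zero hp.ne_zero hq.ne_zero)
  rw [sum_two_primes _ hp hq hpq, cnt_one, hall q hQ] at hb
  have := Nat.pos_of_ne_zero (cnt_prime hp hpd)
  omega

theorem unique_case (hT : TwoVal G) (h2 : cnt G 2 = 1) : Group.IsSolvable G := by
  by_contra hns
  obtain ⟨p, q, hP, hQ, hpq⟩ : ∃ p q : ℕ, OP G p ∧ OP G q ∧ p ≠ q := by
    by_contra hcon
    apply hns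
    refine solvable_of_few fun p q r hp hq hr h1 h2 h3 => ?_
    by_contra h
    push Not at h
    by_cases hp2 : p = 2
    · exact hcon ⟨q, r, ⟨hq, fun e => h.1 (hp2.trans e.symm), h2⟩, ⟨hr, fun e => h.2.1 (hp2.trans e.symm), h3⟩, h.2.2⟩
    · by_cases hq2 : q = 2
      · exact hcon ⟨p, r, ⟨hp, hp2, h1⟩, ⟨hr, fun e => h.2.2 (hq2.trans e.symm), h3⟩, h.2.1⟩
      · exact hcon ⟨p, q, ⟨hp, hp2, h1⟩, ⟨hq, hq2, h2⟩, h.1⟩
  by_cases h4 : 4 ∣ Nat.card G
  · exact four_case hT h2 h4 hP hQ hpq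
  obtain ⟨z, hz, hzc, -⟩ := exists_central h2
  obtain ⟨O, hO⟩ : 2 ∣ Nat.card G := hz ▸ orderOf_dvd_natCard z
  have hO2 : ¬ 2 ∣ O := fun ⟨k, hk⟩ => h4 ⟨k, by rw [hO, hk]; ring⟩
  by_cases h3 : ∃ r, OP G r ∧ r ≠ p ∧ r ≠ q
  · obtain ⟨r, hR, hrp, hrq⟩ := h3
    have hall := share hT hP hQ hR hpq (Ne.symm hrp) (Ne.symm hrq)
    have h := Nat.le_of_dvd (Nat.succ_pos _) (odd_part_dvd hT hall hP hQ hpq ⟨2, hO.trans (mul_comm _ _)⟩ hO2)
    have hodd : ∀ {s : ℕ}, OP G s → ¬ 2 ∣ s := fun hs h => hs.2.1 ((Nat.prime_dvd_prime_iff_eq Nat.prime_two hs.1).mp h).symm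
    have hq2 : ¬ q ∣ 2 * p := fun h => by
      rcases hQ.1.dvd_mul.mp h with h | h
      · exact hQ.2.1 ((Nat.prime_dvd_prime_iff_eq hQ.1 Nat.prime_two).mp h)
      · exact hpq ((Nat.prime_dvd_prime_iff_eq hQ.1 hP.1).mp h).symm
    have hp2 : ¬ p ∣ 2 := fun h => hP.2.1 ((Nat.prime_dvd_prime_iff_eq hP.1 Nat.prime_two).mp h)
    have hb := sum_le (G := G) (m := 2 * p * q) (mul_ne_zero (mul_ne_zero two_ne_zero hP.1.ne_zero) hQ.1.ne_zero)
    rw [sum_divisors_mul_prime _ (mul_ne_zero two_ne_zero hP.1.ne_zero) hQ.1 hq2,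
      sum_divisors_mul_prime _ two_ne_zero hP.1 hp2, sum_divisors_mul_prime _ two_ne_zero hP.1 hp2,
      sum_prime_divisors _ Nat.prime_two, sum_prime_divisors _ Nat.prime_two,
      sum_prime_divisors _ Nat.prime_two, sum_prime_divisors _ Nat.prime_two, one_mul, one_mul,
      cnt_one, h2, cnt_double h2 (hodd hP), cnt_double h2 (hodd hQ), hall q hQ] at hb
    have := two_le_of_even (cnt_prime hP.1 hP.2.2) (even_cnt hP.lt)
    omega
  · push Not at h3
    apply hns
    haveI : (Subgroup.zpowers z).Normal := ⟨fun n hn g => by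
      have hn' : n ∈ Subgroup.center G := Subgroup.zpowers_le.mpr hzc hn
      rwa [Subgroup.mem_center_iff.mp hn' g, mul_inv_cancel_right]⟩
    have hcq : Nat.card (G ⧸ Subgroup.zpowers z) = O := by
      have h1 := Subgroup.card_eq_card_quotient_mul_card_subgroup (Subgroup.zpowers z)
      rw [Nat.card_zpowers, hz, hO, mul_comm] at h1
      exact (Nat.eq_of_mul_eq_mul_right two_pos h1).symm
    haveI : Group.IsSolvable (G ⧸ Subgroup.zpowers z) := by
      refine solvable_of_few fun a b c ha hb hc h1 h2' h3' => ?_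
      have key : ∀ s : ℕ, s.Prime → s ∣ Nat.card (G ⧸ Subgroup.zpowers z) → s = p ∨ s = q := fun s hs hd => by
        rw [hcq] at hd
        by_cases hsp : s = p
        · exact Or.inl hsp
        · exact Or.inr (h3 s ⟨hs, fun e => hO2 (e ▸ hd), hd.trans ⟨2, hO.trans (mul_comm _ _)⟩⟩ hsp)
      rcases key a ha h1 with rfl | rfl <;> rcases key b hb h2' with e | e <;> rcases key c hc h3' with e' | e' <;>
        subst_vars <;> simp_all
    haveI : Group.IsSolvable (Subgroup.zpowers z) :=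
      Group.isSolvable_of_comm fun a b => Std.Commutative.comm a b
    exact Group.isSolvable_of_ker_le_range (Subgroup.zpowers z).subtype (QuotientGroup.mk' (Subgroup.zpowers z))
      (by rw [QuotientGroup.ker_mk', Subgroup.range_subtype])

/-- A finite group in which the numbers of elements of each order that occurs (the numbers #{g : o(g) = m}, m ranging over the element orders) take exactly three different values is solvable. -/
theorem result {G : Type*} [Group G] [Finite G] (h : (((fun m : ℕ => Nat.card {g : G // orderOf g = m}) '' Set.range (orderOf : G → ℕ))).ncard = 3) : Group.IsSolvable G := by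
  classical
  set V := ((fun m : ℕ => Nat.card {g : G // orderOf g = m}) '' Set.range (orderOf : G → ℕ)) with hV
  have memV : ∀ m, cnt G m ≠ 0 → cnt G m ∈ V := fun m hm => by
    obtain ⟨g, hg⟩ := (cnt_ne_zero_iff m).mp hm
    exact ⟨m, ⟨g, hg⟩, rfl⟩
  have h1V : 1 ∈ V := by
    have := memV 1 (by rw [cnt_one]; exact one_ne_zero)
    rwa [cnt_one] at this
  obtain ⟨a, b, hab, e⟩ := Set.ncard_eq_two.mp (show (V \ {1}).ncard = 2 by
    rw [Set.ncard_sdiff_singleton_of_mem h1V, h])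
  have hval : ∀ m, cnt G m ≠ 0 → cnt G m ≠ 1 → cnt G m = a ∨ cnt G m = b := fun m h0 h1 => by
    have : cnt G m ∈ V \ {1} := ⟨memV m h0, h1⟩
    rw [e] at this
    simpa using this
  have hne1 : ∀ m, 2 < m → cnt G m ≠ 1 := fun m hm e1 => by
    have := even_cnt (G := G) hm
    omega
  have hT : TwoVal G := ⟨a, b, fun m hm h0 => hval m h0 (hne1 m hm)⟩
  by_cases h2 : 2 ∣ Nat.card G
  swap
  · exact odd_case hT h2
  by_cases hc2 : cnt G 2 = 1
  · exact unique_case hT hc2
  have h20 : cnt G 2 ≠ 0 := cnt_prime Nat.prime_two h2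
  have hodd2 : ¬ 2 ∣ cnt G 2 := fun hd => by
    have h3 := frob (G := G) h2
    rw [sum_prime_divisors _ Nat.prime_two, cnt_one] at h3
    omega
  have hsame : ∀ m n, 2 < m → 2 < n → cnt G m ≠ 0 → cnt G n ≠ 0 → cnt G m = cnt G n := fun m n hm hn hm0 hn0 => by
    have e1 := even_cnt (G := G) hm
    have e2 := even_cnt (G := G) hn
    rcases hval m hm0 (hne1 m hm) with ha | ha <;> rcases hval n hn0 (hne1 n hn) with hb | hb <;>
      rcases hval 2 h20 hc2 with hc | hc <;> omega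
  refine solvable_of_few fun p q r hp hq hr hpd hqd hrd => ?_
  by_contra hcon
  push Not at hcon
  obtain ⟨s, t, hs, ht, hst⟩ : ∃ s t, OP G s ∧ OP G t ∧ s ≠ t := by
    by_cases hp2 : p = 2
    · exact ⟨q, r, ⟨hq, fun e => hcon.1 (hp2.trans e.symm), hqd⟩, ⟨hr, fun e => hcon.2.1 (hp2.trans e.symm), hrd⟩, hcon.2.2⟩
    · by_cases hq2 : q = 2
      · exact ⟨p, r, ⟨hp, hp2, hpd⟩, ⟨hr, fun e => hcon.2.2 (hq2.trans e.symm), hrd⟩, hcon.2.1⟩
      · exact ⟨p, q, ⟨hp, hp2, hpd⟩, ⟨hq, hq2, hqd⟩, hcon.1⟩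
  obtain ⟨h0, -, h3⟩ := claimA hs ht hst (hsame s t hs.lt ht.lt (cnt_prime hs.1 hs.2.2) (cnt_prime ht.1 ht.2.2))
  exact h3 (hsame _ _ (mul_lt hs.lt ht.1.one_le) hs.lt h0 (cnt_prime hs.1 hs.2.2))

end Cfsg.Agent.S3996
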