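import Cfsg.Statements.S4377
import Mathlib
-- import your own Cfsg.Agent.* helpers here

set_option autoImplicit false
open Cfsg

namespace Cfsg.Agent.S4377


open Finset in
theorem sum_order {G : Type*} [Group G] [Finite G] {n : ℕ} (hn : n ≠ 0) :
    Nat.card {g : G // g ^ n = 1} = ∑ d ∈ n.divisors, Nat.card {g : G // orderOf g = d} := by
  classical
  have := Fintype.ofFinite G
  simp only [Nat.card_eq_fintype_card, Fintype.card_subtype]
  exact (sum_card_orderOf_eq_card_pow_eq_one hn).symm

theorem pow_counts_of_order_counts {G H : Type*} [Group G] [Finite G] [Group H] [Finite H]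
    (h : ∀ n : ℕ, Nat.card {g : G // orderOf g = n} = Nat.card {h : H // orderOf h = n}) (n : ℕ) :
    Nat.card {g : G // g ^ n = 1} = Nat.card {h : H // h ^ n = 1} := by
  have main : ∀ n : ℕ, n ≠ 0 → Nat.card {g : G // g ^ n = 1} = Nat.card {h : H // h ^ n = 1} := by
    intro n hn
    rw [sum_order hn, sum_order hn]
    exact Finset.sum_congr rfl fun d _ => h d
  rcases eq_or_ne n 0 with rfl | hn
  · have hN : Nat.card G * Nat.card H ≠ 0 := mul_ne_zero Nat.card_pos.ne' Nat.card_pos.ne'
    have := main _ hN
    rw [Nat.card_congr (Equiv.subtypeUnivEquiv fun g : G => by rw [pow_mul, pow_card_eq_one', one_pow]),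
      Nat.card_congr (Equiv.subtypeUnivEquiv fun g : H => by
        rw [mul_comm, pow_mul, pow_card_eq_one', one_pow])] at this
    rw [Nat.card_congr (Equiv.subtypeUnivEquiv fun g : G => pow_zero g),
      Nat.card_congr (Equiv.subtypeUnivEquiv fun g : H => pow_zero g), this]
  · exact main n hn

/-- Two finite groups have the same number of elements of each order if and only if, for every n, they have the same number of elements g with gⁿ = 1. -/
theorem result {G H : Type*} [Group G] [Finite G] [Group H] [Finite H] :
    (∀ n : ℕ, Nat.card {g : G // orderOf g = n} = Nat.card {h : H // orderOf h = n}) ↔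
      ∀ n : ℕ, Nat.card {g : G // g ^ n = 1} = Nat.card {h : H // h ^ n = 1} := by
  refine ⟨pow_counts_of_order_counts, fun h n => ?_⟩
  induction n using Nat.strong_induction_on with
  | _ n ih =>
    rcases eq_or_ne n 0 with rfl | hn
    · have h1 : ∀ (A : Type _) [Group A] [Finite A], Nat.card {g : A // orderOf g = 0} = 0 := by
        intro A _ _
        have : IsEmpty {g : A // orderOf g = 0} := ⟨fun g => (orderOf_pos g.1).ne' g.2⟩
        exact Nat.card_of_isEmpty
      rw [h1 G]
      have : IsEmpty {g : H // orderOf g = 0} := ⟨fun g => (orderOf_pos g.1).ne' g.2⟩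
      exact Nat.card_of_isEmpty.symm
    · have := h n
      rw [sum_order hn, sum_order hn, ← Nat.cons_self_properDivisors hn, Finset.sum_cons,
        Finset.sum_cons,
        Finset.sum_congr rfl fun d hd => ih d (Nat.mem_properDivisors.mp hd).2] at this
      omega

end Cfsg.Agent.S4377
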