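import Cfsg.Statements.S3997
import Mathlib
import Cfsg.Agent.S4377
-- import your own Cfsg.Agent.* helpers here

set_option autoImplicit false
open Cfsg

namespace Cfsg.Agent.S3997

/-- Let G and H be finite groups with the same order type: for every m they have the same number of elements of order m. If G is nilpotent then so is H. -/
theorem result {G H : Type*} [Group G] [Finite G] [Group H] [Finite H] (hT : (∀ m : ℕ, Nat.card {g : G // orderOf g = m} = Nat.card {h : H // orderOf h = m})) (hG : Group.IsNilpotent G) :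
    Group.IsNilpotent H := by
  have hcnt := fun n => Cfsg.Agent.S4377.pow_counts_of_order_counts hT n
  have hGH : Nat.card G = Nat.card H := by
    have := hcnt 0
    rwa [Nat.card_congr (Equiv.subtypeUnivEquiv fun g : G => pow_zero g),
      Nat.card_congr (Equiv.subtypeUnivEquiv fun g : H => pow_zero g)] at this
  refine (Group.isNilpotent_of_finite_tfae (G := H)).out 3 0 rfl rfl |>.mp ?_
  intro p hp P
  have := hp
  have hnG : ∀ Q : Sylow p G, (Q : Subgroup G).Normal :=
    fun Q => (Group.isNilpotent_of_finite_tfae (G := G)).out 0 3 rfl rfl |>.mp hG p hp Q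
  obtain ⟨Q⟩ : Nonempty (Sylow p G) := inferInstance
  set k := (Nat.card G).factorization p with hk
  have hQc : Nat.card (Q : Subgroup G) = p ^ k := Q.card_eq_multiplicity
  have hPc : Nat.card (P : Subgroup H) = p ^ k := by rw [P.card_eq_multiplicity, ← hGH]
  have hQcount : Nat.card {g : G // g ^ p ^ k = 1} = p ^ k := by
    conv_rhs => rw [← hQc]
    refine Nat.card_congr (Equiv.subtypeEquivRight fun g => ⟨fun hg => ?_, fun hg => ?_⟩)
    · have hpg : IsPGroup p (Subgroup.zpowers g) := by
        obtain ⟨j, -, hj⟩ := (Nat.dvd_prime_pow hp.out).mp (orderOf_dvd_of_pow_eq_one hg)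
        exact IsPGroup.of_card (n := j) (by rw [Nat.card_zpowers, hj])
      obtain ⟨R, hR⟩ := hpg.exists_le_sylow
      have := Q.unique_of_normal (hnG Q)
      rw [Subsingleton.elim R Q] at hR
      exact hR (Subgroup.mem_zpowers g)
    · rw [← orderOf_dvd_iff_pow_eq_one, ← hQc]
      exact Subgroup.orderOf_dvd_natCard _ hg
  have hset : ((P : Subgroup H) : Set H) = {h : H | h ^ p ^ k = 1} := by
    refine Set.eq_of_subset_of_ncard_le (fun h hh => ?_) ?_ (Set.toFinite _)
    · show h ^ p ^ k = 1
      rw [← orderOf_dvd_iff_pow_eq_one, ← hPc]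
      exact Subgroup.orderOf_dvd_natCard _ hh
    · rw [← Nat.card_coe_set_eq, ← Nat.card_coe_set_eq]
      show Nat.card {h : H // h ^ p ^ k = 1} ≤ Nat.card (P : Subgroup H)
      rw [← hcnt, hQcount, hPc]
  refine ⟨fun h hh g => ?_⟩
  rw [← SetLike.mem_coe, hset, Set.mem_setOf_eq] at hh ⊢
  rw [conj_pow, hh]
  group

end Cfsg.Agent.S3997
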