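import Cfsg.Statements.S3998
import Mathlib
import Cfsg.Agent.Lib.OrderType
import Cfsg.Agent.Lib.Solvable.Huppert
import Cfsg.Agent.Lib.Solvable.Supersolvable
-- import your own Cfsg.Agent.* helpers here

set_option autoImplicit false
open Cfsg

namespace Cfsg.Agent.S3998

universe u v

theorem main {G : Type u} {H : Type v} [Group G] [Finite G] [Group H] [Finite H]
    (hT : ∀ m : ℕ, Nat.card {g : G // orderOf g = m} = Nat.card {h : H // orderOf h = m})
    (hG : Cfsg.IsSupersolvable G) : Group.IsSolvable H := by
  induction hn : Nat.card G using Nat.strong_induction_on generalizing G H with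
  | h n ih =>
    subst hn
    obtain ⟨e, he⟩ := CfsgLib.OrderType.exists_equiv hT
    rcases subsingleton_or_nontrivial G with hs | hs
    · have : Subsingleton H := e.symm.subsingleton
      exact Group.isSolvable_of_comm fun a b => Subsingleton.elim _ _
    obtain ⟨p, hp, hpd, hmax⟩ := CfsgLib.Supersolvable.exists_largest_prime (G := G)
    haveI : Fact p.Prime := ⟨hp⟩
    obtain ⟨P⟩ : Nonempty (Sylow p G) := inferInstance
    obtain ⟨Q⟩ : Nonempty (Sylow p H) := inferInstance
    haveI := CfsgLib.Supersolvable.sylow_normal_of_index_prime
      (fun M hM => CfsgLib.Supersolvable.index_prime hG hM) hmax P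
    haveI := (CfsgLib.OrderType.sylow_normal he P Q).1
    have h1 := ih _ (CfsgLib.Supersolvable.card_quotient_lt (P : Subgroup G) (P.ne_bot_of_dvd_card hpd))
      (CfsgLib.OrderType.quotient he P Q) (CfsgLib.Supersolvable.quotient hG _) rfl
    haveI : Group.IsNilpotent (Q : Subgroup H) := Q.isPGroup'.isNilpotent
    exact (Group.isSolvable_iff_subgroup_quotient (Q : Subgroup H)).mpr ⟨IsNilpotent.to_isSolvable (h := ‹_›), h1⟩

/-- Let G and H be finite groups with the same order type (for every m the same number of elements of order m). If G is supersolvable then H is solvable. -/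
theorem result {G H : Type*} [Group G] [Finite G] [Group H] [Finite H] (hT : (∀ m : ℕ, Nat.card {g : G // orderOf g = m} = Nat.card {h : H // orderOf h = m})) (hG : Cfsg.IsSupersolvable G) :
    Group.IsSolvable H := by
  exact main hT hG

end Cfsg.Agent.S3998
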