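import Cfsg.Statements.S3999
import Cfsg.Agent.S3359
import Cfsg.Agent.Lib.Frobenius.More
import Cfsg.Agent.Lib.Frobenius.Complement
import Cfsg.Agent.Lib.HallSolvable
import Cfsg.Agent.Lib.SL2Orders
import Cfsg.Agent.Lib.PrimeGraphExt
import Cfsg.Agent.Lib.OddLocal.FittingHall
import Mathlib

set_option autoImplicit false
open Cfsg

namespace Cfsg.Agent.S3999

open Subgroup
open scoped Pointwise

universe u v

/-- Every element of a Frobenius group has order dividing the order of the kernel or of the complement. -/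
theorem order_cases {F : Type u} [Group F] [Finite F] {C K : Subgroup F} (hC : Cfsg.IsFrobeniusComplement C)
    (hK : (K : Set F) = Cfsg.frobeniusKernel C) (g : F) :
    (g ∈ K ∧ orderOf g ∣ Nat.card K) ∨ orderOf g ∣ Nat.card C := by
  by_cases hg : g ∈ K
  · exact Or.inl ⟨hg, Subgroup.orderOf_dvd_natCard K hg⟩
  have hg' : g ∉ Cfsg.frobeniusKernel C := hK ▸ hg
  simp only [Cfsg.frobeniusKernel, Set.mem_setOf_eq, not_or, not_forall, not_not] at hg'
  obtain ⟨-, x, hx⟩ := hg'
  right
  have := Subgroup.orderOf_dvd_natCard _ hx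
  rwa [Nat.card_congr (Subgroup.equivSMul (MulAut.conj x) C).toEquiv.symm] at this

/-- No element of order fifteen in `SL(2,5)`. -/
theorem sl25_no_fifteen (g : Matrix.SpecialLinearGroup (Fin 2) (ZMod 5)) (hg : g ^ 15 = 1) :
    g ^ 3 = 1 ∨ g ^ 5 = 1 ∨ g ^ 10 = 1 := by
  haveI : Fact (Nat.Prime 5) := ⟨by norm_num⟩
  rcases CfsgLib.SL2Orders.pow_cases 5 g with h | h | h | h
  · rw [ZMod.card] at h
    have h' : g ^ 4 = 1 := h
    left
    have : g ^ 15 = (g ^ 4) ^ 3 * g ^ 3 := by rw [← pow_mul, ← pow_add]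
    rw [hg, h', one_pow, one_mul] at this
    exact this.symm
  · rw [ZMod.card] at h
    have h' : g ^ 6 = 1 := h
    left
    have : g ^ 15 = (g ^ 6) ^ 2 * g ^ 3 := by rw [← pow_mul, ← pow_add]
    rw [hg, h', one_pow, one_mul] at this
    exact this.symm
  · exact Or.inr (Or.inl h)
  · refine Or.inr (Or.inr ?_)
    rw [show 10 = 5 * 2 from rfl, pow_mul, h]
    simp

/-- A non-solvable Frobenius complement has order divisible by fifteen and no element of order fifteen. -/
theorem nonsolvable_fifteen {F : Type u} [Group F] [Finite F] {C : Subgroup F} (hC : Cfsg.IsFrobeniusComplement C)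
    (hns : ¬ Group.IsSolvable C) : 15 ∣ Nat.card C ∧ ∀ c : C, orderOf c ≠ 15 := by
  classical
  obtain ⟨L, iL, iLf, ⟨e⟩⟩ := CfsgLib.PrimeGraphExt.exists_small (H := F)
  set D := C.map e.symm.toMonoidHom with hD
  have hDF : Cfsg.IsFrobeniusComplement D := by
    refine ⟨fun h => hC.1 ((Subgroup.map_eq_bot_iff_of_injective _ e.symm.injective).mp h), fun h => hC.2.1 ?_, fun g hg => ?_⟩
    · have h' := congrArg (Subgroup.comap e.symm.toMonoidHom) h
      rwa [hD, Subgroup.comap_map_eq_self_of_injective e.symm.injective, Subgroup.comap_top] at h'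
    rw [Subgroup.eq_bot_iff_forall]
    intro x hx
    obtain ⟨hx1, hx2⟩ := Subgroup.mem_inf.mp hx
    obtain ⟨y, hy, ey⟩ := hx1
    obtain ⟨z, ⟨w, hw, ew⟩, ez⟩ := hx2
    have hy' : y = e g * w * (e g)⁻¹ := by
      apply e.symm.injective
      rw [map_mul, map_mul, map_inv, e.symm_apply_apply]
      rw [← ez, ← ew] at ey
      exact ey
    have hgC : e g ∉ C := fun h => hg ⟨e g, h, e.symm_apply_apply g⟩
    have hy1 : y = 1 := by
      rw [← Subgroup.mem_bot, ← hC.2.2 (e g) hgC]
      exact Subgroup.mem_inf.mpr ⟨hy, w, hw, hy'.symm⟩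
    rw [← ey, hy1, map_one]
  obtain ⟨G₀, -, hidx, S, M, hsup, hinf, hcomm, ⟨eS⟩, -, hM⟩ :=
    Cfsg.Agent.S3359.result hns ⟨L, iL, iLf, D, hDF, ⟨C.equivMapOfInjective _ e.symm.injective⟩⟩
  refine ⟨?_, fun c hc => ?_⟩
  · refine dvd_trans ?_ S.card_subgroup_dvd_card
    haveI : Fact (Nat.Prime 5) := ⟨by norm_num⟩
    rw [Nat.card_congr eS.toEquiv, CfsgLib.SLCard.card_SL_two, ZMod.card]
    norm_num
  -- the square lies in `S M`
  have hsq : c ^ 2 ∈ G₀ := by
    rcases hidx with h | h
    · rw [Subgroup.index_eq_one.mp h]; exact Subgroup.mem_top _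
    · exact (Subgroup.index_eq_two_iff_exists_notMem_and.mp h).elim fun a _ => Subgroup.sq_mem_of_index_two h c
  have hc2 : orderOf (c ^ 2) = 15 := by
    rw [orderOf_pow' c (by norm_num), hc]
    norm_num
  have hn : M ≤ Subgroup.normalizer (S : Set C) := fun x hx => Subgroup.mem_normalizer_iff.mpr fun s => by
    constructor
    · intro hs
      rwa [← hcomm s hs x hx, mul_inv_cancel_right]
    · intro hs
      have := hcomm _ hs x hx
      rw [show x * s * x⁻¹ * x = x * s by group] at this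
      rwa [← mul_left_cancel this] at hs
  rw [← hsup, ← SetLike.mem_coe, Subgroup.coe_mul_of_right_le_normalizer_left _ _ hn] at hsq
  obtain ⟨s, hs, m, hm, e2⟩ := hsq
  have e2' : s * m = c ^ 2 := e2
  have h15 : s ^ 15 * m ^ 15 = 1 := by
    rw [← (show Commute s m from hcomm s hs m hm).mul_pow, e2', ← hc2, pow_orderOf_eq_one]
  have hm15 : m ^ 15 = 1 := by
    rw [← Subgroup.mem_bot, ← hinf]
    exact Subgroup.mem_inf.mpr ⟨by rw [eq_inv_of_mul_eq_one_right h15]; exact inv_mem (pow_mem hs 15), pow_mem hm 15⟩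
  have hm1 : m = 1 := by
    refine orderOf_eq_one_iff.mp (Nat.eq_one_of_dvd_coprimes ?_ (Subgroup.orderOf_dvd_natCard M hm) (orderOf_dvd_of_pow_eq_one hm15))
    exact hM.coprime_dvd_right (by norm_num)
  rw [hm1, mul_one] at e2'
  have hs15 : (⟨s, hs⟩ : S) ^ 15 = 1 := Subtype.ext (by
    show s ^ 15 = 1
    rw [e2', ← hc2, pow_orderOf_eq_one])
  have key : ∀ j : ℕ, eS ⟨s, hs⟩ ^ j = 1 → 15 ∣ j := fun j hj => by
    rw [← map_pow, map_eq_one_iff _ eS.injective] at hj
    rw [← hc2, ← e2']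
    exact orderOf_dvd_of_pow_eq_one (congrArg Subtype.val hj)
  rcases sl25_no_fifteen (eS ⟨s, hs⟩) (by rw [← map_pow, hs15, map_one]) with h | h | h
  · exact absurd (key 3 h) (by norm_num)
  · exact absurd (key 5 h) (by norm_num)
  · exact absurd (key 10 h) (by norm_num)

/-- A solvable Frobenius complement of order divisible by fifteen has an element of order fifteen. -/
theorem solvable_fifteen {F : Type u} [Group F] [Finite F] {C : Subgroup F} (hC : Cfsg.IsFrobeniusComplement C)
    [Group.IsSolvable C] (h15 : 15 ∣ Nat.card C) : ∃ c : F, c ∈ C ∧ orderOf c = 15 := by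
  classical
  obtain ⟨K, -, hKn, hc, hKnil⟩ := CfsgLib.Frob.exists_nilpotent_kernel hC
  haveI := hKn
  have hK : K ≠ ⊥ := CfsgLib.Frob.kernel_ne_bot hC hc
  obtain ⟨V, hVc, hV1, hVn, hVf⟩ := CfsgLib.Frob.exists_abelian_module hc hK hC.1
    (fun h hh h1 => CfsgLib.Frob.fpf_of_frob hc.disjoint hC hh h1)
  haveI := hVc
  set n := Nat.card C with hn
  set m := 3 ^ n.factorization 3 * 5 ^ n.factorization 5 with hm
  have hn0 : n ≠ 0 := Nat.card_pos.ne'
  have hmd : m ∣ n := Nat.Coprime.mul_dvd_of_dvd_of_dvd (Nat.Coprime.pow _ _ (by norm_num))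
    (Nat.ordProj_dvd n 3) (Nat.ordProj_dvd n 5)
  obtain ⟨l, hl⟩ := hmd
  have hcop : m.Coprime l := by
    have h3 : ¬ 3 ∣ l := fun h => by
      have := Nat.not_dvd_ordCompl (n := n) (p := 3) (by norm_num) hn0
      apply this
      rw [Nat.dvd_div_iff_mul_dvd (Nat.ordProj_dvd n 3)]
      conv_rhs => rw [hl, hm]
      exact mul_dvd_mul (dvd_mul_right _ _) h
    have h5 : ¬ 5 ∣ l := fun h => by
      have := Nat.not_dvd_ordCompl (n := n) (p := 5) (by norm_num) hn0
      apply this
      rw [Nat.dvd_div_iff_mul_dvd (Nat.ordProj_dvd n 5)]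
      conv_rhs => rw [hl, hm]
      exact mul_dvd_mul (dvd_mul_left _ _) h
    exact Nat.Coprime.mul_left (Nat.Coprime.pow_left _ ((Nat.Prime.coprime_iff_not_dvd (by norm_num)).mpr h3))
      (Nat.Coprime.pow_left _ ((Nat.Prime.coprime_iff_not_dvd (by norm_num)).mpr h5))
  obtain ⟨A₀, hA₀⟩ := (CfsgLib.hall_main (G := C) (m := m) (n := l) hl hcop).1
  set A := A₀.map C.subtype with hA
  have hAC : A ≤ C := map_subtype_le _
  have hAcard : Nat.card A = m := by rw [hA, Subgroup.card_map_of_injective C.subtype_injective, hA₀]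
  have h35 : ∀ r : ℕ, r = 3 ∨ r = 5 → r ∣ m := by
    rintro r (rfl | rfl)
    · exact dvd_mul_of_dvd_left (dvd_pow_self 3 (Nat.Prime.factorization_pos_of_dvd (by norm_num) hn0
        (dvd_trans (by norm_num) h15)).ne') _
    · exact dvd_mul_of_dvd_right (dvd_pow_self 5 (Nat.Prime.factorization_pos_of_dvd (by norm_num) hn0
        (dvd_trans (by norm_num) h15)).ne') _
  have hA1 : A ≠ ⊥ := fun e => by
    rw [e, Subgroup.card_bot] at hAcard
    have := h35 3 (Or.inl rfl)
    rw [← hAcard] at this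
    norm_num at this
  have hodd : Odd (Nat.card A) := by
    rw [hAcard]
    exact ((by decide : Odd 3).pow).mul ((by decide : Odd 5).pow)
  have hZ := CfsgLib.Frob.center_ne_bot_of_odd hV1 (hAC.trans hVn) (fun x hx => hVf x (hAC hx)) hodd hA1
  obtain ⟨z, hz, hz1⟩ := (bot_or_exists_ne_one _).resolve_left hZ
  obtain ⟨r, hr, hrd⟩ := Nat.exists_prime_and_dvd (mt orderOf_eq_one_iff.mp hz1)
  have hr35 : r = 3 ∨ r = 5 := by
    have h1 : r ∣ m := hAcard ▸ hrd.trans (orderOf_dvd_natCard z)
    rcases hr.dvd_mul.mp h1 with h | h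
    · exact Or.inl ((Nat.prime_dvd_prime_iff_eq hr (by norm_num)).mp (hr.dvd_of_dvd_pow h))
    · exact Or.inr ((Nat.prime_dvd_prime_iff_eq hr (by norm_num)).mp (hr.dvd_of_dvd_pow h))
  obtain ⟨r', hr', hrr', hr'd⟩ : ∃ r', r'.Prime ∧ r * r' = 15 ∧ r' ∣ m := by
    rcases hr35 with rfl | rfl
    · exact ⟨5, by norm_num, by norm_num, h35 5 (Or.inr rfl)⟩
    · exact ⟨3, by norm_num, by norm_num, h35 3 (Or.inl rfl)⟩
  haveI := Fact.mk hr'
  obtain ⟨w, hw⟩ := exists_prime_orderOf_dvd_card' (G := A) r' (hAcard ▸ hr'd)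
  set z' := z ^ (orderOf z / r) with hz'
  have hz'o : orderOf z' = r := orderOf_pow_orderOf_div (orderOf_pos z).ne' hrd
  have hcm : Commute z' w := ((show Commute w z from Subgroup.mem_center_iff.mp hz w).pow_right _).symm
  refine ⟨((z' * w : A) : F), hAC (z' * w).2, ?_⟩
  rw [Subgroup.orderOf_coe, hcm.orderOf_mul_eq_mul_orderOf_of_coprime (by
    rw [hz'o, hw]
    exact (Nat.coprime_primes hr hr').mpr fun e => by subst e; rcases hr35 with rfl | rfl <;> norm_num at hrr'),
    hz'o, hw, hrr']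

/-- A solvable quotient-by-kernel. -/
theorem solvable_iff {F : Type u} [Group F] [Finite F] {C : Subgroup F} (hC : Cfsg.IsFrobeniusComplement C) :
    Group.IsSolvable F ↔ Group.IsSolvable C := by
  refine ⟨fun h => inferInstance, fun h => ?_⟩
  obtain ⟨K, -, hKn, hc, hKnil⟩ := CfsgLib.Frob.exists_nilpotent_kernel hC
  haveI := hKn
  haveI := hKnil
  haveI : Group.IsSolvable (F ⧸ K) := by
    refine Group.isSolvable_of_surjective (f := (QuotientGroup.mk' K).comp C.subtype) fun x => ?_
    obtain ⟨g, rfl⟩ := QuotientGroup.mk'_surjective K x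
    obtain ⟨⟨⟨k, hk⟩, c⟩, rfl⟩ := (show Function.Surjective fun z : K × C => (z.1 : F) * z.2 from hc.2) g
    refine ⟨c, ?_⟩
    show QuotientGroup.mk' K (c : F) = QuotientGroup.mk' K (k * (c : F))
    rw [map_mul, show QuotientGroup.mk' K k = 1 from (QuotientGroup.eq_one_iff k).mpr hk, one_mul]
  exact Group.isSolvable_of_ker_le_range K.subtype (QuotientGroup.mk' K)
    (by rw [QuotientGroup.ker_mk', Subgroup.range_subtype])

/-- Solvability passes along an order type. -/
theorem solvable_of_orderType {F : Type u} [Group F] [Finite F] {G : Type v} [Group G] [Finite G]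
    {C : Subgroup F} (hC : Cfsg.IsFrobeniusComplement C) {H : Subgroup G} (hH : Cfsg.IsFrobeniusComplement H)
    (hcard : Nat.card H = Nat.card C) (ψ : F ≃ G) (hψ : ∀ x, orderOf (ψ x) = orderOf x)
    (hF : Group.IsSolvable F) : Group.IsSolvable G := by
  rw [solvable_iff hH]
  by_contra hns
  obtain ⟨h15, hno⟩ := nonsolvable_fifteen hH hns
  haveI := hF
  obtain ⟨c, -, hc⟩ := solvable_fifteen hC (hcard ▸ h15)
  have ho : orderOf (ψ c) = 15 := by rw [hψ, hc]
  obtain ⟨x, hx⟩ := CfsgLib.Frob.le_conj_of_card_dvd hH (zpowers (ψ c))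
    (by rw [Nat.card_zpowers, ho]; exact h15)
  obtain ⟨y, hy, e⟩ := hx (mem_zpowers (ψ c))
  have e' : x * y * x⁻¹ = ψ c := e
  refine hno ⟨y, hy⟩ ?_
  rw [Subgroup.orderOf_mk, ← ho, ← e']
  exact ((MulAut.conj x).orderOf_eq y).symm

/-- Let F be a finite Frobenius group (it has a Frobenius complement) and G a finite group with the same order type as F (for every m the same number of elements of order m). Then G is a Frobenius group; moreover G is solvable if and only if F is. -/
theorem result {F G : Type*} [Group F] [Finite F] [Group G] [Finite G] (hF : (∃ C : Subgroup F, Cfsg.IsFrobeniusComplement C)) (hT : (∀ m : ℕ, Nat.card {g : F // orderOf g = m} = Nat.card {h : G // orderOf h = m})) :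
    (∃ C : Subgroup G, Cfsg.IsFrobeniusComplement C) ∧ (Group.IsSolvable G ↔ Group.IsSolvable F) := by
  classical
  obtain ⟨C, hC⟩ := hF
  let ψ : F ≃ G := Equiv.ofFiberEquiv (f := fun x : F => orderOf x) (g := fun y : G => orderOf y)
    fun m => Classical.choice (Finite.card_eq.mp (hT m))
  have hψ : ∀ x, orderOf (ψ x) = orderOf x := fun x =>
    Equiv.ofFiberEquiv_map (f := fun x : F => orderOf x) (g := fun y : G => orderOf y) _ x
  have hψ' : ∀ y, orderOf (ψ.symm y) = orderOf y := fun y => by rw [← hψ, ψ.apply_symm_apply]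
  obtain ⟨K, hKk, hKn, hc, hKnil⟩ := CfsgLib.Frob.exists_nilpotent_kernel hC
  haveI := hKn
  haveI := hKnil
  set k := Nat.card K with hk
  set m := Nat.card C with hm
  have hcop : k.Coprime m := by
    rw [hk, hm, ← hc.index_eq_card]
    exact (CfsgLib.Frob.coprime_index hC).symm
  have hK1 : 1 < k := (K.one_lt_card_iff_ne_bot).mpr (CfsgLib.Frob.kernel_ne_bot hC hc)
  have hC1 : 1 < m := (C.one_lt_card_iff_ne_bot).mpr hC.1
  have hFG : Nat.card G = k * m := by rw [← Nat.card_congr ψ, ← hc.card_mul]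
  have hcases : ∀ y : G, orderOf y ∣ k ∨ orderOf y ∣ m := fun y => by
    rw [← hψ' y]
    exact (order_cases hC hKk (ψ.symm y)).imp And.right id
  -- Sylow subgroups for the primes of the kernel are normal
  have hsyl : ∀ q : ℕ, q.Prime → q ∣ k → ∀ P : Sylow q G, (P : Subgroup G).Normal := by
    intro q hq hqk P
    haveI := Fact.mk hq
    have hqm : ¬ q ∣ m := fun h => hq.ne_one (Nat.eq_one_of_dvd_coprimes hcop hqk h)
    obtain ⟨Q⟩ : Nonempty (Sylow q K) := inferInstance
    have hQn : (Q : Subgroup K).Normal :=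
      (Group.isNilpotent_of_finite_tfae (G := K)).out 0 3 rfl rfl |>.mp hKnil q inferInstance _
    haveI := Sylow.unique_of_normal Q hQn
    have hQP : Nat.card Q = Nat.card P := by
      rw [Sylow.card_eq_multiplicity, Sylow.card_eq_multiplicity, hFG,
        Nat.factorization_mul (by omega) (by omega), Finsupp.add_apply, Nat.factorization_eq_zero_of_not_dvd hqm, add_zero]
    have hin : ∀ y : G, (∃ j : ℕ, orderOf y = q ^ j) → ∃ x : K, x ∈ (Q : Subgroup K) ∧ ψ (x : F) = y := by
      rintro y ⟨j, hj⟩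
      have hxK : ψ.symm y ∈ K := by
        rcases order_cases hC hKk (ψ.symm y) with h | h
        · exact h.1
        · rw [hψ', hj] at h
          rcases Nat.eq_zero_or_pos j with h0 | h0
          · rw [show ψ.symm y = 1 by rw [← orderOf_eq_one_iff, hψ', hj, h0, pow_zero]]
            exact one_mem _
          · exact absurd ((dvd_pow_self q h0.ne').trans h) hqm
      refine ⟨⟨ψ.symm y, hxK⟩, ?_, ψ.apply_symm_apply y⟩
      have hp : IsPGroup q ↥(zpowers (⟨ψ.symm y, hxK⟩ : K)) :=
        IsPGroup.of_card (n := j) (by rw [Nat.card_zpowers, Subgroup.orderOf_mk, hψ', hj])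
      obtain ⟨S, hS⟩ := hp.exists_le_sylow
      rw [Subsingleton.elim S Q] at hS
      exact hS (mem_zpowers _)
    let f : {y : G // ∃ j : ℕ, orderOf y = q ^ j} → (Q : Subgroup K) := fun y =>
      ⟨(hin y y.2).choose, (hin y y.2).choose_spec.1⟩
    have hf : Function.Injective f := fun y y' e => Subtype.ext (by
      rw [← (hin y y.2).choose_spec.2, ← (hin y' y'.2).choose_spec.2]
      exact congrArg (fun x : (Q : Subgroup K) => ψ ((x : K) : F)) e)
    let g : ↥(P : Subgroup G) → {y : G // ∃ j : ℕ, orderOf y = q ^ j} := fun y => ⟨y, by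
      obtain ⟨j, hj⟩ := IsPGroup.iff_orderOf.mp P.2 y
      exact ⟨j, by rw [← hj, Subgroup.orderOf_coe]⟩⟩
    have hg : Function.Injective g := fun y y' e => Subtype.ext (congrArg Subtype.val e :)
    have hbij : Function.Bijective g := (Nat.bijective_iff_injective_and_card g).mpr ⟨hg,
      le_antisymm (Nat.card_le_card_of_injective g hg) (hQP ▸ Nat.card_le_card_of_injective f hf)⟩
    refine ⟨fun x hx a => ?_⟩
    obtain ⟨j, hj⟩ := (g ⟨x, hx⟩).2
    obtain ⟨⟨y, hy⟩, e⟩ := hbij.2 ⟨a * x * a⁻¹, j, by rw [← hj]; exact (MulAut.conj a).orderOf_eq x⟩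
    rw [← show y = a * x * a⁻¹ from congrArg Subtype.val e]
    exact hy
  set K' := fittingSubgroup G with hK'
  haveI : Group.IsNilpotent K' := CfsgLib.isNilpotent_fittingSubgroup
  have hPK : ∀ q : ℕ, q.Prime → q ∣ k → ∀ P : Sylow q G, (P : Subgroup G) ≤ K' := fun q hq hqk P => by
    haveI := Fact.mk hq
    haveI := hsyl q hq hqk P
    exact CfsgLib.le_fittingSubgroup P.2.isNilpotent
  have hnomix : ∀ x y : G, Commute x y → (orderOf x).Coprime (orderOf y) → orderOf x ∣ k → orderOf y ∣ m →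
      x = 1 ∨ y = 1 := by
    intro x y hxy hco hx hy
    rcases hcases (x * y) with h | h
    · rw [hxy.orderOf_mul_eq_mul_orderOf_of_coprime hco] at h
      exact Or.inr (orderOf_eq_one_iff.mp (Nat.eq_one_of_dvd_coprimes hcop ((dvd_mul_left _ _).trans h) hy))
    · rw [hxy.orderOf_mul_eq_mul_orderOf_of_coprime hco] at h
      exact Or.inl (orderOf_eq_one_iff.mp (Nat.eq_one_of_dvd_coprimes hcop hx ((dvd_mul_right _ _).trans h)))
  have hkK : k ∣ Nat.card K' := by
    rw [Nat.dvd_iff_prime_pow_dvd_dvd]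
    intro q j hq hj
    rcases Nat.eq_zero_or_pos j with h0 | h0
    · rw [h0, pow_zero]; exact one_dvd _
    haveI := Fact.mk hq
    obtain ⟨P⟩ : Nonempty (Sylow q G) := inferInstance
    exact ((P.pow_dvd_card_of_pow_dvd_card (n := j) (hFG ▸ dvd_mul_of_dvd_left hj _)).trans
      (Subgroup.card_dvd_of_le (hPK q hq ((dvd_pow_self q h0.ne').trans hj) P)))
  have hK'k : Nat.card K' = k := by
    refine Nat.dvd_antisymm ?_ hkK
    refine Nat.Coprime.dvd_of_dvd_mul_right ?_ (hFG ▸ K'.card_subgroup_dvd_card)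
    refine Nat.coprime_of_dvd fun r hr h1 h2 => ?_
    obtain ⟨q, hq, hqk⟩ := Nat.exists_prime_and_dvd (show k ≠ 1 by omega)
    haveI := Fact.mk hr
    haveI := Fact.mk hq
    have hrk : ¬ r ∣ k := fun h => hr.ne_one (Nat.eq_one_of_dvd_coprimes hcop h h2)
    obtain ⟨x, hx⟩ := exists_prime_orderOf_dvd_card' (G := K') q (hqk.trans hkK)
    obtain ⟨y, hy⟩ := exists_prime_orderOf_dvd_card' (G := K') r h1
    have hco : (orderOf x).Coprime (orderOf y) := by
      rw [hx, hy]; exact (Nat.coprime_primes hq hr).mpr fun e => hrk (e ▸ hqk)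
    rcases hnomix x y (congrArg Subtype.val (CfsgLib.Frob.commute_of_nilpotent_coprime hco).eq)
      (by rwa [Subgroup.orderOf_coe, Subgroup.orderOf_coe]) (by rwa [Subgroup.orderOf_coe, hx])
      (by rwa [Subgroup.orderOf_coe, hy]) with e | e
    · rw [← Subgroup.orderOf_coe, e, orderOf_one] at hx
      exact hq.ne_one hx.symm
    · rw [← Subgroup.orderOf_coe, e, orderOf_one] at hy
      exact hr.ne_one hy.symm
  have hidx : K'.index = m := by
    refine Nat.eq_of_mul_eq_mul_left (show 0 < k by omega) ?_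
    rw [← hFG, ← hK'k, Subgroup.card_mul_index]
  obtain ⟨H, hH⟩ := Subgroup.exists_right_complement'_of_coprime (N := K') (by rw [hK'k, hidx]; exact hcop)
  have hHm : Nat.card H = m := by
    refine Nat.eq_of_mul_eq_mul_left (show 0 < k by omega) ?_
    rw [← hFG, ← hK'k, hH.card_mul]
  have hHF : Cfsg.IsFrobeniusComplement H := by
    refine CfsgLib.Frob.frob_of_fpf hH (fun e => ?_) (fun e => ?_) fun h hh h1 => ?_
    · rw [e, Subgroup.card_bot] at hK'k; omega
    · rw [e, Subgroup.card_bot] at hHm; omega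
    · rw [Subgroup.eq_bot_iff_forall]
      intro x hx
      have hxk : orderOf x ∣ k := hK'k ▸ Subgroup.orderOf_dvd_natCard K' hx.1
      have hhm : orderOf h ∣ m := hHm ▸ Subgroup.orderOf_dvd_natCard H hh
      exact (hnomix x h (mem_centralizer_singleton_iff.mp hx.2)
        (hcop.coprime_dvd_left hxk |>.coprime_dvd_right hhm) hxk hhm).resolve_right h1
  exact ⟨⟨H, hHF⟩, ⟨solvable_of_orderType hHF hC hHm.symm ψ.symm hψ',
    solvable_of_orderType hC hHF hHm ψ hψ⟩⟩

end Cfsg.Agent.S3999
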