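import Cfsg.Statements.S4001
import Mathlib
import Cfsg.Agent.Lib.TwoFrobenius
-- import your own Cfsg.Agent.* helpers here

set_option autoImplicit false
open Cfsg

namespace Cfsg.Agent.S4001

open Subgroup CfsgLib.TwoFrob

private theorem exists_orderOf {G : Type*} [Group G] [Finite G] [IsCyclic G] {n : ℕ} (h : n ∣ Nat.card G) :
    ∃ g : G, orderOf g = n := by
  obtain ⟨g, hg⟩ := IsCyclic.exists_ofOrder_eq_natCard (α := G)
  refine ⟨g ^ (orderOf g / n), orderOf_pow_orderOf_div (orderOf_pos g).ne' (hg ▸ h)⟩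

/-- Let G be a 2-Frobenius group: it has normal subgroups H < K with K a Frobenius group with kernel H and G/H a Frobenius group with kernel K/H. Then G is solvable; K/H has odd order coprime to the order of H and to the order of G/K (it is the image of an odd-order Hall subgroup); G/K is cyclic; and the prime graph of G has exactly two connected components, both complete: for distinct primes p, q dividing the order of G, G has an element of order pq exactly when p and q either both divide the order of K/H or both do not. -/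
theorem result {G : Type*} [Group G] [Finite G] (H K : Subgroup G) [H.Normal] [K.Normal] (hlt : H < K)
    (hK : ∃ C : Subgroup ↥K, Cfsg.IsFrobeniusComplement C ∧ Cfsg.frobeniusKernel C = (H.subgroupOf K : Set ↥K))
    (hGH : ∃ C : Subgroup (G ⧸ H), Cfsg.IsFrobeniusComplement C ∧ Cfsg.frobeniusKernel C = (K.map (QuotientGroup.mk' H) : Set (G ⧸ H))) :
    Group.IsSolvable G ∧ Odd (Nat.card (↥K ⧸ H.subgroupOf K)) ∧
      Nat.Coprime (Nat.card (↥K ⧸ H.subgroupOf K)) (Nat.card ↥H * Nat.card (G ⧸ K)) ∧ IsCyclic (G ⧸ K) ∧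
      ∀ p q : ℕ, p.Prime → q.Prime → p ≠ q → p ∣ Nat.card G → q ∣ Nat.card G →
        ((∃ g : G, orderOf g = p * q) ↔ (p ∣ Nat.card (↥K ⧸ H.subgroupOf K) ↔ q ∣ Nat.card (↥K ⧸ H.subgroupOf K))) := by
  obtain ⟨C, hC, hCk⟩ := hK
  obtain ⟨D, hD, hDk⟩ := hGH
  have d : Data H K C D := ⟨inferInstance, hlt, hC, hCk, hD, hDk⟩
  rw [d.card_quot]
  refine ⟨d.solvable, d.odd_C, ?_, d.cyclic_quot, ?_⟩
  · exact Nat.Coprime.mul_right d.coprime_H (d.card_D ▸ d.coprime_D)
  intro p q hp hq hpq hpG hqG
  haveI := Fact.mk hp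
  haveI := Fact.mk hq
  have hco : Nat.Coprime p q := (Nat.coprime_primes hp hq).mpr hpq
  have hG : Nat.card G = Nat.card H * Nat.card C * Nat.card D := by
    rw [card_eq_card_quotient_mul_card_subgroup K, ← d.card_D, ← d.compl_C.card_mul,
      Nat.card_congr (subgroupOfEquivOfLe d.hlt.le).toEquiv]
    ring
  constructor
  · rintro ⟨g, hg⟩
    constructor
    · intro hpC
      by_contra hqC
      exact d.no_edge hp hq hpC hqC hg
    · intro hqC
      by_contra hpC
      exact d.no_edge hq hp hqC hpC (by rw [hg, mul_comm])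
  · intro hiff
    by_cases hpC : p ∣ Nat.card C
    · haveI := d.cyclic_C
      obtain ⟨c, hc⟩ := exists_orderOf (G := C) (hco.mul_dvd_of_dvd_of_dvd hpC (hiff.mp hpC))
      exact ⟨((c : K) : G), by rw [Subgroup.orderOf_coe, Subgroup.orderOf_coe, hc]⟩
    · have hqC : ¬ q ∣ Nat.card C := fun h => hpC (hiff.mpr h)
      have key : ∀ r : ℕ, r.Prime → r ∣ Nat.card G → ¬ r ∣ Nat.card C → r ∣ Nat.card H ∨ r ∣ Nat.card D := by
        intro r hr hrG hrC
        rw [hG] at hrG
        rcases hr.dvd_mul.mp hrG with h | h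
        · rcases hr.dvd_mul.mp h with h | h
          · exact Or.inl h
          · exact absurd h hrC
        · exact Or.inr h
      rcases key p hp hpG hpC with hpH | hpD <;> rcases key q hq hqG hqC with hqH | hqD
      · haveI := d.nilpotent_H
        obtain ⟨x, hx⟩ := exists_prime_orderOf_dvd_card' (G := H) p hpH
        obtain ⟨y, hy⟩ := exists_prime_orderOf_dvd_card' (G := H) q hqH
        refine ⟨((x * y : H) : G), ?_⟩
        rw [Subgroup.orderOf_coe, (CfsgLib.Frob.commute_of_nilpotent_coprime (by rw [hx, hy]; exact hco)).orderOf_mul_eq_mul_orderOf_of_coprime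
          (by rw [hx, hy]; exact hco), hx, hy]
      · exact d.edge_HD hp hq hpq hpH hqD
      · obtain ⟨g, hg⟩ := d.edge_HD hq hp hpq.symm hqH hpD
        exact ⟨g, by rw [hg, mul_comm]⟩
      · haveI := d.cyclic_quot
        obtain ⟨y, hy⟩ := exists_orderOf (G := G ⧸ K) (n := p * q) (by
          rw [← d.card_D]; exact hco.mul_dvd_of_dvd_of_dvd hpD hqD)
        obtain ⟨g, rfl⟩ := QuotientGroup.mk'_surjective K y
        have h1 : p * q ∣ orderOf g := hy ▸ orderOf_map_dvd (QuotientGroup.mk' K) g
        refine ⟨g ^ (orderOf g / (p * q)), ?_⟩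
        exact orderOf_pow_orderOf_div (orderOf_pos g).ne' h1

end Cfsg.Agent.S4001
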