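import Cfsg.Statements.S4002
import Mathlib
import Cfsg.Agent.S3633
-- import your own Cfsg.Agent.* helpers here

set_option autoImplicit false
open Cfsg

namespace Cfsg.Agent.S4002

/-- If the set of element orders of a finite group G is {1, 2, …, n} with n ≥ 7, then G is not solvable. -/
theorem result {G : Type*} [Group G] [Finite G] (n : ℕ) (hn : 7 ≤ n) (h : Set.range (orderOf : G → ℕ) = {k : ℕ | 1 ≤ k ∧ k ≤ n}) : ¬ Group.IsSolvable G := by
  intro hs
  have hg : ∀ g : G, orderOf g ≤ n := fun g => ((Set.ext_iff.mp h (orderOf g)).mp ⟨g, rfl⟩).2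
  obtain ⟨p, q, r, hp, hq, hr, hpq, hqr, hn1, hpn⟩ :
      ∃ p q r : ℕ, p.Prime ∧ q.Prime ∧ r.Prime ∧ r < q ∧ q < p ∧ n < q * r ∧ p ≤ n := by
    rcases Nat.lt_or_ge n 32 with h32 | h32
    · rcases Nat.lt_or_ge n 15 with h15 | h15
      · exact ⟨7, 5, 3, by norm_num, by norm_num, by norm_num, by norm_num, by norm_num, by omega, by omega⟩
      · exact ⟨11, 7, 5, by norm_num, by norm_num, by norm_num, by norm_num, by norm_num, by omega, by omega⟩
    · obtain ⟨p, hp, hp1, hp2⟩ := Nat.exists_prime_lt_and_le_two_mul (n / 2) (by omega)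
      obtain ⟨q, hq, hq1, hq2⟩ := Nat.exists_prime_lt_and_le_two_mul (n / 4) (by omega)
      obtain ⟨r, hr, hr1, hr2⟩ := Nat.exists_prime_lt_and_le_two_mul (n / 8) (by omega)
      refine ⟨p, q, r, hp, hq, hr, by omega, by omega, ?_, by omega⟩
      have h4 : n < 4 * q := by omega
      have h8 : n < 8 * r := by omega
      nlinarith [Nat.mul_lt_mul'' h4 h8]
  have hd : ∀ s, s.Prime → s ≤ n → s ∣ Nat.card G := fun s hs hsn => by
    obtain ⟨g, hg'⟩ := (Set.ext_iff.mp h s).mpr ⟨hs.one_lt.le, hsn⟩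
    rw [← hg']; exact orderOf_dvd_natCard g
  have hq' : q ≤ n := hqr.le.trans hpn
  exact Cfsg.Agent.S3633.no_coclique hp hq hr (Nat.ne_of_gt hqr) (by omega) (Nat.ne_of_gt hpq)
    (hd p hp hpn) (hd q hq hq') (hd r hr (hpq.le.trans hq'))
    (fun g e => by have := hg g; have : q * r < p * q := by rw [mul_comm p]; exact Nat.mul_lt_mul_of_pos_left (hpq.trans hqr) hq.pos
                   omega)
    (fun g e => by have := hg g; have : q * r < p * r := Nat.mul_lt_mul_of_pos_right hqr hr.pos
                   omega)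
    (fun g e => by have := hg g; omega)

end Cfsg.Agent.S4002
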