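import Cfsg.Statements.S4003
import Mathlib
import Cfsg.Agent.Lib.PGroup.CyclicMax
import Cfsg.Agent.Lib.Elementary
import Cfsg.Agent.Lib.PSolvable
-- import your own Cfsg.Agent.* helpers here

set_option autoImplicit false
open Cfsg

namespace Cfsg.Agent.S4003

namespace Aux

open scoped Pointwise

universe u

variable {p : ℕ} [hp : Fact p.Prime]

theorem pow_mul_of_mem {P : Type u} [Group P] [Finite P] (hP : IsPGroup p P) (hodd : p ≠ 2) {E : Subgroup P}
    (hEn : E.Normal) (hE : Cfsg.IsElementaryAbelian p E) (hEc : Nat.card E ≤ p ^ 2) (u : P) {e : P} (he : e ∈ E) :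
    (u * e) ^ p = u ^ p := by
  rcases eq_or_ne E ⊥ with rfl | hE1
  · rw [Subgroup.mem_bot.mp he, mul_one]
  haveI := hP.isNilpotent
  set D := E ⊓ Subgroup.center P with hD
  have hD1 : D ≠ ⊥ := CfsgLib.inf_center_ne_bot_of_nilpotent hE1
  haveI hDn : D.Normal := by rw [hD]; infer_instance
  set c := e⁻¹ * (u⁻¹ * e * u) with hc
  have hcD : c ∈ D := by
    set π := QuotientGroup.mk' D
    have hcen : E.map π ≤ Subgroup.center (P ⧸ D) := by
      rcases eq_or_ne (E.map π) ⊥ with h | h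
      · rw [h]; exact bot_le
      obtain ⟨k, hk⟩ := IsPGroup.iff_card.mp (hP.to_subgroup D)
      obtain ⟨j, hj⟩ := IsPGroup.iff_card.mp ((hP.to_quotient D).to_subgroup (E.map π))
      have hj1 : j ≤ 1 := by
        have h1 : Nat.card (E.map π) * Nat.card D = Nat.card E := by
          have := CfsgLib.card_comap_mk D (E.map π)
          rw [Subgroup.comap_map_eq, QuotientGroup.ker_mk', sup_eq_left.mpr (inf_le_left : D ≤ E)] at this
          rw [this, mul_comm]
        rw [hk, hj, ← pow_add] at h1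
        rw [← h1] at hEc
        have h2 := (Nat.pow_le_pow_iff_right hp.out.one_lt).mp hEc
        have h3 : k ≠ 0 := fun h0 => hD1 (Subgroup.card_eq_one.mp (by rw [hk, h0, pow_zero]))
        omega
      interval_cases j
      · exact absurd (Subgroup.card_eq_one.mp (by rw [hj, pow_zero])) h
      · haveI : (E.map π).Normal := hEn.map π (QuotientGroup.mk'_surjective D)
        haveI := (hP.to_quotient D).isNilpotent
        have hne := CfsgLib.inf_center_ne_bot_of_nilpotent h
        rcases (Nat.dvd_prime hp.out).mp ((pow_one p ▸ hj) ▸ Subgroup.card_dvd_of_le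
          (inf_le_left : E.map π ⊓ Subgroup.center (P ⧸ D) ≤ E.map π)) with h' | h'
        · exact absurd (Subgroup.card_eq_one.mp h') hne
        · exact inf_eq_left.mp (Subgroup.eq_of_le_of_card_ge inf_le_left (by rw [h', hj, pow_one]))
    have h := Subgroup.mem_center_iff.mp (hcen (Subgroup.mem_map_of_mem π he)) (π u)
    refine (QuotientGroup.eq_one_iff c).mp ?_
    show π c = 1
    rw [hc, map_mul, map_mul, map_mul, map_inv, map_inv, mul_assoc (π u)⁻¹, ← h, inv_mul_cancel_left,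
      inv_mul_cancel]
  have hcc : ∀ z : P, z * c = c * z := Subgroup.mem_center_iff.mp hcD.2
  have heu : e * u = u * (e * c) := by rw [hc]; group
  have hek : ∀ k : ℕ, e ^ k * u = u * (e ^ k * c ^ k) := by
    intro k
    have h1 : u⁻¹ * e * u = e * c := by rw [mul_assoc, heu, inv_mul_cancel_left]
    have h2 : u⁻¹ * e ^ k * u = e ^ k * c ^ k := by
      have := (conj_pow (i := k) (a := u⁻¹) (b := e)).symm
      rw [inv_inv] at this
      rw [this, h1, (show Commute e c from hcc e).mul_pow]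
    rw [← h2]; group
  have hk : ∀ k : ℕ, (u * e) ^ k = u ^ k * (e ^ k * c ^ k.choose 2) := by
    intro k
    induction k with
    | zero => simp
    | succ k ih =>
      have hccom : ∀ (i : ℕ) (z : P), c ^ i * z = z * c ^ i := fun i z =>
        ((show Commute z c from hcc z).pow_right i).eq.symm
      rw [pow_succ, ih, Nat.choose_succ_succ', Nat.choose_one_right, pow_add]
      calc u ^ k * (e ^ k * c ^ k.choose 2) * (u * e) = u ^ k * (e ^ k * (c ^ k.choose 2 * (u * e))) := by simp only [mul_assoc]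
        _ = u ^ k * ((e ^ k * u) * e * c ^ k.choose 2) := by rw [hccom _ (u * e)]; simp only [mul_assoc]
        _ = u ^ k * (u * (e ^ k * (c ^ k * e)) * c ^ k.choose 2) := by rw [hek]; simp only [mul_assoc]
        _ = u ^ (k + 1) * (e ^ (k + 1) * (c ^ k * c ^ k.choose 2)) := by rw [hccom k e, pow_succ, pow_succ]; simp only [mul_assoc]
        _ = _ := by rw [pow_succ, ← pow_add]; simp only [pow_one]
  have hdvd : p ∣ p.choose 2 := hp.out.dvd_choose_self (by norm_num) (lt_of_le_of_ne hp.out.two_le (Ne.symm hodd))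
  obtain ⟨t, ht⟩ := hdvd
  rw [hk, hE.2 e he, ht, pow_mul, hE.2 c hcD.1, one_pow, one_mul, mul_one]

theorem pGroup_count {P : Type u} [Group P] [Finite P] (hP : IsPGroup p P) (hodd : p ≠ 2) (hnc : ¬ IsCyclic P)
    {s : ℕ} (hs : 1 < s) : p ^ s ∣ Nat.card {x : P // orderOf x = p ^ s} := by
  classical
  haveI := Fintype.ofFinite P
  obtain ⟨E, -, hEn, hE, hEc⟩ := CfsgLib.CyclicMax.exists_normal_sq hP hodd ⊤ fun h => by
    haveI := h
    exact hnc (Subgroup.topEquiv.isCyclic.mp h)
  haveI := hEn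
  have hEne : ∀ C : Subgroup P, IsCyclic C → ¬ E ≤ C := by
    intro C hC hle
    haveI := hC
    have : IsCyclic E := isCyclic_of_injective (Subgroup.inclusion hle) (Subgroup.inclusion_injective hle)
    obtain ⟨z, hz⟩ := IsCyclic.exists_ofOrder_eq_natCard (α := E)
    have := orderOf_le_of_pow_eq_one hp.out.pos (show z ^ p = 1 from Subtype.ext (by simpa using hE.2 z z.2))
    rw [hz, hEc] at this
    nlinarith [hp.out.two_le]
  rw [Nat.card_eq_fintype_card, Fintype.card_subtype,
    Finset.card_eq_sum_card_image (fun x : P => Subgroup.zpowers x ⊔ E)]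
  refine Finset.dvd_sum fun X hX => ?_
  obtain ⟨x₀, hx₀, rfl⟩ := Finset.mem_image.mp hX
  rw [Finset.mem_filter] at hx₀
  have hx0 : orderOf x₀ = p ^ s := hx₀.2
  set X := Subgroup.zpowers x₀ ⊔ E with hXdef
  set Y := Subgroup.zpowers (x₀ ^ p) ⊔ E with hYdef
  have hYX : Y ≤ X := sup_le ((Subgroup.zpowers_le.mpr (Subgroup.mem_sup_left (pow_mem (Subgroup.mem_zpowers x₀) p)))) le_sup_right
  have hmem : ∀ y ∈ X, ∃ a : ℤ, ∃ e ∈ E, y = x₀ ^ a * e ∧ y ^ p = (x₀ ^ p) ^ a := by
    intro y hy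
    obtain ⟨_, ⟨a, rfl⟩, e, he, rfl⟩ := Subgroup.mem_sup_of_normal_right.mp hy
    refine ⟨a, e, he, rfl, ?_⟩
    show (x₀ ^ a * e) ^ p = _
    rw [pow_mul_of_mem hP hodd hEn hE hEc.le _ he, ← zpow_natCast, ← zpow_mul, mul_comm, zpow_mul, zpow_natCast]
  have hset : (Finset.univ.filter fun x : P => orderOf x = p ^ s).filter (fun x => Subgroup.zpowers x ⊔ E = X) =
      (X : Set P).toFinset \ (Y : Set P).toFinset := by
    ext y
    simp only [Finset.mem_filter, Finset.mem_univ, true_and, Finset.mem_sdiff, Set.mem_toFinset, SetLike.mem_coe]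
    constructor
    · rintro ⟨hyo, hyX⟩
      refine ⟨hyX ▸ Subgroup.mem_sup_left (Subgroup.mem_zpowers y), fun hyY => ?_⟩
      obtain ⟨_, ⟨b, rfl⟩, e, he, hye⟩ := Subgroup.mem_sup_of_normal_right.mp hyY
      have h1 : y ^ p ^ (s - 1) = 1 := by
        rw [show s - 1 = 1 + (s - 2) by omega, pow_add, pow_one, pow_mul, ← hye,
          pow_mul_of_mem hP hodd hEn hE hEc.le _ he, ← zpow_natCast, ← zpow_natCast, ← zpow_natCast,
          ← zpow_mul, ← zpow_mul, ← zpow_mul]
        refine orderOf_dvd_iff_zpow_eq_one.mp ?_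
        rw [hx0]
        have : ((p : ℤ) ^ s) ∣ (p : ℤ) * (b * (p * (p : ℤ) ^ (s - 2))) :=
          ⟨b, by rw [show s = 2 + (s - 2) by omega, pow_add, show 2 + (s - 2) - 2 = s - 2 by omega]; ring⟩
        convert this using 1 <;> push_cast <;> ring
      have h2 := orderOf_dvd_of_pow_eq_one h1
      rw [hyo] at h2
      have := (Nat.pow_dvd_pow_iff_le_right hp.out.one_lt).mp h2
      omega
    · rintro ⟨hyX, hyY⟩
      obtain ⟨a, e, he, hy, hyp⟩ := hmem y hyX
      have hpa : ¬ (p : ℤ) ∣ a := by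
        rintro ⟨b, rfl⟩
        exact hyY (hy ▸ Subgroup.mul_mem_sup ⟨b, by simp only; rw [← zpow_natCast, ← zpow_mul]⟩ he)
      obtain ⟨l, m, hlm⟩ := ((Nat.prime_iff_prime_int.mp hp.out).coprime_iff_not_dvd.mpr hpa).pow_left (m := s)
      have hx : x₀ = (x₀ ^ a) ^ m := by
        conv_lhs => rw [← zpow_one x₀, ← hlm, zpow_add, mul_comm l, zpow_mul, ← Nat.cast_pow, zpow_natCast, ← hx0,
          pow_orderOf_eq_one, one_zpow, one_mul, mul_comm m, zpow_mul]
      constructor
      · obtain ⟨j, hj⟩ := IsPGroup.iff_orderOf.mp hP y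
        have h1 : orderOf (y ^ p) = p ^ (s - 1) := by
          rw [hyp]
          have hgen : Subgroup.zpowers ((x₀ ^ p) ^ a) = Subgroup.zpowers (x₀ ^ p) := by
            refine le_antisymm (Subgroup.zpowers_le.mpr ⟨a, rfl⟩) (Subgroup.zpowers_le.mpr ⟨m, ?_⟩)
            show ((x₀ ^ p) ^ a) ^ m = x₀ ^ p
            conv_rhs => rw [hx]
            simp only [← zpow_natCast, ← zpow_mul]
            congr 1; ring
          rw [← Nat.card_zpowers, hgen, Nat.card_zpowers, orderOf_pow, hx0,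
            Nat.gcd_eq_right (dvd_pow_self p (by omega)), show s = (s - 1) + 1 by omega, pow_succ,
            Nat.mul_div_cancel _ hp.out.pos, Nat.add_sub_cancel]
        have h2 : j ≠ 0 := by
          rintro rfl
          rw [pow_zero, orderOf_eq_one_iff] at hj
          rw [hj, one_pow, orderOf_one] at h1
          have := Nat.one_lt_pow (show s - 1 ≠ 0 by omega) hp.out.one_lt
          omega
        rw [orderOf_pow, hj, Nat.gcd_eq_right (dvd_pow_self p h2), show j = (j - 1) + 1 by omega, pow_succ,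
          Nat.mul_div_cancel _ hp.out.pos] at h1
        rw [hj, show j = s by have := Nat.pow_right_injective hp.out.two_le h1; omega]
      · refine le_antisymm (sup_le (Subgroup.zpowers_le.mpr hyX) le_sup_right) (sup_le (Subgroup.zpowers_le.mpr ?_) le_sup_right)
        rw [hx]
        refine zpow_mem ?_ m
        rw [show x₀ ^ a = y * e⁻¹ by rw [hy, mul_inv_cancel_right]]
        exact Subgroup.mul_mem_sup (Subgroup.mem_zpowers y) (inv_mem he)
  rw [hset, Finset.card_sdiff_of_subset (Set.toFinset_subset_toFinset.mpr hYX), Set.toFinset_card, Set.toFinset_card]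
  have hYs : p ^ s ∣ Nat.card Y := by
    obtain ⟨j, hj⟩ := IsPGroup.iff_card.mp (hP.to_subgroup Y)
    rw [hj]
    refine pow_dvd_pow p ?_
    have hlt : Subgroup.zpowers (x₀ ^ p) < Y := lt_of_le_of_ne le_sup_left fun h =>
      hEne _ (inferInstance : IsCyclic (Subgroup.zpowers (x₀ ^ p))) (le_of_le_of_eq le_sup_right h.symm)
    have h1 : Nat.card (Subgroup.zpowers (x₀ ^ p)) < Nat.card Y :=
      lt_of_not_ge fun h => hlt.ne (Subgroup.eq_of_le_of_card_ge hlt.le h)
    rw [Nat.card_zpowers, orderOf_pow, hx0, Nat.gcd_eq_right (dvd_pow_self p (by omega)), hj,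
      show s = (s - 1) + 1 by omega, pow_succ, Nat.mul_div_cancel _ hp.out.pos] at h1
    have := (Nat.pow_lt_pow_iff_right hp.out.one_lt).mp h1
    omega
  simp only [SetLike.coe_sort_coe, ← Nat.card_eq_fintype_card]
  exact Nat.dvd_sub (hYs.trans (Subgroup.card_dvd_of_le hYX)) hYs

theorem zpowers_fibre {G : Type u} [Group G] [Finite G] (C : Subgroup G) [IsCyclic C] {n : ℕ}
    (hn : Nat.card C = n) : Nat.card {x : G // Subgroup.zpowers x = C} = n.totient := by
  classical
  haveI := Fintype.ofFinite C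
  rw [← IsCyclic.card_orderOf_eq_totient (α := C) (d := n) (by rw [← Nat.card_eq_fintype_card, hn]),
    ← Fintype.card_subtype, ← Nat.card_eq_fintype_card]
  refine Nat.card_congr
    { toFun := fun x => ⟨⟨x.1, x.2.le (Subgroup.mem_zpowers _)⟩, by rw [Subgroup.orderOf_mk, ← Nat.card_zpowers, x.2, hn]⟩
      invFun := fun z => ⟨(z.1 : G), Subgroup.eq_of_le_of_card_ge (Subgroup.zpowers_le.mpr z.1.2)
        (by rw [Nat.card_zpowers, Subgroup.orderOf_coe, z.2, hn])⟩
      left_inv := fun x => rfl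
      right_inv := fun z => rfl }

theorem mul_totient_dvd {s k : ℕ} (hs : 1 ≤ s) (h : p ^ s ∣ (p ^ s).totient * k) : p ∣ k := by
  rw [Nat.totient_prime_pow hp.out hs, mul_assoc] at h
  conv_lhs at h => rw [show s = (s - 1) + 1 by omega, pow_succ]
  have h1 := Nat.dvd_of_mul_dvd_mul_left (pow_pos hp.out.pos _) h
  refine (hp.out.dvd_mul.mp h1).resolve_left fun h2 => ?_
  have := Nat.le_of_dvd (Nat.sub_pos_of_lt hp.out.one_lt) h2
  have := hp.out.two_le
  omega

theorem cyc_count {G : Type u} [Group G] [Finite G] (hodd : p ≠ 2) (P : Sylow p G) (hnc : ¬ IsCyclic ↥(P : Subgroup G))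
    {s : ℕ} (hs : 1 < s) :
    p ∣ Nat.card {C : Subgroup G // IsCyclic C ∧ Nat.card C = p ^ s ∧
      ∀ w ∈ (P : Subgroup G), C.map (MulAut.conj w).toMonoidHom = C} := by
  classical
  set Q := ↥(P : Subgroup G)
  let 𝒞 := {C : Subgroup Q // IsCyclic C ∧ Nat.card C = p ^ s}
  have h1 : p ∣ Nat.card 𝒞 := by
    refine mul_totient_dvd hs.le ?_
    refine (pGroup_count P.2 hodd hnc hs).trans (dvd_of_eq ?_)
    symm
    let e : {x : Q // orderOf x = p ^ s} ≃ Σ C : 𝒞, {x : Q // Subgroup.zpowers x = C.1} :=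
      { toFun := fun x => ⟨⟨Subgroup.zpowers x.1, inferInstance, by rw [Nat.card_zpowers, x.2]⟩, x.1, rfl⟩
        invFun := fun z => ⟨z.2.1, by rw [← Nat.card_zpowers, z.2.2, z.1.2.2]⟩
        left_inv := fun x => rfl
        right_inv := fun z => by obtain ⟨⟨C, hC⟩, ⟨x, hx⟩⟩ := z; dsimp only at hx; subst hx; rfl }
    haveI : Finite 𝒞 := inferInstance
    haveI := Fintype.ofFinite 𝒞
    rw [Nat.card_congr e, Nat.card_sigma, Finset.sum_congr rfl fun C _ => (@zpowers_fibre _ _ _ C.1 C.2.1 _ C.2.2),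
      Finset.sum_const, Finset.card_univ, smul_eq_mul, ← Nat.card_eq_fintype_card, mul_comm]
  let conjS : Q → 𝒞 → 𝒞 := fun w C => ⟨C.1.map (MulAut.conj w).toMonoidHom,
    (C.1.equivMapOfInjective _ (MulAut.conj w).injective).isCyclic.mp C.2.1,
    by rw [Subgroup.card_map_of_injective (MulAut.conj w).injective, C.2.2]⟩
  letI : SMul Q 𝒞 := ⟨conjS⟩
  letI : MulAction Q 𝒞 :=
    { one_smul := fun C => Subtype.ext (by show C.1.map _ = C.1; ext z; simp)
      mul_smul := fun a b C => Subtype.ext (by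
        show C.1.map _ = (C.1.map _).map _
        rw [Subgroup.map_map]; congr 1; ext z; simp [mul_assoc]) }
  have h2 := P.2.card_modEq_card_fixedPoints 𝒞
  have h3 : p ∣ Nat.card (MulAction.fixedPoints Q 𝒞) := (h2.dvd_iff dvd_rfl).mp h1
  refine h3.trans (dvd_of_eq (Nat.card_eq_of_bijective
    (fun C => (⟨C.1.1.map (P : Subgroup G).subtype,
      (C.1.1.equivMapOfInjective _ (P : Subgroup G).subtype_injective).isCyclic.mp C.1.2.1,
      by rw [Subgroup.card_map_of_injective (P : Subgroup G).subtype_injective, C.1.2.2], fun w hw => by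
        have := congrArg (fun D : 𝒞 => D.1.map (P : Subgroup G).subtype) (C.2 ⟨w, hw⟩)
        show _ = _
        refine Eq.trans ?_ this
        show _ = ((C.1.1).map (MulAut.conj (⟨w, hw⟩ : Q)).toMonoidHom).map (P : Subgroup G).subtype
        rw [Subgroup.map_map, Subgroup.map_map]
        congr 1⟩ : {C : Subgroup G // IsCyclic C ∧ Nat.card C = p ^ s ∧
          ∀ w ∈ (P : Subgroup G), C.map (MulAut.conj w).toMonoidHom = C})) ⟨?_, ?_⟩))
  · intro a b h
    exact Subtype.ext (Subtype.ext (Subgroup.map_injective (P : Subgroup G).subtype_injective (congrArg Subtype.val h)))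
  · rintro ⟨C, hCc, hCn, hCf⟩
    have hnorm : (P : Subgroup G) ≤ Subgroup.normalizer (C : Set G) := fun w hw => by
      rw [Subgroup.mem_normalizer_iff]
      intro z
      constructor
      · exact fun hz => (hCf w hw).le ⟨z, hz, rfl⟩
      · intro hz
        obtain ⟨z', hz', hzz⟩ := (hCf w hw).ge hz
        rwa [← (MulAut.conj w).injective (hzz : MulAut.conj w z' = MulAut.conj w z)]
    have hsup : IsPGroup p ((P : Subgroup G) ⊔ C : Subgroup G) :=
      P.2.to_sup_of_normal_right' (IsPGroup.of_card hCn) hnorm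
    have hCP : C ≤ (P : Subgroup G) := sup_eq_left.mp (P.3 hsup le_sup_left)
    have hmap := Subgroup.map_subgroupOf_eq_of_le hCP
    refine ⟨⟨⟨C.subgroupOf (P : Subgroup G), (Subgroup.subgroupOfEquivOfLe hCP).isCyclic.mpr hCc,
      by rw [Nat.card_congr (Subgroup.subgroupOfEquivOfLe hCP).toEquiv, hCn]⟩, fun w => Subtype.ext ?_⟩,
      Subtype.ext hmap⟩
    show (C.subgroupOf (P : Subgroup G)).map (MulAut.conj w).toMonoidHom = C.subgroupOf (P : Subgroup G)
    refine Subgroup.map_injective (P : Subgroup G).subtype_injective ?_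
    rw [hmap, Subgroup.map_map]
    conv_rhs => rw [← hCf w w.2, ← hmap, Subgroup.map_map]
    congr 1

theorem main {G : Type u} [Group G] [Finite G] (p : ℕ) [hp : Fact p.Prime] (hodd : p ≠ 2) (P : Sylow p G)
    (hP : ¬ IsCyclic ↥(P : Subgroup G)) (s m : ℕ) (hs : 1 < s) (hm : Nat.Coprime p m) :
    p ^ s ∣ Nat.card {g : G // orderOf g = p ^ s * m} := by
  classical
  let Pz := {z : Subgroup G × G // orderOf z.2 = m ∧ IsCyclic z.1 ∧ Nat.card z.1 = p ^ s ∧
    ∀ x ∈ z.1, x * z.2 = z.2 * x}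
  haveI := Fintype.ofFinite Pz
  have hcop : (p ^ s).Coprime m := hm.pow_left s
  obtain ⟨e₁, h1a, h1b⟩ := Nat.chineseRemainder hcop 1 0
  obtain ⟨e₂, h2a, h2b⟩ := Nat.chineseRemainder hcop 0 1
  have hcount : Nat.card {g : G // orderOf g = p ^ s * m} = Nat.card Pz * (p ^ s).totient := by
    let Ps := {z : G × G // orderOf z.1 = p ^ s ∧ orderOf z.2 = m ∧ Commute z.1 z.2}
    have key : ∀ u v : G, orderOf u = p ^ s → orderOf v = m → Commute u v →
        (u * v) ^ e₁ = u ∧ (u * v) ^ e₂ = v := by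
      intro u v hu hv huv
      have hu' : u ^ p ^ s = 1 := hu ▸ pow_orderOf_eq_one u
      have hv' : v ^ m = 1 := hv ▸ pow_orderOf_eq_one v
      constructor
      · rw [huv.mul_pow, pow_eq_pow_mod e₁ hu', pow_eq_pow_mod e₁ hv', h1a, h1b, ← pow_eq_pow_mod 1 hu',
          ← pow_eq_pow_mod 0 hv', pow_one, pow_zero, mul_one]
      · rw [huv.mul_pow, pow_eq_pow_mod e₂ hu', pow_eq_pow_mod e₂ hv', h2a, h2b, ← pow_eq_pow_mod 0 hu',
          ← pow_eq_pow_mod 1 hv', pow_one, pow_zero, one_mul]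
    have hsum : ∀ g : G, orderOf g = p ^ s * m → g ^ e₁ * g ^ e₂ = g := by
      intro g hg
      have h1 : e₁ + e₂ ≡ 1 [MOD p ^ s * m] := by
        rw [← Nat.modEq_and_modEq_iff_modEq_mul hcop]
        exact ⟨h1a.add h2a, h1b.add h2b⟩
      have hg' : g ^ (p ^ s * m) = 1 := hg ▸ pow_orderOf_eq_one g
      rw [← pow_add, pow_eq_pow_mod _ hg', h1, ← pow_eq_pow_mod 1 hg', pow_one]
    have hord : ∀ g : G, orderOf g = p ^ s * m → orderOf (g ^ e₁) = p ^ s ∧ orderOf (g ^ e₂) = m := by
      intro g hg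
      have hg' : g ^ (p ^ s * m) = 1 := hg ▸ pow_orderOf_eq_one g
      obtain ⟨a, ha⟩ := Nat.modEq_zero_iff_dvd.mp h1b
      obtain ⟨b, hb⟩ := Nat.modEq_zero_iff_dvd.mp h2a
      have d1 : orderOf (g ^ e₁) ∣ p ^ s := orderOf_dvd_of_pow_eq_one (by
        rw [← pow_mul, ha, show m * a * p ^ s = p ^ s * m * a by ring, pow_mul, hg', one_pow])
      have d2 : orderOf (g ^ e₂) ∣ m := orderOf_dvd_of_pow_eq_one (by
        rw [← pow_mul, hb, show p ^ s * b * m = p ^ s * m * b by ring, pow_mul, hg', one_pow])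
      have hmul : orderOf (g ^ e₁) * orderOf (g ^ e₂) = p ^ s * m := by
        rw [← (Commute.pow_pow_self g e₁ e₂).orderOf_mul_eq_mul_orderOf_of_coprime
          (Nat.Coprime.coprime_dvd_left d1 (hcop.coprime_dvd_right d2)), hsum g hg, hg]
      refine ⟨Nat.dvd_antisymm d1 ?_, Nat.dvd_antisymm d2 ?_⟩
      · exact ((hcop.coprime_dvd_right d2)).dvd_of_dvd_mul_right ⟨m, hmul⟩
      · exact ((hcop.coprime_dvd_left d1).symm).dvd_of_dvd_mul_left ⟨p ^ s, hmul.trans (mul_comm _ _)⟩
    let ePs : {g : G // orderOf g = p ^ s * m} ≃ Ps :=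
      { toFun := fun g => ⟨(g.1 ^ e₁, g.1 ^ e₂), (hord g.1 g.2).1, (hord g.1 g.2).2, Commute.pow_pow_self _ _ _⟩
        invFun := fun z => ⟨z.1.1 * z.1.2, by
          rw [z.2.2.2.orderOf_mul_eq_mul_orderOf_of_coprime (by rw [z.2.1, z.2.2.1]; exact hcop), z.2.1, z.2.2.1]⟩
        left_inv := fun g => Subtype.ext (hsum g.1 g.2)
        right_inv := fun z => Subtype.ext (Prod.ext (key _ _ z.2.1 z.2.2.1 z.2.2.2).1 (key _ _ z.2.1 z.2.2.1 z.2.2.2).2) }
    let ePz : Ps ≃ Σ z : Pz, {x : G // Subgroup.zpowers x = z.1.1} :=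
      { toFun := fun w => ⟨⟨(Subgroup.zpowers w.1.1, w.1.2), w.2.2.1, inferInstance, by rw [Nat.card_zpowers, w.2.1],
            fun x hx => by obtain ⟨i, rfl⟩ := hx; exact (w.2.2.2.zpow_left i).eq⟩, w.1.1, rfl⟩
        invFun := fun z => ⟨(z.2.1, z.1.1.2), by rw [← Nat.card_zpowers, z.2.2, z.1.2.2.2.1], z.1.2.1,
          z.1.2.2.2.2 _ (z.2.2.le (Subgroup.mem_zpowers _))⟩
        left_inv := fun w => rfl
        right_inv := fun z => by obtain ⟨⟨⟨C, v⟩, hC⟩, ⟨x, hx⟩⟩ := z; dsimp only at hx; subst hx; rfl }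
    rw [Nat.card_congr (ePs.trans ePz), Nat.card_sigma,
      Finset.sum_congr rfl fun z _ => ((@zpowers_fibre _ _ _ z.1.1 z.2.2.1 _ z.2.2.2.1)), Finset.sum_const,
      Finset.card_univ, smul_eq_mul, ← Nat.card_eq_fintype_card]
  let act : ↥(P : Subgroup G) → Pz → Pz := fun w z =>
    ⟨(z.1.1.map (MulAut.conj (w : G)).toMonoidHom, MulAut.conj (w : G) z.1.2),
      by rw [MulEquiv.orderOf_eq]; exact z.2.1,
      (z.1.1.equivMapOfInjective _ (MulAut.conj (w : G)).injective).isCyclic.mp z.2.2.1,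
      by rw [Subgroup.card_map_of_injective (MulAut.conj (w : G)).injective, z.2.2.2.1],
      by
        rintro _ ⟨x, hx, rfl⟩
        show MulAut.conj (w : G) x * _ = _
        rw [← map_mul, z.2.2.2.2 x hx, map_mul]
        rfl⟩
  letI : SMul ↥(P : Subgroup G) Pz := ⟨act⟩
  letI : MulAction ↥(P : Subgroup G) Pz :=
    { one_smul := fun z => Subtype.ext (Prod.ext (by show z.1.1.map _ = z.1.1; ext y; simp) (by show MulAut.conj _ _ = _; simp))
      mul_smul := fun a b z => Subtype.ext (Prod.ext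
        (by show z.1.1.map _ = (z.1.1.map _).map _; rw [Subgroup.map_map]; congr 1; ext y; simp [mul_assoc])
        (by show MulAut.conj _ _ = MulAut.conj _ (MulAut.conj _ _); simp [mul_assoc])) }
  have h1 := P.2.card_modEq_card_fixedPoints Pz
  let 𝒟 := {C : Subgroup G // IsCyclic C ∧ Nat.card C = p ^ s ∧
      ∀ w ∈ (P : Subgroup G), C.map (MulAut.conj w).toMonoidHom = C}
  have hfix : Nat.card (MulAction.fixedPoints ↥(P : Subgroup G) Pz) =
      Nat.card ({v : G // orderOf v = m ∧ ∀ w ∈ (P : Subgroup G), w * v = v * w} × 𝒟) := by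
    refine Nat.card_congr
      { toFun := fun z => (⟨z.1.1.2, z.1.2.1, fun w hw => ?_⟩, ⟨z.1.1.1, z.1.2.2.1, z.1.2.2.2.1, fun w hw =>
          congrArg (fun t : Pz => t.1.1) (z.2 ⟨w, hw⟩)⟩)
        invFun := fun t => ⟨⟨(t.2.1, t.1.1), t.1.2.1, t.2.2.1, t.2.2.2.1, ?_⟩, ?_⟩
        left_inv := fun z => rfl
        right_inv := fun t => rfl }
    · have h := congrArg (fun t : Pz => t.1.2) (z.2 ⟨w, hw⟩)
      exact mul_inv_eq_iff_eq_mul.mp h
    · intro x hx
      have hsup : IsPGroup p ((P : Subgroup G) ⊔ t.2.1 : Subgroup G) :=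
        P.2.to_sup_of_normal_right' (IsPGroup.of_card t.2.2.2.1) fun w hw => by
          rw [Subgroup.mem_normalizer_iff]
          intro z
          refine ⟨fun hz => (t.2.2.2.2 w hw).le ⟨z, hz, rfl⟩, fun hz => ?_⟩
          obtain ⟨z', hz', hzz⟩ := (t.2.2.2.2 w hw).ge hz
          rwa [← (MulAut.conj w).injective (hzz : MulAut.conj w z' = MulAut.conj w z)]
      exact t.1.2.2 x (sup_eq_left.mp (P.3 hsup le_sup_left) hx)
    · intro w
      exact Subtype.ext (Prod.ext (t.2.2.2.2 w w.2) (mul_inv_eq_iff_eq_mul.mpr (t.1.2.2 w w.2)))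
  have h2 : p ∣ Nat.card Pz := (h1.dvd_iff dvd_rfl).mpr (by
    rw [hfix, Nat.card_prod]
    exact Dvd.dvd.mul_left (cyc_count hodd P hP hs) _)
  obtain ⟨k, hk⟩ := h2
  rw [hcount, hk, Nat.totient_prime_pow hp.out (by omega)]
  refine ⟨k * (p - 1), ?_⟩
  obtain ⟨t, rfl⟩ : ∃ t, s = t + 1 := ⟨s - 1, by omega⟩
  rw [Nat.add_sub_cancel, pow_succ]
  ring

end Aux

/-- Let G be a finite group, p an odd prime dividing the order of G whose Sylow p-subgroups are not cyclic, and n = p^s·m with s > 1 and m coprime to p. Then the number of elements of G of order n is a multiple of p^s. -/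
theorem result {G : Type*} [Group G] [Finite G] (p : ℕ) [Fact p.Prime] (hodd : p ≠ 2) (hpG : p ∣ Nat.card G)
    (P : Sylow p G) (hP : ¬ IsCyclic ↥(P : Subgroup G)) (s m : ℕ) (hs : 1 < s) (hm : Nat.Coprime p m) :
    p ^ s ∣ Nat.card {g : G // orderOf g = p ^ s * m} := by

  exact Aux.main p hodd P hP s m hs hm

end Cfsg.Agent.S4003
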