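import Cfsg.Statements.S4004
import Cfsg.Agent.S3996
import Cfsg.Agent.Lib.DisconnectedSolvable
import Cfsg.Agent.Lib.Frobenius.Complement
import Cfsg.Agent.Lib.ZJ.Complement
import Mathlib

set_option autoImplicit false
open Cfsg

namespace Cfsg.Agent.S4004

open Cfsg.Agent.S3996
open scoped Classical IsMulCommutative

universe u

variable {G : Type u} [Group G] [Finite G]

/-- Two prime orders cannot share their number when every odd prime shares it. -/
theorem no_common (hT : TwoVal G) (h2 : ¬ 2 ∣ Nat.card G) {p q : ℕ} (hp : OP G p) (hq : OP G q) (hpq : p ≠ q)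
    (hall : ∀ s, OP G s → cnt G s = cnt G p) : False := by
  have h := Nat.le_of_dvd (Nat.succ_pos _) (odd_part_dvd hT hall hp hq hpq dvd_rfl h2)
  have hb := sum_le (G := G) (m := p * q) (mul_ne_zero hp.1.ne_zero hq.1.ne_zero)
  rw [sum_two_primes _ hp.1 hq.1 hpq, cnt_one, hall q hq] at hb
  have := Nat.pos_of_ne_zero (cnt_prime hp.1 hp.2.2)
  omega

/-- The number of elements of order `a * b` is not the number of elements of order `a`. -/
theorem pair_ne {a b : ℕ} (ha : OP G a) (hb : OP G b) (hab : a ≠ b) (h0 : cnt G (a * b) ≠ 0)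
    (e : cnt G (a * b) = cnt G a) : False := by
  haveI := Fact.mk ha.1
  have h1 := pq_cast ha.1 hb.1 hab h0
  rw [e, prime_cast ha.1 ha.2.2] at h1
  have hv : (cnt G b : ZMod a) = 1 := by linear_combination h1
  -- every element of order `a` centralises one of order `b`
  have key : ∀ x : G, orderOf x = a → ∃ y : G, orderOf y = b ∧ Commute x y := by
    intro x hx
    let X := {g : G // orderOf g = b}
    letI : MulAction (Subgroup.zpowers x) X :=
      { smul := fun c g => ⟨(c : G) * g.1 * (c : G)⁻¹,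
          (show orderOf (MulAut.conj (c : G) g.1) = b by rw [MulEquiv.orderOf_eq, g.2])⟩
        one_smul := fun g => Subtype.ext (by show (1 : G) * g.1 * (1 : G)⁻¹ = g.1; group)
        mul_smul := fun c d g => Subtype.ext (by
          show ((c : G) * d) * g.1 * ((c : G) * d)⁻¹ = (c : G) * ((d : G) * g.1 * (d : G)⁻¹) * (c : G)⁻¹
          group) }
    have hP : IsPGroup a (Subgroup.zpowers x) := IsPGroup.of_card (n := 1) (by rw [Nat.card_zpowers, hx, pow_one])
    have hm := hP.card_modEq_card_fixedPoints X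
    by_contra hno
    push Not at hno
    haveI : IsEmpty (MulAction.fixedPoints (Subgroup.zpowers x) X) := ⟨fun g => by
      have h1 : x * g.1.1 * x⁻¹ = g.1.1 := congrArg Subtype.val (g.2 ⟨x, Subgroup.mem_zpowers x⟩)
      refine hno g.1.1 g.1.2 ?_
      show x * g.1.1 = g.1.1 * x
      calc x * g.1.1 = x * g.1.1 * x⁻¹ * x := by group
        _ = g.1.1 * x := by rw [h1]⟩
    rw [Nat.card_of_isEmpty (α := MulAction.fixedPoints (Subgroup.zpowers x) X)] at hm
    have h3 := (ZMod.natCast_eq_zero_iff _ _).mpr (Nat.modEq_zero_iff_dvd.mp hm)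
    rw [show Nat.card X = cnt G b from rfl, hv] at h3
    exact one_ne_zero h3
  choose f hf hfc using key
  have hcop : Nat.Coprime b a := (Nat.coprime_primes hb.1 ha.1).mpr (Ne.symm hab)
  have hb2 : Nat.Coprime b 2 := (Nat.coprime_primes hb.1 Nat.prime_two).mpr hb.2.1
  let F : {x : G // orderOf x = a} × Bool → {g : G // orderOf g = a * b} := fun z =>
    ⟨z.1.1 * f z.1.1 z.1.2 ^ (if z.2 then 1 else 2), by
      have ho : orderOf (f z.1.1 z.1.2 ^ (if z.2 then 1 else 2)) = b := by
        rw [Nat.Coprime.orderOf_pow, hf]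
        rw [hf]
        split_ifs
        · exact Nat.coprime_one_right _
        · exact hb2
      rw [((hfc z.1.1 z.1.2).pow_right _).orderOf_mul_eq_mul_orderOf_of_coprime
        (by rw [ho, z.1.2]; exact hcop.symm), ho, z.1.2]⟩
  obtain ⟨s, hs⟩ : ∃ s, b * s % a = 1 := by
    obtain ⟨s, -, hs⟩ := Nat.exists_mul_mod_eq_one_of_coprime hcop ha.1.one_lt
    exact ⟨s, hs⟩
  have hrec : ∀ z, (F z).1 ^ (b * s) = z.1.1 := fun z => by
    show (z.1.1 * f z.1.1 z.1.2 ^ (if z.2 then 1 else 2)) ^ (b * s) = z.1.1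
    have hfb : (f z.1.1 z.1.2 ^ (if z.2 then 1 else 2)) ^ (b * s) = 1 := by
      refine orderOf_dvd_iff_pow_eq_one.mp (dvd_trans (orderOf_pow_dvd _) ?_)
      rw [hf]; exact dvd_mul_right b s
    rw [((hfc z.1.1 z.1.2).pow_right _).mul_pow, hfb, mul_one, ← pow_mod_orderOf, z.1.2, hs, pow_one]
  have hinj : Function.Injective F := fun z z' h => by
    have e1 : z.1 = z'.1 := Subtype.ext (by rw [← hrec z, ← hrec z', h])
    refine Prod.ext e1 ?_
    have h' := congrArg Subtype.val h
    simp only [F] at h'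
    rw [← e1] at h'
    have h'' := mul_left_cancel h'
    by_contra hne
    have h1 : f z.1.1 z.1.2 = 1 := by
      cases h1 : z.2 <;> cases h2 : z'.2 <;> simp_all [pow_two]
    have := hf z.1.1 z.1.2
    rw [h1, orderOf_one] at this
    exact hb.1.ne_one this.symm
  have hle := Nat.card_le_card_of_injective F hinj
  rw [Nat.card_prod, Nat.card_eq_fintype_card (α := Bool), Fintype.card_bool] at hle
  change cnt G a * 2 ≤ cnt G (a * b) at hle
  have := Nat.pos_of_ne_zero (cnt_prime ha.1 ha.2.2)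
  omega

/-- With two odd primes of different numbers the element orders are primes. -/
theorem prime_orders (hT : TwoVal G) {p q : ℕ} (hp : OP G p) (hq : OP G q) (hpq : p ≠ q)
    (hne : cnt G p ≠ cnt G q) (honly : ∀ s : ℕ, s.Prime → s ∣ Nat.card G → s = p ∨ s = q) (g : G) :
    orderOf g = 1 ∨ orderOf g = p ∨ orderOf g = q := by
  have hp0 := cnt_prime hp.1 hp.2.2
  have hq0 := cnt_prime hq.1 hq.2.2
  have hno : cnt G (p * q) = 0 := by
    by_contra h0
    rcases pick hT hp.lt hq.lt (mul_lt hp.lt hq.1.one_le) hp0 hq0 h0 hne with e | e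
    · exact pair_ne hp hq hpq h0 e
    · exact pair_ne hq hp (Ne.symm hpq) (by rwa [mul_comm]) (by rwa [mul_comm])
  have hsq : ∀ {a b : ℕ}, OP G a → OP G b → a ≠ b → cnt G a ≠ cnt G b → cnt G (a * b) = 0 → cnt G (a * a) = 0 := by
    intro a b ha hb hab hne hno
    by_contra h0
    haveI := Fact.mk ha.1
    haveI := Fact.mk hb.1
    have h1 := frobZ (G := G) (dvd_mul_right a a) (dvd_card h0)
    rw [show a * a = a ^ 2 by ring, Nat.sum_divisors_prime_pow ha.1, Finset.sum_range_succ, Finset.sum_range_succ,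
      Finset.sum_range_succ, Finset.sum_range_zero, pow_zero, pow_one, zero_add, cnt_one, Nat.cast_one,
      prime_cast ha.1 ha.2.2, show a ^ 2 = a * a by ring] at h1
    have hba : ¬ b ∣ a * a := fun h => by
      rcases hb.1.dvd_mul.mp h with h | h <;> exact hab ((Nat.prime_dvd_prime_iff_eq hb.1 ha.1).mp h).symm
    have h3 := (ZMod.natCast_eq_zero_iff _ _).mpr (dvd_cnt hb.1 hb.2.2 hba (by
      by_contra h
      exact cnt_of_dvd (d := a * b) (Nat.mul_dvd_mul_right (dvd_mul_right a a) b) h hno))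
    rcases pick hT ha.lt hb.lt (mul_lt ha.lt ha.1.one_le) (cnt_prime ha.1 ha.2.2) (cnt_prime hb.1 hb.2.2) h0 hne
      with e | e
    · rw [e, prime_cast ha.1 ha.2.2] at h1
      exact one_ne_zero (α := ZMod a) (by linear_combination -h1)
    · rw [e, prime_cast hb.1 hb.2.2] at h3
      exact neg_ne_zero.mpr one_ne_zero h3
  have hpp := hsq hp hq hpq hne hno
  have hqq := hsq hq hp (Ne.symm hpq) (Ne.symm hne) (by rwa [mul_comm])
  have hg : cnt G (orderOf g) ≠ 0 := (cnt_ne_zero_iff _).mpr ⟨g, rfl⟩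
  have hd : orderOf g ∣ p * q := by
    rw [Nat.dvd_iff_prime_pow_dvd_dvd]
    intro s k hs hk
    rcases Nat.eq_zero_or_pos k with rfl | hk0
    · simp
    have hsq' := honly s hs (((dvd_pow_self s hk0.ne').trans hk).trans (orderOf_dvd_natCard g))
    have hk1 : k = 1 := by
      by_contra hk1
      have h := cnt_of_dvd (d := s * s) (dvd_trans (by
        rw [show s * s = s ^ 2 by ring]; exact pow_dvd_pow s (by omega)) hk) hg
      rcases hsq' with rfl | rfl
      · exact h hpp
      · exact h hqq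
    rw [hk1, pow_one]
    rcases hsq' with rfl | rfl
    · exact dvd_mul_right _ _
    · exact dvd_mul_left _ _
  obtain ⟨x, y, hx, hy, e⟩ := Nat.dvd_mul.mp hd
  rcases (Nat.dvd_prime hp.1).mp hx with rfl | rfl <;> rcases (Nat.dvd_prime hq.1).mp hy with rfl | rfl
  · left; simpa using e.symm
  · right; right; simpa using e.symm
  · right; left; simpa using e.symm
  · exact absurd hno (e ▸ hg)

/-- No module carries a Frobenius group of prime degree with all traces of the complements trivial. -/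
theorem norm_contra {H V : Type*} [Group H] [Finite H] [CommGroup V] (φ : H →* MulAut V) (Y : Subgroup H) [Y.Normal]
    {a b : ℕ} (hb : Nat.card Y = b) (ha : a.Prime) (x : H) (hx : orderOf x = a)
    (hcomm : ∀ e ∈ Y, ∀ j : ℕ, ¬ a ∣ j → Commute e (x ^ j) → e = 1)
    (htr : ∀ z : H, orderOf z = a → ∀ w : V, ∏ j ∈ Finset.range a, φ (z ^ j) w = 1)
    (hfpf : ∀ u : V, (∀ d ∈ Y, φ d u = u) → u = 1) (hV : ∀ w : V, w ^ b = 1 → w = 1) : ∀ w : V, w = 1 := by
  intro w
  letI := Fintype.ofFinite Y
  have hT : ∀ u : V, ∏ d : Y, φ (d : H) u = 1 := fun u => hfpf _ fun c hc => by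
    rw [map_prod]
    exact Fintype.prod_equiv (Equiv.mulLeft (⟨c, hc⟩ : Y)) _ _ fun d => by
      show φ c (φ (d : H) u) = φ (c * d) u
      rw [map_mul, MulAut.mul_apply]
  have hconj : ∀ (e : H) (j : ℕ), (e * x * e⁻¹) ^ j = e * x ^ j * e⁻¹ := fun e j => conj_pow
  have h1 : ∏ e : Y, ∏ j ∈ Finset.range a, φ ((e : H) * x ^ j * (e : H)⁻¹) w = 1 :=
    Finset.prod_eq_one fun e _ => by
      have := htr ((e : H) * x * (e : H)⁻¹) (by rw [← MulAut.conj_apply, MulEquiv.orderOf_eq, hx]) w
      simpa only [hconj] using this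
  rw [Finset.prod_comm, Finset.prod_eq_single_of_mem 0 (Finset.mem_range.mpr ha.pos)] at h1
  · simp only [pow_zero, mul_one, mul_inv_cancel, map_one, MulAut.one_apply, Finset.prod_const, Finset.card_univ,
      ← Nat.card_eq_fintype_card, hb] at h1
    exact hV w h1
  intro j hj hj0
  have hja : ¬ a ∣ j := fun h => hj0 (Nat.eq_zero_of_dvd_of_lt h (Finset.mem_range.mp hj))
  set c := x ^ j with hc
  let ψ : Y → Y := fun e => ⟨(e : H) * (c * (e : H)⁻¹ * c⁻¹), mul_mem e.2 (‹Y.Normal›.conj_mem _ (inv_mem e.2) c)⟩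
  have hψ : Function.Bijective ψ := Finite.injective_iff_bijective.mp fun e e' h => by
    have h' : (e : H) * (c * (e : H)⁻¹ * c⁻¹) = (e' : H) * (c * (e' : H)⁻¹ * c⁻¹) := congrArg Subtype.val h
    have hcm : Commute ((e' : H)⁻¹ * e) c := by
      show (e' : H)⁻¹ * e * c = c * ((e' : H)⁻¹ * e)
      calc (e' : H)⁻¹ * e * c = (e' : H)⁻¹ * ((e : H) * (c * (e : H)⁻¹ * c⁻¹)) * (c * e) := by group
        _ = (e' : H)⁻¹ * ((e' : H) * (c * (e' : H)⁻¹ * c⁻¹)) * (c * e) := by rw [h']
        _ = c * ((e' : H)⁻¹ * e) := by group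
    exact Subtype.ext (inv_mul_eq_one.mp (hcomm _ (mul_mem (inv_mem e'.2) e.2) j hja hcm)).symm
  have hsum : ∏ e : Y, φ ((e : H) * c * (e : H)⁻¹) w = ∏ d : Y, φ (d : H) (φ c w) :=
    Fintype.prod_bijective ψ hψ _ _ fun e => by
      show φ ((e : H) * c * (e : H)⁻¹) w = φ ((e : H) * (c * (e : H)⁻¹ * c⁻¹)) (φ c w)
      rw [← MulAut.mul_apply, ← map_mul]
      congr 2
      group
  rw [hsum, hT]

theorem mul_pow_conj (V : Subgroup G) [IsMulCommutative V] [V.Normal] (w : V) (g : G) (n : ℕ) :
    ((w : G) * g) ^ n = ((∏ j ∈ Finset.range n, (⟨g ^ j * w * (g ^ j)⁻¹, ‹V.Normal›.conj_mem w w.2 _⟩ : V) : V) : G) * g ^ n := by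
  induction n with
  | zero => simp
  | succ n ih =>
    rw [pow_succ, ih, Finset.prod_range_succ, Subgroup.coe_mul, pow_succ g n]
    group

/-- The Frobenius structure. -/
theorem structure_main [Group.IsSolvable G] {a b : ℕ} (ha : a.Prime) (hb : b.Prime) (hab : a ≠ b) (ha2 : a ≠ 2)
    (hb2 : b ≠ 2) (haG : a ∣ Nat.card G) (hbG : b ∣ Nat.card G)
    (ho : ∀ g : G, orderOf g = 1 ∨ orderOf g = a ∨ orderOf g = b) (hF : Cfsg.pCore a G ≠ ⊥) :
    ∃ C : Subgroup G, Cfsg.IsFrobeniusComplement C ∧ (Nat.card ↥C).Prime := by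
  haveI := Fact.mk ha
  haveI := Fact.mk hb
  set F := Cfsg.pCore a G with hFd
  haveI hFc : F.Characteristic := CfsgLib.pCore_characteristic a
  haveI hFn : F.Normal := Subgroup.normal_of_characteristic F
  have hFp : IsPGroup a F := CfsgLib.isPGroup_pCore a
  have honly : ∀ s : ℕ, s.Prime → s ∣ Nat.card G → s = a ∨ s = b := fun s hs hd => by
    haveI := Fact.mk hs
    obtain ⟨g, hg⟩ := exists_prime_orderOf_dvd_card' (G := G) s hd
    rcases ho g with e | e | e <;> rw [hg] at e
    · exact absurd e hs.ne_one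
    · exact Or.inl e
    · exact Or.inr e
  have hcommute : ∀ {x y : G}, orderOf x = a → orderOf y = b → ¬ Commute x y := fun {x y} hx hy hc => by
    have h := hc.orderOf_mul_eq_mul_orderOf_of_coprime (by rw [hx, hy]; exact (Nat.coprime_primes ha hb).mpr hab)
    rw [hx, hy] at h
    have h1 := ha.two_le
    have h2 := hb.two_le
    rcases ho (x * y) with e | e | e <;> rw [e] at h
    · nlinarith
    · nlinarith
    · nlinarith
  -- the centre of `F`
  set V := (Subgroup.center F).map F.subtype with hVd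
  haveI hVc : IsMulCommutative V := ⟨⟨by
    rintro ⟨u, hu⟩ ⟨v, hv⟩
    obtain ⟨u', hu', rfl⟩ := hu
    obtain ⟨v', hv', rfl⟩ := hv
    apply Subtype.ext
    show (u' : G) * v' = v' * u'
    exact congrArg Subtype.val (Subgroup.mem_center_iff.mp hv' u')⟩⟩
  haveI hVn : V.Normal := by
    haveI : V.Characteristic := inferInstance
    infer_instance
  have hV1 : V ≠ ⊥ := by
    haveI : Nontrivial F := Subgroup.nontrivial_iff_ne_bot _ |>.mpr hF
    intro e
    have := hFp.center_nontrivial
    exact (Subgroup.nontrivial_iff_ne_bot _).mp this ((Subgroup.map_eq_bot_iff_of_injective _ F.subtype_injective).mp e)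
  have hVF : V ≤ F := Subgroup.map_subtype_le _
  have hVo : ∀ v ∈ V, v ≠ 1 → orderOf v = a := fun v hv hv1 => by
    obtain ⟨k, hk⟩ := IsPGroup.iff_orderOf.mp hFp ⟨v, hVF hv⟩
    rw [Subgroup.orderOf_mk] at hk
    rcases ho v with e | e | e
    · exact absurd (orderOf_eq_one_iff.mp e) hv1
    · exact e
    · exact absurd ((Nat.prime_dvd_prime_iff_eq hb ha).mp (hb.dvd_of_dvd_pow (dvd_of_eq (e.symm.trans hk)))).symm hab
  -- a `b`-subgroup has order at most `b`
  have hcycle : ∀ (B : Subgroup G), IsPGroup b B → ∀ n, Nat.card B = b ^ n → n ≤ 1 := by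
    intro B hB n hn
    have hu := CfsgLib.Frob.uniqSub_of_fpf (V := V) hV1 (A := B)
      (le_top.trans (Subgroup.normalizer_eq_top_iff.mpr hVn).ge)
      (fun y hy hy1 => (Subgroup.eq_bot_iff_forall _).mpr fun v hvc => by
        obtain ⟨hv, hc⟩ := Subgroup.mem_inf.mp hvc
        rw [Subgroup.mem_centralizer_singleton_iff] at hc
        by_contra hv1
        have hy' : orderOf y = b := by
          obtain ⟨k, hk⟩ := IsPGroup.iff_orderOf.mp hB ⟨y, hy⟩
          rw [Subgroup.orderOf_mk] at hk
          rcases ho y with e | e | e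
          · exact absurd (orderOf_eq_one_iff.mp e) hy1
          · exact absurd ((Nat.prime_dvd_prime_iff_eq ha hb).mp (ha.dvd_of_dvd_pow (dvd_of_eq (e.symm.trans hk)))) hab
          · exact e
        exact hcommute (hVo v hv hv1) hy' hc)
      hB
    haveI hcyc1 : IsCyclic B := CfsgLib.Frob.isCyclic_of_uniq_odd hb2 hB hu
    obtain ⟨g, hg⟩ := IsCyclic.exists_generator (α := B)
    have hog : orderOf g = b ^ n := by rw [orderOf_eq_card_of_forall_mem_zpowers hg, hn]
    rw [← Subgroup.orderOf_coe] at hog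
    by_contra hn1
    have h2' : b ^ 2 ∣ orderOf (g : G) := hog ▸ pow_dvd_pow b (by omega)
    rcases ho (g : G) with e | e | e <;> rw [e] at h2'
    · exact hb.ne_one (Nat.dvd_one.mp ((dvd_pow_self b two_ne_zero).trans h2'))
    · exact hab ((Nat.prime_dvd_prime_iff_eq hb ha).mp ((dvd_pow_self b two_ne_zero).trans h2')).symm
    · have := Nat.le_of_dvd hb.pos h2'
      nlinarith [hb.two_le]
  obtain ⟨Q⟩ := (inferInstance : Nonempty (Sylow b G))
  have hQ : Nat.card (Q : Subgroup G) = b := by
    obtain ⟨n, hn⟩ := IsPGroup.iff_card.mp Q.2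
    have h1 : b ∣ Nat.card (Q : Subgroup G) := Q.dvd_card_of_dvd_card hbG
    rw [hn] at h1 ⊢
    have h2' := hcycle _ Q.2 n hn
    interval_cases n
    · exact absurd (Nat.dvd_one.mp (by simpa using h1)) hb.ne_one
    · exact pow_one b
  set π := QuotientGroup.mk' F
  have hπs : Function.Surjective π := QuotientGroup.mk'_surjective F
  by_cases hfull : a ∣ Nat.card (G ⧸ F)
  swap
  · -- `F` is a Sylow subgroup
    have hm : CfsgLib.DiscSol.NoMix G ({a} : Set ℕ) := by
      intro x p q hp hq hpA hqA hd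
      have hp' : p = a := hpA
      subst hp'
      rcases ho x with e | e | e <;> rw [e] at hd
      · exact hp.ne_one (Nat.dvd_one.mp ((dvd_mul_right p q).trans hd))
      · exact hqA ((Nat.prime_dvd_prime_iff_eq hq hp).mp ((dvd_mul_left q p).trans hd))
      · exact hab ((Nat.prime_dvd_prime_iff_eq hp hb).mp ((dvd_mul_right p q).trans hd))
    have hFt : F ≠ ⊤ := fun e => by
      obtain ⟨k, hk⟩ := IsPGroup.iff_card.mp hFp
      rw [e, Subgroup.card_top] at hk
      exact hab ((Nat.prime_dvd_prime_iff_eq hb ha).mp (hb.dvd_of_dvd_pow (hk ▸ hbG))).symm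
    have h1 : CfsgLib.DiscSol.PrimesIn ({a} : Set ℕ) (Nat.card F) := fun p hp hd => by
      obtain ⟨k, hk⟩ := IsPGroup.iff_card.mp hFp
      exact (Nat.prime_dvd_prime_iff_eq hp ha).mp (hp.dvd_of_dvd_pow (hk ▸ hd))
    have h2' : CfsgLib.DiscSol.PrimesIn ({a} : Set ℕ)ᶜ F.index := fun p hp hd => fun (e : p = a) => by
      rw [Subgroup.index_eq_card] at hd
      exact hfull (e ▸ hd)
    obtain ⟨C, hC, hcompl, -⟩ := CfsgLib.DiscSol.frob_split hm F hF hFt h1 h2'
    refine ⟨C, hC, ?_⟩
    have hCi : Nat.card C = F.index := (hcompl.symm.index_eq_card).symm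
    have hCb : IsPGroup b C := fun c => by
      rcases ho (c : G) with e | e | e
      · exact ⟨0, by rw [pow_zero, pow_one]; exact Subtype.ext (orderOf_eq_one_iff.mp e)⟩
      · exfalso
        exact h2' a ha (hCi ▸ e ▸ Subgroup.orderOf_dvd_natCard C c.2) rfl
      · exact ⟨1, by rw [pow_one]; exact Subtype.ext (by rw [Subgroup.coe_pow, ← e, pow_orderOf_eq_one]; rfl)⟩
    obtain ⟨n, hn⟩ := IsPGroup.iff_card.mp hCb
    have := hcycle C hCb n hn
    interval_cases n
    · rw [pow_zero] at hn
      exact absurd (Subgroup.eq_bot_of_card_eq _ hn) hC.1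
    · rw [pow_one] at hn; rw [hn]; exact hb
  exfalso
  -- otherwise a Frobenius group of order `b * a` acts on the centre
  haveI hsolq : Group.IsSolvable (G ⧸ F) := Group.isSolvable_of_surjective (QuotientGroup.mk'_surjective F)
  haveI : Nontrivial (G ⧸ F) := Finite.one_lt_card_iff_nontrivial.mp
    (lt_of_lt_of_le ha.one_lt (Nat.le_of_dvd Nat.card_pos hfull))
  obtain ⟨r, hr, hrd⟩ := Nat.exists_prime_and_dvd (n := Nat.card (Cfsg.fittingSubgroup (G ⧸ F))) (fun e =>
    CfsgLib.DiscSol.fitting_ne_bot (Subgroup.eq_bot_of_card_eq _ e))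
  haveI := Fact.mk hr
  have hrne : Cfsg.pCore r (G ⧸ F) ≠ ⊥ := fun e => CfsgLib.not_dvd_card_fitting_of_pCore_eq_bot e hrd
  have hrb : r = b := by
    refine (honly r hr ?_).resolve_left fun e => hrne (by rw [e]; exact CfsgLib.ZJ.pCore_quotient_pCore_eq_bot)
    exact hrd.trans ((Subgroup.card_subgroup_dvd_card _).trans (Subgroup.card_quotient_dvd_card F))
  subst hrb
  set Y := Cfsg.pCore r (G ⧸ F)
  haveI : Y.Characteristic := CfsgLib.pCore_characteristic r
  haveI hYn : Y.Normal := Subgroup.normal_of_characteristic Y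
  have hY : Nat.card Y = r := by
    obtain ⟨n, hn⟩ := IsPGroup.iff_card.mp (CfsgLib.isPGroup_pCore (G := G ⧸ F) r)
    have h2' : r ^ n ∣ r := by
      refine dvd_trans ?_ (dvd_of_eq hQ)
      rw [← hn]
      rw [hn]
      refine Q.pow_dvd_card_of_pow_dvd_card (n := n) ?_
      rw [← hn]
      exact (Subgroup.card_subgroup_dvd_card _).trans (Subgroup.card_quotient_dvd_card F)
    rcases (Nat.dvd_prime hr).mp h2' with e | e
    · exact absurd (Subgroup.eq_bot_of_card_eq _ (hn.trans e)) hrne
    · exact hn.trans e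
  have hoq : ∀ z : G ⧸ F, orderOf z = 1 ∨ orderOf z = a ∨ orderOf z = r := fun z => by
    obtain ⟨g, rfl⟩ := hπs z
    have h := orderOf_map_dvd π g
    rcases ho g with e | e | e <;> rw [e] at h
    · exact Or.inl (Nat.dvd_one.mp h)
    · rcases (Nat.dvd_prime ha).mp h with h | h
      · exact Or.inl h
      · exact Or.inr (Or.inl h)
    · rcases (Nat.dvd_prime hr).mp h with h | h
      · exact Or.inl h
      · exact Or.inr (Or.inr h)
  obtain ⟨x, hx⟩ := exists_prime_orderOf_dvd_card' (G := G ⧸ F) a hfull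
  -- the action on the centre
  have hker : F ≤ (MulAut.conjNormal (H := V)).ker := fun f hf => by
    rw [MonoidHom.mem_ker]
    ext v
    obtain ⟨u, hu, e⟩ := v.2
    have hc : f * (u : G) = u * f := congrArg Subtype.val (Subgroup.mem_center_iff.mp hu ⟨f, hf⟩)
    have e' : (v : G) = u := e.symm
    rw [MulAut.conjNormal_apply, MulAut.one_apply, e', hc, mul_inv_cancel_right]
  let φ := QuotientGroup.lift F (MulAut.conjNormal (H := V)) hker
  have hVall : ∀ w : V, w = 1 := by
    refine norm_contra φ Y hY ha x hx (fun e he j hj hc => ?_) (fun z hz w => ?_) (fun u hu => ?_) (fun w hw => ?_)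
    · by_contra he1
      have hre : orderOf e = r := ((Nat.dvd_prime hr).mp (hY ▸ Subgroup.orderOf_dvd_natCard Y he)).resolve_left
        (mt orderOf_eq_one_iff.mp he1)
      have hxj : orderOf (x ^ j) = a := by
        rw [Nat.Coprime.orderOf_pow, hx]
        rw [hx]
        exact (ha.coprime_iff_not_dvd).mpr hj
      have h := hc.orderOf_mul_eq_mul_orderOf_of_coprime (by rw [hre, hxj]; exact (Nat.coprime_primes hr ha).mpr (Ne.symm hab))
      rw [hre, hxj] at h
      have h1 := ha.two_le
      have h2 := hr.two_le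
      rcases hoq (e * x ^ j) with e' | e' | e' <;> rw [e'] at h
      · nlinarith
      · nlinarith
      · nlinarith
    · obtain ⟨g, rfl⟩ := hπs z
      have lift : ∀ g' : G, π g' = π g → g' ^ a = 1 := fun g' e => by
        have h := orderOf_map_dvd π g'
        rw [e, hz] at h
        rcases ho g' with e' | e' | e' <;> rw [e'] at h
        · exact absurd (Nat.dvd_one.mp h) ha.ne_one
        · rw [← e', pow_orderOf_eq_one]
        · exact absurd ((Nat.prime_dvd_prime_iff_eq ha hr).mp h) hab
      have h1 := mul_pow_conj V w g a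
      rw [lift g rfl, mul_one, lift ((w : G) * g) (by
        rw [map_mul, show π (w : G) = 1 from (QuotientGroup.eq_one_iff _).mpr (hVF w.2), one_mul])] at h1
      apply Subtype.ext
      refine Eq.trans (congrArg Subtype.val (Finset.prod_congr rfl fun j _ => ?_)) h1.symm
      show QuotientGroup.lift F _ hker ((π g) ^ j) w = _
      rw [← map_pow]
      rfl
    · by_contra hu1
      haveI : Fact (Nat.Prime r) := ⟨hr⟩
      obtain ⟨d, hd⟩ := exists_prime_orderOf_dvd_card' (G := Y) r (by rw [hY])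
      rw [← Subgroup.orderOf_coe] at hd
      obtain ⟨g, hg⟩ := hπs (d : G ⧸ F)
      have hgo : orderOf g = r := by
        have h := orderOf_map_dvd π g
        rw [hg, hd] at h
        rcases ho g with e | e | e <;> rw [e] at h
        · exact absurd (Nat.dvd_one.mp h) hr.ne_one
        · exact absurd ((Nat.prime_dvd_prime_iff_eq hr ha).mp h).symm hab
        · exact e
      refine hcommute (hVo u u.2 (fun e => hu1 (Subtype.ext e))) hgo ?_
      have h := congrArg Subtype.val (hu d d.2)
      rw [← hg] at h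
      have h' : g * (u : G) * g⁻¹ = u := h
      show (u : G) * g = g * u
      calc (u : G) * g = g * u * g⁻¹ * g := by rw [h']
        _ = g * u := by group
    · by_contra hw1
      have h := orderOf_dvd_of_pow_eq_one hw
      rw [← Subgroup.orderOf_coe, hVo w w.2 (fun e => hw1 (Subtype.ext e))] at h
      exact hab ((Nat.prime_dvd_prime_iff_eq ha hr).mp h)
  exact hV1 ((Subgroup.eq_bot_iff_forall V).mpr fun v hv => congrArg Subtype.val (hVall ⟨v, hv⟩))

/-- Let G be a finite group of odd order in which the numbers of elements of each order that occurs (the numbers #{g : o(g) = m}, m ranging over the element orders of G) take exactly three different values. Then the order of G has at most two prime divisors; and if it has exactly two, then every Sylow subgroup of G for a prime dividing its order has prime exponent, G is a Frobenius group, and some Frobenius complement of G has prime order. -/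
theorem result {G : Type*} [Group G] [Finite G] (hodd : Odd (Nat.card G)) (h : (((fun m : ℕ => Nat.card {g : G // orderOf g = m}) '' Set.range (orderOf : G → ℕ))).ncard = 3) :
    (Nat.card G).primeFactors.card ≤ 2 ∧
      ((Nat.card G).primeFactors.card = 2 →
        (∀ (p : ℕ) [Fact p.Prime] (P : Sylow p G), p ∣ Nat.card G → Monoid.exponent ↥(P : Subgroup G) = p) ∧
        ∃ C : Subgroup G, Cfsg.IsFrobeniusComplement C ∧ (Nat.card ↥C).Prime) := by
  classical
  set V := ((fun m : ℕ => Nat.card {g : G // orderOf g = m}) '' Set.range (orderOf : G → ℕ)) with hV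
  have memV : ∀ m, cnt G m ≠ 0 → cnt G m ∈ V := fun m hm => by
    obtain ⟨g, hg⟩ := (cnt_ne_zero_iff m).mp hm
    exact ⟨m, ⟨g, hg⟩, rfl⟩
  have h1V : 1 ∈ V := by
    have := memV 1 (by rw [cnt_one]; exact one_ne_zero)
    rwa [cnt_one] at this
  obtain ⟨a, b, hab, e⟩ := Set.ncard_eq_two.mp (show (V \ {1}).ncard = 2 by
    rw [Set.ncard_sdiff_singleton_of_mem h1V, h])
  have hT : TwoVal G := ⟨a, b, fun m hm h0 => by
    have he : 2 ∣ cnt G m := even_cnt hm
    have : cnt G m ∈ V \ {1} := ⟨memV m h0, fun e1 => by rw [Set.mem_singleton_iff] at e1; omega⟩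
    rw [e] at this
    simpa using this⟩
  have h2 : ¬ 2 ∣ Nat.card G := fun hd => (Nat.not_even_iff_odd.mpr hodd) (even_iff_two_dvd.mpr hd)
  have hOP : ∀ s ∈ (Nat.card G).primeFactors, OP G s := fun s hs =>
    ⟨Nat.prime_of_mem_primeFactors hs, fun e => h2 (e ▸ Nat.dvd_of_mem_primeFactors hs), Nat.dvd_of_mem_primeFactors hs⟩
  refine ⟨?_, fun hcard => ?_⟩
  · by_contra hgt
    obtain ⟨p, q, r, hp, hq, hr, hpq, hpr, hqr⟩ := Finset.two_lt_card_iff.mp (not_le.mp hgt)
    exact no_common hT h2 (hOP p hp) (hOP q hq) hpq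
      (share hT (hOP p hp) (hOP q hq) (hOP r hr) hpq hpr hqr)
  obtain ⟨p, q, hpq, epq⟩ := Finset.card_eq_two.mp hcard
  have hp := hOP p (by simp [epq])
  have hq := hOP q (by simp [epq])
  have honly : ∀ s : ℕ, s.Prime → s ∣ Nat.card G → s = p ∨ s = q := fun s hs hd => by
    have : s ∈ (Nat.card G).primeFactors := Nat.mem_primeFactors.mpr ⟨hs, hd, Nat.card_pos.ne'⟩
    simpa [epq] using this
  have hne : cnt G p ≠ cnt G q := fun heq => no_common hT h2 hp hq hpq fun s hs => by
    rcases honly s hs.1 hs.2.2 with rfl | rfl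
    · rfl
    · exact heq.symm
  have ho := prime_orders hT hp hq hpq hne honly
  refine ⟨fun s hs P hd => ?_, ?_⟩
  · refine Nat.dvd_antisymm (Monoid.exponent_dvd_of_forall_pow_eq_one fun g => ?_) ?_
    · obtain ⟨k, hk⟩ := IsPGroup.iff_orderOf.mp P.2 g
      have hg := ho (g : G)
      rw [Subgroup.orderOf_coe, hk] at hg
      refine orderOf_dvd_iff_pow_eq_one.mp ?_
      rw [hk]
      rcases hg with e | e | e
      · rw [e]; exact one_dvd _
      · rw [e]; exact dvd_of_eq ((Nat.prime_dvd_prime_iff_eq hp.1 hs.out).mp (hp.1.dvd_of_dvd_pow (dvd_of_eq e.symm)))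
      · rw [e]; exact dvd_of_eq ((Nat.prime_dvd_prime_iff_eq hq.1 hs.out).mp (hq.1.dvd_of_dvd_pow (dvd_of_eq e.symm)))
    · obtain ⟨g, hg⟩ := exists_prime_orderOf_dvd_card' (G := (P : Subgroup G)) s (P.dvd_card_of_dvd_card hd)
      have := Monoid.order_dvd_exponent g
      rwa [hg] at this
  haveI : Group.IsSolvable G := Cfsg.Agent.S3996.solvable_of_few fun x y z hx hy hz h1 h2' h3 => by
    rcases honly x hx h1 with rfl | rfl <;> rcases honly y hy h2' with e1 | e1 <;>
      rcases honly z hz h3 with e2 | e2 <;> simp_all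
  haveI : Nontrivial G := Finite.one_lt_card_iff_nontrivial.mp
    (lt_of_lt_of_le hp.1.one_lt (Nat.le_of_dvd Nat.card_pos hp.2.2))
  obtain ⟨r, hr, hrd⟩ := Nat.exists_prime_and_dvd (n := Nat.card (Cfsg.fittingSubgroup G)) (fun e =>
    CfsgLib.DiscSol.fitting_ne_bot (Subgroup.eq_bot_of_card_eq _ e))
  haveI := Fact.mk hr
  have hne' : Cfsg.pCore r G ≠ ⊥ := fun e => CfsgLib.not_dvd_card_fitting_of_pCore_eq_bot e hrd
  rcases honly r hr (hrd.trans (Subgroup.card_subgroup_dvd_card _)) with rfl | rfl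
  · exact structure_main hp.1 hq.1 hpq hp.2.1 hq.2.1 hp.2.2 hq.2.2 ho hne'
  · exact structure_main hq.1 hp.1 (Ne.symm hpq) hq.2.1 hp.2.1 hq.2.2 hp.2.2
      (fun g => by rcases ho g with e | e | e <;> tauto) hne'

end Cfsg.Agent.S4004
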