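import Cfsg.Statements.S4005
import Mathlib
import Cfsg.Agent.Lib.Elementary
import Cfsg.Agent.Lib.CoprimeGen
import Cfsg.Agent.Lib.CharTheory.Burnside
import Cfsg.Agent.Lib.PComplement
import Cfsg.Agent.Lib.CentrallyLarge
-- import your own Cfsg.Agent.* helpers here

set_option autoImplicit false
open Cfsg

namespace Cfsg.Agent.S4005

open CfsgLib

/-- A group of prime exponent acting fixed-point-freely on a nontrivial group of coprime order has prime order. -/
private theorem card_eq_of_fpf {G : Type*} [Group G] [Finite G] {q : ℕ} [Fact q.Prime] {K T : Subgroup G}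
    (hTK : T ≤ Subgroup.normalizer (K : Set G)) (hK : K ≠ ⊥) (hT1 : T ≠ ⊥) (hTp : IsPGroup q T)
    (hTexp : ∀ x ∈ T, x ^ q = 1) (hcop : (Nat.card T).Coprime (Nat.card K))
    (hfpf : ∀ a ∈ T, a ≠ 1 → K ⊓ Subgroup.centralizer {a} = ⊥) : Nat.card T = q := by
  have hnt : Nontrivial T := (Subgroup.nontrivial_iff_ne_bot T).mpr hT1
  have := hTp.center_nontrivial
  obtain ⟨⟨z, hzc⟩, hz1⟩ := exists_ne (1 : Subgroup.center T)
  replace hz1 : z ≠ 1 := fun h => hz1 (Subtype.ext h)
  have hzo : orderOf z = q := orderOf_eq_prime (Subtype.ext (hTexp z z.2)) hz1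
  suffices hall : ∀ y : T, y ∈ Subgroup.zpowers z by
    rw [← orderOf_eq_card_of_forall_mem_zpowers hall, hzo]
  intro y
  by_contra hy
  let A : Subgroup G := (Subgroup.zpowers z ⊔ Subgroup.zpowers y).map T.subtype
  have hA : IsMulCommutative A := by
    have h1 : Subgroup.zpowers z ⊔ Subgroup.zpowers y ≤ Subgroup.centralizer ((Subgroup.zpowers z ⊔ Subgroup.zpowers y : Subgroup T) : Set T) := by
      refine CfsgLib.CentrallyLarge.sup_abelian (Subgroup.le_centralizer _) (Subgroup.le_centralizer _) ?_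
      intro a ha w _
      obtain ⟨i, rfl⟩ := Subgroup.mem_zpowers_iff.mp ha
      exact (Subgroup.mem_center_iff.mp (Subgroup.zpow_mem _ hzc i) w)
    have := CfsgLib.CentrallyLarge.le_centralizer_iff_isMulCommutative.mpr h1
    infer_instance
  have hAnc : ¬ IsCyclic A := by
    intro hc
    obtain ⟨g, hg⟩ := hc.exists_generator
    have hgo : orderOf g ∣ q := by
      refine orderOf_dvd_of_pow_eq_one (Subtype.ext ?_)
      obtain ⟨w, -, e⟩ := g.2
      simpa [← e] using hTexp w w.2
    have hcard : Nat.card A ∣ q := orderOf_eq_card_of_forall_mem_zpowers hg ▸ hgo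
    rw [Subgroup.card_map_of_injective T.subtype_injective] at hcard
    have h2 : Subgroup.zpowers z = Subgroup.zpowers z ⊔ Subgroup.zpowers y :=
      Subgroup.eq_of_le_of_card_ge le_sup_left ((Nat.le_of_dvd (Fact.out : q.Prime).pos hcard).trans_eq
        ((Nat.card_zpowers z).trans hzo).symm)
    exact hy (h2 ▸ Subgroup.mem_sup_right (Subgroup.mem_zpowers y))
  have hgen := CfsgLib.coprime_generated_by_centralizers (A := A) (K := K) hAnc
    ((Subgroup.map_subtype_le _).trans hTK) (hcop.coprime_dvd_left (Subgroup.card_dvd_of_le (Subgroup.map_subtype_le _)))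
  refine hK (eq_bot_iff.mpr (hgen.symm.trans_le (iSup₂_le fun a ha => (hfpf a ?_ ha.2).le)))
  exact Subgroup.map_subtype_le _ ha.1

/-- A finite group whose set of element orders is exactly {1, 2, 3} has either a normal elementary abelian 3-subgroup of index 2 or a normal elementary abelian 2-subgroup of index 3. -/
theorem result {G : Type*} [Group G] [Finite G] (h : Set.range (orderOf : G → ℕ) = {k : ℕ | 1 ≤ k ∧ k ≤ 3}) :
    (∃ N : Subgroup G, N.Normal ∧ Cfsg.IsElementaryAbelian 3 N ∧ N.index = 2) ∨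
      (∃ N : Subgroup G, N.Normal ∧ Cfsg.IsElementaryAbelian 2 N ∧ N.index = 3) := by
  classical
  have := Fact.mk Nat.prime_two
  have := Fact.mk Nat.prime_three
  have hord : ∀ x : G, orderOf x = 1 ∨ orderOf x = 2 ∨ orderOf x = 3 := by
    intro x
    have : orderOf x ∈ {k : ℕ | 1 ≤ k ∧ k ≤ 3} := h ▸ Set.mem_range_self x
    obtain ⟨h1, h2⟩ := this
    omega
  obtain ⟨u, hu⟩ : ∃ x : G, orderOf x = 2 := by
    have : (2 : ℕ) ∈ Set.range (orderOf : G → ℕ) := by rw [h]; exact ⟨by norm_num, by norm_num⟩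
    exact this
  obtain ⟨v, hv⟩ : ∃ x : G, orderOf x = 3 := by
    have : (3 : ℕ) ∈ Set.range (orderOf : G → ℕ) := by rw [h]; exact ⟨by norm_num, by norm_num⟩
    exact this
  -- commuting elements of orders two and three do not occur
  have hno6 : ∀ a b : G, orderOf a = 2 → orderOf b = 3 → ¬ Commute a b := by
    intro a b ha hb hab
    have := hab.orderOf_mul_eq_mul_orderOf_of_coprime (by rw [ha, hb]; norm_num)
    rcases hord (a * b) with h' | h' | h' <;> rw [h', ha, hb] at this <;> norm_num at this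
  have htwo : ∀ {H : Subgroup G}, IsPGroup 2 H → ∀ x ∈ H, x ^ 2 = 1 := by
    intro H hH x hx
    obtain ⟨j, hj⟩ := IsPGroup.iff_orderOf.mp hH ⟨x, hx⟩
    rw [Subgroup.orderOf_mk] at hj
    rcases hord x with h' | h' | h'
    · rw [orderOf_eq_one_iff.mp h', one_pow]
    · rw [← h', pow_orderOf_eq_one]
    · rw [h'] at hj
      exact absurd (Nat.prime_three.dvd_of_dvd_pow (hj ▸ dvd_rfl : 3 ∣ 2 ^ j)) (by norm_num)
  have hthree : ∀ {H : Subgroup G}, IsPGroup 3 H → ∀ x ∈ H, x ^ 3 = 1 := by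
    intro H hH x hx
    obtain ⟨j, hj⟩ := IsPGroup.iff_orderOf.mp hH ⟨x, hx⟩
    rw [Subgroup.orderOf_mk] at hj
    rcases hord x with h' | h' | h'
    · rw [orderOf_eq_one_iff.mp h', one_pow]
    · rw [h'] at hj
      exact absurd (Nat.prime_two.dvd_of_dvd_pow (hj ▸ dvd_rfl : 2 ∣ 3 ^ j)) (by norm_num)
    · rw [← h', pow_orderOf_eq_one]
  have hab2 : ∀ {H : Subgroup G}, IsPGroup 2 H → Cfsg.IsElementaryAbelian 2 H := fun {H} hH =>
    ⟨⟨⟨fun a b => by
      have hsq : ∀ c : H, c⁻¹ = c := fun c => by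
        rw [inv_eq_iff_mul_eq_one, ← pow_two]
        exact Subtype.ext (htwo hH c c.2)
      calc a * b = (a * b)⁻¹ := (hsq _).symm
        _ = b * a := by rw [mul_inv_rev, hsq, hsq]⟩⟩, htwo hH⟩
  have hprimes : ∀ q : ℕ, q.Prime → q ∣ Nat.card G → q = 2 ∨ q = 3 := by
    intro q hq hd
    have := Fact.mk hq
    obtain ⟨x, hx⟩ := exists_prime_orderOf_dvd_card' q hd
    rcases hord x with h' | h' | h' <;> rw [h'] at hx
    · exact absurd hx.symm hq.ne_one
    · exact Or.inl hx.symm
    · exact Or.inr hx.symm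
  obtain ⟨P⟩ : Nonempty (Sylow 2 G) := inferInstance
  obtain ⟨T⟩ : Nonempty (Sylow 3 G) := inferInstance
  have hidx : ∃ k, (P : Subgroup G).index = 3 ^ k := ⟨_, Nat.eq_prime_pow_of_unique_prime_dvd
    Subgroup.index_ne_zero_of_finite fun {d} hd hdi => (hprimes d hd (hdi.trans (Subgroup.index_dvd_card _))).resolve_left
      fun e => P.not_dvd_index (e ▸ hdi)⟩
  have hsol : Group.IsSolvable G := by
    obtain ⟨a, ha⟩ := P.2.exists_card_eq
    obtain ⟨b, hb⟩ := hidx
    refine CfsgLib.CharTheory.isSolvable_of_card_two_primes (p := 2) (q := 3) (a := a) (b := b) Nat.prime_two Nat.prime_three ?_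
    rw [← (P : Subgroup G).card_mul_index, ha, hb]
  have hnt : (⊤ : Subgroup G) ≠ ⊥ := fun e => by
    have := Subgroup.mem_bot.mp (e ▸ Subgroup.mem_top u)
    rw [this, orderOf_one] at hu
    norm_num at hu
  obtain ⟨N, hN, -, hN0, hmin⟩ := CfsgLib.exists_minimal_normal hnt
  obtain ⟨hNc, q, hq, hNq⟩ := CfsgLib.minimal_normal_elementary hN0 inferInstance hmin
  obtain ⟨⟨n₀, hn₀⟩, hn₀1⟩ := (Subgroup.ne_bot_iff_exists_ne_one).mp hN0
  have hn0o : orderOf n₀ = q := by
    have := Fact.mk hq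
    exact orderOf_eq_prime (hNq n₀ hn₀) (fun e => hn₀1 (Subtype.ext e))
  rcases hord n₀ with h' | h' | h' <;> rw [hn0o] at h'
  · exact absurd h' hq.ne_one
  · -- a normal 2-subgroup
    subst h'
    have hNp : IsPGroup 2 N := fun x => ⟨1, Subtype.ext (by simpa using hNq x x.2)⟩
    have hsub : ∀ R : Sylow 2 G, (R : Subgroup G) = Subgroup.centralizer ({n₀} : Set G) := by
      intro R
      refine (R.3 (fun x => ?_) fun x hx => ?_).symm
      · rcases hord (x : G) with h' | h' | h'
        · exact ⟨0, by simpa using orderOf_eq_one_iff.mp h'⟩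
        · exact ⟨1, Subtype.ext (by simpa using (h' ▸ pow_orderOf_eq_one (x : G)))⟩
        · exact absurd (Subgroup.mem_centralizer_singleton_iff.mp x.2).symm (hno6 n₀ x hn0o h')
      · refine Subgroup.mem_centralizer_singleton_iff.mpr ?_
        have hnR : n₀ ∈ (R : Subgroup G) := (R.3 (hNp.to_sup_of_normal_left R.2) le_sup_right).le (Subgroup.mem_sup_left hn₀)
        exact congrArg Subtype.val ((hab2 R.2).1.is_comm.comm ⟨x, hx⟩ ⟨n₀, hnR⟩)
    have : Subsingleton (Sylow 2 G) := ⟨fun A B => Sylow.ext ((hsub A).trans (hsub B).symm)⟩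
    have hPn : (P : Subgroup G).Normal := P.normal_of_subsingleton
    have hP0 : (P : Subgroup G) ≠ ⊥ := P.ne_bot_of_dvd_card (hu ▸ orderOf_dvd_natCard u)
    have hT0 : (T : Subgroup G) ≠ ⊥ := T.ne_bot_of_dvd_card (hv ▸ orderOf_dvd_natCard v)
    have hcop : (Nat.card T).Coprime (Nat.card P) := (IsPGroup.coprime_card_of_ne 3 2 (by norm_num) _ _ T.2 P.2)
    have hT3 := card_eq_of_fpf (q := 3) (K := P) (T := T) (Subgroup.normalizer_eq_top (P : Subgroup G) ▸ le_top) hP0 hT0 T.2
      (hthree T.2) hcop (by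
        intro a ha ha1
        rw [eq_bot_iff]
        intro b hb
        obtain ⟨hb1, hb2⟩ := Subgroup.mem_inf.mp hb
        rw [Subgroup.mem_bot]
        by_contra hb'
        exact hno6 b a (orderOf_eq_prime (htwo P.2 b hb1) hb') (orderOf_eq_prime (hthree T.2 a ha) ha1)
          (Subgroup.mem_centralizer_singleton_iff.mp hb2))
    refine Or.inr ⟨P, hPn, hab2 P.2, ?_⟩
    have hd : (P : Subgroup G).index ∣ Nat.card T := by
      obtain ⟨b, hb⟩ := T.2.exists_card_eq
      obtain ⟨k, hk⟩ := hidx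
      rw [hk, T.card_eq_multiplicity]
      refine Nat.pow_dvd_pow 3 ((Nat.Prime.pow_dvd_iff_le_factorization Nat.prime_three (Nat.card_pos (α := G)).ne').mp ?_)
      exact hk ▸ Subgroup.index_dvd_card _
    rw [hT3] at hd
    refine (Nat.prime_three.eq_one_or_self_of_dvd _ hd).resolve_left fun h1 => ?_
    rw [Subgroup.index_eq_one] at h1
    have := htwo P.2 v (h1 ▸ Subgroup.mem_top v)
    exact absurd (hv ▸ orderOf_dvd_of_pow_eq_one this) (by norm_num)
  · -- a normal 3-subgroup
    subst h'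
    have hNp : IsPGroup 3 N := fun x => ⟨1, Subtype.ext (by simpa using hNq x x.2)⟩
    have hP0 : (P : Subgroup G) ≠ ⊥ := P.ne_bot_of_dvd_card (hu ▸ orderOf_dvd_natCard u)
    have hP2 := card_eq_of_fpf (q := 2) (K := N) (T := P) (Subgroup.normalizer_eq_top N ▸ le_top) hN0 hP0 P.2
      (htwo P.2) (IsPGroup.coprime_card_of_ne 2 3 (by norm_num) _ _ P.2 hNp) (by
        intro a ha ha1
        rw [eq_bot_iff]
        intro b hb
        obtain ⟨hb1, hb2⟩ := Subgroup.mem_inf.mp hb
        rw [Subgroup.mem_bot]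
        by_contra hb'
        exact hno6 a b (orderOf_eq_prime (htwo P.2 a ha) ha1) (orderOf_eq_prime (hNq b hb1) hb')
          (Subgroup.mem_centralizer_singleton_iff.mp hb2).symm)
    have hPeq : (P : Subgroup G) ≤ Subgroup.centralizer ((P : Subgroup G) : Set G) :=
      Subgroup.le_centralizer_iff_isMulCommutative.mpr (hab2 P.2).1
    obtain ⟨P', M, hM, hMc⟩ : Cfsg.HasNormalPComplement 2 G := by
      refine CfsgLib.hasNormalPComplement_of_normalizer_le_centralizer P fun g hg => ?_
      rw [Subgroup.mem_centralizer_iff]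
      intro x hx
      rcases eq_or_ne x 1 with rfl | hx1
      · simp
      obtain ⟨x₀, hx₀, huniq⟩ := (Nat.card_eq_two_iff' (1 : P)).mp hP2
      have hcx : g * x * g⁻¹ ∈ (P : Subgroup G) := (Subgroup.mem_normalizer_iff.mp hg x).mp hx
      have e1 := huniq ⟨_, hcx⟩ fun e => hx1 (conj_eq_one_iff.mp (congrArg Subtype.val e))
      have e2 := huniq ⟨x, hx⟩ fun e => hx1 (congrArg Subtype.val e)
      have e3 : g * x * g⁻¹ = x := congrArg Subtype.val (e1.trans e2.symm)
      exact (mul_inv_eq_iff_eq_mul.mp e3).symm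
    have hMi : M.index = 2 := by
      rw [hMc.symm.index_eq_card]
      exact (Nat.card_congr (P'.equiv P).toEquiv).trans hP2
    have hM3 : ∀ x ∈ M, x ^ 3 = 1 := by
      intro x hx
      rcases hord x with h' | h' | h'
      · rw [orderOf_eq_one_iff.mp h', one_pow]
      · exfalso
        have hd : 2 ∣ Nat.card M := h' ▸ (Subgroup.orderOf_mk x hx ▸ orderOf_dvd_natCard (⟨x, hx⟩ : M))
        rw [← hMc.index_eq_card] at hd
        exact P'.not_dvd_index hd
      · rw [← h', pow_orderOf_eq_one]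
    refine Or.inl ⟨M, hM, ⟨⟨⟨fun a b => ?_⟩⟩, hM3⟩, hMi⟩
    let φ : M →* M := (MulAut.conjNormal u).toMonoidHom
    refine (MonoidHom.FixedPointFree.commute_all_of_involutive (φ := φ) ?_ ?_ a b).eq
    · intro g hg
      have hg' : u * g * u⁻¹ = (g : G) := by simpa [φ, MulAut.conjNormal_apply] using congrArg Subtype.val hg
      by_contra hg1
      exact hno6 u g hu (orderOf_eq_prime (hM3 g g.2) (fun e => hg1 (Subtype.ext e)))
        (mul_inv_eq_iff_eq_mul.mp hg')
    · intro g
      refine Subtype.ext ?_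
      have hu2 : u * u = 1 := by rw [← pow_two, ← hu, pow_orderOf_eq_one]
      show u * (u * g * u⁻¹) * u⁻¹ = g
      rw [show u * (u * g * u⁻¹) * u⁻¹ = (u * u) * g * (u * u)⁻¹ by group, hu2]
      simp

end Cfsg.Agent.S4005
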