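import Cfsg.Statements.S4013
import Mathlib
import Cfsg.Agent.Lib.PRegularClass
-- import your own Cfsg.Agent.* helpers here

set_option autoImplicit false
open Cfsg

namespace Cfsg.Agent.S4013

/-- Let G be a finite p-group (p prime) and N < M normal subgroups of G such that for some g ∈ M ∖ N the conjugacy class of g is exactly M ∖ N. Then p = 2 and N has index 2 in M. -/
theorem result {G : Type*} [Group G] [Finite G] (p : ℕ) [Fact p.Prime] (hG : IsPGroup p G) (N M : Subgroup G) [N.Normal] [M.Normal] (hNM : N < M) (g : G) (hgM : g ∈ M) (hgN : g ∉ N) (hcl : {h : G | IsConj g h} = (M : Set G) \ (N : Set G)) : p = 2 ∧ N.relIndex M = 2 := by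
  have hp := (Fact.out : p.Prime)
  have hle : N ≤ M := hNM.le
  obtain ⟨k, hk⟩ := hG.index (Subgroup.centralizer ({g} : Set G))
  have hcard : ((M : Set G) \ (N : Set G)).ncard = p ^ k := by
    rw [← hcl, ← hk, ← CfsgLib.ncard_carrier_eq_index_centralizer]
    congr 1
  rw [Set.ncard_diff (show (N : Set G) ⊆ M from hle), ← Nat.card_coe_set_eq, ← Nat.card_coe_set_eq] at hcard
  have hNM' : N.relIndex M * Nat.card N = Nat.card M := by
    rw [mul_comm, ← Subgroup.relIndex_bot_left, ← Subgroup.relIndex_bot_left]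
    exact Subgroup.relIndex_mul_relIndex ⊥ N M bot_le hle
  obtain ⟨m, hm⟩ := (IsPGroup.to_subgroup hG M).exists_card_eq
  obtain ⟨c, -, hc⟩ := (Nat.dvd_prime_pow hp).mp (hm ▸ (Dvd.intro _ hNM' : N.relIndex M ∣ Nat.card M))
  have hc0 : c ≠ 0 := fun h0 => by
    rw [h0, pow_zero, Subgroup.relIndex_eq_one] at hc
    exact hgN (hc hgM)
  have hd : (p ^ c - 1) * Nat.card N = p ^ k := by
    rw [Nat.sub_mul, one_mul, ← hc, hNM']
    exact hcard
  have hcop : (p ^ c - 1).Coprime (p ^ k) := by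
    refine Nat.Coprime.pow_right k (Nat.coprime_comm.mp (hp.coprime_iff_not_dvd.mpr fun hdvd => ?_))
    have h1 : p ∣ p ^ c := dvd_pow_self p hc0
    have h2 : p ∣ 1 := by
      have := Nat.dvd_sub h1 hdvd
      rwa [Nat.sub_sub_self (Nat.one_le_pow _ _ hp.pos)] at this
    exact hp.ne_one (Nat.dvd_one.mp h2)
  have h1 : p ^ c - 1 = 1 := Nat.eq_one_of_dvd_coprimes hcop dvd_rfl (Dvd.intro _ hd)
  have h2 : p ^ c = 2 := by omega
  obtain ⟨hp2, -⟩ := (Nat.Prime.pow_eq_iff (Nat.prime_two)).mp h2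
  exact ⟨hp2, hc.trans h2⟩

end Cfsg.Agent.S4013
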