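import Cfsg.Statements.S4016
import Mathlib
import Cfsg.Agent.Lib.CyclicSylowAbelian.Count
import Cfsg.Agent.Lib.CyclicSylowAbelian.Friendship
import Cfsg.Agent.Lib.Solvable.CNTheorem
import Cfsg.Agent.Lib.HSub.Complement
-- import your own Cfsg.Agent.* helpers here

set_option autoImplicit false
open Cfsg

namespace Cfsg.Agent.S4016

open Subgroup CfsgLib CfsgLib.CycSyl
open scoped Pointwise

universe u

/-- The simple case does not occur. -/
theorem no_simple {G : Type u} [Group G] [Finite G] {p : ℕ} [hp : Fact p.Prime] (hp2 : p ≠ 2) (h : Hyp p G) : False := by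
  classical
  have := Fact.mk Nat.prime_two
  by_cases hD : ∃ (P : Sylow p G) (x : G), orderOf x = 2 ∧ ∀ a ∈ (P : Subgroup G), x * a = a * x
  · obtain ⟨P, x, hx, hxc⟩ := hD
    exact friendship_contra h hp2 P hx hxc
  push Not at hD
  have hnoD : ∀ (P : Sylow p G) (b : G), (orderOf b).Coprime p → (∀ a ∈ (P : Subgroup G), b * a = a * b) → b = 1 := by
    intro P b hb hbc
    by_contra hb1
    obtain ⟨q, hq, hqd⟩ := Nat.exists_prime_and_dvd (n := orderOf b) (fun e => hb1 (orderOf_eq_one_iff.mp e))
    have hne : q ≠ p := fun e => by
      subst e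
      exact hq.ne_one (Nat.dvd_one.mp (hb ▸ Nat.dvd_gcd hqd dvd_rfl))
    have hxq : orderOf (b ^ (orderOf b / q)) = q := orderOf_pow_orderOf_div (orderOf_pos b).ne' hqd
    have hxc : ∀ a ∈ (P : Subgroup G), b ^ (orderOf b / q) * a = a * b ^ (orderOf b / q) :=
      fun a ha => ((show Commute b a from hbc a ha).pow_left _).eq
    obtain ⟨e, -⟩ := central_structure h P hq hne hxq hxc
    subst e
    obtain ⟨a, ha, hne'⟩ := hD P _ hxq
    exact hne' (hxc a ha)
  have hcP : ∀ (P : Sylow p G) (g : G), (∀ a ∈ (P : Subgroup G), g * a = a * g) → g ∈ (P : Subgroup G) := by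
    intro P g hg
    obtain ⟨a, b, hab, ha, hb, hap, hbp⟩ := split (p := p) g
    have hall : ∀ v ∈ zpowers g, ∀ c ∈ (P : Subgroup G), v * c = c * v := by
      rintro _ ⟨n, rfl⟩ c hc
      exact ((show Commute g c from hg c hc).zpow_left n).eq
    have hb1 := hnoD P b hbp (hall b hb)
    rw [hb1, mul_one] at hab
    rw [← hab]
    refine mem_sylow P ?_ hap
    rw [Subgroup.mem_normalizer_iff]
    intro c
    constructor
    · intro hc
      rwa [hall a ha c hc, mul_inv_cancel_right]
    · intro hc
      have := hall a ha _ hc
      have e : a * c * a⁻¹ = c := mul_left_cancel (a := a) (by rw [this]; group)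
      rwa [e] at hc
  have hfix : ∀ (b z : G), (orderOf b).Coprime p → z ≠ 1 → (∃ k : ℕ, z ^ p ^ k = 1) → b * z = z * b → b = 1 := by
    intro b z hb hz1 hz hbz
    obtain ⟨k, hk⟩ := hz
    obtain ⟨j, -, hj⟩ := (Nat.dvd_prime_pow hp.out).mp (orderOf_dvd_of_pow_eq_one hk)
    obtain ⟨P, hP⟩ := (IsPGroup.of_card (p := p) (n := j) (G := zpowers z) (by rw [Nat.card_zpowers, hj])).exists_le_sylow
    exact hnoD P b hb (centralizes_of_commute h P (hP (mem_zpowers z)) hz1 hb hbz)
  by_cases h2 : 2 ∣ Nat.card G
  · refine count_contra h hp2 h2 (fun u z hu hz1 hz e => ?_) hcP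
    have := hfix u z (by rw [hu]; exact (Nat.coprime_primes Nat.prime_two hp.out).mpr (Ne.symm hp2)) hz1 hz e
    rw [this, orderOf_one] at hu
    omega
  have hodd : Odd (Nat.card G) := Nat.odd_iff.mpr (Nat.two_dvd_ne_zero.mp h2)
  have hCA : ∀ x : G, x ≠ 1 → ∀ a ∈ centralizer ({x} : Set G), ∀ b ∈ centralizer ({x} : Set G), a * b = b * a := by
    intro x hx
    by_cases hd : p ∣ Nat.card (centralizer ({x} : Set G))
    · obtain ⟨c, hc⟩ := exists_prime_orderOf_dvd_card' p hd
      rw [← Subgroup.orderOf_coe] at hc
      have hc1 : (c : G) ≠ 1 := fun e => hp.out.ne_one (by rw [← hc, e, orderOf_one])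
      have hcx : Commute (c : G) x := Subgroup.mem_centralizer_singleton_iff.mp c.2
      obtain ⟨u, v, huv, hu, hv, hup, hvp⟩ := split (p := p) x
      have hv1 : v = 1 := by
        obtain ⟨n, rfl⟩ := hv
        exact hfix _ c hvp hc1 ⟨1, by rw [pow_one, ← hc]; exact pow_orderOf_eq_one _⟩ (hcx.symm.zpow_left n).eq
      rw [hv1, mul_one] at huv
      subst huv
      obtain ⟨k, hk⟩ := hup
      obtain ⟨j, -, hj⟩ := (Nat.dvd_prime_pow hp.out).mp (orderOf_dvd_of_pow_eq_one hk)
      obtain ⟨P, hP⟩ := (IsPGroup.of_card (p := p) (n := j) (G := zpowers u) (by rw [Nat.card_zpowers, hj])).exists_le_sylow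
      have hmem : ∀ g ∈ centralizer ({u} : Set G), g ∈ (P : Subgroup G) := by
        intro g hg
        refine hcP P g ?_
        obtain ⟨a, b, hab, ha, hb, hap, hbp⟩ := split (p := p) g
        have hgu : Commute g u := Subgroup.mem_centralizer_singleton_iff.mp hg
        obtain ⟨m, rfl⟩ := hb
        have hb1 : g ^ m = 1 := hfix _ u hbp hx ⟨k, hk⟩ (hgu.zpow_left m).eq
        rw [show (fun n : ℤ => g ^ n) m = g ^ m from rfl, hb1, mul_one] at hab
        subst hab
        have hN := mem_normalizer_of_commute h P (hP (mem_zpowers u)) hx hgu.eq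
        intro c hc
        exact comm_of_cyclic (h.cyc P) _ (mem_sylow P hN hap) c hc
      intro a ha b hb
      exact comm_of_cyclic (h.cyc P) a (hmem a ha) b (hmem b hb)
    · exact h.hab _ hd
  have hsol : Group.IsSolvable G := by
    refine CfsgLib.CN.isSolvable_of_odd_cn _ hodd (fun x hx => ?_) rfl
    letI : CommGroup (centralizer ({x} : Set G)) :=
      { (inferInstance : Group (centralizer ({x} : Set G))) with
        mul_comm := fun a b => Subtype.ext (hCA x hx a a.2 b b.2) }
    infer_instance
  have : Nontrivial G := by
    by_contra hn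
    rw [not_nontrivial_iff_subsingleton] at hn
    exact not_comm h fun a b => Subsingleton.elim _ _
  have hlt := Group.IsSolvable.commutator_lt_top_of_nontrivial G
  rcases h.simple (commutator G) inferInstance with e | e
  · have hc := (commutator_eq_bot_iff G).mp e
    exact not_comm h fun a b => hc.is_comm.comm a b
  · exact hlt.ne e

theorem hab_of_injective {G H : Type u} [Group G] [Group H] {p : ℕ} (f : H →* G) (hf : Function.Injective f)
    (h : AbelianPPrime p G) : AbelianPPrime p H := by
  intro K hK a ha b hb
  refine hf ?_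
  rw [map_mul, map_mul]
  exact h (K.map f) (by rwa [Subgroup.card_map_of_injective hf]) _ (Subgroup.mem_map_of_mem f ha) _
    (Subgroup.mem_map_of_mem f hb)

theorem normal_subgroupOf_unique {G : Type u} [Group G] [Finite G] {p : ℕ} [Fact p.Prime] {P : Sylow p G}
    (M : Subgroup G) [hM : M.Normal] (hPM : (P : Subgroup G) ≤ M)
    (hn : ((P : Subgroup G).subgroupOf M).Normal) : (P : Subgroup G).Normal := by
  refine Subgroup.normalizer_eq_top_iff.mp ?_
  have h1 : M ≤ normalizer ((P : Subgroup G) : Set G) := (Subgroup.normal_subgroupOf_iff_le_normalizer hPM).mp hn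
  have := Sylow.normalizer_sup_eq_top (P.subtype hPM)
  rw [Sylow.coe_subtype, Subgroup.map_subgroupOf_eq_of_le hPM, sup_eq_left.mpr h1] at this
  exact this

theorem main (p : ℕ) [hp : Fact p.Prime] (hp2 : p ≠ 2) : ∀ (n : ℕ) (G : Type u) [Group G] [Finite G], Nat.card G = n →
    ∀ P : Sylow p G, IsCyclic (P : Subgroup G) → AbelianPPrime p G →
      HasNormalPComplement p G ∨ (P : Subgroup G).Normal := by
  intro n
  induction n using Nat.strong_induction_on with
  | _ n ih =>
    intro G _ _ hn P hcyc hab
    classical
    by_contra hcon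
    push Not at hcon
    obtain ⟨hnp, hPn⟩ := hcon
    have hcycAll : ∀ Q : Sylow p G, IsCyclic (Q : Subgroup G) := fun Q =>
      isCyclic_of_surjective (P.equiv Q).toMonoidHom (P.equiv Q).surjective
    have hsub : ∀ M : Subgroup G, M ≠ ⊤ → ∀ Q : Sylow p M,
        HasNormalPComplement p M ∨ (Q : Subgroup M).Normal := by
      intro M hM Q
      have hlt : Nat.card M < n := by
        rw [← hn]
        exact lt_of_le_of_ne (Subgroup.card_le_card_group M) fun e => hM (Subgroup.eq_top_of_card_eq M e)
      obtain ⟨R, hR⟩ := (Q.2.map M.subtype).exists_le_sylow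
      haveI := hcycAll R
      refine ih _ hlt M rfl Q ?_ (hab_of_injective M.subtype M.subtype_injective hab)
      exact isCyclic_of_injective ((Subgroup.inclusion hR).comp
          (Subgroup.equivMapOfInjective (Q : Subgroup M) M.subtype M.subtype_injective).toMonoidHom)
        ((Subgroup.inclusion_injective hR).comp (MulEquiv.injective _))
    -- no normal `p'`-subgroup
    have hO : ∀ N : Subgroup G, N.Normal → ¬ p ∣ Nat.card N → N = ⊥ := by
      intro N hN hpN
      by_contra hN0
      set f := QuotientGroup.mk' N with hf
      have hfs : Function.Surjective f := QuotientGroup.mk'_surjective N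
      have hlt : Nat.card (G ⧸ N) < n := by
        rw [← hn, Subgroup.card_eq_card_quotient_mul_card_subgroup N]
        have : Nontrivial N := (Subgroup.nontrivial_iff_ne_bot N).mpr hN0
        exact lt_mul_of_one_lt_right Nat.card_pos Finite.one_lt_card
      have hcyc' : IsCyclic ((P.mapSurjective hfs : Sylow p (G ⧸ N)) : Subgroup (G ⧸ N)) := by
        rw [Sylow.coe_mapSurjective]
        exact isCyclic_of_surjective (f.subgroupMap (P : Subgroup G)) (f.subgroupMap_surjective _)
      have hab' : AbelianPPrime p (G ⧸ N) := by
        intro K hK a ha b hb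
        obtain ⟨x, rfl⟩ := hfs a
        obtain ⟨y, rfl⟩ := hfs b
        rw [← map_mul, ← map_mul, hab (K.comap f) ?_ x ha y hb]
        intro hd
        have hc : Nat.card N * Nat.card K = Nat.card (K.comap f) := by
          have h1 := (K.comap f).card_mul_index
          rw [Subgroup.index_comap_of_surjective _ hfs] at h1
          have h2 := K.card_mul_index
          have h3 := Subgroup.card_eq_card_quotient_mul_card_subgroup N
          refine Nat.eq_of_mul_eq_mul_right (Nat.pos_of_ne_zero K.index_ne_zero_of_finite) ?_
          rw [h1, h3, mul_assoc, h2, mul_comm]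
        rw [← hc] at hd
        exact (hp.out.dvd_mul.mp hd).elim hpN hK
      rcases ih _ hlt (G ⧸ N) rfl (P.mapSurjective hfs) hcyc' hab' with hc | hPb
      · refine hnp (hasNormalPComplement_of_normal (N := (pPrimeCore p (G ⧸ N)).comap f) ?_ ?_)
        · have h1 := (pPrimeCore p (G ⧸ N)).card_mul_index
          have h2 := ((pPrimeCore p (G ⧸ N)).comap f).card_mul_index
          rw [Subgroup.index_comap_of_surjective _ hfs, Subgroup.card_eq_card_quotient_mul_card_subgroup N, ← h1] at h2
          have h4 : Nat.card ((pPrimeCore p (G ⧸ N)).comap f) = Nat.card (pPrimeCore p (G ⧸ N)) * Nat.card N := by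
            refine Nat.eq_of_mul_eq_mul_right (Nat.pos_of_ne_zero (pPrimeCore p (G ⧸ N)).index_ne_zero_of_finite) ?_
            rw [h2]; ring
          rw [h4]
          exact Nat.Coprime.mul_left (card_pPrimeCore_coprime p) ((Nat.Prime.coprime_iff_not_dvd hp.out).mpr hpN).symm
        · intro x
          obtain ⟨g, rfl⟩ := QuotientGroup.mk'_surjective _ x
          obtain ⟨k, hk⟩ := isPGroup_quotient_of_hasNormalPComplement hc (QuotientGroup.mk' _ (f g))
          refine ⟨k, ?_⟩
          rw [← map_pow, QuotientGroup.mk'_apply, QuotientGroup.eq_one_iff] at hk ⊢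
          rw [Subgroup.mem_comap, map_pow]
          exact hk
      · -- `PN` is normal
        set M := ((P : Subgroup G).map f).comap f with hMdef
        have hMn : M.Normal := by
          rw [hMdef, ← Sylow.coe_mapSurjective hfs P]; exact hPb.comap f
        have hPM : (P : Subgroup G) ≤ M := Subgroup.le_comap_map f _
        have hME : M = N ⊔ (P : Subgroup G) := by
          rw [hMdef, Subgroup.comap_map_eq, QuotientGroup.ker_mk', sup_comm]
        have htop : normalizer ((P : Subgroup G) : Set G) ⊔ N = ⊤ := by
          have := Sylow.normalizer_sup_eq_top (P.subtype hPM)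
          rw [Sylow.coe_subtype, Subgroup.map_subgroupOf_eq_of_le hPM, hME] at this
          rw [eq_top_iff, ← this]
          exact sup_le le_sup_left (sup_le le_sup_right (Subgroup.le_normalizer.trans le_sup_left))
        by_cases hcen : ∀ a ∈ (P : Subgroup G), ∀ b ∈ N, a * b = b * a
        · refine hPn (Subgroup.normalizer_eq_top_iff.mp (eq_top_iff.mpr (htop ▸ sup_le le_rfl fun b hb => ?_)))
          rw [Subgroup.mem_normalizer_iff]
          intro c
          constructor
          · intro hc; rwa [← hcen c hc b hb, mul_inv_cancel_right]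
          · intro hc
            have := hcen _ hc b hb
            have e : b * c * b⁻¹ = c := mul_left_cancel (a := b) (by rw [← this]; group)
            rwa [e] at hc
        · set NP := normalizer ((P : Subgroup G) : Set G) with hNP
          haveI : ((P : Subgroup G).subgroupOf NP).Normal := Subgroup.normal_in_normalizer
          obtain ⟨H', hH'⟩ := Subgroup.exists_right_complement'_of_coprime (N := (P : Subgroup G).subgroupOf NP)
            (by
              have := (P.subtype (Subgroup.le_normalizer : (P : Subgroup G) ≤ NP)).card_coprime_index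
              rw [Sylow.coe_subtype] at this
              exact this)
          set H := H'.map NP.subtype with hHdef
          have hHN : H ≤ NP := Subgroup.map_subtype_le _
          have hHp : ¬ p ∣ Nat.card H := by
            rw [hHdef, Subgroup.card_map_of_injective NP.subtype_injective, ← hH'.symm.index_eq_card]
            exact (P.subtype (Subgroup.le_normalizer : (P : Subgroup G) ≤ NP)).not_dvd_index
          set K := H ⊔ N with hK
          have hKp : ¬ p ∣ Nat.card K :=
            not_dvd_card_sup (by rw [Subgroup.normalizer_eq_top N]; exact le_top) hHp hpN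
          have hKab := hab K hKp
          have hPeq : (P : Subgroup G) ⊔ H = NP := by
            refine le_antisymm (sup_le Subgroup.le_normalizer hHN) fun g hg => ?_
            obtain ⟨⟨a, b⟩, hab'⟩ := hH'.2 (⟨g, hg⟩ : NP)
            have e : ((a : NP) : G) * ((b : NP) : G) = g := congrArg Subtype.val hab'
            rw [← e]
            exact Subgroup.mul_mem_sup a.2 ⟨(b : NP), b.2, rfl⟩
          have hHP : ∀ b ∈ H, ∀ a ∈ (P : Subgroup G), b * a = a * b := by
            intro b hb
            have hbo : (orderOf b).Coprime p := by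
              refine ((Nat.Prime.coprime_iff_not_dvd hp.out).mpr fun hd => hHp ?_).symm
              exact hd.trans (Subgroup.orderOf_dvd_natCard _ hb)
            have hbn : ∀ a ∈ (P : Subgroup G), b * a * b⁻¹ ∈ (P : Subgroup G) := fun a ha =>
              conj_mem_of_normalizer (hHN hb) ha
            by_contra hne
            push Not at hne
            obtain ⟨x, hxP, hxne⟩ := hne
            -- every commutator centralises `N`; a non-trivial `p`-th root argument
            haveI := hcyc
            obtain ⟨g₀, hg₀⟩ := IsCyclic.exists_generator (α := (P : Subgroup G))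
            have hmul : ∀ c ∈ N, ((g₀ : G)⁻¹ * (b * g₀ * b⁻¹)) * c = c * ((g₀ : G)⁻¹ * (b * g₀ * b⁻¹)) := by
              intro c hc
              set d := (g₀ : G) * c * (g₀ : G)⁻¹ with hd
              have hdN : d ∈ N := hN.conj_mem c hc _
              have hbc : b * c * b⁻¹ = c := by
                rw [hKab b (Subgroup.mem_sup_left hb) c (Subgroup.mem_sup_right hc), mul_inv_cancel_right]
              have hbc' : b⁻¹ * c * b = c := by
                conv_lhs => rw [← hbc]
                group
              have hbd : b * d * b⁻¹ = d := by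
                rw [hKab b (Subgroup.mem_sup_left hb) d (Subgroup.mem_sup_right hdN), mul_inv_cancel_right]
              rw [← mul_inv_eq_iff_eq_mul]
              calc ((g₀ : G)⁻¹ * (b * g₀ * b⁻¹)) * c * ((g₀ : G)⁻¹ * (b * g₀ * b⁻¹))⁻¹
                  = (g₀ : G)⁻¹ * (b * ((g₀ : G) * (b⁻¹ * c * b) * (g₀ : G)⁻¹) * b⁻¹) * g₀ := by group
                _ = (g₀ : G)⁻¹ * d * g₀ := by rw [hbc', ← hd, hbd]
                _ = c := by rw [hd]; group
            set C₀ := (centralizer (N : Set G)).subgroupOf (P : Subgroup G) with hC₀
            obtain ⟨n₀, hn₀⟩ : ∃ n₀ : ℤ, (g₀ : G) ^ n₀ = b * g₀ * b⁻¹ := by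
              obtain ⟨n₀, hn₀⟩ := hg₀ ⟨_, hbn _ g₀.2⟩
              exact ⟨n₀, by simpa using congrArg Subtype.val hn₀⟩
            have hkey : (g₀ : G) ^ (n₀ - 1) ∈ centralizer (N : Set G) := by
              rw [Subgroup.mem_centralizer_iff]
              intro c hc
              rw [zpow_sub, zpow_one, hn₀, show b * g₀ * b⁻¹ * (g₀ : G)⁻¹ = (g₀ : G)⁻¹ * (b * g₀ * b⁻¹) from
                comm_of_cyclic hcyc _ (hbn _ g₀.2) _ ((P : Subgroup G).inv_mem g₀.2)]
              exact (hmul c hc).symm
            obtain ⟨j, hj⟩ := P.2.exists_card_eq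
            have hord : orderOf (g₀ : G) = p ^ j := by
              rw [← hj, Subgroup.orderOf_coe, orderOf_eq_card_of_forall_mem_zpowers hg₀]
            by_cases hdv : (p : ℤ) ∣ n₀ - 1
            · -- then `b` fixes the elements of order `p`, hence `P`
              rcases j with _ | j
              · refine hxne ?_
                rw [show x = 1 from by
                  have : (P : Subgroup G) = ⊥ := Subgroup.card_eq_one.mp (by rw [hj, pow_zero])
                  rwa [this, Subgroup.mem_bot] at hxP]
                rw [mul_one, one_mul]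
              · refine hxne (cyclic_fix P.2 hcyc hbo hbn ((P : Subgroup G).pow_mem g₀.2 (p ^ j)) ?_ ?_ x hxP)
                · intro e
                  have := Nat.le_of_dvd (pow_pos hp.out.pos j) (orderOf_dvd_of_pow_eq_one e)
                  rw [hord] at this
                  exact absurd this (not_le.mpr (Nat.pow_lt_pow_right hp.out.one_lt (Nat.lt_succ_self j)))
                · rw [← mul_inv_eq_iff_eq_mul, ← conj_pow, ← hn₀, ← zpow_natCast ((g₀ : G) ^ n₀), ← zpow_mul,
                    ← zpow_natCast (g₀ : G) (p ^ j), zpow_eq_zpow_iff_modEq, hord, Int.modEq_iff_dvd]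
                  obtain ⟨m, hm⟩ := hdv
                  exact ⟨-m, by push_cast; linear_combination (-((p : ℤ) ^ j)) * hm⟩
            · -- then `g₀` itself centralises `N`
              refine hcen fun a ha c hc => ?_
              have hcop : IsCoprime ((orderOf (g₀ : G) : ℤ)) (n₀ - 1) := by
                rw [hord]; push_cast
                exact ((Nat.prime_iff_prime_int.mp hp.out).coprime_iff_not_dvd.mpr hdv).pow_left
              obtain ⟨u, v, huv⟩ := hcop
              have hg0C : (g₀ : G) ∈ centralizer (N : Set G) := by
                have e : (g₀ : G) = ((g₀ : G) ^ (n₀ - 1)) ^ v := by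
                  conv_lhs => rw [← zpow_one (g₀ : G), ← huv, zpow_add, mul_comm u, zpow_mul, zpow_natCast,
                    pow_orderOf_eq_one, one_zpow, one_mul]
                  rw [← zpow_mul, mul_comm]
                rw [e]; exact zpow_mem hkey v
              obtain ⟨m, hm⟩ := hg₀ ⟨a, ha⟩
              have e : a = (g₀ : G) ^ m := by simpa using (congrArg Subtype.val hm).symm
              rw [e]
              exact (Subgroup.mem_centralizer_iff.mp (zpow_mem hg0C m) c hc).symm
          have hKn : K.Normal := by
            refine Subgroup.normalizer_eq_top_iff.mp (eq_top_iff.mpr (htop ▸ sup_le ?_ (le_sup_right.trans Subgroup.le_normalizer)))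
            rw [← hPeq]
            refine sup_le (fun a ha => ?_) (le_sup_left.trans Subgroup.le_normalizer)
            rw [Subgroup.mem_normalizer_iff_map_conj_eq]
            refine Subgroup.eq_of_le_of_card_ge ?_ (le_of_eq (Subgroup.card_map_of_injective
              (f := (MulAut.conj a).toMonoidHom) (MulAut.conj a).injective).symm)
            rw [Subgroup.map_le_iff_le_comap, hK]
            refine sup_le (fun b hb => ?_) (fun b hb => ?_) <;> rw [Subgroup.mem_comap]
            · show a * b * a⁻¹ ∈ H ⊔ N
              rw [← hHP b hb a ha, mul_inv_cancel_right]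
              exact Subgroup.mem_sup_left hb
            · exact Subgroup.mem_sup_right (hN.conj_mem b hb a)
          refine hnp ⟨P, K, hKn, Subgroup.isComplement'_of_disjoint_and_mul_eq_univ ?_ ?_⟩
          · refine Subgroup.disjoint_of_coprime_natCard ?_
            obtain ⟨j, hj⟩ := P.2.exists_card_eq
            rw [hj]
            exact (((Nat.Prime.coprime_iff_not_dvd hp.out).mpr hKp).pow_left j).symm
          · rw [← Subgroup.normal_mul, Subgroup.coe_eq_univ, eq_top_iff, ← htop, ← hPeq]
            exact sup_le (sup_le le_sup_right (le_sup_left.trans le_sup_left)) (le_sup_right.trans le_sup_left)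
    -- no normal `p`-subgroup
    have hOp : ∀ N : Subgroup G, N.Normal → IsPGroup p N → N = ⊥ := by
      intro N hN hNp
      by_contra hN0
      have hNP : N ≤ (P : Subgroup G) := by
        obtain ⟨Q, hQ⟩ := hNp.exists_le_sylow
        obtain ⟨c, rfl⟩ := MulAction.exists_smul_eq G Q P
        intro y hy
        rw [Sylow.coe_subgroup_smul, Subgroup.mem_pointwise_smul_iff_inv_smul_mem]
        exact hQ (by
          have := hN.conj_mem y hy c⁻¹
          simpa [MulAut.conj_inv_apply] using this)
      obtain ⟨z₁, hz₁, hz₁1⟩ := N.bot_or_exists_ne_one.resolve_left hN0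
      obtain ⟨i, hi⟩ := exists_pow_order_p hNp hz₁ hz₁1
      set z := z₁ ^ i with hz
      have hzN : z ∈ N := N.pow_mem hz₁ i
      set Z := zpowers z with hZ
      haveI hZn : Z.Normal := ⟨fun a ha g => by
        have haN : a ∈ N := (Subgroup.zpowers_le.mpr hzN) ha
        refine mem_zpowers_of_cyclic hcyc (hNP hzN) hi (hNP (hN.conj_mem a haN g)) ?_
        obtain ⟨m, rfl⟩ := ha
        rw [conj_pow, ← zpow_natCast (z ^ m), ← zpow_mul, mul_comm, zpow_mul, zpow_natCast, ← hi,
          pow_orderOf_eq_one, one_zpow, mul_one, mul_inv_cancel]⟩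
      set C := centralizer (Z : Set G) with hC
      have hPC : (P : Subgroup G) ≤ C := fun a ha => Subgroup.mem_centralizer_iff.mpr fun c hc =>
        comm_of_cyclic hcyc c ((Subgroup.zpowers_le.mpr (hNP hzN)) hc) a ha
      haveI hCn : C.Normal := inferInstance
      by_cases hCtop : C = ⊤
      · refine hnp (hasNormalPComplement_of_normalizer_le_centralizer P fun g hg => ?_)
        obtain ⟨a, b, hab', ha, hb, hap, hbp⟩ := split (p := p) g
        have haP := mem_sylow P (Subgroup.zpowers_le.mpr hg ha) hap
        have hz1 : z ≠ 1 := fun e => hp.out.ne_one (by rw [← hi, e, orderOf_one])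
        have hbc := cyclic_fix P.2 hcyc hbp (fun c hc => conj_mem_of_normalizer (Subgroup.zpowers_le.mpr hg hb) hc)
          (hNP hzN) hz1 ((Subgroup.mem_centralizer_iff.mp (hCtop ▸ Subgroup.mem_top b : b ∈ C)) z (mem_zpowers z)).symm
        refine Subgroup.mem_centralizer_iff.mpr fun c hc => ?_
        rw [← hab', ← mul_assoc, comm_of_cyclic hcyc c hc a haP, mul_assoc, ← hbc c hc, mul_assoc]
      · rcases hsub C hCtop (P.subtype hPC) with hc | hn'
        · have hmap : ((pPrimeCore p C).map C.subtype) = ⊥ := hO _ inferInstance (by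
            rw [Subgroup.card_map_of_injective C.subtype_injective]
            exact (Nat.Prime.coprime_iff_not_dvd hp.out).mp (card_pPrimeCore_coprime p).symm)
          refine hPn ?_
          have hCp : IsPGroup p C := by
            intro x
            obtain ⟨k, hk⟩ := isPGroup_quotient_of_hasNormalPComplement hc (QuotientGroup.mk' _ x)
            refine ⟨k, ?_⟩
            rw [← map_pow, QuotientGroup.mk'_apply, QuotientGroup.eq_one_iff,
              (Subgroup.map_eq_bot_iff_of_injective _ C.subtype_injective).mp hmap, Subgroup.mem_bot] at hk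
            exact hk
          rw [← P.is_maximal' hCp hPC]
          exact hCn
        · exact hPn (normal_subgroupOf_unique C hPC (by rwa [Sylow.coe_subtype] at hn'))
    have hsimple : ∀ N : Subgroup G, N.Normal → N = ⊥ ∨ N = ⊤ := by
      intro N hN
      by_contra hcon
      push Not at hcon
      obtain ⟨Q⟩ : Nonempty (Sylow p N) := inferInstance
      rcases hsub N hcon.2 Q with hc | hQn
      · have hmap : ((pPrimeCore p N).map N.subtype) = ⊥ := hO _ inferInstance (by
          rw [Subgroup.card_map_of_injective N.subtype_injective]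
          exact (Nat.Prime.coprime_iff_not_dvd hp.out).mp (card_pPrimeCore_coprime p).symm)
        refine hcon.1 (hOp N hN fun x => ?_)
        obtain ⟨k, hk⟩ := isPGroup_quotient_of_hasNormalPComplement hc (QuotientGroup.mk' _ x)
        refine ⟨k, ?_⟩
        rw [← map_pow, QuotientGroup.mk'_apply, QuotientGroup.eq_one_iff,
          (Subgroup.map_eq_bot_iff_of_injective _ N.subtype_injective).mp hmap, Subgroup.mem_bot] at hk
        exact hk
      · haveI : (Q : Subgroup N).Characteristic := Q.characteristic_of_normal hQn
        have hQb := hOp ((Q : Subgroup N).map N.subtype) inferInstance (Q.2.map _)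
        refine hcon.1 (hO N hN fun hd => ?_)
        exact Q.ne_bot_of_dvd_card hd ((Subgroup.map_eq_bot_iff_of_injective _ N.subtype_injective).mp hQb)
    refine no_simple hp2 ⟨hcycAll, hab, fun Q H hH hQH => ?_, hsimple, hnp⟩
    rcases hsub H hH (Q.subtype hQH) with hc | hn'
    · exact Or.inl hc
    · exact Or.inr (by rwa [Sylow.coe_subtype] at hn')

/-- Let G be a finite group and p a prime such that a Sylow p-subgroup P of G is cyclic and every subgroup of G of order prime to p is abelian. Then G has a normal p-complement or P is normal in G. -/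
theorem result {G : Type*} [Group G] [Finite G] {p : ℕ}
    [Fact p.Prime] (P : Sylow p G) (hcyc : IsCyclic P)
    (hab : ∀ H : Subgroup G, ¬ p ∣ Nat.card H → IsMulCommutative H) :
    Cfsg.HasNormalPComplement p G ∨ (P : Subgroup G).Normal := by
  by_cases hp2 : p = 2
  · subst hp2
    exact Or.inl (CfsgLib.HSub.hasNormalPComplement_of_cyclic (fun q hq _ => hq.two_le) P hcyc)
  · exact main p hp2 _ G rfl P hcyc fun H hH a ha b hb =>
      congrArg Subtype.val ((hab H hH).is_comm.comm (⟨a, ha⟩ : H) ⟨b, hb⟩)

end Cfsg.Agent.S4016
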