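import Cfsg.Statements.S4018
import Cfsg.Agent.Lib.SylowExtra
import Mathlib.GroupTheory.Transfer
import Mathlib.LinearAlgebra.Matrix.Charpoly.FiniteField

set_option autoImplicit false
open Cfsg

namespace Cfsg.Agent.S4018

/-- A regular graph in which any two distinct vertices have exactly one common neighbour
has 1 or 3 vertices. -/
theorem friendship {V : Type*} [Fintype V] [DecidableEq V] [Nonempty V] (R : V → V → Prop) [DecidableRel R]
    (hsymm : ∀ a b, R a b → R b a) (hirr : ∀ a, ¬ R a a) (k : ℕ)
    (hreg : ∀ a, (Finset.univ.filter (R a)).card = k)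
    (huniq : ∀ a b, a ≠ b → (Finset.univ.filter (fun c => R a c ∧ R c b)).card = 1) :
    Fintype.card V = 1 ∨ Fintype.card V = 3 := by
  obtain ⟨a⟩ := (inferInstance : Nonempty V)
  -- double counting walks of length two from `a`
  have hwalk : k * k = k + (Fintype.card V - 1) := by
    have h1 : ∑ b, (Finset.univ.filter (fun c => R a c ∧ R c b)).card = k * k := by
      have : ∀ b, (Finset.univ.filter (fun c => R a c ∧ R c b)).card =
          ∑ c ∈ Finset.univ.filter (R a), if R c b then 1 else 0 := fun b => by
        rw [Finset.sum_boole, Finset.filter_filter]; simp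
      rw [Finset.sum_congr rfl (fun b _ => this b), Finset.sum_comm]
      have : ∀ c, (∑ b, if R c b then 1 else 0) = k := fun c => by
        rw [Finset.sum_boole]; simpa using hreg c
      rw [Finset.sum_congr rfl (fun c _ => this c), Finset.sum_const, hreg, smul_eq_mul]
    rw [← Finset.add_sum_erase _ _ (Finset.mem_univ a)] at h1
    have h2 : (Finset.univ.filter (fun c => R a c ∧ R c a)).card = k := by
      rw [← hreg a]
      congr 1
      ext c
      simp only [Finset.mem_filter, Finset.mem_univ, true_and]
      exact ⟨fun h => h.1, fun h => ⟨h, hsymm _ _ h⟩⟩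
    rw [h2, Finset.sum_congr rfl (fun b hb => huniq a b (Finset.ne_of_mem_erase hb).symm),
      Finset.sum_const, Finset.card_erase_of_mem (Finset.mem_univ a), Finset.card_univ] at h1
    simpa using h1.symm
  have hV : 0 < Fintype.card V := Fintype.card_pos
  rcases le_or_gt k 2 with hk | hk
  · interval_cases k <;> omega
  exfalso
  obtain ⟨q, hq, hqk⟩ := Nat.exists_prime_and_dvd (show k - 1 ≠ 1 by omega)
  have := Fact.mk hq
  have hk1 : (k : ZMod q) = 1 := by
    have h := (ZMod.natCast_eq_zero_iff (k - 1) q).mpr hqk
    rw [Nat.cast_sub (by omega), Nat.cast_one] at h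
    exact sub_eq_zero.mp h
  let A : Matrix V V (ZMod q) := Matrix.of fun a b => if R a b then 1 else 0
  let J : Matrix V V (ZMod q) := Matrix.of fun _ _ => 1
  have hAA : A * A = J := by
    ext a b
    have h1 : (A * A) a b = ((Finset.univ.filter (fun c => R a c ∧ R c b)).card : ZMod q) := by
      rw [Matrix.mul_apply, ← Finset.sum_boole]
      refine Finset.sum_congr rfl fun j _ => ?_
      by_cases h1 : R a j <;> by_cases h2 : R j b <;> simp [A, h1, h2]
    rw [h1]
    by_cases hab : a = b
    · subst hab
      have : (Finset.univ.filter (fun c => R a c ∧ R c a)) = Finset.univ.filter (R a) := by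
        ext c
        simp only [Finset.mem_filter, Finset.mem_univ, true_and]
        exact ⟨fun h => h.1, fun h => ⟨h, hsymm _ _ h⟩⟩
      rw [this, hreg, hk1]; rfl
    · rw [huniq a b hab, Nat.cast_one]; rfl
  have hAJ : A * J = J := by
    ext a b
    have : (A * J) a b = ((Finset.univ.filter (R a)).card : ZMod q) := by
      simp [A, J, Matrix.mul_apply, Finset.sum_boole]
    rw [this, hreg, hk1]; rfl
  have hpow : ∀ m, A ^ (m + 2) = J := by
    intro m
    induction m with
    | zero => rw [pow_two, hAA]
    | succ m ih => rw [pow_succ', ih, hAJ]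
  have htr := ZMod.trace_pow_card A
  have hAq : A ^ q = J := by
    obtain ⟨m, hm⟩ : ∃ m, q = m + 2 := ⟨q - 2, by have := hq.two_le; omega⟩
    have h := hpow m; rwa [← hm] at h
  rw [hAq] at htr
  have h0 : Matrix.trace A = 0 := by simp [A, Matrix.trace, hirr]
  rw [h0, zero_pow hq.ne_zero] at htr
  have h1 : Matrix.trace J = (Fintype.card V : ZMod q) := by simp [J, Matrix.trace]
  rw [h1] at htr
  have h2 : ((k * k : ℕ) : ZMod q) = ((k + (Fintype.card V - 1) : ℕ) : ZMod q) := by rw [hwalk]
  push_cast [Nat.cast_sub (show 1 ≤ Fintype.card V by omega)] at h2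
  rw [hk1, htr] at h2
  simp at h2

/-- The set of involutions. -/
abbrev Inv (G : Type*) [Group G] : Type _ := {x : G // orderOf x = 2}

theorem mul_self_of_inv {G : Type*} [Group G] {x : G} (h : orderOf x = 2) : x * x = 1 := by
  rw [← pow_two, ← h, pow_orderOf_eq_one]

/-- Let G be a finite group with an abelian Sylow 3-subgroup P such that the normalizer of P has order 4·#P, the centralizer C of P has order 2·#P, C meets each of its conjugates by elements outside its normalizer trivially, and every proper subgroup of G of even order has order dividing 4·#P. Then G is not simple. -/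
theorem result {G : Type*} [Group G] [Finite G]
    (P : Sylow 3 G) (hab : IsMulCommutative P)
    (hN : Nat.card (Subgroup.normalizer ((P : Subgroup G) : Set G)) = 4 * Nat.card P)
    (hC : Nat.card (Subgroup.centralizer (P : Set G)) = 2 * Nat.card P)
    (hTI : Cfsg.IsTISubset (Subgroup.centralizer (P : Set G) : Set G))
    (heven : ∀ H : Subgroup G, H ≠ ⊤ → 2 ∣ Nat.card H → Nat.card H ∣ 4 * Nat.card P) :
    ¬ IsSimpleGroup G := by
  intro hsimple
  classical
  have := Fintype.ofFinite G
  have : Fact (Nat.Prime 2) := ⟨Nat.prime_two⟩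
  have h3 : Fact (Nat.Prime 3) := ⟨Nat.prime_three⟩
  set N := Subgroup.normalizer ((P : Subgroup G) : Set G) with hNdef
  set C := Subgroup.centralizer (P : Set G) with hCdef
  have hPpos : 0 < Nat.card P := Nat.card_pos
  have hPodd : ¬ 2 ∣ Nat.card P := by
    obtain ⟨a, ha⟩ := P.2.exists_card_eq
    rw [ha]
    intro h
    have := (Nat.prime_dvd_prime_iff_eq Nat.prime_two Nat.prime_three).mp (Nat.prime_two.dvd_of_dvd_pow h)
    omega
  -- `P ≠ ⊥`
  have hPne : Nat.card P ≠ 1 := by
    intro h
    have h1 : (P : Subgroup G) = ⊥ := Subgroup.card_eq_one.mp h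
    have h2 : N = ⊤ := by rw [hNdef, h1]; exact Subgroup.normalizer_eq_top _
    have h2' : C = ⊤ := by
      rw [hCdef, eq_top_iff]
      intro x _
      rw [Subgroup.mem_centralizer_iff]
      intro y hy
      have : y ∈ (⊥ : Subgroup G) := h1 ▸ hy
      rw [Subgroup.mem_bot] at this
      simp [this]
    rw [h2] at hN
    rw [h2'] at hC
    omega
  have hNtop : N ≠ ⊤ := by
    intro h
    have hn : (P : Subgroup G).Normal := Subgroup.normalizer_eq_top_iff.mp h
    rcases hn.eq_bot_or_eq_top with h1 | h1
    · exact hPne (Subgroup.card_eq_one.mpr h1)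
    · rw [h] at hN
      have h5 : Nat.card (P : Subgroup G) = Nat.card G := by rw [h1, Subgroup.card_top]
      rw [Subgroup.card_top] at hN
      change Nat.card G = 4 * Nat.card (P : Subgroup G) at hN
      have : 0 < Nat.card G := Nat.card_pos
      omega
  -- |G|₂ = 4
  have h2part : ∀ S : Sylow 2 G, Nat.card S = 4 := by
    intro S
    obtain ⟨b, hb⟩ := S.2.exists_card_eq
    have hb2 : 2 ≤ b := by
      by_contra hlt
      have h4 : 2 ^ 2 ∣ Nat.card G :=
        (Dvd.intro (Nat.card P) (by rw [hN]; norm_num)).trans (Subgroup.card_subgroup_dvd_card N)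
      have := S.pow_dvd_card_of_pow_dvd_card h4
      rw [hb, Nat.pow_dvd_pow_iff_le_right (by norm_num)] at this
      omega
    by_contra hne
    have hb3 : 3 ≤ b := by
      rcases Nat.lt_or_ge b 3 with h | h
      · exfalso; apply hne; rw [hb, show b = 2 by omega]; norm_num
      · exact h
    have hdvd : 2 ^ 3 ∣ Nat.card G :=
      ((pow_dvd_pow 2 hb3).trans hb.symm.dvd).trans (Subgroup.card_subgroup_dvd_card _)
    obtain ⟨K, hK⟩ := Sylow.exists_subgroup_card_pow_prime 2 hdvd
    have hKtop : K ≠ ⊤ := by
      intro h
      rw [h, Subgroup.card_top] at hK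
      have h3d : 3 ∣ Nat.card G := by
        obtain ⟨a, ha⟩ := P.2.exists_card_eq
        have ha0 : a ≠ 0 := by rintro rfl; exact hPne (by simpa using ha)
        exact ((dvd_pow_self 3 ha0).trans ha.symm.dvd).trans (Subgroup.card_subgroup_dvd_card _)
      rw [hK] at h3d
      norm_num at h3d
    have := heven K hKtop (by rw [hK]; norm_num)
    rw [hK] at this
    exact hPodd (Nat.dvd_of_mul_dvd_mul_left (by norm_num : 0 < 4) (by simpa using this))
  -- the unique involution `t` of `C`
  have hPC : (P : Subgroup G) ≤ C := Subgroup.le_centralizer (P : Subgroup G)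
  have huniqC : ∀ u ∈ C, ∀ v ∈ C, orderOf u = 2 → orderOf v = 2 → u = v := by
    intro u hu v hv h2u h2v
    have hidx : ((P : Subgroup G).subgroupOf C).index = 2 := by
      change (P : Subgroup G).relIndex C = 2
      have := Subgroup.card_mul_index ((P : Subgroup G).subgroupOf C)
      rw [Nat.card_congr (Subgroup.subgroupOfEquivOfLe hPC).toEquiv, hC, mul_comm 2] at this
      exact Nat.eq_of_mul_eq_mul_left hPpos this
    have hnot : ∀ w : C, orderOf (w : G) = 2 → w ∉ (P : Subgroup G).subgroupOf C := by
      intro w hw hmem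
      have := Subgroup.orderOf_dvd_natCard (P : Subgroup G) (show (w : G) ∈ (P : Subgroup G) from hmem)
      rw [hw] at this
      exact hPodd this
    have hprod := (Subgroup.mul_mem_iff_of_index_two hidx (a := ⟨u, hu⟩) (b := ⟨v, hv⟩)).mpr
      (iff_of_false (hnot ⟨u, hu⟩ h2u) (hnot ⟨v, hv⟩ h2v))
    have hmem : u * v ∈ (P : Subgroup G) := hprod
    have hcomm : (u * v) * u = u * (u * v) := Subgroup.mem_centralizer_iff.mp hu _ hmem
    have huu := mul_self_of_inv h2u
    have hvv := mul_self_of_inv h2v
    have hsq : (u * v) * (u * v) = 1 := by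
      rw [← mul_assoc (u * v) u v, hcomm, ← mul_assoc u u v, huu, one_mul, hvv]
    have hone : u * v = 1 := by
      rw [← orderOf_eq_one_iff]
      have h1 : orderOf (u * v) ∣ 2 := orderOf_dvd_of_pow_eq_one (by rw [pow_two, hsq])
      have h2 : orderOf (u * v) ∣ Nat.card P := Subgroup.orderOf_dvd_natCard (P : Subgroup G) hmem
      exact Nat.eq_one_of_dvd_coprimes (Nat.prime_two.coprime_iff_not_dvd.mpr hPodd) h1 h2
    calc u = u * (v * v) := by rw [hvv, mul_one]
      _ = (u * v) * v := (mul_assoc _ _ _).symm
      _ = v := by rw [hone, one_mul]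
  obtain ⟨t', ht'⟩ := exists_prime_orderOf_dvd_card' (G := C) 2 (by rw [hC]; exact dvd_mul_right _ _)
  obtain ⟨t, htC⟩ := t'
  have ht : orderOf t = 2 := by rw [← ht']; exact Subgroup.orderOf_coe (⟨t, htC⟩ : C)
  have ht1 : t ≠ 1 := by intro h; rw [h, orderOf_one] at ht; omega
  have hct : Subgroup.centralizer ({t} : Set G) = N := by
    have hle : N ≤ Subgroup.centralizer ({t} : Set G) := by
      intro n hn
      rw [Subgroup.mem_centralizer_singleton_iff]
      have hmem : n * t * n⁻¹ ∈ C := by
        rw [hCdef, Subgroup.mem_centralizer_iff]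
        intro y hy
        have hy' : n⁻¹ * y * n ∈ (P : Subgroup G) := by
          simpa using ((Subgroup.mem_normalizer_iff.mp (inv_mem hn)) y).mp hy
        have h1 := Subgroup.mem_centralizer_iff.mp htC _ hy'
        have h2 := congrArg (fun z => n * z * n⁻¹) h1
        simp only [mul_assoc, mul_inv_cancel_left, mul_inv_cancel, mul_one] at h2 ⊢
        exact h2
      have heq := huniqC _ hmem t htC (by rwa [← MulAut.conj_apply, MulEquiv.orderOf_eq]) ht
      calc n * t = n * t * n⁻¹ * n := by group
        _ = t * n := by rw [heq]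
    have hne : Subgroup.centralizer ({t} : Set G) ≠ ⊤ := by
      intro h
      have : t ∈ Subgroup.center G := by
        rw [Subgroup.mem_center_iff]
        intro g
        exact Subgroup.mem_centralizer_singleton_iff.mp (h ▸ Subgroup.mem_top g)
      rcases (inferInstance : (Subgroup.center G).Normal).eq_bot_or_eq_top with hz | hz
      · rw [hz, Subgroup.mem_bot] at this; exact ht1 this
      · apply hNtop
        rw [eq_top_iff]
        intro g _
        rw [hNdef, Subgroup.mem_normalizer_iff]
        intro y
        have hy : g * y * g⁻¹ = y := by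
          have := Subgroup.mem_center_iff.mp (hz ▸ Subgroup.mem_top y) g
          rw [this]; group
        rw [hy]
    have hdvd := Subgroup.card_dvd_of_le hle
    rw [hN] at hdvd
    have := Nat.dvd_antisymm (heven _ hne ((Dvd.intro (2 * Nat.card P) (by ring)).trans hdvd)) hdvd
    exact (Subgroup.eq_of_le_of_card_ge hle (by rw [this, hN])).symm
  -- all involutions are conjugate
  obtain ⟨S, htS'⟩ : ∃ S : Sylow 2 G, t ∈ (S : Subgroup G) := by
    have hz : IsPGroup 2 (Subgroup.zpowers t) := IsPGroup.of_card (n := 1) (by rw [Nat.card_zpowers, ht]; norm_num)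
    obtain ⟨S, hS⟩ := hz.exists_le_sylow
    exact ⟨S, hS (Subgroup.mem_zpowers t)⟩
  have hScomm : ∀ a ∈ (S : Subgroup G), ∀ b ∈ (S : Subgroup G), a * b = b * a := by
    intro a ha b hb
    have := IsPGroup.commutative_of_card_eq_prime_sq (p := 2) (G := (S : Subgroup G)) (by rw [h2part S]; norm_num)
    exact congrArg Subtype.val (this ⟨a, ha⟩ ⟨b, hb⟩)
  have hnocompl : ∀ K : Subgroup G, K.Normal → ¬ K.IsComplement' (S : Subgroup G) := by
    intro K hK hcompl
    have := hcompl.card_mul
    rcases hK.eq_bot_or_eq_top with rfl | rfl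
    · rw [Subgroup.card_bot, one_mul, h2part] at this
      have hd := Subgroup.card_subgroup_dvd_card N
      rw [← this, hN] at hd
      have := Nat.le_of_dvd (by norm_num) hd
      omega
    · rw [Subgroup.card_top, h2part] at this
      have : 0 < Nat.card G := Nat.card_pos
      omega
  have hmin : (Nat.card G).minFac = 2 := by
    rw [Nat.minFac_eq_two_iff]
    exact ((Dvd.intro 2 (by norm_num) : (2:ℕ) ∣ 4).trans (Dvd.intro _ hN.symm)).trans
      (Subgroup.card_subgroup_dvd_card N)
  have hexp : ∀ a ∈ (S : Subgroup G), a * a = 1 := by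
    intro a ha
    by_contra hne
    have hcyc : IsCyclic (S : Subgroup G) := by
      refine isCyclic_of_orderOf_eq_card (⟨a, ha⟩ : (S : Subgroup G)) ?_
      rw [Subgroup.orderOf_mk]
      have hd : orderOf a ∣ 2 ^ 2 := by
        have := Subgroup.orderOf_dvd_natCard (S : Subgroup G) ha
        rw [h2part S] at this
        simpa using this
      obtain ⟨j, hj, hje⟩ := (Nat.dvd_prime_pow Nat.prime_two).mp hd
      interval_cases j
      · exact absurd (by rw [orderOf_eq_one_iff.mp hje, one_mul]) hne
      · exact absurd (mul_self_of_inv (by simpa using hje)) hne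
      · rw [hje, h2part]; norm_num
    exact hnocompl _ (MonoidHom.normal_ker _) (hcyc.isComplement' hmin)
  have hnc : ¬ Subgroup.normalizer ((S : Subgroup G) : Set G) ≤ Subgroup.centralizer ((S : Subgroup G) : Set G) :=
    fun h => hnocompl _ (MonoidHom.normal_ker _) (MonoidHom.ker_transferSylow_isComplement' S h)
  obtain ⟨n, hn, hnC⟩ := SetLike.not_le_iff_exists.mp hnc
  obtain ⟨a, haS, hna⟩ : ∃ a ∈ (S : Subgroup G), n * a * n⁻¹ ≠ a := by
    by_contra hall
    push_neg at hall
    apply hnC
    rw [Subgroup.mem_centralizer_iff]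
    intro y hy
    calc y * n = (n * y * n⁻¹) * n := by rw [hall y hy]
      _ = n * y := by group
  set b := n * a * n⁻¹ with hb
  have hbS : b ∈ (S : Subgroup G) := (Subgroup.mem_normalizer_iff.mp hn a).mp haS
  have ha1 : a ≠ 1 := by intro h; apply hna; rw [hb, h]; group
  have hb1 : b ≠ 1 := by
    intro h
    apply ha1
    have : a = n⁻¹ * b * n := by rw [hb]; group
    rw [this, h]; group
  have hab' : a * b ≠ 1 := by
    intro h
    apply hna
    calc b = (a * a) * b := by rw [hexp a haS, one_mul]
      _ = a := by rw [mul_assoc, h, mul_one]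
  have hfour : ∀ x ∈ (S : Subgroup G), x = 1 ∨ x = a ∨ x = b ∨ x = a * b := by
    intro x hx
    by_contra hcon
    push_neg at hcon
    obtain ⟨h1, h2, h3, h4⟩ := hcon
    have hsub : ({1, a, b, a * b, x} : Finset G) ⊆ Finset.univ.filter (fun y : G => y ∈ (S : Subgroup G)) := by
      intro y hy
      simp only [Finset.mem_insert, Finset.mem_singleton] at hy
      simp only [Finset.mem_filter, Finset.mem_univ, true_and]
      rcases hy with rfl | rfl | rfl | rfl | rfl
      exacts [one_mem _, haS, hbS, mul_mem haS hbS, hx]
    have hcard := Finset.card_le_card hsub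
    have h5 : ({1, a, b, a * b, x} : Finset G).card = 5 := by
      have e1 : a ≠ b := fun h => hna h.symm
      have e2 : a ≠ a * b := fun h => hb1 (left_eq_mul.mp h)
      have e3 : b ≠ a * b := fun h => ha1 (right_eq_mul.mp h)
      repeat rw [Finset.card_insert_of_notMem]
      · simp
      all_goals simp [ha1.symm, hb1.symm, hab'.symm, h1.symm, h2.symm, h3.symm, h4.symm, e1, e2, e3]
    have h6 : (Finset.univ.filter (fun y : G => y ∈ (S : Subgroup G))).card = 4 := by
      rw [← h2part S, Nat.card_eq_fintype_card, Fintype.card_subtype]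
    omega
  have hconjab : IsConj a (a * b) := by
    have hmem : n * (a * b) * n⁻¹ ∈ (S : Subgroup G) :=
      (Subgroup.mem_normalizer_iff.mp hn _).mp (mul_mem haS hbS)
    have hab_n : a * b = n⁻¹ * (n * (a * b) * n⁻¹) * n := by group
    rcases hfour _ hmem with h | h | h | h
    · exact absurd (by rw [hab_n, h]; group) hab'
    · exact (isConj_iff.mpr ⟨n, h⟩ : IsConj (a * b) a).symm
    · exfalso
      have : a * b = a := by
        rw [hab_n, h, hb]; group
      exact hb1 (mul_eq_left.mp this)
    · exfalso
      -- then `n` swaps `a` and `b`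
      have hnb : n * b * n⁻¹ = a := by
        have e : n * (a * b) * n⁻¹ = (n * a * n⁻¹) * (n * b * n⁻¹) := by group
        rw [e, ← hb] at h
        have := congrArg (b * ·) h
        simp only [← mul_assoc, hexp b hbS, one_mul] at this
        rw [this, ← hScomm a haS b hbS, mul_assoc, hexp b hbS, mul_one]
      set o := ordCompl[2] (orderOf n) with ho
      have hodd : ¬ 2 ∣ o := Nat.not_dvd_ordCompl Nat.prime_two (orderOf_pos n).ne'
      have hnoS : n ^ o ∈ (S : Subgroup G) := by
        have hz : IsPGroup 2 (Subgroup.zpowers (n ^ o)) := by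
          refine IsPGroup.of_card (n := (orderOf n).factorization 2) ?_
          rw [Nat.card_zpowers, orderOf_pow, Nat.gcd_eq_right (Nat.ordCompl_dvd _ _)]
          exact Nat.div_div_self (Nat.ordProj_dvd _ _) (orderOf_pos n).ne'
        have hj := IsPGroup.to_sup_of_normal_right' hz S.2
          (by rw [Subgroup.zpowers_le]; exact pow_mem hn o)
        rw [← S.3 hj le_sup_right]
        exact Subgroup.mem_sup_left (Subgroup.mem_zpowers _)
      have key : ∀ m : ℕ, n ^ m * a * (n ^ m)⁻¹ = if 2 ∣ m then a else b := by
        intro m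
        induction m with
        | zero => simp
        | succ m ih =>
          have e : n ^ (m+1) * a * (n ^ (m+1))⁻¹ = n * (n ^ m * a * (n ^ m)⁻¹) * n⁻¹ := by
            rw [pow_succ']; group
          rw [e, ih]
          split_ifs with h1 h2 h2
          · omega
          · rfl
          · exact hnb
          · omega
      have := key o
      rw [if_neg hodd, hScomm _ hnoS a haS, mul_inv_cancel_right] at this
      exact hna this.symm
  have hall : ∀ r : G, orderOf r = 2 → IsConj t r := by
    have hSconj : ∀ x ∈ (S : Subgroup G), x ≠ 1 → IsConj a x := by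
      intro x hx hx1
      rcases hfour x hx with h | h | h | h
      · exact absurd h hx1
      · rw [h]
      · rw [h]; exact isConj_iff.mpr ⟨n, rfl⟩
      · rw [h]; exact hconjab
    intro r hr
    obtain ⟨S', hS'⟩ := (IsPGroup.of_card (p := 2) (n := 1) (G := Subgroup.zpowers r)
      (by rw [Nat.card_zpowers, hr]; norm_num)).exists_le_sylow
    obtain ⟨g, hg⟩ := MulAction.exists_smul_eq G S' S
    have hgr : g * r * g⁻¹ ∈ (S : Subgroup G) := by
      rw [← hg, Sylow.coe_subgroup_smul]
      exact Subgroup.smul_mem_pointwise_smul _ _ _ (hS' (Subgroup.mem_zpowers r))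
    have hr1 : g * r * g⁻¹ ≠ 1 := by
      rw [Ne, conj_eq_one_iff]
      intro h; rw [h, orderOf_one] at hr; omega
    exact ((hSconj t htS' ht1).symm.trans (hSconj _ hgr hr1)).trans (isConj_iff.mpr ⟨g, rfl⟩ : IsConj r (g * r * g⁻¹)).symm
  -- any two distinct involutions have exactly one common neighbour
  let R : Inv G → Inv G → Prop := fun r s => r ≠ s ∧ Commute (r : G) (s : G)
  have hCconj : ∀ r : G, orderOf r = 2 → ∀ u, orderOf u = 2 → Commute r u →
      ∀ v, orderOf v = 2 → Commute r v → Commute u v → r ≠ u → v = r ∨ v = u ∨ v = r * u := by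
    intro r hr u hu hru v hv hrv huv hne
    have hr1 : r ≠ 1 := by intro h; rw [h, orderOf_one] at hr; omega
    have hu1 : u ≠ 1 := by intro h; rw [h, orderOf_one] at hu; omega
    -- the four group generated by r and u
    let W : Subgroup G :=
      { carrier := {x | x = 1 ∨ x = r ∨ x = u ∨ x = r * u}
        one_mem' := Or.inl rfl
        inv_mem' := by
          rintro x (rfl | rfl | rfl | rfl)
          · simp
          · exact Or.inr (Or.inl (inv_eq_of_mul_eq_one_right (mul_self_of_inv hr)))
          · exact Or.inr (Or.inr (Or.inl (inv_eq_of_mul_eq_one_right (mul_self_of_inv hu))))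
          · refine Or.inr (Or.inr (Or.inr ?_))
            rw [mul_inv_rev, inv_eq_of_mul_eq_one_right (mul_self_of_inv hu),
              inv_eq_of_mul_eq_one_right (mul_self_of_inv hr), hru.eq]
        mul_mem' := by
          have e1 := mul_self_of_inv hr
          have e2 := mul_self_of_inv hu
          have e3 : u * r = r * u := hru.eq.symm
          have e4 : r * (r * u) = u := by rw [← mul_assoc, e1, one_mul]
          have e5 : u * (r * u) = r := by rw [← e3, ← mul_assoc, e2, one_mul]
          have e6 : r * u * r = u := by rw [mul_assoc, e3, e4]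
          have e7 : r * u * u = r := by rw [mul_assoc, e2, mul_one]
          have e8 : r * u * (r * u) = 1 := by rw [← mul_assoc, e6, e2]
          intro x y hx hy
          rcases hx with hx | hx | hx | hx <;> rcases hy with hy | hy | hy | hy <;> rw [hx, hy] <;>
            simp [e1, e2, e3, e4, e5, e6, e7, e8] }
    have hWcard : Nat.card W = 4 := by
      have hset : (Finset.univ.filter (fun x => x ∈ W)) = ({1, r, u, r * u} : Finset G) := by
        ext x; simp [W]
      rw [Nat.card_eq_fintype_card, Fintype.card_subtype, hset]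
      have e1 : r * u ≠ 1 := fun h => hne (by
        calc r = r * (u * u) := by rw [mul_self_of_inv hu, mul_one]
          _ = u := by rw [← mul_assoc, h, one_mul])
      have e2 : r ≠ r * u := fun h => hu1 (left_eq_mul.mp h)
      have e3 : u ≠ r * u := fun h => hr1 (right_eq_mul.mp h)
      repeat rw [Finset.card_insert_of_notMem]
      · simp
      all_goals simp [hr1.symm, hu1.symm, e1.symm, e2, e3, hne]
    have hW2 : IsPGroup 2 W := IsPGroup.of_card (n := 2) (by rw [hWcard]; norm_num)
    obtain ⟨S', hS'⟩ := hW2.exists_le_sylow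
    have hWS : W = (S' : Subgroup G) := Subgroup.eq_of_le_of_card_ge hS' (by rw [hWcard, h2part])
    have hv' := CfsgLib.mem_sylow_of_mem_centralizer S' (x := v) ⟨1, by simpa [pow_two] using mul_self_of_inv hv⟩ ?_
    · rw [← hWS] at hv'
      rcases hv' with h | h | h | h
      · exfalso; rw [h, orderOf_one] at hv; omega
      · exact Or.inl h
      · exact Or.inr (Or.inl h)
      · exact Or.inr (Or.inr h)
    · intro y hy
      rw [← hWS] at hy
      rcases hy with rfl | rfl | rfl | rfl
      exacts [Commute.one_right v, hrv.symm, huv.symm, hrv.symm.mul_right huv.symm]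
  have huniq : ∀ r s : Inv G, r ≠ s → ∃! c : Inv G, R r c ∧ R c s := by
    rintro ⟨r, hr⟩ ⟨s, hs⟩ hne
    have hne' : r ≠ s := fun h => hne (Subtype.ext h)
    by_cases hrs : Commute r s
    · have hord : orderOf (r * s) = 2 := by
        apply orderOf_eq_prime
        · rw [hrs.mul_pow, pow_two, pow_two, mul_self_of_inv hr, mul_self_of_inv hs, one_mul]
        · intro h
          exact hne' (by
            calc r = r * (s * s) := by rw [mul_self_of_inv hs, mul_one]
              _ = s := by rw [← mul_assoc, h, one_mul])
      have hs1 : s ≠ 1 := by intro h; rw [h, orderOf_one] at hs; omega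
      have hr1 : r ≠ 1 := by intro h; rw [h, orderOf_one] at hr; omega
      refine ⟨⟨r * s, hord⟩, ⟨⟨fun h => hs1 (left_eq_mul.mp (congrArg Subtype.val h)),
          (Commute.refl r).mul_right hrs⟩,
        ⟨fun h => hr1 (mul_eq_right.mp (congrArg Subtype.val h)), Commute.mul_left hrs (Commute.refl s)⟩⟩, ?_⟩
      rintro ⟨v, hv⟩ ⟨⟨h1, h1'⟩, h2, h2'⟩
      rcases hCconj r hr s hs hrs v hv h1' h2'.symm hne' with h | h | h
      · exact absurd (Subtype.ext h.symm) h1
      · exact absurd (Subtype.ext h) h2
      · exact Subtype.ext h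
    · set x := r * s with hx
      have hrr := mul_self_of_inv hr
      have hss := mul_self_of_inv hs
      have hri : r⁻¹ = r := inv_eq_of_mul_eq_one_right hrr
      have hsi : s⁻¹ = s := inv_eq_of_mul_eq_one_right hss
      have hrx : r * x * r⁻¹ = x⁻¹ := by rw [hx, mul_inv_rev, hri, hsi, ← mul_assoc r r s, hrr, one_mul]
      have hsx : s = r * x := by rw [hx, ← mul_assoc, hrr, one_mul]
      have hx1 : x ≠ 1 := by
        intro h; apply hne'; rw [hsx, h, mul_one]
      have hcx : ∀ v : G, Commute r v → Commute s v → Commute x v := fun v h1 h2 => h1.mul_left h2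
      rcases (orderOf x).even_or_odd with hev | hodd
      · -- even order: the involution of ⟨x⟩
        obtain ⟨m, hm⟩ := hev
        set u := x ^ m with hu
        have hm0 : 0 < m := by have := orderOf_pos x; omega
        have hou : orderOf u = 2 := by
          apply orderOf_eq_prime
          · rw [hu, ← pow_mul, show m * 2 = orderOf x by omega, pow_orderOf_eq_one]
          · intro h
            have := Nat.le_of_dvd hm0 (orderOf_dvd_of_pow_eq_one h)
            omega
        have hui : u⁻¹ = u := inv_eq_of_mul_eq_one_right (mul_self_of_inv hou)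
        have hru : Commute r u := by
          have h1 : r * u * r⁻¹ = u := by rw [hu, ← conj_pow, hrx, inv_pow, ← hu, hui]
          exact mul_inv_eq_iff_eq_mul.mp h1
        have hsu : Commute s u := by rw [hsx, hu]; exact Commute.mul_left hru (Commute.self_pow x m)
        have hru' : r ≠ u := by
          intro h
          apply hrs
          have : Commute r x := by rw [h, hu]; exact (Commute.self_pow x m).symm
          rw [hsx]; exact (Commute.refl r).mul_right this
        have hsu' : u ≠ s := by
          intro h
          apply hrs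
          rw [← h]; exact hru
        refine ⟨⟨u, hou⟩, ⟨⟨fun h => hru' (congrArg Subtype.val h), hru⟩,
          ⟨fun h => hsu' (congrArg Subtype.val h), hsu.symm⟩⟩, ?_⟩
        rintro ⟨v, hv⟩ ⟨⟨h1, h1'⟩, h2, h2'⟩
        have hvu : Commute u v := by rw [hu]; exact (hcx v h1' h2'.symm).pow_left m
        rcases hCconj r hr u hou hru v hv h1' hvu hru' with h | h | h
        · exact absurd (Subtype.ext h.symm) h1
        · exact Subtype.ext h
        · exfalso
          apply hrs
          have hc : Commute (r * u) s := by rw [← h]; exact h2'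
          have e : r = (r * u) * u := by rw [mul_assoc, mul_self_of_inv hou, mul_one]
          rw [e]
          exact hc.mul_left hsu.symm
      · -- odd order: x is a 3-element and C(x) is conjugate to C
        set H := Subgroup.normalizer ((Subgroup.zpowers x : Subgroup G) : Set G) with hH
        have hrH : r ∈ H := by
          rw [hH, Subgroup.mem_normalizer_iff]
          intro y
          constructor
          · rintro ⟨i, rfl⟩
            exact ⟨-i, by show x ^ (-i) = r * x ^ i * r⁻¹; rw [← conj_zpow, hrx, inv_zpow, zpow_neg]⟩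
          · rintro ⟨i, hi⟩
            refine ⟨-i, ?_⟩
            show x ^ (-i) = y
            have e : y = r * (r * y * r⁻¹) * r⁻¹ := by
              rw [hri]; simp only [← mul_assoc, hrr, one_mul]; rw [mul_assoc, hrr, mul_one]
            rw [e, ← hi, ← conj_zpow, hrx, inv_zpow, zpow_neg]
        have hHtop : H ≠ ⊤ := by
          intro h
          have hn : (Subgroup.zpowers x).Normal := Subgroup.normalizer_eq_top_iff.mp h
          rcases hn.eq_bot_or_eq_top with h1 | h1
          · exact hx1 (Subgroup.zpowers_eq_bot.mp h1)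
          · have h' : ∀ y z : G, y * z = z * y := by
              intro y z
              obtain ⟨i, rfl⟩ := (h1 ▸ Subgroup.mem_top y : y ∈ Subgroup.zpowers x)
              obtain ⟨j, rfl⟩ := (h1 ▸ Subgroup.mem_top z : z ∈ Subgroup.zpowers x)
              exact ((Commute.refl x).zpow_zpow i j).eq
            exact hrs (h' r s)
        have hHdvd : Nat.card H ∣ 4 * Nat.card P :=
          heven H hHtop (by rw [← hr]; exact Subgroup.orderOf_dvd_natCard H hrH)
        have hxP : orderOf x ∣ Nat.card P := by
          have h1 : orderOf x ∣ 2 ^ 2 * Nat.card P :=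
            (Subgroup.orderOf_dvd_natCard H (Subgroup.le_normalizer (Subgroup.mem_zpowers x))).trans
              (by simpa using hHdvd)
          exact (Nat.Coprime.pow_right 2 (Nat.coprime_two_right.mpr hodd)).dvd_of_dvd_mul_left h1
        obtain ⟨P', hP'⟩ : ∃ P' : Sylow 3 G, x ∈ (P' : Subgroup G) := by
          obtain ⟨a, ha⟩ := P.2.exists_card_eq
          obtain ⟨j, _, hj⟩ := (Nat.dvd_prime_pow Nat.prime_three).mp (ha ▸ hxP)
          obtain ⟨P', h⟩ := (IsPGroup.of_card (p := 3) (n := j) (G := Subgroup.zpowers x)
            (by rw [Nat.card_zpowers, hj])).exists_le_sylow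
          exact ⟨P', h (Subgroup.mem_zpowers x)⟩
        obtain ⟨g, rfl⟩ := MulAction.exists_smul_eq G P P'
        set φ := (MulAut.conj g).toMonoidHom
        have hP'eq : ((g • P : Sylow 3 G) : Subgroup G) = (P : Subgroup G).map φ := rfl
        have hCle : C.map φ ≤ Subgroup.centralizer ({x} : Set G) := by
          rintro _ ⟨c, hc, rfl⟩
          rw [Subgroup.mem_centralizer_singleton_iff]
          obtain ⟨y, hy, hyx⟩ := (hP'eq ▸ hP' : x ∈ (P : Subgroup G).map φ)
          rw [← hyx, ← map_mul, ← map_mul, Subgroup.mem_centralizer_iff.mp hc y hy]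
        have hxH : Subgroup.centralizer ({x} : Set G) ≤ H := by
          intro c hc
          rw [hH, Subgroup.mem_normalizer_iff]
          intro y
          have hcm : Commute c x := Subgroup.mem_centralizer_singleton_iff.mp hc
          constructor
          · rintro ⟨i, rfl⟩
            exact ⟨i, by show x ^ i = c * x ^ i * c⁻¹; rw [(hcm.zpow_right i).eq, mul_inv_cancel_right]⟩
          · rintro ⟨i, hi⟩
            refine ⟨i, ?_⟩
            show x ^ i = y
            have hi' : x ^ i = c * y * c⁻¹ := hi
            calc x ^ i = c⁻¹ * (c * x ^ i) := by group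
              _ = c⁻¹ * (x ^ i * c) := by rw [(hcm.zpow_right i).eq]
              _ = y := by rw [hi']; group
        have hCeq : Subgroup.centralizer ({x} : Set G) = C.map φ := by
          refine (Subgroup.eq_of_le_of_card_ge hCle ?_).symm
          rw [Subgroup.card_map_of_injective (MulAut.conj g).injective, hC]
          have hlt : Subgroup.centralizer ({x} : Set G) < H := by
            refine lt_of_le_of_ne hxH fun h => ?_
            have : r ∈ Subgroup.centralizer ({x} : Set G) := h ▸ hrH
            apply hrs
            rw [hsx]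
            exact (Commute.refl r).mul_right (Subgroup.mem_centralizer_singleton_iff.mp this)
          have h1 : 2 * Nat.card (Subgroup.centralizer ({x} : Set G)) ≤ Nat.card H := by
            obtain ⟨c, hc⟩ := Subgroup.card_dvd_of_le hxH
            rw [hc, mul_comm]
            refine Nat.mul_le_mul_left _ ?_
            rcases Nat.lt_or_ge c 2 with hlt' | hge
            · exfalso
              interval_cases c
              · have : 0 < Nat.card H := Nat.card_pos
                omega
              · exact hlt.ne (Subgroup.eq_of_le_of_card_ge hxH (by rw [hc]; simp))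
            · exact hge
          have := Nat.le_of_dvd (by omega) hHdvd
          omega
        set t₁ := φ t with ht₁
        have ht₁o : orderOf t₁ = 2 := by
          rw [ht₁, orderOf_injective φ (MulAut.conj g).injective, ht]
        have hfix : ∀ y : G, y * x * y⁻¹ = x⁻¹ → Commute y t₁ := by
          intro y hy
          have hmem : y * t₁ * y⁻¹ ∈ C.map φ := by
            rw [← hCeq, Subgroup.mem_centralizer_singleton_iff]
            have h1 : Commute t₁ x := Subgroup.mem_centralizer_singleton_iff.mp (hCle ⟨t, htC, rfl⟩)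
            have h2 : Commute (y * t₁ * y⁻¹) (y * x * y⁻¹) := (Commute.conj_iff y).mpr h1
            rw [hy] at h2
            exact (Commute.inv_right_iff.mp h2).eq
          obtain ⟨c, hcC, hc⟩ := hmem
          have hcord : orderOf c = 2 := by
            rw [← orderOf_injective φ (MulAut.conj g).injective c, hc, ← MulAut.conj_apply,
              MulEquiv.orderOf_eq, ht₁o]
          have hct' := huniqC c hcC t htC hcord ht
          rw [hct'] at hc
          exact (mul_inv_eq_iff_eq_mul.mp (hc ▸ rfl : y * t₁ * y⁻¹ = t₁))
        have hrt : Commute r t₁ := hfix r hrx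
        have hst : Commute s t₁ := hfix s (by
          rw [hsx, mul_inv_rev, show r * x * x * (x⁻¹ * r⁻¹) = r * x * r⁻¹ by group, hrx])
        refine ⟨⟨t₁, ht₁o⟩, ⟨⟨fun h => hrs ?_, hrt⟩, ⟨fun h => hrs ?_, hst.symm⟩⟩, ?_⟩
        · have : r = t₁ := congrArg Subtype.val h
          rw [this]; exact hst.symm
        · have : t₁ = s := congrArg Subtype.val h
          rw [← this]; exact hrt
        rintro ⟨v, hv⟩ ⟨⟨h1, h1'⟩, h2, h2'⟩
        have hvC : v ∈ C.map φ := by
          rw [← hCeq, Subgroup.mem_centralizer_singleton_iff]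
          exact (hcx v h1' h2'.symm).symm.eq
        obtain ⟨c, hcC, hc⟩ := hvC
        have hcord : orderOf c = 2 := by
          rw [← orderOf_injective φ (MulAut.conj g).injective c, hc, hv]
        exact Subtype.ext (show v = t₁ by rw [← hc, huniqC c hcC t htC hcord ht])
  -- regularity
  let k := (Finset.univ.filter (R ⟨t, ht⟩)).card
  have hreg : ∀ r : Inv G, (Finset.univ.filter (R r)).card = k := by
    rintro ⟨r, hr⟩
    obtain ⟨g, hg⟩ := isConj_iff.mp (hall r hr)
    refine (Finset.card_bij (fun v _ => (⟨g * v.1 * g⁻¹, by rw [← MulAut.conj_apply, MulEquiv.orderOf_eq]; exact v.2⟩ : Inv G)) ?_ ?_ ?_).symm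
    · intro v hv
      simp only [Finset.mem_filter, Finset.mem_univ, true_and] at hv ⊢
      refine ⟨fun h => hv.1 (Subtype.ext ?_), ?_⟩
      · have h' := congrArg Subtype.val h
        simp only at h'
        rw [← hg] at h'
        simpa using h'
      · show Commute r (g * v.1 * g⁻¹)
        rw [← hg]
        exact (Commute.conj_iff g).mpr hv.2
    · intro v _ w _ h
      have h' := congrArg Subtype.val h
      simp only [mul_left_inj, mul_right_inj] at h'
      exact Subtype.ext h'
    · rintro ⟨v, hv⟩ hmem
      simp only [Finset.mem_filter, Finset.mem_univ, true_and] at hmem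
      have hv' : orderOf (g⁻¹ * v * g) = 2 := by
        have := MulEquiv.orderOf_eq (MulAut.conj g⁻¹) v
        simpa [hv] using this
      refine ⟨⟨g⁻¹ * v * g, hv'⟩, ?_, Subtype.ext (by group)⟩
      simp only [Finset.mem_filter, Finset.mem_univ, true_and]
      refine ⟨fun h => hmem.1 (Subtype.ext ?_), ?_⟩
      · have h' : t = g⁻¹ * v * g := congrArg Subtype.val h
        rw [h'] at hg
        show r = v
        rw [← hg]; group
      · have h' : Commute (g * t * g⁻¹) (g * (g⁻¹ * v * g) * g⁻¹) := by
          rw [hg, show g * (g⁻¹ * v * g) * g⁻¹ = v by group]; exact hmem.2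
        exact (Commute.conj_iff g).mp h'
  have hcount : Fintype.card (Inv G) = N.index := by
    rw [← hct, ← Nat.card_eq_fintype_card, Subgroup.centralizer_eq_comap_stabilizer]
    have e : {x : G | orderOf x = 2} = MulAction.orbit (ConjAct G) t := by
      ext y
      rw [Set.mem_setOf_eq, ConjAct.mem_orbit_conjAct]
      exact ⟨fun hy => (hall y hy).symm, fun hy => by
        obtain ⟨c, hc⟩ := isConj_iff.mp hy.symm
        rw [← hc, ← MulAut.conj_apply, MulEquiv.orderOf_eq, ht]⟩
    erw [Subgroup.index_comap_of_surjective _ (MulEquiv.surjective _)]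
    rw [MulAction.index_stabilizer,
      ← Nat.card_coe_set_eq, ← e]
    rfl
  have hne' : Nonempty (Inv G) := ⟨⟨t, ht⟩⟩
  have hNidx : ¬ 3 ∣ N.index := fun h => P.not_dvd_index (h.trans (Subgroup.index_dvd_of_le Subgroup.le_normalizer))
  rcases friendship R (fun a b h => ⟨h.1.symm, h.2.symm⟩) (fun a h => h.1 rfl) k hreg
    (fun a b hab => Finset.card_eq_one.mpr (by
      obtain ⟨c, hc, hu⟩ := huniq a b hab
      exact ⟨c, Finset.eq_singleton_iff_unique_mem.mpr ⟨by simp [hc], fun d hd => hu d (by simpa using hd)⟩⟩)) with h | h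
  · rw [hcount] at h
    exact hNtop (Subgroup.index_eq_one.mp h)
  · rw [hcount] at h
    exact hNidx (h ▸ dvd_rfl)

end Cfsg.Agent.S4018
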