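import Cfsg.Statements.S4021
import Cfsg.Agent.Lib.EqualConj.Quaternion
import Cfsg.Agent.Lib.PSolvable
-- import your own Cfsg.Agent.* helpers here

set_option autoImplicit false
open Cfsg

namespace Cfsg.Agent.S4021

/-- Let G be a finite group in which any two subgroups of the same order are conjugate. Then G/O(G), O(G) the largest normal subgroup of odd order, is one of: a cyclic 2-group; the one-dimensional affine group over the field with 8 elements; the one-dimensional semi-affine group over the field with 8 or with 32 elements; PSL₂(8); the full automorphism group of PSL₂(32); the alternating group of degree 4 or 5; SL₂(3); or SL₂(5). -/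
theorem result {G : Type*} [Group G] [Finite G]
    (hC : ∀ H K : Subgroup G, Nat.card H = Nat.card K → ∃ g : G, K = H.map (MulAut.conj g).toMonoidHom) :
    (IsCyclic (G ⧸ Cfsg.oddCore G) ∧ IsPGroup 2 (G ⧸ Cfsg.oddCore G)) ∨
    Nonempty (G ⧸ Cfsg.oddCore G ≃* Cfsg.affineGroup (GaloisField 2 3)) ∨
    Nonempty (G ⧸ Cfsg.oddCore G ≃* Cfsg.semiaffineGroup (GaloisField 2 3)) ∨
    Nonempty (G ⧸ Cfsg.oddCore G ≃* Cfsg.semiaffineGroup (GaloisField 2 5)) ∨
    Nonempty (G ⧸ Cfsg.oddCore G ≃* Matrix.ProjectiveSpecialLinearGroup (Fin 2) (GaloisField 2 3)) ∨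
    Nonempty (G ⧸ Cfsg.oddCore G ≃* MulAut (Matrix.ProjectiveSpecialLinearGroup (Fin 2) (GaloisField 2 5))) ∨
    Nonempty (G ⧸ Cfsg.oddCore G ≃* alternatingGroup (Fin 4)) ∨
    Nonempty (G ⧸ Cfsg.oddCore G ≃* alternatingGroup (Fin 5)) ∨
    Nonempty (G ⧸ Cfsg.oddCore G ≃* Matrix.SpecialLinearGroup (Fin 2) (ZMod 3)) ∨
    Nonempty (G ⧸ Cfsg.oddCore G ≃* Matrix.SpecialLinearGroup (Fin 2) (ZMod 5)) := by
  classical
  haveI : Fact (Nat.Prime 2) := ⟨Nat.prime_two⟩
  have hE : CfsgLib.EqualConj.EOC (G ⧸ oddCore G) :=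
    CfsgLib.EqualConj.EOC.quotient (G := G) hC (oddCore G)
  have hcore : oddCore (G ⧸ oddCore G) = ⊥ := CfsgLib.pPrimeCore_quotient_eq_bot 2
  obtain ⟨S⟩ : Nonempty (Sylow 2 (G ⧸ oddCore G)) := inferInstance
  have hcyc : IsCyclic (S : Subgroup (G ⧸ oddCore G)) →
      IsCyclic (G ⧸ oddCore G) ∧ IsPGroup 2 (G ⧸ oddCore G) := by
    intro hS
    have hnc : Subgroup.normalizer ((S : Subgroup (G ⧸ oddCore G)) : Set (G ⧸ oddCore G)) ≤
        Subgroup.centralizer ((S : Subgroup (G ⧸ oddCore G)) : Set (G ⧸ oddCore G)) := by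
      by_cases h2 : 2 ∣ Nat.card (G ⧸ oddCore G)
      · exact IsCyclic.normalizer_le_centralizer ((Nat.minFac_eq_two_iff _).2 h2) hS
      · have hb : (S : Subgroup (G ⧸ oddCore G)) = ⊥ := by
          rw [← Subgroup.card_eq_one, Sylow.card_eq_multiplicity, Nat.factorization_eq_zero_of_not_dvd h2, pow_zero]
        intro g _
        rw [Subgroup.mem_centralizer_iff, hb]
        intro x hx
        rw [Subgroup.mem_bot.1 hx, one_mul, mul_one]
    obtain ⟨P, K, hK, hKP⟩ := CfsgLib.hasNormalPComplement_of_normalizer_le_centralizer S hnc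
    haveI := hK
    have hK1 : K ≤ oddCore (G ⧸ oddCore G) := CfsgLib.le_oddCore (by
      rw [← hKP.index_eq_card, Nat.odd_iff, ← Nat.two_dvd_ne_zero]
      exact P.not_dvd_index)
    rw [hcore, le_bot_iff] at hK1
    rw [hK1] at hKP
    have htop := Subgroup.isComplement'_bot_left.1 hKP
    haveI : IsCyclic (P : Subgroup (G ⧸ oddCore G)) := (S.equiv P).isCyclic.mp hS
    have e : (P : Subgroup (G ⧸ oddCore G)) ≃* (G ⧸ oddCore G) :=
      (MulEquiv.subgroupCongr htop).trans Subgroup.topEquiv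
    exact ⟨e.isCyclic.mp inferInstance, P.2.of_equiv e⟩
  rcases Cfsg.Agent.S4020.result (fun p _ H K _ _ h => hE H K h) S with h | h | ⟨⟨e⟩⟩
  · exact Or.inl (hcyc h)
  · by_cases hbig : 4 ≤ Nat.card (S : Subgroup (G ⧸ oddCore G))
    · have hset : CfsgLib.EqualConj.Setup S :=
        ⟨hE, hcore, fun x hx => by rw [← pow_two]; exact h.2 x hx, hbig⟩
      by_cases hn : (S : Subgroup (G ⧸ oddCore G)).Normal
      · rcases hset.normal_case hn with ⟨-, h4⟩ | ⟨-, h8 | h8 | h32⟩
        · exact Or.inr (Or.inr (Or.inr (Or.inr (Or.inr (Or.inr (Or.inl h4))))))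
        · exact Or.inr (Or.inl h8)
        · exact Or.inr (Or.inr (Or.inl h8))
        · exact Or.inr (Or.inr (Or.inr (Or.inl h32)))
      · rcases hset.almost_case hn with ⟨-, h4⟩ | ⟨-, h8 | h32⟩
        · exact Or.inr (Or.inr (Or.inr (Or.inr (Or.inr (Or.inr (Or.inr (Or.inl h4)))))))
        · exact Or.inr (Or.inr (Or.inr (Or.inr (Or.inl h8))))
        · exact Or.inr (Or.inr (Or.inr (Or.inr (Or.inr (Or.inl h32)))))
    · refine Or.inl (hcyc ?_)
      obtain ⟨k, hk⟩ := IsPGroup.iff_card.mp S.2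
      have hk1 : k ≤ 1 := by
        by_contra hc
        have : 2 ^ 2 ≤ 2 ^ k := Nat.pow_le_pow_right two_pos (by omega)
        omega
      rcases (show k = 0 ∨ k = 1 by omega) with rfl | rfl
      · haveI : Subsingleton (S : Subgroup (G ⧸ oddCore G)) :=
          Finite.card_le_one_iff_subsingleton.1 (by rw [hk, pow_zero])
        exact isCyclic_of_subsingleton
      · exact isCyclic_of_prime_card (by rw [hk, pow_one])
  · rcases CfsgLib.EqualConj.quat_case hE hcore S e with h3 | h5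
    · exact Or.inr (Or.inr (Or.inr (Or.inr (Or.inr (Or.inr (Or.inr (Or.inr (Or.inl h3))))))))
    · exact Or.inr (Or.inr (Or.inr (Or.inr (Or.inr (Or.inr (Or.inr (Or.inr (Or.inr h5))))))))

end Cfsg.Agent.S4021
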