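import Cfsg.Statements.S4027
import Mathlib
import Cfsg.Agent.S3861
-- import your own Cfsg.Agent.* helpers here

set_option autoImplicit false
open Cfsg

namespace Cfsg.Agent.S4027

/-- Let G be a finite group in which every element x of odd order satisfies N_G(⟨x⟩) = C_G(x). Then the Sylow 2-subgroups of G are normal. -/
theorem result {G : Type*} [Group G] [Finite G]
    (hirr : ∀ x : G, (∀ r : ℕ, r.Prime → r ∣ orderOf x → r ≠ 2) →
      Subgroup.normalizer ((Subgroup.zpowers x : Subgroup G) : Set G) ≤ Subgroup.centralizer {x}) (P : Sylow 2 G) :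
    (P : Subgroup G).Normal := by
  refine Cfsg.Agent.S3861.sylow_normal_of_no_odd_real (fun x hx hodd hreal => hx ?_) P
  obtain ⟨t, ht⟩ := isConj_iff.mp hreal
  have hn : t ∈ Subgroup.normalizer ((Subgroup.zpowers x : Subgroup G) : Set G) := by
    have hle : (Subgroup.zpowers x).map (MulAut.conj t).toMonoidHom ≤ Subgroup.zpowers x := by
      rw [MonoidHom.map_zpowers, Subgroup.zpowers_le]
      show t * x * t⁻¹ ∈ _
      rw [ht]; exact inv_mem (Subgroup.mem_zpowers x)
    have heq := Subgroup.eq_of_le_of_card_ge hle (le_of_eq (Subgroup.card_map_of_injective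
      (f := (MulAut.conj t).toMonoidHom) (MulAut.conj t).injective).symm)
    rw [Subgroup.mem_normalizer_iff]
    intro z
    conv_rhs => rw [← heq]
    exact (Subgroup.mem_map_iff_mem (f := (MulAut.conj t).toMonoidHom) (MulAut.conj t).injective).symm
  have hc := Subgroup.mem_centralizer_singleton_iff.mp (hirr x (fun r hr hrd h2 => by
    subst h2
    exact hodd.not_two_dvd_nat hrd) hn)
  rw [hc, mul_inv_cancel_right] at ht
  refine orderOf_eq_one_iff.mp (Nat.eq_one_of_dvd_coprimes (Nat.coprime_two_left.mpr hodd) ?_ dvd_rfl)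
  refine orderOf_dvd_of_pow_eq_one ?_
  rw [pow_two]
  exact mul_eq_one_iff_eq_inv.mpr ht

end Cfsg.Agent.S4027
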