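import Cfsg.Statements.S4028
import Mathlib
import Cfsg.Agent.S3985
-- import your own Cfsg.Agent.* helpers here

set_option autoImplicit false
open Cfsg

namespace Cfsg.Agent.S4028

open scoped Pointwise

/-- Let G be a finite group with Sylow 2-subgroup P. Then N_G(⟨x⟩) = C_G(x) holds for every 2-element x of G if and only if N_P(⟨y⟩) = C_P(y) holds for every y ∈ P (computed inside P). -/
theorem result {G : Type*} [Group G] [Finite G] (P : Sylow 2 G) :
    (∀ x : G, (∀ r : ℕ, r.Prime → r ∣ orderOf x → r = 2) →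
      Subgroup.normalizer ((Subgroup.zpowers x : Subgroup G) : Set G) ≤ Subgroup.centralizer {x}) ↔
    (∀ y : ↥(P : Subgroup G), Subgroup.normalizer ((Subgroup.zpowers y : Subgroup ↥(P : Subgroup G)) : Set ↥(P : Subgroup G)) ≤
        Subgroup.centralizer {y}) := by
  have h2 := Fact.mk Nat.prime_two
  have hsub : ∀ y t : ↥(P : Subgroup G), t ∈ Subgroup.normalizer ((Subgroup.zpowers y : Subgroup ↥(P : Subgroup G)) : Set ↥(P : Subgroup G)) ↔
      (t : G) ∈ Subgroup.normalizer ((Subgroup.zpowers (y : G) : Subgroup G) : Set G) := by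
    intro y t
    have hiff : ∀ z : ↥(P : Subgroup G), z ∈ Subgroup.zpowers y ↔ (z : G) ∈ Subgroup.zpowers (y : G) := fun z => by
      simp only [Subgroup.mem_zpowers_iff]
      exact exists_congr fun i => by rw [← Subgroup.coe_zpow, Subtype.ext_iff]
    rw [Subgroup.mem_normalizer_iff, Subgroup.mem_normalizer_iff]
    constructor
    · intro h z
      by_cases hz : z ∈ (P : Subgroup G)
      · have := h ⟨z, hz⟩
        rw [hiff, hiff] at this
        exact this
      · refine iff_of_false (fun hh => hz ((Subgroup.zpowers_le.mpr y.2) hh)) fun hh => hz ?_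
        have h1 := (P : Subgroup G).mul_mem ((P : Subgroup G).mul_mem ((P : Subgroup G).inv_mem t.2)
          ((Subgroup.zpowers_le.mpr y.2) hh)) t.2
        rwa [show (t : G)⁻¹ * ((t : G) * z * (t : G)⁻¹) * t = z by group] at h1
    · intro h z
      rw [hiff, hiff]
      exact h z
  constructor
  · intro h y t ht
    have h1 := h (y : G) (fun r hr hrd => by
      obtain ⟨k, hk⟩ := P.isPGroup' y
      have h3 := hrd.trans (orderOf_dvd_of_pow_eq_one (congrArg Subtype.val hk : (y : G) ^ 2 ^ k = 1))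
      exact (Nat.prime_dvd_prime_iff_eq hr Nat.prime_two).mp (hr.dvd_of_dvd_pow h3)) ((hsub y t).mp ht)
    rw [Subgroup.mem_centralizer_singleton_iff] at h1 ⊢
    exact Subtype.ext h1
  · intro h x hx g hg
    obtain ⟨a, ha⟩ : ∃ a, orderOf x = 2 ^ a := ⟨_, Nat.eq_prime_pow_of_unique_prime_dvd (orderOf_pos x).ne'
      fun {d} hd hdd => hx d hd hdd⟩
    rw [Subgroup.mem_centralizer_singleton_iff]
    rcases eq_or_ne a 0 with rfl | ha0
    · rw [pow_zero, orderOf_eq_one_iff] at ha
      subst ha; group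
    obtain ⟨k, hk⟩ := Subgroup.mem_zpowers_iff.mp ((Subgroup.mem_normalizer_iff.mp hg x).mp (Subgroup.mem_zpowers x))
    have hA : Commute (g ^ 2 ^ a) x := by
      have hkodd : (2 : ℤ) ∣ k - 1 := by
        by_contra hk2
        obtain ⟨j, hj⟩ : (2 : ℤ) ∣ k := by omega
        have ho : orderOf (g * x * g⁻¹) = 2 ^ a :=
          (orderOf_injective (MulAut.conj g).toMonoidHom (MulAut.conj g).injective x).trans ha
        have h4 : x ^ k = (x ^ 2) ^ j := by rw [← zpow_natCast x 2, ← zpow_mul, hj]; rfl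
        have h5 : orderOf ((x ^ 2) ^ j) ∣ 2 ^ (a - 1) := by
          refine orderOf_dvd_of_pow_eq_one ?_
          rw [← zpow_natCast, ← zpow_mul, mul_comm, zpow_mul, zpow_natCast, ← pow_mul, ← pow_succ',
            Nat.sub_add_cancel (Nat.pos_of_ne_zero ha0), ← ha, pow_orderOf_eq_one, one_zpow]
        rw [← h4, hk, ho] at h5
        have := (Nat.pow_dvd_pow_iff_le_right (by norm_num)).mp h5
        omega
      have h1 := Cfsg.Agent.S3985.conj_pow_zpow hk.symm (2 ^ a)
      have h2' : x ^ (k ^ (2 ^ a) - 1) = 1 := by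
        rw [← orderOf_dvd_iff_zpow_eq_one, ha]
        have h3 := dvd_sub_pow_of_dvd_sub (R := ℤ) (p := 2) (a := k) (b := 1) (by simpa using hkodd) a
        rw [one_pow] at h3
        push_cast at h3 ⊢
        exact (pow_dvd_pow _ (Nat.le_succ a)).trans h3
      rw [zpow_sub, zpow_one, mul_inv_eq_one] at h2'
      rw [h2', mul_inv_eq_iff_eq_mul] at h1
      exact h1
    have hB : Commute (g ^ ordCompl[2] (orderOf g)) x := by
      set t := g ^ ordCompl[2] (orderOf g) with ht
      have htN : t ∈ Subgroup.normalizer ((Subgroup.zpowers x : Subgroup G) : Set G) := pow_mem hg _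
      have htp : IsPGroup 2 (Subgroup.zpowers t) := by
        have hd : orderOf t ∣ 2 ^ (orderOf g).factorization 2 := orderOf_dvd_of_pow_eq_one (by
          rw [ht, ← pow_mul, mul_comm, Nat.ordProj_mul_ordCompl_eq_self, pow_orderOf_eq_one])
        obtain ⟨i, -, hi⟩ := (Nat.dvd_prime_pow Nat.prime_two).mp hd
        exact IsPGroup.of_card (n := i) (by rw [Nat.card_zpowers, hi])
      have hL : IsPGroup 2 (Subgroup.zpowers t ⊔ Subgroup.zpowers x : Subgroup G) :=
        IsPGroup.to_sup_of_normal_right' htp (IsPGroup.of_card (n := a) (by rw [Nat.card_zpowers, ha]))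
          (Subgroup.zpowers_le.mpr htN)
      obtain ⟨R, hR⟩ := hL.exists_le_sylow
      obtain ⟨c, rfl⟩ := MulAction.exists_smul_eq G P R
      have hmem : ∀ z ∈ (Subgroup.zpowers t ⊔ Subgroup.zpowers x : Subgroup G), c⁻¹ * z * c ∈ (P : Subgroup G) := fun z hz => by
        have := hR hz
        rw [Sylow.coe_subgroup_smul, Subgroup.mem_pointwise_smul_iff_inv_smul_mem, ← map_inv, MulAut.smul_def,
          MulAut.conj_apply, inv_inv] at this
        exact this
      have hy := hmem x (Subgroup.mem_sup_right (Subgroup.mem_zpowers x))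
      have hs := hmem t (Subgroup.mem_sup_left (Subgroup.mem_zpowers t))
      have hconj : ∀ z, z ∈ Subgroup.zpowers (c⁻¹ * x * c) ↔ c * z * c⁻¹ ∈ Subgroup.zpowers x := fun z => by
        simp only [Subgroup.mem_zpowers_iff]
        refine exists_congr fun i => ?_
        have e : (c⁻¹ * x * c) ^ i = c⁻¹ * x ^ i * c := by
          have := conj_zpow (a := c⁻¹) (b := x) (i := i)
          rw [inv_inv] at this
          exact this
        rw [e]
        constructor
        · intro h; rw [← h]; group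
        · intro h; rw [h]; group
      have hsN : c⁻¹ * t * c ∈ Subgroup.normalizer ((Subgroup.zpowers (c⁻¹ * x * c) : Subgroup G) : Set G) := by
        rw [Subgroup.mem_normalizer_iff]
        intro z
        rw [hconj, hconj, show c * (c⁻¹ * t * c * z * (c⁻¹ * t * c)⁻¹) * c⁻¹ = t * (c * z * c⁻¹) * t⁻¹ by group]
        exact Subgroup.mem_normalizer_iff.mp htN _
      have h6 := h ⟨_, hy⟩ ((hsub ⟨_, hy⟩ ⟨_, hs⟩).mpr hsN)
      rw [Subgroup.mem_centralizer_singleton_iff] at h6
      have h7 : c⁻¹ * t * c * (c⁻¹ * x * c) = c⁻¹ * x * c * (c⁻¹ * t * c) := congrArg Subtype.val h6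
      calc t * x = c * (c⁻¹ * t * c * (c⁻¹ * x * c)) * c⁻¹ := by group
        _ = x * t := by rw [h7]; group
    have hco : Nat.gcd (2 ^ a) (ordCompl[2] (orderOf g)) = 1 :=
      Nat.Coprime.pow_left _ (Nat.coprime_ordCompl Nat.prime_two (orderOf_pos g).ne')
    have hb := Nat.gcd_eq_gcd_ab (2 ^ a) (ordCompl[2] (orderOf g))
    rw [hco] at hb
    rw [← zpow_one g, show (1 : ℤ) = ((1 : ℕ) : ℤ) from rfl, hb, zpow_add, zpow_mul, zpow_mul,
      zpow_natCast, zpow_natCast]
    exact ((hA.zpow_left _).mul_left (hB.zpow_left _)).eq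

end Cfsg.Agent.S4028
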