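import Cfsg.Statements.S4029
import Mathlib
import Cfsg.Agent.Lib.PRegularClass
import Cfsg.Agent.Lib.Elementary
import Cfsg.Agent.Lib.Local
-- import your own Cfsg.Agent.* helpers here

set_option autoImplicit false
open Cfsg

namespace Cfsg.Agent.S4029

/-- Let P be a finite 2-group in which N_P(⟨y⟩) = C_P(y) for every y ∈ P. If s is the number of conjugacy classes of involutions of P, then #(P/Φ(P)) ≤ s + 1; in particular the subgroup generated by the involutions of P has order at least #(P/Φ(P)). -/
theorem result {P : Type*} [Group P] [Finite P] (hP : IsPGroup 2 P)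
    (hirr : ∀ y : P, Subgroup.normalizer ((Subgroup.zpowers y : Subgroup P) : Set P) ≤ Subgroup.centralizer {y}) :
    Nat.card (P ⧸ frattini P) ≤ Nat.card {c : ConjClasses P // ∃ y : P, ConjClasses.mk y = c ∧ orderOf y = 2} + 1 ∧
    Nat.card (P ⧸ frattini P) ≤ Nat.card (Subgroup.closure {y : P | orderOf y = 2}) := by
  classical
  have := Fact.mk Nat.prime_two
  have : Fintype P := Fintype.ofFinite P
  set F : Finset P := Finset.univ.filter (fun z => z ∈ frattini P)
  let E : Finset P := Finset.univ.filter (fun g => g * g = 1)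
  -- real elements square to one
  have hreal : ∀ g x : P, x * g * x⁻¹ = g⁻¹ → g * g = 1 ∧ x * g = g * x := by
    intro g x h
    have hn : x ∈ Subgroup.normalizer ((Subgroup.zpowers g : Subgroup P) : Set P) := by
      refine CfsgLib.Local.mem_normalizer_of_map_conj_eq ?_
      rw [MonoidHom.map_zpowers]
      show Subgroup.zpowers (x * g * x⁻¹) = _
      rw [h, Subgroup.zpowers_inv]
    have hc := Subgroup.mem_centralizer_singleton_iff.mp (hirr g hn)
    refine ⟨?_, hc⟩
    rw [hc, mul_inv_cancel_right] at h
    exact eq_inv_iff_mul_eq_one.mp h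
  -- pairs with equal squares
  let Tsq : Finset (P × P) := Finset.univ.filter (fun q => q.1 * q.1 = q.2 * q.2)
  let Tc : Finset (P × P) := Finset.univ.filter (fun q => q.1 * q.1 = 1 ∧ q.2 * q.1 = q.1 * q.2)
  have hbij : Tsq.card = Tc.card := by
    refine Finset.card_bij (fun q _ => (q.2⁻¹ * q.1, q.2)) ?_ ?_ ?_
    · intro q hq
      rw [Finset.mem_filter] at hq ⊢
      refine ⟨Finset.mem_univ _, hreal _ _ ?_⟩
      rw [eq_inv_iff_mul_eq_one]
      calc q.2 * (q.2⁻¹ * q.1) * q.2⁻¹ * (q.2⁻¹ * q.1) = q.1 * (q.2 * q.2)⁻¹ * q.1 := by group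
        _ = 1 := by rw [← hq.2]; group
    · intro a _ b _ h
      have h1 := congrArg Prod.fst h
      have h2 := congrArg Prod.snd h
      simp only at h1 h2
      rw [h2, mul_right_inj] at h1
      exact Prod.ext h1 h2
    · intro q hq
      rw [Finset.mem_filter] at hq
      refine ⟨(q.2 * q.1, q.2), Finset.mem_filter.mpr ⟨Finset.mem_univ _, ?_⟩, ?_⟩
      · show q.2 * q.1 * (q.2 * q.1) = q.2 * q.2
        calc q.2 * q.1 * (q.2 * q.1) = q.2 * (q.1 * (q.2 * q.1)) := by group
          _ = q.2 * (q.1 * (q.1 * q.2)) := by rw [hq.2.2]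
          _ = q.2 * q.2 := by rw [← mul_assoc q.1, hq.2.1, one_mul]
      · simp only [inv_mul_cancel_left]
  have hlow : Fintype.card P ^ 2 ≤ F.card * Tsq.card := by
    have hmem : ∀ u : P, u * u ∈ F := fun u => by
      refine Finset.mem_filter.mpr ⟨Finset.mem_univ _, ?_⟩
      rw [← pow_two]
      exact CfsgLib.pow_mem_frattini_pGroup hP u
    have h1 : Fintype.card P = ∑ z ∈ F, (Finset.univ.filter (fun u : P => u * u = z)).card := by
      rw [← Finset.card_univ]
      exact Finset.card_eq_sum_card_fiberwise (fun u _ => hmem u)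
    have h2 : Tsq.card = ∑ z ∈ F, (Finset.univ.filter (fun u : P => u * u = z)).card ^ 2 := by
      rw [Finset.card_eq_sum_card_fiberwise (f := fun q : P × P => q.1 * q.1) (t := F) (fun q _ => hmem q.1)]
      refine Finset.sum_congr rfl fun z _ => ?_
      rw [pow_two, ← Finset.card_product]
      congr 1
      ext q
      simp only [Tsq, Finset.mem_filter, Finset.mem_univ, true_and, Finset.mem_product]
      exact ⟨fun ⟨a, b⟩ => ⟨b, a.symm.trans b⟩, fun ⟨a, b⟩ => ⟨a.trans b.symm, a⟩⟩
    rw [h1, h2]
    exact sq_sum_le_card_mul_sum_sq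
  have hTc : Tc.card = (E.image ConjClasses.mk).card * Fintype.card P := by
    have h1 : Tc.card = ∑ g ∈ E, Nat.card (Subgroup.centralizer ({g} : Set P)) := by
      rw [Finset.card_eq_sum_card_fiberwise (f := fun q : P × P => q.1) (t := E)
        (fun q hq => Finset.mem_filter.mpr ⟨Finset.mem_univ _, (Finset.mem_filter.mp hq).2.1⟩)]
      refine Finset.sum_congr rfl fun g hg => ?_
      rw [Nat.card_eq_fintype_card, Fintype.card_subtype]
      refine Finset.card_bij (fun q _ => q.2) ?_ ?_ ?_
      · intro q hq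
        simp only [Tc, Finset.mem_filter, Finset.mem_univ, true_and] at hq ⊢
        exact Subgroup.mem_centralizer_singleton_iff.mpr (hq.2 ▸ hq.1.2)
      · intro a ha b hb h
        simp only [Finset.mem_filter] at ha hb
        exact Prod.ext (ha.2.trans hb.2.symm) h
      · intro x hx
        simp only [Finset.mem_filter, Finset.mem_univ, true_and] at hx
        refine ⟨(g, x), ?_, rfl⟩
        simp only [Tc, Finset.mem_filter, Finset.mem_univ, true_and, and_true]
        exact ⟨(Finset.mem_filter.mp hg).2, Subgroup.mem_centralizer_singleton_iff.mp hx⟩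
    rw [h1, ← Finset.sum_fiberwise_of_maps_to (t := E.image ConjClasses.mk) (g := ConjClasses.mk) (fun g hg => Finset.mem_image_of_mem _ hg)]
    rw [Finset.sum_const_nat (m := Fintype.card P)]
    intro c hc
    obtain ⟨g₀, hg₀, rfl⟩ := Finset.mem_image.mp hc
    have hset : E.filter (fun g => ConjClasses.mk g = ConjClasses.mk g₀) = Finset.univ.filter (fun g => ConjClasses.mk g = ConjClasses.mk g₀) := by
      ext g
      simp only [E, Finset.mem_filter, Finset.mem_univ, true_and, and_iff_right_iff_imp]
      intro hg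
      obtain ⟨w, hw⟩ := isConj_iff.mp (ConjClasses.mk_eq_mk_iff_isConj.mp hg.symm)
      have h2 := (Finset.mem_filter.mp hg₀).2
      rw [← hw, show w * g₀ * w⁻¹ * (w * g₀ * w⁻¹) = w * (g₀ * g₀) * w⁻¹ by group, h2, mul_one, mul_inv_cancel]
    have hconst : ∀ g ∈ E.filter (fun g => ConjClasses.mk g = ConjClasses.mk g₀),
        Nat.card (Subgroup.centralizer ({g} : Set P)) = Nat.card (Subgroup.centralizer ({g₀} : Set P)) := by
      intro g hg
      have h1 := CfsgLib.ncard_carrier_eq_index_centralizer g
      rw [(Finset.mem_filter.mp hg).2, CfsgLib.ncard_carrier_eq_index_centralizer g₀] at h1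
      have e1 := (Subgroup.centralizer ({g} : Set P)).card_mul_index
      have e2 := (Subgroup.centralizer ({g₀} : Set P)).card_mul_index
      rw [← h1, ← e2] at e1
      exact Nat.eq_of_mul_eq_mul_right (Nat.pos_of_ne_zero Subgroup.index_ne_zero_of_finite) e1
    rw [Finset.sum_const_nat hconst, hset]
    have hc' : (Finset.univ.filter (fun g => ConjClasses.mk g = ConjClasses.mk g₀)).card = (ConjClasses.mk g₀).carrier.ncard := by
      rw [← Set.ncard_coe_finset]
      congr 1
      ext g
      simp [ConjClasses.mem_carrier_iff_mk_eq]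
    rw [hc', CfsgLib.ncard_carrier_eq_index_centralizer, mul_comm, Subgroup.card_mul_index, Nat.card_eq_fintype_card]
  set I : Finset P := Finset.univ.filter (fun y => orderOf y = 2)
  have hI : (E.image ConjClasses.mk).card ≤ (I.image ConjClasses.mk).card + 1 := by
    refine (Finset.card_le_card (t := insert (ConjClasses.mk 1) (I.image ConjClasses.mk)) fun c hc => ?_).trans (Finset.card_insert_le _ _)
    obtain ⟨g, hg, rfl⟩ := Finset.mem_image.mp hc
    rcases eq_or_ne g 1 with rfl | h1
    · exact Finset.mem_insert_self _ _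
    · refine Finset.mem_insert_of_mem (Finset.mem_image_of_mem _ (Finset.mem_filter.mpr ⟨Finset.mem_univ _, ?_⟩))
      exact orderOf_eq_prime (by rw [pow_two]; exact (Finset.mem_filter.mp hg).2) h1
  have hs : Nat.card {c : ConjClasses P // ∃ y : P, ConjClasses.mk y = c ∧ orderOf y = 2} = (I.image ConjClasses.mk).card := by
    rw [← Nat.card_eq_finsetCard]
    refine Nat.card_congr (Equiv.subtypeEquivRight fun c => ?_)
    simp only [Finset.mem_image, I, Finset.mem_filter, Finset.mem_univ, true_and]
    exact ⟨fun ⟨y, a, b⟩ => ⟨y, b, a⟩, fun ⟨y, a, b⟩ => ⟨y, b, a⟩⟩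
  have hFc : F.card = Nat.card (frattini P) := by
    rw [Nat.card_eq_fintype_card, Fintype.card_subtype]
  have hkey : Nat.card (P ⧸ frattini P) ≤ (E.image ConjClasses.mk).card := by
    rw [hbij, hTc, hFc, ← Nat.card_eq_fintype_card, Subgroup.card_eq_card_quotient_mul_card_subgroup (frattini P), pow_two] at hlow
    have hpos : 0 < Nat.card (P ⧸ frattini P) * Nat.card (frattini P) * Nat.card (frattini P) :=
      Nat.mul_pos (Nat.mul_pos Nat.card_pos Nat.card_pos) Nat.card_pos
    nlinarith
  have h1 : Nat.card (P ⧸ frattini P) ≤ (I.image ConjClasses.mk).card + 1 := hkey.trans hI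
  refine ⟨hs ▸ h1, h1.trans ?_⟩
  have h2 : (I.image ConjClasses.mk).card + 1 ≤ (insert (1 : P) I).card := by
    rw [Finset.card_insert_of_notMem (by simp [I])]
    exact Nat.add_le_add_right Finset.card_image_le 1
  refine h2.trans ?_
  rw [← Nat.card_eq_finsetCard]
  refine Nat.card_le_card_of_injective (fun y => ⟨(y : P), ?_⟩) fun a b h => Subtype.ext (congrArg Subtype.val h :)
  rcases Finset.mem_insert.mp y.2 with h | h
  · rw [h]; exact one_mem _
  · exact Subgroup.subset_closure (Finset.mem_filter.mp h).2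

end Cfsg.Agent.S4029
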