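import Cfsg.Statements.S4032
import Mathlib
import Cfsg.Agent.Lib.HallPi
import Cfsg.Agent.Lib.LiftConj
-- import your own Cfsg.Agent.* helpers here

set_option autoImplicit false
open Cfsg

namespace Cfsg.Agent.S4032

/-- Let π be a set of primes and G a finite group in which N_G(⟨x⟩) = C_G(x) for every π-element x. If N is a normal subgroup of G whose order is divisible by no prime of π, then G/N has the same property: N_{G/N}(⟨y⟩) = C_{G/N}(y) for every π-element y of G/N. -/
theorem result {G : Type*} [Group G] [Finite G] (π : Set ℕ)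
    (hirr : ∀ x : G, (∀ r : ℕ, r.Prime → r ∣ orderOf x → r ∈ π) →
      Subgroup.normalizer ((Subgroup.zpowers x : Subgroup G) : Set G) ≤ Subgroup.centralizer {x})
    (N : Subgroup G) [N.Normal] (hN : ∀ r : ℕ, r.Prime → r ∣ Nat.card N → r ∉ π) :
    ∀ y : G ⧸ N, (∀ r : ℕ, r.Prime → r ∣ orderOf y → r ∈ π) →
      Subgroup.normalizer ((Subgroup.zpowers y : Subgroup (G ⧸ N)) : Set (G ⧸ N)) ≤ Subgroup.centralizer {y} := by
  intro y hy g hg
  have hcop : (orderOf y).Coprime (Nat.card N) :=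
    CfsgLib.coprime_of_pi hy fun p hp hpπ hd => hN p hp hd hpπ
  obtain ⟨x, rfl, hxo⟩ := CfsgLib.exists_lift_orderOf_eq N y hcop
  obtain ⟨k, rfl⟩ := QuotientGroup.mk'_surjective N g
  set π' := QuotientGroup.mk' N with hπ'
  have hk : k⁻¹ * x * k ∈ N ⊔ Subgroup.zpowers x := by
    have h1 : π' (k⁻¹ * x * k) ∈ Subgroup.zpowers (π' x) := by
      rw [map_mul, map_mul, map_inv]
      exact (Subgroup.mem_normalizer_iff''.mp hg _).mp (Subgroup.mem_zpowers _)
    rw [← MonoidHom.map_zpowers] at h1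
    obtain ⟨z, hz, hzk⟩ := h1
    have h2 : k⁻¹ * x * k * z⁻¹ ∈ N := by
      rw [← QuotientGroup.eq_one_iff]
      show π' (k⁻¹ * x * k * z⁻¹) = 1
      rw [map_mul, map_inv, hzk, mul_inv_cancel]
    have := Subgroup.mul_mem_sup h2 hz
    rwa [inv_mul_cancel_right] at this
  obtain ⟨w, hw, hn⟩ := CfsgLib.exists_lift_normalizing N (x := x) (k := k) (hxo ▸ hcop) hk
  have hc := hirr x (fun r hr hrd => hy r hr (hxo ▸ hrd)) hn
  rw [Subgroup.mem_centralizer_singleton_iff] at hc ⊢
  have hw1 : π' w = 1 := (QuotientGroup.eq_one_iff w).mpr hw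
  have h3 := congrArg π' hc
  simp only [map_mul, hw1, mul_one] at h3
  exact h3

end Cfsg.Agent.S4032
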