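import Cfsg.Statements.S4036
import Mathlib
-- import your own Cfsg.Agent.* helpers here

set_option autoImplicit false
open Cfsg

namespace Cfsg.Agent.S4036

open scoped Pointwise

/-- Let P be a finite abelian p-group and K a group of automorphisms of P (a subgroup of Aut P) whose order is divisible by p. If all non-identity elements of K have the same fixed-point subgroup on P, then K has no non-trivial normal subgroup of order prime to p. -/
theorem result {P : Type*} [CommGroup P] [Finite P] {p : ℕ}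
    [Fact p.Prime] (hP : IsPGroup p P) (K : Subgroup (MulAut P)) (hK : p ∣ Nat.card K)
    (hfix : ∀ x y : MulAut P, x ∈ K → y ∈ K → x ≠ 1 → y ≠ 1 → ∀ v : P, x v = v ↔ y v = v) :
    ∀ N : Subgroup ↥K, N.Normal → ¬ p ∣ Nat.card N → N = ⊥ := by
  classical
  intro N hN hpN
  have hfix' := hfix
  by_contra hNb
  have hp : p.Prime := Fact.out
  obtain ⟨⟨x, hxK⟩, hxo⟩ := exists_prime_orderOf_dvd_card' p hK
  rw [Subgroup.orderOf_mk] at hxo
  have hx1 : x ≠ 1 := fun e => hp.ne_one (by rw [← hxo, e, orderOf_one])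
  have hnt := (Subgroup.nontrivial_iff_ne_bot _).mpr hNb
  obtain ⟨⟨⟨n₀, hn₀K⟩, hn₀⟩, hn₀1⟩ := exists_ne (1 : N)
  have hn1 : n₀ ≠ 1 := fun e => hn₀1 (Subtype.ext (Subtype.ext e))
  have := Fintype.ofFinite N
  let E : P →* P := MonoidHom.mk' (fun v => ∏ n : N, ((n : K) : MulAut P) v)
    (fun a b => by simp only [map_mul, Finset.prod_mul_distrib])
  let T : P →* P := powMonoidHom (Nat.card N) / E
  have hEn : ∀ (m : N) v, ((m : K) : MulAut P) (E v) = E v := by
    intro m v
    show ((m : K) : MulAut P) (∏ n : N, ((n : K) : MulAut P) v) = ∏ n : N, ((n : K) : MulAut P) v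
    rw [map_prod]
    exact Fintype.prod_equiv (Equiv.mulLeft m) _ _ (fun n => rfl)
  have hfix : ∀ v, ((n₀ : MulAut P) v = v) → E v = v ^ Nat.card N := by
    intro v hv
    show (∏ n : N, ((n : K) : MulAut P) v) = _
    rw [Finset.prod_congr rfl (g := fun _ : N => v) (fun n _ => ?_), Finset.prod_const, Finset.card_univ,
      Nat.card_eq_fintype_card]
    by_cases h : ((n : K) : MulAut P) = 1
    · rw [h]; rfl
    · exact (hfix' n₀ _ hn₀K (n : K).2 hn1 h v).mp hv
  have hEq : ∀ (s : K) v, (s : MulAut P) (E v) = E ((s : MulAut P) v) := by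
    intro s v
    show (s : MulAut P) (∏ n : N, ((n : K) : MulAut P) v) = ∏ n : N, ((n : K) : MulAut P) ((s : MulAut P) v)
    rw [map_prod]
    let c : N ≃ N :=
      { toFun := fun n => ⟨s * n * s⁻¹, hN.conj_mem _ n.2 s⟩
        invFun := fun n => ⟨s⁻¹ * n * s⁻¹⁻¹, hN.conj_mem _ n.2 s⁻¹⟩
        left_inv := fun n => Subtype.ext (by show s⁻¹ * (s * (n : K) * s⁻¹) * s⁻¹⁻¹ = n; group)
        right_inv := fun n => Subtype.ext (by show s * (s⁻¹ * (n : K) * s⁻¹⁻¹) * s⁻¹ = n; group) }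
    refine Fintype.prod_equiv c _ _ (fun n => ?_)
    show (s : MulAut P) (((n : K) : MulAut P) v) = ((s * (n : K) * s⁻¹ : K) : MulAut P) ((s : MulAut P) v)
    simp
  have hTs : ∀ (s : K) v, (s : MulAut P) (T v) = T ((s : MulAut P) v) := by
    intro s v
    show (s : MulAut P) (v ^ Nat.card N / E v) = ((s : MulAut P) v) ^ Nat.card N / E ((s : MulAut P) v)
    rw [map_div, map_pow, hEq]
  have hzK : Subgroup.zpowers x ≤ K := Subgroup.zpowers_le.mpr hxK
  set I : Subgroup P := T.range with hI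
  let act : MulAction (Subgroup.zpowers x) I :=
    { smul := fun s v => ⟨(s : MulAut P) v, by
        obtain ⟨w, hw⟩ := v.2
        exact ⟨(s : MulAut P) w, by rw [← hw, hTs ⟨(s : MulAut P), hzK s.2⟩]⟩⟩
      one_smul := fun v => rfl
      mul_smul := fun _ _ _ => rfl }
  have hpz : IsPGroup p (Subgroup.zpowers x) := IsPGroup.of_card (n := 1) (by rw [Nat.card_zpowers, hxo, pow_one])
  have hIne : I ≠ ⊥ := by
    intro e
    apply hn1
    ext v
    have h1 : T v = 1 := Subgroup.mem_bot.mp (e ▸ ⟨v, rfl⟩)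
    have h2 : v ^ Nat.card N = E v := div_eq_one.mp h1
    obtain ⟨i, hi⟩ := hP v
    have hcop : (orderOf v).Coprime (Nat.card N) :=
      Nat.Coprime.coprime_dvd_left (orderOf_dvd_of_pow_eq_one hi) ((hp.coprime_iff_not_dvd.mpr hpN).pow_left i)
    obtain ⟨m, hm⟩ := exists_pow_eq_self_of_coprime hcop.symm
    show n₀ v = v
    rw [← hm, map_pow, h2]
    exact congrArg (· ^ m) (hEn ⟨⟨n₀, hn₀K⟩, hn₀⟩ v)
  have hd : p ∣ Nat.card I := by
    obtain ⟨i, hi⟩ := IsPGroup.iff_card.mp (hP.to_subgroup I)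
    rw [hi]
    refine dvd_pow_self p fun h0 => hIne (Subgroup.card_eq_one.mp ?_)
    rw [hi, h0, pow_zero]
  obtain ⟨⟨u, hu⟩, huf, hu1⟩ := hpz.exists_fixed_point_of_prime_dvd_card_of_fixed_point I hd
    (a := (1 : I)) (fun s => Subtype.ext (map_one (s : MulAut P)))
  apply hu1
  have hxu : x u = u := congrArg Subtype.val (huf ⟨x, Subgroup.mem_zpowers x⟩)
  have hnu : n₀ u = u := (hfix' x n₀ hxK hn₀K hx1 hn1 u).mp hxu
  have hEu : E u = 1 := by
    obtain ⟨w, rfl⟩ := hu
    show E (w ^ Nat.card N / E w) = 1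
    rw [map_div, map_pow, div_eq_one]
    show (E w) ^ Nat.card N = ∏ n : N, ((n : K) : MulAut P) (E w)
    simp only [hEn, Finset.prod_const, Finset.card_univ, Nat.card_eq_fintype_card]
  rw [hfix u hnu] at hEu
  obtain ⟨i, hi⟩ := hP u
  have hcop : (p ^ i).Coprime (Nat.card N) := (hp.coprime_iff_not_dvd.mpr hpN).pow_left i
  have h1 := Nat.eq_one_of_dvd_coprimes hcop (orderOf_dvd_of_pow_eq_one hi) (orderOf_dvd_of_pow_eq_one hEu)
  exact Subtype.ext (orderOf_eq_one_iff.mp h1).symm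

end Cfsg.Agent.S4036
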