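import Cfsg.Statements.S4041
import Cfsg.Agent.Lib.S3Simple.Operators
import Cfsg.Agent.Lib.S3Simple.Classification
-- import your own Cfsg.Agent.* helpers here

set_option autoImplicit false
open Cfsg

namespace Cfsg.Agent.S4041

/-- Let G be a finite group in which the symmetric group of degree 3 is not involved, and let π be the set of primes dividing the order of G. Let a finite group A act on G by automorphisms so that the identity is the only element of G fixed by every element of A, and suppose A has a nilpotent Hall π-subgroup and a normal π-complement (a normal subgroup whose order is divisible by no prime of π and whose index is divisible only by primes of π). Then G is solvable. -/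
theorem result {G A : Type*} [Group G] [Finite G]
    [Group A] [Finite A] (φ : A →* MulAut G) (hfpf : ∀ g : G, (∀ a : A, φ a g = g) → g = 1)
    (hS3 : ¬ Cfsg.Involves (Equiv.Perm (Fin 3)) G)
    (hHall : ∃ H : Subgroup A, Cfsg.IsPiHall {r : ℕ | r.Prime ∧ r ∣ Nat.card G} H ∧ Group.IsNilpotent H)
    (hcomp : ∃ K : Subgroup A, K.Normal ∧ (∀ r : ℕ, r.Prime → r ∣ Nat.card K → ¬ r ∣ Nat.card G) ∧
      ∀ r : ℕ, r.Prime → r ∣ K.index → r ∣ Nat.card G) :
    Group.IsSolvable G := by
  obtain ⟨H, ⟨hH, hH'⟩, hnil⟩ := hHall
  obtain ⟨K, hKn, hKc, hKi⟩ := hcomp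
  haveI := hKn
  haveI := hnil
  have hcK : (Nat.card K).Coprime (Nat.card G) := Nat.coprime_of_dvd fun r hr h1 h2 => hKc r hr h1 h2
  have hsurj : Function.Surjective ((QuotientGroup.mk' K).comp H.subtype) := by
    have hd : Nat.card K * Nat.card H = Nat.card A := by
      have h1 : (Nat.card H).Coprime (Nat.card K) := Nat.coprime_of_dvd fun r hr h1 h2 => hKc r hr h2 (hH r hr h1).2
      have h2 : Nat.card H ∣ K.index := h1.dvd_of_dvd_mul_left (K.card_mul_index ▸ H.card_subgroup_dvd_card)
      obtain ⟨c, hc⟩ := h2
      have h4 : Nat.card K * (Nat.card H * c) = Nat.card H * H.index := by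
        rw [← hc, K.card_mul_index, H.card_mul_index]
      have h5 : H.index = Nat.card K * c := by
        refine Nat.eq_of_mul_eq_mul_left (Nat.card_pos (α := H)) ?_
        rw [← h4]; ring
      have h6 : c = 1 := by
        by_contra hne
        obtain ⟨r, hr, hrc⟩ := Nat.exists_prime_and_dvd hne
        have hrG : r ∣ Nat.card G := hKi r hr (hc ▸ dvd_mul_of_dvd_right hrc _)
        exact hH' r hr ⟨hr, hrG⟩ (h5 ▸ dvd_mul_of_dvd_right hrc _)
      rw [h6, mul_one] at h5
      rw [← h5, mul_comm, H.card_mul_index]
    refine ((Nat.bijective_iff_injective_and_card _).mpr ⟨(injective_iff_map_eq_one _).mpr fun h hh => ?_, ?_⟩).2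
    · have h1 : orderOf h ∣ Nat.card H := orderOf_dvd_natCard h
      have h2 : orderOf h ∣ Nat.card K := by
        rw [← Subgroup.orderOf_coe]
        exact Subgroup.orderOf_dvd_natCard _ ((QuotientGroup.eq_one_iff _).mp hh)
      by_contra hne
      obtain ⟨r, hr, hrd⟩ := Nat.exists_prime_and_dvd (fun e => hne (orderOf_eq_one_iff.mp e))
      exact hKc r hr (hrd.trans h2) (hH r hr (hrd.trans h1)).2
    · rw [← Subgroup.index_eq_card]
      exact Nat.eq_of_mul_eq_mul_left (Nat.card_pos (α := K)) (hd.trans K.card_mul_index.symm)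
  haveI : Group.IsNilpotent (A ⧸ K) := Group.nilpotent_of_surjective _ hsurj
  exact CfsgLib.S3Simple.Operators.solvable_of_killed CfsgLib.S3Simple.eightKilled CfsgLib.S3Simple.fourKilled G A φ
    (QuotientGroup.mk' K) hfpf hS3 (by rw [QuotientGroup.ker_mk']; exact hcK)

end Cfsg.Agent.S4041
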