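import Cfsg.Statements.S4043
import Mathlib
import Cfsg.Agent.Lib.PComplement
import Cfsg.Agent.Lib.Coprime
import Cfsg.Agent.Lib.CoprimeGen
-- import your own Cfsg.Agent.* helpers here

set_option autoImplicit false
open Cfsg

namespace Cfsg.Agent.S4043

open scoped Pointwise

/-- Let G be a finite group that is the semidirect product of a normal p-subgroup N by a subgroup A, and also of N by a subgroup A₁, where p is a prime and A and A₁ both have normal p-complements. If C_N(A) = C_N(A₁) = 1, then A₁ is conjugate to A by an element of N. -/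
theorem result {G : Type*} [Group G] [Finite G] {p : ℕ}
    [Fact p.Prime] (N : Subgroup G) [N.Normal] (hN : IsPGroup p N) (A A₁ : Subgroup G)
    (hA : A.IsComplement' N) (hA₁ : A₁.IsComplement' N)
    (hAp : Cfsg.HasNormalPComplement p A) (hA₁p : Cfsg.HasNormalPComplement p A₁)
    (hC : ∀ n : G, n ∈ N → (∀ a : G, a ∈ A → a * n * a⁻¹ = n) → n = 1)
    (hC₁ : ∀ n : G, n ∈ N → (∀ a : G, a ∈ A₁ → a * n * a⁻¹ = n) → n = 1) :
    ∃ n : G, n ∈ N ∧ A₁ = A.map (MulAut.conj n).toMonoidHom := by
  classical
  have hp : p.Prime := Fact.out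
  obtain ⟨n₀, hn₀⟩ := hN.exists_card_eq
  -- the p-residuals of the complements
  have key : ∀ B : Subgroup G, B.IsComplement' N → Cfsg.HasNormalPComplement p B →
      ∃ Q : Subgroup G, Q ≤ B ∧ B ≤ Subgroup.normalizer (Q : Set G) ∧ (Nat.card Q).Coprime p ∧
        Q ⊔ N = Cfsg.pResidual p G ⊔ N ∧ ∀ g ∈ B, (orderOf g).Coprime p → g ∈ Q := by
    intro B hB hBp
    refine ⟨(Cfsg.pResidual p B).map B.subtype, Subgroup.map_subtype_le _, ?_, ?_, ?_, ?_⟩
    · exact (CfsgLib.le_normalizer_map_characteristic Subgroup.le_normalizer (Cfsg.pResidual p B)).1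
    · rw [Subgroup.card_map_of_injective B.subtype_injective]
      exact CfsgLib.hasNormalPComplement_iff_pResidual.mp hBp
    · refine le_antisymm (sup_le ?_ le_sup_right) (sup_le ?_ le_sup_right)
      · refine le_trans ?_ le_sup_left
        rw [Subgroup.map_le_iff_le_comap]
        exact CfsgLib.pResidual_le fun g hg => CfsgLib.mem_pResidual
          (by rwa [orderOf_injective B.subtype B.subtype_injective g])
      · have hnorm : ((Cfsg.pResidual p B).map B.subtype ⊔ N).Normal := by
          refine Subgroup.normalizer_eq_top_iff.mp (top_le_iff.mp ?_)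
          rw [← hB.sup_eq_top]
          refine sup_le ?_ ((le_sup_right).trans Subgroup.le_normalizer)
          refine le_trans (le_inf (CfsgLib.le_normalizer_map_characteristic Subgroup.le_normalizer
            (Cfsg.pResidual p B)).1 ?_) (Subgroup.normalizer_inf_normalizer_le_normalizer_sup _ _)
          rw [Subgroup.normalizer_eq_top]
          exact le_top
        refine CfsgLib.pResidual_le fun g hg => ?_
        obtain ⟨⟨a, m⟩, rfl⟩ := (show Function.Surjective fun z : B × N => (z.1 : G) * z.2 from hB.2) g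
        refine Subgroup.mul_mem_sup (Subgroup.mem_map_of_mem _ (CfsgLib.mem_pResidual ?_)) m.2
        refine Nat.Coprime.coprime_dvd_left (orderOf_dvd_of_pow_eq_one ?_) hg
        have h1 : QuotientGroup.mk' N ((a : G) ^ orderOf ((a : G) * (m : G))) = 1 := by
          rw [map_pow, QuotientGroup.mk'_apply, ← QuotientGroup.mk_mul_of_mem (a : G) m.2,
            ← QuotientGroup.mk_pow, pow_orderOf_eq_one, QuotientGroup.mk_one]
        rw [QuotientGroup.mk'_apply, QuotientGroup.eq_one_iff] at h1
        have h2 := Subgroup.disjoint_def.mp hB.disjoint (B.pow_mem a.2 _) h1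
        exact Subtype.ext h2
    · intro g hg hcop
      exact ⟨⟨g, hg⟩, CfsgLib.mem_pResidual (by rwa [← Subgroup.orderOf_coe]), rfl⟩
  obtain ⟨Q, hQA, hAQ, hQcop, hQN, hQmem⟩ := key A hA hAp
  obtain ⟨R, hRA, hAR, hRcop, hRN, -⟩ := key A₁ hA₁ hA₁p
  set M := Cfsg.pResidual p G ⊔ N with hM
  have hNM : N ≤ M := le_sup_right
  have hQM : Q ≤ M := hQN ▸ le_sup_left
  have hRM : R ≤ M := hRN ▸ le_sup_left
  -- conjugate R to Q inside M
  have hcompl : ∀ B : Subgroup G, (Nat.card B).Coprime p → B ⊔ N = M → B ≤ M →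
      (N.subgroupOf M).IsComplement' (B.subgroupOf M) := by
    intro B hBc hBN hBM
    refine Subgroup.isComplement'_of_disjoint_and_mul_eq_univ ?_ ?_
    · refine Subgroup.disjoint_of_coprime_natCard ?_
      rw [Nat.card_congr (Subgroup.subgroupOfEquivOfLe hNM).toEquiv,
        Nat.card_congr (Subgroup.subgroupOfEquivOfLe hBM).toEquiv, hn₀]
      exact hBc.symm.pow_left _
    · rw [← Subgroup.normal_mul, ← Subgroup.subgroupOf_sup hNM hBM, sup_comm, hBN,
        Subgroup.subgroupOf_self, Subgroup.coe_top]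
  have hNsolv : Group.IsSolvable (N.subgroupOf M) := by
    have := (hN.of_equiv (Subgroup.subgroupOfEquivOfLe hNM).symm).isNilpotent
    infer_instance
  have hNcop : (Nat.card (N.subgroupOf M)).Coprime (N.subgroupOf M).index := by
    rw [(hcompl Q hQcop hQN hQM).symm.index_eq_card,
      Nat.card_congr (Subgroup.subgroupOfEquivOfLe hNM).toEquiv,
      Nat.card_congr (Subgroup.subgroupOfEquivOfLe hQM).toEquiv, hn₀]
    exact hQcop.symm.pow_left _
  obtain ⟨n, hn, hnQ⟩ := CfsgLib.complements_conj_mem hNcop (Or.inl hNsolv)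
    (hcompl Q hQcop hQN hQM) (hcompl R hRcop hRN hRM)
  rw [Subgroup.mem_subgroupOf] at hn
  have hconjQ : MulAut.conj (n : G) • Q = R := CfsgLib.conj_subgroupOf hQM hRM hnQ
  -- the normalizer of Q is A
  have hC : N ⊓ Subgroup.normalizer (Q : Set G) = ⊥ := by
    set C := N ⊓ Subgroup.normalizer (Q : Set G)
    by_contra hne
    have hAC : A ≤ Subgroup.normalizer (C : Set G) := by
      refine le_trans ?_ (Subgroup.inf_normalizer_le_normalizer_inf)
      refine le_inf ?_ (hAQ.trans Subgroup.le_normalizer)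
      rw [Subgroup.normalizer_eq_top]
      exact le_top
    obtain ⟨P⟩ : Nonempty (Sylow p A) := inferInstance
    let φ : ↥(P : Subgroup A) →* MulAut C :=
      C.normalizerMonoidHom.comp ((Subgroup.inclusion hAC).comp (P : Subgroup A).subtype)
    let := MulAction.compHom C φ
    obtain ⟨k, hk⟩ := (hN.to_le (inf_le_left : C ≤ N)).exists_card_eq
    have hk0 : k ≠ 0 := fun h0 => hne (Subgroup.card_eq_one.mp (by rw [hk, h0, pow_zero]))
    have h1 : (1 : C) ∈ MulAction.fixedPoints ↥(P : Subgroup A) C := fun x => map_one (φ x)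
    obtain ⟨c, hc, hc1⟩ := P.2.exists_fixed_point_of_prime_dvd_card_of_fixed_point C
      (hk ▸ dvd_pow_self p hk0) h1
    refine hc1 (Subtype.ext (hC _ (Subgroup.mem_inf.mp c.2).1 fun a ha => ?_).symm)
    -- A is generated by Q and P
    have hset : A ≤ (Q ⊔ (P : Subgroup A).map A.subtype) ⊓ A := le_inf ?_ le_rfl
    · have : a ∈ Subgroup.centralizer ({(c : G)} : Set G) := by
        refine (sup_le ?_ ?_ : Q ⊔ (P : Subgroup A).map A.subtype ≤ _) (hset ha).1
        · intro y hy
          rw [Subgroup.mem_centralizer_singleton_iff]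
          have hcQ : (c : G) * y * (c : G)⁻¹ ∈ Q :=
            (Subgroup.mem_normalizer_iff.mp (Subgroup.mem_inf.mp c.2).2 y).mp hy
          have hcN : (c : G) * y * (c : G)⁻¹ * y⁻¹ ∈ N := by
            simpa [mul_assoc] using N.mul_mem (Subgroup.mem_inf.mp c.2).1
              ((inferInstance : N.Normal).conj_mem _ (N.inv_mem (Subgroup.mem_inf.mp c.2).1) y)
          have := Subgroup.disjoint_def.mp hA.disjoint (A.mul_mem (hQA hcQ) (A.inv_mem (hQA hy))) hcN
          rw [mul_inv_eq_one, mul_inv_eq_iff_eq_mul] at this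
          exact this.symm
        · rintro _ ⟨y, hy, rfl⟩
          rw [Subgroup.mem_centralizer_singleton_iff]
          have := congrArg (Subtype.val) (hc ⟨y, hy⟩)
          exact mul_inv_eq_iff_eq_mul.mp this
      rw [Subgroup.mem_centralizer_singleton_iff] at this
      rw [this, mul_inv_cancel_right]
    · have e : Cfsg.pResidual p A ⊔ (P : Subgroup A) = ⊤ := by
        rw [sup_comm]; exact CfsgLib.sylow_sup_eq_top_of_pResidual_le P le_rfl |> fun h => by
          first | exact h | (rw [sup_comm]; exact h)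
      intro x hx
      have hx' : (⟨x, hx⟩ : A) ∈ Cfsg.pResidual p A ⊔ (P : Subgroup A) := e ▸ Subgroup.mem_top _
      have := Subgroup.mem_map_of_mem A.subtype hx'
      rw [Subgroup.map_sup] at this
      refine (sup_le_sup_right ?_ _ : _ ≤ Q ⊔ _) this
      rw [Subgroup.map_le_iff_le_comap]
      exact CfsgLib.pResidual_le fun g hg => hQmem g g.2 (by rwa [Subgroup.orderOf_coe])
  refine ⟨n, hn, Subgroup.eq_of_le_of_card_ge ?_ ?_⟩
  · intro y hy
    obtain ⟨⟨a, m⟩, ham⟩ := (show Function.Surjective fun z : A × N => (z.1 : G) * z.2 from hA.2)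
      ((n : G)⁻¹ * y * n)
    simp only at ham
    have hyQ : (n : G)⁻¹ * y * n ∈ Subgroup.normalizer (Q : Set G) := by
      have h1 := hAR hy
      rw [Subgroup.mem_normalizer_iff] at h1 ⊢
      intro z
      have h2 := h1 ((n : G) * z * (n : G)⁻¹)
      rw [← hconjQ] at h2
      simp only [Subgroup.mem_pointwise_smul_iff_inv_smul_mem, MulAut.smul_def, MulAut.inv_def,
        MulAut.conj_symm_apply] at h2
      simpa [mul_assoc] using h2
    rw [← ham] at hyQ
    have hm : (m : G) ∈ (⊥ : Subgroup G) := by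
      rw [← hC]
      refine Subgroup.mem_inf.mpr ⟨m.2, ?_⟩
      simpa using mul_mem (inv_mem (hAQ a.2)) hyQ
    rw [Subgroup.mem_bot] at hm
    refine ⟨a, a.2, ?_⟩
    rw [hm, mul_one] at ham
    show (n : G) * a * (n : G)⁻¹ = y
    rw [ham]; group
  · rw [Subgroup.card_map_of_injective (MulEquiv.injective _), ← hA.index_eq_card,
      ← hA₁.index_eq_card]

end Cfsg.Agent.S4043
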