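import Cfsg.Statements.S4044
import Cfsg.Agent.Lib.HallNumbers.Necessary
import Cfsg.Agent.Lib.HallNumbers.Sixty
-- import your own Cfsg.Agent.* helpers here

set_option autoImplicit false
open Cfsg

namespace Cfsg.Agent.S4044

/-- For an integer m ≥ 2 the following are equivalent: (a) every finite group whose order n is divisible by m with gcd(m, n/m) = 1 has a subgroup of order m; (b) m is a prime power, or m ≡ 2 (mod 4), or m ∈ {12, 24, 60}. -/
theorem result (m : ℕ) (hm : 2 ≤ m) :
    (∀ (G : Type) [Group G] [Finite G], m ∣ Nat.card G → m.Coprime (Nat.card G / m) →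
        ∃ H : Subgroup G, Nat.card H = m) ↔
    (IsPrimePow m ∨ m % 4 = 2 ∨ m = 12 ∨ m = 24 ∨ m = 60) := by
  refine ⟨fun h => CfsgLib.HallNumbers.necessary hm h, ?_⟩
  intro h G _ _ hd hc
  rcases h with hpp | h2 | rfl | rfl | rfl
  · obtain ⟨p, k, hp, -, rfl⟩ := hpp
    haveI : Fact p.Prime := ⟨hp.nat_prime⟩
    exact Sylow.exists_subgroup_card_pow_prime p hd
  · exact CfsgLib.HallNumbers.hall_two h2 hd hc
  · exact CfsgLib.HallNumbers.hall_twelve hd hc
  · exact CfsgLib.HallNumbers.hall_twentyfour hd hc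
  · exact CfsgLib.HallNumbers.hall_sixty hd hc

end Cfsg.Agent.S4044
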