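import Cfsg.Statements.S4049
import Mathlib
import Cfsg.Agent.S3861
import Cfsg.Agent.S3863
-- import your own Cfsg.Agent.* helpers here

set_option autoImplicit false
open Cfsg

namespace Cfsg.Agent.S4049

/-- Let G be a finite group such that N_G(H)/C_G(H) has odd order for every nontrivial subgroup H of odd order. Then the Sylow 2-subgroups of G are normal. -/
theorem result {G : Type*} [Group G] [Finite G]
    (hhom : ∀ H : Subgroup G, H ≠ ⊥ → ¬ 2 ∣ Nat.card ↥H →
        ¬ 2 ∣ (Subgroup.centralizer (H : Set G)).relIndex (Subgroup.normalizer (H : Set G))) (P : Sylow 2 G) :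
    (P : Subgroup G).Normal := by
  refine Cfsg.Agent.S3861.sylow_normal_of_no_odd_real (fun x hx hodd hreal => hx ?_) P
  obtain ⟨t, ⟨j, hj⟩, ht⟩ := Cfsg.Agent.S3863.exists_two_element hreal
  set H := Subgroup.zpowers x with hH
  set NH := Subgroup.normalizer (H : Set G) with hNH
  have hn : t ∈ NH := by
    have hle : H.map (MulAut.conj t).toMonoidHom ≤ H := by
      rw [hH, MonoidHom.map_zpowers, Subgroup.zpowers_le]
      show t * x * t⁻¹ ∈ _
      rw [ht]; exact inv_mem (Subgroup.mem_zpowers x)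
    have heq := Subgroup.eq_of_le_of_card_ge hle (le_of_eq (Subgroup.card_map_of_injective
      (f := (MulAut.conj t).toMonoidHom) (MulAut.conj t).injective).symm)
    rw [hNH, Subgroup.mem_normalizer_iff]
    intro z
    conv_rhs => rw [← heq]
    exact (Subgroup.mem_map_iff_mem (f := (MulAut.conj t).toMonoidHom) (MulAut.conj t).injective).symm
  have h2 := hhom H (by rw [hH, ne_eq, Subgroup.zpowers_eq_bot]; exact hx)
    (by rw [hH, Nat.card_zpowers]; exact hodd.not_two_dvd_nat)
  have hCn : ((Subgroup.centralizer (H : Set G)).subgroupOf NH).Normal := by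
    refine ⟨fun c hc g => Subgroup.mem_subgroupOf.mpr (Subgroup.mem_centralizer_iff.mpr fun z hz => ?_)⟩
    have hz' : (g : G)⁻¹ * z * g ∈ H := (Subgroup.mem_normalizer_iff''.mp g.2 z).mp hz
    have h3 := Subgroup.mem_centralizer_iff.mp (Subgroup.mem_subgroupOf.mp hc) _ hz'
    show z * ((g : G) * c * (g : G)⁻¹) = ((g : G) * c * (g : G)⁻¹) * z
    calc z * ((g : G) * c * (g : G)⁻¹) = (g : G) * (((g : G)⁻¹ * z * g) * c) * (g : G)⁻¹ := by group
      _ = (g : G) * ((c : G) * ((g : G)⁻¹ * z * g)) * (g : G)⁻¹ := by rw [h3]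
      _ = ((g : G) * c * (g : G)⁻¹) * z := by group
  have htC : (⟨t, hn⟩ : NH) ∈ (Subgroup.centralizer (H : Set G)).subgroupOf NH := by
    rw [← QuotientGroup.eq_one_iff]
    refine orderOf_eq_one_iff.mp (Nat.eq_one_of_dvd_coprimes
      ((Nat.prime_two.coprime_iff_not_dvd.mpr h2).pow_left j) ?_ (orderOf_dvd_natCard _))
    rw [← hj, ← Subgroup.orderOf_mk t hn]
    exact orderOf_map_dvd (QuotientGroup.mk' _) _
  have hc := Subgroup.mem_centralizer_iff.mp (Subgroup.mem_subgroupOf.mp htC) x (Subgroup.mem_zpowers x)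
  rw [show t * x * t⁻¹ = x by rw [← hc, mul_inv_cancel_right]] at ht
  refine orderOf_eq_one_iff.mp (Nat.eq_one_of_dvd_coprimes (Nat.coprime_two_left.mpr hodd) ?_ dvd_rfl)
  refine orderOf_dvd_of_pow_eq_one ?_
  rw [pow_two]
  exact mul_eq_one_iff_eq_inv.mpr ht

end Cfsg.Agent.S4049
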