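import Cfsg.Statements.S4050
import Mathlib
import Cfsg.Agent.Lib.PiClosed
-- import your own Cfsg.Agent.* helpers here

set_option autoImplicit false
open Cfsg

namespace Cfsg.Agent.S4050

/-- Let π be a set of primes and G a finite group. The π-elements of G (elements whose order is divisible only by primes of π) form a subgroup if and only if G is π-separable (it has a chain of normal subgroups from 1 to G with each successive index divisible only by primes in π or only by primes outside π) and N_G(H)/C_G(H) is a π'-group for every nontrivial π'-subgroup H of G. -/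
theorem result {G : Type*} [Group G] [Finite G] (π : Set ℕ)
    (hπ : ∀ p ∈ π, p.Prime) :
    (∃ K : Subgroup G, ∀ x : G, x ∈ K ↔ ∀ p : ℕ, p.Prime → p ∣ orderOf x → p ∈ π) ↔
    ((∃ (n : ℕ) (H : Fin (n + 1) → Subgroup G), H 0 = ⊥ ∧ H (Fin.last n) = ⊤ ∧ Monotone H ∧ (∀ i, (H i).Normal) ∧
      ∀ i : Fin n, (∀ q : ℕ, q.Prime → q ∣ (H i.castSucc).relIndex (H i.succ) → q ∈ π) ∨
        (∀ q : ℕ, q.Prime → q ∣ (H i.castSucc).relIndex (H i.succ) → q ∉ π)) ∧
     (∀ H : Subgroup G, H ≠ ⊥ → (∀ p : ℕ, p.Prime → p ∣ Nat.card ↥H → p ∉ π) →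
        ∀ p : ℕ, p.Prime → p ∣ (Subgroup.centralizer (H : Set G)).relIndex (Subgroup.normalizer (H : Set G)) → p ∉ π)) := by
  constructor
  · rintro ⟨K, hK⟩
    have hcore : CfsgLib.PiClosed.IsCore π ⊤ K := ⟨le_top, fun x _ => hK x⟩
    have hKn : K.Normal := hcore.normal π inferInstance
    refine ⟨⟨2, ![⊥, K, ⊤], rfl, rfl, ?_, ?_, ?_⟩, ?_⟩
    · refine Fin.monotone_iff_le_succ.mpr fun i => ?_
      fin_cases i
      · exact bot_le
      · exact le_top
    · intro i
      fin_cases i
      · exact (inferInstance : (⊥ : Subgroup G).Normal)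
      · exact hKn
      · exact (inferInstance : (⊤ : Subgroup G).Normal)
    · intro i
      fin_cases i
      · left
        intro q hq hd
        have := Fact.mk hq
        change q ∣ (⊥ : Subgroup G).relIndex K at hd
        rw [Subgroup.relIndex_bot_left] at hd
        obtain ⟨y, hy⟩ := exists_prime_orderOf_dvd_card' q hd
        exact (hK y).mp y.2 q hq (by rw [Subgroup.orderOf_coe, hy])
      · right
        intro q hq hd
        change q ∣ K.relIndex ⊤ at hd
        have h1 := CfsgLib.PiClosed.quotient_pi' π hcore hq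
        rw [Subgroup.map_top_of_surjective _ (QuotientGroup.mk'_surjective K), Subgroup.card_top] at h1
        exact h1 (by rwa [Subgroup.relIndex_top_right] at hd)
    · intro H hH hHπ p hp hd hpπ
      have := Fact.mk hp
      set N := Subgroup.normalizer (H : Set G) with hN
      obtain ⟨S⟩ : Nonempty (Sylow p N) := inferInstance
      refine S.not_dvd_index (hd.trans (Subgroup.index_dvd_of_le fun s hs => ?_))
      rw [Subgroup.mem_subgroupOf]
      have hsK : (s : G) ∈ K := by
        refine (hK _).mpr fun r hr hrd => ?_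
        obtain ⟨j, hj⟩ := IsPGroup.iff_orderOf.mp S.isPGroup' ⟨s, hs⟩
        rw [Subgroup.orderOf_mk] at hj
        rw [Subgroup.orderOf_coe, hj] at hrd
        rwa [(Nat.prime_dvd_prime_iff_eq hr hp).mp (hr.dvd_of_dvd_pow hrd)]
      intro h hh
      have h1 : (s : G) * h * (s : G)⁻¹ * h⁻¹ ∈ H :=
        H.mul_mem ((Subgroup.mem_normalizer_iff.mp s.2 h).mp hh) (H.inv_mem hh)
      have h2 : (s : G) * h * (s : G)⁻¹ * h⁻¹ ∈ K := by
        have := K.mul_mem hsK (hKn.conj_mem _ (K.inv_mem hsK) h)
        simpa [mul_assoc] using this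
      have h3 : (s : G) * h * (s : G)⁻¹ * h⁻¹ = 1 :=
        CfsgLib.PiClosed.eq_one_of_pi_pi' π ((hK _).mp h2) hHπ (Subgroup.orderOf_dvd_natCard H h1)
      calc h * (s : G) = ((s : G) * h * (s : G)⁻¹ * h⁻¹) * h * (s : G) := by rw [h3, one_mul]
        _ = (s : G) * h := by group
  · rintro ⟨⟨n, H, h0, hlast, hmono, hHn, hfac⟩, hhom⟩
    have hall : ∀ i : Fin (n + 1), ∃ L : Subgroup G, CfsgLib.PiClosed.IsCore π (H i) L := by
      intro i
      induction i using Fin.induction with
      | zero =>
        refine ⟨⊥, bot_le, fun x hx => ?_⟩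
        rw [h0, Subgroup.mem_bot] at hx
        subst hx
        exact ⟨fun _ p hp hd => absurd (orderOf_one (G := G) ▸ hd) hp.not_dvd_one, fun _ => one_mem _⟩
      | succ i ih =>
        obtain ⟨L, hL⟩ := ih
        have hle := hmono (Fin.castSucc_le_succ i)
        rcases hfac i with h | h
        · exact CfsgLib.PiClosed.core_step π hhom (hHn _) (hHn _) hle hL h
        · exact ⟨L, CfsgLib.PiClosed.core_step' π (hHn _) hle hL h⟩
    obtain ⟨L, hL⟩ := hall (Fin.last n)
    exact ⟨L, fun x => hL.2 x (by rw [hlast]; trivial)⟩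

end Cfsg.Agent.S4050
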