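import Cfsg.Statements.S4051
import Mathlib
import Cfsg.Agent.Lib.PiClosed
-- import your own Cfsg.Agent.* helpers here

set_option autoImplicit false
open Cfsg

namespace Cfsg.Agent.S4051

/-- Let π be a set of primes and G a finite group such that N_G(H)/C_G(H) is a π'-group for every nontrivial π'-subgroup H of G. If K is a normal subgroup of G such that the π-elements of K form a subgroup and the π-elements of G/K form a subgroup, then the π-elements of G form a subgroup. -/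
theorem result {G : Type*} [Group G] [Finite G] (π : Set ℕ)
    (hπ : ∀ p ∈ π, p.Prime) (hhom : (∀ H : Subgroup G, H ≠ ⊥ → (∀ p : ℕ, p.Prime → p ∣ Nat.card ↥H → p ∉ π) →
        ∀ p : ℕ, p.Prime → p ∣ (Subgroup.centralizer (H : Set G)).relIndex (Subgroup.normalizer (H : Set G)) → p ∉ π))
    (K : Subgroup G) [K.Normal]
    (hK : ∃ L : Subgroup ↥K, ∀ x : ↥K, x ∈ L ↔ ∀ p : ℕ, p.Prime → p ∣ orderOf x → p ∈ π)
    (hQ : ∃ L : Subgroup (G ⧸ K), ∀ x : G ⧸ K, x ∈ L ↔ ∀ p : ℕ, p.Prime → p ∣ orderOf x → p ∈ π) :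
    (∃ K : Subgroup G, ∀ x : G, x ∈ K ↔ ∀ p : ℕ, p.Prime → p ∣ orderOf x → p ∈ π) := by
  obtain ⟨L, hL⟩ := hK
  obtain ⟨N, hN⟩ := hQ
  set q := QuotientGroup.mk' K with hq
  have hcore : CfsgLib.PiClosed.IsCore π K (L.map K.subtype) := by
    refine ⟨Subgroup.map_subtype_le L, fun x hx => ?_⟩
    rw [show x = K.subtype ⟨x, hx⟩ from rfl, Subgroup.mem_map_iff_mem K.subtype_injective, hL]
    show _ ↔ ∀ p : ℕ, p.Prime → p ∣ orderOf x → p ∈ π
    rw [Subgroup.orderOf_mk]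
  have hNn : N.Normal :=
    ⟨fun y hy g => (hN _).mpr (CfsgLib.PiClosed.piEl_conj π ((hN y).mp hy) g)⟩
  have hfac : ∀ p : ℕ, p.Prime → p ∣ K.relIndex (N.comap q) → p ∈ π := by
    intro p hp hd
    have := Fact.mk hp
    have h1 := Subgroup.relIndex_map_map q K (N.comap q)
    rw [(Subgroup.map_eq_bot_iff _).mpr (QuotientGroup.ker_mk' K).ge, Subgroup.relIndex_bot_left,
      hq, QuotientGroup.ker_mk', sup_idem, sup_eq_left.mpr (QuotientGroup.le_comap_mk' K N),
      Subgroup.map_comap_eq_self_of_surjective (QuotientGroup.mk'_surjective _)] at h1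
    rw [← h1] at hd
    obtain ⟨y, hy⟩ := exists_prime_orderOf_dvd_card' p hd
    exact (hN y).mp y.2 p hp (by rw [Subgroup.orderOf_coe, hy])
  obtain ⟨U, hU⟩ := CfsgLib.PiClosed.core_step π hhom ‹K.Normal› (hNn.comap q) (QuotientGroup.le_comap_mk' K N)
    hcore hfac
  refine ⟨U, fun x => ⟨fun hx => (hU.2 x (hU.1 hx)).mp hx, fun hx => ?_⟩⟩
  refine (hU.2 x ?_).mpr hx
  exact (hN _).mpr (CfsgLib.PiClosed.piEl_of_map π q hx)

end Cfsg.Agent.S4051
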