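import Cfsg.Statements.S4052
import Cfsg.Agent.Lib.DPiHomogeneous.Element
import Cfsg.Agent.Lib.CharTheory.BrauerSuzuki

set_option autoImplicit false
open Cfsg

namespace Cfsg.Agent.S4052

/-- Let π be a set of primes and G a finite group whose maximal π-subgroups are pairwise conjugate (so Hall π-subgroups exist, any two are conjugate, and every π-subgroup lies in one of them), and suppose N_G(H)/C_G(H) is a π-group for every nontrivial π-subgroup H. If either 3 does not divide the order of G, or the π'-elements of every proper subgroup of G form a subgroup, then the π'-elements of G form a subgroup. -/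
theorem result {G : Type*} [Group G] [Finite G] (π : Set ℕ)
    (hπ : ∀ p ∈ π, p.Prime) (hD : Cfsg.IsDPiGroup π G) (hhom : (∀ H : Subgroup G, H ≠ ⊥ → (∀ p : ℕ, p.Prime → p ∣ Nat.card ↥H → p ∈ π) →
        ∀ p : ℕ, p.Prime → p ∣ (Subgroup.centralizer (H : Set G)).relIndex (Subgroup.normalizer (H : Set G)) → p ∈ π))
    (hcase : ¬ 3 ∣ Nat.card G ∨ ∀ M : Subgroup G, M ≠ ⊤ →
      ∃ L : Subgroup ↥M, ∀ x : ↥M, x ∈ L ↔ ∀ p : ℕ, p.Prime → p ∣ orderOf x → p ∉ π) :
    (∃ K : Subgroup G, ∀ x : G, x ∈ K ↔ ∀ p : ℕ, p.Prime → p ∣ orderOf x → p ∉ π) := by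
  obtain ⟨H, -, hH⟩ := Finite.exists_le_maximal (p := IsPiSubgroup π) (a := (⊥ : Subgroup G))
    (fun q hq hd => absurd (Nat.dvd_one.1 (Subgroup.card_bot (G := G) ▸ hd)) hq.ne_one)
  have hdom : CfsgLib.DPiHomogeneous.Dom π H := by
    refine ⟨hH.prop, fun U hU => ?_⟩
    obtain ⟨K, hUK, hK⟩ := Finite.exists_le_maximal (p := IsPiSubgroup π) hU
    obtain ⟨g, hg⟩ := hD K H hK hH
    exact ⟨g, fun u hu => hg ▸ ⟨u, hUK hu, rfl⟩⟩
  have hidx : ∀ q : ℕ, q.Prime → q ∣ H.index → q ∉ π := fun q hq hd hqπ =>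
    haveI := Fact.mk hq
    CfsgLib.DPiHomogeneous.not_dvd_index hdom hqπ hd
  have hcop : Nat.Coprime (Nat.card H) H.index := Nat.coprime_of_dvd fun q hq h1 h2 =>
    hidx q hq h2 (hdom.1 q hq h1)
  obtain ⟨K, hKn, hsup, hinf⟩ := CfsgLib.CharTheory.brauer_suzuki_complement H hcop
    (fun x hx y hy hxy => CfsgLib.DPiHomogeneous.ctrl_element hhom hdom hx hy hxy)
    (fun E p hp _ hE => by
      obtain ⟨g, hg⟩ := hdom.2 E fun q hq hd => hdom.1 q hq (hd.trans hE)
      exact ⟨g, by rintro _ ⟨u, hu, rfl⟩; exact hg u hu⟩)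
  haveI := hKn
  have hc : K.IsComplement' H :=
    Subgroup.isComplement'_of_disjoint_and_mul_eq_univ (disjoint_iff.2 hinf)
      (by rw [← Subgroup.normal_mul, hsup]; rfl)
  have hKcard : Nat.card K = H.index := hc.index_eq_card.symm
  have hKidx : K.index = Nat.card H := hc.symm.index_eq_card
  refine ⟨K, fun x => ⟨fun hx q hq hd => hidx q hq (hd.trans ?_), fun hx => ?_⟩⟩
  · rw [← hKcard, ← Subgroup.orderOf_mk x hx]
    exact orderOf_dvd_natCard _
  · rw [← QuotientGroup.eq_one_iff, ← orderOf_eq_one_iff]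
    refine Nat.eq_one_of_dvd_coprimes (Nat.coprime_of_dvd fun q hq h1 h2 => hx q hq h1 (hdom.1 q hq h2))
      (orderOf_map_dvd (QuotientGroup.mk' K) x) ?_
    rw [← hKidx, Subgroup.index_eq_card]
    exact orderOf_dvd_natCard _

end Cfsg.Agent.S4052
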