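import Cfsg.Statements.S4056
import Mathlib
-- import your own Cfsg.Agent.* helpers here

set_option autoImplicit false
open Cfsg

namespace Cfsg.Agent.S4056

open scoped commutatorElement

/-- In a finite 2-group of nilpotency class at most 2 and exponent dividing 4, the Frattini subgroup lies in the centre and is elementary abelian. -/
theorem result {P : Type*} [Group P] [Finite P] (hP : IsPGroup 2 P)
    (hcl : Group.nilpotencyClass P ≤ 2) (hexp : Monoid.exponent P ∣ 4) :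
    frattini P ≤ Subgroup.center P ∧ Cfsg.IsElementaryAbelian 2 (frattini P) := by
  have hc2 : ⁅(⊤ : Subgroup P), commutator P⁆ = ⊥ := by
    have h1 : (⊤ : Subgroup P) = Subgroup.upperCentralSeries P 2 :=
      (by haveI : Group.IsNilpotent P := hP.isNilpotent; exact (Subgroup.upperCentralSeries_eq_top_iff_nilpotencyClass_le.mpr hcl).symm)
    rw [eq_bot_iff, Subgroup.commutator_le]
    intro a _ c hc
    have : commutator P ≤ Subgroup.center P := by
      rw [commutator_def, Subgroup.commutator_le]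
      intro u _ v _
      rw [← Subgroup.upperCentralSeries_one]
      exact (Subgroup.mem_upperCentralSeries_succ_iff.mp (h1 ▸ Subgroup.mem_top u) v)
    rw [Subgroup.mem_bot, commutatorElement_eq_one_iff_mul_comm]
    exact Subgroup.mem_center_iff.mp (this hc) a
  have hcen : ∀ u v : P, ⁅u, v⁆ ∈ Subgroup.center P := fun u v => by
    rw [Subgroup.mem_center_iff]
    intro w
    rw [← commutatorElement_eq_one_iff_mul_comm]
    have := Subgroup.commutator_mem_commutator (Subgroup.mem_top w)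
      (show ⁅u, v⁆ ∈ commutator P from Subgroup.commutator_mem_commutator (Subgroup.mem_top u) (Subgroup.mem_top v))
    rwa [hc2, Subgroup.mem_bot] at this
  have h4 : ∀ u : P, u ^ 4 = 1 := fun u =>
    orderOf_dvd_iff_pow_eq_one.mp ((Monoid.order_dvd_exponent u).trans hexp)
  have hswap : ∀ u v : P, u * v = ⁅u, v⁆ * (v * u) := fun u v => by
    rw [commutatorElement_def]; group
  have hsq : ∀ u v : P, ⁅u, v⁆ ^ 2 = 1 := fun u v => by
    set c := ⁅u, v⁆ with hc
    have hz : ∀ w : P, w * c = c * w := Subgroup.mem_center_iff.mp (hcen u v)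
    have hz2 : ∀ (w : P) (k : ℕ), w * c ^ k = c ^ k * w := fun w k => (Commute.pow_right (hz w) k).eq
    have hvu : v * u = c⁻¹ * (u * v) := by rw [hswap u v, ← hc]; group
    have e2 : (u * v) ^ 2 = c⁻¹ * (u ^ 2 * v ^ 2) := by
      rw [pow_two, pow_two, pow_two]
      calc u * v * (u * v) = u * (v * u) * v := by group
        _ = u * (c⁻¹ * (u * v)) * v := by rw [hvu]
        _ = (u * c⁻¹) * u * (v * v) := by group
        _ = (c⁻¹ * u) * u * (v * v) := by rw [(Commute.inv_right (hz u)).eq]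
        _ = c⁻¹ * (u * u * (v * v)) := by group
    have hu2v : v ^ 2 * u ^ 2 = c⁻¹ ^ 4 * (u ^ 2 * v ^ 2) := by
      have hci : ∀ w : P, w * c⁻¹ = c⁻¹ * w := fun w => (Commute.inv_right (hz w)).eq
      have s1 : v * u ^ 2 = c⁻¹ ^ 2 * (u ^ 2 * v) := by
        rw [pow_two, pow_two]
        calc v * (u * u) = (v * u) * u := by group
          _ = c⁻¹ * (u * v) * u := by rw [hvu]
          _ = c⁻¹ * u * (v * u) := by group
          _ = c⁻¹ * u * (c⁻¹ * (u * v)) := by rw [hvu]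
          _ = c⁻¹ * (u * c⁻¹) * (u * v) := by group
          _ = c⁻¹ * (c⁻¹ * u) * (u * v) := by rw [hci]
          _ = c⁻¹ * c⁻¹ * (u * u * v) := by group
      calc v ^ 2 * u ^ 2 = v * (v * u ^ 2) := by rw [pow_two v]; group
        _ = (v * c⁻¹ ^ 2) * (u ^ 2 * v) := by rw [s1]; group
        _ = (c⁻¹ ^ 2 * v) * (u ^ 2 * v) := by rw [(Commute.pow_right (hci v) 2).eq]
        _ = c⁻¹ ^ 2 * (v * u ^ 2) * v := by group
        _ = c⁻¹ ^ 2 * (c⁻¹ ^ 2 * (u ^ 2 * v)) * v := by rw [s1]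
        _ = c⁻¹ ^ 4 * (u ^ 2 * v ^ 2) := by rw [pow_two v]; group
    have h4c : c⁻¹ ^ 4 = 1 := h4 _
    rw [h4c, one_mul] at hu2v
    have e4 : (u * v) ^ 4 = c⁻¹ ^ 2 * (u ^ 4 * v ^ 4) := by
      have hci : ∀ w : P, w * c⁻¹ = c⁻¹ * w := fun w => (Commute.inv_right (hz w)).eq
      calc (u * v) ^ 4 = (u * v) ^ 2 * (u * v) ^ 2 := by rw [← pow_add]
        _ = c⁻¹ * ((u ^ 2 * v ^ 2) * c⁻¹) * (u ^ 2 * v ^ 2) := by rw [e2]; group
        _ = c⁻¹ * (c⁻¹ * (u ^ 2 * v ^ 2)) * (u ^ 2 * v ^ 2) := by rw [hci]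
        _ = c⁻¹ ^ 2 * (u ^ 2 * (v ^ 2 * u ^ 2) * v ^ 2) := by group
        _ = c⁻¹ ^ 2 * (u ^ 2 * (u ^ 2 * v ^ 2) * v ^ 2) := by rw [hu2v]
        _ = c⁻¹ ^ 2 * (u ^ 4 * v ^ 4) := by group
    rw [h4, h4, h4, one_mul, mul_one, inv_pow, eq_comm, inv_eq_one] at e4
    exact e4
  let E : Subgroup P :=
    { carrier := {z | z ∈ Subgroup.center P ∧ z ^ 2 = 1}
      one_mem' := ⟨one_mem _, one_pow 2⟩
      mul_mem' := fun {a b} ha hb => ⟨mul_mem ha.1 hb.1, by
        rw [Commute.mul_pow (Subgroup.mem_center_iff.mp hb.1 a : Commute a b), ha.2, hb.2, one_mul]⟩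
      inv_mem' := fun {a} ha => ⟨inv_mem ha.1, by rw [inv_pow, ha.2, inv_one]⟩ }
  have hsqE : ∀ u : P, u ^ 2 ∈ E := fun u => by
    refine ⟨?_, by rw [← pow_mul]; exact h4 u⟩
    rw [Subgroup.mem_center_iff]
    intro w
    have hz : ∀ z : P, z * ⁅w, u⁆ = ⁅w, u⁆ * z := Subgroup.mem_center_iff.mp (hcen w u)
    calc w * u ^ 2 = (w * u) * u := by rw [pow_two]; group
      _ = ⁅w, u⁆ * (u * w) * u := by rw [hswap w u]
      _ = ⁅w, u⁆ * u * (w * u) := by group
      _ = ⁅w, u⁆ * u * (⁅w, u⁆ * (u * w)) := by rw [hswap w u]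
      _ = ⁅w, u⁆ * (u * ⁅w, u⁆) * (u * w) := by group
      _ = ⁅w, u⁆ ^ 2 * (u ^ 2 * w) := by rw [hz u, pow_two u, pow_two ⁅w, u⁆]; group
      _ = u ^ 2 * w := by rw [hsq, one_mul]
  have hcomE : ∀ u v : P, ⁅u, v⁆ ∈ E := fun u v => ⟨hcen u v, hsq u v⟩
  have hfr : frattini P ≤ E := by
    intro x hx
    by_contra hxE
    obtain ⟨K, hEK, hK⟩ := Finite.exists_le_maximal
      (p := fun K : Subgroup P => E ≤ K ∧ x ∉ K) (a := E) ⟨le_rfl, hxE⟩
    have hcoat : IsCoatom K := by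
      refine ⟨fun h => hK.1.2 (h ▸ Subgroup.mem_top x), fun L hL => ?_⟩
      have hxL : x ∈ L := by
        by_contra hxL
        exact hL.not_ge (hK.2 ⟨hEK.trans hL.le, hxL⟩ hL.le)
      rw [eq_top_iff]
      intro y _
      by_cases hy : y ∈ K
      · exact hL.le hy
      have hKn : K.Normal := ⟨fun k hk g => by
        have h1 : ⁅g, k⁆ ∈ K := hEK (hcomE g k)
        have h2 : g * k * g⁻¹ = ⁅g, k⁆ * k := by rw [commutatorElement_def]; group
        rw [h2]; exact mul_mem h1 hk⟩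
      have hmem : x ∈ K ⊔ Subgroup.zpowers y := by
        by_contra hxy
        have := hK.2 ⟨hEK.trans le_sup_left, hxy⟩ le_sup_left
        exact hy (this (Subgroup.mem_sup_right (Subgroup.mem_zpowers y)))
      rw [← SetLike.mem_coe, Subgroup.normal_mul] at hmem
      obtain ⟨k, hk, z, hz, hkz⟩ := Set.mem_mul.mp hmem
      obtain ⟨n, rfl⟩ := Subgroup.mem_zpowers_iff.mp hz
      rcases Int.even_or_odd n with ⟨m, rfl⟩ | ⟨m, rfl⟩
      · exfalso
        refine hK.1.2 (hkz ▸ mul_mem hk ?_)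
        rw [show y ^ (m + m) = (y ^ 2) ^ m by rw [← zpow_natCast, ← zpow_mul]; congr 1; push_cast; ring]
        exact zpow_mem (hEK (hsqE y)) m
      · have hym : (y ^ 2) ^ m ∈ K := zpow_mem (hEK (hsqE y)) m
        have : y = ((y ^ 2) ^ m)⁻¹ * (k⁻¹ * x) := by
          rw [← hkz]
          simp only [inv_mul_cancel_left]
          rw [← zpow_natCast y 2, ← zpow_mul, ← zpow_neg, ← zpow_add]
          conv_lhs => rw [← zpow_one y]
          congr 1
          push_cast
          ring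
        rw [this]
        exact mul_mem (hL.le (inv_mem hym)) (mul_mem (hL.le (inv_mem hk)) hxL)
    exact hK.1.2 (frattini_le_coatom hcoat hx)
  exact ⟨fun x hx => (hfr hx).1, ⟨⟨fun a b => Subtype.ext (Subgroup.mem_center_iff.mp (hfr b.2).1 a)⟩⟩,
    fun a ha => (hfr ha).2⟩

end Cfsg.Agent.S4056
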