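import Cfsg.Statements.S4058
import Cfsg.Agent.Lib.CharTheory
import Cfsg.Agent.Lib.CharTheory.Linear
import Cfsg.Agent.Lib.Elementary
import Mathlib
-- import your own Cfsg.Agent.* helpers here

set_option autoImplicit false
open Cfsg

namespace Cfsg.Agent.S4058

open CfsgLib.CharTheory MulAction
open scoped ComplexConjugate Kronecker

section Indicator

variable {G : Type*} [Group G] [Fintype G]

theorem trace_idempotent {ι : Type*} [Fintype ι] [DecidableEq ι] {M : Matrix ι ι ℂ}
    (h : M * M = M) : ∃ m : ℕ, Matrix.trace M = (m : ℂ) := by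
  have hf : IsIdempotentElem (Matrix.toLin' M) := by
    show Matrix.toLin' M * Matrix.toLin' M = Matrix.toLin' M
    rw [Module.End.mul_eq_comp, ← Matrix.toLin'_mul, h]
  have hp := (LinearMap.isProj_range_iff_isIdempotentElem (Matrix.toLin' M)).mpr hf
  exact ⟨_, by rw [← Matrix.trace_toLin'_eq, hp.trace]⟩

/-- The Frobenius-Schur indicator is an integer. -/
theorem exists_int_sum_sq {n : ℕ} (ρ : Representation ℂ G (Fin n → ℂ)) :
    ∃ z : ℤ, ∑ g, ρ.character (g ^ 2) = (Nat.card G : ℂ) * z := by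
  classical
  let A : G → Matrix (Fin n) (Fin n) ℂ := fun g => LinearMap.toMatrix' (ρ g)
  have hA : ∀ g h, A (g * h) = A g * A h := fun g h => by
    simp only [A, map_mul]
    exact LinearMap.toMatrix'_comp (ρ g) (ρ h)
  have hchar : ∀ g, ρ.character (g ^ 2) = Matrix.trace (A g * A g) := fun g => by
    rw [← hA, pow_two]
    show LinearMap.trace ℂ _ _ = _
    rw [LinearMap.trace_eq_matrix_trace ℂ (Pi.basisFun ℂ (Fin n)), LinearMap.toMatrix_eq_toMatrix']
  let K : G → Matrix (Fin n × Fin n) (Fin n × Fin n) ℂ := fun g => A g ⊗ₖ A g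
  have hK : ∀ g h, K (g * h) = K g * K h := fun g h => by
    simp only [K, hA, Matrix.mul_kronecker_mul]
  let T : Matrix (Fin n × Fin n) (Fin n × Fin n) ℂ :=
    Matrix.of fun p q => if p.swap = q then 1 else 0
  have hTM : ∀ M : Matrix (Fin n × Fin n) (Fin n × Fin n) ℂ, ∀ p q, (T * M) p q = M p.swap q := by
    intro M p q
    simp [T, Matrix.mul_apply]
  have hMT : ∀ M : Matrix (Fin n × Fin n) (Fin n × Fin n) ℂ, ∀ p q, (M * T) p q = M p q.swap := by
    intro M p q
    rw [Matrix.mul_apply, Finset.sum_eq_single q.swap]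
    · simp [T]
    · intro b _ hb
      have : ¬ b.swap = q := fun e => hb (by rw [← e, Prod.swap_swap])
      simp [T, this]
    · simp
  have hTT : T * T = 1 := by
    ext p q
    rw [hTM]
    simp [T, Matrix.one_apply]
  have hTK : ∀ g, T * K g = K g * T := fun g => by
    ext p q
    rw [hTM, hMT]
    simp [K, Matrix.kronecker_apply, mul_comm]
  set c : ℂ := (Fintype.card G : ℂ)⁻¹ with hc
  have hc0 : (Fintype.card G : ℂ) ≠ 0 := Nat.cast_ne_zero.mpr Fintype.card_ne_zero
  set E := c • ∑ g, K g with hE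
  have hKE : ∀ h, K h * E = E := fun h => by
    rw [hE, mul_smul_comm, Finset.mul_sum]
    congr 1
    exact Fintype.sum_equiv (Equiv.mulLeft h) _ _ (fun g => (hK h g).symm)
  have hEE : E * E = E := by
    nth_rewrite 1 [hE]
    rw [smul_mul_assoc, Finset.sum_mul, Finset.sum_congr rfl (fun g _ => hKE g), Finset.sum_const,
      Finset.card_univ, ← Nat.cast_smul_eq_nsmul ℂ, smul_smul, hc, inv_mul_cancel₀ hc0, one_smul]
  have hTE : T * E = E * T := by
    simp only [hE, mul_smul_comm, smul_mul_assoc, Finset.mul_sum, Finset.sum_mul, hTK]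
  have h1 : E * (E * T) = E * T := by rw [← mul_assoc, hEE]
  have h2 : (E * T) * E = E * T := by rw [mul_assoc, hTE, ← mul_assoc, hEE]
  have h3 : (E * T) * (E * T) = E := by rw [← mul_assoc, h2, mul_assoc, hTT, mul_one]
  obtain ⟨m₁, hm₁⟩ := trace_idempotent (M := (2 : ℂ)⁻¹ • (E + E * T)) (by
    rw [smul_mul_smul_comm, add_mul, mul_add, mul_add, hEE, h1, h2, h3]
    module)
  obtain ⟨m₂, hm₂⟩ := trace_idempotent (M := (2 : ℂ)⁻¹ • (E - E * T)) (by
    rw [smul_mul_smul_comm, sub_mul, mul_sub, mul_sub, hEE, h1, h2, h3]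
    module)
  refine ⟨(m₁ : ℤ) - m₂, ?_⟩
  have htr : Matrix.trace (E * T) = (m₁ : ℂ) - m₂ := by
    rw [← hm₁, ← hm₂, ← Matrix.trace_sub]
    congr 1
    module
  have hET : Matrix.trace (E * T) = c * ∑ g, ρ.character (g ^ 2) := by
    rw [hE, smul_mul_assoc, Matrix.trace_smul, Finset.sum_mul, Matrix.trace_sum, smul_eq_mul]
    congr 1
    refine Finset.sum_congr rfl fun g _ => ?_
    rw [hchar]
    simp only [Matrix.trace, Matrix.diag_apply, hMT, K, Matrix.kronecker_apply, Prod.fst_swap,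
      Prod.snd_swap, Matrix.mul_apply, Fintype.sum_prod_type]
    rfl
  rw [Nat.card_eq_fintype_card]
  push_cast
  rw [← htr, hET, hc]
  field_simp

/-- The number of square roots. -/
noncomputable def rootCount (g : G) : ℂ := Nat.card {x : G // x ^ 2 = g}

theorem isClassFunction_rootCount : IsClassFunction G (rootCount (G := G)) := by
  intro g h
  simp only [rootCount, Nat.cast_inj]
  refine Nat.card_congr ((MulAut.conj h).toEquiv.subtypeEquiv fun x => ?_).symm
  show x ^ 2 = g ↔ (MulAut.conj h x) ^ 2 = h * g * h⁻¹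
  rw [← map_pow, ← MulAut.conj_apply, (MulAut.conj h).injective.eq_iff]

theorem classInner_rootCount (χ : G → ℂ) :
    classInner (rootCount (G := G)) χ = (Nat.card G : ℂ)⁻¹ * ∑ x, conj (χ (x ^ 2)) := by
  classical
  unfold classInner
  congr 1
  rw [← Finset.sum_fiberwise Finset.univ (fun x : G => x ^ 2) fun x => conj (χ (x ^ 2))]
  refine Finset.sum_congr rfl fun g _ => ?_
  rw [Finset.sum_congr rfl (g := fun _ => conj (χ g)) (fun x hx => by rw [(Finset.mem_filter.mp hx).2]),
    Finset.sum_const, nsmul_eq_mul, rootCount, Nat.card_eq_fintype_card, Fintype.card_subtype]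

theorem exists_int_classInner_rootCount {χ : G → ℂ} (h : IsCharacter G χ) :
    ∃ z : ℤ, classInner (rootCount (G := G)) χ = z := by
  obtain ⟨n, ρ, rfl⟩ := h
  obtain ⟨z, hz⟩ := exists_int_sum_sq ρ
  refine ⟨z, ?_⟩
  rw [classInner_rootCount, ← map_sum, hz, map_mul, map_natCast, map_intCast, ← mul_assoc,
    inv_mul_cancel₀ (Nat.cast_ne_zero.mpr Nat.card_pos.ne'), one_mul]

end Indicator

section Action

variable {G : Type*} [Group G] [Finite G]

theorem hom_mul_conj (l : G →* ℂˣ) (g : G) : (l g : ℂ) * conj (l g : ℂ) = 1 := by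
  have h1 : (l g : ℂ) ^ orderOf g = 1 := by
    rw [← Units.val_pow_eq_pow_val, ← map_pow, pow_orderOf_eq_one, map_one, Units.val_one]
  rw [Complex.mul_conj', Complex.norm_eq_one_of_pow_eq_one h1 (orderOf_pos g).ne']
  norm_num

theorem isIrr_twist (l : G →* ℂˣ) {χ : G → ℂ} (h : IsIrrCharacter G χ) :
    IsIrrCharacter G (fun g => (l g : ℂ) * χ g) := by
  have := Fintype.ofFinite G
  refine irr_of_char_norm_one (isCharacter_mul (isCharacter_of_irr (isIrrCharacter_linear l))
    (isCharacter_of_irr h)) ?_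
  rw [← classInner_irr_self h]
  unfold classInner
  congr 1
  refine Finset.sum_congr rfl fun g _ => ?_
  simp only [Pi.mul_apply, map_mul]
  linear_combination (χ g * conj (χ g)) * hom_mul_conj l g

/-- Multiplication of irreducible characters by linear characters. -/
noncomputable local instance twistAction : MulAction (G →* ℂˣ) (IrrCharacter G) where
  smul l χ := ⟨fun g => (l g : ℂ) * (χ : G → ℂ) g, isIrr_twist l χ.2⟩
  one_smul χ := Subtype.ext (funext fun g => one_mul _)
  mul_smul l m χ := Subtype.ext (funext fun g => mul_assoc _ _ _)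

theorem twist_apply (l : G →* ℂˣ) (χ : IrrCharacter G) (g : G) :
    ((l • χ : IrrCharacter G) : G → ℂ) g = (l g : ℂ) * (χ : G → ℂ) g := rfl

theorem finite_hom : Finite (G →* ℂˣ) := by
  have := Fintype.ofFinite G
  have : Finite (IrrCharacter G) := inferInstance
  refine Finite.of_injective (fun l => (⟨fun g => (l g : ℂ), isIrrCharacter_linear l⟩ : IrrCharacter G)) ?_
  intro l m h
  exact MonoidHom.ext fun g => Units.ext (congrFun (congrArg Subtype.val h) g)

/-- At most `χ(1)²` linear characters fix `χ`. -/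
theorem card_stabilizer_le (χ : IrrCharacter G) (d : ℕ) (hd : (χ : G → ℂ) 1 = d) :
    Nat.card (stabilizer (G →* ℂˣ) χ) ≤ d * d := by
  classical
  have := Fintype.ofFinite G
  have := finite_hom (G := G)
  have := Fintype.ofFinite (stabilizer (G →* ℂˣ) χ)
  set ψ : G → ℂ := fun g => (χ : G → ℂ) g * conj ((χ : G → ℂ) g) with hψ
  have hψc : IsCharacter G ψ :=
    isCharacter_mul (isCharacter_of_irr χ.2) (isCharacter_conj (isCharacter_of_irr χ.2))
  obtain ⟨hcf, hn⟩ := isCharacter_iff_coeff_nat.mp hψc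
  choose n hn using fun ξ : IrrCharacter G => hn ξ ξ.2
  choose e he using fun ξ : IrrCharacter G => irr_degree_pos ξ.2
  let ι : stabilizer (G →* ℂˣ) χ → IrrCharacter G := fun l =>
    ⟨fun g => ((l : G →* ℂˣ) g : ℂ), isIrrCharacter_linear _⟩
  have hι : Function.Injective ι := fun l m h => Subtype.ext
    (MonoidHom.ext fun g => Units.ext (congrFun (congrArg Subtype.val h) g))
  have hone : ∀ l, n (ι l) = 1 := fun l => by
    have h1 : classInner ψ (ι l : G → ℂ) = 1 := by
      rw [← classInner_irr_self χ.2]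
      conv_rhs => arg 2; rw [← (mem_stabilizer_iff.mp l.2 : (l : G →* ℂˣ) • χ = χ)]
      unfold classInner
      congr 1
      refine Finset.sum_congr rfl fun g _ => ?_
      simp only [hψ, ι, twist_apply, map_mul]
      ring
    have := (hn (ι l)).symm.trans h1
    exact_mod_cast this
  have he1 : ∀ l, e (ι l) = 1 := fun l => by
    have h1 : ((ι l : IrrCharacter G) : G → ℂ) 1 = 1 := by simp [ι]
    have := (he (ι l)).2.symm.trans h1
    exact_mod_cast this
  have hsum : ∑ ξ : IrrCharacter G, n ξ * e ξ = d * d := by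
    have h1 := congrFun (eq_sum_irr hcf) 1
    simp only [Finset.sum_apply, Pi.smul_apply, smul_eq_mul, hn, (he _).2] at h1
    have h2 : ψ 1 = ((d * d : ℕ) : ℂ) := by simp [hψ, hd]
    rw [h2] at h1
    exact_mod_cast h1.symm
  calc Nat.card (stabilizer (G →* ℂˣ) χ) = ∑ l : stabilizer (G →* ℂˣ) χ, n (ι l) * e (ι l) := by
        simp only [hone, he1, mul_one, Finset.sum_const, Finset.card_univ, smul_eq_mul,
          Nat.card_eq_fintype_card]
    _ = ∑ ξ ∈ Finset.univ.image ι, n ξ * e ξ := (Finset.sum_image (f := fun ξ => n ξ * e ξ) hι.injOn).symm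
    _ ≤ ∑ ξ : IrrCharacter G, n ξ * e ξ :=
        Finset.sum_le_sum_of_subset (Finset.subset_univ _)
    _ = d * d := hsum

theorem dvd_count (hG : IsPGroup 2 G) (Λ : Subgroup (G →* ℂˣ))
    (hΛ : ∀ l ∈ Λ, l ^ 2 = 1) (k : ℕ) (hcard : 2 ^ (2 * k + 1) ≤ Nat.card Λ) :
    2 ^ (k + 1) ∣ Nat.card {x : G // x ^ 2 = 1} := by
  classical
  have := Fintype.ofFinite G
  have := finite_hom (G := G)
  have : Fact (Nat.Prime 2) := ⟨Nat.prime_two⟩
  obtain ⟨N, hN⟩ := hG.exists_card_eq
  have hΛ2 : IsPGroup 2 Λ := fun l => ⟨1, Subtype.ext (by simpa using hΛ l l.2)⟩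
  obtain ⟨M, hM⟩ := hΛ2.exists_card_eq
  have hdeg : ∀ χ : IrrCharacter G, ∃ a : ℕ, (χ : G → ℂ) 1 = (2 ^ a : ℕ) := by
    rintro ⟨_, n, ρ, hρ, rfl⟩
    obtain ⟨a, -, ha⟩ := (Nat.dvd_prime_pow Nat.prime_two).mp (hN ▸ finrank_dvd_card ρ)
    exact ⟨a, by rw [← ha]; exact ρ.char_one⟩
  choose a ha using hdeg
  choose ν hν using fun χ : IrrCharacter G =>
    exists_int_classInner_rootCount (isCharacter_of_irr χ.2)
  have hinv : ∀ (l : Λ) (χ : IrrCharacter G), a ((l : G →* ℂˣ) • χ) = a χ ∧
      ν ((l : G →* ℂˣ) • χ) = ν χ := by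
    intro l χ
    constructor
    · have h1 := ha ((l : G →* ℂˣ) • χ)
      rw [twist_apply, map_one, Units.val_one, one_mul, ha χ, Nat.cast_inj] at h1
      exact (Nat.pow_right_injective le_rfl h1).symm
    · have h1 : classInner (rootCount (G := G)) (((l : G →* ℂˣ) • χ : IrrCharacter G) : G → ℂ) =
          classInner (rootCount (G := G)) (χ : G → ℂ) := by
        rw [classInner_rootCount, classInner_rootCount]
        congr 1
        refine Finset.sum_congr rfl fun x _ => ?_
        have h2 : (l : G →* ℂˣ) (x ^ 2) = 1 := by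
          rw [map_pow, ← MonoidHom.pow_apply, hΛ l l.2, MonoidHom.one_apply]
        rw [twist_apply, h2, Units.val_one, one_mul]
      rw [hν, hν] at h1
      exact_mod_cast h1
  have hsum : (Nat.card {x : G // x ^ 2 = 1} : ℤ) = ∑ χ : IrrCharacter G, ν χ * 2 ^ a χ := by
    have h1 := congrFun (eq_sum_irr (isClassFunction_rootCount (G := G))) 1
    simp only [Finset.sum_apply, Pi.smul_apply, smul_eq_mul, hν, ha, rootCount] at h1
    exact_mod_cast h1
  rw [← Int.natCast_dvd_natCast, hsum]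
  have := Fintype.ofFinite Λ
  rw [← Equiv.sum_comp (selfEquivSigmaOrbits Λ (IrrCharacter G)).symm, Fintype.sum_sigma]
  refine Finset.dvd_sum fun q _ => ?_
  set χ := q.out with hχ
  have hconst : ∀ x : orbit Λ χ,
      ν ((selfEquivSigmaOrbits Λ (IrrCharacter G)).symm ⟨q, x⟩) *
        2 ^ a ((selfEquivSigmaOrbits Λ (IrrCharacter G)).symm ⟨q, x⟩) = ν χ * 2 ^ a χ := by
    intro x
    obtain ⟨l, hl⟩ := x.2
    have e : (selfEquivSigmaOrbits Λ (IrrCharacter G)).symm ⟨q, x⟩ = (l : G →* ℂˣ) • χ := hl.symm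
    rw [e, (hinv l χ).1, (hinv l χ).2]
  rw [Finset.sum_congr rfl (fun x _ => hconst x), Finset.sum_const, Finset.card_univ, nsmul_eq_mul]
  have hos := MulAction.card_orbit_mul_card_stabilizer_eq_card_group Λ χ
  rw [← Nat.card_eq_fintype_card, ← Nat.card_eq_fintype_card, ← Nat.card_eq_fintype_card, hM] at hos
  obtain ⟨b, -, hb⟩ := (Nat.dvd_prime_pow Nat.prime_two).mp (Dvd.intro _ hos)
  obtain ⟨s, -, hs⟩ := (Nat.dvd_prime_pow Nat.prime_two).mp (Dvd.intro_left _ hos)
  rw [hb, hs, ← pow_add] at hos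
  have hbs := Nat.pow_right_injective le_rfl hos
  have hstab : Nat.card (stabilizer Λ χ) ≤ 2 ^ a χ * 2 ^ a χ := by
    refine le_trans ?_ (card_stabilizer_le χ _ (ha χ))
    refine Nat.card_le_card_of_injective
      (fun l => (⟨((l : Λ) : G →* ℂˣ), l.2⟩ : stabilizer (G →* ℂˣ) χ)) ?_
    intro l m h
    exact Subtype.ext (Subtype.ext (congrArg Subtype.val h :))
  rw [hs, ← pow_add] at hstab
  have hsa := (Nat.pow_le_pow_iff_right (by norm_num)).mp hstab
  rw [hM] at hcard
  have hMk := (Nat.pow_le_pow_iff_right (by norm_num)).mp hcard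
  rw [← Nat.card_eq_fintype_card, hb]
  push_cast
  rw [show (2 : ℤ) ^ b * (ν χ * 2 ^ a χ) = ν χ * 2 ^ (b + a χ) by ring]
  exact dvd_mul_of_dvd_right (pow_dvd_pow _ (by omega)) _

end Action

/-- Let G be a finite 2-group with #(G/Φ(G)) ≥ 2^(2k+1). Then the number of elements x of G with x² = 1 is divisible by 2^(k+1). -/
theorem result {G : Type*} [Group G] [Finite G] (hG : IsPGroup 2 G) (k : ℕ)
    (hgen : 2 ^ (2 * k + 1) ≤ Nat.card (G ⧸ frattini G)) :
    2 ^ (k + 1) ∣ Nat.card {x : G // x ^ 2 = 1} := by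
  have : Fact (Nat.Prime 2) := ⟨Nat.prime_two⟩
  let Q := G ⧸ frattini G
  have hc : ∀ a b : Q, a * b = b * a := by
    intro a b
    obtain ⟨a, rfl⟩ := QuotientGroup.mk'_surjective _ a
    obtain ⟨b, rfl⟩ := QuotientGroup.mk'_surjective _ b
    rw [← commutatorElement_eq_one_iff_mul_comm, ← map_commutatorElement,
      QuotientGroup.mk'_apply, QuotientGroup.eq_one_iff]
    exact CfsgLib.commutator_le_frattini_pGroup hG
      (Subgroup.commutator_mem_commutator (Subgroup.mem_top a) (Subgroup.mem_top b))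
  let _ : CommGroup Q := { (inferInstance : Group Q) with mul_comm := hc }
  have hsq : ∀ a : Q, a ^ 2 = 1 := by
    intro a
    obtain ⟨a, rfl⟩ := QuotientGroup.mk'_surjective _ a
    rw [← map_pow, QuotientGroup.mk'_apply, QuotientGroup.eq_one_iff]
    exact CfsgLib.pow_mem_frattini_pGroup hG a
  let Λ : Subgroup (G →* ℂˣ) := (powMonoidHom 2).ker
  refine dvd_count hG Λ (fun l hl => hl) k (hgen.trans ?_)
  have := finite_hom (G := G)
  rw [← CommGroup.card_monoidHom_of_hasEnoughRootsOfUnity Q ℂ]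
  refine Nat.card_le_card_of_injective (fun f : Q →* ℂˣ =>
    (⟨f.comp (QuotientGroup.mk' _), ?_⟩ : Λ)) ?_
  · exact MonoidHom.ext fun g => by
      show f (QuotientGroup.mk' _ g) ^ 2 = 1
      rw [← map_pow, hsq, map_one]
  · intro f f' h
    refine MonoidHom.ext fun a => ?_
    obtain ⟨a, rfl⟩ := QuotientGroup.mk'_surjective _ a
    exact DFunLike.congr_fun (congrArg Subtype.val h :) a

end Cfsg.Agent.S4058
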