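import Cfsg.Statements.S4059
import Cfsg.Agent.S3863
import Cfsg.Agent.S4195
-- import your own Cfsg.Agent.* helpers here

set_option autoImplicit false
open Cfsg

namespace Cfsg.Agent.S4059

open scoped commutatorElement

/-- Let G be a finite group in which every element is conjugate to its inverse. Then: every non-identity element commuting with all elements of some Sylow 2-subgroup is an involution; the centre of G is an elementary abelian 2-group; the commutator quotient G/G' is an elementary abelian 2-group; and G is generated by its 2-elements. -/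
theorem result {G : Type*} [Group G] [Finite G] (hamb : ∀ x : G, IsConj x x⁻¹) :
    (∀ (S : Sylow 2 G) (x : G), x ∈ Subgroup.centralizer ((S : Subgroup G) : Set G) → x ≠ 1 → orderOf x = 2) ∧
    (∀ z : G, z ∈ Subgroup.center G → z ^ 2 = 1) ∧
    (∀ x : G, x ^ 2 ∈ commutator G) ∧
    Subgroup.closure {x : G | ∃ k : ℕ, orderOf x = 2 ^ k} = ⊤ := by
  have hcomm : ∀ x : G, x ^ 2 ∈ commutator G := fun x => by
    obtain ⟨g, hg⟩ := isConj_iff.mp (hamb x)
    have : x ^ 2 = ⁅x, g⁆ := by
      rw [commutatorElement_def, pow_two]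
      calc x * x = x * (g * x * g⁻¹)⁻¹ := by rw [hg, inv_inv]
        _ = x * g * x⁻¹ * g⁻¹ := by group
    rw [this]
    exact Subgroup.commutator_mem_commutator (Subgroup.mem_top _) (Subgroup.mem_top _)
  refine ⟨fun S x hxS hx1 => ?_, fun z hz => ?_, hcomm, ?_⟩
  · refine Cfsg.Agent.S4195.result x hx1 S (fun s hs => ?_) (hamb x)
    rw [Subgroup.mem_centralizer_singleton_iff]
    exact Subgroup.mem_centralizer_iff.mp hxS s hs
  · obtain ⟨g, hg⟩ := isConj_iff.mp (hamb z)
    rw [Subgroup.mem_center_iff.mp hz g, mul_inv_cancel_right] at hg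
    rw [pow_two]
    exact mul_eq_one_iff_inv_eq.mpr hg.symm
  · set T := Subgroup.closure {x : G | ∃ k : ℕ, orderOf x = 2 ^ k} with hT
    have : T.Normal := by
      refine ⟨fun y hy g => ?_⟩
      have hle : T ≤ T.comap (MulAut.conj g).toMonoidHom := by
        refine (Subgroup.closure_le _).mpr fun z hz => ?_
        obtain ⟨k, hk⟩ := hz
        exact Subgroup.mem_comap.mpr (Subgroup.subset_closure ⟨k, by
          rw [← hk]; exact orderOf_injective (MulAut.conj g).toMonoidHom (MulAut.conj g).injective z⟩)
      exact Subgroup.mem_comap.mp (hle hy)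
    have := Fact.mk Nat.prime_two
    obtain ⟨S⟩ : Nonempty (Sylow 2 G) := inferInstance
    have hST : (S : Subgroup G) ≤ T := fun s hs => by
      refine Subgroup.subset_closure ?_
      obtain ⟨k, hk⟩ := S.isPGroup' ⟨s, hs⟩
      have : orderOf s ∣ 2 ^ k := orderOf_dvd_of_pow_eq_one (congrArg Subtype.val hk)
      obtain ⟨j, -, hj⟩ := (Nat.dvd_prime_pow Nat.prime_two).mp this
      exact ⟨j, hj⟩
    have hodd : Odd T.index := by
      rw [← Nat.not_even_iff_odd, even_iff_two_dvd]
      exact fun h => S.not_dvd_index (h.trans (Subgroup.index_dvd_of_le hST))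
    rw [eq_top_iff]
    intro x _
    exact ((Cfsg.Agent.S3863.result x (hamb x)).2.2 T hodd).1

end Cfsg.Agent.S4059
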