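import Cfsg.Statements.S4060
import Mathlib
import Cfsg.Agent.Lib.Elementary
import Cfsg.Agent.Lib.PRegularClass
import Cfsg.Agent.S4195
-- import your own Cfsg.Agent.* helpers here

set_option autoImplicit false
open Cfsg

namespace Cfsg.Agent.S4060

/-- Let G be a finite solvable group with Sylow 2-subgroup S, and let x ≠ 1 be an element of odd order normalizing S. Then x is not conjugate to its inverse in G. -/
theorem result {G : Type*} [Group G] [Finite G] [Group.IsSolvable G]
    (S : Sylow 2 G) (x : G) (hx : x ≠ 1) (hodd : Odd (orderOf x))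
    (hnorm : x ∈ Subgroup.normalizer ((S : Subgroup G) : Set G)) : ¬ IsConj x x⁻¹ := by
  intro hreal
  induction hn : Nat.card G using Nat.strong_induction_on generalizing G with
  | h n ih =>
    subst hn
    haveI : Nontrivial G := ⟨⟨x, 1, hx⟩⟩
    obtain ⟨T, hTn, -, hT0, hmin⟩ := CfsgLib.exists_minimal_normal (N := (⊤ : Subgroup G)) top_ne_bot
    by_cases hxT : x ∈ T
    · obtain ⟨-, r, hr, hTe⟩ := CfsgLib.minimal_normal_elementary (N := T) hT0 inferInstance hmin
      have hTp : IsPGroup r T := fun y => ⟨1, Subtype.ext (by simpa using hTe y y.2)⟩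
      have := Fact.mk hr
      have := Fact.mk Nat.prime_two
      have hr2 : r ≠ 2 := by
        intro h2
        subst h2
        obtain ⟨k, hk⟩ := hTp ⟨x, hxT⟩
        have h1 : orderOf x ∣ 2 ^ k := orderOf_dvd_of_pow_eq_one (congrArg Subtype.val hk)
        exact hx (orderOf_eq_one_iff.mp (Nat.eq_one_of_dvd_coprimes ((Nat.coprime_two_left.mpr hodd).pow_left k) h1 dvd_rfl))
      have hdis : Disjoint T (S : Subgroup G) := IsPGroup.disjoint_of_ne r 2 hr2 _ _ hTp S.isPGroup'
      have hSC : (S : Subgroup G) ≤ Subgroup.centralizer ({x} : Set G) := by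
        intro s hs
        rw [Subgroup.mem_centralizer_singleton_iff]
        have h1 : x * s * x⁻¹ * s⁻¹ ∈ T := by
          rw [show x * s * x⁻¹ * s⁻¹ = x * (s * x⁻¹ * s⁻¹) by group]
          exact mul_mem hxT (hTn.conj_mem _ (inv_mem hxT) s)
        have h2 : x * s * x⁻¹ * s⁻¹ ∈ (S : Subgroup G) :=
          mul_mem ((Subgroup.mem_normalizer_iff.mp hnorm s).mp hs) (inv_mem hs)
        have h3 := Subgroup.mem_bot.mp (hdis.eq_bot ▸ Subgroup.mem_inf.mpr ⟨h1, h2⟩)
        calc s * x = (x * s * x⁻¹ * s⁻¹) * (s * x) := by rw [h3, one_mul]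
          _ = x * s := by group
      have h2 := Cfsg.Agent.S4195.result x hx S hSC hreal
      rw [h2] at hodd
      exact absurd hodd (by decide)
    · have hx' : (QuotientGroup.mk' T x) ≠ 1 := fun h => hxT ((QuotientGroup.eq_one_iff x).mp h)
      have := Fact.mk Nat.prime_two
      haveI : Group.IsSolvable (G ⧸ T) := Group.isSolvable_of_surjective (QuotientGroup.mk'_surjective T)
      refine ih _ (CfsgLib.card_quotient_lt_of_ne_bot hT0) (S.mapSurjective (QuotientGroup.mk'_surjective T))
        (QuotientGroup.mk' T x) hx' (Odd.of_dvd_nat hodd (orderOf_map_dvd _ x)) ?_ ?_ rfl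
      · exact Subgroup.le_normalizer_map _ (Subgroup.mem_map_of_mem _ hnorm)
      · have := (QuotientGroup.mk' T).map_isConj hreal
        rwa [map_inv] at this

end Cfsg.Agent.S4060
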