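import Cfsg.Statements.S4061
import Mathlib
import Cfsg.Agent.Lib.UniqueSubgroup
import Cfsg.Agent.Lib.PSolvable
import Cfsg.Agent.Lib.DisconnectedSolvable
import Cfsg.Agent.Lib.Basic
-- import your own Cfsg.Agent.* helpers here

set_option autoImplicit false
open Cfsg

namespace Cfsg.Agent.S4061

namespace Aux

open scoped commutatorElement

universe u

/-- An element of odd order and fixed-point-free on `E` gives a contradiction in an ambivalent group. -/
theorem no_fpf {Q : Type u} [Group Q] [Finite Q] (hamb : ∀ x : Q, IsConj x x⁻¹) (E : Subgroup Q) [E.Normal]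
    (hE : ∀ s : Q, orderOf s = 2 → s ∈ E) (hE2 : ∀ e ∈ E, e * e = 1) {x : Q} (hx : Odd (orderOf x)) (hx1 : x ≠ 1)
    (hfix : ∀ e ∈ E, x * e = e * x → e = 1) : False := by
  obtain ⟨g, hg⟩ := isConj_iff.mp (hamb x)
  obtain ⟨a, m, hm, hgm⟩ := Nat.exists_eq_two_pow_mul_odd (orderOf_pos g).ne'
  have hgj : ∀ j, g ^ (2 * j) * x * (g ^ (2 * j))⁻¹ = x := by
    intro j
    induction j with
    | zero => simp
    | succ j ih =>
      calc g ^ (2 * (j + 1)) * x * (g ^ (2 * (j + 1)))⁻¹ = g * (g * (g ^ (2 * j) * x * (g ^ (2 * j))⁻¹) * g⁻¹) * g⁻¹ := by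
            rw [show 2 * (j + 1) = 2 + 2 * j by ring, pow_add, pow_two]; group
        _ = x := by rw [ih, hg, ← conj_inv, hg, inv_inv]
  obtain ⟨j, rfl⟩ := hm
  set t := g ^ (2 * j + 1) with ht
  have htx : t * x * t⁻¹ = x⁻¹ := by
    calc t * x * t⁻¹ = g * (g ^ (2 * j) * x * (g ^ (2 * j))⁻¹) * g⁻¹ := by rw [ht, pow_succ']; group
      _ = x⁻¹ := by rw [hgj, hg]
  have hto : orderOf t = 2 ^ a := by
    rw [ht, orderOf_pow, hgm, Nat.gcd_eq_right (dvd_mul_left _ _), Nat.mul_div_cancel _ (by omega)]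
  have hself : x = x⁻¹ → False := fun h => by
    have h2 : orderOf x ∣ 2 := orderOf_dvd_of_pow_eq_one (by rw [pow_two]; nth_rewrite 1 [h]; exact inv_mul_cancel x)
    rcases (Nat.dvd_prime Nat.prime_two).mp h2 with h3 | h3
    · exact hx1 (orderOf_eq_one_iff.mp h3)
    · rw [h3] at hx; exact absurd hx (by decide)
  rcases a with _ | _ | b
  · rw [pow_zero, orderOf_eq_one_iff] at hto
    rw [hto, one_mul, inv_one, mul_one] at htx
    exact hself htx
  · rw [zero_add, pow_one] at hto
    have htE := hE t hto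
    have hmem : x⁻¹ * x⁻¹ ∈ E := by
      have h1 := mul_mem htE ((inferInstance : E.Normal).conj_mem t⁻¹ (inv_mem htE) x)
      rwa [show t * (x * t⁻¹ * x⁻¹) = (t * x * t⁻¹) * x⁻¹ by group, htx] at h1
    have h4 := hE2 _ hmem
    have h5 : orderOf x ∣ 2 ^ 2 := orderOf_dvd_of_pow_eq_one (by
      rw [← inv_inj, inv_one, ← inv_pow]; rw [← h4]; simp [pow_succ, mul_assoc])
    have h6 := Nat.Coprime.eq_one_of_dvd ((Nat.coprime_two_right.mpr hx).pow_right 2) h5
    exact hx1 (orderOf_eq_one_iff.mp h6)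
  · set s := t ^ (2 ^ (b + 1)) with hs
    have hso : orderOf s = 2 := by
      rw [hs, orderOf_pow, hto, show 2 ^ (b + 1 + 1) = 2 * 2 ^ (b + 1) from pow_succ' 2 (b + 1),
        Nat.gcd_eq_right (dvd_mul_left _ 2), Nat.mul_div_cancel _ (pow_pos two_pos _)]
    have hsx : x * s = s * x := by
      have h1 := hgj ((2 * j + 1) * 2 ^ b)
      rw [show g ^ (2 * ((2 * j + 1) * 2 ^ b)) = s by rw [hs, ht, ← pow_mul]; congr 1; rw [pow_succ]; ring] at h1
      exact (mul_inv_eq_iff_eq_mul.mp h1).symm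
    have := hfix s (hE s hso) hsx
    rw [this, orderOf_one] at hso
    norm_num at hso

theorem unique_invol (Q : Type u) [Group Q] [Finite Q] [Group.IsSolvable Q] (hO : Cfsg.oddCore Q = ⊥)
    (hamb : ∀ x : Q, IsConj x x⁻¹) (hone : ∀ s t : Q, orderOf s = 2 → orderOf t = 2 → IsConj s t) (s₀ t₀ : Q)
    (hs₀ : orderOf s₀ = 2) (ht₀ : orderOf t₀ = 2) : s₀ = t₀ := by
  classical
  haveI : Fact (Nat.Prime 2) := ⟨Nat.prime_two⟩
  by_contra hne
  haveI : Nontrivial Q := ⟨⟨s₀, t₀, hne⟩⟩
  have hT : Cfsg.pCore 2 Q ≠ ⊥ := by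
    rw [← CfsgLib.fitting_eq_pCore Nat.prime_two hO]
    exact CfsgLib.DiscSol.fitting_ne_bot
  haveI := (Subgroup.nontrivial_iff_ne_bot _).mpr hT
  set T := Cfsg.pCore 2 Q with hTdef
  haveI : T.Normal := inferInstance
  set Z := (Subgroup.center T).map T.subtype with hZ
  haveI : Z.Normal := ConjAct.normal_of_characteristic_of_normal
  have hZcomm : ∀ a ∈ Z, ∀ b ∈ Z, a * b = b * a := by
    rintro _ ⟨a, ha, rfl⟩ _ ⟨b, -, rfl⟩
    exact congrArg Subtype.val (Subgroup.mem_center_iff.mp ha b).symm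
  have hTp : IsPGroup 2 T := CfsgLib.isPGroup_pCore 2
  haveI := hTp.center_nontrivial
  obtain ⟨k, hk⟩ := IsPGroup.iff_card.mp (hTp.to_subgroup (Subgroup.center T))
  obtain ⟨z, hz⟩ := exists_prime_orderOf_dvd_card' (G := Subgroup.center T) 2 (by
    rw [hk]
    refine dvd_pow_self 2 fun h => ?_
    rw [h, pow_zero] at hk
    have := Finite.one_lt_card (α := Subgroup.center T)
    omega)
  have hz' : orderOf ((z : T) : Q) = 2 := by rw [Subgroup.orderOf_coe, Subgroup.orderOf_coe, hz]
  have hinZ : ∀ s : Q, orderOf s = 2 → s ∈ Z := fun s hs => by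
    obtain ⟨g, rfl⟩ := isConj_iff.mp (hone _ s hz' hs)
    exact (inferInstance : Z.Normal).conj_mem _ ⟨z.1, z.2, rfl⟩ g
  let E : Subgroup Q :=
    { carrier := {e | e ∈ Z ∧ e * e = 1}
      one_mem' := ⟨one_mem _, one_mul 1⟩
      mul_mem' := fun {a b} ha hb => ⟨mul_mem ha.1 hb.1, by
        rw [mul_assoc, ← mul_assoc b, hZcomm b hb.1 a ha.1, mul_assoc a b, ← mul_assoc a a, ha.2, one_mul, hb.2]⟩
      inv_mem' := fun {a} ha => ⟨inv_mem ha.1, by rw [← mul_inv_rev, ha.2, inv_one]⟩ }
  haveI : E.Normal := ⟨fun e he g => ⟨(inferInstance : Z.Normal).conj_mem e he.1 g, by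
    rw [show g * e * g⁻¹ * (g * e * g⁻¹) = g * (e * e) * g⁻¹ by group, he.2, mul_one, mul_inv_cancel]⟩⟩
  have hE : ∀ s : Q, orderOf s = 2 → s ∈ E := fun s hs =>
    ⟨hinZ s hs, by rw [← pow_two, ← hs, pow_orderOf_eq_one]⟩
  have hEord : ∀ e ∈ E, e ≠ 1 → orderOf e = 2 := fun e he h1 => orderOf_eq_prime (by rw [pow_two]; exact he.2) h1
  set C := Subgroup.centralizer (E : Set Q) with hC
  haveI : C.Normal := inferInstance
  have hCtop : C ≠ ⊤ := fun h => hne (by
    obtain ⟨g, hg⟩ := isConj_iff.mp (hone _ _ hs₀ ht₀)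
    have hgc : g ∈ C := h ▸ Subgroup.mem_top g
    rw [← Subgroup.mem_centralizer_iff.mp hgc s₀ (hE s₀ hs₀), mul_inv_cancel_right] at hg
    exact hg)
  obtain ⟨n, hn⟩ := (inferInstance : Group.IsSolvable Q).solvable
  have hex : ∃ k, derivedSeries Q k ≤ C := ⟨n, hn.le.trans bot_le⟩
  obtain ⟨i, hi⟩ : ∃ i, Nat.find hex = i + 1 := Nat.exists_eq_succ_of_ne_zero fun h0 => hCtop (by
    have := Nat.find_spec hex
    rw [h0, derivedSeries_zero] at this
    exact top_le_iff.mp this)
  set K := derivedSeries Q i with hK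
  haveI : K.Normal := derivedSeries_normal Q i
  have hKC : ¬ K ≤ C := Nat.find_min hex (by omega)
  have hKK : ⁅K, K⁆ ≤ C := by
    have := Nat.find_spec hex
    rwa [hi, derivedSeries_succ] at this
  let St : Q → Subgroup Q := fun e => K ⊓ Subgroup.centralizer {e}
  have hmem : ∀ e k, k ∈ St e ↔ k ∈ K ∧ k * e = e * k := fun e k => by
    simp only [St, Subgroup.mem_inf, Subgroup.mem_centralizer_singleton_iff]
  have hStn : ∀ e ∈ E, ∀ k ∈ K, ∀ a ∈ St e, a * (k * e * k⁻¹) = (k * e * k⁻¹) * a := by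
    intro e he k hk a ha
    have h1 : k⁻¹ * a * k * a⁻¹ ∈ C := by
      have := hKK (Subgroup.commutator_mem_commutator (inv_mem hk) ((hmem e a).mp ha).1)
      rwa [commutatorElement_def, inv_inv] at this
    have h2 : k⁻¹ * a * k * e = e * (k⁻¹ * a * k) := by
      rw [show k⁻¹ * a * k = (k⁻¹ * a * k * a⁻¹) * a by group, mul_assoc, ((hmem e a).mp ha).2, ← mul_assoc,
        ← Subgroup.mem_centralizer_iff.mp h1 e he, mul_assoc]
    calc a * (k * e * k⁻¹) = k * (k⁻¹ * a * k * e) * k⁻¹ := by group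
      _ = _ := by rw [h2]; group
  have hcardSt : ∀ e f, e ∈ E → f ∈ E → e ≠ 1 → f ≠ 1 → Nat.card (St e) = Nat.card (St f) := by
    intro e f he hf he1 hf1
    obtain ⟨g, rfl⟩ := isConj_iff.mp (hone _ _ (hEord e he he1) (hEord f hf hf1))
    have hmap : (St e).map (MulAut.conj g).toMonoidHom = St (g * e * g⁻¹) := by
      ext x
      rw [Subgroup.mem_map_equiv, MulAut.conj_symm_apply, hmem, hmem]
      refine and_congr ?_ ?_
      · exact ⟨fun h => by simpa [mul_assoc] using (inferInstance : K.Normal).conj_mem _ h g,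
          fun h => by simpa [mul_assoc] using (inferInstance : K.Normal).conj_mem _ h g⁻¹⟩
      · rw [← mul_right_inj g, ← mul_left_inj g⁻¹]
        simp [mul_assoc]
    rw [← hmap, Subgroup.card_map_of_injective (MulAut.conj g).injective]
  have hSteq : ∀ e f, e ∈ E → f ∈ E → e ≠ 1 → f ≠ 1 → St e = St f := by
    intro e f he hf he1 hf1
    by_contra hd
    have hef : e * f ≠ 1 := fun h => hd (by rw [mul_left_cancel (h.trans he.2.symm)])
    have hle : St (e * f) ≤ St e := by
      intro k hk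
      obtain ⟨hkK, hkc⟩ := (hmem _ _).mp hk
      set u := k * e * k⁻¹ with hu
      set v := k * f * k⁻¹ with hv
      have huv : u * v = e * f := by rw [hu, hv, show k * e * k⁻¹ * (k * f * k⁻¹) = k * (e * f) * k⁻¹ by group, hkc, mul_inv_cancel_right]
      have huE : u ∈ E := (inferInstance : E.Normal).conj_mem e he k
      by_contra hke
      have hd1 : e * u ≠ 1 := fun h => hke ((hmem _ _).mpr ⟨hkK, by
        rw [← mul_inv_eq_iff_eq_mul, ← hu]
        exact mul_left_cancel (h.trans he.2.symm)⟩)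
      have hdeq : e * u = f * v⁻¹ := by
        rw [← mul_inv_eq_iff_eq_mul.mpr huv.symm, ← mul_assoc, ← mul_assoc, he.2, one_mul]
      have hSte : St e ≤ St (e * u) := fun a ha => (hmem _ _).mpr ⟨((hmem _ _).mp ha).1, by
        rw [← mul_assoc, ((hmem _ _).mp ha).2, mul_assoc, hStn e he k hkK a ha, ← mul_assoc]⟩
      have hStf : St f ≤ St (e * u) := fun a ha => (hmem _ _).mpr ⟨((hmem _ _).mp ha).1, by
        have hav : Commute a v := hStn f hf k hkK a ha
        rw [hdeq, ← mul_assoc, ((hmem _ _).mp ha).2, mul_assoc, hav.inv_right.eq, mul_assoc]⟩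
      exact hd ((Subgroup.eq_of_le_of_card_ge hSte (hcardSt _ _ (mul_mem he huE) he hd1 he1).le).trans
        (Subgroup.eq_of_le_of_card_ge hStf (hcardSt _ _ (mul_mem he huE) hf hd1 hf1).le).symm)
    have hle2 : St (e * f) ≤ St f := fun k hk => (hmem _ _).mpr ⟨((hmem _ _).mp hk).1, by
      have h1 := ((hmem _ _).mp (hle hk)).2
      have h2 := ((hmem _ _).mp hk).2
      rw [← mul_assoc, h1, mul_assoc, mul_assoc] at h2
      exact mul_left_cancel h2⟩
    exact hd ((Subgroup.eq_of_le_of_card_ge hle (hcardSt _ _ he (mul_mem he hf) he1 hef).le).symm.trans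
      (Subgroup.eq_of_le_of_card_ge hle2 (hcardSt _ _ hf (mul_mem he hf) hf1 hef).le))
  have hsemi : ∀ k ∈ K, k ∉ C → ∀ e ∈ E, k * e = e * k → e = 1 := by
    intro k hk hkC e he hke
    by_contra he1
    refine hkC (Subgroup.mem_centralizer_iff.mpr fun f hf => ?_)
    rcases eq_or_ne f 1 with rfl | hf1
    · simp
    · have h1 : k ∈ St f := hSteq e f he hf he1 hf1 ▸ (hmem _ _).mpr ⟨hk, hke⟩
      exact ((hmem _ _).mp h1).2.symm
  obtain ⟨k, hk, hkC⟩ := SetLike.not_le_iff_exists.mp hKC
  obtain ⟨a, m, hm, hkm⟩ := Nat.exists_eq_two_pow_mul_odd (orderOf_pos k).ne'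
  have hsq : ∀ j, k ^ (2 ^ j) ∉ C := by
    intro j
    induction j with
    | zero => simpa using hkC
    | succ j ih =>
      intro hc
      set k' := k ^ (2 ^ j) with hk'
      have hc2 : k' * k' ∈ C := by rwa [hk', ← pow_add, ← two_mul, ← pow_succ']
      have he := hE s₀ hs₀
      have hs1 : s₀ ≠ 1 := fun h => by rw [h, orderOf_one] at hs₀; norm_num at hs₀
      set u := k' * s₀ * k'⁻¹ with hu
      have huE : u ∈ E := (inferInstance : E.Normal).conj_mem _ he k'
      have huk : k' * u * k'⁻¹ = s₀ := by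
        rw [hu, show k' * (k' * s₀ * k'⁻¹) * k'⁻¹ = (k' * k') * s₀ * (k' * k')⁻¹ by group,
          ← Subgroup.mem_centralizer_iff.mp hc2 s₀ he, mul_inv_cancel_right]
      have hfix : k' * (s₀ * u) * k'⁻¹ = s₀ * u := by
        rw [show k' * (s₀ * u) * k'⁻¹ = (k' * s₀ * k'⁻¹) * (k' * u * k'⁻¹) by group, ← hu, huk,
          hZcomm u huE.1 s₀ he.1]
      have h1 := hsemi k' (pow_mem hk _) ih (s₀ * u) (mul_mem he huE) (mul_inv_eq_iff_eq_mul.mp hfix)
      have h2 : u = s₀ := mul_left_cancel (h1.trans he.2.symm)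
      exact hs1 (hsemi k' (pow_mem hk _) ih s₀ he (mul_inv_eq_iff_eq_mul.mp h2))
  refine no_fpf hamb E hE (fun e he => he.2) (x := k ^ (2 ^ a)) ?_ (fun h => hsq a (h ▸ one_mem C))
    (hsemi _ (pow_mem hk _) (hsq a))
  rw [orderOf_pow, hkm, Nat.gcd_eq_right (dvd_mul_right _ m), Nat.mul_div_cancel_left _ (pow_pos two_pos a)]
  exact hm

theorem order_two {G : Type u} [Group G] [Finite G] (hamb : ∀ x : G, IsConj x x⁻¹) (S : Sylow 2 G)
    (hS2 : Nat.card S = 2) :
    (S : Subgroup G).IsComplement' (Cfsg.oddCore G) ∧ Cfsg.oddCore G = commutator G ∧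
      ∀ t : G, t ∈ S → t ≠ 1 → ∀ x : G, x ∈ Cfsg.oddCore G → t * x * t⁻¹ = x⁻¹ := by
  classical
  haveI : Fact (Nat.Prime 2) := ⟨Nat.prime_two⟩
  have hS2' : Nat.card (S : Subgroup G) = 2 := hS2
  haveI := isCyclic_of_prime_card hS2'
  have heven : 2 ∣ Nat.card G := hS2' ▸ Subgroup.card_subgroup_dvd_card _
  have hN : Subgroup.normalizer ((S : Subgroup G) : Set G) ≤ Subgroup.centralizer ((S : Subgroup G) : Set G) :=
    IsCyclic.normalizer_le_centralizer (G := G) ((Nat.minFac_eq_two_iff _).mpr heven) inferInstance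
  set K := (MonoidHom.transferSylow S hN).ker with hKdef
  have hK := MonoidHom.ker_transferSylow_isComplement' S hN
  have hodd : Odd (Nat.card K) := by
    rw [← Nat.not_even_iff_odd, even_iff_two_dvd]
    intro h2
    have hidx : K.index = 2 := by rw [hK.symm.index_eq_card, hS2']
    have := K.card_mul_index
    rw [hidx] at this
    have h4 : 2 * 2 ∣ Nat.card G := this ▸ Nat.mul_dvd_mul h2 dvd_rfl
    have hi := S.not_dvd_index
    have hc := (S : Subgroup G).card_mul_index
    rw [hS2'] at hc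
    rw [← hc] at h4
    exact hi (Nat.dvd_of_mul_dvd_mul_left two_pos h4)
  have hKO : Cfsg.oddCore G = K := by
    refine le_antisymm (fun x hx => ?_) (CfsgLib.le_oddCore hodd)
    rw [hKdef, MonoidHom.mem_ker, ← orderOf_eq_one_iff]
    refine Nat.Coprime.eq_one_of_dvd (k := orderOf ((MonoidHom.transferSylow S hN) x)) (m := 2) ?_ ((orderOf_dvd_natCard _).trans hS2'.dvd)
    exact Nat.Coprime.coprime_dvd_left ((orderOf_map_dvd _ x).trans (Subgroup.orderOf_dvd_natCard _ hx))
      (Nat.coprime_two_right.mpr CfsgLib.odd_card_oddCore)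
  have hcl : ∀ g : G, ∀ t ∈ (S : Subgroup G), t ≠ 1 → g ∈ K ∨ g * t ∈ K := by
    intro g t ht ht1
    obtain ⟨⟨⟨k, hk⟩, ⟨s, hs⟩⟩, hks⟩ := hK.2 g
    have hks' : k * s = g := hks
    haveI := Fintype.ofFinite (S : Subgroup G)
    rcases eq_or_ne s 1 with rfl | hs1
    · left; rw [← hks', mul_one]; exact hk
    · right
      have hst : s = t := by
        by_contra hne
        have h3 : ({1, s, t} : Set G) ⊆ ((S : Subgroup G) : Set G) := by
          rintro x (rfl | rfl | rfl)
          exacts [one_mem _, hs, ht]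
        have h4 := Set.ncard_le_ncard h3 (Set.toFinite _)
        rw [← Nat.card_coe_set_eq ((S : Subgroup G) : Set G),
          Set.ncard_insert_of_notMem (by simp [Ne.symm hs1, Ne.symm ht1]) (Set.toFinite _), Set.ncard_pair hne] at h4
        change _ ≤ Nat.card (S : Subgroup G) at h4
        rw [hS2'] at h4
        omega
      have ht2 : t * t = 1 := by
        have := Subgroup.orderOf_dvd_natCard _ ht
        rw [hS2', orderOf_dvd_iff_pow_eq_one, pow_two] at this
        exact this
      rw [← hks', hst, mul_assoc, ht2, mul_one]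
      exact hk
  refine ⟨hKO ▸ hK.symm, ?_, ?_⟩
  · rw [hKO]
    refine le_antisymm ?_ ?_
    · intro x hx
      rw [← QuotientGroup.eq_one_iff]
      have h1 := (QuotientGroup.mk' (commutator G)).map_isConj (hamb x)
      rw [map_inv] at h1
      letI : CommGroup (G ⧸ commutator G) := { (inferInstance : Group (G ⧸ commutator G)) with
        mul_comm := fun a b => by
          obtain ⟨a, rfl⟩ := QuotientGroup.mk'_surjective (commutator G) a
          obtain ⟨b, rfl⟩ := QuotientGroup.mk'_surjective (commutator G) b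
          rw [← commutatorElement_eq_one_iff_mul_comm, ← map_commutatorElement]
          exact (QuotientGroup.eq_one_iff _).mpr
            (Subgroup.commutator_mem_commutator (Subgroup.mem_top a) (Subgroup.mem_top b)) }
      rw [isConj_iff_eq] at h1
      rw [← QuotientGroup.mk'_apply, ← orderOf_eq_one_iff]
      refine Nat.Coprime.eq_one_of_dvd (k := orderOf (QuotientGroup.mk' (commutator G) x)) (m := 2) ?_
        (orderOf_dvd_of_pow_eq_one ?_)
      · exact Nat.Coprime.coprime_dvd_left ((orderOf_map_dvd _ x).trans (Subgroup.orderOf_dvd_natCard _ hx))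
          (Nat.coprime_two_right.mpr hodd)
      · rw [pow_two]
        nth_rewrite 2 [h1]
        exact mul_inv_cancel _
    · rw [commutator_def, Subgroup.commutator_le]
      intro a _ b _
      rw [hKdef, MonoidHom.mem_ker, map_commutatorElement, commutatorElement_eq_one_iff_mul_comm]
      letI := IsCyclic.commGroup (α := (S : Subgroup G))
      exact mul_comm _ _
  · intro t ht ht1 x hx
    rw [hKO] at hx
    have ht2 : t * t = 1 := by
      have := Subgroup.orderOf_dvd_natCard _ ht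
      rw [hS2', orderOf_dvd_iff_pow_eq_one, pow_two] at this
      exact this
    have hti : t⁻¹ = t := inv_eq_of_mul_eq_one_right ht2
    have hno : ∀ o ∈ K, ∀ c ∈ K, o * c * o⁻¹ = c⁻¹ → c = 1 := by
      intro o ho c hc hoc
      obtain ⟨j, hj⟩ := Odd.of_dvd_nat hodd (Subgroup.orderOf_dvd_natCard K ho)
      have hev : ∀ i, o ^ (2 * i) * c * (o ^ (2 * i))⁻¹ = c := by
        intro i
        induction i with
        | zero => simp
        | succ i ih =>
          calc o ^ (2 * (i + 1)) * c * (o ^ (2 * (i + 1)))⁻¹ =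
              o * (o * (o ^ (2 * i) * c * (o ^ (2 * i))⁻¹) * o⁻¹) * o⁻¹ := by
                rw [show 2 * (i + 1) = 2 + 2 * i by ring, pow_add, pow_two]; group
            _ = c := by rw [ih, hoc, ← conj_inv, hoc, inv_inv]
      have h1 : c⁻¹ = c := by
        have h := pow_orderOf_eq_one o
        rw [hj, pow_succ'] at h
        have h2 := hev j
        rw [show o ^ (2 * j) = o⁻¹ from (inv_eq_of_mul_eq_one_right h).symm] at h2
        rw [← hoc]
        calc o * c * o⁻¹ = o * (o⁻¹ * c * o⁻¹⁻¹) * o⁻¹ := by rw [h2]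
          _ = c := by group
      rw [← orderOf_eq_one_iff]
      refine Nat.Coprime.eq_one_of_dvd (m := 2) ?_ (orderOf_dvd_of_pow_eq_one ?_)
      · exact Nat.Coprime.coprime_dvd_left (Subgroup.orderOf_dvd_natCard _ hc) (Nat.coprime_two_right.mpr hodd)
      · rw [pow_two]; nth_rewrite 1 [← h1]; exact inv_mul_cancel c
    have hfpf : ∀ c ∈ K, t * c = c * t → c = 1 := by
      intro c hc hcomm
      obtain ⟨g, hg⟩ := isConj_iff.mp (hamb c)
      rcases hcl g t ht ht1 with hgK | hgK
      · exact hno g hgK c hc hg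
      · refine hno (g * t) hgK c hc ?_
        rw [show g * t * c * (g * t)⁻¹ = g * (t * c * t⁻¹) * g⁻¹ by group, hcomm, mul_inv_cancel_right, hg]
    let f : K → K := fun y => ⟨(y : G)⁻¹ * (t * y * t⁻¹), mul_mem (inv_mem y.2)
      ((inferInstance : K.Normal).conj_mem _ y.2 t)⟩
    have hfinj : Function.Injective f := by
      intro y y' h
      have h1 : (y : G)⁻¹ * (t * y * t⁻¹) = (y' : G)⁻¹ * (t * y' * t⁻¹) := congrArg Subtype.val h
      have h2 : t * ((y' : G) * (y : G)⁻¹) = ((y' : G) * (y : G)⁻¹) * t := by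
        calc t * ((y' : G) * (y : G)⁻¹) = (t * y' * t⁻¹) * (t * y * t⁻¹)⁻¹ * t := by group
          _ = ((y' : G) * ((y' : G)⁻¹ * (t * y' * t⁻¹))) * (t * y * t⁻¹)⁻¹ * t := by group
          _ = _ := by rw [← h1]; group
      exact Subtype.ext (mul_inv_eq_one.mp (hfpf _ (mul_mem y'.2 (inv_mem y.2)) h2)).symm
    obtain ⟨⟨y, hy⟩, hyx⟩ := Finite.surjective_of_injective hfinj ⟨x, hx⟩
    have hxy : x = y⁻¹ * (t * y * t) := by
      have := congrArg Subtype.val hyx
      simp only [f, hti] at this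
      exact this.symm
    rw [hxy, hti]
    calc t * (y⁻¹ * (t * y * t)) * t = t * y⁻¹ * t * y * (t * t) := by group
      _ = (y⁻¹ * (t * y * t))⁻¹ := by rw [ht2, mul_one, mul_inv_rev, mul_inv_rev, mul_inv_rev, inv_inv, hti]; group

end Aux

/-- Let G be a finite solvable group of even order in which every element is conjugate to its inverse and all involutions are conjugate. Then a Sylow 2-subgroup S of G has order 2 or is a generalized quaternion group (of order at least 8). Moreover, if S has order 2, then G is the semidirect product of its largest normal subgroup of odd order O(G) by S, O(G) equals the derived subgroup of G, and the involution of S inverts every element of O(G). -/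
theorem result {G : Type*} [Group G] [Finite G] [Group.IsSolvable G]
    (hamb : ∀ x : G, IsConj x x⁻¹) (heven : 2 ∣ Nat.card G) (hone : ∀ s t : G, orderOf s = 2 → orderOf t = 2 → IsConj s t) (S : Sylow 2 G) :
    (Nat.card S = 2 ∨ ∃ n : ℕ, Nonempty ((S : Subgroup G) ≃* QuaternionGroup (2 ^ (n + 1)))) ∧
    (Nat.card S = 2 → (S : Subgroup G).IsComplement' (Cfsg.oddCore G) ∧ Cfsg.oddCore G = commutator G ∧
        ∀ t : G, t ∈ S → t ≠ 1 → ∀ x : G, x ∈ Cfsg.oddCore G → t * x * t⁻¹ = x⁻¹) := by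
  classical
  haveI : Fact (Nat.Prime 2) := ⟨Nat.prime_two⟩
  set O := Cfsg.oddCore G with hO
  haveI : O.Normal := inferInstance
  have hOodd : Odd (Nat.card O) := CfsgLib.odd_card_oddCore
  set π := QuotientGroup.mk' O with hπ
  have hπs : Function.Surjective π := QuotientGroup.mk'_surjective O
  haveI : Group.IsSolvable (G ⧸ O) := Group.isSolvable_of_surjective hπs
  have hQamb : ∀ x : G ⧸ O, IsConj x x⁻¹ := fun x => by
    obtain ⟨x, rfl⟩ := hπs x
    rw [← map_inv]
    exact π.map_isConj (hamb x)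
  have hlift : ∀ x : G ⧸ O, orderOf x = 2 → ∃ s : G, orderOf s = 2 ∧ π s = x := fun x hx => by
    obtain ⟨y, rfl⟩ := hπs x
    obtain ⟨a, m, hm, hym⟩ := Nat.exists_eq_two_pow_mul_odd (orderOf_pos y).ne'
    have h2 : 2 ∣ orderOf y := hx ▸ orderOf_map_dvd π y
    have ha : a ≠ 0 := by
      rintro rfl
      rw [pow_zero, one_mul] at hym
      rw [hym] at h2
      exact (Nat.not_even_iff_odd.mpr hm) (even_iff_two_dvd.mpr h2)
    have hzo : ∀ k, orderOf (π y ^ (2 ^ k * m)) = if k = 0 then 2 else 1 := fun k => by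
      rw [orderOf_pow, hx]
      rcases Nat.eq_zero_or_pos k with rfl | hk
      · rw [pow_zero, one_mul, if_pos rfl, Nat.coprime_iff_gcd_eq_one.mp (Nat.coprime_two_left.mpr hm)]
      · rw [if_neg hk.ne', Nat.gcd_eq_left (dvd_mul_of_dvd_left (dvd_pow_self 2 hk.ne') m)]
    have ha1 : a = 1 := by
      by_contra hne
      have ho : orderOf (y ^ (2 ^ (a - 1) * m)) = 2 := by
        rw [orderOf_pow, hym, show 2 ^ a * m = 2 * (2 ^ (a - 1) * m) by
          rw [← mul_assoc, ← pow_succ', Nat.sub_add_cancel (Nat.one_le_iff_ne_zero.mpr ha)],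
          Nat.gcd_eq_right (dvd_mul_left _ 2), Nat.mul_div_cancel _ (Nat.mul_pos (pow_pos two_pos _) hm.pos)]
      have hmem : y ^ (2 ^ (a - 1) * m) ∈ O := by
        rw [← QuotientGroup.eq_one_iff, QuotientGroup.mk_pow]
        have h := hzo (a - 1)
        rw [if_neg (by omega), orderOf_eq_one_iff] at h
        exact h
      have h3 : 2 ∣ Nat.card O := ho ▸ Subgroup.orderOf_dvd_natCard O hmem
      exact (Nat.not_even_iff_odd.mpr hOodd) (even_iff_two_dvd.mpr h3)
    refine ⟨y ^ m, ?_, ?_⟩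
    · rw [orderOf_pow, hym, ha1, pow_one, Nat.gcd_eq_right (dvd_mul_left m 2), Nat.mul_div_cancel _ hm.pos]
    · obtain ⟨j, hj⟩ := hm
      have hy2 : π y ^ 2 = 1 := hx ▸ pow_orderOf_eq_one (π y)
      rw [map_pow, hj, pow_succ, pow_mul, hy2, one_pow, one_mul]
  have hQone : ∀ s t : G ⧸ O, orderOf s = 2 → orderOf t = 2 → IsConj s t := fun s t hs ht => by
    obtain ⟨s', hs', rfl⟩ := hlift s hs
    obtain ⟨t', ht', rfl⟩ := hlift t ht
    exact π.map_isConj (hone s' t' hs' ht')
  have hQO : Cfsg.oddCore (G ⧸ O) = ⊥ := CfsgLib.pPrimeCore_quotient_eq_bot 2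
  have hinj : ∀ s t : G, s ∈ S → t ∈ S → π s = π t → s = t := fun s t hs ht h => by
    have h1 : s⁻¹ * t ∈ O := QuotientGroup.eq.mp h
    have h2 : orderOf (s⁻¹ * t) ∣ 1 := by
      obtain ⟨k, hk⟩ := IsPGroup.iff_card.mp S.2
      have hd1 := Subgroup.orderOf_dvd_natCard O h1
      have hd2 := Subgroup.orderOf_dvd_natCard (S : Subgroup G) (mul_mem (inv_mem hs) ht)
      have hcop : (Nat.card O).Coprime (Nat.card (S : Subgroup G)) := by
        rw [hk]
        exact (Nat.coprime_two_right.mpr hOodd).pow_right k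
      exact hcop ▸ Nat.dvd_gcd hd1 hd2
    exact inv_mul_eq_one.mp (orderOf_eq_one_iff.mp (Nat.dvd_one.mp h2))
  obtain ⟨z, hz⟩ := exists_prime_orderOf_dvd_card' (G := (S : Subgroup G)) 2 (S.dvd_card_of_dvd_card heven)
  have hord : ∀ x : (S : Subgroup G), orderOf (π (x : G)) = orderOf x := fun x => by
    refine orderOf_injective (π.comp (S : Subgroup G).subtype) (fun u v h => Subtype.ext (hinj _ _ u.2 v.2 h)) x
  have huniq : ∀ x : (S : Subgroup G), x ^ 2 = 1 → x ∈ Subgroup.zpowers z := fun x hx => by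
    rcases eq_or_ne x 1 with rfl | hx1
    · exact one_mem _
    have h := Aux.unique_invol (G ⧸ O) hQO hQamb hQone (π (x : G)) (π (z : G))
      (by rw [hord]; exact orderOf_eq_prime hx hx1) (by rw [hord, hz])
    rw [Subtype.ext (hinj _ _ x.2 z.2 h)]
    exact Subgroup.mem_zpowers z
  have hcyc : IsCyclic (S : Subgroup G) → Nat.card S = 2 := fun hc => by
    haveI := hc
    letI := IsCyclic.commGroup (α := (S : Subgroup G))
    have hN : Subgroup.normalizer ((S : Subgroup G) : Set G) ≤ Subgroup.centralizer ((S : Subgroup G) : Set G) :=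
      IsCyclic.normalizer_le_centralizer (G := G) ((Nat.minFac_eq_two_iff _).mpr heven) inferInstance
    have hK := MonoidHom.ker_transferSylow_isComplement' S hN
    obtain ⟨g, hg⟩ := IsCyclic.exists_generator (α := (S : Subgroup G))
    have h1 := (MonoidHom.transferSylow S hN).map_isConj (hamb (g : G))
    rw [isConj_iff_eq, map_inv] at h1
    have hsurj : Function.Bijective ((MonoidHom.transferSylow S hN).domRestrict (S : Subgroup G)) :=
      (MonoidHom.transferSylow_domRestrict_eq_pow S hN).symm ▸ (S.2.powEquiv' S.not_dvd_index).bijective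
    have h2 : g * g = 1 := by
      apply hsurj.1
      rw [map_mul, map_one]
      show MonoidHom.transferSylow S hN (g : G) * MonoidHom.transferSylow S hN (g : G) = 1
      conv_lhs => arg 2; rw [h1]
      exact mul_inv_cancel _
    have h3 : Nat.card (S : Subgroup G) = orderOf g := (orderOf_eq_card_of_forall_mem_zpowers hg).symm
    have h4 : orderOf g ∣ 2 := orderOf_dvd_of_pow_eq_one (by rw [pow_two]; exact h2)
    rcases (Nat.dvd_prime Nat.prime_two).mp h4 with h | h
    · exfalso
      have := orderOf_dvd_natCard z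
      rw [hz, h3, h] at this
      norm_num at this
    · exact h3.trans h
  refine ⟨?_, fun hS2 => ?_⟩
  · rcases CfsgLib.UniqueSubgroup.cyclic_or_quaternion S.2 hz huniq with hc | ⟨-, n, hn, hne⟩
    · exact Or.inl (hcyc hc)
    · refine Or.inr ⟨n - 1, ?_⟩
      rwa [Nat.sub_add_cancel hn]
  · exact Aux.order_two hamb S hS2

end Cfsg.Agent.S4061
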