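import Cfsg.Statements.S4062
import Mathlib
import Cfsg.Agent.Lib.Elementary
-- import your own Cfsg.Agent.* helpers here

set_option autoImplicit false
open Cfsg

namespace Cfsg.Agent.S4062

open scoped IsMulCommutative
open Subgroup

universe u

/-- Hypothesis: elements of equal order are conjugate. -/
def EqConj (G : Type u) [Group G] : Prop := ∀ x y : G, orderOf x = orderOf y → IsConj x y

theorem abelian_bound {G : Type u} [Group G] [Finite G] (h : EqConj G) (hc : ∀ x y : G, x * y = y * x) :
    Nat.card G ≤ (Nat.card G).divisors.card := by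
  classical
  have : Fintype G := Fintype.ofFinite G
  rw [Nat.card_eq_fintype_card, ← Finset.card_univ]
  refine Finset.card_le_card_of_injOn orderOf (fun x _ => ?_) ?_
  · rw [Finset.mem_coe, Nat.mem_divisors, Finset.card_univ, ← Nat.card_eq_fintype_card]
    exact ⟨orderOf_dvd_natCard x, Nat.card_pos.ne'⟩
  · intro x _ y _ hxy
    obtain ⟨c, hc'⟩ := isConj_iff.mp (h x y hxy)
    rw [← hc', hc c x, mul_inv_cancel_right]

theorem index_centralizer_eq {G : Type u} [Group G] [Finite G] (a : G) :
    (centralizer ({a} : Set G)).index = Nat.card (ConjClasses.mk a).carrier := by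
  rw [Subgroup.centralizer_eq_comap_stabilizer]
  erw [Subgroup.index_comap_of_surjective _ (MulEquiv.surjective _)]
  rw [MulAction.index_stabilizer, ← ConjAct.orbit_eq_carrier_conjClasses, Nat.card_coe_set_eq]

theorem conjugator {G : Type u} [Group G] (h : EqConj G) {x : G} {k : ℕ} (hk : (orderOf x).Coprime k) :
    ∃ g : G, g * x * g⁻¹ = x ^ k := by
  obtain ⟨g, hg⟩ := isConj_iff.mp (h x (x ^ k) (Nat.Coprime.orderOf_pow hk).symm)
  exact ⟨g, hg⟩

theorem order_six {G : Type u} [Group G] [Finite G] (h : EqConj G) (hG : Nat.card G = 6) :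
    (∀ z : G, (∀ g, g * z = z * g) → z ^ 2 = 1 → z = 1) ∧ Nonempty (G ≃* Equiv.Perm (Fin 3)) := by
  classical
  have : Fact (Nat.Prime 2) := ⟨Nat.prime_two⟩
  have : Fact (Nat.Prime 3) := ⟨Nat.prime_three⟩
  have key : ∀ z : G, (∀ g, g * z = z * g) → z ^ 2 = 1 → z = 1 := by
    intro z hz hz2
    by_contra hz1
    have hzo : orderOf z = 2 := orderOf_eq_prime hz2 hz1
    obtain ⟨y, hy⟩ := exists_prime_orderOf_dvd_card' (G := G) 3 (by rw [hG]; norm_num)
    have hzy : orderOf (z * y) = 6 := by
      rw [(Commute.orderOf_mul_eq_mul_orderOf_of_coprime (show Commute z y from (hz y).symm)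
        (by rw [hzo, hy]; norm_num)), hzo, hy]
    have hcyc : IsCyclic G := isCyclic_of_orderOf_eq_card (z * y) (by rw [hzy, hG])
    have h6 := abelian_bound h (fun a b => IsCyclic.commGroup.mul_comm a b)
    rw [hG] at h6
    exact absurd h6 (by decide)
  refine ⟨key, ?_⟩
  obtain ⟨t, ht⟩ := exists_prime_orderOf_dvd_card' (G := G) 2 (by rw [hG]; norm_num)
  set H := zpowers t with hH
  have hHc : Nat.card H = 2 := by rw [hH, Nat.card_zpowers, ht]
  have hcore : H.normalCore = ⊥ := by
    rw [eq_bot_iff]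
    intro z hz
    have hzH := H.normalCore_le hz
    have hz2 : z ^ 2 = 1 := by
      have := pow_card_eq_one' (x := (⟨z, hzH⟩ : H))
      rw [hHc] at this
      exact congrArg Subtype.val this
    rw [Subgroup.mem_bot]
    refine key z (fun g => ?_) hz2
    by_contra hne
    have hz1 : z ≠ 1 := fun e => hne (by rw [e, mul_one, one_mul])
    have hw := H.normalCore_le (H.normalCore_normal.conj_mem z hz g)
    have htwo : ∀ w ∈ H, w = 1 ∨ w = t := by
      intro w hw
      obtain ⟨n, hn⟩ := ((isOfFinOrder_of_finite t).mem_powers_iff_mem_zpowers).mpr (hH ▸ hw)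
      have hn' : t ^ (n % 2) = w := by rw [← ht, pow_mod_orderOf]; exact hn
      rcases Nat.mod_two_eq_zero_or_one n with e | e
      · left; rw [← hn', e, pow_zero]
      · right; rw [← hn', e, pow_one]
    rcases htwo z hzH with e | e
    · exact hz1 e
    rcases htwo _ hw with e' | e'
    · exact hz1 (conj_eq_one_iff.mp e')
    · exact hne (mul_inv_eq_iff_eq_mul.mp (e'.trans e.symm))
  have hi : H.index = 3 := by
    have := H.card_mul_index; rw [hHc, hG] at this; omega
  have hinj : Function.Injective (MulAction.toPermHom G (G ⧸ H)) := by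
    rw [← MonoidHom.ker_eq_bot_iff, ← Subgroup.normalCore_eq_ker, hcore]
  obtain ⟨e⟩ : Nonempty ((G ⧸ H) ≃ Fin 3) := ⟨Finite.equivFinOfCardEq hi⟩
  refine ⟨MulEquiv.ofBijective ((e.permCongrHom : Equiv.Perm (G ⧸ H) ≃* Equiv.Perm (Fin 3)).toMonoidHom.comp
    (MulAction.toPermHom G (G ⧸ H))) ((Nat.bijective_iff_injective_and_card _).mpr ⟨?_, ?_⟩)⟩
  · rw [MonoidHom.coe_comp, MulEquiv.coe_toMonoidHom]; exact (MulEquiv.injective _).comp hinj
  · rw [hG, Nat.card_perm, Nat.card_fin]; rfl

theorem quot {G : Type u} [Group G] [Finite G] (h : EqConj G) (N : Subgroup G) (hN : N.Normal)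
    (hab : IsMulCommutative N) (p : ℕ) (hp : p.Prime) (hpow : ∀ x ∈ N, x ^ p = 1)
    (hallp : ∀ x : G, orderOf x = p → x ∈ N) : EqConj (G ⧸ N) := by
  have := Fact.mk hp
  have lift : ∀ q : G ⧸ N, ∃ x : G, (x : G ⧸ N) = q ∧
      orderOf x = if p ∣ orderOf q then orderOf q * p else orderOf q := by
    intro q
    induction q using QuotientGroup.induction_on with
    | H x =>
      set m := orderOf (x : G ⧸ N) with hm
      have hxm : x ^ m ∈ N := by
        rw [← QuotientGroup.eq_one_iff, QuotientGroup.mk_pow, hm, pow_orderOf_eq_one]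
      have hdiv : m ∣ orderOf x := orderOf_dvd_of_pow_eq_one (by
        rw [← QuotientGroup.mk_pow, pow_orderOf_eq_one, QuotientGroup.mk_one])
      have hdiv2 : orderOf x ∣ m * p := orderOf_dvd_of_pow_eq_one (by rw [pow_mul]; exact hpow _ hxm)
      have hm0 : 0 < m := orderOf_pos _
      split_ifs with hpm
      · refine ⟨x, rfl, ?_⟩
        obtain ⟨k, hk⟩ := hdiv
        rw [hk] at hdiv2
        rcases (Nat.dvd_prime hp).mp (Nat.dvd_of_mul_dvd_mul_left hm0 hdiv2) with e | e
        · exfalso
          rw [e, mul_one] at hk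
          have h1 : orderOf (x ^ (m / p)) = p := by
            rw [orderOf_pow' _ (Nat.div_pos (Nat.le_of_dvd hm0 hpm) hp.pos).ne', hk,
              Nat.gcd_eq_right (Nat.div_dvd_of_dvd hpm), Nat.div_div_self hpm hm0.ne']
          have h2 := hallp _ h1
          rw [← QuotientGroup.eq_one_iff, QuotientGroup.mk_pow] at h2
          have h3 := orderOf_dvd_of_pow_eq_one h2
          rw [← hm] at h3
          exact absurd (Nat.le_of_dvd (Nat.div_pos (Nat.le_of_dvd hm0 hpm) hp.pos) h3)
            (not_le.mpr (Nat.div_lt_self hm0 hp.one_lt))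
        · rw [hk, e]
      · -- a lift of the same order
        rcases (Nat.one_le_iff_ne_zero.mpr hm0.ne').eq_or_lt' with e | hm1
        · exact ⟨1, by rw [QuotientGroup.mk_one, (orderOf_eq_one_iff.mp (hm ▸ e : orderOf (x : G ⧸ N) = 1))],
            by rw [orderOf_one, e]⟩
        obtain ⟨j, -, hj⟩ := Nat.exists_mul_mod_eq_one_of_coprime ((hp.coprime_iff_not_dvd.mpr hpm)) hm1
        have hxj : ((x ^ (p * j) : G) : G ⧸ N) = (x : G ⧸ N) := by
          rw [QuotientGroup.mk_pow, ← pow_mod_orderOf, ← hm, hj, pow_one]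
        refine ⟨x ^ (p * j), hxj, ?_⟩
        refine Nat.dvd_antisymm (orderOf_dvd_of_pow_eq_one ?_) (orderOf_dvd_of_pow_eq_one ?_)
        · rw [← pow_mul, show p * j * m = m * p * j by ring, pow_mul, pow_mul, hpow _ hxm, one_pow]
        · rw [← hxj, ← QuotientGroup.mk_pow, pow_orderOf_eq_one, QuotientGroup.mk_one]
  intro q r hqr
  obtain ⟨x, rfl, hx⟩ := lift q
  obtain ⟨y, rfl, hy⟩ := lift r
  rw [hqr, ← hy] at hx
  exact (QuotientGroup.mk' N).map_isConj (h x y hx)

theorem case_two {G : Type u} [Group G] [Finite G] (h : EqConj G) (N : Subgroup G) (hN : N.Normal)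
    (hab : IsMulCommutative N) (p : ℕ) (hp : p.Prime) (hpow : ∀ x ∈ N, x ^ p = 1)
    (hallp : ∀ x : G, orderOf x = p → x ∈ N) (hm : Nat.card (G ⧸ N) = 6) (hc : Nat.card N = 2)
    (hq : ∀ P : Subgroup G, P.Normal → N ≤ P → N.relIndex P = 2 → False) : False := by
  classical
  have : Fact (Nat.Prime 2) := ⟨Nat.prime_two⟩
  obtain ⟨z, hz⟩ := exists_prime_orderOf_dvd_card' (G := N) 2 (by rw [hc])
  have hp2 : p = 2 := ((Nat.prime_dvd_prime_iff_eq Nat.prime_two hp).mp (by
    rw [← hz, ← Subgroup.orderOf_coe]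
    exact orderOf_dvd_of_pow_eq_one (hpow _ z.2))).symm
  subst hp2
  have hG : Nat.card G = 12 := by rw [Subgroup.card_eq_card_quotient_mul_card_subgroup N, hm, hc]
  obtain ⟨P⟩ : Nonempty (Sylow 2 G) := inferInstance
  have hP : Nat.card P = 4 := by
    rw [P.card_eq_multiplicity, hG, show (12 : ℕ) = 2 ^ 2 * 3 by norm_num,
      Nat.factorization_mul (by norm_num) (by norm_num), Nat.prime_two.factorization_pow,
      Nat.prime_three.factorization]
    simp
  have hNp : IsPGroup 2 N := IsPGroup.of_card (n := 1) (by rw [hc, pow_one])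
  have hNP : N ≤ P := by
    obtain ⟨Q, hQ⟩ := hNp.exists_le_sylow
    obtain ⟨c, rfl⟩ := MulAction.exists_smul_eq G Q P
    intro y hy
    rw [Sylow.coe_subgroup_smul, Subgroup.mem_pointwise_smul_iff_inv_smul_mem]
    exact hQ (by
      have := hN.conj_mem y hy c⁻¹
      simpa [MulAut.conj_inv_apply] using this)
  -- an element of order four
  obtain ⟨x, hxP, hxN⟩ := SetLike.not_le_iff_exists.mp (fun hle : (P : Subgroup G) ≤ N => by
    have := Subgroup.card_le_of_le hle
    rw [hc] at this
    exact absurd (hP ▸ this : 4 ≤ 2) (by norm_num))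
  have hx4 : orderOf x = 4 := by
    have hd : orderOf x ∣ 2 ^ 2 := by
      rw [show (2 : ℕ) ^ 2 = 4 by norm_num, ← hP, ← Subgroup.orderOf_mk x hxP]
      exact orderOf_dvd_natCard _
    obtain ⟨i, hi, hi'⟩ := (Nat.dvd_prime_pow Nat.prime_two).mp hd
    interval_cases i
    · exact absurd (orderOf_eq_one_iff.mp (by simpa using hi') ▸ N.one_mem) hxN
    · exact absurd (hallp x (by simpa using hi')) hxN
    · simpa using hi'
  have hPz : zpowers x = (P : Subgroup G) :=
    Subgroup.eq_of_le_of_card_ge (Subgroup.zpowers_le.mpr hxP) (by rw [Nat.card_zpowers, hx4, hP])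
  obtain ⟨g, hg⟩ := conjugator h (x := x) (k := 3) (by rw [hx4]; norm_num)
  have hgn : g ∈ normalizer ((P : Subgroup G) : Set G) := by
    rw [Subgroup.mem_normalizer_iff_map_conj_eq]
    rw [← hPz, MonoidHom.map_zpowers]
    show zpowers (g * x * g⁻¹) = zpowers x
    rw [hg]
    refine Subgroup.eq_of_le_of_card_ge (Subgroup.zpowers_le.mpr (Subgroup.pow_mem _ (mem_zpowers x) 3)) ?_
    rw [Nat.card_zpowers, Nat.card_zpowers, Nat.Coprime.orderOf_pow (by rw [hx4]; norm_num)]
  set M := normalizer ((P : Subgroup G) : Set G) with hM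
  have hPM : (P : Subgroup G) ≤ M := Subgroup.le_normalizer
  have hMc : Nat.card M = 4 ∨ Nat.card M = 12 := by
    have h1 := Subgroup.card_dvd_of_le hPM
    have h2 := Subgroup.card_subgroup_dvd_card M
    rw [hG] at h2
    have h1' : 4 ∣ Nat.card M := hP ▸ h1
    obtain ⟨k, hk⟩ := h1'
    have h3 := Nat.le_of_dvd (by norm_num) h2
    have hk3 : k ≤ 3 := by omega
    rw [hk] at h2 ⊢
    interval_cases k <;> omega
  rcases hMc with e | e
  · have hMP : (P : Subgroup G) = M := Subgroup.eq_of_le_of_card_ge hPM (by rw [e, hP])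
    have hgP : g ∈ zpowers x := by rw [hPz, hMP]; exact hgn
    obtain ⟨n, hn⟩ := hgP
    have hcm : g * x = x * g := by rw [← hn]; exact (Commute.refl x).zpow_left n
    rw [hcm, mul_inv_cancel_right] at hg
    have h2 : orderOf x ∣ 2 := orderOf_dvd_of_pow_eq_one (mul_left_cancel (a := x) (by
      rw [mul_one, ← pow_succ']; exact hg.symm))
    rw [hx4] at h2; omega
  · have htop : M = ⊤ := Subgroup.eq_top_of_card_eq M (by rw [e, hG])
    refine hq P (Subgroup.normalizer_eq_top_iff.mp htop) hNP ?_
    have := Subgroup.relIndex_mul_relIndex (⊥ : Subgroup G) N P bot_le hNP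
    rw [Subgroup.relIndex_bot_left, Subgroup.relIndex_bot_left, hc] at this
    have hP' : Nat.card (P : Subgroup G) = 4 := hP
    omega

theorem case_three {G : Type u} [Group G] [Finite G] (h : EqConj G) (N : Subgroup G) (hN : N.Normal)
    (hab : IsMulCommutative N) (p : ℕ) (hp : p.Prime) (hpow : ∀ x ∈ N, x ^ p = 1)
    (hallp : ∀ x : G, orderOf x = p → x ∈ N) (hm : Nat.card (G ⧸ N) = 6) (hc : Nat.card N = 3) : False := by
  classical
  have : Fact (Nat.Prime 3) := ⟨Nat.prime_three⟩
  obtain ⟨z, hz⟩ := exists_prime_orderOf_dvd_card' (G := N) 3 (by rw [hc])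
  have hp3 : p = 3 := ((Nat.prime_dvd_prime_iff_eq Nat.prime_three hp).mp (by
    rw [← hz, ← Subgroup.orderOf_coe]
    exact orderOf_dvd_of_pow_eq_one (hpow _ z.2))).symm
  subst hp3
  have hG : Nat.card G = 18 := by rw [Subgroup.card_eq_card_quotient_mul_card_subgroup N, hm, hc]
  obtain ⟨P⟩ : Nonempty (Sylow 3 G) := inferInstance
  have hP : Nat.card P = 3 ^ 2 := by
    rw [P.card_eq_multiplicity, hG, show (18 : ℕ) = 3 ^ 2 * 2 by norm_num,
      Nat.factorization_mul (by norm_num) (by norm_num), Nat.prime_three.factorization_pow,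
      Nat.prime_two.factorization]
    simp
  obtain ⟨x, hxP, hxN⟩ := SetLike.not_le_iff_exists.mp (fun hle : (P : Subgroup G) ≤ N => by
    have := Subgroup.card_le_of_le hle
    rw [hc] at this
    exact absurd (hP ▸ this : 3 ^ 2 ≤ 3) (by norm_num))
  have hx9 : orderOf x = 9 := by
    have hd : orderOf x ∣ 3 ^ 2 := by
      rw [← hP, ← Subgroup.orderOf_mk x hxP]; exact orderOf_dvd_natCard _
    obtain ⟨i, hi, hi'⟩ := (Nat.dvd_prime_pow Nat.prime_three).mp hd
    interval_cases i
    · exact absurd (orderOf_eq_one_iff.mp (by simpa using hi') ▸ N.one_mem) hxN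
    · exact absurd (hallp x (by simpa using hi')) hxN
    · simpa using hi'
  have hPC : (P : Subgroup G) ≤ centralizer ({x} : Set G) := by
    intro y hy
    rw [Subgroup.mem_centralizer_singleton_iff]
    exact congrArg Subtype.val (IsPGroup.commutative_of_card_eq_prime_sq hP (⟨y, hy⟩ : P) ⟨x, hxP⟩)
  have h2 : (centralizer ({x} : Set G)).index ≤ 2 := by
    have h1 := Subgroup.index_dvd_of_le hPC
    have h3 := (P : Subgroup G).card_mul_index
    rw [show Nat.card (P : Subgroup G) = 9 from hP, hG] at h3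
    exact (Nat.le_of_dvd (by omega) h1).trans (by omega)
  rw [index_centralizer_eq, Nat.card_coe_set_eq] at h2
  have hsub : ({x, x ^ 2, x ^ 4} : Set G) ⊆ (ConjClasses.mk x).carrier := by
    intro y hy
    rw [ConjClasses.mem_carrier_iff_mk_eq, ConjClasses.mk_eq_mk_iff_isConj]
    refine h y x ?_
    rcases hy with rfl | rfl | rfl
    · rfl
    · exact Nat.Coprime.orderOf_pow (by rw [hx9]; norm_num)
    · exact Nat.Coprime.orderOf_pow (by rw [hx9]; norm_num)
  have hne : ∀ i j : ℕ, i < j → j < 9 → x ^ i ≠ x ^ j := fun i j hij hj e =>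
    hij.ne (pow_injOn_Iio_orderOf (by simp [hx9]; omega) (by simp [hx9]; omega) e)
  have h3 := Set.ncard_le_ncard hsub (Set.toFinite _)
  rw [Set.ncard_eq_three.mpr ⟨x, x ^ 2, x ^ 4, by simpa using hne 1 2 (by omega) (by omega),
    by simpa using hne 1 4 (by omega) (by omega), hne 2 4 (by omega) (by omega), rfl⟩] at h3
  omega

theorem case_seven {G : Type u} [Group G] [Finite G] (h : EqConj G) (N : Subgroup G) (hN : N.Normal)
    (hab : IsMulCommutative N) (p : ℕ) (hp : p.Prime) (hpow : ∀ x ∈ N, x ^ p = 1)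
    (hallp : ∀ x : G, orderOf x = p → x ∈ N) (hm : Nat.card (G ⧸ N) = 6) (hc : Nat.card N = 7)
    (hclass : ∀ a ∈ N, a ≠ 1 → (centralizer ({a} : Set G)).index + 1 = Nat.card N) : False := by
  classical
  have : Fact (Nat.Prime 7) := ⟨by norm_num⟩
  have : IsCyclic N := isCyclic_of_prime_card hc
  obtain ⟨a, ha⟩ := IsCyclic.exists_generator (α := N)
  have ha1 : (a : G) ≠ 1 := by
    intro e
    have : ∀ b : N, b = 1 := fun b => by
      have := ha b; rw [show a = 1 from Subtype.ext e, Subgroup.zpowers_one_eq_bot] at this; exact Subgroup.mem_bot.mp this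
    have hs : Subsingleton N := ⟨fun b c => by rw [this b, this c]⟩
    rw [Nat.card_unique] at hc; omega
  have hi := hclass a a.2 ha1
  have hle : N ≤ centralizer ({(a : G)} : Set G) := fun b hb => by
    rw [Subgroup.mem_centralizer_singleton_iff]
    exact congrArg Subtype.val (hab.is_comm.comm (⟨b, hb⟩ : N) a)
  have heq : centralizer ({(a : G)} : Set G) = N := by
    refine (Subgroup.eq_of_le_of_card_ge hle ?_).symm
    have h1 := (centralizer ({(a : G)} : Set G)).card_mul_index
    have h2 := N.card_mul_index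
    rw [Subgroup.index_eq_card, hm] at h2
    rw [hc] at hi h2 ⊢
    rw [show (centralizer ({(a : G)} : Set G)).index = 6 by omega] at h1
    omega
  have hexp : ∀ g : G, ∃ n : ℤ, g * (a : G) * g⁻¹ = (a : G) ^ n := fun g => by
    obtain ⟨n, hn⟩ := ha ⟨_, hN.conj_mem _ a.2 g⟩
    exact ⟨n, (congrArg Subtype.val hn).symm⟩
  have hcomm : ∀ x y : G ⧸ N, x * y = y * x := by
    intro x y
    induction x using QuotientGroup.induction_on with
    | H u =>
      induction y using QuotientGroup.induction_on with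
      | H v =>
        rw [← QuotientGroup.mk_mul, ← QuotientGroup.mk_mul, QuotientGroup.eq, ← heq,
          Subgroup.mem_centralizer_singleton_iff]
        obtain ⟨i, hi⟩ := hexp u
        obtain ⟨j, hj⟩ := hexp v
        have e1 : (u * v) * (a : G) * (u * v)⁻¹ = (v * u) * (a : G) * (v * u)⁻¹ := by
          calc (u * v) * (a : G) * (u * v)⁻¹ = MulAut.conj u (v * a * v⁻¹) := by
                simp only [MulAut.conj_apply]; group
            _ = ((a : G) ^ i) ^ j := by rw [hj, map_zpow, MulAut.conj_apply, hi]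
            _ = ((a : G) ^ j) ^ i := by rw [← zpow_mul, ← zpow_mul, mul_comm]
            _ = MulAut.conj v (u * a * u⁻¹) := by rw [hi, map_zpow, MulAut.conj_apply, hj]
            _ = _ := by simp only [MulAut.conj_apply]; group
        calc (u * v)⁻¹ * (v * u) * (a : G) = (u * v)⁻¹ * ((v * u) * (a : G) * (v * u)⁻¹) * (v * u) := by group
          _ = (u * v)⁻¹ * ((u * v) * (a : G) * (u * v)⁻¹) * (v * u) := by rw [e1]
          _ = _ := by group
  have h6 := abelian_bound (quot h N hN hab p hp hpow hallp) hcomm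
  rw [hm] at h6
  exact absurd h6 (by decide)

theorem case_four {G : Type u} [Group G] [Finite G] (h : EqConj G) (N : Subgroup G) (hN : N.Normal)
    (hab : IsMulCommutative N) (hNC : ∀ a ∈ N, N ≤ centralizer ({a} : Set G))
    (hclass : ∀ a ∈ N, a ≠ 1 → (centralizer ({a} : Set G)).index + 1 = Nat.card N)
    (p : ℕ) (hp : p.Prime) (hpow : ∀ x ∈ N, x ^ p = 1)
    (hallp : ∀ x : G, orderOf x = p → x ∈ N) (hm : Nat.card (G ⧸ N) = 6) (hc : Nat.card N = 4)
    (hq : ∀ P : Subgroup G, P.Normal → N ≤ P → N.relIndex P = 2 → False) : False := by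
  classical
  have : Fact (Nat.Prime 2) := ⟨Nat.prime_two⟩
  obtain ⟨z, hz⟩ := exists_prime_orderOf_dvd_card' (G := N) 2 (by rw [hc]; norm_num)
  have hp2 : p = 2 := ((Nat.prime_dvd_prime_iff_eq Nat.prime_two hp).mp (by
    rw [← hz, ← Subgroup.orderOf_coe]
    exact orderOf_dvd_of_pow_eq_one (hpow _ z.2))).symm
  subst hp2
  let C : G → Subgroup G := fun a => centralizer ({a} : Set G)
  have hG : Nat.card G = 24 := by rw [Subgroup.card_eq_card_quotient_mul_card_subgroup N, hm, hc]
  have hC : ∀ a ∈ N, a ≠ 1 → Nat.card (C a) = 8 := by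
    intro a ha h1
    have e := (C a).card_mul_index
    have e2 := hclass a ha h1
    rw [hc] at e2
    rw [hG, show (C a).index = 3 by show (centralizer ({a} : Set G)).index = 3; omega] at e
    omega
  have hrel : ∀ Q : Subgroup G, N ≤ Q → Nat.card Q = 8 → N.relIndex Q = 2 := by
    intro Q hNQ hQ
    have := Subgroup.relIndex_mul_relIndex (⊥ : Subgroup G) N Q bot_le hNQ
    rw [Subgroup.relIndex_bot_left, Subgroup.relIndex_bot_left, hc, hQ] at this
    omega
  -- different centralizers meet in `N`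
  have hmeet : ∀ a ∈ N, a ≠ 1 → ∀ b ∈ N, b ≠ 1 → a ≠ b → ∀ x, x ∈ C a → x ∈ C b → x ∈ N := by
    intro a ha ha1 b hb hb1 hne x hxa hxb
    by_contra hxN
    have hI : C a ⊓ C b = C a := by
      have hlt : N < C a ⊓ C b := lt_of_le_of_ne (le_inf (hNC a ha) (hNC b hb)) fun e => hxN (e ▸ ⟨hxa, hxb⟩)
      have h1 := Subgroup.card_dvd_of_le hlt.le
      have h2 := Subgroup.card_dvd_of_le (inf_le_left : C a ⊓ C b ≤ C a)
      have h3 : Nat.card N < Nat.card (C a ⊓ C b : Subgroup G) := by
        refine lt_of_le_of_ne (Subgroup.card_le_of_le hlt.le) fun e => hlt.ne ?_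
        exact Subgroup.eq_of_le_of_card_ge hlt.le e.ge
      rw [hC a ha ha1] at h2
      have h4 := Nat.le_of_dvd (by norm_num) h2
      refine Subgroup.eq_of_le_of_card_ge inf_le_left ?_
      rw [hC a ha ha1]
      rw [hc] at h1 h3
      obtain ⟨k, hk⟩ := h1
      omega
    have hab' : C a = C b := Subgroup.eq_of_le_of_card_ge (inf_eq_left.mp hI) (by rw [hC a ha ha1, hC b hb hb1])
    -- then the centralizer of `N` has index three
    have hCN : C a ≤ centralizer (N : Set G) := by
      intro y hy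
      rw [Subgroup.mem_centralizer_iff]
      have hya := Subgroup.mem_centralizer_singleton_iff.mp hy
      have hyb := Subgroup.mem_centralizer_singleton_iff.mp (hab' ▸ hy : y ∈ C b)
      have hK : N ≤ centralizer ({y} : Set G) ⊓ N := by
        have e : centralizer ({y} : Set G) ⊓ N = N := by
          refine Subgroup.eq_of_le_of_card_ge inf_le_right ?_
          have h1 : ({1, a, b} : Set G) ⊆ (centralizer ({y} : Set G) ⊓ N : Subgroup G) := by
            intro w hw
            rcases hw with rfl | rfl | rfl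
            · exact one_mem _
            · exact ⟨Subgroup.mem_centralizer_singleton_iff.mpr hya.symm, ha⟩
            · exact ⟨Subgroup.mem_centralizer_singleton_iff.mpr hyb.symm, hb⟩
          have h2 := Set.ncard_le_ncard h1 (Set.toFinite _)
          rw [Set.ncard_eq_three.mpr ⟨1, a, b, ha1.symm, hb1.symm, hne, rfl⟩, ← Nat.card_coe_set_eq] at h2
          have h3 := Subgroup.card_dvd_of_le (inf_le_right : centralizer ({y} : Set G) ⊓ N ≤ N)
          rw [hc] at h3 ⊢
          change 3 ≤ Nat.card ↥(centralizer ({y} : Set G) ⊓ N) at h2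
          obtain ⟨k, hk⟩ := h3
          rcases Nat.lt_or_ge k 2 with hk2 | hk2
          · interval_cases k <;> omega
          · nlinarith
        exact e.ge
      intro w hw
      exact (Subgroup.mem_centralizer_singleton_iff.mp (hK hw).1)
    have hCn : (centralizer (N : Set G)) = C a :=
      le_antisymm (fun y hy => Subgroup.mem_centralizer_singleton_iff.mpr
        ((Subgroup.mem_centralizer_iff.mp hy) a ha).symm) hCN
    exact hq (C a) (hCn ▸ inferInstance) (hNC a ha) (hrel _ (hNC a ha) (hC a ha ha1))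
  obtain ⟨a, ha, ha1⟩ := N.bot_or_exists_ne_one.resolve_left (fun e => by
    rw [e, Subgroup.card_bot] at hc; omega)
  obtain ⟨b, hb, hb1, hba⟩ : ∃ b ∈ N, b ≠ 1 ∧ b ≠ a := by
    by_contra hcon
    push Not at hcon
    have : (N : Set G) ⊆ {1, a} := fun b hb => by
      by_cases e : b = 1
      · exact Or.inl e
      · exact Or.inr (hcon b hb e)
    have := (Set.ncard_le_ncard this).trans (Set.ncard_insert_le _ _)
    rw [← Nat.card_coe_set_eq, Set.ncard_singleton] at this
    change Nat.card N ≤ _ at this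
    omega
  have hsq : ∀ y ∈ C a, y ∉ N → y * y = a := by
    intro y hy hyN
    have h2 : y * y ∈ N := by
      have := Subgroup.mul_self_mem_of_index_two (show (N.subgroupOf (C a)).index = 2 from
        hrel _ (hNC a ha) (hC a ha ha1)) ⟨y, hy⟩
      rwa [Subgroup.mem_subgroupOf] at this
    by_contra hne
    have h1 : y * y ≠ 1 := fun e => hyN (hallp y (orderOf_eq_prime (by rw [pow_two, e])
      (fun e1 => hyN (e1 ▸ N.one_mem))))
    exact hyN (hmeet _ h2 h1 a ha ha1 hne y
      (Subgroup.mem_centralizer_singleton_iff.mpr (mul_assoc y y y).symm) hy)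
  obtain ⟨x, hx, hxN⟩ := SetLike.not_le_iff_exists.mp (fun hle : C a ≤ N => by
    have := Subgroup.card_le_of_le hle
    rw [hC a ha ha1, hc] at this; omega)
  have hxb : x * b ∈ C a := (C a).mul_mem hx (hNC a ha hb)
  have hxbN : x * b ∉ N := fun hh => hxN ((N.mul_mem_cancel_right hb).mp hh)
  have e1 := hsq x hx hxN
  have e2 := hsq (x * b) hxb hxbN
  have hbx : b * x * b = x := mul_left_cancel (a := x) (by rw [e1, ← e2]; group)
  have hb2 : b * b = 1 := by rw [← pow_two]; exact hpow b hb
  refine hxN (hmeet b hb hb1 a ha ha1 hba x ?_ hx)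
  rw [Subgroup.mem_centralizer_singleton_iff]
  calc x * b = b * x * b * b := by rw [hbx]
    _ = b * x := by rw [mul_assoc (b * x), hb2, mul_one]

theorem core {G : Type u} [Group G] [Finite G] [Group.IsSolvable G] (h : EqConj G) :
    ∀ N : Subgroup G, N.Normal → N ≠ ⊥ → IsMulCommutative N → ∀ p : ℕ, p.Prime → (∀ x ∈ N, x ^ p = 1) →
    (Nat.card (G ⧸ N) = 1 ∨ Nat.card (G ⧸ N) = 2 ∨ Nat.card (G ⧸ N) = 6) →
    Nat.card G = 2 ∨ Nat.card G = 6 := by
  classical
  intro N hN hN0 hab p hp hpow hm
  have : Nontrivial N := (Subgroup.nontrivial_iff_ne_bot N).mpr hN0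
  obtain ⟨a₀, ha₀N, ha₀⟩ := N.bot_or_exists_ne_one.resolve_left hN0
  have hord : ∀ a ∈ N, a ≠ 1 → orderOf a = p := fun a ha h1 =>
    have := Fact.mk hp; orderOf_eq_prime (hpow a ha) h1
  have hallp : ∀ x : G, orderOf x = p → x ∈ N := by
    intro x hx
    obtain ⟨c, hc⟩ := isConj_iff.mp (h a₀ x (by rw [hord a₀ ha₀N ha₀, hx]))
    rw [← hc]; exact hN.conj_mem a₀ ha₀N c
  have hNC : ∀ a ∈ N, N ≤ centralizer ({a} : Set G) := by
    intro a ha b hb
    rw [Subgroup.mem_centralizer_singleton_iff]
    exact congrArg Subtype.val (hab.is_comm.comm (⟨b, hb⟩ : N) ⟨a, ha⟩)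
  have hclass : ∀ a ∈ N, a ≠ 1 → (centralizer ({a} : Set G)).index + 1 = Nat.card N := by
    intro a ha h1
    rw [index_centralizer_eq, Nat.card_coe_set_eq]
    have : (ConjClasses.mk a).carrier = (N : Set G) \ {1} := by
      ext b
      rw [ConjClasses.mem_carrier_iff_mk_eq, ConjClasses.mk_eq_mk_iff_isConj, Set.mem_sdiff, SetLike.mem_coe,
        Set.mem_singleton_iff]
      constructor
      · intro hb
        obtain ⟨c, hc⟩ := isConj_iff.mp hb.symm
        refine ⟨hc ▸ hN.conj_mem a ha c, fun e => h1 ?_⟩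
        rw [← conj_eq_one_iff (a := c), hc, e]
      · rintro ⟨hb, hb1⟩
        exact h b a (by rw [hord b hb hb1, hord a ha h1])
    rw [this, Set.ncard_sdiff_singleton_of_mem N.one_mem, ← Nat.card_coe_set_eq]
    have := Finite.one_lt_card (α := N)
    show Nat.card N - 1 + 1 = Nat.card N
    omega
  have hdvd : Nat.card N - 1 ∣ Nat.card (G ⧸ N) := by
    have h1 := Subgroup.index_dvd_of_le (hNC a₀ ha₀N)
    rw [← hclass a₀ ha₀N ha₀, Nat.add_sub_cancel]
    exact h1
  have hN2 : 2 ≤ Nat.card N := Finite.one_lt_card (α := N)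
  have hGc : Nat.card G = Nat.card (G ⧸ N) * Nat.card N := Subgroup.card_eq_card_quotient_mul_card_subgroup N
  rcases hm with hm | hm | hm <;> rw [hm] at hdvd hGc
  · left
    have := Nat.le_of_dvd Nat.one_pos hdvd
    omega
  · have := Nat.le_of_dvd Nat.two_pos hdvd
    obtain e | e : Nat.card N = 2 ∨ Nat.card N = 3 := by omega
    · exfalso
      have : Fact (Nat.Prime 2) := ⟨Nat.prime_two⟩
      have h4 : Nat.card G = 2 ^ 2 := by omega
      have h5 := abelian_bound h (IsPGroup.commutative_of_card_eq_prime_sq h4)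
      rw [h4] at h5
      exact absurd h5 (by decide)
    · right; omega
  -- quotient of order six
  have hq : EqConj G → ∀ P : Subgroup G, P.Normal → N ≤ P → N.relIndex P = 2 → False := by
    intro _ P hP hNP hrel
    obtain ⟨x, hxP, hxN⟩ : ∃ x ∈ P, x ∉ N := by
      refine SetLike.not_le_iff_exists.mp fun hle => ?_
      rw [Subgroup.relIndex_eq_one.mpr hle] at hrel; omega
    have key : ∀ z ∈ P, z ∉ N → z⁻¹ * x ∈ N := fun z hz hzN => by
      have h2 := Subgroup.index_eq_two_iff.mp (show (N.subgroupOf P).index = 2 from hrel)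
      obtain ⟨w, hw⟩ := h2
      have := Subgroup.mul_mem_iff_of_index_two (show (N.subgroupOf P).index = 2 from hrel)
        (a := (⟨z, hz⟩ : P)⁻¹) (b := ⟨x, hxP⟩)
      simp only [Subgroup.mem_subgroupOf, Subgroup.coe_mul, Subgroup.coe_inv] at this
      exact this.mpr (iff_of_false (fun hh => hzN (N.inv_mem_iff.mp hh)) hxN)
    have hQ : EqConj (G ⧸ N) → False := fun hQ => by
      refine hxN ((QuotientGroup.eq_one_iff x).mp ((order_six hQ hm).1 _ (fun g => ?_) ?_))
      · induction g using QuotientGroup.induction_on with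
        | H g =>
          have h1 : g * x * g⁻¹ ∈ P := hP.conj_mem x hxP g
          have h2 : g * x * g⁻¹ ∉ N := fun hh => hxN (by
            have := hN.conj_mem _ hh g⁻¹; simpa [mul_assoc] using this)
          have h3 : (QuotientGroup.mk (g * x * g⁻¹) : G ⧸ N) = QuotientGroup.mk x :=
            QuotientGroup.eq.mpr (key _ h1 h2)
          rw [QuotientGroup.mk_mul, QuotientGroup.mk_mul, QuotientGroup.mk_inv] at h3
          exact mul_inv_eq_iff_eq_mul.mp h3
      · rw [← QuotientGroup.mk_pow, QuotientGroup.eq_one_iff]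
        have := Subgroup.pow_index_mem (N.subgroupOf P) (⟨x, hxP⟩ : P)
        rw [show (N.subgroupOf P).index = 2 from hrel, Subgroup.mem_subgroupOf] at this
        exact this
    exact hQ (quot h N hN hab p hp hpow hallp)
  have h6 := Nat.le_of_dvd (by norm_num) hdvd
  obtain ⟨d, hd⟩ := hdvd
  obtain e | e | e | e : Nat.card N = 2 ∨ Nat.card N = 3 ∨ Nat.card N = 4 ∨ Nat.card N = 7 := by
    interval_cases hh : Nat.card N - 1 <;> omega
  · exfalso
    exact case_two h N hN hab p hp hpow hallp hm e (hq h)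
  · exfalso
    exact case_three h N hN hab p hp hpow hallp hm e
  · exfalso
    exact case_four h N hN hab hNC hclass p hp hpow hallp hm e (hq h)
  · exfalso
    exact case_seven h N hN hab p hp hpow hallp hm e hclass

/-- A finite solvable group in which any two elements of the same order are conjugate has order 1 or 2 or is isomorphic to the symmetric group of degree 3. -/
theorem result {G : Type*} [Group G] [Finite G] [Group.IsSolvable G]
    (h : ∀ x y : G, orderOf x = orderOf y → IsConj x y) :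
    Nat.card G = 1 ∨ Nat.card G = 2 ∨ Nonempty (G ≃* Equiv.Perm (Fin 3)) := by
  classical
  suffices key : ∀ (n : ℕ) (G : Type _) [Group G] [Finite G], Nat.card G = n → Group.IsSolvable G → EqConj G →
      Nat.card G = 1 ∨ Nat.card G = 2 ∨ Nat.card G = 6 by
    rcases key _ G rfl inferInstance h with e | e | e
    · exact Or.inl e
    · exact Or.inr (Or.inl e)
    · exact Or.inr (Or.inr (order_six h e).2)
  intro n
  induction n using Nat.strong_induction_on with
  | _ n ih =>
    intro G _ _ hn hs hh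
    by_cases h1 : Nat.card G = 1
    · exact Or.inl h1
    have : Nontrivial G := Finite.one_lt_card_iff_nontrivial.mp (by have := Nat.card_pos (α := G); omega)
    obtain ⟨N, hN, -, hN0, hmin⟩ := CfsgLib.exists_minimal_normal (N := (⊤ : Subgroup G)) top_ne_bot
    obtain ⟨hab, p, hp, hpow⟩ := CfsgLib.minimal_normal_elementary hN0 inferInstance hmin
    obtain ⟨a, haN, ha⟩ := N.bot_or_exists_ne_one.resolve_left hN0
    have := Fact.mk hp
    have hall : ∀ x : G, orderOf x = p → x ∈ N := by
      intro x hx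
      obtain ⟨c, hc⟩ := isConj_iff.mp (hh a x (by rw [hx, orderOf_eq_prime (hpow a haN) ha]))
      rw [← hc]; exact hN.conj_mem a haN c
    have hlt : Nat.card (G ⧸ N) < n := by
      rw [← hn, Subgroup.card_eq_card_quotient_mul_card_subgroup N]
      have : Nontrivial N := (Subgroup.nontrivial_iff_ne_bot N).mpr hN0
      exact lt_mul_of_one_lt_right Nat.card_pos Finite.one_lt_card
    exact Or.inr (core hh N hN hN0 hab p hp hpow
      (ih _ hlt (G ⧸ N) rfl inferInstance (quot hh N hN hab p hp hpow hall)))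

end Cfsg.Agent.S4062
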