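import Cfsg.Statements.S4073
import Cfsg.Agent.Lib.SelfNormNA.Forward
import Cfsg.Agent.Lib.SelfNormNA.Conv
import Cfsg.Agent.Lib.SLCard
import Mathlib

set_option autoImplicit false
set_option linter.style.haveILetI false
open Cfsg

namespace Cfsg.Agent.S4073

open CfsgLib.SelfNormNA Matrix

/-- Conjugate powers of an element of odd order of `SL(2, F)` in characteristic two. -/
theorem real {F : Type*} [Field F] [Fintype F] [CharP F 2] (z h : Matrix.SpecialLinearGroup (Fin 2) F)
    (hz : Odd (orderOf z)) (hm : h * z * h⁻¹ ∈ Subgroup.zpowers z) : h * z * h⁻¹ = z ∨ h * z * h⁻¹ = z⁻¹ := by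
  set w := h * z * h⁻¹ with hw
  have htr : w.1.trace = z.1.trace := by
    rw [hw, Matrix.SpecialLinearGroup.coe_mul, Matrix.SpecialLinearGroup.coe_mul, Matrix.trace_mul_cycle,
      ← Matrix.SpecialLinearGroup.coe_mul, inv_mul_cancel, Matrix.SpecialLinearGroup.coe_one, Matrix.one_mul]
  have hcomm : z * w = w * z := by
    obtain ⟨k, hk⟩ := hm
    have hk' : z ^ k = w := hk
    rw [← hk']
    exact ((Commute.refl z).zpow_right k).eq
  have h2 : (2 : F) = 0 := CharTwo.two_eq_zero
  -- an element of trace zero among the powers is trivial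
  have key : ∀ v ∈ Subgroup.zpowers z, v.1.trace = 0 → v = 1 := by
    intro v hv htv
    have hdet := v.2
    rw [Matrix.det_fin_two] at hdet
    rw [Matrix.trace_fin_two] at htv
    have hsq : v * v = 1 := by
      apply Subtype.ext
      rw [Matrix.SpecialLinearGroup.coe_mul, Matrix.SpecialLinearGroup.coe_one]
      ext i j
      fin_cases i <;> fin_cases j <;> simp [Matrix.mul_apply, Fin.sum_univ_two]
      · linear_combination v.1 0 0 * htv - hdet - h2
      · linear_combination v.1 0 1 * htv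
      · linear_combination v.1 1 0 * htv
      · linear_combination v.1 1 1 * htv - hdet - h2
    have hodd : Odd (orderOf v) := hz.of_dvd_nat (orderOf_dvd_of_mem_zpowers hv)
    by_contra hv1
    rw [CfsgLib.Involutions.orderOf_eq_two_iff'.mpr ⟨hsq, hv1⟩] at hodd
    exact absurd hodd (by decide)
  have hzw : z.1 * w.1 = w.1 * z.1 := congrArg Subtype.val hcomm
  have hza : z.1 * z.1.adjugate = 1 := by rw [Matrix.mul_adjugate, z.2, one_smul]
  have hprod : (w.1 - z.1) * (w.1 - z.1.adjugate) = 0 := by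
    have h3 : w.1 * w.1 = w.1.trace • w.1 - 1 := by
      have hdet := w.2
      rw [Matrix.det_fin_two] at hdet
      rw [Matrix.trace_fin_two]
      ext i j
      fin_cases i <;> fin_cases j <;> simp [Matrix.mul_apply, Fin.sum_univ_two]
      · linear_combination -hdet
      · ring
      · ring
      · linear_combination -hdet
    have h4 : z.1.adjugate + z.1 = z.1.trace • (1 : Matrix (Fin 2) (Fin 2) F) := by
      rw [Matrix.trace_fin_two, Matrix.adjugate_fin_two]
      ext i j
      fin_cases i <;> fin_cases j <;> simp [add_comm]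
    calc (w.1 - z.1) * (w.1 - z.1.adjugate)
        = w.1 * w.1 - (w.1 * z.1.adjugate + z.1 * w.1) + z.1 * z.1.adjugate := by noncomm_ring
      _ = w.1 * w.1 - w.1 * (z.1.adjugate + z.1) + 1 := by rw [hza, hzw, mul_add]
      _ = 0 := by rw [h3, h4, htr, Matrix.mul_smul, mul_one]; abel
  have hdet0 := congrArg Matrix.det hprod
  rw [Matrix.det_mul, Matrix.det_zero] at hdet0
  have hw2 := w.2
  have hz2 := z.2
  rw [Matrix.det_fin_two] at hw2 hz2
  rcases mul_eq_zero.mp hdet0 with e | e
  · left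
    refine (inv_mul_eq_one.mp (key (z⁻¹ * w) (mul_mem (inv_mem (Subgroup.mem_zpowers z)) hm) ?_)).symm
    rw [Matrix.det_fin_two] at e
    rw [Matrix.SpecialLinearGroup.coe_mul, Matrix.SpecialLinearGroup.coe_inv, Matrix.adjugate_fin_two,
      Matrix.trace_fin_two]
    simp [Matrix.mul_apply, Fin.sum_univ_two, Matrix.sub_apply] at e ⊢
    linear_combination hw2 + hz2 - e + h2
  · right
    refine mul_eq_one_iff_eq_inv.mp (key (w * z) (mul_mem hm (Subgroup.mem_zpowers z)) ?_)
    rw [Matrix.det_fin_two, Matrix.adjugate_fin_two] at e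
    rw [Matrix.SpecialLinearGroup.coe_mul, Matrix.trace_fin_two]
    simp [Matrix.mul_apply, Fin.sum_univ_two, Matrix.sub_apply] at e ⊢
    linear_combination hw2 + hz2 - e + h2

/-- A ring isomorphism induces one of the special linear groups. -/
def slEquiv {K L : Type*} [Field K] [Field L] (e : K ≃+* L) :
    Matrix.SpecialLinearGroup (Fin 2) K ≃* Matrix.SpecialLinearGroup (Fin 2) L where
  toFun := Matrix.SpecialLinearGroup.map e.toRingHom
  invFun := Matrix.SpecialLinearGroup.map e.symm.toRingHom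
  left_inv g := Subtype.ext (by ext i j; exact e.symm_apply_apply _)
  right_inv g := Subtype.ext (by ext i j; exact e.apply_symm_apply _)
  map_mul' := map_mul _

theorem prime_card_sub_one {G : Type*} [Group G] [Finite G] {T : Sylow 2 G} (h : CfsgLib.CAGroup.Hyp T)
    (hP : Prop' G) : (Nat.card T - 1).Prime := by
  obtain ⟨u, hu, huH⟩ := CfsgLib.CAGroup.exists_u h
  obtain ⟨s, hs, hso⟩ := CfsgLib.CAGroup.exists_inv_mem h
  have h4 := CfsgLib.CAGroup.card_T h
  have hD := CfsgLib.CAGroup.card_D h hu huH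
  have hcardN := CfsgLib.CAGroup.card_H h
  set D := CfsgLib.CAGroup.Dn T u with hDdef
  set N := Subgroup.normalizer ((T : Subgroup G) : Set G) with hNdef
  refine Nat.prime_def.mpr ⟨by omega, fun r hr => ?_⟩
  by_contra hne
  push Not at hne
  obtain ⟨q, hq, hqr⟩ := Nat.exists_prime_and_dvd hne.1
  haveI : Fact q.Prime := ⟨hq⟩
  obtain ⟨⟨d, hd⟩, hdo⟩ := exists_prime_orderOf_dvd_card' (G := D) q
    (by rw [show Nat.card D = Nat.card T - 1 by omega]; exact hqr.trans hr)
  rw [Subgroup.orderOf_mk] at hdo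
  have hd1 : d ≠ 1 := fun e => hq.ne_one (by rw [← hdo, e, orderOf_one])
  set K := (T : Subgroup G) ⊔ Subgroup.zpowers d with hK
  have hTN : (T : Subgroup G) ≤ N := Subgroup.le_normalizer
  have hdN : d ∈ N := hd.1
  have hKN : K ≤ N := sup_le hTN (Subgroup.zpowers_le.mpr hdN)
  have hKab : ¬ IsMulCommutative K := fun hc => hd1
    (CfsgLib.CAGroup.eq_one_of_odd h hso ((isMulCommutative_iff.mp hc d
      (Subgroup.mem_sup_right (Subgroup.mem_zpowers d)) s (Subgroup.mem_sup_left hs)))
      (CfsgLib.CAGroup.D_orderOf_odd h huH hd))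
  have hNK : N ≤ Subgroup.normalizer (K : Set G) := by
    have hgen : ∀ g ∈ N, ∀ c ∈ K, g * c * g⁻¹ ∈ K := by
      intro g hg c hc
      have hm : (Subgroup.closure ((T : Subgroup G) ∪ {d} : Set G)) = K := by
        rw [Subgroup.closure_union, Subgroup.closure_eq, hK, Subgroup.zpowers_eq_closure]
      rw [← hm] at hc
      induction hc using Subgroup.closure_induction with
      | mem x hx =>
        rcases hx with hx | hx
        · exact Subgroup.mem_sup_left ((Subgroup.mem_normalizer_iff.mp hg x).mp hx)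
        · rw [Set.mem_singleton_iff.mp hx]
          obtain ⟨e, he, t, ht, rfl⟩ := CfsgLib.CAGroup.decomp h hu huH hg
          rw [show e * t * d * (e * t)⁻¹ = e * (t * (d * t⁻¹ * d⁻¹)) * e⁻¹ * (e * d * e⁻¹) by group,
            CfsgLib.CAGroup.D_comm h hu huH he hd, mul_inv_cancel_right]
          refine mul_mem (Subgroup.mem_sup_left ?_) (Subgroup.mem_sup_right (Subgroup.mem_zpowers d))
          exact (Subgroup.mem_normalizer_iff.mp he.1 _).mp ((T : Subgroup G).mul_mem ht
            ((Subgroup.mem_normalizer_iff.mp hdN _).mp ((T : Subgroup G).inv_mem ht)))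
      | one => simp
      | mul x y _ _ hx hy =>
        rw [show g * (x * y) * g⁻¹ = g * x * g⁻¹ * (g * y * g⁻¹) by group]
        exact mul_mem hx hy
      | inv x _ hx =>
        rw [show g * x⁻¹ * g⁻¹ = (g * x * g⁻¹)⁻¹ by group]
        exact inv_mem hx
    intro g hg
    refine Subgroup.mem_normalizer_iff.mpr fun c => ⟨hgen g hg c, fun hc => ?_⟩
    have := hgen g⁻¹ (inv_mem hg) _ hc
    rwa [show g⁻¹ * (g * c * g⁻¹) * g⁻¹⁻¹ = c by group] at this
  have hKeq : K = N := le_antisymm hKN (by rwa [hP K hKab] at hNK)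
  -- the order of `K` is small
  have hKcard : Nat.card K ≤ Nat.card T * q := by
    have hn : Subgroup.zpowers d ≤ Subgroup.normalizer ((T : Subgroup G) : Set G) := Subgroup.zpowers_le.mpr hdN
    have hsurj : ∀ c ∈ K, ∃ a ∈ (T : Subgroup G), ∃ b ∈ Subgroup.zpowers d, a * b = c := fun c hc => by
      rw [hK, ← SetLike.mem_coe, Subgroup.coe_mul_of_right_le_normalizer_left _ _ hn] at hc
      exact hc
    rw [← hdo, ← Nat.card_zpowers, ← Nat.card_prod]
    refine Nat.card_le_card_of_surjective (fun p : ↥(T : Subgroup G) × ↥(Subgroup.zpowers d) =>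
      (⟨(p.1 : G) * p.2, mul_mem (Subgroup.mem_sup_left p.1.2) (Subgroup.mem_sup_right p.2.2)⟩ : K)) ?_
    rintro ⟨c, hc⟩
    obtain ⟨a, ha, b, hb, rfl⟩ := hsurj c hc
    exact ⟨(⟨a, ha⟩, ⟨b, hb⟩), rfl⟩
  rw [hKeq, hcardN] at hKcard
  have h5 := Nat.le_of_mul_le_mul_left hKcard (by omega)
  have h6 : r ≤ Nat.card T - 1 := Nat.le_of_dvd (by omega) hr
  have h7 : q ≤ r := Nat.le_of_dvd (Nat.pos_of_dvd_of_pos hr (by omega)) hqr
  omega

/-- Let G be a finite non-abelian simple group. Every non-abelian subgroup of G is self-normalizing if and only if G is isomorphic to PSL₂(2ⁿ) for some n ≥ 2 with 2ⁿ − 1 prime (this includes the alternating group of degree 5 as PSL₂(4)). -/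
theorem result {G : Type*} [Group G] [Finite G] [IsSimpleGroup G]
    (hna : ¬ IsMulCommutative G) :
    (∀ H : Subgroup G, ¬ IsMulCommutative H → Subgroup.normalizer (H : Set G) = H) ↔
    ∃ n : ℕ, 2 ≤ n ∧ (2 ^ n - 1).Prime ∧ Nonempty (G ≃* Matrix.ProjectiveSpecialLinearGroup (Fin 2) (GaloisField 2 n)) := by
  haveI : Fact (Nat.Prime 2) := ⟨Nat.prime_two⟩
  constructor
  · intro hP
    have hns : ¬ Group.IsSolvable G := fun h => hna ⟨⟨IsSimpleGroup.comm_iff_isSolvable.mpr h⟩⟩
    obtain ⟨-, T, hT⟩ := main_aux (Nat.card G) G rfl hP hns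
    obtain ⟨F, iF, iFt, iC, hF, ⟨e⟩⟩ := exists_sl2 hT
    obtain ⟨n, hn⟩ := IsPGroup.iff_card.mp T.2
    have h4 := CfsgLib.CAGroup.card_T hT
    have hn2 : 2 ≤ n := by
      rw [hn] at h4
      exact (Nat.pow_le_pow_iff_right (by norm_num : 1 < 2)).mp (by simpa using h4)
    refine ⟨n, hn2, hn ▸ prime_card_sub_one hT hP, ?_⟩
    letI := Fintype.ofFinite (GaloisField 2 n)
    have hcard : Fintype.card F = Fintype.card (GaloisField 2 n) := by
      rw [hF, hn, ← Nat.card_eq_fintype_card, GaloisField.card 2 n (by omega)]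
    exact ⟨e.trans ((slEquiv (FiniteField.ringEquivOfCardEq hcard)).trans
      CfsgLib.PrimeGraphExt.pslEquiv.symm)⟩
  · rintro ⟨n, hn2, hprime, ⟨e⟩⟩
    letI := Fintype.ofFinite (GaloisField 2 n)
    let e' : G ≃* Matrix.SpecialLinearGroup (Fin 2) (GaloisField 2 n) := e.trans CfsgLib.PrimeGraphExt.pslEquiv
    refine converse hna (CfsgLib.CAEven.isCT_of_equiv e' CfsgLib.CAEven.isCT_psl) ?_ ?_ ?_
    · intro r hr hr2 R
      have hc := Cfsg.Agent.S0262.result (F := GaloisField 2 n) 2 r hr2 hr2 (R.mapSurjective (f := e'.toMonoidHom) e'.surjective)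
      exact ((R : Subgroup G).equivMapOfInjective e'.toMonoidHom e'.injective).isCyclic.mpr hc
    · intro z h hz hm
      have hm' : e' h * e' z * (e' h)⁻¹ ∈ Subgroup.zpowers (e' z) := by
        obtain ⟨k, hk⟩ := hm
        have hk' : z ^ k = h * z * h⁻¹ := hk
        exact ⟨k, by show e' z ^ k = _; rw [← map_zpow, hk', map_mul, map_mul, map_inv]⟩
      rcases real (e' z) (e' h) (by rwa [e'.orderOf_eq]) hm' with c | c
      · exact Or.inl (e'.injective (by rw [map_mul, map_mul, map_inv, c]))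
      · exact Or.inr (e'.injective (by rw [map_mul, map_mul, map_inv, c, map_inv]))
    · intro T hT
      obtain ⟨F, iF, iFt, iC, hF, ⟨f⟩⟩ := exists_sl2 hT
      have h1 := Nat.card_congr (f.symm.trans e').toEquiv
      rw [CfsgLib.SLCard.card_SL_two, CfsgLib.SLCard.card_SL_two, ← Nat.card_eq_fintype_card (α := GaloisField 2 n),
        GaloisField.card 2 n (by omega), hF] at h1
      have hmono : StrictMonoOn (fun q : ℕ => q * (q ^ 2 - 1)) {q | 1 ≤ q} := by
        intro a ha b hb hab
        have h2 : a ^ 2 < b ^ 2 := Nat.pow_lt_pow_left hab (by norm_num)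
        have h3 : 1 ≤ a ^ 2 := Nat.one_le_pow _ _ ha
        exact Nat.mul_lt_mul'' hab (by omega)
      have h4 := hmono.injOn (x₁ := Nat.card T) (x₂ := 2 ^ n)
        (show 1 ≤ Nat.card T from Nat.card_pos) (show 1 ≤ 2 ^ n from Nat.one_le_two_pow) h1
      rwa [h4]

end Cfsg.Agent.S4073
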