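import Cfsg.Statements.S4064
import Cfsg.Agent.Lib.CentTI.Basic
import Cfsg.Agent.Lib.CentTI.Zass
import Cfsg.Agent.S2202
import Cfsg.Agent.S0183
import Cfsg.Agent.S4073
import Mathlib

set_option autoImplicit false
open Cfsg

namespace Cfsg.Agent.S4064

open Subgroup CfsgLib.CentTI
open CfsgLib.Involutions (mul_self_eq_one_of_orderOf inv_eq_self_of_orderOf orderOf_conj orderOf_eq_two_iff')

universe u

/-- The case of trivial Fitting subgroup. -/
theorem simple_case {G : Type u} [Group G] [Finite G] [Nontrivial G] (hTI : AllTI G)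
    (hF : fittingSubgroup G = ⊥) :
    ∃ n : ℕ, 2 ≤ n ∧ Nonempty (G ≃* Matrix.ProjectiveSpecialLinearGroup (Fin 2) (GaloisField 2 n)) := by
  classical
  haveI : Fact (Nat.Prime 2) := ⟨Nat.prime_two⟩
  have hCN := isCN hTI
  have hns := not_solvable hF
  have hev : Even (Nat.card G) := by
    by_contra h
    exact hns (Cfsg.Agent.S0183.result (Nat.not_even_iff_odd.mp h) hCN)
  have hnormal : ∀ N : Subgroup G, N.Normal → Group.IsNilpotent N → N = ⊥ := fun N hN hn => by
    haveI := hN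
    exact le_bot_iff.mp (hF ▸ CfsgLib.le_fittingSubgroup hn)
  have hZ : center G = ⊥ := by
    refine hnormal _ inferInstance (@CommGroup.isNilpotent _ { (center G).toGroup with
      mul_comm := fun a b => Subtype.ext (mem_center_iff.mp b.2 a) })
  obtain ⟨T⟩ : Nonempty (Sylow 2 G) := inferInstance
  have hT1 : (T : Subgroup G) ≠ ⊥ := T.ne_bot_of_dvd_card hev.two_dvd
  have hTn : ¬ (T : Subgroup G).Normal := fun h => hT1 (hnormal _ h T.2.isNilpotent)
  haveI : Nontrivial ↥(T : Subgroup G) := (Subgroup.nontrivial_iff_ne_bot _).mpr hT1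
  haveI : Nontrivial ↥(center ↥(T : Subgroup G)) := T.2.center_nontrivial
  obtain ⟨w, hw⟩ := exists_prime_orderOf_dvd_card' (G := ↥(center ↥(T : Subgroup G))) 2 (by
    obtain ⟨k, hk⟩ := IsPGroup.iff_card.mp (T.2.to_subgroup (center ↥(T : Subgroup G)))
    rw [hk]
    refine dvd_pow_self 2 fun h0 => ?_
    rw [h0, pow_zero] at hk
    exact absurd hk Finite.one_lt_card.ne')
  obtain ⟨t, ht, hto, htc⟩ : ∃ t ∈ T, orderOf t = 2 ∧ ∀ x ∈ T, x * t = t * x :=
    ⟨_, (w : ↥(T : Subgroup G)).2, by rw [Subgroup.orderOf_coe, Subgroup.orderOf_coe, hw],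
      fun x hx => congrArg Subtype.val (mem_center_iff.mp w.2 ⟨x, hx⟩)⟩
  have ht1 : t ≠ 1 := fun e => by rw [e, orderOf_one] at hto; omega
  set C := centralizer ({t} : Set G) with hC
  set M := CfsgLib.CentTI.Nn T with hM
  have hTC : (T : Subgroup G) ≤ C := fun x hx => mem_centralizer_singleton_iff.mpr (htc x hx)
  haveI hCnil : Group.IsNilpotent C := hCN t ht1
  have hTC' : (((T.subtype hTC : Sylow 2 C) : Subgroup C)).Normal :=
    (Group.isNilpotent_of_finite_tfae (G := C)).out 0 3 rfl rfl |>.mp hCnil 2 inferInstance _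
  have huniq : ∀ x ∈ C, ∀ (k : ℕ), x ^ 2 ^ k = 1 → x ∈ T := by
    intro x hx k hk
    have hp : IsPGroup 2 ↥(zpowers (⟨x, hx⟩ : C)) := by
      obtain ⟨j, -, hj⟩ := (Nat.dvd_prime_pow Nat.prime_two).mp
        (orderOf_dvd_of_pow_eq_one (x := (⟨x, hx⟩ : C)) (Subtype.ext hk))
      exact IsPGroup.of_card (n := j) (by rw [Nat.card_zpowers, hj])
    obtain ⟨S, hS⟩ := hp.exists_le_sylow
    haveI := Sylow.unique_of_normal _ hTC'
    rw [Subsingleton.elim S (T.subtype hTC)] at hS
    exact hS (mem_zpowers _)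
  have hCM : C ≤ M := fun c hc => Subgroup.mem_normalizer_iff.mpr fun x => ⟨fun hx => by
      exact hTC'.conj_mem ⟨x, hTC hx⟩ hx ⟨c, hc⟩, fun hx => by
      have := hTC'.conj_mem ⟨c * x * c⁻¹, hTC hx⟩ hx ⟨c, hc⟩⁻¹
      have h' : c⁻¹ * (c * x * c⁻¹) * c⁻¹⁻¹ ∈ T := this
      rwa [show c⁻¹ * (c * x * c⁻¹) * c⁻¹⁻¹ = x by group] at h'⟩
  have hMC : M ≤ Subgroup.normalizer (C : Set G) := fun n hn =>
    mem_normalizer_of_conj hTI rfl ht1 (htc _ ((Subgroup.mem_normalizer_iff.mp hn t).mp ht))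
  have hCM' : ∀ g ∈ Subgroup.normalizer (C : Set G), g ∈ M := by
    intro g hg
    have hle : (T : Subgroup G).map (MulAut.conj g).toMonoidHom ≤ (T : Subgroup G) := by
      rintro _ ⟨x, hx, rfl⟩
      obtain ⟨k, hk⟩ := T.2 ⟨x, hx⟩
      refine huniq _ ((Subgroup.mem_normalizer_iff.mp hg x).mp (hTC hx)) k ?_
      show (g * x * g⁻¹) ^ 2 ^ k = 1
      rw [conj_pow, show x ^ 2 ^ k = 1 from congrArg Subtype.val hk]
      group
    have heq := Subgroup.eq_of_le_of_card_ge hle
      (by rw [Subgroup.card_map_of_injective (f := (MulAut.conj g).toMonoidHom) (MulAut.conj g).injective])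
    refine Subgroup.mem_normalizer_iff.mpr fun x => ⟨fun hx => hle ⟨x, hx, rfl⟩, fun hx => ?_⟩
    rw [← SetLike.mem_coe, ← heq] at hx
    obtain ⟨y, hy, e⟩ := hx
    exact (MulAut.conj g).injective e ▸ hy
  have key : ∀ {y g : G}, y ∈ C → y ≠ 1 → g * y * g⁻¹ ∈ C → g ∈ M := fun hy hy1 hgy =>
    hCM' _ (mem_normalizer_of_conj hTI (mem_centralizer_singleton_iff.mp hy) hy1
      (mem_centralizer_singleton_iff.mp hgy))
  have hMtop : M ≠ ⊤ := fun e => hTn (Subgroup.normalizer_eq_top_iff.mp e)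
  -- `T` contains two involutions
  obtain ⟨t', ht', ht'o, htt'⟩ : ∃ s ∈ T, orderOf s = 2 ∧ t ≠ s := by
    by_contra hcon
    push Not at hcon
    have hMeq : M = C := le_antisymm (fun n hn => mem_centralizer_singleton_iff.mpr (by
      have e := hcon _ ((Subgroup.mem_normalizer_iff.mp hn t).mp ht) (by rw [orderOf_conj, hto])
      exact (eq_mul_inv_iff_mul_eq.mp e).symm)) hCM
    have hFC : Cfsg.IsFrobeniusComplement C := by
      refine ⟨fun e => ht1 ?_, hMeq ▸ hMtop, fun g hg => ?_⟩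
      · rw [← Subgroup.mem_bot, ← e]
        exact hTC ht
      rw [Subgroup.eq_bot_iff_forall]
      rintro x ⟨hx, hx'⟩
      obtain ⟨y, hy, rfl⟩ := hx'
      by_contra h1
      have h1' : g * y * g⁻¹ ≠ 1 := h1
      refine hg (hMeq ▸ key hy (fun e => h1' (by rw [e]; group)) hx)
    obtain ⟨N, -, hNn, hNc, hNnil⟩ := CfsgLib.Frob.exists_nilpotent_kernel hFC
    rw [hnormal N hNn hNnil, Subgroup.isComplement'_bot_left] at hNc
    exact hMtop (hMeq.trans hNc)
  have hinv : ∀ {x : G}, x ∈ M → orderOf x = 2 → x ∈ T := fun hx ho => CfsgLib.CentTI.inv_mem_T hx ho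
  have hse : Cfsg.IsStronglyEmbedded M := by
    refine ⟨hMtop, even_iff_two_dvd.mpr (hto ▸ Subgroup.orderOf_dvd_natCard M (Subgroup.le_normalizer ht)),
      fun g hg => ?_⟩
    rw [← Nat.not_even_iff_odd]
    intro he
    obtain ⟨⟨a, ha⟩, hao⟩ := exists_prime_orderOf_dvd_card'
      (G := ↥(M ⊓ M.map (MulAut.conj g).toMonoidHom)) 2 he.two_dvd
    rw [Subgroup.orderOf_mk] at hao
    obtain ⟨ha1, b, hb, eab⟩ := ha
    have e : g * b * g⁻¹ = a := eab
    have hbo : orderOf b = 2 := by rw [← hao, ← e, orderOf_conj]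
    exact hg (key (hTC (hinv hb hbo)) (fun e' => by rw [e', orderOf_one] at hbo; omega)
      (e ▸ hTC (hinv ha1 hao)))
  obtain ⟨g₀, hg₀⟩ : ∃ g : G, g ∉ M := by
    by_contra h
    push Not at h
    exact hMtop ((Subgroup.eq_top_iff' _).mpr h)
  have hu : orderOf (g₀ * t * g₀⁻¹) = 2 := by rw [orderOf_conj, hto]
  have huM : g₀ * t * g₀⁻¹ ∉ M := fun h => hg₀ (key (hTC ht) ht1 (hTC (hinv h hu)))
  -- all involutions of `T` have the centraliser `C`
  have hcs : ∀ s ∈ T, orderOf s = 2 → ∀ x : G, x * s = s * x ↔ x ∈ C := by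
    intro s hs hso x
    obtain ⟨d, hd, e⟩ := CfsgLib.StrongEmb.exists_conj_in_inter hse hu huM (Subgroup.le_normalizer ht) hto
      (Subgroup.le_normalizer hs) hso
    rw [Subgroup.mem_normalizer_iff.mp (hMC (inv_mem hd.1)) x, hC, mem_centralizer_singleton_iff, ← e]
    constructor
    · intro h
      calc d⁻¹ * x * d⁻¹⁻¹ * t = d⁻¹ * (x * (d * t * d⁻¹)) * d := by group
        _ = d⁻¹ * (d * t * d⁻¹ * x) * d := by rw [h]
        _ = _ := by group
    · intro h
      calc x * (d * t * d⁻¹) = d * (d⁻¹ * x * d⁻¹⁻¹ * t) * d⁻¹ := by group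
        _ = d * (t * (d⁻¹ * x * d⁻¹⁻¹)) * d⁻¹ := by rw [h]
        _ = _ := by group
  have hAC : ∀ x, x ∈ CfsgLib.CentTI.Aa T ↔ x ∈ C := fun x => by
    rw [CfsgLib.CentTI.mem_A_iff]
    exact ⟨fun h => mem_centralizer_singleton_iff.mpr (h t ht hto).symm,
      fun h s hs hso => ((hcs s hs hso x).mpr h).symm⟩
  obtain ⟨hH, hcc⟩ : CfsgLib.CentTI.Hyp T ∧
      ∀ x ∈ CfsgLib.CentTI.Aa T, ∀ m ∈ CfsgLib.CentTI.Nn T, x * (m * x * m⁻¹) = m * x * m⁻¹ * x := by
    refine ⟨⟨⟨t, ht, t', ht', hto, ht'o, htt'⟩, fun x hx => (hAC x).mpr (hTC hx), fun x hx => hCM ((hAC x).mp hx),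
      fun s hs hso x hx => (hAC x).mpr ((hcs s hs hso x).mp hx), fun b hb hb1 x hx => ?_,
      fun b hb g hg hgb => ?_, hse⟩, fun x hx m hm => ?_⟩
    · refine key ((hAC b).mp hb) hb1 ?_
      rw [hx, mul_inv_cancel_right]
      exact (hAC b).mp hb
    · by_contra hb1
      refine hg ?_
      have := key (y := g⁻¹ * b * g) (g := g) ((hAC _).mp hgb)
        (fun e => hb1 (by rw [show b = g * (g⁻¹ * b * g) * g⁻¹ by group, e]; group))
        (by rw [show g * (g⁻¹ * b * g) * g⁻¹ = b by group]; exact (hAC b).mp hb)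
      exact this
    · have hxC := (hAC x).mp hx
      have hm' : m * t * m⁻¹ ∈ T := (Subgroup.mem_normalizer_iff.mp hm t).mp ht
      have h2 := (hcs _ hm' (by rw [orderOf_conj, hto]) x).mpr hxC
      have hn := mem_normalizer_of_conj hTI (x := x) (y := t) (g := m)
        (mem_centralizer_singleton_iff.mp hxC).symm ht1 h2.symm
      exact (mem_centralizer_singleton_iff.mp ((Subgroup.mem_normalizer_iff.mp hn x).mp
        (mem_centralizer_singleton_iff.mpr rfl))).symm
  -- all centralisers of involutions are abelian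
  have hab : ∀ s : G, orderOf s = 2 → IsMulCommutative ↥(centralizer ({s} : Set G)) := by
    intro s hso
    obtain ⟨g, hg⟩ := CfsgLib.CentTI.exists_conj_T hH hso
    have hgo : orderOf (g⁻¹ * s * g) = 2 := by
      have := orderOf_conj g⁻¹ s
      rwa [inv_inv, hso] at this
    have hmem : ∀ a : centralizer ({s} : Set G), g⁻¹ * (a : G) * g ∈ CfsgLib.CentTI.Aa T := fun a =>
      CfsgLib.CentTI.mem_A_of_commute hH hg hgo (by
        calc g⁻¹ * (a : G) * g * (g⁻¹ * s * g) = g⁻¹ * ((a : G) * s) * g := by group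
          _ = g⁻¹ * (s * (a : G)) * g := by rw [mem_centralizer_singleton_iff.mp a.2]
          _ = _ := by group)
    refine ⟨⟨fun a b => Subtype.ext ?_⟩⟩
    show (a : G) * b = b * a
    calc (a : G) * b = g * ((g⁻¹ * a * g) * (g⁻¹ * b * g)) * g⁻¹ := by group
      _ = g * ((g⁻¹ * b * g) * (g⁻¹ * a * g)) * g⁻¹ := by rw [CfsgLib.CentTI.comm hH hcc (hmem a) (hmem b)]
      _ = _ := by group
  have hnc : ¬ IsCyclic ↥(T : Subgroup G) := fun hc => by
    haveI := hc
    haveI := Fintype.ofFinite ↥(T : Subgroup G)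
    have h3 := IsCyclic.card_pow_eq_one_le (α := ↥(T : Subgroup G)) (n := 2) (by norm_num)
    have h4 : ({1, ⟨t, ht⟩, ⟨t', ht'⟩} : Finset ↥(T : Subgroup G)) ⊆
        Finset.univ.filter (fun a => a ^ 2 = 1) := by
      intro a ha
      simp only [Finset.mem_insert, Finset.mem_singleton] at ha
      rw [Finset.mem_filter]
      refine ⟨Finset.mem_univ _, ?_⟩
      rcases ha with rfl | rfl | rfl
      · exact one_pow 2
      · exact Subtype.ext (by show t ^ 2 = 1; rw [← hto, pow_orderOf_eq_one])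
      · exact Subtype.ext (by show t' ^ 2 = 1; rw [← ht'o, pow_orderOf_eq_one])
    have h5 := (Finset.card_le_card h4).trans h3
    rw [Finset.card_eq_three.mpr ⟨1, ⟨t, ht⟩, ⟨t', ht'⟩, fun e => ht1 (congrArg Subtype.val e).symm,
      fun e => by rw [← show (1 : G) = t' from congrArg Subtype.val e, orderOf_one] at ht'o; omega,
      fun e => htt' (congrArg Subtype.val e), rfl⟩] at h5
    omega
  rcases Cfsg.Agent.S2202.result hev hab with h | h | ⟨F, iF, iFt, A, iA, iAf, iC, -, ⟨e⟩⟩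
  · exact absurd (h T) hnc
  · exact absurd (h T) hTn
  have hA : ∀ a : A, a = 1 := by
    intro a
    have hm : e.symm (1, a) ∈ center G := mem_center_iff.mpr fun g => e.injective (by
      rw [map_mul, map_mul, e.apply_symm_apply]
      exact Prod.ext (by simp) (mul_comm _ _))
    rw [hZ, Subgroup.mem_bot, MulEquiv.symm_apply_eq, map_one] at hm
    exact congrArg Prod.snd hm
  haveI : Subsingleton A := ⟨fun a b => (hA a).trans (hA b).symm⟩
  letI : Unique A := uniqueOfSubsingleton 1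
  let eF : G ≃* Matrix.SpecialLinearGroup (Fin 2) F := e.trans MulEquiv.prodUnique
  obtain ⟨n, hn0, hn⟩ : ∃ n : ℕ, 0 < n ∧ Fintype.card F = 2 ^ n := by
    obtain ⟨n, hn, hn'⟩ := FiniteField.card F 2
    exact ⟨n, n.pos, hn'⟩
  have hn2 : 2 ≤ n := by
    by_contra hcon
    have hn1 : n = 1 := by omega
    have h6 : Nat.card G = 6 := by
      rw [Nat.card_congr eF.toEquiv, CfsgLib.SLCard.card_SL_two, hn, hn1]
      norm_num
    obtain ⟨k, hk⟩ := IsPGroup.iff_card.mp T.2
    have hd : 2 ^ k ∣ 6 := by rw [← hk, ← h6]; exact (T : Subgroup G).card_subgroup_dvd_card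
    have hk1 : k ≤ 1 := by
      by_contra hk1
      have := (pow_dvd_pow 2 (show 2 ≤ k by omega)).trans hd
      omega
    have h2 : Nat.card ↥(T : Subgroup G) ≤ 2 := by
      rw [hk]
      calc 2 ^ k ≤ 2 ^ 1 := Nat.pow_le_pow_right (by norm_num) hk1
        _ = 2 := by norm_num
    have := Fintype.ofFinite ↥(T : Subgroup G)
    rw [Nat.card_eq_fintype_card] at h2
    have h3 := Finset.card_le_univ ({1, ⟨t, ht⟩, ⟨t', ht'⟩} : Finset ↥(T : Subgroup G))
    rw [Finset.card_eq_three.mpr ⟨1, ⟨t, ht⟩, ⟨t', ht'⟩, fun e => ht1 (congrArg Subtype.val e).symm,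
      fun e => by rw [← show (1 : G) = t' from congrArg Subtype.val e, orderOf_one] at ht'o; omega,
      fun e => htt' (congrArg Subtype.val e), rfl⟩] at h3
    omega
  refine ⟨n, hn2, ?_⟩
  letI := Fintype.ofFinite (GaloisField 2 n)
  have hcard : Fintype.card F = Fintype.card (GaloisField 2 n) := by
    rw [hn, ← Nat.card_eq_fintype_card, GaloisField.card 2 n (by omega)]
  exact ⟨eF.trans ((Cfsg.Agent.S4073.slEquiv (FiniteField.ringEquivOfCardEq hcard)).trans
    CfsgLib.PrimeGraphExt.pslEquiv.symm)⟩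

/-- Let G be a finite group in which the centralizer of every element meets each of its conjugates by elements outside its normalizer trivially. Then G is nilpotent; or G is a Frobenius group with a complement that is cyclic or isomorphic to the direct product of a cyclic group of odd order and the quaternion group of order 8; or G is isomorphic to PSL₂(2ⁿ) for some n ≥ 2. -/
theorem result {G : Type*} [Group G] [Finite G] (hTI : ∀ x : G, Cfsg.IsTISubset (Subgroup.centralizer ({x} : Set G) : Set G)) :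
    Group.IsNilpotent G ∨
    (∃ H : Subgroup G, Cfsg.IsFrobeniusComplement H ∧
      (IsCyclic H ∨ ∃ m : ℕ, Odd m ∧ Nonempty (H ≃* Multiplicative (ZMod m) × QuaternionGroup 2))) ∨
    (∃ n : ℕ, 2 ≤ n ∧ Nonempty (G ≃* Matrix.ProjectiveSpecialLinearGroup (Fin 2) (GaloisField 2 n))) := by
  classical
  by_cases hnil : Group.IsNilpotent G
  · exact Or.inl hnil
  refine Or.inr ?_
  by_cases hF : fittingSubgroup G = ⊥
  · haveI : Nontrivial G := by
      by_contra h
      rw [not_nontrivial_iff_subsingleton] at h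
      letI : CommGroup G := { (inferInstance : Group G) with mul_comm := fun a b => Subsingleton.elim _ _ }
      exact hnil CommGroup.isNilpotent
    exact Or.inr (simple_case hTI hF)
  · exact Or.inl (CfsgLib.CentTI.frobenius_case hTI hF hnil)

end Cfsg.Agent.S4064
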