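import Cfsg.Statements.S4065
import Mathlib
import Cfsg.Agent.Lib.SL2Centralizer
-- import your own Cfsg.Agent.* helpers here

set_option autoImplicit false
open Cfsg

namespace Cfsg.Agent.S4065

/-- Let F be a finite field with 2ⁿ elements, n ≥ 2. In PSL₂(F) the centralizer of every element meets each of its conjugates by elements outside its normalizer trivially. -/
theorem result (n : ℕ) (hn : 2 ≤ n)
    (x : Matrix.ProjectiveSpecialLinearGroup (Fin 2) (GaloisField 2 n)) :
    Cfsg.IsTISubset (Subgroup.centralizer ({x} : Set (Matrix.ProjectiveSpecialLinearGroup (Fin 2) (GaloisField 2 n))) :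
      Set (Matrix.ProjectiveSpecialLinearGroup (Fin 2) (GaloisField 2 n))) := by
  classical
  let F := GaloisField 2 n
  let π : Matrix.SpecialLinearGroup (Fin 2) F →* Matrix.ProjectiveSpecialLinearGroup (Fin 2) F :=
    QuotientGroup.mk' (Subgroup.center (Matrix.SpecialLinearGroup (Fin 2) F))
  have hπ : Function.Surjective π := QuotientGroup.mk'_surjective _
  have hc : Subgroup.center (Matrix.SpecialLinearGroup (Fin 2) F) = ⊥ := by
    rw [Subgroup.eq_bot_iff_forall]
    intro g hg
    obtain ⟨r, hr, hg'⟩ := Matrix.SpecialLinearGroup.mem_center_iff.mp hg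
    have h1 : r = 1 := by
      rw [Fintype.card_fin] at hr
      have h2 : (r - 1) ^ 2 = 0 := by
        rw [CharTwo.sub_eq_add, CharTwo.add_sq, hr, one_pow, CharTwo.add_self_eq_zero]
      exact sub_eq_zero.mp (pow_eq_zero_iff two_ne_zero |>.mp h2)
    exact Matrix.SpecialLinearGroup.ext _ _ fun i j => by rw [← hg', h1]; simp
  have hinj : Function.Injective π := by
    rw [← MonoidHom.ker_eq_bot_iff, QuotientGroup.ker_mk', hc]
  -- centralisers of non-trivial elements are abelian
  have hab : ∀ a : Matrix.ProjectiveSpecialLinearGroup (Fin 2) F, a ≠ 1 → ∀ b c, Commute b a → Commute c a →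
      Commute b c := by
    intro a ha b c hb hc'
    obtain ⟨a, rfl⟩ := hπ a
    obtain ⟨b, rfl⟩ := hπ b
    obtain ⟨c, rfl⟩ := hπ c
    have hns : ∀ r : F, a.1 ≠ r • (1 : Matrix (Fin 2) (Fin 2) F) := by
      intro r e
      have : a ∈ Subgroup.center (Matrix.SpecialLinearGroup (Fin 2) F) := by
        rw [Subgroup.mem_center_iff]
        intro g
        exact Subtype.ext (show g.1 * a.1 = a.1 * g.1 by rw [e]; simp)
      rw [hc, Subgroup.mem_bot] at this
      exact ha (by rw [this, map_one])
    have hb' : Commute b.1 a.1 := congrArg Subtype.val (hinj (a₁ := b * a) (a₂ := a * b) (by simpa using hb.eq))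
    have hc'' : Commute c.1 a.1 := congrArg Subtype.val (hinj (a₁ := c * a) (a₂ := a * c) (by simpa using hc'.eq))
    obtain ⟨x₁, y₁, e₁⟩ := CfsgLib.SL2Centralizer.exists_of_commute hns hb'
    obtain ⟨x₂, y₂, e₂⟩ := CfsgLib.SL2Centralizer.exists_of_commute hns hc''
    have : b * c = c * b := Subtype.ext (by
      show b.1 * c.1 = c.1 * b.1
      rw [e₁, e₂]
      simp [Matrix.add_mul, Matrix.mul_add, smul_smul]
      module)
    exact (show Commute b c from this).map π
  intro g hg y hy hgy
  by_contra hy1
  apply hg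
  set C := Subgroup.centralizer ({x} : Set (Matrix.ProjectiveSpecialLinearGroup (Fin 2) F))
  have hyC : Commute y x := Subgroup.mem_centralizer_singleton_iff.mp hy
  have hgyC : Commute (g * y * g⁻¹) x := Subgroup.mem_centralizer_singleton_iff.mp hgy
  rcases eq_or_ne x 1 with rfl | hx
  · rw [Subgroup.mem_normalizer_iff]
    intro z
    exact ⟨fun _ => Subgroup.mem_centralizer_singleton_iff.mpr (Commute.one_right _), fun _ => Subgroup.mem_centralizer_singleton_iff.mpr (Commute.one_right _)⟩
  have key : ∀ z, z ∈ C ↔ Commute z y := fun z => by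
    rw [Subgroup.mem_centralizer_singleton_iff]
    exact ⟨fun h => hab x hx z y h hyC, fun h => hab y hy1 z x h hyC.symm⟩
  have key2 : ∀ z, z ∈ C ↔ Commute z (g * y * g⁻¹) := fun z => by
    rw [Subgroup.mem_centralizer_singleton_iff]
    exact ⟨fun h => hab x hx z _ h hgyC,
      fun h => hab _ (fun e => hy1 (conj_eq_one_iff.mp e)) z x h hgyC.symm⟩
  refine Subgroup.mem_normalizer_iff.mpr fun z => ?_
  rw [key z, key2]
  exact (Commute.conj_iff g).symm

end Cfsg.Agent.S4065
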