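import Cfsg.Statements.S4066
import Mathlib
-- import your own Cfsg.Agent.* helpers here

set_option autoImplicit false
open Cfsg

namespace Cfsg.Agent.S4066

open scoped Pointwise

/-- Let G be a finite group in which the centralizer of every element meets each of its conjugates by elements outside its normalizer trivially. Then any two distinct Sylow p-subgroups of G, for any prime p, intersect trivially. -/
theorem result {G : Type*} [Group G] [Finite G] (hTI : ∀ x : G, Cfsg.IsTISubset (Subgroup.centralizer ({x} : Set G) : Set G))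
    {p : ℕ} [Fact p.Prime] (P Q : Sylow p G) (hPQ : P ≠ Q) : (P : Subgroup G) ⊓ (Q : Subgroup G) = ⊥ := by
  classical
  by_contra hne
  have hInf := (Subgroup.nontrivial_iff_ne_bot _).mpr hne
  obtain ⟨⟨y, hyP, hyQ⟩, hy1⟩ := exists_ne (1 : ↥((P : Subgroup G) ⊓ (Q : Subgroup G)))
  have hy : y ≠ 1 := fun e => hy1 (Subtype.ext e)
  have hp : p.Prime := Fact.out
  have hPnt : Nontrivial (P : Subgroup G) := ⟨⟨y, hyP⟩, 1, fun e => hy (congrArg Subtype.val e)⟩
  have := P.isPGroup'.center_nontrivial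
  obtain ⟨⟨⟨u, huP⟩, hu⟩, hu1⟩ := exists_ne (1 : Subgroup.center (P : Subgroup G))
  have huc : ∀ v ∈ (P : Subgroup G), v * u = u * v := fun v hv =>
    congrArg Subtype.val (Subgroup.mem_center_iff.mp hu ⟨v, hv⟩)
  obtain ⟨g, hg⟩ := MulAction.exists_smul_eq G P Q
  have hmemQ : ∀ w, w ∈ (Q : Subgroup G) ↔ g⁻¹ * w * g ∈ (P : Subgroup G) := fun w => by
    rw [← hg, Sylow.coe_subgroup_smul, Subgroup.mem_pointwise_smul_iff_inv_smul_mem]
    simp only [MulAut.smul_def, MulAut.inv_def, MulAut.conj_symm_apply]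
  have tis : ∀ (x k w : G), w ≠ 1 → w ∈ Subgroup.centralizer ({x} : Set G) →
      k * w * k⁻¹ ∈ Subgroup.centralizer ({x} : Set G) →
      k ∈ Subgroup.normalizer ((Subgroup.centralizer ({x} : Set G) : Subgroup G) : Set G) := by
    intro x k w hw1 hw hkw
    by_contra hn
    exact hw1 (hTI x k hn w hw hkw)
  set C := Subgroup.centralizer ({u} : Set G) with hC
  have hPC : (P : Subgroup G) ≤ C := fun v hv => Subgroup.mem_centralizer_singleton_iff.mpr (huc v hv)
  have hgC : g ∈ Subgroup.normalizer (C : Set G) :=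
    tis u g (g⁻¹ * y * g) (fun e => hy (by simpa [mul_assoc] using congrArg (fun t => g * t * g⁻¹) e))
      (hPC ((hmemQ y).mp hyQ)) (by simpa [mul_assoc] using hPC hyP)
  have hQC : (Q : Subgroup G) ≤ C := fun w hw => by
    have := (Subgroup.mem_normalizer_iff.mp hgC (g⁻¹ * w * g)).mp (hPC ((hmemQ w).mp hw))
    simpa [mul_assoc] using this
  apply hPQ
  refine Sylow.ext ((Subgroup.eq_of_le_of_card_ge ?_ (le_of_eq ?_)))
  swap
  · rw [← hg, Sylow.coe_subgroup_smul]
    exact (Nat.card_congr (Subgroup.equivSMul _ _).toEquiv).symm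
  intro x hx
  by_cases hx1 : x = 1
  · rw [hx1]; exact one_mem _
  -- `C` normalizes the centralizer of `x`
  have hu' : u ≠ 1 := fun e => hu1 (Subtype.ext (Subtype.ext e))
  have hnor : ∀ k ∈ C, k * x * k⁻¹ ∈ Subgroup.centralizer ({x} : Set G) := by
    intro k hk
    have h1 : u ∈ Subgroup.centralizer ({x} : Set G) :=
      Subgroup.mem_centralizer_singleton_iff.mpr (huc x hx).symm
    have h2 := tis x k u hu' h1 (by
      rw [Subgroup.mem_centralizer_singleton_iff.mp hk, mul_inv_cancel_right]; exact h1)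
    exact (Subgroup.mem_normalizer_iff.mp h2 x).mp (Subgroup.mem_centralizer_singleton_iff.mpr rfl)
  set A : Subgroup G := Subgroup.closure ((fun k => k * x * k⁻¹) '' (C : Set G)) with hA
  have hcm : ∀ a ∈ (fun k => k * x * k⁻¹) '' (C : Set G), ∀ b ∈ (fun k => k * x * k⁻¹) '' (C : Set G), a * b = b * a := by
    rintro _ ⟨k, hk, rfl⟩ _ ⟨l, hl, rfl⟩
    have h := Subgroup.mem_centralizer_singleton_iff.mp (hnor _ (mul_mem (inv_mem hl) hk))
    calc k * x * k⁻¹ * (l * x * l⁻¹) = l * ((l⁻¹ * k * x * (l⁻¹ * k)⁻¹) * x) * l⁻¹ := by group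
      _ = l * (x * (l⁻¹ * k * x * (l⁻¹ * k)⁻¹)) * l⁻¹ := by rw [h]
      _ = l * x * l⁻¹ * (k * x * k⁻¹) := by group
  have := Subgroup.isMulCommutative_closure hcm
  have hAp : IsPGroup p A := by
    obtain ⟨i, hi⟩ := IsPGroup.iff_orderOf.mp P.isPGroup' ⟨x, hx⟩
    rw [Subgroup.orderOf_mk] at hi
    rintro ⟨a, ha⟩
    refine ⟨i, Subtype.ext ?_⟩
    show a ^ p ^ i = 1
    induction ha using Subgroup.closure_induction with
    | mem a hk =>
      obtain ⟨k, -, rfl⟩ := hk
      rw [conj_pow, ← hi, pow_orderOf_eq_one, mul_one, mul_inv_cancel]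
    | one => exact one_pow _
    | mul a b ha hb iha ihb =>
      have : Commute a b := congrArg Subtype.val (this.is_comm.comm ⟨a, ha⟩ ⟨b, hb⟩)
      rw [this.mul_pow, iha, ihb, one_mul]
    | inv a _ iha => rw [inv_pow, iha, inv_one]
  have hCA : C ≤ Subgroup.normalizer (A : Set G) := by
    refine fun c hc => Subgroup.mem_normalizer_iff.mpr fun a => ?_
    have key : ∀ c ∈ C, ∀ a ∈ A, c * a * c⁻¹ ∈ A := by
      intro c hc a ha
      induction ha using Subgroup.closure_induction with
      | mem a hk =>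
        obtain ⟨k, hk, rfl⟩ := hk
        exact Subgroup.subset_closure ⟨c * k, mul_mem hc hk, by group⟩
      | one => simp
      | mul a b _ _ iha ihb =>
        have e : c * (a * b) * c⁻¹ = (c * a * c⁻¹) * (c * b * c⁻¹) := by group
        rw [e]; exact mul_mem iha ihb
      | inv a _ iha =>
        have e : c * a⁻¹ * c⁻¹ = (c * a * c⁻¹)⁻¹ := by group
        rw [e]; exact inv_mem iha
    exact ⟨key c hc a, fun h => by simpa [mul_assoc] using key c⁻¹ (inv_mem hc) _ h⟩
  have hp2 : IsPGroup p ((Q : Subgroup G) ⊔ A : Subgroup G) :=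
    IsPGroup.to_sup_of_normal_right' Q.isPGroup' hAp (hQC.trans hCA)
  rw [← Q.is_maximal' hp2 le_sup_left]
  exact Subgroup.mem_sup_right (Subgroup.subset_closure ⟨1, one_mem _, by group⟩)

end Cfsg.Agent.S4066
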