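import Cfsg.Statements.S4067
-- import your own Cfsg.Agent.* helpers here

set_option autoImplicit false
open Cfsg

namespace Cfsg.Agent.S4067

open scoped commutatorElement IsMulCommutative

theorem save_bound (n p c : ℕ) (h : (p + 1) * c ≤ n) : p * c + (n + p) / (p + 1) ≤ n := by
  obtain ⟨r, rfl⟩ := Nat.exists_eq_add_of_le h
  set d := ((p + 1) * c + r + p) / (p + 1) with hd
  have h1 : d * (p + 1) ≤ (p + 1) * c + r + p := Nat.div_mul_le_self _ _
  have h2 : d * (p + 1) < (c + r + 1) * (p + 1) := by nlinarith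
  have h3 := Nat.lt_of_mul_lt_mul_right h2
  nlinarith

theorem choose_two_add (a b : ℕ) : (a + b).choose 2 = a.choose 2 + a * b + b.choose 2 := by
  induction b with
  | zero => simp
  | succ b ih =>
    rw [← add_assoc, Nat.choose_succ_succ, Nat.choose_one_right, Nat.choose_succ_succ b,
      Nat.choose_one_right]
    simp only [Nat.succ_eq_add_one]
    rw [ih]
    ring

theorem pred_mul_add (p m : ℕ) (h : 0 < p) : (p - 1) * m + m = p * m := by
  rw [← Nat.succ_mul]
  congr 1
  omega

variable {G : Type*} [Group G] [Finite G]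

/-- Orbit bound from a set of automorphisms with small fixed point sets. -/
theorem orbits_bound {p : ℕ} (hp0 : 0 < p) (hp : ∀ H : Subgroup G, H ≠ ⊤ → p * Nat.card H ≤ Nat.card G)
    {ι : Type*} [Finite ι] (β : ι → MulAut G) (hinj : Function.Injective β) (w : ℕ)
    (hone : ∀ i, β i ≠ 1) (hw : ∀ i, p * Nat.card {g : G // β i g = g} + w ≤ Nat.card G)
    (hsum : (p - 1) * Nat.card G ≤ Nat.card ι * w) :
    Nat.card (MulAction.orbitRel.Quotient (MulAut G) G) ≤ Nat.card G / p := by
  classical
  have := Fintype.ofFinite G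
  have := Fintype.ofFinite (MulAut G)
  have := Fintype.ofFinite ι
  have hfix : ∀ a : MulAut G, p * Nat.card {g : G // a g = g} ≤ Nat.card G ∨ a = 1 := by
    intro a
    rcases eq_or_ne (a.toMonoidHom.eqLocus (MonoidHom.id G)) ⊤ with h | h
    · exact Or.inr (MulEquiv.ext fun g => (show g ∈ a.toMonoidHom.eqLocus (MonoidHom.id G) from h ▸ Subgroup.mem_top g))
    · exact Or.inl (hp _ h)
  have hb := MulAction.sum_card_fixedBy_eq_card_orbits_mul_card_group (MulAut G) G
  simp only [Fintype.card_eq_nat_card] at hb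
  have he : ∀ a : MulAut G, Nat.card (MulAction.fixedBy G a) = Nat.card {g : G // a g = g} :=
    fun a => rfl
  simp only [he] at hb
  set S := Finset.univ.image β
  have hS1 : (1 : MulAut G) ∉ S := by simp [S, hone]
  have key : p * ∑ a : MulAut G, Nat.card {g : G // a g = g} + Nat.card ι * w + Nat.card G ≤
      p * Nat.card G + Nat.card (MulAut G) * Nat.card G := by
    have h0 : ∀ a : MulAut G, p * Nat.card {g : G // a g = g} + (if a ∈ S then w else 0) +
        (if a = 1 then Nat.card G else 0) ≤ Nat.card G + (if a = 1 then p * Nat.card G else 0) := by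
      intro a
      by_cases h1 : a = 1
      · subst h1
        rw [if_neg hS1, if_pos rfl, if_pos rfl,
          Nat.card_congr (Equiv.subtypeUnivEquiv (p := fun g : G => (1 : MulAut G) g = g) fun g => rfl)]
        omega
      · rw [if_neg h1, if_neg h1]
        by_cases h2 : a ∈ S
        · rw [if_pos h2]
          obtain ⟨i, -, rfl⟩ := Finset.mem_image.mp h2
          exact hw i
        · rw [if_neg h2]
          have := (hfix a).resolve_right h1
          omega
    have h1 := Finset.sum_le_sum (s := Finset.univ) fun a _ => h0 a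
    simp only [Finset.sum_add_distrib, Finset.sum_ite_mem, Finset.univ_inter, Finset.sum_const,
      Finset.sum_ite_eq', Finset.mem_univ, if_true, smul_eq_mul, Finset.card_univ,
      Fintype.card_eq_nat_card, ← Finset.mul_sum] at h1
    have h2 : S.card = Nat.card ι := by
      rw [Finset.card_image_of_injective _ hinj, Finset.card_univ, Fintype.card_eq_nat_card]
    rw [h2] at h1
    linarith
  have hb' : ∑ a : MulAut G, Nat.card {g : G // a g = g} =
      Nat.card (MulAction.orbitRel.Quotient (MulAut G) G) * Nat.card (MulAut G) := hb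
  rw [hb'] at key
  rw [Nat.le_div_iff_mul_le hp0]
  have h3 : Nat.card ι * w + Nat.card G ≥ p * Nat.card G := by
    calc p * Nat.card G = (p - 1) * Nat.card G + Nat.card G := (pred_mul_add p _ hp0).symm
      _ ≤ _ := by omega
  have h4 : p * (Nat.card (MulAction.orbitRel.Quotient (MulAut G) G) * Nat.card (MulAut G)) ≤
      Nat.card (MulAut G) * Nat.card G := by omega
  refine Nat.le_of_mul_le_mul_left ?_ (Nat.card_pos : 0 < Nat.card (MulAut G))
  linarith

theorem index_ge {p : ℕ} (hpm : ∀ q : ℕ, q.Prime → q ∣ Nat.card G → p ≤ q) {H : Subgroup G}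
    (h : H ≠ ⊤) : p ≤ H.index := by
  obtain ⟨q, hq, hd⟩ := Nat.exists_prime_and_dvd (fun e => h (Subgroup.index_eq_one.mp e))
  exact (hpm q hq (hd.trans H.index_dvd_card)).trans
    (Nat.le_of_dvd (Nat.pos_of_ne_zero Subgroup.index_ne_zero_of_finite) hd)

theorem mem_cent {x y : G} : y ∈ Subgroup.centralizer ({x} : Set G) ↔ y * x = x * y :=
  Subgroup.mem_centralizer_singleton_iff

theorem pow_mem_of_normal_prime {p : ℕ} {H : Subgroup G} [H.Normal] (h : H.index ∣ p) (x : G) :
    x ^ p ∈ H := by
  obtain ⟨d, hd⟩ := h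
  rw [hd, pow_mul]
  exact H.pow_mem (H.pow_index_mem x) d

theorem centralizer_index_eq {p : ℕ} (hpm : ∀ q : ℕ, q.Prime → q ∣ Nat.card G → p ≤ q) {x : G}
    (hle : (Subgroup.centralizer ({x} : Set G)).index ≤ p) (hx : x ∉ Subgroup.center G) :
    (Subgroup.centralizer ({x} : Set G)).index = p :=
  le_antisymm hle (index_ge hpm fun e => hx (Subgroup.mem_center_iff.mpr fun g =>
    mem_cent.mp (e ▸ Subgroup.mem_top g)))

/-- The case of an element with a conjugacy class of more than `p` elements. -/
theorem big_class {p : ℕ} (hp : p.Prime) (hpd : p = (Nat.card G).minFac)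
    (hpm : ∀ q : ℕ, q.Prime → q ∣ Nat.card G → p ≤ q) (hna : ¬ IsMulCommutative G)
    (g : G) (hg : p < (Subgroup.centralizer ({g} : Set G)).index) :
    Nat.card (MulAction.orbitRel.Quotient (MulAut G) G) ≤ Nat.card G / p := by
  classical
  set Z := Subgroup.center G with hZdef
  set N := Z.index with hN
  have hZC : ∀ u : G, Z ≤ Subgroup.centralizer ({u} : Set G) := fun u z hz =>
    mem_cent.mpr (Subgroup.mem_center_iff.mp hz u).symm
  have hN1 : N ≠ 1 := fun e => hna ⟨⟨fun a b =>
    Subgroup.mem_center_iff.mp (show b ∈ Z from (Subgroup.index_eq_one.mp e) ▸ Subgroup.mem_top b) a⟩⟩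
  have hNnp : ¬ N.Prime := by
    intro hpr
    haveI : Fact N.Prime := ⟨hpr⟩
    have hcy : IsCyclic (G ⧸ Z) := isCyclic_of_prime_card (p := N) rfl
    exact hna ⟨⟨commutative_of_cyclic_center_quotient (QuotientGroup.mk' Z)
      (by rw [QuotientGroup.ker_mk'])⟩⟩
  have hsmall : ∀ H : Subgroup G, H ≠ ⊤ → p * Nat.card H ≤ Nat.card G := fun H hH => by
    rw [← H.index_mul_card]
    exact Nat.mul_le_mul_right _ (index_ge hpm hH)
  let β : G ⧸ Z → MulAut G := fun a => MulAut.conj a.out
  have hβfix : ∀ (a : G ⧸ Z), Nat.card {x : G // β a x = x} =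
      Nat.card (Subgroup.centralizer ({a.out} : Set G)) := fun a =>
    Nat.card_congr (Equiv.subtypeEquivRight fun x => by
      rw [mem_cent]
      show a.out * x * a.out⁻¹ = x ↔ x * a.out = a.out * x
      rw [mul_inv_eq_iff_eq_mul, eq_comm])
  have hβinj : Function.Injective β := by
    intro a b hab
    rw [← QuotientGroup.out_eq' a, ← QuotientGroup.out_eq' b]
    refine QuotientGroup.eq.mpr (Subgroup.mem_center_iff.mpr fun x => ?_)
    have h1 : a.out * x * a.out⁻¹ = b.out * x * b.out⁻¹ := DFunLike.congr_fun hab x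
    calc x * (a.out⁻¹ * b.out) = a.out⁻¹ * (a.out * x * a.out⁻¹) * b.out := by group
      _ = a.out⁻¹ * b.out * x := by rw [h1]; group
  have hβone : ∀ a, p < (Subgroup.centralizer ({a.out} : Set G)).index → β a ≠ 1 := by
    intro a ha e
    have : Subgroup.centralizer ({a.out} : Set G) = ⊤ := (Subgroup.eq_top_iff' _).mpr fun x =>
      mem_cent.mpr (by
        have h1 : a.out * x * a.out⁻¹ = x := DFunLike.congr_fun e x
        exact ((mul_inv_eq_iff_eq_mul).mp h1).symm)
    rw [this, Subgroup.index_top] at ha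
    exact absurd hp.two_le (by omega)
  have hidx_out : ∀ u : G, Subgroup.centralizer ({((u : G ⧸ Z)).out} : Set G) =
      Subgroup.centralizer ({u} : Set G) := by
    intro u
    obtain ⟨z, hz⟩ := QuotientGroup.mk_out_eq_mul Z u
    ext x
    rw [mem_cent, mem_cent, hz, ← mul_assoc, Subgroup.mem_center_iff.mp (show (z : G) ∈ Z from z.2) (x * u),
      mul_assoc u, ← Subgroup.mem_center_iff.mp (show (z : G) ∈ Z from z.2) x, ← mul_assoc u,
      ← Subgroup.mem_center_iff.mp (show (z : G) ∈ Z from z.2) (x * u)]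
    exact mul_right_cancel_iff
  by_cases hq : ∃ q : ℕ, q.Prime ∧ q ≠ p ∧ q ∣ N
  · obtain ⟨q, hqp, hqne, hqd⟩ := hq
    haveI : Fact q.Prime := ⟨hqp⟩
    obtain ⟨a0, ha0⟩ := exists_prime_orderOf_dvd_card' (G := G ⧸ Z) q hqd
    obtain ⟨y, rfl⟩ := QuotientGroup.mk_surjective a0
    have hy : y ∉ Z := fun h => by
      rw [(QuotientGroup.eq_one_iff y).mpr h, orderOf_one] at ha0
      exact hqp.ne_one ha0.symm
    have hyq : y ^ q ∈ Z := (QuotientGroup.eq_one_iff _).mp (by
      rw [QuotientGroup.mk_pow, ← ha0, pow_orderOf_eq_one])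
    set C := Subgroup.centralizer ({y} : Set G)
    -- elements with small classes commute with y
    have hsm : ∀ u : G, (Subgroup.centralizer ({u} : Set G)).index ≤ p → u ∈ C := by
      intro u hu
      rw [mem_cent, eq_comm, ← mem_cent]
      by_cases hu' : u ∈ Z
      · rw [mem_cent]; exact Subgroup.mem_center_iff.mp hu' y
      have hi := centralizer_index_eq hpm hu hu'
      have hnorm : (Subgroup.centralizer ({u} : Set G)).Normal :=
        Subgroup.normal_of_index_eq_minFac_card (hi.trans hpd)
      have h1 := pow_mem_of_normal_prime (dvd_of_eq hi) y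
      have h2 := hZC u hyq
      obtain ⟨a, b, hab⟩ : ∃ a b : ℤ, (p : ℤ) * a + q * b = 1 := by
        have := (Int.isCoprime_iff_nat_coprime.mpr (by
          simpa using (Nat.coprime_primes hp hqp).mpr (Ne.symm hqne)) : IsCoprime (p : ℤ) q)
        obtain ⟨a, b, h⟩ := this
        exact ⟨a, b, by linarith⟩
      have : y = (y ^ p) ^ a * (y ^ q) ^ b := by
        rw [← zpow_natCast y p, ← zpow_natCast y q, ← zpow_mul, ← zpow_mul, ← zpow_add, hab, zpow_one]
      rw [this]
      exact mul_mem (zpow_mem h1 a) (zpow_mem h2 b)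
    have hCtop : C ≠ ⊤ := fun e => hy (Subgroup.mem_center_iff.mpr fun x =>
      mem_cent.mp (show x ∈ C from e ▸ Subgroup.mem_top x))
    let ι := {a : G ⧸ Z // p < (Subgroup.centralizer ({a.out} : Set G)).index}
    have hcard : N * (p - 1) ≤ Nat.card ι * p := by
      have hsub : Nat.card {a : G ⧸ Z // ¬ p < (Subgroup.centralizer ({a.out} : Set G)).index} ≤
          Nat.card (C.map (QuotientGroup.mk' Z)) :=
        Nat.card_le_card_of_injective
          (fun a => ⟨a.1, a.1.out, hsm _ (not_lt.mp a.2), QuotientGroup.out_eq' a.1⟩)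
          (fun a b h => Subtype.ext (congrArg (fun z : C.map (QuotientGroup.mk' Z) => (z : G ⧸ Z)) h))
      have hCi : p * Nat.card (C.map (QuotientGroup.mk' Z)) ≤ N := by
        have h1 : (C.map (QuotientGroup.mk' Z)).index = C.index :=
          Subgroup.index_map_eq _ (QuotientGroup.mk'_surjective Z) (by rw [QuotientGroup.ker_mk']; exact hZC y)
        have h2 := (C.map (QuotientGroup.mk' Z)).index_mul_card
        rw [h1] at h2
        rw [hN, Subgroup.index_eq_card, ← h2]
        exact Nat.mul_le_mul_right _ (index_ge hpm hCtop)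
      have hsplit : Nat.card ι +
          Nat.card {a : G ⧸ Z // ¬ p < (Subgroup.centralizer ({a.out} : Set G)).index} = N := by
        rw [← Nat.card_sum, hN, Subgroup.index_eq_card]
        exact Nat.card_congr (Equiv.sumCompl _)
      have h5 : p * Nat.card {a : G ⧸ Z // ¬ p < (Subgroup.centralizer ({a.out} : Set G)).index} ≤ N :=
        (Nat.mul_le_mul_left p hsub).trans hCi
      rw [Nat.mul_sub, mul_one]
      have h6 : p * N = p * Nat.card ι + p * Nat.card {a : G ⧸ Z // ¬ p < (Subgroup.centralizer ({a.out} : Set G)).index} := by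
        rw [← Nat.mul_add, hsplit]
      rw [mul_comm N p, mul_comm (Nat.card ι) p]
      omega
    have hNbig : p * (p + 1) ≤ N := by
      have hpq : p + 1 ≤ q := by
        have := hpm q hqp (hqd.trans Z.index_dvd_card)
        omega
      obtain ⟨m, hm⟩ := hqd
      have hm1 : m ≠ 1 := fun e => hNnp (by rw [hm, e, mul_one]; exact hqp)
      obtain ⟨r, hr, hrd⟩ := Nat.exists_prime_and_dvd hm1
      have h7 : p ≤ m := (hpm r hr (hrd.trans (Dvd.intro_left q hm.symm |>.trans Z.index_dvd_card))).trans
        (Nat.le_of_dvd (Nat.pos_of_ne_zero fun e =>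
          (Subgroup.index_ne_zero_of_finite : Z.index ≠ 0) (hm.trans (by rw [e, mul_zero]))) hrd)
      rw [hm, mul_comm p]
      exact Nat.mul_le_mul hpq h7
    -- each of these automorphisms saves at least n / (p + 1)
    set w := (Nat.card G + p) / (p + 1) with hwdef
    have hw1 : Nat.card G ≤ (p + 1) * w := by
      rw [hwdef]
      have h8 := Nat.div_add_mod (Nat.card G + p) (p + 1)
      have h9 := Nat.mod_lt (Nat.card G + p) (show 0 < p + 1 by omega)
      omega
    refine orbits_bound hp.pos hsmall (fun a : ι => β a.1) (hβinj.comp Subtype.val_injective) w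
      (fun a => hβone _ a.2) (fun a => ?_) ?_
    · rw [hβfix]
      set c := Nat.card (Subgroup.centralizer ({a.1.out} : Set G))
      have h1 : (p + 1) * c ≤ Nat.card G := by
        rw [← Subgroup.index_mul_card (Subgroup.centralizer ({a.1.out} : Set G))]
        exact Nat.mul_le_mul_right _ a.2
      exact save_bound _ _ _ h1
    · refine Nat.le_of_mul_le_mul_left (?_ : p * (p + 1) * _ ≤ p * (p + 1) * _) (Nat.mul_pos hp.pos (Nat.succ_pos p))
      calc p * (p + 1) * ((p - 1) * Nat.card G) ≤ N * ((p - 1) * Nat.card G) :=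
            Nat.mul_le_mul_right _ hNbig
        _ = (N * (p - 1)) * Nat.card G := by ring
        _ ≤ (Nat.card ι * p) * ((p + 1) * w) := Nat.mul_le_mul hcard hw1
        _ = p * (p + 1) * (Nat.card ι * w) := by ring
  · push Not at hq
    obtain ⟨k, hk⟩ : ∃ k, N = p ^ k := by
      refine ⟨N.primeFactorsList.length, Nat.eq_prime_pow_of_unique_prime_dvd
        Subgroup.index_ne_zero_of_finite fun {q} hqp hqd => ?_⟩
      by_contra hne
      exact hq q hqp hne hqd
    have hpp : ∀ u : G, p < (Subgroup.centralizer ({u} : Set G)).index →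
        p * p ≤ (Subgroup.centralizer ({u} : Set G)).index := by
      intro u hu
      obtain ⟨j, -, hj⟩ := (Nat.dvd_prime_pow hp).mp ((Subgroup.index_dvd_of_le (hZC u)).trans (dvd_of_eq hk))
      rw [hj] at hu ⊢
      rw [← pow_two]
      refine Nat.pow_le_pow_right hp.pos ?_
      by_contra hc
      have := hp.two_le
      interval_cases j <;> simp at hu <;> omega
    set o := orderOf (g : G ⧸ Z)
    have ho : p ∣ o := by
      obtain ⟨j, -, hj⟩ := (Nat.dvd_prime_pow hp).mp
        ((orderOf_dvd_natCard (g : G ⧸ Z)).trans (dvd_of_eq hk) : o ∣ p ^ k)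
      have : o ≠ 1 := fun e => by
        have h1 : g ∈ Z := (QuotientGroup.eq_one_iff g).mp (orderOf_eq_one_iff.mp e)
        have h2 : Subgroup.centralizer ({g} : Set G) = ⊤ :=
          Subgroup.centralizer_eq_top_iff_subset.mpr (by simpa using h1)
        rw [h2, Subgroup.index_top] at hg
        exact absurd hp.two_le (by omega)
      rw [show o = p ^ j from hj]
      exact dvd_pow_self p fun e => this (by rw [show o = p ^ j from hj, e, pow_zero])
    have hCpow : ∀ i : ℕ, ¬ p ∣ i → Subgroup.centralizer ({g ^ i} : Set G) =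
        Subgroup.centralizer ({g} : Set G) := by
      intro i hi
      ext x
      rw [mem_cent, mem_cent]
      refine ⟨fun h => ?_, fun h => (Commute.pow_right h i).eq⟩
      obtain ⟨j, -, hj⟩ := (Nat.dvd_prime_pow hp).mp
        ((orderOf_dvd_natCard (g : G ⧸ Z)).trans (dvd_of_eq hk) : o ∣ p ^ k)
      have hgz : g ^ (p ^ j) ∈ Z := (QuotientGroup.eq_one_iff _).mp (by
        rw [QuotientGroup.mk_pow, ← hj, pow_orderOf_eq_one])
      obtain ⟨a, b, hab⟩ : ∃ a b : ℤ, (i : ℤ) * a + (p ^ j : ℕ) * b = 1 := by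
        have := (Int.isCoprime_iff_nat_coprime.mpr (by
          simpa using Nat.Coprime.pow_right j ((hp.coprime_iff_not_dvd.mpr hi).symm)) :
            IsCoprime (i : ℤ) (p ^ j : ℕ))
        obtain ⟨a, b, h⟩ := this
        exact ⟨a, b, by linarith⟩
      have hgg : g = (g ^ i) ^ a * (g ^ (p ^ j)) ^ b := by
        rw [← zpow_natCast g i, ← zpow_natCast g (p ^ j), ← zpow_mul, ← zpow_mul, ← zpow_add, hab, zpow_one]
      rw [hgg]
      have h1 : Commute x (g ^ i) := h
      have h2 : Commute x (g ^ (p ^ j)) := Subgroup.mem_center_iff.mp hgz x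
      exact ((h1.zpow_right a).mul_right (h2.zpow_right b)).eq
    -- an element outside the cyclic subgroup with a large class
    obtain ⟨x, hxo, hxbig⟩ : ∃ x : G, (x : G ⧸ Z) ∉ Subgroup.zpowers (g : G ⧸ Z) ∧
        p < (Subgroup.centralizer ({x} : Set G)).index := by
      by_contra hne
      push Not at hne
      have hcomm : ∀ x : G, x ∈ Subgroup.centralizer ({g} : Set G) := by
        intro x
        by_cases hx : (x : G ⧸ Z) ∈ Subgroup.zpowers (g : G ⧸ Z)
        · obtain ⟨i, hi⟩ := Subgroup.mem_zpowers_iff.mp hx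
          rw [← QuotientGroup.mk_zpow, QuotientGroup.eq] at hi
          have := mul_mem (zpow_mem (show g ∈ Subgroup.centralizer ({g} : Set G) from mem_cent.mpr rfl) i)
            (hZC g hi)
          simpa using this
        · have hxg : ((x * g : G) : G ⧸ Z) ∉ Subgroup.zpowers (g : G ⧸ Z) := by
            rw [QuotientGroup.mk_mul, Subgroup.mul_mem_cancel_right _ (Subgroup.mem_zpowers _)]
            exact hx
          set A := Subgroup.centralizer ({x} : Set G)
          set B := Subgroup.centralizer ({x * g} : Set G)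
          have hle : A ⊓ B ≤ Subgroup.centralizer ({g} : Set G) := by
            intro u hu
            obtain ⟨hu1, hu2⟩ := Subgroup.mem_inf.mp hu
            simp only [A, B, mem_cent] at hu1 hu2
            rw [mem_cent]
            refine mul_left_cancel (a := x) ?_
            calc x * (u * g) = x * u * g := by rw [mul_assoc]
              _ = u * (x * g) := by rw [← hu1, mul_assoc]
              _ = x * g * u := hu2
              _ = x * (g * u) := by rw [mul_assoc]
          have h1 : (A ⊓ B).index ≤ p * p :=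
            Subgroup.index_inf_le.trans (Nat.mul_le_mul (hne x hx) (hne _ hxg))
          have h2 : A ⊓ B = Subgroup.centralizer ({g} : Set G) := by
            refine Subgroup.eq_of_le_of_card_ge hle ?_
            have e1 := (A ⊓ B).index_mul_card
            have e2 := (Subgroup.centralizer ({g} : Set G)).index_mul_card
            have h3 : (A ⊓ B).index ≤ (Subgroup.centralizer ({g} : Set G)).index := h1.trans (hpp g hg)
            refine Nat.le_of_mul_le_mul_left ?_ (Nat.pos_of_ne_zero (Subgroup.index_ne_zero_of_finite (H := A ⊓ B)))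
            rw [e1, ← e2]
            exact Nat.mul_le_mul_right _ h3
          have h4 : g ∈ A := (h2.symm ▸ (mem_cent.mpr rfl : g ∈ Subgroup.centralizer ({g} : Set G)) : g ∈ A ⊓ B).1
          rw [mem_cent] at h4
          exact mem_cent.mpr h4.symm
      rw [(Subgroup.eq_top_iff' _).mpr hcomm, Subgroup.index_top] at hg
      exact absurd hp.two_le (by omega)
    let γ : Option {i : Fin p // (i : ℕ) ≠ 0} → G := fun i => i.elim x fun i => g ^ (i.1 : ℕ)
    have hγbig : ∀ i, p < (Subgroup.centralizer ({γ i} : Set G)).index := by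
      rintro (_ | ⟨i, hi⟩)
      · exact hxbig
      · show p < (Subgroup.centralizer ({g ^ (i : ℕ)} : Set G)).index
        rw [hCpow _ (Nat.not_dvd_of_pos_of_lt (Nat.pos_of_ne_zero hi) i.2)]
        exact hg
    have hγinj : Function.Injective fun i => (γ i : G ⧸ Z) := by
      have hop : p ≤ o := Nat.le_of_dvd (orderOf_pos _) ho
      rintro (_ | ⟨i, hi⟩) (_ | ⟨j, hj⟩) h
      · rfl
      · exact absurd (show (x : G ⧸ Z) ∈ _ by
          rw [show (x : G ⧸ Z) = _ from h]
          exact ⟨(j : ℕ), by simp [γ]⟩) hxo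
      · exact absurd (show (x : G ⧸ Z) ∈ _ by
          rw [show (x : G ⧸ Z) = _ from h.symm]
          exact ⟨(i : ℕ), by simp [γ]⟩) hxo
      · simp only [γ, Option.elim, QuotientGroup.mk_pow] at h
        have := pow_injOn_Iio_orderOf (show (i : ℕ) < o by omega) (show (j : ℕ) < o by omega) h
        simp [Fin.ext_iff, this]
    set w := (p - 1) * (Nat.card G / p) with hwdef
    have hpG : p * (Nat.card G / p) = Nat.card G := by
      rw [hpd]; exact Nat.mul_div_cancel' (Nat.minFac_dvd _)
    refine orbits_bound hp.pos hsmall (fun i => β (γ i : G ⧸ Z)) (hβinj.comp hγinj) w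
      (fun i => hβone _ ?_) (fun i => ?_) ?_
    · rw [hidx_out]; exact hγbig i
    · rw [hβfix, hidx_out]
      have h1 := hpp _ (hγbig i)
      have h2 := Subgroup.index_mul_card (Subgroup.centralizer ({γ i} : Set G))
      set c := Nat.card (Subgroup.centralizer ({γ i} : Set G))
      have h3 : p * (p * c) ≤ p * (Nat.card G / p) := by
        rw [hpG, ← mul_assoc, ← h2]
        exact Nat.mul_le_mul_right _ h1
      have h4 : p * c ≤ Nat.card G / p := Nat.le_of_mul_le_mul_left h3 hp.pos
      have h5 := (pred_mul_add p (Nat.card G / p) hp.pos).trans hpG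
      omega
    · have hc : Nat.card (Option {i : Fin p // (i : ℕ) ≠ 0}) = p := by
        rw [Nat.card_eq_fintype_card, Fintype.card_option]
        have : NeZero p := ⟨hp.ne_zero⟩
        have : Fintype.card {i : Fin p // (i : ℕ) ≠ 0} = p - 1 := by
          rw [Fintype.card_subtype_compl]
          have e : Fintype.card {i : Fin p // (i : ℕ) = 0} = 1 :=
            Fintype.card_eq_one_iff.mpr ⟨⟨0, rfl⟩, fun y => Subtype.ext (Fin.ext y.2)⟩
          rw [e, Fintype.card_fin]
        have := hp.two_le
        omega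
      rw [hc, hwdef, show p * ((p - 1) * (Nat.card G / p)) = (p - 1) * (p * (Nat.card G / p)) by ring, hpG]

theorem ext_hom_ne_one (φ : G → G) (hmul : ∀ a b, φ (a * b) = φ a * φ b) (hbij : Function.Bijective φ) :
    ∃ e : MulAut G, ∀ a, e a = φ a :=
  ⟨MulEquiv.ofBijective (MonoidHom.mk' φ hmul) hbij, fun _ => rfl⟩

/-- The case where all classes have at most `p` elements. -/
theorem small_classes {p : ℕ} (hp : p.Prime) (hpd : p = (Nat.card G).minFac)
    (hpm : ∀ q : ℕ, q.Prime → q ∣ Nat.card G → p ≤ q) (hna : ¬ IsMulCommutative G)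
    (hall : ∀ x : G, (Subgroup.centralizer ({x} : Set G)).index ≤ p) :
    Nat.card (MulAction.orbitRel.Quotient (MulAut G) G) ≤ Nat.card G / p := by
  classical
  haveI := Fact.mk hp
  have hsmall : ∀ H : Subgroup G, H ≠ ⊤ → p * Nat.card H ≤ Nat.card G := fun H hH => by
    rw [← H.index_mul_card]
    exact Nat.mul_le_mul_right _ (index_ge hpm hH)
  have hidx : ∀ x, x ∉ (Subgroup.center G) → (Subgroup.centralizer ({x} : Set G)).index = p :=
    fun x hx => centralizer_index_eq hpm (hall x) hx
  have hnorm : ∀ x : G, x ∉ (Subgroup.center G) → (Subgroup.centralizer ({x} : Set G)).Normal :=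
    fun x hx => Subgroup.normal_of_index_eq_minFac_card ((hidx x hx).trans hpd)
  -- p-th powers and commutators are central
  have hpow : ∀ x : G, x ^ p ∈ (Subgroup.center G) := by
    intro x
    rw [Subgroup.mem_center_iff]
    intro y
    by_cases hy : y ∈ (Subgroup.center G)
    · exact (Subgroup.mem_center_iff.mp hy _).symm
    · have := hnorm y hy
      exact (mem_cent.mp (pow_mem_of_normal_prime (dvd_of_eq (hidx y hy)) x)).symm
  have hcom : ∀ a b : G, ⁅a, b⁆ ∈ (Subgroup.center G) := by
    intro a b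
    rw [Subgroup.mem_center_iff]
    intro y
    by_cases hy : y ∈ (Subgroup.center G)
    · exact (Subgroup.mem_center_iff.mp hy _).symm
    · have := hnorm y hy
      have hcy : IsCyclic (G ⧸ Subgroup.centralizer ({y} : Set G)) :=
        isCyclic_of_prime_card (p := p) (by rw [← Subgroup.index_eq_card]; exact hidx y hy)
      have h1 : ((⁅a, b⁆ : G) : G ⧸ Subgroup.centralizer ({y} : Set G)) = 1 := by
        rw [← QuotientGroup.mk'_apply, map_commutatorElement, commutatorElement_eq_one_iff_commute]
        letI := IsCyclic.commGroup (α := G ⧸ Subgroup.centralizer ({y} : Set G))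
        exact mul_comm _ _
      exact (mem_cent.mp ((QuotientGroup.eq_one_iff _).mp h1)).symm
  have hzc : ∀ z ∈ (Subgroup.center G), ∀ x : G, x * z = z * x := fun z hz x => Subgroup.mem_center_iff.mp hz x
  -- bilinearity
  have hcl : ∀ a b d : G, ⁅a, b * d⁆ = ⁅a, b⁆ * ⁅a, d⁆ := by
    intro a b d
    have e : ⁅a, b * d⁆ = ⁅a, b⁆ * (b * ⁅a, d⁆ * b⁻¹) := by simp [commutatorElement_def]; group
    rw [e, hzc _ (hcom a d) b, mul_inv_cancel_right]
  obtain ⟨v0, u0, hvu0⟩ : ∃ v u : G, ⁅v, u⁆ ≠ 1 := by
    by_contra h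
    push Not at h
    exact hna ⟨⟨fun a b => (commutatorElement_eq_one_iff_commute.mp (h a b)).eq⟩⟩
  have hlog : ∀ v : G, v ∉ (Subgroup.center G) → ∀ c, c ≠ 1 → (∃ u, ⁅v, u⁆ = c) →
      ∃ f : G → ℕ, (∀ a, ⁅v, a⁆ = c ^ f a) ∧ orderOf c = p := by
    rintro v hv c hc ⟨u, rfl⟩
    let φ : G →* G := MonoidHom.mk' (fun a => ⁅v, a⁆) (hcl v)
    have hk : φ.ker = Subgroup.centralizer ({v} : Set G) := by
      ext a
      rw [MonoidHom.mem_ker, mem_cent]
      show ⁅v, a⁆ = 1 ↔ _
      rw [commutatorElement_eq_one_iff_commute]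
      exact eq_comm
    have hr : Nat.card φ.range = p := by
      rw [← Subgroup.index_ker, hk]; exact hidx v hv
    have hu : (⟨⁅v, u⁆, u, rfl⟩ : φ.range) ≠ 1 := fun e => hc (congrArg Subtype.val e)
    choose f hf using fun a => (Subgroup.mem_zpowers_iff.mp
      (mem_zpowers_of_prime_card hr hu (g' := (⟨⁅v, a⁆, a, rfl⟩ : φ.range))))
    have hoc : orderOf ⁅v, u⁆ = p := by
      have h1 : orderOf (⟨⁅v, u⁆, u, rfl⟩ : φ.range) = p := by
        have := orderOf_dvd_natCard (⟨⁅v, u⁆, u, rfl⟩ : φ.range)
        rw [hr] at this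
        exact (hp.eq_one_or_self_of_dvd _ this).resolve_left (mt orderOf_eq_one_iff.mp hu)
      have h2 := (orderOf_injective φ.range.subtype φ.range.subtype_injective ⟨⁅v, u⁆, u, rfl⟩).trans h1
      simpa using h2
    refine ⟨fun a => ((f a) % p).toNat, fun a => ?_, hoc⟩
    have h2 := congrArg Subtype.val (hf a)
    simp only [SubgroupClass.coe_zpow] at h2
    rw [← h2, ← zpow_natCast, Int.toNat_of_nonneg (Int.emod_nonneg _ (by exact_mod_cast hp.ne_zero)),
      ← hoc, zpow_mod_orderOf]
  have hv0 : v0 ∉ (Subgroup.center G) := fun h => hvu0 (commutatorElement_eq_one_iff_commute.mpr (hzc _ h u0).symm)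
  set c0 := ⁅v0, u0⁆ with hc0
  have hc0Z : c0 ∈ (Subgroup.center G) := hcom _ _
  have hc0p : c0 ^ p = 1 := by
    obtain ⟨f, -, h⟩ := hlog v0 hv0 c0 hvu0 ⟨u0, rfl⟩
    rw [← h, pow_orderOf_eq_one]
  have hpG : p * (Nat.card G / p) = Nat.card G := by
    rw [hpd]; exact Nat.mul_div_cancel' (Nat.minFac_dvd _)
  have hfinish : ∀ (ι : Type) [Finite ι] (β : ι → MulAut G) (K : ι → Subgroup G),
      Nat.card ι = p → Function.Injective β → (∀ i, ∀ a, β i a = a → a ∈ K i) →
      (∀ i, p * p ≤ (K i).index) →
      Nat.card (MulAction.orbitRel.Quotient (MulAut G) G) ≤ Nat.card G / p := by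
    intro ι _ β K hι hinj hK hKi
    refine orbits_bound hp.pos hsmall β hinj ((p - 1) * (Nat.card G / p)) (fun i e => ?_)
      (fun i => ?_) ?_
    · have : K i = ⊤ := (Subgroup.eq_top_iff' _).mpr fun a => hK i a (by rw [e]; rfl)
      have := hKi i
      rw [‹K i = ⊤›, Subgroup.index_top] at this
      have := hp.two_le
      nlinarith
    · have h0 : Nat.card {a : G // β i a = a} ≤ Nat.card (K i) :=
        Nat.card_le_card_of_injective (fun a => ⟨a.1, hK i a.1 a.2⟩)
          (fun a b h => Subtype.ext (congrArg (fun z : K i => (z : G)) h))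
      have h3 : p * (p * Nat.card (K i)) ≤ p * (Nat.card G / p) := by
        rw [hpG, ← mul_assoc, ← (K i).index_mul_card]
        exact Nat.mul_le_mul_right _ (hKi i)
      have h4 : p * Nat.card (K i) ≤ Nat.card G / p := Nat.le_of_mul_le_mul_left h3 hp.pos
      have h6 := Nat.mul_le_mul_left p h0
      have h5 := (pred_mul_add p (Nat.card G / p) hp.pos).trans hpG
      omega
    · rw [hι, show p * ((p - 1) * (Nat.card G / p)) = (p - 1) * (p * (Nat.card G / p)) by ring, hpG]
  -- centralisers of two elements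
  have hinf : ∀ a b : G, a ∉ (Subgroup.center G) → b ∉ (Subgroup.center G) →
      Subgroup.centralizer ({a} : Set G) ≠ Subgroup.centralizer ({b} : Set G) →
      p * p ≤ (Subgroup.centralizer ({a} : Set G) ⊓ Subgroup.centralizer ({b} : Set G)).index := by
    intro a b ha hb hne
    have h1 := Subgroup.relIndex_mul_index
      (inf_le_left : Subgroup.centralizer ({a} : Set G) ⊓ Subgroup.centralizer ({b} : Set G) ≤ _)
    rw [← h1, hidx a ha]
    refine Nat.mul_le_mul_right _ ?_
    rw [inf_comm, Subgroup.inf_relIndex_right]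
    have h2 : (Subgroup.centralizer ({b} : Set G)).relIndex (Subgroup.centralizer ({a} : Set G)) ≠ 1 := by
      rw [ne_eq, Subgroup.relIndex_eq_one]
      intro hle
      refine hne (Subgroup.eq_of_le_of_card_ge hle ?_)
      have e1 := (Subgroup.centralizer ({a} : Set G)).index_mul_card
      have e2 := (Subgroup.centralizer ({b} : Set G)).index_mul_card
      rw [hidx a ha] at e1
      rw [hidx b hb] at e2
      exact Nat.le_of_mul_le_mul_left (le_of_eq (e2.trans e1.symm)) hp.pos
    obtain ⟨q, hq, hd⟩ := Nat.exists_prime_and_dvd h2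
    have := (Subgroup.centralizer ({b} : Set G)).relIndex_dvd_card (Subgroup.centralizer ({a} : Set G))
    exact (hpm q hq ((hd.trans this).trans (Subgroup.card_subgroup_dvd_card _))).trans
      (Nat.le_of_dvd (Nat.pos_of_dvd_of_pos this Nat.card_pos) hd)
  have hexu : ∀ v : G, v ∉ (Subgroup.center G) → ∃ u : G, u ∉ (Subgroup.center G) ∧
      Subgroup.centralizer ({v} : Set G) ≠ Subgroup.centralizer ({u} : Set G) := by
    intro v hv
    obtain ⟨u, hu⟩ : ∃ u, u ∉ Subgroup.centralizer ({v} : Set G) := by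
      by_contra h
      push Not at h
      exact hv (Subgroup.mem_center_iff.mpr fun a => mem_cent.mp (h a))
    refine ⟨u, fun h => hu (mem_cent.mpr (hzc _ h v).symm), fun e => hu ?_⟩
    rw [e]; exact mem_cent.mpr rfl
  by_cases hcy : ∃ a : G, a ∈ (Subgroup.center G) ∧ a ^ p = 1 ∧ a ∉ Subgroup.zpowers c0
  · -- two independent central elements of order p
    obtain ⟨a, haZ, hap, ha⟩ := hcy
    obtain ⟨u, hu, hne⟩ := hexu v0 hv0
    obtain ⟨f, hf, hoc⟩ := hlog v0 hv0 c0 hvu0 ⟨u0, rfl⟩
    obtain ⟨w0, hw0⟩ : ∃ w : G, ⁅u, w⁆ ≠ 1 := by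
      by_contra h
      push Not at h
      exact hu (Subgroup.mem_center_iff.mpr fun a => ((commutatorElement_eq_one_iff_commute.mp (h a)).eq).symm)
    obtain ⟨f', hf', hoc'⟩ := hlog u hu _ hw0 ⟨w0, rfl⟩
    have hfadd : ∀ (v c : G) (f : G → ℕ), (∀ a, ⁅v, a⁆ = c ^ f a) → orderOf c = p →
        ∀ b : G, b ^ p = 1 → b ∈ (Subgroup.center G) → ∀ x y, b ^ f (x * y) = b ^ f x * b ^ f y := by
      intro v c f hf hoc b hb _ x y
      have h1 : c ^ f (x * y) = c ^ (f x + f y) := by rw [← hf, hcl, hf, hf, pow_add]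
      rw [pow_eq_pow_iff_modEq, hoc] at h1
      rw [← pow_add, pow_eq_pow_iff_modEq]
      exact h1.of_dvd (orderOf_dvd_of_pow_eq_one hb)
    have hzero : ∀ (v c : G) (f : G → ℕ), (∀ a, ⁅v, a⁆ = c ^ f a) → orderOf c = p →
        ∀ x, (p ∣ f x ↔ x ∈ Subgroup.centralizer ({v} : Set G)) := by
      intro v c f hf hoc x
      rw [mem_cent, eq_comm, ← hoc, orderOf_dvd_iff_pow_eq_one, ← hf]
      exact commutatorElement_eq_one_iff_commute
    let φ : Fin p → G → G := fun k x => x * ((a * c0 ^ (k : ℕ)) ^ f x * c0 ^ f' x)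
    have hb : ∀ k : Fin p, (a * c0 ^ (k : ℕ)) ^ p = 1 ∧ a * c0 ^ (k : ℕ) ∈ (Subgroup.center G) := fun k => by
      have hm : c0 ^ (k : ℕ) ∈ (Subgroup.center G) := pow_mem hc0Z _
      refine ⟨?_, mul_mem haZ hm⟩
      rw [(show Commute a (c0 ^ (k : ℕ)) from hzc _ hm a).mul_pow, hap, ← pow_mul, mul_comm, pow_mul,
        hc0p, one_pow, mul_one]
    have hcZ : ∀ k x, (a * c0 ^ ((k : Fin p) : ℕ)) ^ f x * c0 ^ f' x ∈ (Subgroup.center G) := fun k x =>
      mul_mem (pow_mem (hb k).2 _) (pow_mem hc0Z _)
    have hmul : ∀ k x y, φ k (x * y) = φ k x * φ k y := by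
      intro k x y
      show x * y * _ = x * _ * (y * _)
      rw [hfadd v0 c0 f hf hoc _ (hb k).1 (hb k).2, hfadd u _ f' hf' hoc' _ hc0p hc0Z]
      set A := (a * c0 ^ (k : ℕ)) ^ f x
      set A' := (a * c0 ^ (k : ℕ)) ^ f y
      set B := c0 ^ f' x
      set B' := c0 ^ f' y
      have h1 : A' * B = B * A' := hzc B (pow_mem hc0Z _) A'
      calc x * y * (A * A' * (B * B')) = x * (y * (A * B)) * (A' * B') := by
            simp only [mul_assoc]; rw [← mul_assoc A' B, h1, mul_assoc]
        _ = x * ((A * B) * y) * (A' * B') := by rw [hzc _ (hcZ k x) y]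
        _ = _ := by simp only [mul_assoc]
    have hfix : ∀ k x, φ k x = x → x ∈ Subgroup.centralizer ({v0} : Set G) ⊓
        Subgroup.centralizer ({u} : Set G) := by
      intro k x hx
      have h1 : (a * c0 ^ (k : ℕ)) ^ f x * c0 ^ f' x = 1 := mul_eq_left.mp hx
      have hm : c0 ^ (k : ℕ) ∈ (Subgroup.center G) := pow_mem hc0Z _
      rw [(show Commute a (c0 ^ (k : ℕ)) from hzc _ hm a).mul_pow] at h1
      have h2 : a ^ f x ∈ Subgroup.zpowers c0 := by
        rw [mul_assoc, mul_eq_one_iff_eq_inv] at h1
        rw [h1]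
        exact inv_mem (mul_mem (pow_mem (pow_mem (Subgroup.mem_zpowers c0) _) _)
          (pow_mem (Subgroup.mem_zpowers c0) _))
      have h3 : p ∣ f x := by
        by_contra hnd
        refine ha ?_
        obtain ⟨s, t, hst⟩ : ∃ s t : ℤ, (f x : ℤ) * s + p * t = 1 := by
          have := (Int.isCoprime_iff_nat_coprime.mpr (by
            simpa using (hp.coprime_iff_not_dvd.mpr hnd).symm) : IsCoprime (f x : ℤ) p)
          obtain ⟨s, t, h⟩ := this
          exact ⟨s, t, by linarith⟩
        have : a = (a ^ f x) ^ s * (a ^ p) ^ t := by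
          rw [← zpow_natCast a (f x), ← zpow_natCast a p, ← zpow_mul, ← zpow_mul, ← zpow_add, hst, zpow_one]
        rw [this, hap, one_zpow, mul_one]
        exact zpow_mem h2 s
      refine Subgroup.mem_inf.mpr ⟨(hzero v0 c0 f hf hoc x).mp h3, (hzero u _ f' hf' hoc' x).mp ?_⟩
      obtain ⟨d, hd⟩ := h3
      rw [hd, pow_mul, hap, one_pow, one_mul, ← pow_mul, mul_comm (k : ℕ), mul_assoc p, pow_mul,
        hc0p, one_pow, one_mul, ← orderOf_dvd_iff_pow_eq_one, hoc] at h1
      exact h1
    have hbij : ∀ k, Function.Bijective (φ k) := by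
      intro k
      refine Finite.injective_iff_bijective.mp fun x y hxy => ?_
      set ψ := MonoidHom.mk' (φ k) (hmul k)
      have h1 : ψ (x * y⁻¹) = 1 := by
        show ψ _ = _
        rw [map_mul, map_inv, show ψ x = ψ y from hxy, mul_inv_cancel]
      have h1' : φ k (x * y⁻¹) = 1 := h1
      have h2 : x * y⁻¹ ∈ (Subgroup.center G) := by
        have : x * y⁻¹ = ((a * c0 ^ (k : ℕ)) ^ f (x * y⁻¹) * c0 ^ f' (x * y⁻¹))⁻¹ :=
          mul_eq_one_iff_eq_inv.mp h1'
        rw [this]
        exact inv_mem (hcZ k _)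
      have hz1 : ∀ (v c : G) (f : G → ℕ), (∀ a, ⁅v, a⁆ = c ^ f a) → orderOf c = p →
          p ∣ f (x * y⁻¹) := fun v c f hf hoc =>
        (hzero v c f hf hoc _).mpr (mem_cent.mpr (hzc _ h2 v).symm)
      obtain ⟨d, hd⟩ := hz1 v0 c0 f hf hoc
      obtain ⟨d', hd'⟩ := hz1 u _ f' hf' hoc'
      have h3 : φ k (x * y⁻¹) = x * y⁻¹ := by
        show x * y⁻¹ * _ = _
        rw [hd, hd', pow_mul, (hb k).1, pow_mul, hc0p]
        simp
      rw [h3] at h1'
      exact mul_inv_eq_one.mp h1'
    choose β hβ using fun k => ext_hom_ne_one (φ k) (hmul k) (hbij k)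
    refine hfinish (Fin p) β (fun _ => Subgroup.centralizer ({v0} : Set G) ⊓
      Subgroup.centralizer ({u} : Set G)) (Nat.card_fin p) ?_
      (fun k x hx => hfix k x (by rw [← hβ k x]; exact hx)) (fun _ => hinf v0 u hv0 hu hne)
    intro k l hkl
    have h1 : φ k u0 = φ l u0 := by rw [← hβ k, ← hβ l, hkl]
    have h2 : c0 ^ 1 = c0 ^ f u0 := by rw [pow_one, ← hf]
    rw [pow_eq_pow_iff_modEq, hoc] at h2
    have h3 : ∀ b : G, b ^ p = 1 → b ^ f u0 = b := fun b hb' =>
      (pow_eq_pow_iff_modEq.mpr (h2.symm.of_dvd (orderOf_dvd_of_pow_eq_one hb'))).trans (pow_one b)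
    have h4 : a * c0 ^ (k : ℕ) = a * c0 ^ (l : ℕ) := by
      have := mul_right_cancel (mul_left_cancel h1)
      rwa [h3 _ (hb k).1, h3 _ (hb l).1] at this
    exact Fin.ext (pow_injOn_Iio_orderOf (show (k : ℕ) < orderOf c0 by omega)
      (show (l : ℕ) < orderOf c0 by omega) (mul_left_cancel h4))
  · -- the p-part of the centre is cyclic
    push Not at hcy
    have hoc : orderOf c0 = p := orderOf_eq_prime hc0p hvu0
    have hin : ∀ v w : G, ∃ i : ℕ, ⁅v, w⁆ = c0 ^ i := by
      intro v w
      have h1 : ⁅v, w⁆ ^ p = 1 := by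
        have h2 : ∀ n : ℕ, ⁅v, w⁆ ^ n = ⁅v, w ^ n⁆ := by
          intro n
          induction n with
          | zero => simp
          | succ n ih => rw [pow_succ, pow_succ, hcl, ih]
        rw [h2, commutatorElement_eq_one_iff_commute]
        exact hzc _ (hpow w) v
      obtain ⟨i, hi⟩ := (mem_powers_iff_mem_zpowers).mpr (hcy _ (hcom v w) h1)
      exact ⟨i, hi.symm⟩
    let P : Subgroup (Subgroup.center G) := (powMonoidHom p : (Subgroup.center G) →* (Subgroup.center G)).range
    have hP : P.index ≤ p := by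
      let pw : (Subgroup.center G) →* (Subgroup.center G) := powMonoidHom p
      have h0 : P.index = Nat.card pw.ker := by
        have e1 := P.index_mul_card
        have e2 := pw.ker.index_mul_card
        rw [Subgroup.index_ker] at e2
        rw [← e2, mul_comm] at e1
        exact Nat.eq_of_mul_eq_mul_left Nat.card_pos e1
      rw [h0, ← hoc, ← Nat.card_zpowers]
      exact Nat.card_le_card_of_injective (fun z => ⟨((z : (Subgroup.center G)) : G), hcy _ (z : (Subgroup.center G)).2
        (congrArg Subtype.val (z.2 : (z : (Subgroup.center G)) ^ p = 1))⟩)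
        (fun s t h => Subtype.ext (Subtype.ext (congrArg (fun r : Subgroup.zpowers c0 => (r : G)) h)))
    -- a non-central element with a trivial obstruction
    obtain ⟨v, hv, z, hz, hvz⟩ : ∃ v : G, v ∉ (Subgroup.center G) ∧ ∃ z ∈ (Subgroup.center G), v ^ p * c0 ^ p.choose 2 * z ^ p = 1 := by
      let θ : G → (Subgroup.center G) ⧸ P := fun x => ((⟨x ^ p * c0 ^ p.choose 2,
        mul_mem (hpow x) (pow_mem hc0Z _)⟩ : (Subgroup.center G)) : (Subgroup.center G) ⧸ P)
      suffices h : ∃ v : G, v ∉ (Subgroup.center G) ∧ θ v = 1 by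
        obtain ⟨v, hv, hθ⟩ := h
        obtain ⟨z, hz⟩ := (QuotientGroup.eq_one_iff _).mp hθ
        refine ⟨v, hv, (z : G)⁻¹, inv_mem z.2, ?_⟩
        have hz' : (z : G) ^ p = v ^ p * c0 ^ p.choose 2 := congrArg Subtype.val hz
        rw [inv_pow, ← hz', mul_inv_cancel]
      have hmulθ : ∀ x y : G, ⁅y, x⁆ ≠ 1 → θ (y * x) = θ y * θ x := by
        intro x y hxy
        have hexp : ∀ n : ℕ, (y * x) ^ n * ⁅y, x⁆ ^ n.choose 2 = y ^ n * x ^ n := by
          have hswap : ∀ n : ℕ, y ^ n * x = x * y ^ n * ⁅y, x⁆ ^ n := by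
            intro n
            induction n with
            | zero => simp
            | succ n ih =>
              have e : y * x = x * y * ⁅y, x⁆ := by
                rw [hzc _ (hcom y x) (x * y), commutatorElement_def]; group
              rw [pow_succ', mul_assoc, ih, ← mul_assoc y, ← mul_assoc y, e,
                mul_assoc (x * y), ← hzc _ (hcom y x) (y ^ n), pow_succ']
              simp only [mul_assoc]
          intro n
          induction n with
          | zero => simp
          | succ n ih =>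
            rw [Nat.choose_succ_succ, Nat.choose_one_right, pow_succ (y * x), pow_add ⁅y, x⁆]
            have hd : ∀ m : ℕ, ⁅y, x⁆ ^ m ∈ (Subgroup.center G) := fun m => pow_mem (hcom y x) m
            calc (y * x) ^ n * (y * x) * (⁅y, x⁆ ^ n * ⁅y, x⁆ ^ n.choose 2)
                = (y * x) ^ n * ⁅y, x⁆ ^ n.choose 2 * (y * x) * ⁅y, x⁆ ^ n := by
                  rw [mul_assoc _ (⁅y, x⁆ ^ n.choose 2) (y * x), ← hzc _ (hd _) (y * x)]
                  simp only [mul_assoc]
                  rw [hzc _ (hd n) (⁅y, x⁆ ^ n.choose 2)]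
              _ = y ^ n * (x ^ n * y * ⁅y, x⁆ ^ n) * x := by
                  rw [ih]
                  simp only [mul_assoc]
                  rw [hzc _ (hd n) x]
              _ = _ := by
                  have e2 : x ^ n * y * ⁅y, x⁆ ^ n = y * x ^ n := by
                    clear ih
                    induction n with
                    | zero => simp
                    | succ m ihm =>
                      have e : y * x = x * y * ⁅y, x⁆ := by
                        rw [hzc _ (hcom y x) (x * y), commutatorElement_def]; group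
                      rw [pow_succ x, ← mul_assoc y, ← ihm, pow_succ ⁅y, x⁆]
                      calc x ^ m * x * y * (⁅y, x⁆ ^ m * ⁅y, x⁆)
                          = x ^ m * (x * y * ⁅y, x⁆) * ⁅y, x⁆ ^ m := by
                            rw [hzc _ (hcom y x) (⁅y, x⁆ ^ m)]; simp only [mul_assoc]
                        _ = x ^ m * (y * x) * ⁅y, x⁆ ^ m := by rw [← e]
                        _ = x ^ m * y * ⁅y, x⁆ ^ m * x := by
                            simp only [mul_assoc]; rw [hzc _ (hd m) x]
                  rw [e2, pow_succ y, pow_succ x]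
                  simp only [mul_assoc]
        obtain ⟨i, hi⟩ := hin y x
        have hC : ⁅y, x⁆ ^ p.choose 2 = c0 ^ p.choose 2 := by
          rcases hp.eq_two_or_odd with rfl | hodd
          · rw [hi]
            simp only [Nat.choose_self, pow_one]
            conv_rhs => rw [← pow_one c0]
            rw [pow_eq_pow_iff_modEq, hoc, Nat.ModEq]
            rcases Nat.mod_two_eq_zero_or_one i with h | h
            · exfalso
              apply hxy
              rw [hi, ← Nat.div_add_mod i 2, h, add_zero, pow_mul, hc0p, one_pow]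
            · rw [h]
          · have hd : p ∣ p.choose 2 := hp.dvd_choose_self two_ne_zero (by
              have := hp.two_le; omega)
            obtain ⟨d, hd⟩ := hd
            rw [hi, hd, pow_mul c0 p, hc0p, one_pow, ← pow_mul, mul_comm i, mul_assoc, pow_mul,
              hc0p, one_pow]
        have := hexp p
        rw [hC] at this
        show ((_ : (Subgroup.center G)) : (Subgroup.center G) ⧸ P) = ((_ : (Subgroup.center G)) : (Subgroup.center G) ⧸ P) * ((_ : (Subgroup.center G)) : (Subgroup.center G) ⧸ P)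
        rw [← QuotientGroup.mk_mul]
        congr 1
        apply Subtype.ext
        show (y * x) ^ p * c0 ^ p.choose 2 = y ^ p * c0 ^ p.choose 2 * (x ^ p * c0 ^ p.choose 2)
        calc _ = (y * x) ^ p * c0 ^ p.choose 2 * c0 ^ p.choose 2 * (c0 ^ p.choose 2)⁻¹ := by group
          _ = y ^ p * x ^ p * c0 ^ p.choose 2 * (c0 ^ p.choose 2)⁻¹ := by
              rw [this]
          _ = y ^ p * x ^ p * (c0 ^ p.choose 2 * c0 ^ p.choose 2) := by
              rw [mul_inv_cancel_right]
              have h2 : c0 ^ p.choose 2 * c0 ^ p.choose 2 = 1 := by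
                rcases hp.eq_two_or_odd with rfl | hodd
                · simpa [Nat.choose_self, pow_two] using hc0p
                · obtain ⟨d, hd⟩ := hp.dvd_choose_self two_ne_zero (show 2 < p by
                    have := hp.two_le; omega)
                  rw [hd, pow_mul, hc0p, one_pow, mul_one]
              rw [h2, mul_one]
          _ = _ := by
              simp only [mul_assoc]
              rw [← mul_assoc (x ^ p), ← mul_assoc (c0 ^ p.choose 2), hzc _ (pow_mem hc0Z _) (x ^ p)]
      by_contra hno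
      push Not at hno
      -- powers of x times y cannot all have non-trivial image
      have hv0' : ⁅v0, u0⁆ ≠ 1 := hvu0
      have hu0 : u0 ∉ (Subgroup.center G) := fun h => hvu0 (commutatorElement_eq_one_iff_commute.mpr (hzc _ h v0))
      have hstep : ∀ k : ℕ, ⁅v0 * u0 ^ k, u0⁆ = c0 := by
        intro k
        rw [hc0]
        simp only [commutatorElement_def]
        group
      have hk : ∀ k : ℕ, θ (v0 * u0 ^ k) = θ v0 * θ u0 ^ k := by
        intro k
        induction k with
        | zero => simp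
        | succ k ih =>
          rw [pow_succ, ← mul_assoc, hmulθ _ _ (by rw [hstep]; exact hvu0), ih, pow_succ, mul_assoc]
      have hne : ∀ k : ℕ, θ v0 * θ u0 ^ k ≠ 1 := fun k => by
        rw [← hk]
        exact hno _ fun h => hvu0 (by
          rw [← hstep k]
          exact commutatorElement_eq_one_iff_commute.mpr (hzc _ h u0).symm)
      have hQp : ∀ r : (Subgroup.center G) ⧸ P, r ^ p = 1 := by
        intro r
        obtain ⟨r, rfl⟩ := QuotientGroup.mk_surjective r
        rw [← QuotientGroup.mk_pow, QuotientGroup.eq_one_iff]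
        exact ⟨r, rfl⟩
      have ho : orderOf (θ u0) = p := orderOf_eq_prime (hQp _) (hno _ hu0)
      have htop : θ v0 ∈ Subgroup.zpowers (θ u0) := by
        have : Subgroup.zpowers (θ u0) = ⊤ := by
          apply Subgroup.eq_top_of_le_card
          rw [Nat.card_zpowers, ho, ← Subgroup.index_eq_card]
          exact hP
        rw [this]; exact Subgroup.mem_top _
      obtain ⟨k, hk'⟩ := mem_powers_iff_mem_zpowers.mpr (inv_mem htop)
      exact hne k (by simp only at hk'; rw [hk', mul_inv_cancel])
    obtain ⟨wv, hwv⟩ : ∃ w : G, ⁅v, w⁆ ≠ 1 := by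
      by_contra h
      push Not at h
      exact hv (Subgroup.mem_center_iff.mpr fun a => ((commutatorElement_eq_one_iff_commute.mp (h a)).eq).symm)
    choose f hf using hin v
    have hzero : ∀ x, (p ∣ f x ↔ x ∈ Subgroup.centralizer ({v} : Set G)) := by
      intro x
      rw [mem_cent, eq_comm, ← hoc, orderOf_dvd_iff_pow_eq_one, ← hf]
      exact commutatorElement_eq_one_iff_commute
    let Φ : ℕ → G := fun s => v ^ s * (c0 ^ s.choose 2 * z ^ s)
    have hZs : ∀ s : ℕ, c0 ^ s.choose 2 * z ^ s ∈ (Subgroup.center G) := fun s => mul_mem (pow_mem hc0Z _) (pow_mem hz _)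
    have hvp : ∀ s : ℕ, v ^ (s + p) * (c0 ^ (s + p).choose 2 * z ^ (s + p)) = Φ s := by
      intro s
      have h1 : (s + p).choose 2 = s.choose 2 + s * p + p.choose 2 := by
        exact choose_two_add _ _
      have hcc : Commute (z ^ s) (c0 ^ p.choose 2) := hzc _ (pow_mem hc0Z _) _
      calc _ = v ^ s * (v ^ p * (c0 ^ s.choose 2 * (c0 ^ p.choose 2 * (z ^ s * z ^ p)))) := by
            rw [h1, pow_add v, pow_add z, pow_add, pow_add, mul_comm s p, pow_mul c0 p, hc0p, one_pow, mul_one]
            simp only [mul_assoc]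
        _ = v ^ s * (c0 ^ s.choose 2 * z ^ s) * (v ^ p * c0 ^ p.choose 2 * z ^ p) := by
            rw [← mul_assoc (v ^ p) (c0 ^ s.choose 2), hzc _ (pow_mem hc0Z _) (v ^ p)]
            simp only [mul_assoc]
            rw [← mul_assoc (z ^ s) (v ^ p), ← hzc _ (pow_mem hz s) (v ^ p), mul_assoc (v ^ p) (z ^ s),
              ← mul_assoc (z ^ s) (c0 ^ p.choose 2), hcc.eq]
            simp only [mul_assoc]
        _ = Φ s := by rw [hvz, mul_one]
    have hΦmod : ∀ s : ℕ, Φ s = Φ (s % p) := by
      intro s
      induction s using Nat.strong_induction_on with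
      | _ s ih =>
        rcases lt_or_ge s p with h | h
        · rw [Nat.mod_eq_of_lt h]
        · obtain ⟨t, rfl⟩ := Nat.exists_eq_add_of_le' h
          rw [show Φ (t + p) = Φ t from hvp t, ih t (by have := hp.pos; omega), Nat.add_mod_right]
    have hΦcong : ∀ s t : ℕ, c0 ^ s = c0 ^ t → Φ s = Φ t := by
      intro s t h
      rw [pow_eq_pow_iff_modEq, hoc] at h
      rw [hΦmod s, hΦmod t, show s % p = t % p from h]
    let ψ : G → G := fun x => x * Φ (f x)
    have hmul : ∀ x y, ψ (x * y) = ψ x * ψ y := by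
      intro x y
      have hsw : ∀ i : ℕ, v ^ i * y = y * v ^ i * c0 ^ (i * f y) := by
        intro i
        induction i with
        | zero => simp
        | succ i ih =>
          have e : v * y = y * v * c0 ^ f y := by
            rw [← hf, hzc _ (hcom v y) (y * v), commutatorElement_def]; group
          calc v ^ (i + 1) * y = v * (v ^ i * y) := by rw [pow_succ', mul_assoc]
            _ = (v * y) * v ^ i * c0 ^ (i * f y) := by rw [ih]; simp only [mul_assoc]
            _ = y * v * (c0 ^ f y * v ^ i) * c0 ^ (i * f y) := by rw [e]; simp only [mul_assoc]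
            _ = y * (v * v ^ i) * (c0 ^ f y * c0 ^ (i * f y)) := by
                rw [← hzc _ (pow_mem hc0Z _) (v ^ i)]; simp only [mul_assoc]
            _ = _ := by rw [← pow_succ', ← pow_add, Nat.succ_mul, add_comm (f y)]
      have hfxy : c0 ^ f (x * y) = c0 ^ (f x + f y) := by rw [← hf, hcl, hf, hf, pow_add]
      show x * y * Φ (f (x * y)) = x * Φ (f x) * (y * Φ (f y))
      rw [hΦcong _ _ hfxy]
      set a := f x
      set b := f y
      have hch : (a + b).choose 2 = a.choose 2 + a * b + b.choose 2 := by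
        exact choose_two_add _ _
      show x * y * (v ^ (a + b) * (c0 ^ (a + b).choose 2 * z ^ (a + b))) =
        x * (v ^ a * (c0 ^ a.choose 2 * z ^ a)) * (y * (v ^ b * (c0 ^ b.choose 2 * z ^ b)))
      symm
      calc _ = x * (v ^ a * y) * (v ^ b * ((c0 ^ a.choose 2 * z ^ a) * (c0 ^ b.choose 2 * z ^ b))) := by
            set Wa := c0 ^ a.choose 2 * z ^ a
            set Wb := c0 ^ b.choose 2 * z ^ b
            simp only [mul_assoc]
            rw [← mul_assoc Wa y, ← hzc _ (hZs a) y, mul_assoc y Wa, ← mul_assoc Wa (v ^ b),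
              ← hzc _ (hZs a) (v ^ b), mul_assoc (v ^ b)]
        _ = x * (y * v ^ a * v ^ b) * (c0 ^ (a * b) *
              ((c0 ^ a.choose 2 * z ^ a) * (c0 ^ b.choose 2 * z ^ b))) := by
            rw [hsw a]
            simp only [mul_assoc]
            rw [← mul_assoc (c0 ^ (a * b)) (v ^ b), ← hzc _ (pow_mem hc0Z _) (v ^ b)]
            simp only [mul_assoc]
        _ = _ := by
            rw [hch, pow_add c0, pow_add c0, pow_add z]
            have e1 : z ^ a * c0 ^ b.choose 2 = c0 ^ b.choose 2 * z ^ a := hzc _ (pow_mem hc0Z _) _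
            have e2 : c0 ^ a.choose 2 * c0 ^ (a * b) = c0 ^ (a * b) * c0 ^ a.choose 2 :=
              pow_mul_comm c0 _ _
            rw [pow_add v, e2]
            simp only [mul_assoc]
            rw [← mul_assoc (z ^ a) (c0 ^ b.choose 2), e1]
            simp only [mul_assoc]
    have hψfix : ∀ x, ψ x * x⁻¹ ∈ (Subgroup.center G) → p ∣ f x := by
      intro x hx
      by_contra hnd
      have h1 : x * (v ^ f x) * x⁻¹ ∈ (Subgroup.center G) := by
        have e : ψ x * x⁻¹ = x * (v ^ f x) * x⁻¹ * (c0 ^ (f x).choose 2 * z ^ f x) := by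
          show x * (v ^ f x * _) * x⁻¹ = _
          rw [← mul_assoc x, mul_assoc _ _ x⁻¹, ← hzc _ (hZs _) x⁻¹]
          simp only [mul_assoc]
        rw [e] at hx
        exact ((Subgroup.center G).mul_mem_cancel_right (hZs _)).mp hx
      have h2 : v ^ f x ∈ (Subgroup.center G) := by
        have := (Subgroup.center G).normal_of_characteristic.conj_mem _ h1 x⁻¹
        simpa [mul_assoc] using this
      apply hv
      obtain ⟨s, t, hst⟩ : ∃ s t : ℤ, (f x : ℤ) * s + p * t = 1 := by
        have := (Int.isCoprime_iff_nat_coprime.mpr (by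
          simpa using (hp.coprime_iff_not_dvd.mpr hnd).symm) : IsCoprime (f x : ℤ) p)
        obtain ⟨s, t, h⟩ := this
        exact ⟨s, t, by linarith⟩
      have : v = (v ^ f x) ^ s * (v ^ p) ^ t := by
        rw [← zpow_natCast v (f x), ← zpow_natCast v p, ← zpow_mul, ← zpow_mul, ← zpow_add, hst, zpow_one]
      rw [this]
      exact mul_mem (zpow_mem h2 s) (zpow_mem (hpow v) t)
    have hΦ0 : ∀ x, p ∣ f x → ψ x = x := by
      intro x hx
      show x * Φ (f x) = x
      rw [hΦmod, Nat.mod_eq_zero_of_dvd hx]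
      simp [Φ]
    have hψbij : Function.Bijective ψ := by
      refine Finite.injective_iff_bijective.mp fun x y hxy => ?_
      set ψ' := MonoidHom.mk' ψ hmul
      have h1 : ψ (x * y⁻¹) = 1 := by
        show ψ' _ = _
        rw [map_mul, map_inv, show ψ' x = ψ' y from hxy, mul_inv_cancel]
      have h3 : x * y⁻¹ ∈ Subgroup.centralizer ({v} : Set G) := by
        have e : (x * y⁻¹) = (Φ (f (x * y⁻¹)))⁻¹ := mul_eq_one_iff_eq_inv.mp h1
        rw [e]
        exact inv_mem (mul_mem (pow_mem (mem_cent.mpr rfl) _) (mem_cent.mpr (hzc _ (hZs _) v).symm))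
      have h4 := hΦ0 _ ((hzero _).mpr h3)
      rw [h4] at h1
      exact mul_inv_eq_one.mp h1
    obtain ⟨α, hα⟩ := ext_hom_ne_one ψ hmul hψbij
    obtain ⟨u, hu, hne⟩ := hexu v hv
    have huk : ∀ k : ℕ, u * v ^ k ∉ (Subgroup.center G) ∧
        Subgroup.centralizer ({v} : Set G) ≠ Subgroup.centralizer ({u * v ^ k} : Set G) := by
      intro k
      have key : ¬ Subgroup.centralizer ({v} : Set G) ≤ Subgroup.centralizer ({u * v ^ k} : Set G) := by
        intro hle
        have h' : Subgroup.centralizer ({v} : Set G) ≤ Subgroup.centralizer ({u} : Set G) := by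
          intro a ha
          have h1 : Commute a (u * v ^ k) := mem_cent.mp (hle ha)
          have h2 : Commute a (v ^ k) := (show Commute a v from mem_cent.mp ha).pow_right k
          have h3 := h1.mul_right h2.inv_right
          rw [mul_inv_cancel_right] at h3
          exact mem_cent.mpr h3.eq
        refine hne (Subgroup.eq_of_le_of_card_ge h' ?_)
        have e1 := (Subgroup.centralizer ({v} : Set G)).index_mul_card
        have e2 := (Subgroup.centralizer ({u} : Set G)).index_mul_card
        rw [hidx v hv] at e1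
        rw [hidx u hu] at e2
        exact Nat.le_of_mul_le_mul_left (le_of_eq (e2.trans e1.symm)) hp.pos
      exact ⟨fun h => key fun a _ => mem_cent.mpr (hzc _ h a), fun e => key e.le⟩
    refine hfinish (Fin p) (fun k => MulAut.conj (u * v ^ (k : ℕ)) * α)
      (fun k => Subgroup.centralizer ({v} : Set G) ⊓ Subgroup.centralizer ({u * v ^ (k : ℕ)} : Set G))
      (Nat.card_fin p) ?_ (fun k x hx => ?_) (fun k => hinf v _ hv (huk k).1 (huk k).2)
    · intro k l hkl
      have h1 : MulAut.conj (u * v ^ (k : ℕ)) = MulAut.conj (u * v ^ (l : ℕ)) := mul_right_cancel hkl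
      have h2 : ∀ a : G, (u * v ^ (k : ℕ)) * a * (u * v ^ (k : ℕ))⁻¹ =
          (u * v ^ (l : ℕ)) * a * (u * v ^ (l : ℕ))⁻¹ := fun a => DFunLike.congr_fun h1 a
      have h3 : (v ^ (k : ℕ))⁻¹ * v ^ (l : ℕ) ∈ (Subgroup.center G) := Subgroup.mem_center_iff.mpr fun a => by
        calc a * ((v ^ (k : ℕ))⁻¹ * v ^ (l : ℕ))
            = (v ^ (k : ℕ))⁻¹ * u⁻¹ * ((u * v ^ (k : ℕ)) * a * (u * v ^ (k : ℕ))⁻¹) * u * v ^ (l : ℕ) := by group
          _ = _ := by rw [h2]; group
      have ho : orderOf (v : G ⧸ (Subgroup.center G)) = p := orderOf_eq_prime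
        (by rw [← QuotientGroup.mk_pow]; exact (QuotientGroup.eq_one_iff _).mpr (hpow v))
        (mt (QuotientGroup.eq_one_iff v).mp hv)
      have h4 : (v : G ⧸ (Subgroup.center G)) ^ (k : ℕ) = (v : G ⧸ (Subgroup.center G)) ^ (l : ℕ) := by
        rw [← QuotientGroup.mk_pow, ← QuotientGroup.mk_pow, QuotientGroup.eq]
        exact h3
      exact Fin.ext (pow_injOn_Iio_orderOf (show (k : ℕ) < orderOf (v : G ⧸ (Subgroup.center G)) by omega)
        (show (l : ℕ) < orderOf (v : G ⧸ (Subgroup.center G)) by omega) h4)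
    · set w := u * v ^ (k : ℕ)
      have h1 : w * ψ x * w⁻¹ = x := by rw [← hα]; exact hx
      have h2 : ψ x = w⁻¹ * x * w := by
        calc ψ x = w⁻¹ * (w * ψ x * w⁻¹) * w := by group
          _ = _ := by rw [h1]
      have h3 : ψ x * x⁻¹ ∈ (Subgroup.center G) := by
        rw [h2, show w⁻¹ * x * w * x⁻¹ = ⁅w⁻¹, x⁆ by simp [commutatorElement_def]]
        exact hcom _ _
      have h4 := hψfix x h3
      refine Subgroup.mem_inf.mpr ⟨(hzero x).mp h4, mem_cent.mpr ?_⟩
      rw [hΦ0 x h4] at h2
      exact (by calc x * w = w * (w⁻¹ * x * w) := by group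
                  _ = w * x := by rw [← h2])
/-- Let G be a finite non-abelian group and p the least prime dividing its order. Then the automorphism group of G has at most #G/p orbits on G. -/
theorem result {G : Type*} [Group G] [Finite G] (hna : ¬ IsMulCommutative G) :
    Nat.card (MulAction.orbitRel.Quotient (MulAut G) G) ≤ Nat.card G / (Nat.card G).minFac := by
  set p := (Nat.card G).minFac with hpd
  have h1 : Nat.card G ≠ 1 := fun e => hna ⟨⟨fun a b => by
    have := (Nat.card_eq_one_iff_unique.mp e).1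
    exact Subsingleton.elim _ _⟩⟩
  have hp : p.Prime := Nat.minFac_prime h1
  have hpm : ∀ q : ℕ, q.Prime → q ∣ Nat.card G → p ≤ q :=
    fun q hq hd => Nat.minFac_le_of_dvd hq.two_le hd
  by_cases h : ∀ x : G, (Subgroup.centralizer ({x} : Set G)).index ≤ p
  · exact small_classes hp hpd hpm hna h
  · push Not at h
    obtain ⟨g, hg⟩ := h
    exact big_class hp hpd hpm hna g hg

end Cfsg.Agent.S4067
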