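import Cfsg.Statements.S4068
import Cfsg.Agent.S0183
import Cfsg.Agent.S0144
import Cfsg.Agent.S0252
import Cfsg.Agent.S1473
import Cfsg.Agent.S2202
import Cfsg.Agent.Lib.PSL2Spectrum
import Mathlib

set_option autoImplicit false
open Cfsg

namespace Cfsg.Agent.S4068

/-- A finite non-solvable group on which its automorphism group has exactly four orbits is isomorphic to the alternating group of degree 5. -/
theorem result {G : Type*} [Group G] [Finite G] (hns : ¬ Group.IsSolvable G)
    (h4 : Nat.card (MulAction.orbitRel.Quotient (MulAut G) G) = 4) : Nonempty (G ≃* alternatingGroup (Fin 5)) := by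
  classical
  haveI : Fact (Nat.Prime 2) := ⟨Nat.prime_two⟩
  have hnt : Nontrivial G := by
    by_contra h
    rw [not_nontrivial_iff_subsingleton] at h
    exact hns inferInstance
  -- the element orders
  let f : MulAction.orbitRel.Quotient (MulAut G) G → ℕ := Quotient.lift (fun g : G => orderOf g) fun a b hab => by
    obtain ⟨φ, rfl⟩ := MulAction.orbitRel_apply.mp hab
    exact φ.orderOf_eq b
  set P := (Nat.card G).primeFactors with hP
  have h3 : 3 ≤ P.card := by
    by_contra hlt
    refine hns ?_
    have hn := Nat.prod_factorization_pow_eq_self (Nat.card_pos (α := G)).ne'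
    rw [Finsupp.prod, Nat.support_factorization] at hn
    rcases (show P.card = 0 ∨ P.card = 1 ∨ P.card = 2 by omega) with h | h | h
    · rw [← hP, Finset.card_eq_zero.mp h, Finset.prod_empty] at hn
      exact absurd hn (Finite.one_lt_card).ne
    · obtain ⟨p, hp⟩ := Finset.card_eq_one.mp h
      have hpp := Nat.prime_of_mem_primeFactors (show p ∈ P by rw [hp]; exact Finset.mem_singleton_self p)
      rw [← hP, hp, Finset.prod_singleton] at hn
      exact Cfsg.Agent.S0144.result p p ((Nat.card G).factorization p) 0 hpp hpp (by rw [pow_zero, mul_one, hn])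
    · obtain ⟨p, q, hpq, hp⟩ := Finset.card_eq_two.mp h
      have hpp := Nat.prime_of_mem_primeFactors (show p ∈ P by rw [hp]; simp)
      have hqq := Nat.prime_of_mem_primeFactors (show q ∈ P by rw [hp]; simp)
      rw [← hP, hp, Finset.prod_pair hpq] at hn
      exact Cfsg.Agent.S0144.result p q _ _ hpp hqq hn.symm
  haveI := Fintype.ofFinite (MulAction.orbitRel.Quotient (MulAut G) G)
  have hsub : insert 1 P ⊆ Finset.univ.image f := by
    intro m hm
    rw [Finset.mem_image]
    rcases Finset.mem_insert.mp hm with rfl | hm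
    · exact ⟨Quotient.mk'' 1, Finset.mem_univ _, orderOf_one⟩
    · haveI := Fact.mk (Nat.prime_of_mem_primeFactors hm)
      obtain ⟨g, hg⟩ := exists_prime_orderOf_dvd_card' (G := G) m (Nat.dvd_of_mem_primeFactors hm)
      exact ⟨Quotient.mk'' g, Finset.mem_univ _, hg⟩
  have himg : insert 1 P = Finset.univ.image f := by
    refine Finset.eq_of_subset_of_card_le hsub (Finset.card_image_le.trans ?_)
    rw [Finset.card_univ, ← Nat.card_eq_fintype_card, h4,
      Finset.card_insert_of_notMem (fun h => Nat.not_prime_one (Nat.prime_of_mem_primeFactors h))]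
    have := congrArg Finset.card hP
    omega
  have hord : ∀ g : G, g ≠ 1 → (orderOf g).Prime := fun g hg => by
    have hm : orderOf g ∈ insert 1 P := himg ▸ Finset.mem_image.mpr ⟨Quotient.mk'' g, Finset.mem_univ _, rfl⟩
    rcases Finset.mem_insert.mp hm with h | h
    · exact absurd (orderOf_eq_one_iff.mp h) hg
    · exact Nat.prime_of_mem_primeFactors h
  -- centralisers
  have hcent : ∀ x : G, x ≠ 1 → ∀ c : G, c * x = x * c → c ^ orderOf x = 1 := by
    intro x hx c hc
    by_cases hc1 : c = 1
    · rw [hc1, one_pow]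
    have hp := hord x hx
    have hq := hord c hc1
    by_contra hne
    have hco : (orderOf c).Coprime (orderOf x) := (Nat.coprime_primes hq hp).mpr fun e => hne (e ▸ pow_orderOf_eq_one c)
    have ho := (show Commute c x from hc).orderOf_mul_eq_mul_orderOf_of_coprime hco
    have h1 : c * x ≠ 1 := fun e => by
      rw [e, orderOf_one] at ho
      exact hp.ne_one (Nat.eq_one_of_mul_eq_one_left ho.symm)
    exact Nat.not_prime_mul hq.ne_one hp.ne_one (ho ▸ hord _ h1)
  have hCN : Cfsg.IsCNGroup G := fun x hx => by
    haveI := Fact.mk (hord x hx)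
    have hp : IsPGroup (orderOf x) (Subgroup.centralizer ({x} : Set G)) := fun c =>
      ⟨1, Subtype.ext (by rw [pow_one]; exact hcent x hx c (Subgroup.mem_centralizer_singleton_iff.mp c.2))⟩
    exact hp.isNilpotent
  have hev : Even (Nat.card G) := by
    by_contra h
    exact hns (Cfsg.Agent.S0183.result (Nat.not_even_iff_odd.mp h) hCN)
  have hsq : ∀ t : G, orderOf t = 2 → ∀ c : G, c * t = t * c → c * c = 1 := fun t ht c hc => by
    rw [← pow_two, ← ht]
    exact hcent t (fun e => by rw [e, orderOf_one] at ht; omega) c hc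
  have hab : ∀ t : G, orderOf t = 2 → IsMulCommutative ↥(Subgroup.centralizer ({t} : Set G)) := by
    intro t ht
    refine ⟨⟨fun a b => ?_⟩⟩
    have h : ∀ c : Subgroup.centralizer ({t} : Set G), c⁻¹ = c := fun c => inv_eq_of_mul_eq_one_right
      (Subtype.ext (hsq t ht c (Subgroup.mem_centralizer_singleton_iff.mp c.2)))
    calc a * b = (a * b)⁻¹ := (h _).symm
      _ = b * a := by rw [mul_inv_rev, h, h]
  rcases Cfsg.Agent.S2202.result hev hab with h | h | ⟨F, iF, iFt, A, iA, iAf, iC, hAodd, ⟨e⟩⟩
  · exfalso
    obtain ⟨T⟩ : Nonempty (Sylow 2 G) := inferInstance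
    haveI := h T
    have hmin : (Nat.card G).minFac = 2 := (Nat.minFac_eq_two_iff _).mpr hev.two_dvd
    have hle := IsCyclic.normalizer_le_centralizer (P := T) hmin (h T)
    have hK := MonoidHom.ker_transferSylow_isComplement' T hle
    set K := (MonoidHom.transferSylow T hle).ker
    have hKodd : Odd (Nat.card K) := by
      rw [← hK.index_eq_card, Nat.odd_iff, ← Nat.two_dvd_ne_zero]
      exact T.not_dvd_index
    haveI : Group.IsSolvable K :=
      Cfsg.Agent.S0183.result hKodd (CfsgLib.CN.isCN_subgroup hCN K)
    haveI : Group.IsSolvable (T : Subgroup G) := by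
      exact Group.isSolvable_of_comm fun a b => @mul_comm _ (IsCyclic.commGroup (α := (T : Subgroup G))).toCommMonoid.toCommSemigroup.toCommMagma a b
    exact hns (Group.isSolvable_of_ker_le_range K.subtype (MonoidHom.transferSylow T hle)
      (by rw [Subgroup.range_subtype]))
  · exfalso
    obtain ⟨T⟩ : Nonempty (Sylow 2 G) := inferInstance
    haveI := h T
    haveI hTs : Group.IsSolvable (T : Subgroup G) := by
      haveI := T.2.isNilpotent
      exact inferInstance
    have hodd : Odd (Nat.card (G ⧸ (T : Subgroup G))) := by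
      rw [Nat.odd_iff, ← Nat.two_dvd_ne_zero]
      exact T.not_dvd_index
    haveI := Cfsg.Agent.S0183.result hodd (Cfsg.Agent.S1473.result hCN (T : Subgroup G) hTs)
    exact hns (Group.isSolvable_of_ker_le_range (T : Subgroup G).subtype (QuotientGroup.mk' (T : Subgroup G))
      (by rw [QuotientGroup.ker_mk', Subgroup.range_subtype]))
  haveI hA : Subsingleton A := by
    refine ⟨fun a b => ?_⟩
    suffices h : ∀ a : A, a = 1 by rw [h a, h b]
    intro a
    obtain ⟨t, ht⟩ := exists_prime_orderOf_dvd_card' (G := G) 2 hev.two_dvd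
    have hc := hsq t ht (e.symm (1, a)) (e.injective (by
      rw [map_mul, map_mul, e.apply_symm_apply]
      exact Prod.ext (by simp) (mul_comm _ _)))
    rw [← map_mul, MulEquiv.symm_apply_eq, map_one] at hc
    have h2 : a ^ 2 = 1 := (pow_two a).trans (congrArg Prod.snd hc)
    refine orderOf_eq_one_iff.mp (Nat.eq_one_of_dvd_coprimes ?_ (orderOf_dvd_of_pow_eq_one h2) (orderOf_dvd_natCard a))
    exact (Nat.coprime_two_left.mpr hAodd)
  letI : Unique A := uniqueOfSubsingleton 1
  let e' : G ≃* Matrix.SpecialLinearGroup (Fin 2) F := e.trans MulEquiv.prodUnique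
  haveI : Finite F := Finite.of_fintype F
  obtain ⟨n, -, hn⟩ := FiniteField.card F 2
  have hprime : ∀ m, (∃ g : Matrix.SpecialLinearGroup (Fin 2) F, orderOf g = m) → m = 1 ∨ m.Prime := by
    rintro m ⟨g, rfl⟩
    by_cases hg : g = 1
    · exact Or.inl (by rw [hg, orderOf_one])
    · right
      rw [← e'.symm.orderOf_eq]
      exact hord _ fun h => hg (e'.symm.injective (h.trans (map_one _).symm))
  have hq : Fintype.card F = 4 := by
    have h1 := hprime _ CfsgLib.PSL2Spectrum.exists_orderOf_card_sub_one
    have h2 := hprime _ (CfsgLib.NonSplitTorus.exists_orderOf_card_add_one (F := F) 2)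
    set q := Fintype.card F with hqdef
    have h2q : 2 ≤ q := Fintype.one_lt_card
    have hq3 : ¬ 3 ∣ q := fun h => by
      rw [hn] at h
      have h' := (Nat.prime_dvd_prime_iff_eq Nat.prime_three Nat.prime_two).mp (Nat.prime_three.dvd_of_dvd_pow h)
      omega
    by_cases hq2 : q = 2
    · exfalso
      have h6 : Nat.card G = 2 ^ 1 * 3 ^ 1 := by
        rw [Nat.card_congr e'.toEquiv, CfsgLib.SLCard.card_SL_two, ← hqdef, hq2]
        norm_num
      exact hns (Cfsg.Agent.S0144.result 2 3 1 1 Nat.prime_two Nat.prime_three h6)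
    rcases (show 3 ∣ q - 1 ∨ 3 ∣ q + 1 by omega) with h | h
    · rcases h1 with e1 | e1
      · omega
      · have := (Nat.prime_dvd_prime_iff_eq Nat.prime_three e1).mp h
        omega
    · rcases h2 with e1 | e1
      · omega
      · have := (Nat.prime_dvd_prime_iff_eq Nat.prime_three e1).mp h
        omega
  obtain ⟨i⟩ := Cfsg.Agent.S0252.result hq
  exact ⟨e'.trans (CfsgLib.PrimeGraphExt.pslEquiv.symm.trans i)⟩

end Cfsg.Agent.S4068
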