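import Cfsg.Statements.S4070
import Cfsg.Agent.Lib.VecStab.Odd

set_option autoImplicit false
open Cfsg

namespace Cfsg.Agent.S4070

open MulAction CfsgLib.OddBase CfsgLib.VecStab

/-- Let G be a finite solvable group acting faithfully by additive automorphisms on a finite vector space V over the field with p elements, completely reducibly (every G-invariant subspace has a G-invariant complement). Then some vector v ∈ V has stabilizer C_G(v) of derived length at most 9; and if both #G and p are odd, some vector has abelian stabilizer. -/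
theorem result {G V : Type*} [Group G] [Finite G] [Group.IsSolvable G]
    {p : ℕ} [Fact p.Prime] [AddCommGroup V] [Module (ZMod p) V] [Finite V] [DistribMulAction G V] [FaithfulSMul G V]
    (hcr : ∀ W : Submodule (ZMod p) V, (∀ (g : G) (w : V), w ∈ W → g • w ∈ W) →
      ∃ W' : Submodule (ZMod p) V, (∀ (g : G) (w : V), w ∈ W' → g • w ∈ W') ∧ IsCompl W W') :
    (∃ v : V, derivedSeries ↥(MulAction.stabilizer G v) 9 = ⊥) ∧
    (Odd (Nat.card G) → p ≠ 2 → ∃ v : V, IsMulCommutative ↥(MulAction.stabilizer G v)) := by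
  let G' := ULift.{max u_1 u_2} G
  let V' := ULift.{max u_1 u_2} V
  letI : DistribMulAction G' V' :=
    { smul := fun a x => ⟨a.down • x.down⟩
      one_smul := fun x => ULift.ext _ _ (one_smul G x.down)
      mul_smul := fun a b x => ULift.ext _ _ (mul_smul a.down b.down x.down)
      smul_zero := fun a => ULift.ext _ _ (smul_zero a.down)
      smul_add := fun a x y => ULift.ext _ _ (smul_add a.down x.down y.down) }
  let up : G →* G' := (MulEquiv.ulift.symm : G ≃* G').toMonoidHom
  haveI : Group.IsSolvable G' := Group.isSolvable_of_surjective (f := up) MulEquiv.ulift.symm.surjective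
  let f : V →+ V' := { toFun := ULift.up, map_zero' := rfl, map_add' := fun _ _ => rfl }
  have hcr' : CR G' V' := fun U hU => by
    let U₀ : Submodule (ZMod p) V :=
      { U.comap f with
        smul_mem' := fun c x hx => by
          rw [← ZMod.natCast_zmod_val c, Nat.cast_smul_eq_nsmul]
          exact (U.comap f).nsmul_mem hx _ }
    obtain ⟨W, hW, hc⟩ := hcr U₀ fun a x hx => hU ⟨a⟩ _ hx
    refine ⟨W.toAddSubgroup.map f, ?_, ?_, ?_⟩
    · rintro a _ ⟨x, hx, rfl⟩
      exact ⟨a.down • x, hW a.down x hx, rfl⟩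
    · rw [eq_bot_iff]
      rintro y ⟨hy, x, hx, rfl⟩
      have hx0 : x = 0 := (Submodule.mem_bot (ZMod p)).mp (hc.inf_eq_bot.le ⟨hy, hx⟩)
      rw [hx0, map_zero]
      exact zero_mem _
    · rw [eq_top_iff]
      intro y _
      obtain ⟨q, hq, r, hr, hqr⟩ := Submodule.mem_sup.mp (hc.sup_eq_top.ge (Submodule.mem_top (x := y.down)))
      exact AddSubgroup.mem_sup.mpr ⟨f q, hq, f r, ⟨r, hr, rfl⟩, by rw [← map_add, hqr]; rfl⟩
  have hstab : ∀ v : V', (stabilizer G v.down).map up ≤ stabilizer G' v := by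
    rintro v _ ⟨a, ha, rfl⟩
    exact ULift.ext _ _ ha
  refine ⟨?_, fun hodd hp => ?_⟩
  · obtain ⟨v, hv⟩ := exists_len_nine (A := G') (V := V') hcr'
    refine ⟨v.down, eq_bot_iff.mpr fun a ha => ?_⟩
    have h1 : (a : G) ∈ ds (stabilizer G v.down) 9 := by
      have h2 : (a : G) ∈ (ds (⊤ : Subgroup (stabilizer G v.down)) 9).map (stabilizer G v.down).subtype :=
        ⟨a, by rw [ds_top]; exact ha, rfl⟩
      rwa [ds_map, ← MonoidHom.range_eq_map, Subgroup.range_subtype] at h2
    have h3 : up a ∈ ds ((stabilizer G v.down).map up) 9 := by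
      rw [← ds_map]
      exact ⟨a, h1, rfl⟩
    refine Subgroup.mem_bot.mpr (Subtype.ext ?_)
    refine eq_of_smul_eq_smul fun x : V => ?_
    rw [Subgroup.coe_one, one_smul]
    exact congrArg ULift.down (hv _ (ds_mono (hstab v) 9 h3) ⟨x⟩)
  · have hV : Odd (Nat.card V') := by
      rw [Nat.card_congr Equiv.ulift, Module.natCard_eq_pow_finrank (K := ZMod p), Nat.card_zmod]
      exact ((Fact.out : p.Prime).odd_of_ne_two hp).pow
    obtain ⟨v, hv⟩ := exists_comm (A := G') (V := V') (by rwa [Nat.card_congr Equiv.ulift]) hV hcr'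
    refine ⟨v.down, ⟨⟨fun a b => Subtype.ext ?_⟩⟩⟩
    refine eq_of_smul_eq_smul fun x : V => ?_
    rw [Subgroup.coe_mul, Subgroup.coe_mul, mul_smul, mul_smul]
    exact congrArg ULift.down (hv _ (hstab v ⟨a, a.2, rfl⟩) _ (hstab v ⟨b, b.2, rfl⟩) ⟨x⟩)

end Cfsg.Agent.S4070
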