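import Cfsg.Statements.S4071
import Mathlib
import Cfsg.Agent.Lib.PResidual
-- import your own Cfsg.Agent.* helpers here

set_option autoImplicit false
open Cfsg

namespace Cfsg.Agent.S4071

namespace Aux

universe a

variable {G : Type a} [Group G] [Finite G]

theorem backward {x : G} {A : Subgroup G} {p : ℕ} (hp : p.Prime) (hA : A.Normal) (hAc : IsMulCommutative A)
    (hcompl : (Subgroup.zpowers x).IsComplement' A) (hx : ∃ k : ℕ, orderOf x = p ^ k)
    (hxp : x ^ p ∈ Subgroup.center G) (hfpf : ∀ a : G, a ∈ A → a ≠ 1 → x * a * x⁻¹ ≠ a)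
    (H : Subgroup G) (hH : ¬ IsMulCommutative H) : Subgroup.normalizer (H : Set G) = H := by
  haveI := hA
  obtain ⟨k, hk⟩ := hx
  have hAcomm : ∀ a ∈ A, ∀ b ∈ A, Commute a b := fun a ha b hb =>
    congrArg Subtype.val (hAc.is_comm.comm (⟨a, ha⟩ : A) ⟨b, hb⟩)
  have hsup : ∀ g : G, ∃ i : ℕ, ∃ a ∈ A, g = a * x ^ i := fun g => by
    obtain ⟨a, ha, y, hy, rfl⟩ := Subgroup.mem_sup_of_normal_left.mp
      (hcompl.symm.sup_eq_top ▸ Subgroup.mem_top g : g ∈ A ⊔ Subgroup.zpowers x)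
    obtain ⟨i, rfl⟩ : ∃ i : ℕ, x ^ i = y :=
      (isOfFinOrder_of_finite x).mem_powers_iff_mem_zpowers.mpr hy
    exact ⟨i, a, ha, rfl⟩
  obtain ⟨y, hyH, i, a, ha, hy, hpi⟩ : ∃ y ∈ H, ∃ i : ℕ, ∃ a ∈ A, y = a * x ^ i ∧ ¬ p ∣ i := by
    by_contra hcon
    push Not at hcon
    refine hH ⟨⟨fun u v => Subtype.ext ?_⟩⟩
    obtain ⟨i, a, ha, hu⟩ := hsup u
    obtain ⟨j, b, hb, hv⟩ := hsup v
    obtain ⟨i', rfl⟩ := hcon u u.2 i a ha hu
    obtain ⟨j', rfl⟩ := hcon v v.2 j b hb hv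
    have hz : ∀ i' : ℕ, ∀ g : G, Commute (x ^ (p * i')) g := fun i' g => by
      rw [pow_mul]; exact (Commute.pow_left (Subgroup.mem_center_iff.mp hxp g).symm i')
    show (u : G) * v = v * u
    rw [hu, hv]
    exact ((hAcomm a ha b hb).mul_right (hz j' a).symm).mul_left ((hz i' _))
  obtain ⟨m, hm⟩ : ∃ m : ℕ, (x ^ i) ^ m = x := exists_pow_eq_self_of_coprime (by
    rw [hk]; exact Nat.Coprime.pow_right k (Nat.coprime_comm.mp (hp.coprime_iff_not_dvd.mpr hpi)))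
  -- `y` has no fixed point on `A`
  have hyfix : ∀ b ∈ A, y * b * y⁻¹ = b → b = 1 := fun b hb e => by
    by_contra hb1
    have h1 : Commute (x ^ i) b := by
      have hc := hAcomm a ha _ (hA.conj_mem b hb (x ^ i))
      have h2 : y * b * y⁻¹ = x ^ i * b * (x ^ i)⁻¹ := by
        rw [hy, show a * x ^ i * b * (a * x ^ i)⁻¹ = a * (x ^ i * b * (x ^ i)⁻¹) * a⁻¹ by group, hc.eq,
          mul_inv_cancel_right]
      exact mul_inv_eq_iff_eq_mul.mp (h2.symm.trans e)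
    have h3 := h1.pow_left m
    rw [hm] at h3
    exact hfpf b hb hb1 (mul_inv_eq_iff_eq_mul.mpr h3)
  refine le_antisymm (fun n hn => ?_) Subgroup.le_normalizer
  obtain ⟨j, b, hb, rfl⟩ := hsup n
  obtain ⟨t, a', ha', ht⟩ : ∃ t : ℕ, ∃ a' ∈ A, y ^ t = a' * x ^ j := by
    refine ⟨m * j, y ^ (m * j) * (x ^ j)⁻¹, ?_, (inv_mul_cancel_right _ _).symm⟩
    rw [← QuotientGroup.eq_one_iff, QuotientGroup.mk_mul, QuotientGroup.mk_inv, QuotientGroup.mk_pow, hy,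
      QuotientGroup.mk_mul, (QuotientGroup.eq_one_iff a).mpr ha, one_mul, ← QuotientGroup.mk_pow,
      pow_mul (x ^ i), hm, mul_inv_cancel]
  set c := b * a'⁻¹ with hc
  have hcA : c ∈ A := mul_mem hb (inv_mem ha')
  have hcN : c ∈ Subgroup.normalizer (H : Set G) := by
    have h1 := mul_mem hn (inv_mem (pow_mem (Subgroup.le_normalizer hyH) t))
    rwa [ht, show b * x ^ j * (a' * x ^ j)⁻¹ = c by rw [hc]; group] at h1
  suffices hcH : c ∈ H by
    have h1 := mul_mem hcH (pow_mem hyH t)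
    rwa [ht, show c * (a' * x ^ j) = b * x ^ j by rw [hc]; group] at h1
  -- the map `b ↦ [b, y]` is a bijection of `A ∩ H`
  set B := A ⊓ H
  let φ : B → B := fun b => ⟨b * y * (b : G)⁻¹ * y⁻¹, Subgroup.mem_inf.mpr
    ⟨by
      rw [show (b : G) * y * (b : G)⁻¹ * y⁻¹ = b * (y * (b : G)⁻¹ * y⁻¹) by group]
      exact mul_mem b.2.1 (hA.conj_mem _ (inv_mem b.2.1) y),
    mul_mem (mul_mem (mul_mem b.2.2 hyH) (inv_mem b.2.2)) (inv_mem hyH)⟩⟩
  have hkey : ∀ u ∈ A, ∀ v ∈ A, u * y * u⁻¹ * y⁻¹ = v * y * v⁻¹ * y⁻¹ → u = v := fun u hu v hv e => by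
    have h1 : y * (u⁻¹ * v) * y⁻¹ = u⁻¹ * v := by
      have e' : u * y * u⁻¹ = v * y * v⁻¹ := mul_right_cancel e
      calc y * (u⁻¹ * v) * y⁻¹ = u⁻¹ * (u * y * u⁻¹) * v * y⁻¹ := by group
        _ = u⁻¹ * v := by rw [e']; group
    exact inv_mul_eq_one.mp (hyfix _ (mul_mem (inv_mem hu) hv) h1)
  have hinj : Function.Injective φ := fun u v e => Subtype.ext (hkey u u.2.1 v v.2.1 (congrArg Subtype.val e))
  have hcy : c * y * c⁻¹ * y⁻¹ ∈ B := Subgroup.mem_inf.mpr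
    ⟨by
      rw [show c * y * c⁻¹ * y⁻¹ = c * (y * c⁻¹ * y⁻¹) by group]
      exact mul_mem hcA (hA.conj_mem _ (inv_mem hcA) y),
    mul_mem ((Subgroup.mem_normalizer_iff.mp hcN y).mp hyH) (inv_mem hyH)⟩
  obtain ⟨u, hu⟩ := Finite.injective_iff_surjective.mp hinj ⟨_, hcy⟩
  rw [← hkey u u.2.1 c hcA (congrArg Subtype.val hu)]
  exact u.2.2

theorem forward [Group.IsSolvable G] (hnn : ¬ Group.IsNilpotent G)
    (h : ∀ H : Subgroup G, ¬ IsMulCommutative H → Subgroup.normalizer (H : Set G) = H) :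
    ∃ (x : G) (A : Subgroup G) (p : ℕ), p.Prime ∧ A.Normal ∧ IsMulCommutative A ∧ (∃ k : ℕ, orderOf x = p ^ k) ∧
      ¬ p ∣ Nat.card A ∧ (Subgroup.zpowers x).IsComplement' A ∧ x ^ p ∈ Subgroup.center G ∧
      ∀ a : G, a ∈ A → a ≠ 1 → x * a * x⁻¹ ≠ a := by
  haveI : Nontrivial G := not_subsingleton_iff_nontrivial.mp fun _ => hnn inferInstance
  obtain ⟨M, hM, hMc⟩ : ∃ M : Subgroup G, IsCoatom M ∧ commutator G ≤ M :=
    (eq_top_or_exists_le_coatom (commutator G)).resolve_left (Group.IsSolvable.commutator_lt_top_of_nontrivial G).ne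
  haveI hMn : M.Normal := ⟨fun m hm g => by
    have h1 := mul_mem (hMc (Subgroup.commutator_mem_commutator (Subgroup.mem_top g) (Subgroup.mem_top m))) hm
    rwa [commutatorElement_def, inv_mul_cancel_right] at h1⟩
  haveI hMab : IsMulCommutative M := by
    by_contra hc
    exact hM.1 ((h M hc).symm.trans (Subgroup.normalizer_eq_top_iff.mpr hMn))
  haveI : Nontrivial (G ⧸ M) := by
    obtain ⟨g, hg⟩ : ∃ g, g ∉ M := by
      by_contra hcon
      push Not at hcon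
      exact hM.1 (eq_top_iff.mpr fun g _ => hcon g)
    exact ⟨(g : G ⧸ M), 1, fun e => hg ((QuotientGroup.eq_one_iff g).mp e)⟩
  obtain ⟨p, hp, hpd⟩ := Nat.exists_prime_and_dvd (Finite.one_lt_card (α := G ⧸ M)).ne'
  haveI := Fact.mk hp
  obtain ⟨y, hy⟩ := exists_prime_orderOf_dvd_card' (G := G ⧸ M) p hpd
  obtain ⟨g, rfl⟩ := QuotientGroup.mk'_surjective M y
  have hgM : g ∉ M := fun hg => by
    rw [QuotientGroup.mk'_apply, (QuotientGroup.eq_one_iff g).mpr hg, orderOf_one] at hy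
    exact hp.ne_one hy.symm
  have hMg : M ⊔ Subgroup.zpowers g = ⊤ := hM.2 _ (lt_of_le_of_ne le_sup_left fun e =>
    hgM (e ▸ Subgroup.mem_sup_right (Subgroup.mem_zpowers g)))
  have hpM : ∀ z : G, z ^ p ∈ M := fun z => by
    obtain ⟨m, hm, _, ⟨i, rfl⟩, rfl⟩ := Subgroup.mem_sup_of_normal_left.mp (hMg ▸ Subgroup.mem_top z : z ∈ M ⊔ _)
    rw [← QuotientGroup.eq_one_iff, QuotientGroup.mk_pow, QuotientGroup.mk_mul, (QuotientGroup.eq_one_iff m).mpr hm,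
      one_mul]
    show ((g ^ i : G) : G ⧸ M) ^ p = 1
    rw [QuotientGroup.mk_zpow, ← zpow_natCast, ← zpow_mul, mul_comm, zpow_mul, zpow_natCast]
    have : (g : G ⧸ M) ^ p = 1 := orderOf_dvd_iff_pow_eq_one.mp hy.dvd
    rw [this, one_zpow]
  -- a `p`-element outside `M`
  obtain ⟨x, hxk, hxM⟩ : ∃ x : G, (∃ k, orderOf x = p ^ k) ∧ x ∉ M := by
    obtain ⟨e, m, hm, hgo⟩ := Nat.exists_eq_pow_mul_and_not_dvd (orderOf_pos g).ne' p hp.ne_one
    refine ⟨g ^ m, ⟨e, ?_⟩, fun hin => ?_⟩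
    · rw [orderOf_pow, hgo, Nat.gcd_eq_right (dvd_mul_left m _),
        Nat.mul_div_cancel _ (Nat.pos_of_ne_zero fun h0 => hm (by rw [h0]; exact dvd_zero p))]
    · refine hm (hy ▸ orderOf_dvd_of_pow_eq_one ?_)
      rw [← map_pow, QuotientGroup.mk'_apply, QuotientGroup.eq_one_iff]
      exact hin
  have hMx : M ⊔ Subgroup.zpowers x = ⊤ := hM.2 _ (lt_of_le_of_ne le_sup_left fun e =>
    hxM (e ▸ Subgroup.mem_sup_right (Subgroup.mem_zpowers x)))
  have hMcomm : ∀ a ∈ M, ∀ b ∈ M, Commute a b := fun a ha b hb =>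
    congrArg Subtype.val (hMab.is_comm.comm (⟨a, ha⟩ : M) ⟨b, hb⟩)
  let A : Subgroup G :=
    { carrier := {a | a ∈ M ∧ ¬ p ∣ orderOf a}
      one_mem' := ⟨one_mem M, by rw [orderOf_one]; exact hp.not_dvd_one⟩
      mul_mem' := fun {a b} ha hb => ⟨mul_mem ha.1 hb.1, fun hd =>
        (hp.dvd_mul.mp ((hd.trans (hMcomm a ha.1 b hb.1).orderOf_mul_dvd_lcm).trans (Nat.lcm_dvd_mul _ _))).elim
          ha.2 hb.2⟩
      inv_mem' := fun {a} ha => ⟨inv_mem ha.1, by rw [orderOf_inv]; exact ha.2⟩ }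
  haveI hA : A.Normal := ⟨fun a ha g => ⟨hMn.conj_mem a ha.1 g, by
    rw [show g * a * g⁻¹ = MulAut.conj g a from rfl, MulEquiv.orderOf_eq]; exact ha.2⟩⟩
  have hAM : A ≤ M := fun a ha => ha.1
  have hAc : IsMulCommutative A := ⟨⟨fun a b => Subtype.ext (hMcomm a a.2.1 b b.2.1)⟩⟩
  have hpA : ¬ p ∣ Nat.card A := fun hd => by
    obtain ⟨a, ha⟩ := exists_prime_orderOf_dvd_card' (G := A) p hd
    exact a.2.2 (by rw [Subgroup.orderOf_coe, ha])
  have hQ : IsPGroup p (G ⧸ A) := fun z => by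
    obtain ⟨z, rfl⟩ := QuotientGroup.mk'_surjective A z
    obtain ⟨k, hk⟩ := CfsgLib.PResidual.exists_pow_coprime (p := p) (z ^ p)
    refine ⟨1 + k, ?_⟩
    rw [← map_pow, QuotientGroup.mk'_apply, QuotientGroup.eq_one_iff, pow_add, pow_one, pow_mul]
    exact ⟨pow_mem (hpM z) _, hp.coprime_iff_not_dvd.mp (Nat.coprime_comm.mp hk)⟩
  haveI hQn : Group.IsNilpotent (G ⧸ A) := hQ.isNilpotent
  have hnotcen : ¬ A ≤ Subgroup.center G := fun hc => hnn
    (Subgroup.isNilpotent_of_ker_le_center (QuotientGroup.mk' A) (by rwa [QuotientGroup.ker_mk']))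
  have hxcen : ¬ ∀ a ∈ A, Commute x a := fun hc => hnotcen fun a ha => Subgroup.mem_center_iff.mpr fun z => by
    obtain ⟨m, hm, _, ⟨i, rfl⟩, rfl⟩ := Subgroup.mem_sup_of_normal_left.mp (hMx ▸ Subgroup.mem_top z : z ∈ M ⊔ _)
    exact ((hMcomm m hm a ha.1).mul_left ((hc a ha).zpow_left i)).eq
  set H := A ⊔ Subgroup.zpowers x with hHdef
  have hHna : ¬ IsMulCommutative H := fun hc => hxcen fun a ha => congrArg Subtype.val
    (hc.is_comm.comm (⟨x, Subgroup.mem_sup_right (Subgroup.mem_zpowers x)⟩ : H) ⟨a, Subgroup.mem_sup_left ha⟩)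
  have hHtop : H = ⊤ := by
    have hker : (QuotientGroup.mk' A).ker ≤ H := by rw [QuotientGroup.ker_mk']; exact le_sup_left
    have hself : Subgroup.normalizer ((H.map (QuotientGroup.mk' A) : Subgroup (G ⧸ A)) : Set (G ⧸ A)) =
        H.map (QuotientGroup.mk' A) := by
      refine le_antisymm (fun z hz => ?_) Subgroup.le_normalizer
      obtain ⟨z, rfl⟩ := QuotientGroup.mk'_surjective A z
      refine Subgroup.mem_map_of_mem _ ((h H hHna).le (Subgroup.mem_normalizer_fintype fun u hu => ?_))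
      have h1 := (Subgroup.mem_normalizer_iff.mp hz _).mp (Subgroup.mem_map_of_mem (QuotientGroup.mk' A) hu)
      rw [← map_inv, ← map_mul, ← map_mul, ← Subgroup.mem_comap, Subgroup.comap_map_eq_self hker] at h1
      exact h1
    have := (normalizerCondition_iff_only_full_group_self_normalizing.mp Group.normalizerCondition_of_isNilpotent) _ hself
    rw [← Subgroup.comap_map_eq_self hker, this, Subgroup.comap_top]
  obtain ⟨k, hk⟩ := hxk
  have hdis : Disjoint (Subgroup.zpowers x) A := Subgroup.disjoint_of_coprime_natCard (by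
    rw [Nat.card_zpowers, hk]; exact Nat.Coprime.pow_left k (hp.coprime_iff_not_dvd.mpr hpA))
  have hcompl : (Subgroup.zpowers x).IsComplement' A :=
    Subgroup.isComplement'_of_disjoint_and_mul_eq_univ hdis (by
      rw [← Subgroup.mul_normal (Subgroup.zpowers x) A, sup_comm, ← hHdef, hHtop, Subgroup.coe_top])
  refine ⟨x, A, p, hp, hA, hAc, ⟨k, hk⟩, hpA, hcompl, ?_, fun a ha ha1 hfix => ?_⟩
  · refine Subgroup.mem_center_iff.mpr fun z => ?_
    obtain ⟨m, hm, _, ⟨i, rfl⟩, rfl⟩ := Subgroup.mem_sup_of_normal_left.mp (hMx ▸ Subgroup.mem_top z : z ∈ M ⊔ _)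
    exact ((hMcomm m hm _ (hpM x)).mul_left ((Commute.self_pow x p).zpow_left i)).eq
  -- the commutator map
  have hAcomm : ∀ a ∈ A, ∀ b ∈ A, Commute a b := fun a ha b hb => hMcomm a ha.1 b hb.1
  let φ : A →* A := MonoidHom.mk' (fun b => ⟨b * x * (b : G)⁻¹ * x⁻¹, by
      rw [show (b : G) * x * (b : G)⁻¹ * x⁻¹ = b * (x * (b : G)⁻¹ * x⁻¹) by group]
      exact mul_mem b.2 (hA.conj_mem _ (inv_mem b.2) x)⟩) (fun b c => Subtype.ext (by
    have hc1 : (c : G) * x * (c : G)⁻¹ * x⁻¹ ∈ A := by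
      rw [show (c : G) * x * (c : G)⁻¹ * x⁻¹ = c * (x * (c : G)⁻¹ * x⁻¹) by group]
      exact mul_mem c.2 (hA.conj_mem _ (inv_mem c.2) x)
    have h2 := hAcomm _ b.2 _ hc1
    show (b : G) * c * x * ((b : G) * c)⁻¹ * x⁻¹ = b * x * (b : G)⁻¹ * x⁻¹ * (c * x * (c : G)⁻¹ * x⁻¹)
    have hb1 : (b : G) * x * (b : G)⁻¹ * x⁻¹ ∈ A := by
      rw [show (b : G) * x * (b : G)⁻¹ * x⁻¹ = b * (x * (b : G)⁻¹ * x⁻¹) by group]
      exact mul_mem b.2 (hA.conj_mem _ (inv_mem b.2) x)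
    rw [show (b : G) * c * x * ((b : G) * c)⁻¹ * x⁻¹ =
      b * (c * x * (c : G)⁻¹ * x⁻¹) * (x * (b : G)⁻¹ * x⁻¹) by group, h2.eq]
    rw [(hAcomm _ hb1 _ hc1).eq]
    group))
  set B := φ.range.map A.subtype with hBdef
  have hBA : B ≤ A := Subgroup.map_subtype_le _
  have hBne : B ≠ A := fun e => by
    have hsurj : Function.Surjective φ := fun c => by
      obtain ⟨c', hc', hcc⟩ : (c : G) ∈ φ.range.map A.subtype := by rw [← hBdef, e]; exact c.2
      obtain ⟨d, rfl⟩ := hc'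
      exact ⟨d, Subtype.ext hcc⟩
    have hinj := Finite.injective_iff_surjective.mpr hsurj
    have e1 : φ ⟨a, ha⟩ = 1 := Subtype.ext (by
      show a * x * a⁻¹ * x⁻¹ = 1
      rw [show a * x * a⁻¹ * x⁻¹ = a * (x * a * x⁻¹)⁻¹ by group, hfix, mul_inv_cancel])
    exact ha1 (congrArg Subtype.val (hinj (e1.trans φ.map_one.symm)))
  set H2 := B ⊔ Subgroup.zpowers x with hH2
  have hBx : ∀ b ∈ B, x * b * x⁻¹ ∈ B := by
    rintro _ ⟨_, ⟨d, rfl⟩, rfl⟩
    refine ⟨φ ⟨x * d * x⁻¹, hA.conj_mem _ d.2 x⟩, ⟨_, rfl⟩, ?_⟩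
    show x * d * x⁻¹ * x * (x * d * x⁻¹)⁻¹ * x⁻¹ = x * (d * x * (d : G)⁻¹ * x⁻¹) * x⁻¹
    group
  have hxB : x ∈ Subgroup.normalizer (B : Set G) := Subgroup.mem_normalizer_fintype hBx
  have hmem : ∀ u ∈ H2, ∃ b ∈ B, ∃ i : ℤ, b * x ^ i = u := fun u hu => by
    rw [← SetLike.mem_coe, hH2, Subgroup.coe_mul_of_right_le_normalizer_left _ _ (Subgroup.zpowers_le.mpr hxB)] at hu
    obtain ⟨b, hb, _, ⟨i, rfl⟩, rfl⟩ := Set.mem_mul.mp hu
    exact ⟨b, hb, i, rfl⟩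
  have hH2top : H2 ≠ ⊤ := fun e => hBne (le_antisymm hBA fun c hc => by
    obtain ⟨b, hb, i, hbi⟩ := hmem c (e ▸ Subgroup.mem_top c)
    have hxi : x ^ i = 1 := Subgroup.disjoint_def.mp hdis (Subgroup.zpow_mem _ (Subgroup.mem_zpowers x) i)
      (by rw [show x ^ i = b⁻¹ * c by rw [← hbi, inv_mul_cancel_left]]; exact mul_mem (inv_mem (hBA hb)) hc)
    rw [← hbi, hxi, mul_one]; exact hb)
  have hH2n : Subgroup.normalizer (H2 : Set G) = ⊤ := by
    refine top_le_iff.mp (hHtop ▸ sup_le (fun c hc => ?_)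
      ((Subgroup.zpowers_le.mpr (Subgroup.mem_sup_right (Subgroup.mem_zpowers x))).trans Subgroup.le_normalizer))
    refine Subgroup.mem_normalizer_fintype fun u hu => ?_
    obtain ⟨b, hb, i, rfl⟩ := hmem u hu
    show c * (b * x ^ i) * c⁻¹ ∈ H2
    rw [show c * (b * x ^ i) * c⁻¹ = (c * b * c⁻¹) * (c * x * c⁻¹) ^ i by rw [conj_zpow]; group]
    refine mul_mem (Subgroup.mem_sup_left ?_) (Subgroup.zpow_mem _ ?_ i)
    · rw [(hAcomm c hc b (hBA hb)).eq, mul_inv_cancel_right]; exact hb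
    · rw [show c * x * c⁻¹ = (c * x * c⁻¹ * x⁻¹) * x by group]
      exact mul_mem (Subgroup.mem_sup_left ⟨φ ⟨c, hc⟩, ⟨_, rfl⟩, rfl⟩) (Subgroup.mem_sup_right (Subgroup.mem_zpowers x))
  have hH2c : IsMulCommutative H2 := by
    by_contra hc
    exact hH2top ((h H2 hc).symm.trans hH2n)
  refine hxcen fun c hc => ?_
  set d := c * x * c⁻¹ * x⁻¹ with hd
  have hdB : d ∈ B := ⟨φ ⟨c, hc⟩, ⟨_, rfl⟩, rfl⟩
  have hdx : Commute d x := congrArg Subtype.val (hH2c.is_comm.comm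
    (⟨d, Subgroup.mem_sup_left hdB⟩ : H2) ⟨x, Subgroup.mem_sup_right (Subgroup.mem_zpowers x)⟩)
  have h1 : (c * x * c⁻¹) ^ (p ^ k) = d ^ (p ^ k) * x ^ (p ^ k) := by
    rw [← hdx.mul_pow, hd, inv_mul_cancel_right]
  rw [conj_pow, ← hk, pow_orderOf_eq_one, mul_one, mul_inv_cancel, mul_one] at h1
  have hd1 : d = 1 := orderOf_eq_one_iff.mp (Nat.eq_one_of_dvd_coprimes (Nat.Coprime.pow_left k
    (hp.coprime_iff_not_dvd.mpr (hBA hdB).2)) (hk ▸ orderOf_dvd_of_pow_eq_one h1.symm) dvd_rfl)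
  exact (mul_inv_eq_iff_eq_mul.mp (mul_inv_eq_one.mp hd1)).symm

end Aux

/-- Let G be a finite solvable non-nilpotent group. Every non-abelian subgroup of G is self-normalizing if and only if G is a semidirect product ⟨x⟩ ⋉ A in which ⟨x⟩ is a p-group for some prime p, A is a normal abelian subgroup of order prime to p, x^p is central in G, and x acts fixed-point-freely on A (no non-identity element of A commutes with x). -/
theorem result {G : Type*} [Group G] [Finite G]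
    [Group.IsSolvable G] (hnn : ¬ Group.IsNilpotent G) :
    (∀ H : Subgroup G, ¬ IsMulCommutative H → Subgroup.normalizer (H : Set G) = H) ↔
    ∃ (x : G) (A : Subgroup G) (p : ℕ), p.Prime ∧ A.Normal ∧ IsMulCommutative A ∧ (∃ k : ℕ, orderOf x = p ^ k) ∧
      ¬ p ∣ Nat.card A ∧ (Subgroup.zpowers x).IsComplement' A ∧ x ^ p ∈ Subgroup.center G ∧
      ∀ a : G, a ∈ A → a ≠ 1 → x * a * x⁻¹ ≠ a := by

  exact ⟨fun h => Aux.forward hnn h, fun ⟨x, A, p, hp, hA, hAc, hx, hpA, hcompl, hxp, hfpf⟩ =>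
    Aux.backward hp hA hAc hcompl hx hxp hfpf⟩

end Cfsg.Agent.S4071
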