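import Cfsg.Statements.S4250
import Mathlib
import Cfsg.Agent.Lib.StrongFusion.Family
-- import your own Cfsg.Agent.* helpers here

set_option autoImplicit false
open Cfsg

namespace Cfsg.Agent.S4250

open scoped commutatorElement

/-- Let P be a Sylow p-subgroup of a finite group G. Call an intersection H = P ∩ Q with a Sylow p-subgroup Q tame when N_P(H) and N_Q(H) are Sylow p-subgroups of N_G(H). Then P ∩ G′ is generated by [P, N_G(P)] together with the commutator subgroups [P ∩ Q, ⟨x⟩] for all tame intersections P ∩ Q and all p-elements x of N_G(P ∩ Q). -/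
theorem result {G : Type*} [Group G] [Finite G] (p : ℕ) [Fact p.Prime] (P : Sylow p G) :
    (P : Subgroup G) ⊓ commutator G =
      ⁅(P : Subgroup G), Subgroup.normalizer ((P : Subgroup G) : Set G)⁆ ⊔
        ⨆ (Q : Sylow p G) (_ : (¬ p ∣ ((P : Subgroup G) ⊓ Subgroup.normalizer (((P : Subgroup G) ⊓ (Q : Subgroup G) : Subgroup G) : Set G)).relIndex (Subgroup.normalizer (((P : Subgroup G) ⊓ (Q : Subgroup G) : Subgroup G) : Set G)) ∧ ¬ p ∣ ((Q : Subgroup G) ⊓ Subgroup.normalizer (((P : Subgroup G) ⊓ (Q : Subgroup G) : Subgroup G) : Set G)).relIndex (Subgroup.normalizer (((P : Subgroup G) ⊓ (Q : Subgroup G) : Subgroup G) : Set G))))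
          (x : G) (_ : x ∈ Subgroup.normalizer (((P : Subgroup G) ⊓ (Q : Subgroup G) : Subgroup G) : Set G) ∧ ∃ k : ℕ, orderOf x = p ^ k),
          ⁅(P : Subgroup G) ⊓ (Q : Subgroup G), Subgroup.zpowers x⁆ := by
  classical
  refine le_antisymm ?_ ?_
  · rw [inf_comm, Subgroup.commutator_inf_eq_focalSubgroup, Subgroup.focalSubgroup_def, Subgroup.closure_le]
    rintro _ ⟨hw, a, ha, u, rfl⟩
    -- `⁅a, u⁆ = a * (u * a⁻¹ * u⁻¹)`
    obtain ⟨k, T, x, hprod, hstep, hin⟩ := CfsgLib.StrongFusion.exists_list_tame (g := u⁻¹) P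
      (A := {a⁻¹}) (by rintro _ rfl; exact inv_mem ha) (by
        rintro _ ⟨_, rfl, rfl⟩
        have := mul_mem (inv_mem ha) hw
        rw [commutatorElement_def] at this
        show u⁻¹⁻¹ * a⁻¹ * u⁻¹ ∈ (P : Subgroup G)
        simpa [mul_assoc] using this)
    set R := ⁅(P : Subgroup G), Subgroup.normalizer ((P : Subgroup G) : Set G)⁆ ⊔
        ⨆ (Q : Sylow p G) (_ : (¬ p ∣ ((P : Subgroup G) ⊓ Subgroup.normalizer (((P : Subgroup G) ⊓ (Q : Subgroup G) : Subgroup G) : Set G)).relIndex (Subgroup.normalizer (((P : Subgroup G) ⊓ (Q : Subgroup G) : Subgroup G) : Set G)) ∧ ¬ p ∣ ((Q : Subgroup G) ⊓ Subgroup.normalizer (((P : Subgroup G) ⊓ (Q : Subgroup G) : Subgroup G) : Set G)).relIndex (Subgroup.normalizer (((P : Subgroup G) ⊓ (Q : Subgroup G) : Subgroup G) : Set G))))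
          (x : G) (_ : x ∈ Subgroup.normalizer (((P : Subgroup G) ⊓ (Q : Subgroup G) : Subgroup G) : Set G) ∧ ∃ k : ℕ, orderOf x = p ^ k),
          ⁅(P : Subgroup G) ⊓ (Q : Subgroup G), Subgroup.zpowers x⁆ with hR
    let pre : ℕ → G := fun i => ((List.ofFn x).take i).prod
    -- telescope
    have key : ∀ i, i ≤ k → a * ((pre i)⁻¹ * a⁻¹ * pre i) ∈ R := by
      intro i
      induction i with
      | zero => intro _; simp [pre]
      | succ i ih =>
        intro hi
        have hpre : pre (i + 1) = pre i * x ⟨i, hi⟩ := by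
          show ((List.ofFn x).take (i + 1)).prod = _
          rw [List.prod_take_succ _ i (by simpa using hi), List.getElem_ofFn]
        set y := x ⟨i, hi⟩
        set b := (pre i)⁻¹ * a⁻¹ * pre i with hb
        have hbT : b ∈ T ⟨i, hi⟩ := hin ⟨i, hi⟩ ⟨a⁻¹, rfl, rfl⟩
        have e : a * ((pre (i + 1))⁻¹ * a⁻¹ * pre (i + 1)) = a * b * ⁅b⁻¹, y⁻¹⁆ := by
          rw [hpre, hb, commutatorElement_def]; group
        rw [e]
        refine R.mul_mem (ih (by omega)) ?_
        obtain ⟨hyN, hfP, Q, hPQ, hfQ, hcase⟩ := hstep ⟨i, hi⟩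
        rcases hcase with hQP | hy
        · rw [hQP, inf_idem] at hPQ
          rw [← hPQ] at hyN hbT
          exact Subgroup.mem_sup_left (Subgroup.commutator_mem_commutator (inv_mem hbT) (inv_mem hyN))
        · rw [← hPQ] at hyN hbT hfP hfQ
          refine Subgroup.mem_sup_right ?_
          refine Subgroup.mem_iSup_of_mem Q (Subgroup.mem_iSup_of_mem ⟨hfP, hfQ⟩
            (Subgroup.mem_iSup_of_mem y (Subgroup.mem_iSup_of_mem ⟨hyN, hy⟩ ?_)))
          exact Subgroup.commutator_mem_commutator (inv_mem hbT) (inv_mem (Subgroup.mem_zpowers y))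
    have h1 := key k le_rfl
    have h2 : pre k = u⁻¹ := by
      show ((List.ofFn x).take k).prod = _
      rw [List.take_of_length_le (by simp), hprod]
    rw [h2, inv_inv] at h1
    rw [commutatorElement_def]
    simpa [mul_assoc] using h1
  · refine sup_le (le_inf ?_ ?_) ?_
    · rw [Subgroup.commutator_le]
      intro a ha n hn
      rw [commutatorElement_def]
      have := (Subgroup.mem_normalizer_iff.mp hn a⁻¹).mp (inv_mem ha)
      simpa [mul_assoc] using mul_mem ha this
    · exact Subgroup.commutator_mono le_top le_top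
    · refine iSup_le fun Q => iSup_le fun _ => iSup_le fun y => iSup_le fun hy => le_inf ?_ ?_
      · rw [Subgroup.commutator_le]
        intro a ha n hn
        have hn' := (Subgroup.zpowers_le.mpr hy.1) hn
        have := (Subgroup.mem_normalizer_iff.mp hn' a⁻¹).mp (inv_mem ha)
        rw [commutatorElement_def]
        simpa [mul_assoc] using mul_mem ha.1 this.1
      · exact Subgroup.commutator_mono le_top le_top

end Cfsg.Agent.S4250
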