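import Cfsg.Statements.S4072
import Mathlib
import Cfsg.Agent.S4250
import Cfsg.Agent.Lib.Transfer
-- import your own Cfsg.Agent.* helpers here

set_option autoImplicit false
open Cfsg

namespace Cfsg.Agent.S4072

open scoped commutatorElement

/-- all non-trivial subgroups self-normalizing forces order one or prime -/
private theorem card_prime {X : Type*} [Group X] [Finite X]
    (h : ∀ Y : Subgroup X, Y ≠ ⊥ → Subgroup.normalizer (Y : Set X) = Y) :
    Nat.card X = 1 ∨ (Nat.card X).Prime := by
  classical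
  rcases eq_or_ne (Nat.card X) 1 with h1 | h1
  · exact Or.inl h1
  right
  obtain ⟨q, hq, hqd⟩ := Nat.exists_prime_and_dvd h1
  have : Fact q.Prime := ⟨hq⟩
  -- Sylow subgroups have prime order
  have hsyl : ∀ (r : ℕ) (_ : Fact r.Prime), r ∣ Nat.card X → ∀ R : Sylow r X, Nat.card (R : Subgroup X) = r := by
    intro r _ hr R
    obtain ⟨x, hx⟩ := exists_prime_orderOf_dvd_card' (G := (R : Subgroup X)) r (R.dvd_card_of_dvd_card hr)
    have hx' : orderOf (x : X) = r := by rw [Subgroup.orderOf_coe, hx]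
    have hne : Subgroup.zpowers (x : X) ≠ ⊥ := by
      rw [Ne, Subgroup.zpowers_eq_bot]
      intro e; rw [e, orderOf_one] at hx'; exact (Fact.out : r.Prime).one_lt.ne hx'
    have hle : Subgroup.zpowers (x : X) ≤ (R : Subgroup X) := Subgroup.zpowers_le.mpr x.2
    suffices e : Subgroup.zpowers (x : X) = (R : Subgroup X) by rw [← e, Nat.card_zpowers, hx']
    by_contra hne'
    haveI : Group.IsNilpotent (R : Subgroup X) := R.isPGroup'.isNilpotent
    have hlt : (Subgroup.zpowers (x : X)).subgroupOf (R : Subgroup X) < ⊤ :=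
      lt_of_le_of_ne le_top fun e => hne' (le_antisymm hle (Subgroup.subgroupOf_eq_top.mp e))
    obtain ⟨y, hy1, hy2⟩ := SetLike.exists_of_lt (Group.normalizerCondition_of_isNilpotent _ hlt)
    refine hy2 (Subgroup.mem_subgroupOf.mpr ?_)
    have h2 := Subgroup.le_normalizer_map (R : Subgroup X).subtype ⟨y, hy1, rfl⟩
    rw [Subgroup.subgroupOf_map_subtype, inf_eq_left.2 hle, h _ hne] at h2
    exact h2
  obtain ⟨Q⟩ := (inferInstance : Nonempty (Sylow q X))
  have hQc := hsyl q this hqd Q
  have hQne : (Q : Subgroup X) ≠ ⊥ := fun e => by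
    rw [e, Subgroup.card_bot] at hQc; exact hq.one_lt.ne hQc
  haveI : IsCyclic (Q : Subgroup X) := isCyclic_of_prime_card hQc
  have hNC : Subgroup.normalizer ((Q : Subgroup X) : Set X) ≤ Subgroup.centralizer ((Q : Subgroup X) : Set X) := by
    rw [h _ hQne]
    intro a ha
    exact Subgroup.mem_centralizer_iff.mpr fun b hb =>
      congrArg Subtype.val (IsCyclic.commGroup.mul_comm (⟨b, hb⟩ : (Q : Subgroup X)) ⟨a, ha⟩)
  set N := (MonoidHom.transferSylow Q hNC).ker with hN
  have hc : N.IsComplement' (Q : Subgroup X) := MonoidHom.ker_transferSylow_isComplement' Q hNC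
  by_cases hN1 : N = ⊥
  · have h2 := hc.card_mul
    rw [hN1, Subgroup.card_bot, one_mul, hQc] at h2
    rw [← h2]; exact hq
  exfalso
  obtain ⟨r, hr, hrd⟩ := Nat.exists_prime_and_dvd (n := Nat.card N) fun e => hN1 (Subgroup.eq_bot_of_card_eq _ e)
  have : Fact r.Prime := ⟨hr⟩
  obtain ⟨R⟩ := (inferInstance : Nonempty (Sylow r N))
  have hRne : (R : Subgroup N).map N.subtype ≠ ⊥ := by
    rw [Ne, Subgroup.map_eq_bot_iff_of_injective _ N.subtype_injective]
    intro e
    have h1 := R.dvd_card_of_dvd_card hrd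
    rw [e, Subgroup.card_bot, Nat.dvd_one] at h1
    exact hr.one_lt.ne h1.symm
  have hF := Sylow.normalizer_sup_eq_top R
  rw [h _ hRne, sup_eq_right.mpr (Subgroup.map_subtype_le _)] at hF
  exact hQne (le_bot_iff.mp (hc.disjoint.eq_bot ▸ le_inf (hF ▸ le_top) le_rfl))

/-- self-normalizing over a normal subgroup passes to the quotient -/
private theorem quot_self {G : Type*} [Group G] (C : Subgroup G) [C.Normal]
    (h : ∀ L : Subgroup G, C < L → Subgroup.normalizer (L : Set G) = L) :
    ∀ Y : Subgroup (G ⧸ C), Y ≠ ⊥ → Subgroup.normalizer (Y : Set (G ⧸ C)) = Y := by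
  intro Y hY
  set π := QuotientGroup.mk' C
  have hs := QuotientGroup.mk'_surjective C
  have hlt : C < Y.comap π := by
    refine lt_of_le_of_ne (QuotientGroup.le_comap_mk' C Y) fun e => hY ?_
    rw [← Subgroup.map_comap_eq_self_of_surjective hs Y, ← e, QuotientGroup.map_mk'_self]
  apply Subgroup.comap_injective hs
  rw [Subgroup.comap_normalizer_eq_of_surjective _ hs, h _ hlt]

/-- A finite group in which every non-abelian subgroup is self-normalizing is solvable or simple. -/
theorem result {G : Type*} [Group G] [Finite G] (hS : ∀ H : Subgroup G, ¬ IsMulCommutative H → Subgroup.normalizer (H : Set G) = H) :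
    Group.IsSolvable G ∨ IsSimpleGroup G := by
  classical
  by_contra hcon
  push Not at hcon
  obtain ⟨hns, hsimp⟩ := hcon
  have hnab : ∀ N : Subgroup G, N.Normal → N ≠ ⊤ → IsMulCommutative N := fun N hN hNt => by
    by_contra hN'
    exact hNt ((hS N hN').symm.trans (Subgroup.normalizer_eq_top_iff.mpr hN))
  -- `G` is perfect
  have hperf : commutator G = ⊤ := by
    by_contra hne
    have hc := hnab (commutator G) inferInstance hne
    apply hns
    haveI : Group.IsSolvable (commutator G) := Group.isSolvable_of_comm fun a b => mul_comm' a b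
    haveI : Group.IsSolvable (G ⧸ commutator G) := (Group.isSolvable_of_comm (G := Abelianization G) mul_comm : Group.IsSolvable (Abelianization G))
    exact Group.isSolvable_of_ker_le_range (commutator G).subtype (QuotientGroup.mk' (commutator G))
      (by rw [QuotientGroup.ker_mk', Subgroup.range_subtype])
  have hnt : Nontrivial G := by
    by_contra hnt
    rw [not_nontrivial_iff_subsingleton] at hnt
    exact hns inferInstance
  obtain ⟨N, hN, hN0, hNt⟩ : ∃ N : Subgroup G, N.Normal ∧ N ≠ ⊥ ∧ N ≠ ⊤ := by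
    by_contra hno
    push Not at hno
    exact hsimp ⟨fun H hH => or_iff_not_imp_left.mpr (hno H hH)⟩
  obtain ⟨R, ⟨hR, hRt, hNR⟩, hRmax⟩ := (Set.toFinite {R : Subgroup G | R.Normal ∧ R ≠ ⊤ ∧ N ≤ R}).exists_maximal
    ⟨N, hN, hNt, le_rfl⟩
  have hRc := hnab R hR hRt
  have hR0 : R ≠ ⊥ := fun e => hN0 (le_bot_iff.mp (e ▸ hNR))
  haveI := hR
  have hRle : R ≤ Subgroup.centralizer (R : Set G) := fun a ha =>
    Subgroup.mem_centralizer_iff.mpr fun b hb => congrArg Subtype.val (mul_comm' (⟨b, hb⟩ : R) ⟨a, ha⟩)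
  by_cases hcen : Subgroup.centralizer (R : Set G) = R
  · -- the quotient has prime order
    have hX := card_prime (quot_self R fun L hL => hS L fun hLc => hL.not_ge (by
      intro a ha
      rw [← hcen]
      exact Subgroup.mem_centralizer_iff.mpr fun b hb =>
        congrArg Subtype.val (hLc.is_comm.comm (⟨b, hL.le hb⟩ : L) ⟨a, ha⟩)))
    rcases hX with h1 | h1
    · exact hRt (Subgroup.index_eq_one.mp ((Subgroup.index_eq_card R).trans h1))
    · have : Fact (Nat.card (G ⧸ R)).Prime := ⟨h1⟩
      haveI := isCyclic_of_prime_card (α := G ⧸ R) rfl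
      letI := IsCyclic.commGroup (α := G ⧸ R)
      have := Abelianization.commutator_subset_ker (QuotientGroup.mk' R)
      rw [hperf, QuotientGroup.ker_mk'] at this
      exact hRt (top_le_iff.mp this)
  -- `R` is central
  have hRZ : ∀ r ∈ R, ∀ g : G, g * r = r * g := by
    have htop : Subgroup.centralizer (R : Set G) = ⊤ := by
      by_contra hne
      exact hcen (le_antisymm (hRmax (y := Subgroup.centralizer (R : Set G))
        ⟨inferInstance, hne, hNR.trans hRle⟩ hRle) hRle)
    intro r hr g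
    exact (Subgroup.mem_centralizer_iff.mp (htop ▸ Subgroup.mem_top g) r hr).symm
  obtain ⟨p, hp, hpd⟩ := Nat.exists_prime_and_dvd (n := Nat.card R) fun e => hR0 (Subgroup.eq_bot_of_card_eq _ e)
  have hpf : Fact p.Prime := ⟨hp⟩
  obtain ⟨⟨x, hxR⟩, hxo⟩ := exists_prime_orderOf_dvd_card' p hpd
  rw [Subgroup.orderOf_mk] at hxo
  obtain ⟨P⟩ := (inferInstance : Nonempty (Sylow p G))
  by_cases hPc : IsMulCommutative (P : Subgroup G)
  · -- transfer
    have hxP : x ∈ (P : Subgroup G) := by
      obtain ⟨P', hP'⟩ := (IsPGroup.of_card (G := Subgroup.zpowers x) (n := 1)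
        (by rw [Nat.card_zpowers, hxo, pow_one])).exists_le_sylow
      obtain ⟨g, rfl⟩ := MulAction.exists_smul_eq G P P'
      have := hP' (Subgroup.mem_zpowers x)
      rw [Sylow.smul_def, Sylow.pointwise_smul_def, Subgroup.mem_pointwise_smul_iff_inv_smul_mem,
        MulAut.smul_def, ← map_inv, MulAut.conj_apply, inv_inv, mul_assoc, ← hRZ x hxR g, inv_mul_cancel_left] at this
      exact this
    haveI := hPc
    open scoped IsMulCommutative in
    have h1 : MonoidHom.transfer (MonoidHom.id (P : Subgroup G)) x = 1 := by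
      have := Abelianization.commutator_subset_ker (MonoidHom.transfer (MonoidHom.id (P : Subgroup G)))
      rw [hperf] at this
      exact this (Subgroup.mem_top x)
    open scoped IsMulCommutative in
    rw [MonoidHom.transfer_eq_pow (MonoidHom.id (P : Subgroup G)) x (fun k g₀ _ => by
      rw [mul_assoc, ← hRZ _ (R.pow_mem hxR k) g₀, inv_mul_cancel_left])] at h1
    have h2 : x ^ (P : Subgroup G).index = 1 := congrArg Subtype.val h1
    have h3 := orderOf_dvd_of_pow_eq_one h2
    rw [hxo] at h3
    exact P.not_dvd_index h3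
  -- fusion
  have hkey := Cfsg.Agent.S4250.result p P
  rw [hperf, inf_top_eq, hS _ hPc] at hkey
  have hle : (P : Subgroup G) ≤ ⁅(P : Subgroup G), (P : Subgroup G)⁆ := by
    refine hkey.le.trans (sup_le le_rfl (iSup_le fun Q => iSup_le fun htame => iSup_le fun y => iSup_le fun hy => ?_))
    set T := (P : Subgroup G) ⊓ (Q : Subgroup G) with hT
    set M := Subgroup.normalizer (T : Set G) with hM
    have hTP : T ≤ (P : Subgroup G) := inf_le_left
    by_cases hTc : IsMulCommutative T
    swap
    · refine Subgroup.commutator_mono hTP (Subgroup.zpowers_le.mpr (hTP ?_))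
      rw [← hS T hTc]; exact hy.1
    set C := Subgroup.centralizer (T : Set G) with hC
    have hCM : C ≤ M := Subgroup.centralizer_le_normalizer _
    have hTC : T ≤ C := fun a ha => Subgroup.mem_centralizer_iff.mpr fun b hb =>
      congrArg Subtype.val (hTc.is_comm.comm (⟨b, hb⟩ : T) ⟨a, ha⟩)
    haveI hCn : (C.subgroupOf M).Normal := Subgroup.normal_subgroupOf_of_le_normalizer (fun m hm => by
      have := (inferInstance : ((Subgroup.centralizer (T : Set G)).subgroupOf (Subgroup.normalizer (T : Set G))).Normal)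
      exact (Subgroup.normal_subgroupOf_iff_le_normalizer hCM).mp this hm)
    have hX := card_prime (quot_self (C.subgroupOf M) fun L hL => by
      have hLc : ¬ IsMulCommutative ↥(L.map M.subtype) := fun hLc => hL.not_ge fun a ha => by
        refine Subgroup.mem_subgroupOf.mpr (Subgroup.mem_centralizer_iff.mpr fun b hb => ?_)
        have hbL : b ∈ L.map M.subtype :=
          ⟨⟨b, Subgroup.le_normalizer hb⟩, hL.le (Subgroup.mem_subgroupOf.mpr (hTC hb)), rfl⟩
        exact congrArg Subtype.val (hLc.is_comm.comm (⟨b, hbL⟩ : L.map M.subtype) ⟨a, a, ha, rfl⟩)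
      refine le_antisymm (fun a ha => ?_) Subgroup.le_normalizer
      have h1 := Subgroup.le_normalizer_map M.subtype ⟨a, ha, rfl⟩
      rw [hS _ hLc] at h1
      obtain ⟨a', ha', e⟩ := h1
      rwa [← Subtype.ext e])
    rw [Subgroup.commutator_le]
    intro t ht z hz
    have hzM : z ∈ M := (Subgroup.zpowers_le.mpr hy.1) hz
    by_cases hzC : z ∈ C
    · have e : ⁅t, z⁆ = 1 := commutatorElement_eq_one_iff_mul_comm.mpr (Subgroup.mem_centralizer_iff.mp hzC t ht)
      rw [e]; exact one_mem _
    have hne : ((⟨z, hzM⟩ : M) : M ⧸ C.subgroupOf M) ≠ 1 := fun e =>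
      hzC (Subgroup.mem_subgroupOf.mp ((QuotientGroup.eq_one_iff _).mp e))
    rcases hX with h1 | h1
    · haveI := (Nat.card_eq_one_iff_unique.mp h1).1
      exact absurd (Subsingleton.elim _ _) hne
    have hqp : Nat.card (M ⧸ C.subgroupOf M) = p := by
      obtain ⟨i, hi⟩ := hz
      obtain ⟨k, hk⟩ := hy.2
      have h2 : orderOf ((⟨z, hzM⟩ : M) : M ⧸ C.subgroupOf M) ∣ p ^ k := by
        refine (orderOf_map_dvd (QuotientGroup.mk' (C.subgroupOf M)) (⟨z, hzM⟩ : M)).trans ?_
        rw [Subgroup.orderOf_mk, ← hk, ← hi]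
        exact orderOf_dvd_of_mem_zpowers ⟨i, rfl⟩
      have h3 : orderOf ((⟨z, hzM⟩ : M) : M ⧸ C.subgroupOf M) = Nat.card (M ⧸ C.subgroupOf M) :=
        ((Nat.dvd_prime h1).mp (orderOf_dvd_natCard _)).resolve_left fun e => hne (orderOf_eq_one_iff.mp e)
      rw [h3] at h2
      exact (Nat.prime_dvd_prime_iff_eq h1 hp).mp (h1.dvd_of_dvd_pow h2)
    set S := ((P : Subgroup G) ⊓ M).subgroupOf M
    have hmap : S.map (QuotientGroup.mk' (C.subgroupOf M)) = ⊤ := by
      rw [← Subgroup.index_eq_one]
      have hd := Subgroup.index_map_dvd S (QuotientGroup.mk'_surjective (C.subgroupOf M))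
      rcases (Nat.dvd_prime hp).mp (hqp ▸ Subgroup.index_dvd_card (S.map (QuotientGroup.mk' (C.subgroupOf M)))) with e | e
      · exact e
      · exact absurd (e ▸ hd) (show ¬ p ∣ S.index from htame.1)
    obtain ⟨s, hs, hse⟩ : QuotientGroup.mk' (C.subgroupOf M) ⟨z, hzM⟩ ∈ S.map (QuotientGroup.mk' (C.subgroupOf M)) :=
      hmap ▸ Subgroup.mem_top _
    have hsz : (s : G)⁻¹ * z ∈ C := Subgroup.mem_subgroupOf.mp
      ((QuotientGroup.eq (s := C.subgroupOf M) (a := s) (b := (⟨z, hzM⟩ : M))).mp hse)
    set c := (s : G)⁻¹ * z with hc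
    have e : ⁅t, z⁆ = ⁅t, (s : G)⁆ := by
      rw [show z = (s : G) * c by rw [hc]; group, commutatorElement_def, commutatorElement_def]
      have h2 : c * t⁻¹ = t⁻¹ * c := ((Subgroup.mem_centralizer_iff.mp hsz) t⁻¹ (inv_mem ht)).symm
      calc t * ((s : G) * c) * t⁻¹ * ((s : G) * c)⁻¹ = t * (s : G) * (c * t⁻¹) * c⁻¹ * (s : G)⁻¹ := by group
        _ = t * (s : G) * t⁻¹ * (s : G)⁻¹ := by rw [h2]; group
    rw [e]
    exact Subgroup.commutator_mem_commutator (hTP ht) (Subgroup.mem_subgroupOf.mp hs).1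
  -- a nilpotent group is not perfect
  haveI : Group.IsNilpotent (P : Subgroup G) := P.isPGroup'.isNilpotent
  have hPbot : (P : Subgroup G) = ⊥ := CfsgLib.Transfer.eq_bot_of_le_commutator le_rfl hle
  have hd := P.dvd_card_of_dvd_card (hpd.trans R.card_subgroup_dvd_card)
  rw [hPbot, Subgroup.card_bot, Nat.dvd_one] at hd
  exact hp.one_lt.ne hd.symm

end Cfsg.Agent.S4072
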