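import Cfsg.Statements.S4074
import Mathlib
-- import your own Cfsg.Agent.* helpers here

set_option autoImplicit false
open Cfsg

namespace Cfsg.Agent.S4074

theorem isMulCommutative_of_card_le_four {X : Type*} [Group X] [Finite X] {H : Subgroup X} (h : Nat.card H ≤ 4) :
    IsMulCommutative H := by
  have hpos : 0 < Nat.card H := Nat.card_pos
  rcases (show Nat.card H = 1 ∨ Nat.card H = 2 ∨ Nat.card H = 3 ∨ Nat.card H = 4 by omega) with e | e | e | e
  · have := (Nat.card_eq_one_iff_unique.mp e).1
    exact ⟨⟨fun a b => Subsingleton.elim _ _⟩⟩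
  · have : Fact (Nat.Prime 2) := ⟨Nat.prime_two⟩
    have : IsCyclic H := isCyclic_of_prime_card e
    exact inferInstance
  · have : Fact (Nat.Prime 3) := ⟨Nat.prime_three⟩
    have : IsCyclic H := isCyclic_of_prime_card e
    exact inferInstance
  · have : Fact (Nat.Prime 2) := ⟨Nat.prime_two⟩
    exact ⟨⟨fun a b => IsPGroup.commutative_of_card_eq_prime_sq (p := 2) (by rw [e]; norm_num) a b⟩⟩

/-- For n > 2, every non-abelian subgroup of the dihedral group of order 2n is self-normalizing if and only if n = 4 or n is odd. -/
theorem result (n : ℕ) (hn : 2 < n) :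
    (∀ H : Subgroup (DihedralGroup n), ¬ IsMulCommutative H → Subgroup.normalizer (H : Set (DihedralGroup n)) = H) ↔
    (n = 4 ∨ Odd n) := by
  classical
  have : NeZero n := ⟨by omega⟩
  constructor
  · intro h
    by_contra hcon
    push Not at hcon
    obtain ⟨hn4, ⟨m, hm⟩⟩ := hcon.1, Nat.not_odd_iff_even.mp hcon.2
    have hd : 2 ∣ n := ⟨m, by omega⟩
    let c : ZMod n →+* ZMod 2 := ZMod.castHom hd (ZMod 2)
    let H : Subgroup (DihedralGroup n) :=
      { carrier := {g | match g with | DihedralGroup.r i => c i = 0 | DihedralGroup.sr i => c i = 0}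
        one_mem' := by show c 0 = 0; simp
        mul_mem' := by
          rintro (i | i) (j | j) hi hj
          · show c (i + j) = 0; simp only [Set.mem_ofPred_eq] at hi hj; simp [hi, hj]
          · show c (j - i) = 0; simp only [Set.mem_ofPred_eq] at hi hj; simp [hi, hj]
          · show c (i + j) = 0; simp only [Set.mem_ofPred_eq] at hi hj; simp [hi, hj]
          · show c (j - i) = 0; simp only [Set.mem_ofPred_eq] at hi hj; simp [hi, hj]
        inv_mem' := by
          rintro (i | i) hi
          · show c (-i) = 0; simp only [Set.mem_ofPred_eq] at hi; simp [hi]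
          · exact hi }
    have h2 : DihedralGroup.r (2 : ZMod n) ∈ H := by show c 2 = 0; rw [map_ofNat]; decide
    have h0 : DihedralGroup.sr (0 : ZMod n) ∈ H := by show c 0 = 0; simp
    have hnc : ¬ IsMulCommutative H := by
      intro hc
      have := congrArg Subtype.val (hc.is_comm.comm ⟨_, h2⟩ ⟨_, h0⟩)
      simp only [Subgroup.coe_mul, DihedralGroup.r_mul_sr, DihedralGroup.sr_mul_r, DihedralGroup.sr.injEq] at this
      have h4 : ((4 : ℕ) : ZMod n) = 0 := by push_cast; linear_combination -this
      rw [ZMod.natCast_eq_zero_iff] at h4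
      have := Nat.le_of_dvd (by norm_num) h4
      interval_cases n <;> omega
    have hr : DihedralGroup.r (1 : ZMod n) ∈ Subgroup.normalizer (H : Set (DihedralGroup n)) := by
      have hx : ∀ x : ZMod 2, x + x = 0 := by decide
      rw [Subgroup.mem_normalizer_iff]
      rintro (i | i)
      · show c i = 0 ↔ c (1 + i + -1) = 0
        simp
      · show c i = 0 ↔ c (i - 1 + -1) = 0
        rw [map_add, map_sub, map_neg, map_one, sub_add, sub_neg_eq_add, hx, sub_zero]
    rw [h H hnc] at hr
    have : c 1 = 0 := hr
    rw [map_one] at this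
    exact one_ne_zero this
  · intro hn' H hnc
    refine le_antisymm ?_ Subgroup.le_normalizer
    rcases hn' with rfl | hodd
    · have htop : H = ⊤ := by
        by_contra hne
        apply hnc
        have hcard : Nat.card H ∣ 8 := by
          have := H.card_subgroup_dvd_card
          rwa [DihedralGroup.nat_card] at this
        have hlt : Nat.card H ≠ 8 := fun e => hne (Subgroup.eq_top_of_card_eq _ (by rw [DihedralGroup.nat_card]; omega))
        have hle : Nat.card H ≤ 4 := by
          have := Nat.le_of_dvd (by norm_num) hcard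
          interval_cases hh : Nat.card H <;> first | omega | norm_num at hcard
        exact isMulCommutative_of_card_le_four hle
      rw [htop]; exact le_top
    · have h2 : IsUnit ((2 : ℕ) : ZMod n) := (ZMod.unitOfCoprime 2 (Nat.coprime_two_left.mpr hodd)).isUnit
      push_cast at h2
      obtain ⟨b, hb⟩ : ∃ b, DihedralGroup.sr b ∈ H := by
        by_contra hno
        push Not at hno
        apply hnc
        refine ⟨⟨fun a a' => Subtype.ext ?_⟩⟩
        obtain ⟨a | a, ha⟩ := a
        swap
        · exact absurd ha (hno a)
        obtain ⟨a' | a', ha'⟩ := a'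
        swap
        · exact absurd ha' (hno a')
        show DihedralGroup.r (a + a') = DihedralGroup.r (a' + a)
        rw [add_comm]
      have key : ∀ j, DihedralGroup.r j ∈ Subgroup.normalizer (H : Set (DihedralGroup n)) → DihedralGroup.r j ∈ H := by
        intro j hj
        have h1 := (Subgroup.mem_normalizer_iff.mp hj _).mp hb
        have e : (DihedralGroup.sr b) * (DihedralGroup.r j * DihedralGroup.sr b * (DihedralGroup.r j)⁻¹) =
            DihedralGroup.r (-(2 * j)) := by
          show DihedralGroup.r (b - j + -j - b) = _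
          congr 1; ring
        have h3 : DihedralGroup.r (-(2 * j)) ∈ H := e ▸ mul_mem hb h1
        obtain ⟨u, hu⟩ := h2
        have e2 : DihedralGroup.r j = DihedralGroup.r (-(2 * j)) ^ (-(((u⁻¹ : (ZMod n)ˣ) : ZMod n).val : ℤ)) := by
          rw [zpow_neg, zpow_natCast, DihedralGroup.r_pow, DihedralGroup.inv_r, ZMod.natCast_zmod_val]
          congr 1
          rw [← hu]
          have hu2 : ((u⁻¹ : (ZMod n)ˣ) : ZMod n) * (u : ZMod n) = 1 := u.inv_mul
          linear_combination -j * hu2
        rw [e2]; exact zpow_mem h3 _
      rintro (j | j) hj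
      · exact key j hj
      · have h1 : DihedralGroup.sr b * DihedralGroup.sr j ∈ Subgroup.normalizer (H : Set (DihedralGroup n)) :=
          mul_mem (Subgroup.le_normalizer hb) hj
        rw [DihedralGroup.sr_mul_sr] at h1
        have h3 := mul_mem hb (key _ h1)
        rwa [DihedralGroup.sr_mul_r, add_sub_cancel] at h3

end Cfsg.Agent.S4074
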