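import Cfsg.Statements.S4075
import Mathlib
-- import your own Cfsg.Agent.* helpers here

set_option autoImplicit false
open Cfsg

namespace Cfsg.Agent.S4075

/-- Let G be a finite nilpotent group. Every non-abelian subgroup of G is self-normalizing if and only if G is abelian or G is a minimal non-abelian p-group for some prime p (non-abelian of prime-power order with every proper subgroup abelian). -/
theorem result {G : Type*} [Group G] [Finite G]
    [Group.IsNilpotent G] :
    (∀ H : Subgroup G, ¬ IsMulCommutative H → Subgroup.normalizer (H : Set G) = H) ↔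
    (IsMulCommutative G ∨ (IsPrimePow (Nat.card G) ∧ ¬ IsMulCommutative G ∧ ∀ H : Subgroup G, H ≠ ⊤ → IsMulCommutative H)) := by
  classical
  constructor
  · intro h
    by_cases hc : IsMulCommutative G
    · exact Or.inl hc
    have hprop : ∀ H : Subgroup G, H ≠ ⊤ → IsMulCommutative H := fun H hH => by
      by_contra hn
      exact absurd (h H hn) (ne_of_gt (Group.normalizerCondition_of_isNilpotent H (lt_top_iff_ne_top.mpr hH)))
    refine Or.inr ⟨?_, hc, hprop⟩
    by_contra hpp
    apply hc
    refine ⟨⟨fun a b => ?_⟩⟩
    -- all Sylow subgroups are proper, hence abelian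
    obtain ⟨φ⟩ := ((Group.isNilpotent_of_finite_tfae (G := G)).out 0 4 rfl rfl).mp inferInstance
    apply φ.symm.injective
    rw [map_mul, map_mul]
    funext q P
    have : (P : Subgroup G) ≠ ⊤ := fun e => hpp (by
      have := Fact.mk (Nat.prime_of_mem_primeFactors q.2)
      obtain ⟨k, hk⟩ := IsPGroup.iff_card.mp P.isPGroup'
      rw [e, Subgroup.card_top] at hk
      have hk0 : k ≠ 0 := by
        rintro rfl
        exact (Nat.prime_of_mem_primeFactors q.2).ne_one (Nat.dvd_one.mp
          ((Nat.dvd_of_mem_primeFactors q.2).trans (hk.trans (pow_zero _)).dvd))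
      rw [hk]
      exact IsPrimePow.pow (Nat.prime_of_mem_primeFactors q.2).isPrimePow hk0)
    exact (hprop _ this).is_comm.comm _ _
  · rintro (hc | ⟨-, -, hall⟩) H hH
    · exact absurd ⟨⟨fun a b => Subtype.ext (hc.is_comm.comm _ _)⟩⟩ hH
    · have : H = ⊤ := by_contra fun e => hH (hall H e)
      rw [this]; exact Subgroup.normalizer_eq_top_iff.mpr inferInstance

end Cfsg.Agent.S4075
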