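import Cfsg.Statements.S4080
import Mathlib
import Cfsg.Agent.Lib.Unipotent
-- import your own Cfsg.Agent.* helpers here

set_option autoImplicit false
open Cfsg

namespace Cfsg.Agent.S4080

/-- Let p > 3 be a prime and L the direct product of two cyclic groups of order p². Every automorphism of L of order p fixes every element of order p of L. -/
theorem result {p : ℕ} [Fact p.Prime] (hp : 3 < p)
    (a : MulAut (Multiplicative (ZMod (p ^ 2) × ZMod (p ^ 2)))) (ha : orderOf a = p)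
    (x : Multiplicative (ZMod (p ^ 2) × ZMod (p ^ 2))) (hx : orderOf x = p) : a x = x := by
  classical
  have hp' : p.Prime := Fact.out
  have : NeZero (p ^ 2) := ⟨pow_ne_zero _ hp'.ne_zero⟩
  let ι : (ZMod (p ^ 2) × ZMod (p ^ 2)) → (Fin 2 → ZMod (p ^ 2)) := fun v => ![v.1, v.2]
  let f : (Fin 2 → ZMod (p ^ 2)) →+ (Fin 2 → ZMod (p ^ 2)) := AddMonoidHom.mk'
    (fun u => ι (Multiplicative.toAdd (a (Multiplicative.ofAdd (u 0, u 1))))) (fun u v => by
      have e : Multiplicative.ofAdd ((u + v) 0, (u + v) 1) =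
          Multiplicative.ofAdd (u 0, u 1) * Multiplicative.ofAdd (v 0, v 1) := rfl
      rw [e, map_mul]
      funext i; fin_cases i <;> rfl)
  let L : (Fin 2 → ZMod (p ^ 2)) →ₗ[ZMod (p ^ 2)] (Fin 2 → ZMod (p ^ 2)) := f.toZModLinearMap (p ^ 2)
  set A := LinearMap.toMatrixAlgEquiv' L with hA
  have hLn : ∀ (k : ℕ) (v : ZMod (p ^ 2) × ZMod (p ^ 2)), (L ^ k) (ι v) = ι (Multiplicative.toAdd ((a ^ k) (Multiplicative.ofAdd v))) := by
    intro k
    induction k with
    | zero => intro v; rfl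
    | succ k ih =>
      intro v
      rw [pow_succ' L, pow_succ' a, Module.End.mul_apply, ih]
      rfl
  have hι : ∀ u : Fin 2 → ZMod (p ^ 2), ι (u 0, u 1) = u := fun u => by funext i; fin_cases i <;> rfl
  have hLp : L ^ p = 1 := by
    refine LinearMap.ext fun u => ?_
    rw [← hι u, hLn, (orderOf_dvd_iff_pow_eq_one.mp ha.dvd : a ^ p = 1)]
    rfl
  have hAp : A ^ p = 1 := by rw [hA, ← map_pow, hLp, map_one]
  set X := A - 1 with hX
  -- reduction modulo `p`
  let c : ZMod (p ^ 2) →+* ZMod p := ZMod.castHom (dvd_pow_self p two_ne_zero) (ZMod p)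
  have hXsq : ∀ i j, (p : ZMod (p ^ 2)) ∣ (X ^ 2) i j := by
    intro i j
    have h1 : c.mapMatrix X ^ p = 0 := by
      rw [hX, map_sub, map_one, sub_pow_char_of_commute p (Commute.one_right _), one_pow, ← map_pow, hAp,
        map_one, sub_self]
    have h2 := CfsgLib.Unipotent.pow_eq_zero_of_isNilpotent ⟨p, h1⟩
    rw [← map_pow] at h2
    have h3 : c ((X ^ 2) i j) = 0 := congrFun (congrFun h2 i) j
    have h4 : p ∣ ((X ^ 2) i j).val := by
      rw [← ZMod.natCast_eq_zero_iff, ← h3]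
      exact ((congrArg c (ZMod.natCast_zmod_val ((X ^ 2) i j))).symm.trans (map_natCast c _)).symm
    obtain ⟨d, hd⟩ := h4
    exact ⟨(d : ZMod (p ^ 2)), by rw [← ZMod.natCast_zmod_val ((X ^ 2) i j), hd, Nat.cast_mul]⟩
  choose Y hY using hXsq
  have hXY : X ^ 2 = (p : ZMod (p ^ 2)) • Matrix.of Y := Matrix.ext fun i j => hY i j
  have hqq : (p : ZMod (p ^ 2)) * p = 0 := by
    rw [← Nat.cast_mul, ← pow_two]; exact ZMod.natCast_self _
  have hpX : (p : ZMod (p ^ 2)) • X = 0 := by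
    have hbin : A ^ p = ∑ i ∈ Finset.range (p + 1), X ^ i * 1 ^ (p - i) * (p.choose i) := by
      rw [← (Commute.one_right X).add_pow, hX, sub_add_cancel]
    have hterm : ∀ i ∈ Finset.range (p + 1), i ≠ 0 → i ≠ 1 → X ^ i * 1 ^ (p - i) * ((p.choose i : ℕ) : Matrix (Fin 2) (Fin 2) (ZMod (p ^ 2))) = 0 := by
      intro i hi h0 h1
      rw [Finset.mem_range] at hi
      rw [one_pow, mul_one]
      obtain ⟨r, rfl⟩ : ∃ r, i = r + 2 := ⟨i - 2, by omega⟩
      rw [pow_add, hXY, mul_smul_comm, smul_mul_assoc]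
      rcases Nat.lt_or_ge (r + 2) p with hlt | hge
      · obtain ⟨d, hd⟩ := hp'.dvd_choose_self (k := r + 2) (by omega) hlt
        have hpd : ((p * d : ℕ) : Matrix (Fin 2) (Fin 2) (ZMod (p ^ 2))) = (p : ZMod (p ^ 2)) • (d : Matrix (Fin 2) (Fin 2) (ZMod (p ^ 2))) := by
          rw [Nat.cast_mul, ← nsmul_eq_mul, ← Nat.cast_smul_eq_nsmul (ZMod (p ^ 2))]
        rw [hd, hpd, mul_smul_comm, smul_smul, hqq, zero_smul]
      · obtain ⟨s, rfl⟩ : ∃ s, r = s + 2 := ⟨r - 2, by omega⟩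
        rw [pow_add X s 2, hXY, mul_smul_comm, smul_mul_assoc, smul_mul_assoc, smul_smul, hqq, zero_smul]
    rw [hAp] at hbin
    rw [Finset.sum_range_succ', Finset.sum_eq_single 0 (fun i hi hne => hterm (i + 1) (Finset.mem_range.mpr (by have := Finset.mem_range.mp hi; omega)) (by omega) (by omega))
      (fun h => absurd (Finset.mem_range.mpr hp'.pos) h)] at hbin
    simp only [zero_add, pow_one, one_pow, mul_one, Nat.choose_one_right, pow_zero, Nat.choose_zero_right, Nat.cast_one] at hbin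
    have h2 : X * (p : Matrix (Fin 2) (Fin 2) (ZMod (p ^ 2))) = 0 := add_eq_right.mp hbin.symm
    rwa [← nsmul_one p, mul_smul_comm, mul_one, ← Nat.cast_smul_eq_nsmul (ZMod (p ^ 2))] at h2
  -- an element of order `p` is divisible by `p`
  have hdiv : ∀ t : ZMod (p ^ 2), p • t = 0 → ∃ d : ZMod (p ^ 2), t = (p : ZMod (p ^ 2)) * d := by
    intro t ht
    have h1 : p ^ 2 ∣ p * t.val := by
      rw [← ZMod.natCast_eq_zero_iff, Nat.cast_mul, ZMod.natCast_zmod_val, ← nsmul_eq_mul, ht]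
    replace h1 : p * p ∣ p * t.val := pow_two p ▸ h1
    obtain ⟨d, hd⟩ := Nat.dvd_of_mul_dvd_mul_left hp'.pos h1
    exact ⟨(d : ZMod (p ^ 2)), by rw [← Nat.cast_mul, ← hd, ZMod.natCast_zmod_val]⟩
  obtain ⟨v, rfl⟩ : ∃ v, Multiplicative.ofAdd v = x := ⟨Multiplicative.toAdd x, rfl⟩
  have hx' : p • v = 0 := by
    exact (orderOf_dvd_iff_pow_eq_one.mp hx.dvd : (Multiplicative.ofAdd v) ^ p = 1)
  obtain ⟨d1, hd1⟩ := hdiv v.1 (congrArg Prod.fst hx')
  obtain ⟨d2, hd2⟩ := hdiv v.2 (congrArg Prod.snd hx')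
  have hv : ι v = (p : ZMod (p ^ 2)) • ![d1, d2] := by
    funext i; fin_cases i <;> simp [ι, hd1, hd2]
  have hL0 : (p : ZMod (p ^ 2)) • (L - 1) = 0 := by
    apply LinearMap.toMatrixAlgEquiv'.injective
    rw [map_smul, map_sub, map_one, map_zero]
    exact hpX
  have h1 := LinearMap.congr_fun hL0 ![d1, d2]
  rw [LinearMap.smul_apply, LinearMap.sub_apply, Module.End.one_apply, LinearMap.zero_apply, smul_sub,
    sub_eq_zero, ← map_smul, ← hv] at h1
  have h2 := hLn 1 v
  rw [pow_one, pow_one, h1] at h2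
  apply Multiplicative.toAdd.injective
  exact (Prod.ext (congrFun h2 0) (congrFun h2 1)).symm

end Cfsg.Agent.S4080
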