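import Cfsg.Statements.S4081
import Cfsg.Agent.S4081.LinAlg
import Cfsg.Agent.Lib.SylowExtra
import Cfsg.Agent.Lib.CoprimeGen
import Cfsg.Agent.Lib.CharTheory
import Cfsg.Agent.Lib.CharTheory.Linear
import Cfsg.Agent.Lib.CharTheory.Burnside
import Mathlib
-- import your own Cfsg.Agent.* helpers here

set_option autoImplicit false
open Cfsg

namespace Cfsg.Agent.S4081

open Subgroup MulAction
open scoped IsMulCommutative commutatorElement

variable {G : Type*} [Group G] [Finite G]

/-- The order of the elements in an orbit of the automorphism group. -/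
noncomputable def orbitOrder : orbitRel.Quotient (MulAut G) G → ℕ :=
  Quotient.lift orderOf fun a b h => by
    obtain ⟨α, hα⟩ := h
    rw [← hα]
    exact MulEquiv.orderOf_eq α b

theorem orbitOrder_range : Set.range (orbitOrder (G := G)) = Set.range (fun g : G => orderOf g) := by
  ext n
  constructor
  · rintro ⟨x, rfl⟩
    induction x using Quotient.inductionOn with
    | _ g => exact ⟨g, rfl⟩
  · rintro ⟨g, rfl⟩
    exact ⟨Quotient.mk'' g, rfl⟩

section Conj

variable {p : ℕ} [Fact p.Prime] (P : Subgroup G) [hP : P.Normal] [IsMulCommutative P]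
  [Module (ZMod p) (Additive P)]

/-- Conjugation by `g`, as a linear map of the elementary abelian normal subgroup `P`. -/
noncomputable def conjLin (g : G) : Module.End (ZMod p) (Additive P) :=
  (MonoidHom.toAdditive ((MulAut.conjNormal g : MulAut P).toMonoidHom)).toZModLinearMap p

theorem conjLin_apply (g : G) (u : Additive P) :
    ((Additive.toMul (conjLin (p := p) P g u) : P) : G) = g * (Additive.toMul u : P) * g⁻¹ := rfl

theorem additive_ext {u v : Additive P}
    (h : ((Additive.toMul u : P) : G) = ((Additive.toMul v : P) : G)) : u = v :=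
  Additive.toMul.injective (Subtype.ext h)

theorem conjLin_mul (g h : G) :
    conjLin (p := p) P (g * h) = conjLin P g * conjLin P h := by
  refine LinearMap.ext fun u => additive_ext P ?_
  rw [Module.End.mul_apply, conjLin_apply, conjLin_apply, conjLin_apply]
  group

theorem conjLin_one : conjLin (p := p) P (1 : G) = 1 := by
  refine LinearMap.ext fun u => additive_ext P ?_
  rw [Module.End.one_apply, conjLin_apply]
  group

theorem conjLin_pow (g : G) (m : ℕ) : conjLin (p := p) P (g ^ m) = conjLin P g ^ m := by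
  induction m with
  | zero => rw [pow_zero, pow_zero, conjLin_one]
  | succ m ih => rw [pow_succ, pow_succ, conjLin_mul, ih]

theorem conjLin_mem {u : G} (hu : u ∈ P) : conjLin (p := p) P u = 1 := by
  refine LinearMap.ext fun v => additive_ext P ?_
  rw [Module.End.one_apply, conjLin_apply]
  have := congrArg Subtype.val (mul_comm (⟨u, hu⟩ : P) (Additive.toMul v : P))
  simp only [Subgroup.coe_mul] at this
  rw [this, mul_inv_cancel_right]

end Conj

theorem orbit_eq_of_three (h3 : Nat.card (orbitRel.Quotient (MulAut G) G) = 3) {p q : ℕ}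
    (hp : p.Prime) (hq : q.Prime) (hpq : p ≠ q) (hpd : p ∣ Nat.card G) (hqd : q ∣ Nat.card G) :
    (∀ g : G, orderOf g = 1 ∨ orderOf g = p ∨ orderOf g = q) ∧
      (∀ a b : G, orderOf a = orderOf b → ∃ α : MulAut G, α b = a) := by
  classical
  have := Fact.mk hp
  have := Fact.mk hq
  have := Fintype.ofFinite (orbitRel.Quotient (MulAut G) G)
  obtain ⟨x, hx⟩ := exists_prime_orderOf_dvd_card' (G := G) p hpd
  obtain ⟨y, hy⟩ := exists_prime_orderOf_dvd_card' (G := G) q hqd
  set s := Finset.univ.image (orbitOrder (G := G)) with hs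
  have hmem : ∀ g : G, orderOf g ∈ s := fun g =>
    Finset.mem_image.mpr ⟨Quotient.mk'' g, Finset.mem_univ _, rfl⟩
  have hsub : ({1, p, q} : Finset ℕ) ⊆ s := by
    intro n hn
    simp only [Finset.mem_insert, Finset.mem_singleton] at hn
    rcases hn with rfl | rfl | rfl
    · exact orderOf_one (G := G) ▸ hmem 1
    · exact hx ▸ hmem x
    · exact hy ▸ hmem y
  have h1 : ({1, p, q} : Finset ℕ).card = 3 := by
    simp [Finset.card_insert_of_notMem, hp.ne_one.symm, hq.ne_one.symm, hpq]
  have hcard : s.card ≤ Fintype.card (orbitRel.Quotient (MulAut G) G) :=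
    Finset.card_image_le
  rw [← Nat.card_eq_fintype_card, h3] at hcard
  have heq := Finset.eq_of_subset_of_card_le hsub (by omega)
  refine ⟨fun g => ?_, fun a b hab => ?_⟩
  · have := hmem g
    rw [← heq] at this
    simpa using this
  · have hinj : Set.InjOn (orbitOrder (G := G))
        ((Finset.univ : Finset (orbitRel.Quotient (MulAut G) G)) : Set (orbitRel.Quotient (MulAut G) G)) := by
      refine Finset.injOn_of_card_image_eq ?_
      rw [← hs, ← heq, h1, Finset.card_univ, ← Nat.card_eq_fintype_card, h3]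
    exact Quotient.exact (hinj (Finset.mem_coe.mpr (Finset.mem_univ (Quotient.mk'' a)))
      (Finset.mem_coe.mpr (Finset.mem_univ (Quotient.mk'' b))) hab)

theorem forward_aux {p q : ℕ} [hp : Fact p.Prime] [hq : Fact q.Prime] (hpq : p ≠ q)
    (hord : ∀ g : G, orderOf g = 1 ∨ orderOf g = p ∨ orderOf g = q)
    (htrans : ∀ a b : G, orderOf a = orderOf b → ∃ α : MulAut G, α b = a)
    (hpd : p ∣ Nat.card G) (hqd : q ∣ Nat.card G)
    (C : Subgroup G) [hC : C.Characteristic] (hCmem : ∀ g : G, g ∈ C ↔ orderOf g = 1 ∨ orderOf g = p) :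
    ∃ n, 1 ≤ n ∧ Nat.card G = p ^ n * q ∧
      (∀ P : Sylow p G, (P : Subgroup G).Normal ∧ Cfsg.IsElementaryAbelian p (P : Subgroup G)) ∧
      orderOf (p : ZMod q) = q - 1 ∧
      ∀ x y : G, orderOf x = q → orderOf y = p → x * y * x⁻¹ ≠ y := by
  have hpow : ∀ g ∈ C, g ^ p = 1 := fun g hg => by
    rcases (hCmem g).mp hg with h | h
    · rw [orderOf_eq_one_iff.mp h, one_pow]
    · rw [← h, pow_orderOf_eq_one]
  have hCp : IsPGroup p C := fun g => ⟨1, Subtype.ext (by simpa using hpow g g.2)⟩
  -- the centre of `C` is everything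
  have hCcomm : IsMulCommutative C := by
    obtain ⟨c, hc⟩ := exists_prime_orderOf_dvd_card' (G := G) p hpd
    have hcC : c ∈ C := (hCmem c).mpr (Or.inr hc)
    have : Nontrivial C := ⟨⟨c, hcC⟩, 1, fun e => hp.out.ne_one (by
      rw [← hc, show c = 1 from congrArg Subtype.val e, orderOf_one])⟩
    have : Nontrivial (Subgroup.center C) := hCp.center_nontrivial
    obtain ⟨z, hz⟩ := exists_ne (1 : Subgroup.center C)
    set Z := (Subgroup.center C).map C.subtype with hZ
    have hzord : orderOf ((z : C) : G) = p := by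
      refine ((hCmem _).mp (z : C).2).resolve_left fun e => hz ?_
      exact Subtype.ext (Subtype.ext (orderOf_eq_one_iff.mp e))
    have hZC : ∀ g ∈ C, g ∈ Z := by
      intro g hg
      rcases (hCmem g).mp hg with h | h
      · rw [orderOf_eq_one_iff.mp h]; exact one_mem _
      · obtain ⟨α, hα⟩ := htrans g ((z : C) : G) (by rw [h, hzord])
        have hchar : Z.Characteristic := inferInstance
        have := Subgroup.characteristic_iff_map_eq.mp hchar α
        rw [← hα, ← this]
        exact Subgroup.mem_map.mpr ⟨_, Subgroup.mem_map.mpr ⟨_, z.2, rfl⟩, rfl⟩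
    refine IsMulCommutative.mk ⟨fun a b => ?_⟩
    obtain ⟨a', ha', ha''⟩ := Subgroup.mem_map.mp (hZC a a.2)
    have : a' = a := Subtype.ext ha''
    subst this
    exact (Subgroup.mem_center_iff.mp ha' b).symm
  have hfpf : ∀ x y : G, orderOf x = q → orderOf y = p → x * y * x⁻¹ ≠ y := by
    intro x y hx hy h
    have hc : Commute x y := mul_inv_eq_iff_eq_mul.mp h
    have := hc.orderOf_mul_eq_mul_orderOf_of_coprime
      (by rw [hx, hy]; exact (Nat.coprime_primes hq.out hp.out).mpr hpq.symm)
    rw [hx, hy] at this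
    have h1 : p ∣ orderOf (x * y) := this ▸ dvd_mul_left _ _
    have h2 : q ∣ orderOf (x * y) := this ▸ dvd_mul_right _ _
    rcases hord (x * y) with h' | h' | h'
    · rw [h'] at h1; exact hp.out.not_dvd_one h1
    · rw [h'] at h2; exact hpq.symm ((Nat.prime_dvd_prime_iff_eq hq.out hp.out).mp h2)
    · rw [h'] at h1; exact hpq ((Nat.prime_dvd_prime_iff_eq hp.out hq.out).mp h1)
  -- Sylow `p`-subgroups
  have hsylC : ∀ P : Sylow p G, (P : Subgroup G) = C := by
    intro P
    refine (P.3 hCp fun g hg => ?_).symm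
    obtain ⟨j, hj⟩ := IsPGroup.iff_orderOf.mp P.2 ⟨g, hg⟩
    rw [Subgroup.orderOf_mk] at hj
    refine (hCmem g).mpr ((hord g).imp_right fun h => h.resolve_right fun h' => ?_)
    rw [h'] at hj
    exact hpq.symm ((Nat.prime_dvd_prime_iff_eq hq.out hp.out).mp
      (hq.out.dvd_of_dvd_pow hj.dvd))
  obtain ⟨P⟩ : Nonempty (Sylow p G) := inferInstance
  obtain ⟨n, hn⟩ := hCp.exists_card_eq
  have hn1 : 1 ≤ n := by
    by_contra h
    have h0 : n = 0 := by omega
    have := P.dvd_card_of_dvd_card hpd
    rw [hsylC P, hn, h0, pow_zero] at this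
    exact hp.out.not_dvd_one this
  -- the Sylow `q`-subgroups have order `q`
  obtain ⟨Q⟩ : Nonempty (Sylow q G) := inferInstance
  have hQexp : ∀ g ∈ (Q : Subgroup G), g ≠ 1 → orderOf g = q := by
    intro g hg hg1
    obtain ⟨j, hj⟩ := IsPGroup.iff_orderOf.mp Q.2 ⟨g, hg⟩
    rw [Subgroup.orderOf_mk] at hj
    rcases hord g with h | h | h
    · exact absurd (orderOf_eq_one_iff.mp h) hg1
    · rw [h] at hj
      exact absurd ((Nat.prime_dvd_prime_iff_eq hp.out hq.out).mp (hp.out.dvd_of_dvd_pow hj.dvd)) hpq
    · exact h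
  have hQcard : Nat.card Q = q := by
    have : Nontrivial Q := (Subgroup.nontrivial_iff_ne_bot _).mpr fun e => by
      have := Q.dvd_card_of_dvd_card hqd
      rw [e, Subgroup.card_bot] at this
      exact hq.out.not_dvd_one this
    have : Nontrivial (Subgroup.center Q) := Q.2.center_nontrivial
    obtain ⟨z, hz⟩ := exists_ne (1 : Subgroup.center Q)
    set z' : G := ((z : Q) : G) with hz'
    have hz1 : z' ≠ 1 := fun e => hz (Subtype.ext (Subtype.ext e))
    have hzq : orderOf z' = q := hQexp z' (z : Q).2 hz1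
    suffices h : (Q : Subgroup G) ≤ Subgroup.zpowers z' by
      have hle := Subgroup.card_le_of_le h
      rw [Nat.card_zpowers, hzq] at hle
      have := Nat.le_of_dvd Nat.card_pos (Q.dvd_card_of_dvd_card hqd)
      exact le_antisymm hle this
    intro y hy
    by_contra hyz
    set A := Subgroup.closure ({z', y} : Set G) with hA
    have hAQ : A ≤ (Q : Subgroup G) := (Subgroup.closure_le _).mpr (by
      rintro w (rfl | rfl)
      exacts [(z : Q).2, hy])
    have hzy : z' * y = y * z' :=
      (congrArg Subtype.val (Subgroup.mem_center_iff.mp z.2 ⟨y, hy⟩)).symm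
    have : IsMulCommutative A := Subgroup.isMulCommutative_closure (by
      rintro a (rfl | rfl) b (rfl | rfl) <;> simp [hzy])
    have hAnc : ¬ IsCyclic A := by
      intro hcyc
      obtain ⟨⟨w, hw⟩, hgen⟩ := hcyc.exists_generator
      have hw1 : w ≠ 1 := by
        intro e
        obtain ⟨i, hi⟩ := hgen ⟨z', Subgroup.subset_closure (by simp)⟩
        exact hz1 (by simpa [e] using (congrArg Subtype.val hi).symm)
      have hwq := hQexp w (hAQ hw) hw1
      obtain ⟨i, hi⟩ := hgen ⟨z', Subgroup.subset_closure (by simp)⟩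
      have hzw : z' ∈ Subgroup.zpowers w := ⟨i, by simpa using congrArg Subtype.val hi⟩
      obtain ⟨j, hj⟩ := hgen ⟨y, Subgroup.subset_closure (by simp)⟩
      have hyw : y ∈ Subgroup.zpowers w := ⟨j, by simpa using congrArg Subtype.val hj⟩
      have : Subgroup.zpowers z' = Subgroup.zpowers w :=
        Subgroup.eq_of_le_of_card_ge (by rwa [Subgroup.zpowers_le])
          (by rw [Nat.card_zpowers, Nat.card_zpowers, hzq, hwq])
      exact hyz (this ▸ hyw)
    have hcop : (Nat.card A).Coprime (Nat.card C) := by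
      obtain ⟨m, hm⟩ := (Q.2.to_le hAQ).exists_card_eq
      rw [hm, hn]
      exact Nat.Coprime.pow _ _ ((Nat.coprime_primes hq.out hp.out).mpr hpq.symm)
    have hgen := CfsgLib.coprime_generated_by_centralizers hAnc
      (Subgroup.normalizer_eq_top (H := C) ▸ le_top) hcop
    have hbot : C ≤ ⊥ := by
      rw [← hgen]
      refine iSup₂_le fun a ha => ?_
      rintro c ⟨hcC, hca⟩
      rw [Subgroup.mem_bot]
      by_contra hc1
      refine hfpf a c (hQexp a (hAQ ha.1) ha.2) (((hCmem c).mp hcC).resolve_left
        fun e => hc1 (orderOf_eq_one_iff.mp e)) ?_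
      rw [← Subgroup.mem_centralizer_singleton_iff.mp hca, mul_inv_cancel_right]
    rw [le_bot_iff] at hbot
    rw [hbot, Subgroup.card_bot] at hn
    exact absurd hn.symm (Nat.one_lt_pow (by omega) hp.out.one_lt).ne'
  have hcardG : Nat.card G = p ^ n * q := by
    refine Nat.dvd_antisymm ?_ ?_
    · rw [← Nat.factorization_le_iff_dvd Nat.card_pos.ne' (mul_pos (pow_pos hp.out.pos n) hq.out.pos).ne']
      intro r
      by_cases hr : r.Prime
      · by_cases hrd : r ∣ Nat.card G
        · have := Fact.mk hr
          obtain ⟨g, hg⟩ := exists_prime_orderOf_dvd_card' (G := G) r hrd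
          obtain ⟨R⟩ : Nonempty (Sylow r G) := inferInstance
          have hrc : r ^ (Nat.card G).factorization r ∣ p ^ n * q := by
            rw [← R.card_eq_multiplicity]
            rcases hord g with h | h | h <;> rw [hg] at h
            · exact absurd h hr.ne_one
            · subst h; rw [hsylC R, hn]; exact dvd_mul_right _ _
            · subst h; rw [Nat.card_congr (R.equiv Q).toEquiv, hQcard]; exact dvd_mul_left _ _
          exact (hr.pow_dvd_iff_le_factorization (mul_pos (pow_pos hp.out.pos n) hq.out.pos).ne').mp hrc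
        · rw [Nat.factorization_eq_zero_of_not_dvd hrd]; exact Nat.zero_le _
      · rw [Nat.factorization_eq_zero_of_not_prime _ hr]; exact Nat.zero_le _
    · exact Nat.Coprime.mul_dvd_of_dvd_of_dvd
        (((Nat.coprime_primes hp.out hq.out).mpr hpq).pow_left n)
        (hn ▸ Subgroup.card_subgroup_dvd_card C) hqd
  refine ⟨n, hn1, hcardG, fun P => ?_, ?_, hfpf⟩
  · rw [hsylC P]
    exact ⟨inferInstance, hCcomm, hpow⟩
  -- `p` is a primitive root
  have instC : Module (ZMod p) (Additive C) := AddCommGroup.zmodModule fun u =>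
    additive_ext C (by simpa using hpow _ (Additive.toMul u : C).2)
  obtain ⟨x, hx⟩ := exists_prime_orderOf_dvd_card' (G := G) q hqd
  obtain ⟨c, hc⟩ := exists_prime_orderOf_dvd_card' (G := G) p hpd
  have : Nontrivial (Additive C) := by
    refine ⟨Additive.ofMul ⟨c, (hCmem c).mpr (Or.inr hc)⟩, 0, fun e => hp.out.ne_one ?_⟩
    rw [← hc, show c = 1 from congrArg (fun u => ((Additive.toMul u : C) : G)) e, orderOf_one]
  have hxC : ∀ j : ℕ, ¬ q ∣ j → orderOf (x ^ j) = q := fun j hj => by
    rw [Nat.Coprime.orderOf_pow (by rw [hx]; exact hq.out.coprime_iff_not_dvd.mpr hj), hx]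
  have hnz : ∀ u : Additive C, u ≠ 0 → orderOf ((Additive.toMul u : C) : G) = p := fun u hu =>
    ((hCmem _).mp (Additive.toMul u : C).2).resolve_left fun e =>
      hu (additive_ext C (orderOf_eq_one_iff.mp e))
  have hlin : ∀ α : MulAut G, ∃ β : Additive C ≃ₗ[ZMod p] Additive C,
      (∀ u, ((Additive.toMul (β u) : C) : G) = α (Additive.toMul u : C)) ∧
      (∀ g u, β (conjLin (p := p) C g u) = conjLin (p := p) C (α g) (β u)) := by
    intro α
    have hm : ∀ g, α g ∈ C ↔ g ∈ C := fun g => by
      rw [hCmem, hCmem, MulEquiv.orderOf_eq α g]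
    let e : C ≃* C :=
      { toFun := fun u => ⟨α u, (hm _).mpr u.2⟩
        invFun := fun u => ⟨α.symm u, (hm _).mp (by rw [α.apply_symm_apply]; exact u.2)⟩
        left_inv := fun u => Subtype.ext (α.symm_apply_apply _)
        right_inv := fun u => Subtype.ext (α.apply_symm_apply _)
        map_mul' := fun u v => Subtype.ext (map_mul α _ _) }
    let β : Additive C ≃ₗ[ZMod p] Additive C :=
      LinearEquiv.ofBijective ((MonoidHom.toAdditive e.toMonoidHom).toZModLinearMap p) e.bijective
    refine ⟨β, fun u => rfl, fun g u => additive_ext C ?_⟩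
    show α (g * _ * g⁻¹) = α g * α _ * (α g)⁻¹
    rw [map_mul, map_mul, map_inv]
  have hTq : conjLin (p := p) C x ^ q = 1 := by
    rw [← conjLin_pow, ← hx, pow_orderOf_eq_one, conjLin_one]
  refine primitive_root_of_transitive hpq (conjLin (p := p) C x) hTq ?_ ?_ ?_
  · intro u hu
    by_contra hne
    refine hfpf x _ hx (hnz u hne) ?_
    exact congrArg (fun w => ((Additive.toMul w : C) : G)) hu
  · intro v w hv hw
    obtain ⟨α, hα⟩ := htrans _ _ ((hnz w hw).trans (hnz v hv).symm)
    obtain ⟨β, hβ, hβc⟩ := hlin α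
    have hCidx : Nat.card (G ⧸ C) = q := by
      have := C.card_mul_index
      rw [hn, hcardG] at this
      exact Nat.eq_of_mul_eq_mul_left (pow_pos hp.out.pos n) this
    have hnotC : ∀ y : G, orderOf y = q → QuotientGroup.mk' C y ≠ 1 := fun y hy e => by
      rcases (hCmem y).mp ((QuotientGroup.eq_one_iff y).mp e) with h | h
      · exact hq.out.ne_one (hy.symm.trans h)
      · exact hpq (h.symm.trans hy)
    have hmem : QuotientGroup.mk' C (α x) ∈ Subgroup.zpowers (QuotientGroup.mk' C x) :=
      mem_zpowers_of_prime_card hCidx (hnotC x hx)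
    rw [← mem_powers_iff_mem_zpowers] at hmem
    obtain ⟨k, hk⟩ := hmem
    have hk' : α x * (x ^ k)⁻¹ ∈ C := by
      rw [← QuotientGroup.eq_one_iff, ← QuotientGroup.mk'_apply, map_mul, map_inv, map_pow,
        mul_inv_eq_one]
      exact hk.symm
    refine ⟨k, β, fun hd => ?_, additive_ext C ((hβ v).trans hα), fun u => ?_⟩
    · refine hnotC (α x) (by rw [MulEquiv.orderOf_eq α x, hx]) ?_
      rw [← hk]
      obtain ⟨d, rfl⟩ := hd
      show QuotientGroup.mk' C x ^ (q * d) = 1
      rw [pow_mul, ← map_pow, ← hx, pow_orderOf_eq_one, map_one, one_pow]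
    · rw [hβc, show α x = (α x * (x ^ k)⁻¹) * x ^ k by group, conjLin_mul, conjLin_mem C hk',
        one_mul, conjLin_pow]
  · intro i hi
    obtain ⟨α, hα⟩ := htrans (x ^ i) x ((hxC i hi).trans hx.symm)
    obtain ⟨β, -, hβc⟩ := hlin α
    exact ⟨β, fun u => by rw [hβc, hα, conjLin_pow]⟩

theorem backward {p q n : ℕ} [hp : Fact p.Prime] [hq : Fact q.Prime] (hpq : p ≠ q) (hn : 1 ≤ n)
    (hcard : Nat.card G = p ^ n * q)
    (hP : ∀ P : Sylow p G, (P : Subgroup G).Normal ∧ Cfsg.IsElementaryAbelian p (P : Subgroup G))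
    (hprim : orderOf (p : ZMod q) = q - 1)
    (hfpf : ∀ x y : G, orderOf x = q → orderOf y = p → x * y * x⁻¹ ≠ y) :
    Nat.card (orbitRel.Quotient (MulAut G) G) = 3 := by
  obtain ⟨S⟩ : Nonempty (Sylow p G) := inferInstance
  obtain ⟨hSn, hSc, hSe⟩ := hP S
  set P := (S : Subgroup G) with hPdef
  have hcop : p.Coprime q := (Nat.coprime_primes hp.out hq.out).mpr hpq
  have hPcard : Nat.card P = p ^ n := by
    obtain ⟨a, ha⟩ := S.2.exists_card_eq
    have h1 : p ^ a ∣ p ^ n * q := by rw [← hcard, ← ha]; exact Subgroup.card_subgroup_dvd_card _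
    have h2 : p ^ n ∣ p ^ a := by
      rw [← ha]
      exact S.pow_dvd_card_of_pow_dvd_card (Dvd.intro q hcard.symm)
    rw [ha]
    exact Nat.dvd_antisymm ((hcop.pow_left a).dvd_of_dvd_mul_right h1) h2
  have instP : Module (ZMod p) (Additive P) := AddCommGroup.zmodModule fun u =>
    additive_ext P (by simpa using hSe _ (Additive.toMul u : P).2)
  obtain ⟨x, hx⟩ := exists_prime_orderOf_dvd_card' (G := G) q (Dvd.intro_left _ hcard.symm)
  set K := Subgroup.zpowers x with hK
  have hKcard : Nat.card K = q := by rw [hK, Nat.card_zpowers, hx]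
  have hPidx : P.index = q := by
    have := P.card_mul_index
    rw [hPcard, hcard] at this
    exact Nat.eq_of_mul_eq_mul_left (pow_pos hp.out.pos n) this
  have hcompl : P.IsComplement' K :=
    Subgroup.isComplement'_of_coprime (by rw [hPcard, hKcard, hcard])
      (by rw [hPcard, hKcard]; exact hcop.pow_left n)
  have hpord : ∀ g ∈ P, g ≠ 1 → orderOf g = p := fun g hg hg1 =>
    orderOf_eq_prime (hSe g hg) hg1
  obtain ⟨u₀, hu₀⟩ : ∃ u : Additive P, u ≠ 0 := by
    have : Nontrivial P := by
      rw [← Finite.one_lt_card_iff_nontrivial, hPcard]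
      exact Nat.one_lt_pow (by omega) hp.out.one_lt
    exact exists_ne 0
  set T := conjLin (p := p) P x with hTdef
  have hTq : T ^ q = 1 := by rw [hTdef, ← conjLin_pow, ← hx, pow_orderOf_eq_one, conjLin_one]
  have hTfix : ∀ u, T u = u → u = 0 := by
    intro u hu
    by_contra hne
    exact hfpf x _ hx (hpord _ (Additive.toMul u : P).2 fun e => hne (additive_ext P e))
      (congrArg (fun w => ((Additive.toMul w : P) : G)) hu)
  -- automorphisms
  have haut : ∀ i : ℕ, ¬ q ∣ i → ∀ v w : Additive P, v ≠ 0 → w ≠ 0 →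
      ∃ α : MulAut G, α x = x ^ i ∧ α (Additive.toMul v : P) = (Additive.toMul w : P) := by
    intro i hi v w hv hw
    obtain ⟨β, hβv, hβT⟩ := exists_semilinear hpq hprim T hTq hTfix i hi v w hv hw
    have hβpow : ∀ (m : ℕ) u, β ((T ^ m) u) = (T ^ (i * m)) (β u) := by
      intro m
      induction m with
      | zero => simp
      | succ m ih =>
        intro u
        rw [pow_succ', Module.End.mul_apply, hβT, ih, ← Module.End.mul_apply, ← pow_add,
          mul_add_one, add_comm]
    let f1 : P →* P := (AddMonoidHom.toMultiplicative β.toAddMonoidHom : _ →* _)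
    have hf1 : ∀ u : P, f1 u = Additive.toMul (β (Additive.ofMul u)) := fun _ => rfl
    let f2 : K →* K := powMonoidHom i
    have hcond : ∀ g : K,
        f1.comp (((P.normalizerMonoidHom).comp
          (Subgroup.inclusion (P.normalizer_eq_top ▸ le_top : K ≤ _))) g).toMonoidHom =
        (((P.normalizerMonoidHom).comp
          (Subgroup.inclusion (P.normalizer_eq_top ▸ le_top : K ≤ _))) (f2 g)).toMonoidHom.comp f1 := by
      rintro ⟨g, hg⟩
      obtain ⟨m, rfl⟩ := mem_powers_iff_mem_zpowers.mpr hg
      refine MonoidHom.ext fun u => ?_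
      have h1 : ∀ (a : G) (u' : P) (h' : a * u' * a⁻¹ ∈ P), (⟨a * u' * a⁻¹, h'⟩ : P) =
          Additive.toMul (conjLin (p := p) P a (Additive.ofMul u')) := fun _ _ _ => rfl
      show f1 (Additive.toMul (conjLin (p := p) P (x ^ m) (Additive.ofMul u))) =
        Additive.toMul (conjLin (p := p) P ((x ^ m) ^ i) (Additive.ofMul (f1 u)))
      rw [hf1, hf1, ofMul_toMul, ofMul_toMul, ← pow_mul, conjLin_pow, conjLin_pow, mul_comm m i,
        ← hTdef, hβpow]
    have hinj : Function.Injective (SemidirectProduct.map f1 f2 hcond) := by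
      intro a b hab
      refine SemidirectProduct.ext ?_ ?_
      · have := congrArg SemidirectProduct.left hab
        rw [SemidirectProduct.map_left, SemidirectProduct.map_left, hf1, hf1] at this
        exact Additive.ofMul.injective (β.injective (Additive.toMul.injective this))
      · have := congrArg SemidirectProduct.right hab
        rw [SemidirectProduct.map_right, SemidirectProduct.map_right] at this
        have hc : (Nat.card K).Coprime i := by rw [hKcard]; exact hq.out.coprime_iff_not_dvd.mpr hi
        exact (powCoprime hc).injective this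
    let e := SemidirectProduct.mulEquivSubgroup hcompl
    have := Finite.of_equiv _ e.symm.toEquiv
    let φ := MulEquiv.ofBijective (SemidirectProduct.map f1 f2 hcond)
      ((Finite.injective_iff_bijective).mp hinj)
    refine ⟨(e.symm.trans φ).trans e, ?_, ?_⟩
    · have e1 : e (SemidirectProduct.inr ⟨x, Subgroup.mem_zpowers x⟩) = x := by simp [e]
      show e (φ (e.symm x)) = x ^ i
      conv_lhs => rw [← e1, MulEquiv.symm_apply_apply]
      simp [e, φ, f2]
    · have e1 : e (SemidirectProduct.inl (Additive.toMul v)) = (Additive.toMul v : P) := by simp [e]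
      show e (φ (e.symm (Additive.toMul v : P))) = (Additive.toMul w : P)
      conv_lhs => rw [← e1, MulEquiv.symm_apply_apply]
      simp [e, φ, hf1, hβv]
  -- orders
  have horders : ∀ g : G, g = 1 ∨ (g ∈ P ∧ orderOf g = p) ∨ orderOf g = q := by
    intro g
    by_cases hg1 : g = 1
    · exact Or.inl hg1
    refine Or.inr ?_
    by_cases hg : g ∈ P
    · exact Or.inl ⟨hg, hpord g hg hg1⟩
    refine Or.inr ?_
    have hgq : g ^ q ∈ P := by
      rw [← hPidx]
      exact Subgroup.pow_index_mem P g
    by_contra hne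
    have hgq1 : g ^ q ≠ 1 := fun e => hne (orderOf_eq_prime e hg1)
    have hd := hpord _ hgq hgq1
    -- a power of `g` of order `q` centralises `g ^ q`
    have hdiv : orderOf g ∣ p * q := by
      rw [mul_comm, ← hd]
      exact orderOf_dvd_iff_pow_eq_one.mpr (by rw [pow_mul, pow_orderOf_eq_one])
    have hgp : g ^ p ≠ 1 := fun e => hg (by
      have h1 : orderOf g ∣ p := orderOf_dvd_of_pow_eq_one e
      have h2 : IsPGroup p (Subgroup.zpowers g) := by
        obtain ⟨j, -, hj⟩ := (Nat.dvd_prime_pow hp.out).mp ((pow_one p).symm ▸ h1)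
        exact IsPGroup.of_card (n := j) (by rw [Nat.card_zpowers, hj])
      have h3 := h2.to_sup_of_normal_right S.2
      rw [hPdef, ← S.3 h3 le_sup_right]
      exact Subgroup.mem_sup_left (Subgroup.mem_zpowers g))
    have hxq : orderOf (g ^ p) = q := by
      refine orderOf_eq_prime ?_ hgp
      rw [← pow_mul]
      exact orderOf_dvd_iff_pow_eq_one.mp hdiv
    exact hfpf (g ^ p) (g ^ q) hxq hd (by rw [(Commute.pow_pow_self g p q).eq, mul_inv_cancel_right])
  have hq' : ∀ g : G, orderOf g = q → ∃ α : MulAut G, α x = g := by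
    intro g hg
    have hS : ∀ y : G, orderOf y = q → ∃ R : Sylow q G, (R : Subgroup G) = Subgroup.zpowers y := by
      intro y hy
      refine ⟨(IsPGroup.of_card (p := q) (n := 1) (G := Subgroup.zpowers y)
        (by rw [Nat.card_zpowers, hy, pow_one])).toSylow ?_, rfl⟩
      intro hd
      have h1 := (Subgroup.zpowers y).card_mul_index
      rw [Nat.card_zpowers, hy, hcard, mul_comm (p ^ n)] at h1
      rw [Nat.eq_of_mul_eq_mul_left hq.out.pos h1] at hd
      exact hpq ((Nat.prime_dvd_prime_iff_eq hq.out hp.out).mp (hq.out.dvd_of_dvd_pow hd)).symm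
    obtain ⟨R1, hR1⟩ := hS x hx
    obtain ⟨R2, hR2⟩ := hS g hg
    obtain ⟨h, hh⟩ := MulAction.exists_smul_eq G R1 R2
    have hmem : g ∈ (R2 : Subgroup G) := hR2 ▸ Subgroup.mem_zpowers g
    rw [← hh, Sylow.coe_subgroup_smul, hR1] at hmem
    obtain ⟨y, hy, hyg⟩ := Subgroup.mem_map.mp hmem
    obtain ⟨m, rfl⟩ := mem_powers_iff_mem_zpowers.mpr hy
    have hyg' : MulAut.conj h (x ^ m) = g := hyg
    have hm : ¬ q ∣ m := by
      rintro ⟨d, rfl⟩
      rw [pow_mul, ← hx, pow_orderOf_eq_one, one_pow, map_one] at hyg'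
      rw [← hyg', orderOf_one] at hg
      exact hq.out.ne_one hg.symm
    obtain ⟨α, hα, -⟩ := haut m hm u₀ u₀ hu₀ hu₀
    exact ⟨α.trans (MulAut.conj h), by simp only [MulEquiv.trans_apply, hα]; exact hyg'⟩
  have hrange : Set.range (orbitOrder (G := G)) = {1, p, q} := by
    rw [orbitOrder_range]
    ext m
    constructor
    · rintro ⟨g, rfl⟩
      rcases horders g with h | h | h
      · simp [h]
      · simp [h.2]
      · simp [h]
    · rintro (rfl | rfl | rfl)
      · exact ⟨1, orderOf_one⟩
      · exact ⟨_, hpord _ (Additive.toMul u₀ : P).2 fun e => hu₀ (additive_ext P e)⟩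
      · exact ⟨x, hx⟩
  have hinj : Function.Injective (orbitOrder (G := G)) := by
    intro a b hab
    induction a using Quotient.inductionOn with | _ a => ?_
    induction b using Quotient.inductionOn with | _ b => ?_
    change orderOf a = orderOf b at hab
    refine Quotient.sound ?_
    show a ∈ MulAction.orbit (MulAut G) b
    rcases horders b with hb | ⟨hbP, hb⟩ | hb
    · subst hb
      rw [orderOf_one, orderOf_eq_one_iff] at hab
      subst hab
      exact MulAction.mem_orbit_self _
    · have haP : a ∈ P := by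
        rcases horders a with ha | ha | ha
        · subst ha; exact one_mem _
        · exact ha.1
        · exact absurd ((hb.symm.trans hab.symm).trans ha) hpq
      obtain ⟨α, -, hα⟩ := haut 1 hq.out.not_dvd_one (Additive.ofMul (⟨b, hbP⟩ : P))
        (Additive.ofMul (⟨a, haP⟩ : P))
        (fun e => hp.out.ne_one (by
          rw [← hb, show b = 1 from congrArg (fun w => ((Additive.toMul w : P) : G)) e, orderOf_one]))
        (fun e => hp.out.ne_one (by
          rw [← hb, ← hab, show a = 1 from congrArg (fun w => ((Additive.toMul w : P) : G)) e,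
            orderOf_one]))
      exact ⟨α, hα⟩
    · obtain ⟨α, hα⟩ := hq' a (hab.trans hb)
      obtain ⟨β, hβ⟩ := hq' b hb
      exact ⟨β.symm.trans α, by
        show α (β.symm b) = a
        rw [← hβ, β.symm_apply_apply, hα]⟩
  rw [← Nat.card_range_of_injective hinj, hrange, Nat.card_coe_set_eq]
  rw [Set.ncard_eq_three]
  exact ⟨1, p, q, hp.out.ne_one.symm, hq.out.ne_one.symm, hpq, rfl⟩

/-- Let G be a finite group whose order is not a prime power. Then the automorphism group of G has exactly three orbits on G if and only if there are distinct primes p, q with #G = pⁿ·q (n ≥ 1) such that G has a normal elementary abelian Sylow p-subgroup P, p is a primitive root modulo q (the multiplicative order of p mod q is q − 1), and every element of order q of G acts on P without non-identity fixed points. -/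
theorem result {G : Type*} [Group G] [Finite G] (hnpp : ¬ IsPrimePow (Nat.card G)) (hnt : Nat.card G ≠ 1) :
    Nat.card (MulAction.orbitRel.Quotient (MulAut G) G) = 3 ↔
    ∃ (p q n : ℕ) (_ : Fact p.Prime) (_ : Fact q.Prime), p ≠ q ∧ 1 ≤ n ∧ Nat.card G = p ^ n * q ∧
      (∀ P : Sylow p G, (P : Subgroup G).Normal ∧ Cfsg.IsElementaryAbelian p (P : Subgroup G)) ∧
      orderOf (p : ZMod q) = q - 1 ∧
      ∀ x y : G, orderOf x = q → orderOf y = p → x * y * x⁻¹ ≠ y := by
  constructor
  · intro h3
    obtain ⟨p, q, hp, hq, hpq, hpd, hqd⟩ :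
        ∃ p q : ℕ, p.Prime ∧ q.Prime ∧ p ≠ q ∧ p ∣ Nat.card G ∧ q ∣ Nat.card G := by
      obtain ⟨p, hp, hpd⟩ := Nat.exists_prime_and_dvd hnt
      by_contra hc
      apply hnpp
      rw [isPrimePow_nat_iff]
      have hall : ∀ {r : ℕ}, r.Prime → r ∣ Nat.card G → r = p := fun {r} hr hrd => by
        by_contra hne
        exact hc ⟨r, p, hr, hp, hne, hrd, hpd⟩
      have he := Nat.eq_prime_pow_of_unique_prime_dvd Nat.card_pos.ne' hall
      refine ⟨p, _, hp, Nat.pos_of_ne_zero fun e => ?_, he.symm⟩
      rw [e, pow_zero] at he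
      exact hnt he
    have := Fact.mk hp
    have := Fact.mk hq
    obtain ⟨hord, htrans⟩ := orbit_eq_of_three h3 hp hq hpq hpd hqd
    have hcard : ∃ a b, Nat.card G = p ^ a * q ^ b := by
      refine ⟨(Nat.card G).factorization p, ?_⟩
      have hall : ∀ {r : ℕ}, r.Prime → r ∣ ordCompl[p] (Nat.card G) → r = q := fun {r} hr hrd => by
        have := Fact.mk hr
        obtain ⟨g, hg⟩ := exists_prime_orderOf_dvd_card' (G := G) r (hrd.trans (Nat.ordCompl_dvd _ _))
        rcases hord g with h | h | h <;> rw [hg] at h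
        · exact absurd h hr.ne_one
        · exact absurd (h ▸ hrd) (Nat.not_dvd_ordCompl hp Nat.card_pos.ne')
        · exact h
      refine ⟨_, (Nat.ordProj_mul_ordCompl_eq_self (Nat.card G) p).symm.trans (congrArg _
        (Nat.eq_prime_pow_of_unique_prime_dvd (Nat.ordCompl_pos p Nat.card_pos.ne').ne' hall))⟩
    obtain ⟨a, b, hab⟩ := hcard
    have hsol := CfsgLib.CharTheory.isSolvable_of_card_two_primes hp hq hab
    set C := commutator G with hC
    have hCtop : C ≠ ⊤ := by
      have : Nontrivial G := by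
        rw [← Finite.one_lt_card_iff_nontrivial]
        have : 0 < Nat.card G := Nat.card_pos
        omega
      exact (Group.IsSolvable.commutator_lt_top_of_nontrivial G).ne
    obtain ⟨c, hcC, hc1⟩ : ∃ c ∈ C, c ≠ 1 := by
      by_contra hno
      push Not at hno
      obtain ⟨x, hx⟩ := exists_prime_orderOf_dvd_card' (G := G) p hpd
      obtain ⟨y, hy⟩ := exists_prime_orderOf_dvd_card' (G := G) q hqd
      have hcomm : x * y = y * x := commutatorElement_eq_one_iff_mul_comm.mp
        (hno _ (Subgroup.commutator_mem_commutator (Subgroup.mem_top x) (Subgroup.mem_top y)))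
      have h1 := (show Commute x y from hcomm).orderOf_mul_eq_mul_orderOf_of_coprime
        (by rw [hx, hy]; exact (Nat.coprime_primes hp hq).mpr hpq)
      rw [hx, hy] at h1
      have hp1 : p ∣ orderOf (x * y) := h1 ▸ dvd_mul_right _ _
      have hq1 : q ∣ orderOf (x * y) := h1 ▸ dvd_mul_left _ _
      rcases hord (x * y) with h | h | h
      · rw [h] at hp1; exact hp.not_dvd_one hp1
      · rw [h] at hq1; exact hpq ((Nat.prime_dvd_prime_iff_eq hq hp).mp hq1).symm
      · rw [h] at hp1; exact hpq ((Nat.prime_dvd_prime_iff_eq hp hq).mp hp1)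
    have hsame : ∀ a b : G, orderOf a = orderOf b → b ∈ C → a ∈ C := by
      intro a b hab hb
      obtain ⟨α, rfl⟩ := htrans a b hab
      exact Subgroup.characteristic_iff_map_eq.mp (inferInstance : C.Characteristic) α ▸
        Subgroup.mem_map.mpr ⟨b, hb, rfl⟩
    have hkey : ∀ {p' q' : ℕ}, (∀ g : G, orderOf g = 1 ∨ orderOf g = p' ∨ orderOf g = q') →
        orderOf c = p' → ∀ g : G, g ∈ C ↔ orderOf g = 1 ∨ orderOf g = p' := by
      intro p' q' hord' hcp g
      constructor
      · intro hg
        rcases hord' g with h | h | h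
        · exact Or.inl h
        · exact Or.inr h
        · exfalso
          refine hCtop (eq_top_iff.mpr fun u _ => ?_)
          rcases hord' u with hu | hu | hu
          · rw [orderOf_eq_one_iff.mp hu]; exact one_mem _
          · exact hsame u c (hu.trans hcp.symm) hcC
          · exact hsame u g (hu.trans h.symm) hg
      · rintro (h | h)
        · rw [orderOf_eq_one_iff.mp h]; exact one_mem _
        · exact hsame g c (h.trans hcp.symm) hcC
    have hCchar : C.Characteristic := inferInstance
    rcases (hord c).resolve_left (fun e => hc1 (orderOf_eq_one_iff.mp e)) with hcp | hcq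
    · obtain ⟨n, h⟩ := forward_aux hpq hord htrans hpd hqd C (hkey hord hcp)
      exact ⟨p, q, n, ⟨hp⟩, ⟨hq⟩, hpq, h⟩
    · have hord' : ∀ g : G, orderOf g = 1 ∨ orderOf g = q ∨ orderOf g = p := fun g =>
        (hord g).imp_right Or.symm
      obtain ⟨n, h⟩ := forward_aux hpq.symm hord' htrans hqd hpd C (hkey hord' hcq)
      exact ⟨q, p, n, ⟨hq⟩, ⟨hp⟩, hpq.symm, h⟩
  · rintro ⟨p, q, n, hp, hq, hpq, hn, hcard, hP, hprim, hfpf⟩
    exact backward hpq hn hcard hP hprim hfpf

end Cfsg.Agent.S4081
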