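import Cfsg.Statements.S4082
import Mathlib
import Cfsg.Agent.Lib.PByCyclic
import Cfsg.Agent.Lib.DihedralShape
-- import your own Cfsg.Agent.* helpers here

set_option autoImplicit false
open Cfsg

namespace Cfsg.Agent.S4082

namespace Aux

universe a

open DihedralGroup CfsgLib

variable {G : Type a} [Group G] [Finite G] {p : ℕ} [Fact p.Prime]

def Small (p : ℕ) (G : Type a) [Group G] : Prop :=
  ∀ H : Subgroup G, (∀ S : Sylow p ↥H, (S : Subgroup ↥H).Normal) →
    (∀ (S : Sylow p ↥H) [(S : Subgroup ↥H).Normal], IsCyclic (↥H ⧸ (S : Subgroup ↥H))) →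
    IsCyclic H ∨ (∃ n : ℕ, Nonempty (H ≃* DihedralGroup (p ^ n)))

theorem dichotomy (hp : p ≠ 2) (h : Small p G) {K : Subgroup G} (hK : IsPGroup p K) {x : G}
    (hx : x ∈ Subgroup.normalizer (K : Set G)) :
    x ∈ Subgroup.centralizer (K : Set G) ∨ (x * x = 1 ∧ ∀ k ∈ K, x * k * x⁻¹ = k⁻¹) := by
  obtain ⟨h1, h2⟩ := PByCyclic.of_sup_zpowers hK hx
  set H := K ⊔ Subgroup.zpowers x with hH
  have hxH : x ∈ H := Subgroup.mem_sup_right (Subgroup.mem_zpowers x)
  rcases h H h1 h2 with hc | ⟨n, ⟨e⟩⟩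
  · left
    haveI := hc
    letI := IsCyclic.commGroup (α := H)
    exact Subgroup.mem_centralizer_iff.mpr fun k hk =>
      congrArg Subtype.val (mul_comm (⟨k, Subgroup.mem_sup_left hk⟩ : H) ⟨x, hxH⟩)
  · have hodd : ∀ k, ∀ hk : k ∈ K, ∃ j, e ⟨k, Subgroup.mem_sup_left hk⟩ = r j := fun k hk => by
      rcases he : e ⟨k, Subgroup.mem_sup_left hk⟩ with j | j
      · exact ⟨j, rfl⟩
      · exfalso
        have h2' : orderOf k = 2 := by
          rw [← Subgroup.orderOf_mk k (Subgroup.mem_sup_left hk : k ∈ H), ← MulEquiv.orderOf_eq e, he, orderOf_sr]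
        obtain ⟨i, hi⟩ := IsPGroup.iff_orderOf.mp hK ⟨k, hk⟩
        rw [Subgroup.orderOf_mk, h2'] at hi
        exact hp ((Nat.prime_dvd_prime_iff_eq Nat.prime_two Fact.out).mp
          (Nat.prime_two.dvd_of_dvd_pow hi.dvd)).symm
    rcases he : e ⟨x, hxH⟩ with i | i
    · left
      refine Subgroup.mem_centralizer_iff.mpr fun k hk => ?_
      obtain ⟨j, hj⟩ := hodd k hk
      refine congrArg Subtype.val (e.injective (a₁ := (⟨k, Subgroup.mem_sup_left hk⟩ : H) * ⟨x, hxH⟩)
        (a₂ := ⟨x, hxH⟩ * ⟨k, Subgroup.mem_sup_left hk⟩) ?_)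
      rw [map_mul, map_mul, hj, he, r_mul_r, r_mul_r, add_comm]
    · right
      refine ⟨congrArg Subtype.val (e.injective (a₁ := (⟨x, hxH⟩ : H) * ⟨x, hxH⟩) (a₂ := 1) ?_), fun k hk => ?_⟩
      · rw [map_mul, he, sr_mul_self, map_one]
      · obtain ⟨j, hj⟩ := hodd k hk
        refine congrArg Subtype.val (e.injective
          (a₁ := (⟨x, hxH⟩ : H) * ⟨k, Subgroup.mem_sup_left hk⟩ * ⟨x, hxH⟩⁻¹)
          (a₂ := (⟨k, Subgroup.mem_sup_left hk⟩ : H)⁻¹) ?_)
        rw [map_mul, map_mul, map_inv, map_inv, hj, he, inv_sr, sr_mul_r, sr_mul_sr, inv_r]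
        exact congrArg r (by ring)

theorem odd_card (hp : p ≠ 2) {K : Subgroup G} (hK : IsPGroup p K) {k : G} (hk : k ∈ K) (h : k = k⁻¹) : k = 1 := by
  have h2 : k ^ 2 = 1 := by rw [pow_two]; exact mul_eq_one_iff_eq_inv.mpr h
  obtain ⟨i, hi⟩ := IsPGroup.iff_orderOf.mp hK ⟨k, hk⟩
  rw [Subgroup.orderOf_mk] at hi
  exact orderOf_eq_one_iff.mp (Nat.eq_one_of_dvd_coprimes
    (Nat.Coprime.pow_left i ((Nat.coprime_primes Fact.out Nat.prime_two).mpr hp)) hi.dvd (orderOf_dvd_of_pow_eq_one h2))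

theorem forward (hp : p ≠ 2) (P : Sylow p G) (h : Small p G) : IsCyclic P ∧
      (Subgroup.normalizer ((P : Subgroup G) : Set G) = Subgroup.centralizer ((P : Subgroup G) : Set G) ∨
       ((Subgroup.centralizer ((P : Subgroup G) : Set G)).relIndex (Subgroup.normalizer ((P : Subgroup G) : Set G)) = 2 ∧
        ∀ Q : Subgroup G, Q ≤ P → Nat.card Q = p →
          IsMulCommutative ↥(Subgroup.centralizer (Q : Set G)) ∧
          ∀ x : G, x ∈ Subgroup.normalizer (Q : Set G) → x ∉ Subgroup.centralizer (Q : Set G) →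
            orderOf x = 2 ∧ ∀ c : G, c ∈ Subgroup.centralizer (Q : Set G) → x * c * x⁻¹ = c⁻¹)) := by
  refine ⟨?_, ?_⟩
  · obtain ⟨h1, h2⟩ := PByCyclic.of_sup_zpowers P.2 (c := (1 : G)) (one_mem _)
    have hc := h _ h1 h2
    rw [Subgroup.zpowers_one_eq_bot, sup_bot_eq] at hc
    rcases hc with hc | ⟨n, ⟨e⟩⟩
    · exact hc
    · exfalso
      obtain ⟨i, hi⟩ := IsPGroup.iff_card.mp P.2
      have h2' := (Nat.card_congr e.toEquiv).trans DihedralGroup.nat_card
      have : 2 ∣ p ^ i := ⟨p ^ n, hi ▸ h2'⟩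
      exact hp ((Nat.prime_dvd_prime_iff_eq Nat.prime_two Fact.out).mp (Nat.prime_two.dvd_of_dvd_pow this)).symm
  set N := Subgroup.normalizer ((P : Subgroup G) : Set G)
  set C := Subgroup.centralizer ((P : Subgroup G) : Set G)
  by_cases hNC : N = C
  · exact Or.inl hNC
  have hCN : C ≤ N := Subgroup.centralizer_le_normalizer _
  obtain ⟨t, htN, htC⟩ : ∃ t ∈ N, t ∉ C := by
    by_contra hcon
    push Not at hcon
    exact hNC (le_antisymm hcon hCN)
  obtain ⟨-, htinv⟩ := (dichotomy hp h P.2 htN).resolve_left htC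
  refine Or.inr ⟨?_, fun Q hQP hQ => ?_⟩
  · refine Subgroup.index_eq_two_iff_exists_notMem_and.mpr ⟨⟨t, htN⟩, htC, fun b => ?_⟩
    rcases dichotomy hp h P.2 b.2 with hb | ⟨-, hb⟩
    · exact Or.inr hb
    · left
      show (b : G) * t ∈ C
      refine Subgroup.mem_centralizer_iff.mpr fun k hk => ?_
      have h1 : (b : G) * t * k * ((b : G) * t)⁻¹ = k := by
        rw [show (b : G) * t * k * ((b : G) * t)⁻¹ = b * (t * k * t⁻¹) * (b : G)⁻¹ by group, htinv k hk,
          hb _ (inv_mem hk), inv_inv]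
      exact (mul_inv_eq_iff_eq_mul.mp h1).symm
  · have hQp : IsPGroup p Q := IsPGroup.of_card (n := 1) (by rw [hQ, pow_one])
    obtain ⟨q, hq, hq1⟩ := (Subgroup.bot_or_exists_ne_one Q).resolve_left (fun e => by
      rw [e, Subgroup.card_bot] at hQ; exact (Fact.out : p.Prime).one_lt.ne hQ)
    have htQ : t ∈ Subgroup.normalizer (Q : Set G) := Subgroup.mem_normalizer_fintype fun k hk => by
      show t * k * t⁻¹ ∈ Q
      rw [htinv k (hQP hk)]; exact inv_mem hk
    have htQC : t ∉ Subgroup.centralizer (Q : Set G) := fun hc => hq1 (odd_card hp hQp hq (by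
      rw [← htinv q (hQP hq)]
      exact (mul_inv_eq_iff_eq_mul.mpr (Subgroup.mem_centralizer_iff.mp hc q hq).symm).symm))
    have hsq : ∀ x ∈ Subgroup.normalizer (Q : Set G), x ∉ Subgroup.centralizer (Q : Set G) → x * x = 1 :=
      fun x hx hxC => ((dichotomy hp h hQp hx).resolve_left hxC).1
    have hinv : ∀ x ∈ Subgroup.normalizer (Q : Set G), x ∉ Subgroup.centralizer (Q : Set G) →
        ∀ c ∈ Subgroup.centralizer (Q : Set G), x * c * x⁻¹ = c⁻¹ := fun x hx hxC c hc => by
      have h1 := hsq (x * c) (mul_mem hx (Subgroup.centralizer_le_normalizer _ hc)) fun hm => hxC (by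
        have := mul_mem hm (inv_mem hc)
        rwa [mul_inv_cancel_right] at this)
      rw [inv_eq_of_mul_eq_one_left (hsq x hx hxC)]
      exact eq_inv_of_mul_eq_one_left (by rw [← h1]; simp [mul_assoc])
    refine ⟨⟨⟨fun a b => Subtype.ext ?_⟩⟩, fun x hx hxC => ⟨?_, hinv x hx hxC⟩⟩
    · have ha := hinv t htQ htQC a a.2
      have hb := hinv t htQ htQC b b.2
      have hab := hinv t htQ htQC _ (mul_mem a.2 b.2)
      rw [show t * ((a : G) * b) * t⁻¹ = (t * a * t⁻¹) * (t * b * t⁻¹) by group, ha, hb, mul_inv_rev] at hab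
      show (a : G) * b = b * a
      calc (a : G) * b = ((b : G)⁻¹ * (a : G)⁻¹)⁻¹ := by rw [mul_inv_rev, inv_inv, inv_inv]
        _ = ((a : G)⁻¹ * (b : G)⁻¹)⁻¹ := by rw [hab]
        _ = b * a := by rw [mul_inv_rev, inv_inv, inv_inv]
    · exact orderOf_eq_prime (by rw [pow_two]; exact hsq x hx hxC) fun e => hxC (e ▸ one_mem _)

theorem core (hp : p ≠ 2) (P : Sylow p G) (hP : IsCyclic P)
    (h : Subgroup.normalizer ((P : Subgroup G) : Set G) = Subgroup.centralizer ((P : Subgroup G) : Set G) ∨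
       ((Subgroup.centralizer ((P : Subgroup G) : Set G)).relIndex (Subgroup.normalizer ((P : Subgroup G) : Set G)) = 2 ∧
        ∀ Q : Subgroup G, Q ≤ P → Nat.card Q = p →
          IsMulCommutative ↥(Subgroup.centralizer (Q : Set G)) ∧
          ∀ x : G, x ∈ Subgroup.normalizer (Q : Set G) → x ∉ Subgroup.centralizer (Q : Set G) →
            orderOf x = 2 ∧ ∀ c : G, c ∈ Subgroup.centralizer (Q : Set G) → x * c * x⁻¹ = c⁻¹))
    {T : Subgroup G} (hT : T ≤ (P : Subgroup G)) {u : G} (hu : u ∈ Subgroup.normalizer (T : Set G)) :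
    u ∈ Subgroup.centralizer (T : Set G) ∨
      (u * u = 1 ∧ ∀ y ∈ Subgroup.centralizer (T : Set G), u * y * u⁻¹ = y⁻¹) := by
  haveI := hP
  haveI : IsMulCommutative (P : Subgroup G) := ⟨⟨fun a b => by letI := IsCyclic.commGroup (α := P); exact mul_comm a b⟩⟩
  rcases h with h | ⟨-, h⟩
  · left
    refine Subgroup.mem_centralizer_iff.mpr fun c hc => ?_
    have hc' : u⁻¹ * c * u ∈ (P : Subgroup G) := hT ((Subgroup.mem_normalizer_iff''.mp hu c).mp hc)
    obtain ⟨n, hn, e⟩ := P.conj_eq_normalizer_conj_of_mem c u (hT hc) hc'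
    have hn' : n ∈ Subgroup.centralizer ((P : Subgroup G) : Set G) := h ▸ hn
    rw [mul_assoc n⁻¹, Subgroup.mem_centralizer_iff.mp hn' c (hT hc), inv_mul_cancel_left, mul_assoc,
      inv_mul_eq_iff_eq_mul] at e
    exact e
  by_cases hT1 : T = ⊥
  · left
    refine Subgroup.mem_centralizer_iff.mpr fun c hc => ?_
    rw [hT1, Subgroup.coe_bot, Set.mem_singleton_iff] at hc
    rw [hc, one_mul, mul_one]
  have hTp : IsPGroup p T := P.2.to_le hT
  obtain ⟨n, hn⟩ := IsPGroup.iff_card.mp hTp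
  obtain ⟨q, hq⟩ := exists_prime_orderOf_dvd_card' (G := T) p (by
    rw [hn]; exact dvd_pow_self p (fun e => hT1 (Subgroup.card_eq_one.mp (by rw [hn, e, pow_zero]))))
  set Q := Subgroup.zpowers (q : G)
  have hQT : Q ≤ T := Subgroup.zpowers_le.mpr q.2
  obtain ⟨hcomm, hout⟩ := h Q (hQT.trans hT) (by rw [Nat.card_zpowers, Subgroup.orderOf_coe, hq])
  by_cases huC : u ∈ Subgroup.centralizer (Q : Set G)
  · left
    refine Subgroup.mem_centralizer_iff.mpr fun c hc => ?_
    have hcC : c ∈ Subgroup.centralizer (Q : Set G) := Subgroup.mem_centralizer_iff.mpr fun k hk =>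
      congrArg Subtype.val (hP' (P := (P : Subgroup G)) ⟨k, hT (hQT hk)⟩ ⟨c, hT hc⟩)
    exact congrArg Subtype.val (hcomm.is_comm.comm (⟨c, hcC⟩ : Subgroup.centralizer (Q : Set G)) ⟨u, huC⟩)
  · haveI : IsCyclic T := isCyclic_of_injective (Subgroup.inclusion hT) (Subgroup.inclusion_injective hT)
    obtain ⟨m, hm⟩ := (Subgroup.normalizerMonoidHom T ⟨u, hu⟩).toMonoidHom.map_cyclic
    have huQ : u ∈ Subgroup.normalizer (Q : Set G) := Subgroup.mem_normalizer_fintype fun k hk => by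
      have h1 : u * k * u⁻¹ = k ^ m := congrArg Subtype.val (hm ⟨k, hQT hk⟩)
      show u * k * u⁻¹ ∈ Q
      rw [h1]; exact Subgroup.zpow_mem _ hk m
    obtain ⟨h1, h2⟩ := hout u huQ huC
    refine Or.inr ⟨?_, fun y hy => h2 y (Subgroup.centralizer_le hQT hy)⟩
    rw [← pow_two]; exact orderOf_dvd_iff_pow_eq_one.mp h1.dvd
where
  hP' {P : Subgroup G} [IsMulCommutative P] (a b : P) : a * b = b * a := mul_comm' a b

theorem backward (hp : p ≠ 2) (P : Sylow p G) (h : IsCyclic P ∧
      (Subgroup.normalizer ((P : Subgroup G) : Set G) = Subgroup.centralizer ((P : Subgroup G) : Set G) ∨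
       ((Subgroup.centralizer ((P : Subgroup G) : Set G)).relIndex (Subgroup.normalizer ((P : Subgroup G) : Set G)) = 2 ∧
        ∀ Q : Subgroup G, Q ≤ P → Nat.card Q = p →
          IsMulCommutative ↥(Subgroup.centralizer (Q : Set G)) ∧
          ∀ x : G, x ∈ Subgroup.normalizer (Q : Set G) → x ∉ Subgroup.centralizer (Q : Set G) →
            orderOf x = 2 ∧ ∀ c : G, c ∈ Subgroup.centralizer (Q : Set G) → x * c * x⁻¹ = c⁻¹)))
    (H : Subgroup G) (hnor : ∀ S : Sylow p ↥H, (S : Subgroup ↥H).Normal)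
    (hquo : ∀ (S : Sylow p ↥H) [(S : Subgroup ↥H).Normal], IsCyclic (↥H ⧸ (S : Subgroup ↥H))) :
    IsCyclic H ∨ (∃ n : ℕ, Nonempty (H ≃* DihedralGroup (p ^ n))) := by
  obtain ⟨hP, h⟩ := h
  let S : Sylow p H := default
  haveI hSn := hnor S
  haveI hQ := hquo S
  have hT0 : IsPGroup p ((S : Subgroup H).map H.subtype) := S.2.map _
  obtain ⟨R, hR⟩ := hT0.exists_le_sylow
  obtain ⟨g, hg⟩ := MulAction.exists_smul_eq G R P
  let f : H →* G := (MulAut.conj g).toMonoidHom.comp H.subtype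
  have hf : Function.Injective f := (MulAut.conj g).injective.comp Subtype.val_injective
  set T : Subgroup G := (S : Subgroup H).map f with hTdef
  have hTP : T ≤ (P : Subgroup G) := by
    rintro _ ⟨x, hx, rfl⟩
    rw [← hg]
    exact Subgroup.smul_mem_pointwise_smul _ (MulAut.conj g) _ (hR ⟨x, hx, rfl⟩)
  haveI := hP
  haveI hSc : IsCyclic (S : Subgroup H) := isCyclic_of_injective
    ((f.comp (S : Subgroup H).subtype).codRestrict (P : Subgroup G) fun x => hTP ⟨x, x.2, rfl⟩)
    fun a b hab => Subtype.ext (hf (congrArg (fun z : (P : Subgroup G) => (z : G)) hab))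
  have hcore : ∀ x : H, (∀ s ∈ (S : Subgroup H), Commute s x) ∨
      (x * x = 1 ∧ ∀ y : H, (∀ s ∈ (S : Subgroup H), Commute s y) → x * y * x⁻¹ = y⁻¹) := fun x => by
    have hxN : f x ∈ Subgroup.normalizer (T : Set G) := Subgroup.mem_normalizer_fintype fun k hk => by
      obtain ⟨s, hs, rfl⟩ := hk
      exact ⟨x * s * x⁻¹, hSn.conj_mem s hs x, by rw [map_mul, map_mul, map_inv]⟩
    rcases core hp P hP h hTP hxN with h1 | ⟨h1, h2⟩
    · exact Or.inl fun s hs => hf (by
        rw [map_mul, map_mul]; exact Subgroup.mem_centralizer_iff.mp h1 (f s) ⟨s, hs, rfl⟩)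
    · refine Or.inr ⟨hf (by rw [map_mul, map_one, h1]), fun y hy => hf ?_⟩
      rw [map_mul, map_mul, map_inv, map_inv]
      refine h2 _ (Subgroup.mem_centralizer_iff.mpr ?_)
      rintro _ ⟨s, hs, rfl⟩
      rw [← map_mul, ← map_mul, hy s hs]
  by_cases hall : ∀ x : H, ∀ s ∈ (S : Subgroup H), Commute s x
  · exact Or.inl (PByCyclic.isCyclic_of_central S fun s hs x => hall x s hs)
  push Not at hall
  obtain ⟨t, s₀, hs₀, hts⟩ := hall
  obtain ⟨ht, hti⟩ := (hcore t).resolve_left fun hh => hts (hh s₀ hs₀)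
  obtain ⟨⟨c, hcS⟩, hgen⟩ := IsCyclic.exists_generator (α := (S : Subgroup H))
  have hScomm : ∀ a ∈ (S : Subgroup H), ∀ s ∈ (S : Subgroup H), Commute s a := fun a ha s hs => by
    letI := IsCyclic.commGroup (α := (S : Subgroup H))
    exact congrArg Subtype.val (mul_comm (⟨s, hs⟩ : (S : Subgroup H)) ⟨a, ha⟩)
  have hSz : (S : Subgroup H) = Subgroup.zpowers c := le_antisymm (fun x hx => by
    obtain ⟨k, hk⟩ := hgen ⟨x, hx⟩
    exact ⟨k, congrArg Subtype.val hk⟩) (Subgroup.zpowers_le.mpr hcS)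
  -- the centralizer of the Sylow subgroup is the Sylow subgroup
  have hcs : ∀ k : H, (∀ s ∈ (S : Subgroup H), Commute s k) → k ∈ (S : Subgroup H) := fun k hk => by
    have h1 := hti k hk
    set q := QuotientGroup.mk' (S : Subgroup H)
    letI := IsCyclic.commGroup (α := H ⧸ (S : Subgroup H))
    have h2 : q k * q k = 1 := by
      have := congrArg q h1
      rw [map_mul, map_mul, map_inv, map_inv, mul_comm (q t), mul_inv_cancel_right] at this
      exact mul_eq_one_iff_eq_inv.mpr this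
    have h3 : q t * q t = 1 := by rw [← map_mul, ht, map_one]
    rw [← QuotientGroup.eq_one_iff]
    by_contra hk1
    have ht1 : q t ≠ 1 := fun e => hts (hScomm t ((QuotientGroup.eq_one_iff t).mp e) s₀ hs₀)
    have hne : q t ≠ q k := fun e => by
      have hm : k⁻¹ * t ∈ (S : Subgroup H) := QuotientGroup.eq.mp e.symm
      exact hts (by simpa using (hk s₀ hs₀).mul_right (hScomm _ hm s₀ hs₀))
    haveI : Fintype (H ⧸ (S : Subgroup H)) := Fintype.ofFinite _
    classical
    have h5 := IsCyclic.card_pow_eq_one_le (α := H ⧸ (S : Subgroup H)) (n := 2) two_pos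
    have h6 : ({1, q t, q k} : Finset (H ⧸ (S : Subgroup H))) ⊆
        Finset.univ.filter (fun a : H ⧸ (S : Subgroup H) => a ^ 2 = 1) := by
      intro a ha
      simp only [Finset.mem_insert, Finset.mem_singleton] at ha
      simp only [Finset.mem_filter, Finset.mem_univ, true_and]
      rcases ha with rfl | rfl | rfl <;> simp [pow_two, h2, h3]
    have h7 := (Finset.card_le_card h6).trans h5
    have hk1' : q k ≠ 1 := hk1
    rw [Finset.card_insert_of_notMem (by simp [Ne.symm ht1, Ne.symm hk1']), Finset.card_pair hne] at h7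
    omega
  have hidx : (S : Subgroup H).index = 2 := by
    refine Subgroup.index_eq_two_iff_exists_notMem_and.mpr
      ⟨t, fun hm => hts (hScomm t hm s₀ hs₀), fun x => ?_⟩
    rcases hcore x with hx | ⟨-, hxi⟩
    · exact Or.inr (hcs x hx)
    · refine Or.inl (hcs _ fun s hs => ?_)
      have e1 := hxi s⁻¹ (fun s' hs' => hScomm _ (inv_mem hs) s' hs')
      have e2 := hti s (fun s' hs' => hScomm _ hs s' hs')
      have e3 : x * t * s * (x * t)⁻¹ = s := by
        rw [show x * t * s * (x * t)⁻¹ = x * (t * s * t⁻¹) * x⁻¹ by group, e2, e1, inv_inv]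
      exact (mul_inv_eq_iff_eq_mul.mp e3).symm
  obtain ⟨n, hn⟩ := IsPGroup.iff_card.mp S.2
  refine Or.inr ⟨n, DihedralShape.equiv_dihedral (c := c) (t := t) ?_ ?_ ht ?_ ?_⟩
  · rw [← Nat.card_zpowers, ← hSz, hn]
  · rw [← (S : Subgroup H).card_mul_index, hidx, hn, mul_comm]
  · rw [← hSz]; exact fun hm => hts (hScomm t hm s₀ hs₀)
  · exact hti c (fun s hs => hScomm c hcS s hs)

end Aux

/-- Let p be an odd prime and G a finite group with Sylow p-subgroup P. Say that G has restricted p-by-cyclic subgroups when every subgroup H of G whose Sylow p-subgroup is normal in H with cyclic quotient is itself cyclic or dihedral of order 2pⁿ for some n. Then G has restricted p-by-cyclic subgroups if and only if P is cyclic and one of the following holds: (1) N_G(P) = C_G(P); or (2) N_G(P)/C_G(P) has order 2 and, for the subgroup Q of order p of P, the centralizer C_G(Q) is abelian and every element of N_G(Q) outside C_G(Q) is an involution inverting every element of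 C_G(Q). -/
theorem result {G : Type*} [Group G] [Finite G] {p : ℕ}
    [Fact p.Prime] (hp : p ≠ 2) (P : Sylow p G) :
    (∀ H : Subgroup G, (∀ S : Sylow p ↥H, (S : Subgroup ↥H).Normal) →
        (∀ (S : Sylow p ↥H) [(S : Subgroup ↥H).Normal], IsCyclic (↥H ⧸ (S : Subgroup ↥H))) →
        IsCyclic H ∨ (∃ n : ℕ, Nonempty (H ≃* DihedralGroup (p ^ n)))) ↔
    (IsCyclic P ∧
      (Subgroup.normalizer ((P : Subgroup G) : Set G) = Subgroup.centralizer ((P : Subgroup G) : Set G) ∨
       ((Subgroup.centralizer ((P : Subgroup G) : Set G)).relIndex (Subgroup.normalizer ((P : Subgroup G) : Set G)) = 2 ∧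
        ∀ Q : Subgroup G, Q ≤ P → Nat.card Q = p →
          IsMulCommutative ↥(Subgroup.centralizer (Q : Set G)) ∧
          ∀ x : G, x ∈ Subgroup.normalizer (Q : Set G) → x ∉ Subgroup.centralizer (Q : Set G) →
            orderOf x = 2 ∧ ∀ c : G, c ∈ Subgroup.centralizer (Q : Set G) → x * c * x⁻¹ = c⁻¹))) := by

  exact ⟨fun h => Aux.forward hp P h, fun h H hn hc => Aux.backward hp P h H hn hc⟩

end Cfsg.Agent.S4082
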