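import Cfsg.Statements.S4083
import Mathlib
import Cfsg.Agent.Lib.PByCyclic
import Cfsg.Agent.Lib.DihedralShape
import Cfsg.Agent.Lib.DihedralClasses
import Cfsg.Agent.Lib.PResidual
-- import your own Cfsg.Agent.* helpers here

set_option autoImplicit false
open Cfsg

namespace Cfsg.Agent.S4083

namespace Aux

universe a

open DihedralGroup CfsgLib

variable {G : Type a} [Group G] [Finite G]

def Small (G : Type a) [Group G] : Prop :=
  ∀ H : Subgroup G, (∀ S : Sylow 2 ↥H, (S : Subgroup ↥H).Normal) →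
    (∀ (S : Sylow 2 ↥H) [(S : Subgroup ↥H).Normal], IsCyclic (↥H ⧸ (S : Subgroup ↥H))) →
    IsCyclic H ∨ (∃ n : ℕ, Nonempty (H ≃* DihedralGroup (2 ^ n))) ∨ Nonempty (H ≃* alternatingGroup (Fin 4))

theorem klein_not_cyclic {K : Subgroup G} (h4 : Nat.card K = 4) (h2 : ∀ k ∈ K, k ^ 2 = 1) : ¬ IsCyclic K := fun hc => by
  obtain ⟨g, hg⟩ := IsCyclic.exists_ofOrder_eq_natCard (α := K)
  have := Nat.le_of_dvd two_pos (orderOf_dvd_of_pow_eq_one (x := g) (Subtype.ext (h2 g g.2)))
  omega

theorem alternating_not_comm : ¬ (∀ a b : alternatingGroup (Fin 4), a * b = b * a) := fun h =>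
  absurd (congrArg Subtype.val (h ⟨Equiv.swap 0 1 * Equiv.swap 1 2, Equiv.Perm.mem_alternatingGroup.mpr (by decide)⟩ ⟨Equiv.swap 0 1 * Equiv.swap 2 3, Equiv.Perm.mem_alternatingGroup.mpr (by decide)⟩))
    (by decide)

theorem card_alternating_four : Nat.card (alternatingGroup (Fin 4)) = 12 := by
  have := Nat.card_congr (Equiv.refl (Equiv.Perm (Fin 4)))
  have h := (alternatingGroup (Fin 4)).card_mul_index
  rw [alternatingGroup.index_eq_two, Nat.card_perm, Nat.card_fin, show Nat.factorial 4 = 24 from rfl] at h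
  omega

theorem forward (P : Sylow 2 G) (h : Small G) : IsCyclic P ∨
      ((∃ n : ℕ, 1 ≤ n ∧ Nonempty ((P : Subgroup G) ≃* DihedralGroup (2 ^ n))) ∧
        ∀ K : Subgroup G, K ≤ P → Nat.card K = 4 → (∀ k ∈ K, k ^ 2 = 1) → Subgroup.centralizer (K : Set G) = K) := by
  haveI : Fact (Nat.Prime 2) := ⟨Nat.prime_two⟩
  by_cases hP : IsCyclic P
  · exact Or.inl hP
  refine Or.inr ⟨?_, fun K hKP h4 h2 => ?_⟩
  · obtain ⟨h1, h2⟩ := PByCyclic.of_sup_zpowers P.2 (c := (1 : G)) (one_mem _)
    have hc := h _ h1 h2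
    rw [Subgroup.zpowers_one_eq_bot, sup_bot_eq] at hc
    rcases hc with hc | ⟨n, ⟨e⟩⟩ | e
    · exact absurd hc hP
    · rcases Nat.eq_zero_or_pos n with rfl | hn
      · exact absurd (e.isCyclic.mpr (DihedralGroup.isCyclic_iff.mpr (pow_zero 2))) hP
      · exact ⟨n, hn, ⟨e⟩⟩
    · exfalso
      obtain ⟨e⟩ := e
      obtain ⟨i, hi⟩ := IsPGroup.iff_card.mp P.2
      have h12 : 3 ∣ 2 ^ i := by
        rw [← hi, Nat.card_congr e.toEquiv, card_alternating_four]; norm_num
      exact absurd (Nat.le_of_dvd two_pos (Nat.prime_three.dvd_of_dvd_pow h12)) (by norm_num)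
  · have hKc : ∀ a ∈ K, ∀ b ∈ K, a * b = b * a := fun a ha b hb => by
      have ha2 : a⁻¹ = a := inv_eq_of_mul_eq_one_right (by rw [← pow_two]; exact h2 a ha)
      have hb2 : b⁻¹ = b := inv_eq_of_mul_eq_one_right (by rw [← pow_two]; exact h2 b hb)
      have := inv_eq_of_mul_eq_one_right (a := a * b) (b := a * b) (by rw [← pow_two]; exact h2 _ (mul_mem ha hb))
      rw [mul_inv_rev, ha2, hb2] at this
      exact this.symm
    refine le_antisymm (fun c hc => ?_) fun k hk => Subgroup.mem_centralizer_iff.mpr fun k' hk' => hKc k' hk' k hk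
    obtain ⟨h1, h2'⟩ := PByCyclic.of_sup_zpowers (K := K) (IsPGroup.of_card (p := 2) (n := 2) (by rw [h4]; rfl))
      (Subgroup.centralizer_le_normalizer _ hc)
    set H := K ⊔ Subgroup.zpowers c with hH
    have hKH : K ≤ H := le_sup_left
    have hcomm : ∀ a b : H, a * b = b * a := fun a b => by
      have hle : H ≤ Subgroup.centralizer (H : Set G) := by
        have hK' : K ≤ Subgroup.centralizer (H : Set G) := Subgroup.le_centralizer_iff.mp (sup_le
          (fun k hk => Subgroup.mem_centralizer_iff.mpr fun k' hk' => hKc k' hk' k hk)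
          (Subgroup.zpowers_le.mpr hc))
        refine sup_le hK' (Subgroup.le_centralizer_iff.mp (sup_le (fun k hk => ?_) ?_))
        · rw [Subgroup.mem_centralizer_iff]
          rintro _ ⟨i, rfl⟩
          exact (Commute.zpow_left (Subgroup.mem_centralizer_iff.mp hc k hk).symm i).eq
        · rw [Subgroup.zpowers_le, Subgroup.mem_centralizer_iff]
          rintro _ ⟨i, rfl⟩
          exact (Commute.zpow_self c i).eq
      exact Subtype.ext ((Subgroup.mem_centralizer_iff.mp (hle a.2) b b.2).symm)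
    have hKH4 : 4 ≤ Nat.card H := h4 ▸ Subgroup.card_le_of_le hKH
    rcases h H h1 h2' with hcy | ⟨n, ⟨e⟩⟩ | e
    · exfalso
      haveI := hcy
      exact klein_not_cyclic h4 h2 (isCyclic_of_injective (Subgroup.inclusion hKH) (Subgroup.inclusion_injective hKH))
    · have hn : (2 : ℕ) ^ n = 1 ∨ (2 : ℕ) ^ n = 2 := by
        by_contra hcon
        push Not at hcon
        refine DihedralGroup.not_commutative hcon.1 hcon.2 ⟨⟨fun a b => e.symm.injective ?_⟩⟩
        rw [map_mul, map_mul]; exact hcomm _ _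
      have hcard := (Nat.card_congr e.toEquiv).trans DihedralGroup.nat_card
      have heq : K = H := Subgroup.eq_of_le_of_card_ge hKH (by omega)
      rw [heq]; exact Subgroup.mem_sup_right (Subgroup.mem_zpowers c)
    · exfalso
      obtain ⟨e⟩ := e
      exact alternating_not_comm fun a b => e.symm.injective (by rw [map_mul, map_mul]; exact hcomm _ _)

theorem eq_top_of_odd_mem (S : Sylow 2 G) [(S : Subgroup G).Normal] {C : Subgroup G} (hS : (S : Subgroup G) ≤ C)
    (hodd : ∀ x : G, Odd (orderOf x) → x ∈ C) : C = ⊤ := by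
  haveI : Fact (Nat.Prime 2) := ⟨Nat.prime_two⟩
  refine eq_top_iff.mpr fun x _ => ?_
  obtain ⟨k, hk⟩ := CfsgLib.PResidual.exists_pow_coprime (p := 2) x
  set q := QuotientGroup.mk' (S : Subgroup G)
  have hq : Nat.Coprime (2 ^ k) (orderOf (q x)) := by
    refine Nat.Coprime.pow_left k (Nat.Prime.coprime_iff_not_dvd Nat.prime_two |>.mpr fun h => ?_)
    exact S.not_dvd_index (h.trans ((S : Subgroup G).index_eq_card ▸ orderOf_dvd_natCard _))
  obtain ⟨m, hm⟩ := exists_pow_eq_self_of_coprime hq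
  have h1 : ((x ^ (2 ^ k)) ^ m)⁻¹ * x ∈ (S : Subgroup G) := by
    rw [← QuotientGroup.eq_one_iff]
    show q (((x ^ (2 ^ k)) ^ m)⁻¹ * x) = 1
    rw [map_mul, map_inv, map_pow, map_pow, hm, inv_mul_cancel]
  have h2 := mul_mem (pow_mem (hodd _ (Nat.coprime_two_right.mp hk)) m) (hS h1)
  rwa [mul_inv_cancel_left] at h2

theorem odd_centralizes (S : Subgroup G) [S.Normal] (hA : IsPGroup 2 (MulAut S)) {x : G}
    (hx : Odd (orderOf x)) {s : G} (hs : s ∈ S) : Commute s x := by
  obtain ⟨j, hj⟩ := hA (MulAut.conjNormal x)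
  have h1 : MulAut.conjNormal (H := S) x = 1 := orderOf_eq_one_iff.mp (Nat.eq_one_of_dvd_coprimes
    (Nat.Coprime.pow_right j (Nat.coprime_two_right.mpr hx)) (orderOf_map_dvd _ x) (orderOf_dvd_of_pow_eq_one hj))
  have h2 : x * s * x⁻¹ = s := by
    have := congrArg Subtype.val (DFunLike.congr_fun h1 ⟨s, hs⟩)
    simpa [MulAut.conjNormal_apply] using this
  exact (mul_inv_eq_iff_eq_mul.mp h2).symm

theorem cyclic_case (S : Sylow 2 G) [(S : Subgroup G).Normal] [IsCyclic (G ⧸ (S : Subgroup G))]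
    (hS : IsCyclic (S : Subgroup G)) : IsCyclic G := by
  haveI : Fact (Nat.Prime 2) := ⟨Nat.prime_two⟩
  haveI := hS
  obtain ⟨k, hk⟩ := IsPGroup.iff_card.mp S.2
  have hA : IsPGroup 2 (MulAut (S : Subgroup G)) := by
    rcases k with _ | k
    · exact IsPGroup.of_card (n := 0) (by rw [IsCyclic.card_mulAut, hk]; simp)
    · exact IsPGroup.of_card (n := k) (by rw [IsCyclic.card_mulAut, hk, Nat.totient_prime_pow_succ Nat.prime_two]; simp)
  refine PByCyclic.isCyclic_of_central S fun s hs g => ?_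
  have htop := eq_top_of_odd_mem S (C := Subgroup.centralizer ((S : Subgroup G) : Set G)) (fun a ha => by
    rw [Subgroup.mem_centralizer_iff]
    intro b hb
    letI := IsCyclic.commGroup (α := (S : Subgroup G))
    exact congrArg Subtype.val (mul_comm (⟨b, hb⟩ : (S : Subgroup G)) ⟨a, ha⟩))
    fun x hx => Subgroup.mem_centralizer_iff.mpr fun b hb => (odd_centralizes _ hA hx hb).eq
  exact Subgroup.mem_centralizer_iff.mp (htop ▸ Subgroup.mem_top g : g ∈ Subgroup.centralizer _) s hs

theorem backward (P : Sylow 2 G) (h : IsCyclic P ∨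
      ((∃ n : ℕ, 1 ≤ n ∧ Nonempty ((P : Subgroup G) ≃* DihedralGroup (2 ^ n))) ∧
        ∀ K : Subgroup G, K ≤ P → Nat.card K = 4 → (∀ k ∈ K, k ^ 2 = 1) → Subgroup.centralizer (K : Set G) = K))
    (H : Subgroup G) (hnor : ∀ S : Sylow 2 ↥H, (S : Subgroup ↥H).Normal)
    (hquo : ∀ (S : Sylow 2 ↥H) [(S : Subgroup ↥H).Normal], IsCyclic (↥H ⧸ (S : Subgroup ↥H))) :
    IsCyclic H ∨ (∃ n : ℕ, Nonempty (H ≃* DihedralGroup (2 ^ n))) ∨ Nonempty (H ≃* alternatingGroup (Fin 4)) := by
  haveI : Fact (Nat.Prime 2) := ⟨Nat.prime_two⟩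
  let S : Sylow 2 H := default
  haveI hSn := hnor S
  haveI hQ := hquo S
  have hT0 : IsPGroup 2 ((S : Subgroup H).map H.subtype) := S.2.map _
  obtain ⟨R, hR⟩ := hT0.exists_le_sylow
  obtain ⟨g, hg⟩ := MulAction.exists_smul_eq G R P
  let f : H →* G := (MulAut.conj g).toMonoidHom.comp H.subtype
  have hf : Function.Injective f := (MulAut.conj g).injective.comp Subtype.val_injective
  have hTP : ∀ x ∈ (S : Subgroup H), f x ∈ (P : Subgroup G) := fun x hx => by
    rw [← hg]
    exact Subgroup.smul_mem_pointwise_smul _ (MulAut.conj g) _ (hR ⟨x, hx, rfl⟩)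
  let ι : (S : Subgroup H) →* (P : Subgroup G) :=
    (f.comp (S : Subgroup H).subtype).codRestrict (P : Subgroup G) fun x => hTP x x.2
  have hι : Function.Injective ι := fun a b hab =>
    Subtype.ext (hf (congrArg (fun z : (P : Subgroup G) => (z : G)) hab))
  rcases h with h | ⟨⟨n, -, ⟨eP⟩⟩, hK⟩
  · haveI := h
    exact Or.inl (cyclic_case S (isCyclic_of_injective ι hι))
  haveI : NeZero (2 ^ n) := ⟨by positivity⟩
  let ι' : (S : Subgroup H) →* DihedralGroup (2 ^ n) := eP.toMonoidHom.comp ι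
  have hι' : Function.Injective ι' := eP.injective.comp hι
  rcases DihedralShape.subgroup_shape ι'.range with hc | ⟨d, hd, ⟨e⟩⟩
  · exact Or.inl (cyclic_case S ((MonoidHom.ofInjective hι').isCyclic.mpr hc))
  obtain ⟨j, -, rfl⟩ := (Nat.dvd_prime_pow Nat.prime_two).mp hd
  let eS : (S : Subgroup H) ≃* DihedralGroup (2 ^ j) := (MonoidHom.ofInjective hι').trans e
  rcases Nat.eq_zero_or_pos j with rfl | hj
  · exact Or.inl (cyclic_case S (eS.isCyclic.mpr (DihedralGroup.isCyclic_iff.mpr (pow_zero 2))))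
  -- centralizers of four subgroups
  have hcen : ∀ U : Subgroup H, U ≤ (S : Subgroup H) → Nat.card U = 4 → (∀ u ∈ U, u ^ 2 = 1) →
      ∀ x : H, (∀ u ∈ U, Commute u x) → x ∈ U := fun U hU h4 h2 x hx => by
    have hC := hK (U.map f) (by rintro _ ⟨u, hu, rfl⟩; exact hTP u (hU hu))
      (by rw [Subgroup.card_map_of_injective hf, h4]) (by rintro _ ⟨u, hu, rfl⟩; rw [← map_pow, h2 u hu, map_one])
    have hxU : f x ∈ U.map f := by
      rw [← hC, Subgroup.mem_centralizer_iff]
      rintro _ ⟨u, hu, rfl⟩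
      rw [← map_mul, ← map_mul, hx u hu]
    exact (Subgroup.mem_map_iff_mem hf).mp hxU
  rcases Nat.lt_or_ge 1 j with hj2 | hj1
  · -- large dihedral
    have hm : (2 : ℕ) ^ j = 2 * 2 ^ (j - 1) := by rw [← pow_succ']; congr 1; omega
    haveI : NeZero (2 ^ j) := ⟨by positivity⟩
    obtain ⟨U, hU, hUm⟩ := DihedralFusion.exists_klein hm (by positivity) (0 : ZMod (2 ^ j))
    haveI := hU
    let k : DihedralGroup (2 ^ j) →* H := (S : Subgroup H).subtype.comp eS.symm.toMonoidHom
    have hk : Function.Injective k := Subtype.val_injective.comp eS.symm.injective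
    have hA : IsPGroup 2 (MulAut (S : Subgroup H)) := by
      have h8 : ¬ IsKleinFour (⊤ : Subgroup (DihedralGroup (2 ^ j))) := fun hh => by
        have h4' := hh.card_four
        rw [Subgroup.card_top, DihedralGroup.nat_card] at h4'
        have := Nat.pow_le_pow_right two_pos (show 2 ≤ j by omega)
        omega
      exact (DihedralFusion.isPGroup_mulAut (k := j - 1) (by congr 1; omega) ⊤ h8).of_equiv
        ((MulAut.congr (eS.trans Subgroup.topEquiv.symm)).symm)
    have htop := eq_top_of_odd_mem S le_rfl fun x hx => by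
      have hmem : x ∈ U.map k := hcen (U.map k) (by rintro _ ⟨u, -, rfl⟩; exact (eS.symm u).2)
        (by rw [Subgroup.card_map_of_injective hk]; exact IsKleinFour.card_four)
        (by
          rintro _ ⟨u, hu, rfl⟩
          rw [← map_pow, pow_two, show u * u = 1 from congrArg Subtype.val (IsKleinFour.mul_self (⟨u, hu⟩ : U)), map_one])
        x (fun u hu => by
          obtain ⟨v, -, rfl⟩ := hu
          exact odd_centralizes _ hA hx (eS.symm v).2)
      obtain ⟨v, -, rfl⟩ := hmem
      exact (eS.symm v).2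
    exact Or.inr (Or.inl ⟨j, ⟨((MulEquiv.subgroupCongr htop).trans Subgroup.topEquiv).symm.trans eS⟩⟩)
  · -- four group
    obtain rfl : j = 1 := by omega
    have h4 : Nat.card (S : Subgroup H) = 4 := by rw [Nat.card_congr eS.toEquiv, DihedralGroup.nat_card]; rfl
    have h2 : ∀ u ∈ (S : Subgroup H), u ^ 2 = 1 := fun u hu => by
      refine congrArg Subtype.val (eS.injective (a₁ := (⟨u, hu⟩ : (S : Subgroup H)) ^ 2) (a₂ := 1) ?_)
      rw [map_pow, map_one, pow_two]
      have hd2 : ∀ z : ZMod (2 ^ 1), z + z = 0 := fun z => CharTwo.add_self_eq_zero (R := ZMod 2) z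
      rcases eS ⟨u, hu⟩ with z | z
      · exact (DihedralFusion.sq_r _).mpr (hd2 z)
      · exact sr_mul_self _
    have hSC := hcen _ le_rfl h4 h2
    set ρ : H →* MulAut (S : Subgroup H) := MulAut.conjNormal
    have hker : ρ.ker = (S : Subgroup H) := by
      ext x
      constructor
      · intro hx
        refine hSC x fun u hu => ?_
        have := congrArg Subtype.val (DFunLike.congr_fun (MonoidHom.mem_ker.mp hx) ⟨u, hu⟩)
        have h3 : x * u * x⁻¹ = u := by simpa [ρ, MulAut.conjNormal_apply] using this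
        exact (mul_inv_eq_iff_eq_mul.mp h3).symm
      · intro hx
        refine MonoidHom.mem_ker.mpr (MulEquiv.ext fun u => Subtype.ext ?_)
        rw [MulAut.conjNormal_apply]
        have hxu : (x * u : H) = u * x := by
          have e1 := h2 x hx
          have e2 := h2 u u.2
          have e3 := h2 (x * u) (mul_mem hx u.2)
          rw [pow_two] at e1 e2 e3
          have := (inv_eq_of_mul_eq_one_right e3).symm
          rwa [mul_inv_rev, inv_eq_of_mul_eq_one_right e1, inv_eq_of_mul_eq_one_right e2] at this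
        rw [hxu, mul_inv_cancel_right]; rfl
    have hdiv : (S : Subgroup H).index ∣ 24 := by
      have hperm : Function.Injective (MulAut.toPerm (S : Subgroup H)) := fun a b hab =>
        MulEquiv.ext fun u => Equiv.congr_fun hab u
      rw [← hker, Subgroup.index_ker, Nat.card_congr (Subgroup.equivMapOfInjective ρ.range _ hperm).toEquiv]
      have h24 : Nat.card (Equiv.Perm (S : Subgroup H)) = 24 := by rw [Nat.card_perm, h4]; rfl
      exact h24 ▸ Subgroup.card_subgroup_dvd_card _
    have hcop : (S : Subgroup H).index.Coprime 8 :=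
      (Nat.coprime_comm.mp (Nat.Coprime.pow_left 3 (Nat.prime_two.coprime_iff_not_dvd.mpr S.not_dvd_index)) :)
    have h3 : (S : Subgroup H).index ∣ 3 := (Nat.Coprime.dvd_mul_left hcop).mp (show _ ∣ 8 * 3 from hdiv)
    rcases (Nat.dvd_prime Nat.prime_three).mp h3 with h1 | h1
    · exact Or.inr (Or.inl ⟨1, ⟨((MulEquiv.subgroupCongr (Subgroup.index_eq_one.mp h1)).trans
        Subgroup.topEquiv).symm.trans eS⟩⟩)
    · refine Or.inr (Or.inr (DihedralShape.equiv_alternating_four ?_ fun T hT hT3 => ?_))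
      · rw [← (S : Subgroup H).card_mul_index, h1, h4]
      · have hdis : Disjoint T (S : Subgroup H) := by
          exact Subgroup.disjoint_of_coprime_natCard (by rw [hT3, h4]; norm_num)
        have hle : T ≤ (S : Subgroup H) := fun x hx => hSC x fun u hu =>
          (Subgroup.commute_of_normal_of_disjoint T (S : Subgroup H) hT hSn hdis x u hx hu).symm
        have := hdis.eq_bot_of_le hle
        rw [this, Subgroup.card_bot] at hT3
        omega

end Aux

/-- Let G be a finite group with Sylow 2-subgroup P. Every subgroup H of G whose Sylow 2-subgroup is normal in H with cyclic quotient is cyclic, dihedral of 2-power order, or isomorphic to the alternating group of degree 4, if and only if either P is cyclic, or P is dihedral (of order at least 4) and every elementary abelian subgroup K of order 4 of P satisfies C_G(K) = K. -/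
theorem result {G : Type*} [Group G] [Finite G] (P : Sylow 2 G) :
    (∀ H : Subgroup G, (∀ S : Sylow 2 ↥H, (S : Subgroup ↥H).Normal) →
        (∀ (S : Sylow 2 ↥H) [(S : Subgroup ↥H).Normal], IsCyclic (↥H ⧸ (S : Subgroup ↥H))) →
        IsCyclic H ∨ (∃ n : ℕ, Nonempty (H ≃* DihedralGroup (2 ^ n))) ∨ Nonempty (H ≃* alternatingGroup (Fin 4))) ↔
    (IsCyclic P ∨
      ((∃ n : ℕ, 1 ≤ n ∧ Nonempty ((P : Subgroup G) ≃* DihedralGroup (2 ^ n))) ∧
        ∀ K : Subgroup G, K ≤ P → Nat.card K = 4 → (∀ k ∈ K, k ^ 2 = 1) → Subgroup.centralizer (K : Set G) = K)) := by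

  exact ⟨fun h => Aux.forward P h, fun h H hn hc => Aux.backward P h H hn hc⟩

end Cfsg.Agent.S4083
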