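import Cfsg.Statements.S4084
import Mathlib
-- import your own Cfsg.Agent.* helpers here

set_option autoImplicit false
open Cfsg

namespace Cfsg.Agent.S4084


theorem commute_closure {A : Type*} [Group A] {T : Set A} (hT : ∀ x ∈ T, ∀ y ∈ T, Commute x y) :
    ∀ x ∈ Subgroup.closure T, ∀ y ∈ Subgroup.closure T, Commute x y := by
  have h1 : Subgroup.closure T ≤ Subgroup.centralizer T :=
    (Subgroup.closure_le _).mpr fun x hx => Subgroup.mem_centralizer_iff.mpr fun y hy => hT y hy x hx
  have h2 : Subgroup.closure T ≤ Subgroup.centralizer (Subgroup.closure T : Set A) :=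
    (Subgroup.closure_le _).mpr fun x hx => Subgroup.mem_centralizer_iff.mpr fun y hy =>
      (Subgroup.mem_centralizer_iff.mp (h1 hy) x hx).symm
  exact fun x hx y hy => (Subgroup.mem_centralizer_iff.mp (h2 hy) x hx)
theorem exists_order_mul {G H : Type*} [Group G] [Finite G] [Group H] [Finite H] (e : G ≃ H)
    (he : ∀ x y : G, Commute x y ↔ Commute (e x) (e y))
    {p q : ℕ} (hp : p.Prime) (hq : q.Prime) (hpq : p ≠ q) (g : G) (hg : orderOf g = p * q) :
    ∃ h : H, orderOf h = p * q := by
  have := Fact.mk hp; have := Fact.mk hq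
  obtain ⟨S, hgS, hS⟩ := Finite.exists_le_maximal
    (p := fun S : Set G => ∀ x ∈ S, ∀ y ∈ S, Commute x y) (a := {g})
    (by rintro x rfl y rfl; exact Commute.refl _)
  have hScl : (Subgroup.closure S : Set G) = S :=
    le_antisymm (hS.2 (commute_closure hS.1) Subgroup.subset_closure) Subgroup.subset_closure
  have hT : ∀ x ∈ e '' S, ∀ y ∈ e '' S, Commute x y := by
    rintro _ ⟨x, hx, rfl⟩ _ ⟨y, hy, rfl⟩
    exact (he x y).mp (hS.1 x hx y hy)
  have hTcl : (Subgroup.closure (e '' S) : Set H) = e '' S := by
    refine le_antisymm (fun h hh => ?_) Subgroup.subset_closure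
    have hall := commute_closure hT
    have : insert (e.symm h) S ⊆ S := by
      refine hS.2 ?_ (Set.subset_insert _ _)
      intro x hx y hy
      rw [he]
      refine hall _ ?_ _ ?_
      · rcases hx with rfl | hx
        · rwa [Equiv.apply_symm_apply]
        · exact Subgroup.subset_closure ⟨x, hx, rfl⟩
      · rcases hy with rfl | hy
        · rwa [Equiv.apply_symm_apply]
        · exact Subgroup.subset_closure ⟨y, hy, rfl⟩
    exact ⟨e.symm h, this (Set.mem_insert _ _), e.apply_symm_apply h⟩
  set B := Subgroup.closure (e '' S)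
  have hcard : Nat.card B = Nat.card (Subgroup.closure S) := by
    have h1 : ((B : Set H)).ncard = ((Subgroup.closure S : Set G)).ncard := by
      rw [hTcl, hScl, Set.ncard_image_of_injective _ e.injective]
    rwa [← Nat.card_coe_set_eq, ← Nat.card_coe_set_eq] at h1
  have hdvd : p * q ∣ Nat.card B := by
    rw [hcard, ← hg]
    exact Subgroup.orderOf_dvd_natCard _ (Subgroup.subset_closure (hgS rfl))
  obtain ⟨a, ha⟩ := exists_prime_orderOf_dvd_card' (G := B) p (dvd_trans ⟨q, rfl⟩ hdvd)
  obtain ⟨b, hb⟩ := exists_prime_orderOf_dvd_card' (G := B) q (dvd_trans ⟨p, mul_comm p q⟩ hdvd)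
  refine ⟨(a : H) * b, ?_⟩
  have hab : Commute (a : H) b := commute_closure hT a a.2 b b.2
  rw [hab.orderOf_mul_eq_mul_orderOf_of_coprime, Subgroup.orderOf_coe, Subgroup.orderOf_coe, ha, hb]
  rw [Subgroup.orderOf_coe, Subgroup.orderOf_coe, ha, hb]
  exact (Nat.coprime_primes hp hq).mpr hpq

/-- Let G and H be finite groups whose commuting graphs are isomorphic: there is a bijection e : G → H with x, y commuting exactly when e(x), e(y) commute. Then G and H have the same prime graph: for distinct primes p, q, G has an element of order pq if and only if H does (and #G = #H, so the prime divisors agree). -/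
theorem result {G H : Type*} [Group G] [Finite G] [Group H] [Finite H] (e : G ≃ H)
    (he : ∀ x y : G, Commute x y ↔ Commute (e x) (e y))
    {p q : ℕ} (hp : p.Prime) (hq : q.Prime) (hpq : p ≠ q) :
    (∃ g : G, orderOf g = p * q) ↔ (∃ h : H, orderOf h = p * q) := by
  constructor
  · rintro ⟨g, hg⟩
    exact exists_order_mul e he hp hq hpq g hg
  · rintro ⟨g, hg⟩
    refine exists_order_mul e.symm (fun x y => ?_) hp hq hpq g hg
    rw [he (e.symm x) (e.symm y), e.apply_symm_apply, e.apply_symm_apply]

end Cfsg.Agent.S4084
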