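import Cfsg.Statements.S4086
import Mathlib
-- import your own Cfsg.Agent.* helpers here

set_option autoImplicit false
open Cfsg

namespace Cfsg.Agent.S4086


theorem mem_zpowers_of_order_dvd {G : Type*} [Group G] [Finite G] {g x y : G}
    (hx : x ∈ Subgroup.zpowers g) (hy : y ∈ Subgroup.zpowers g) (h : orderOf x ∣ orderOf y) :
    x ∈ Subgroup.zpowers y := by
  classical
  set C := Subgroup.zpowers g
  let x' : C := ⟨x, hx⟩
  let y' : C := ⟨y, hy⟩
  have hox : orderOf x' = orderOf x := (Subgroup.orderOf_coe x').symm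
  have hoy : orderOf y' = orderOf y := (Subgroup.orderOf_coe y').symm
  have := Fintype.ofFinite C
  have hle : ((Finset.univ : Finset C).filter fun z => z ^ orderOf y = 1).card ≤ orderOf y :=
    IsCyclic.card_pow_eq_one_le (orderOf_pos y)
  have hsub : ((Finset.univ : Finset C).filter fun z => z ∈ Subgroup.zpowers y') ⊆
      (Finset.univ : Finset C).filter fun z => z ^ orderOf y = 1 := by
    intro z hz
    rw [Finset.mem_filter] at hz ⊢
    refine ⟨hz.1, ?_⟩
    rw [← orderOf_dvd_iff_pow_eq_one, ← hoy]
    obtain ⟨i, rfl⟩ := hz.2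
    exact orderOf_dvd_of_mem_zpowers (Subgroup.zpow_mem_zpowers y' i)
  have heq := Finset.eq_of_subset_of_card_le hsub (by
    refine hle.trans (le_of_eq ?_)
    rw [← hoy, ← Nat.card_zpowers y', Nat.card_eq_fintype_card]
    exact Fintype.card_subtype _)
  have : x' ∈ (Finset.univ : Finset C).filter fun z => z ^ orderOf y = 1 := by
    rw [Finset.mem_filter]
    exact ⟨Finset.mem_univ _, orderOf_dvd_iff_pow_eq_one.mp (hox ▸ h)⟩
  rw [← heq, Finset.mem_filter] at this
  obtain ⟨i, hi⟩ := this.2
  exact ⟨i, congrArg Subtype.val hi⟩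

/-- For a finite group G the following are equivalent: every non-identity element has prime-power order; whenever two elements generate a cyclic subgroup, one of them is a power of the other (the enhanced power graph of G coincides with its power graph). -/
theorem result {G : Type*} [Group G] [Finite G] :
    (∀ g : G, g ≠ 1 → IsPrimePow (orderOf g)) ↔
    (∀ x y : G, IsCyclic ↥(Subgroup.closure ({x, y} : Set G)) → (x ∈ Subgroup.zpowers y ∨ y ∈ Subgroup.zpowers x)) := by
  constructor
  · intro h x y hc
    obtain ⟨g, hg⟩ := (Subgroup.isCyclic_iff_exists_zpowers_eq_top _).mp hc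
    have hx : x ∈ Subgroup.zpowers g := hg ▸ Subgroup.subset_closure (Set.mem_insert _ _)
    have hy : y ∈ Subgroup.zpowers g := hg ▸ Subgroup.subset_closure (Set.mem_insert_of_mem _ rfl)
    rcases eq_or_ne g 1 with rfl | hg1
    · simp only [Subgroup.zpowers_one_eq_bot, Subgroup.mem_bot] at hx
      exact Or.inl (hx ▸ one_mem _)
    · obtain ⟨p, k, hp, -, hk⟩ := (h g hg1)
      obtain ⟨a, -, ha⟩ := (Nat.dvd_prime_pow (Nat.prime_iff.mpr hp)).mp
        (hk.symm ▸ orderOf_dvd_of_mem_zpowers hx)
      obtain ⟨b, -, hb⟩ := (Nat.dvd_prime_pow (Nat.prime_iff.mpr hp)).mp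
        (hk.symm ▸ orderOf_dvd_of_mem_zpowers hy)
      rcases le_total a b with hab | hab
      · exact Or.inl (mem_zpowers_of_order_dvd hx hy (ha ▸ hb ▸ pow_dvd_pow p hab))
      · exact Or.inr (mem_zpowers_of_order_dvd hy hx (ha ▸ hb ▸ pow_dvd_pow p hab))
  · intro h g hg
    by_contra hn
    have hn1 : orderOf g ≠ 1 := fun h1 => hg (orderOf_eq_one_iff.mp h1)
    obtain ⟨p, hp, hpd⟩ := Nat.exists_prime_and_dvd hn1
    obtain ⟨q, hq, hqd, hpq⟩ : ∃ q, q.Prime ∧ q ∣ orderOf g ∧ q ≠ p := by
      by_contra hcon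
      push Not at hcon
      have heq := Nat.eq_prime_pow_of_unique_prime_dvd (orderOf_pos g).ne' (fun {d} hd hdd => hcon d hd hdd)
      refine hn ⟨p, (orderOf g).primeFactorsList.length, hp.prime, ?_, heq.symm⟩
      refine Nat.pos_of_ne_zero fun h0 => hn1 ?_
      rw [heq, h0, pow_zero]
    set x := g ^ (orderOf g / p) with hxd
    set y := g ^ (orderOf g / q) with hyd
    have hox : orderOf x = p := orderOf_pow_orderOf_div (orderOf_pos g).ne' hpd
    have hoy : orderOf y = q := orderOf_pow_orderOf_div (orderOf_pos g).ne' hqd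
    have hle : Subgroup.closure ({x, y} : Set G) ≤ Subgroup.zpowers g := by
      rw [Subgroup.closure_le]
      rintro z (rfl | rfl) <;> exact Subgroup.npow_mem_zpowers g _
    have hcyc := isCyclic_of_injective (Subgroup.inclusion hle) (Subgroup.inclusion_injective hle)
    rcases h x y hcyc with hm | hm
    · have := orderOf_dvd_of_mem_zpowers hm
      rw [hox, hoy] at this
      exact hpq ((Nat.prime_dvd_prime_iff_eq hp hq).mp this).symm
    · have := orderOf_dvd_of_mem_zpowers hm
      rw [hox, hoy] at this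
      exact hpq ((Nat.prime_dvd_prime_iff_eq hq hp).mp this)

end Cfsg.Agent.S4086
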