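import Cfsg.Statements.S4090
import Mathlib
import Cfsg.Agent.Lib.SubnormalizerFiber
-- import your own Cfsg.Agent.* helpers here

set_option autoImplicit false
open scoped BigOperators
open Cfsg

namespace Cfsg.Agent.S4090

/-- Let G be a finite p-solvable group, H a p-subgroup of G and P a Sylow p-subgroup, and fix a chain of normal subgroups 1 = M₀ ≤ M₁ ≤ ⋯ ≤ Mₙ = G of G each of whose factors is a p-group or a p'-group. Then the number of elements g of G such that H is subnormal in the subgroup generated by H and g equals the order of P times the product, over the factors Mᵢ₊₁/Mᵢ of order prime to p, of the order of the centralizer of H in Mᵢ₊₁/Mᵢ (counted as the number of u ∈ Mᵢ₊₁ with [h, u] ∈ Mᵢ for all h ∈ H, divided by the order of Mᵢ). -/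
theorem result {G : Type*} [Group G] [Finite G] (p : ℕ) [Fact p.Prime]
    (hG : Cfsg.IsPSolvable p G) (H : Subgroup G) (hH : IsPGroup p H) (P : Sylow p G)
    (n : ℕ) (M : Fin (n + 1) → Subgroup G) (h0 : M 0 = ⊥) (hn : M (Fin.last n) = ⊤) (hmono : Monotone M)
    (hnormal : ∀ i, (M i).Normal)
    (hfac : ∀ i : Fin n, (∃ m : ℕ, (M i.castSucc).relIndex (M i.succ) = p ^ m) ∨ ((M i.castSucc).relIndex (M i.succ)).Coprime p) :
    Nat.card {g : G // ((H).subgroupOf (H ⊔ Subgroup.zpowers g)).IsSubnormal} =
      Nat.card (P : Subgroup G) *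
        ∏ i : Fin n, (if ((M i.castSucc).relIndex (M i.succ)).Coprime p then
          Nat.card {u : G // u ∈ M i.succ ∧ ∀ h ∈ H, h * u * h⁻¹ * u⁻¹ ∈ M i.castSucc} / Nat.card (M i.castSucc)
          else 1) := by
  classical
  have hp : p.Prime := Fact.out
  let r : Fin n → ℕ := fun i => (M i.castSucc).relIndex (M i.succ)
  let C : Fin n → ℕ := fun i =>
    Nat.card {u : G // u ∈ M i.succ ∧ ∀ h ∈ H, h * u * h⁻¹ * u⁻¹ ∈ M i.castSucc} / Nat.card (M i.castSucc)
  change _ = Nat.card (P : Subgroup G) * ∏ i : Fin n, (if (r i).Coprime p then C i else 1)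
  let F : Fin (n + 1) → ℕ := fun i =>
    @CfsgLib.SubnFiber.quotCount G _ p H (M i) (hnormal i)
  have hle : ∀ i : Fin n, M i.castSucc ≤ M i.succ := fun i => hmono (Fin.castSucc_lt_succ (i := i)).le
  have hstep : ∀ i : Fin n, F i.castSucc = (if (r i).Coprime p then C i else r i) * F i.succ := fun i =>
    @CfsgLib.SubnFiber.quotCount_step p _ G _ _ H hH (M i.castSucc) (M i.succ) (hnormal _) (hnormal _)
      (hle i) (hfac i)
  have hF0 : F 0 = Nat.card {g : G // ((H).subgroupOf (H ⊔ Subgroup.zpowers g)).IsSubnormal} := by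
    have key : ∀ (M0 : Subgroup G) [M0.Normal], M0 = ⊥ → CfsgLib.SubnFiber.quotCount p H M0 =
        Nat.card {g : G // ((H).subgroupOf (H ⊔ Subgroup.zpowers g)).IsSubnormal} := by
      intro M0 _ e; subst e; exact CfsgLib.SubnFiber.quotCount_bot H hH
    exact @key (M 0) (hnormal 0) h0
  have hFn : F (Fin.last n) = 1 := by
    have key : ∀ (M0 : Subgroup G) [M0.Normal], M0 = ⊤ → CfsgLib.SubnFiber.quotCount p H M0 = 1 := by
      intro M0 _ e; subst e; exact CfsgLib.SubnFiber.quotCount_top H
    exact @key (M (Fin.last n)) (hnormal _) hn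
  have h := CfsgLib.SubnFiber.telescope F _ hstep
  rw [hF0, hFn, mul_one] at h
  rw [h]
  have hsplit : (∏ i : Fin n, if (r i).Coprime p then C i else r i) =
      (∏ i : Fin n, if (r i).Coprime p then 1 else r i) * ∏ i : Fin n, if (r i).Coprime p then C i else 1 := by
    rw [← Finset.prod_mul_distrib]
    exact Finset.prod_congr rfl fun i _ => by split_ifs <;> simp
  rw [hsplit]
  congr 1
  -- the product of the `p`-factors is the order of a Sylow subgroup
  have hG' : Nat.card G = ∏ i : Fin n, r i := by
    have h' := CfsgLib.SubnFiber.telescope (fun i => (M i).index) r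
      (fun i => (Subgroup.relIndex_mul_index (hle i)).symm)
    simp only [h0, hn, Subgroup.index_bot, Subgroup.index_top, mul_one] at h'
    exact h'
  have hGsplit : Nat.card G = (∏ i : Fin n, if (r i).Coprime p then 1 else r i) *
      ∏ i : Fin n, if (r i).Coprime p then r i else 1 := by
    rw [hG', ← Finset.prod_mul_distrib]
    exact Finset.prod_congr rfl fun i _ => by split_ifs <;> simp
  set a := ∏ i : Fin n, if (r i).Coprime p then 1 else r i with hadef
  set b := ∏ i : Fin n, if (r i).Coprime p then r i else 1 with hbdef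
  have hb : b.Coprime p := Nat.Coprime.prod_left fun i _ => by split_ifs with hi; exacts [hi, Nat.coprime_one_left p]
  obtain ⟨s, hs⟩ : ∃ s, a = p ^ s := by
    refine ((Nat.dvd_prime_pow hp).mp (?_ : a ∣ p ^ (∑ i : Fin n, (r i).factorization p))).imp fun _ h => h.2
    rw [← Finset.prod_pow_eq_pow_sum]
    refine Finset.prod_dvd_prod_of_dvd _ _ fun i _ => ?_
    split_ifs with hi
    · exact one_dvd _
    · rcases hfac i with ⟨m, hm⟩ | hc
      · change r i = p ^ m at hm
        rw [hm, hp.factorization_pow, Finsupp.single_eq_same]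
      · exact absurd hc hi
  rw [P.card_eq_multiplicity, hGsplit, hs, Nat.factorization_mul (pow_ne_zero _ hp.ne_zero)
    (fun h0 => hp.ne_one (by simpa [h0, Nat.coprime_zero_left] using hb)), hp.factorization_pow,
    Finsupp.add_apply, Finsupp.single_eq_same,
    Nat.factorization_eq_zero_of_not_dvd (fun hd => hp.one_lt.ne' (Nat.eq_one_of_dvd_coprimes hb hd dvd_rfl)), add_zero]

end Cfsg.Agent.S4090
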