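import Cfsg.Statements.S4092
import Mathlib
import Cfsg.Agent.Lib.SolutionCount
-- import your own Cfsg.Agent.* helpers here

set_option autoImplicit false
open Cfsg

namespace Cfsg.Agent.S4092

/-- Let G be a finite group, p a prime and P a Sylow p-subgroup of G that is not normal in G. Then G has at least p·#P elements of p-power order (the identity included). -/
theorem result {G : Type*} [Group G] [Finite G] (p : ℕ) [Fact p.Prime]
    (P : Sylow p G) (hP : ¬ (P : Subgroup G).Normal) :
    p * Nat.card (P : Subgroup G) ≤ Nat.card {g : G // ∃ k : ℕ, orderOf g = p ^ k} := by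
  classical
  have hp := (Fact.out : p.Prime)
  have := Fintype.ofFinite G
  set k := (Nat.card G).factorization p with hk
  have hPc : Nat.card (P : Subgroup G) = p ^ k := P.card_eq_multiplicity
  have hequiv : ∀ g : G, (∃ j : ℕ, orderOf g = p ^ j) ↔ g ^ p ^ k = 1 := fun g => by
    constructor
    · rintro ⟨j, hj⟩
      obtain ⟨R, hR⟩ := (IsPGroup.of_card (n := j) (by rw [Nat.card_zpowers, hj]) :
        IsPGroup p (Subgroup.zpowers g)).exists_le_sylow
      rw [← orderOf_dvd_iff_pow_eq_one, ← (R.card_eq_multiplicity : Nat.card (R : Subgroup G) = p ^ k)]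
      exact Subgroup.orderOf_dvd_natCard _ (hR (Subgroup.mem_zpowers g))
    · intro h
      obtain ⟨j, -, hj⟩ := (Nat.dvd_prime_pow hp).mp (orderOf_dvd_of_pow_eq_one h)
      exact ⟨j, hj⟩
  rw [Nat.card_congr (Equiv.subtypeEquivRight hequiv)]
  obtain ⟨c, hc⟩ := CfsgLib.frobenius_main _ G rfl (p ^ k) (hPc ▸ Subgroup.card_subgroup_dvd_card _)
  rw [hc, hPc, mul_comm]
  refine Nat.mul_le_mul_left _ ?_
  set D := Finset.univ.filter fun g : G => g ^ p ^ k = 1 ∧ g ≠ 1 with hD
  have hDdvd : Nat.totient p ∣ D.card := by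
    refine CfsgLib.totient_dvd_card_of_generators D (fun g hg => ?_) (fun g hg g' hg' => ?_)
    · rw [hD, Finset.mem_filter] at hg
      obtain ⟨j, -, hj⟩ := (Nat.dvd_prime_pow hp).mp (orderOf_dvd_of_pow_eq_one hg.2.1)
      rw [hj]
      refine dvd_pow_self p fun h0 => hg.2.2 ?_
      rw [h0, pow_zero] at hj
      exact orderOf_eq_one_iff.mp hj
    · rw [hD, Finset.mem_filter] at hg ⊢
      have ho : orderOf g' = orderOf g := by rw [← Nat.card_zpowers, hg', Nat.card_zpowers]
      refine ⟨Finset.mem_univ _, ?_, ?_⟩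
      · rw [← orderOf_dvd_iff_pow_eq_one, ho, orderOf_dvd_iff_pow_eq_one]
        exact hg.2.1
      · intro h1
        rw [h1, orderOf_one] at ho
        exact hg.2.2 (orderOf_eq_one_iff.mp ho.symm)
  have hDc : D.card + 1 = p ^ k * c := by
    rw [← hc, Nat.card_eq_fintype_card, Fintype.card_subtype]
    have : (Finset.univ.filter fun g : G => g ^ p ^ k = 1) = insert 1 D := by
      ext g
      simp only [hD, Finset.mem_filter, Finset.mem_univ, true_and, Finset.mem_insert]
      constructor
      · intro h; by_cases h1 : g = 1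
        · exact Or.inl h1
        · exact Or.inr ⟨h, h1⟩
      · rintro (rfl | ⟨h, -⟩)
        · exact one_pow _
        · exact h
    rw [this, Finset.card_insert_of_notMem (by simp [hD])]
  have hc1 : c ≠ 1 := by
    intro h1
    rw [h1, mul_one] at hc
    have hset : ((P : Subgroup G) : Set G) = {g : G | g ^ p ^ k = 1} := by
      refine Set.eq_of_subset_of_ncard_le (fun g hg => ?_) ?_ (Set.toFinite _)
      · show g ^ p ^ k = 1
        rw [← orderOf_dvd_iff_pow_eq_one, ← hPc]
        exact Subgroup.orderOf_dvd_natCard _ hg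
      · rw [← Nat.card_coe_set_eq, ← Nat.card_coe_set_eq]
        show Nat.card {g : G // g ^ p ^ k = 1} ≤ Nat.card (P : Subgroup G)
        rw [hc, hPc]
    refine hP ⟨fun g hg x => ?_⟩
    have h2 : g ^ p ^ k = 1 := (Set.ext_iff.mp hset g).mp hg
    refine (Set.ext_iff.mp hset _).mpr ?_
    show (x * g * x⁻¹) ^ p ^ k = 1
    rw [conj_pow, h2]; group
  have hc0 : c ≠ 0 := by
    rintro rfl
    simp at hDc
  by_contra hlt
  rw [Nat.totient_prime hp] at hDdvd
  have hlt' : c < p := not_le.mp hlt
  have h1 : p ^ k ≡ 1 [MOD (p - 1)] := by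
    have := ((Nat.modEq_iff_dvd' hp.one_le).mpr (dvd_refl (p - 1))).symm.pow k
    rwa [one_pow] at this
  have h2 : c ≡ 1 [MOD (p - 1)] := by
    have h3 : 1 ≡ p ^ k * c [MOD (p - 1)] :=
      (Nat.modEq_iff_dvd' (by omega)).mpr (by rw [← hDc, Nat.add_sub_cancel]; exact hDdvd)
    have h4 := (h1.mul_right c).symm
    rw [one_mul] at h4
    exact h4.trans h3.symm
  have h5 : p - 1 ∣ c - 1 := (Nat.modEq_iff_dvd' (by omega)).mp h2.symm
  have := Nat.le_of_dvd (by omega) h5
  omega

end Cfsg.Agent.S4092
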