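import Cfsg.Statements.S4093
import Mathlib
-- import your own Cfsg.Agent.* helpers here

set_option autoImplicit false
open scoped BigOperators
open Cfsg

namespace Cfsg.Agent.S4093

open scoped Pointwise

/-- Let G be a finite group with a normal subgroup N complementing a Sylow p-subgroup P (a normal p-complement). Then the number of elements of G of p-power order equals the sum over x ∈ P of the index of C_N(x) in N. -/
theorem result {G : Type*} [Group G] [Finite G] (p : ℕ) [Fact p.Prime]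
    (P : Sylow p G) (N : Subgroup G) [N.Normal] (hNP : N.IsComplement' (P : Subgroup G)) :
    Nat.card {g : G // ∃ k : ℕ, orderOf g = p ^ k} =
      ∑ᶠ x : (P : Subgroup G), Nat.card N / Nat.card ↥(N ⊓ Subgroup.centralizer ({(x : G)} : Set G)) := by
  classical
  have := Fintype.ofFinite (P : Subgroup G)
  rw [finsum_eq_sum_of_fintype]
  let C : ↥(P : Subgroup G) → Set G := fun x => Set.range fun n : N => (n : G) * x * (n : G)⁻¹
  have hC : ∀ x, Nat.card (C x) = Nat.card N / Nat.card ↥(N ⊓ Subgroup.centralizer ({(x : G)} : Set G)) := by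
    intro x
    letI : MulAction N G := MulAction.compHom G ((MulAut.conj (G := G)).comp N.subtype)
    have h1 : Nat.card (C x) = (MulAction.stabilizer N (x : G)).index := by
      rw [MulAction.index_stabilizer, ← Nat.card_coe_set_eq]; rfl
    have h2 : Nat.card (MulAction.stabilizer N (x : G)) =
        Nat.card ↥(N ⊓ Subgroup.centralizer ({(x : G)} : Set G)) := by
      have e : ∀ n : N, n ∈ MulAction.stabilizer N (x : G) ↔
          (n : G) ∈ Subgroup.centralizer ({(x : G)} : Set G) := by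
        intro n
        rw [MulAction.mem_stabilizer_iff, Subgroup.mem_centralizer_singleton_iff]
        show (n : G) * x * (n : G)⁻¹ = x ↔ _
        exact mul_inv_eq_iff_eq_mul
      exact Nat.card_congr
        { toFun := fun n => ⟨n.1.1, n.1.2, (e n.1).mp n.2⟩
          invFun := fun n => ⟨⟨n.1, n.2.1⟩, (e ⟨n.1, n.2.1⟩).mpr n.2.2⟩
          left_inv := fun _ => rfl
          right_inv := fun _ => rfl }
    rw [h1, ← (MulAction.stabilizer N (x : G)).index_mul_card, ← h2, Nat.mul_div_cancel _ Nat.card_pos]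
  simp_rw [← hC]
  rw [← Nat.card_sigma]
  have hP : ∀ x : (P : Subgroup G), ∃ k : ℕ, orderOf (x : G) = p ^ k := fun x => by
    obtain ⟨k, hk⟩ := IsPGroup.iff_orderOf.mp P.isPGroup' x
    exact ⟨k, by rw [Subgroup.orderOf_coe, hk]⟩
  symm
  refine Nat.card_congr (Equiv.ofBijective
    (fun q : Σ x, C x => (⟨q.2.1, by
      obtain ⟨n, hn⟩ := q.2.2
      obtain ⟨k, hk⟩ := hP q.1
      refine ⟨k, ?_⟩
      rw [← hn, ← hk]
      exact MulEquiv.orderOf_eq (MulAut.conj (n : G)) _⟩ : {g : G // ∃ k : ℕ, orderOf g = p ^ k})) ⟨?_, ?_⟩)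
  · rintro ⟨x, g, n, hn⟩ ⟨y, g', m, hm⟩ h
    obtain rfl : g = g' := congrArg Subtype.val h
    have hxy : (y : G)⁻¹ * x ∈ N := by
      have e := hn.trans hm.symm
      simp only at e
      have e2 : (y : G)⁻¹ * x = ((y : G)⁻¹ * ((n : G)⁻¹ * m) * y) * ((m : G)⁻¹ * n) := by
        have : (x : G) = (n : G)⁻¹ * (m * y * (m : G)⁻¹) * n := by rw [← e]; group
        rw [this]; group
      rw [e2]
      refine mul_mem ?_ (mul_mem (inv_mem m.2) n.2)
      simpa [mul_assoc] using (inferInstance : N.Normal).conj_mem _ (mul_mem (inv_mem n.2) m.2) (y : G)⁻¹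
    have : (y : G)⁻¹ * x ∈ (⊥ : Subgroup G) :=
      hNP.disjoint.le_bot
        (Subgroup.mem_inf.mpr ⟨hxy, Subgroup.mul_mem _ (Subgroup.inv_mem _ y.2) x.2⟩)
    obtain rfl : x = y := Subtype.ext (inv_mul_eq_one.mp (Subgroup.mem_bot.mp this)).symm
    rfl
  · rintro ⟨g, k, hk⟩
    obtain ⟨Q, hQ⟩ := (IsPGroup.of_card (p := p) (G := Subgroup.zpowers g)
      (by rw [Nat.card_zpowers, hk])).exists_le_sylow
    obtain ⟨c, rfl⟩ := MulAction.exists_smul_eq G P Q
    obtain ⟨⟨n, u⟩, hnu, -⟩ := hNP.existsUnique c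
    have hg := hQ (Subgroup.mem_zpowers g)
    rw [Sylow.coe_subgroup_smul, Subgroup.mem_pointwise_smul_iff_inv_smul_mem] at hg
    simp only [MulAut.smul_def, MulAut.inv_def, MulAut.conj_symm_apply] at hg
    have hx : (n : G)⁻¹ * g * n ∈ (P : Subgroup G) := by
      have := mul_mem (mul_mem u.2 hg) (inv_mem u.2)
      rw [← hnu] at this
      simpa [mul_assoc] using this
    exact ⟨⟨⟨_, hx⟩, g, n, by simp [mul_assoc]⟩, rfl⟩

end Cfsg.Agent.S4093
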