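import Cfsg.Statements.S4097
import Cfsg.Agent.Lib.Frobenius.Kernel
-- import your own Cfsg.Agent.* helpers here

set_option autoImplicit false
set_option linter.style.haveILetI false
open Cfsg

namespace Cfsg.Agent.S4097

open Subgroup

/-- A subgroup over a normal solvable subgroup with solvable image is solvable. -/
theorem solvable_over {G : Type*} [Group G] {N S : Subgroup G} [N.Normal] (hN : Group.IsSolvable N)
    (hNS : N ≤ S) (hQ : Group.IsSolvable (S.map (QuotientGroup.mk' N))) : Group.IsSolvable S := by
  haveI := hN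
  haveI := hQ
  refine Group.isSolvable_of_ker_le_range (Subgroup.inclusion hNS)
    ((QuotientGroup.mk' N).subgroupMap S) fun x hx => ?_
  have h1 : QuotientGroup.mk' N (x : G) = 1 := congrArg Subtype.val hx
  have h2 : (x : G) ∈ N := (QuotientGroup.eq_one_iff _).1 h1
  exact ⟨⟨x, h2⟩, rfl⟩

theorem solvable_center {G : Type*} [Group G] : Group.IsSolvable (center G) :=
  Group.isSolvable_of_comm fun a b => Subtype.ext ((mem_center_iff.1 a.2 b).symm)

theorem key {G : Type*} [Group G] {A N : Subgroup G} [N.Normal] (hN : Group.IsSolvable N) (hAN : A ≤ N)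
    (hc : ∀ S : Subgroup G, A ≤ S → Group.IsSolvable S → ∀ a ∈ A, ∀ s ∈ S, a * s = s * a) :
    A ≤ center G := by
  intro a ha
  rw [mem_center_iff]
  intro x
  have hS : Group.IsSolvable (N ⊔ zpowers x : Subgroup G) := by
    refine solvable_over hN le_sup_left ?_
    rw [Subgroup.map_sup, QuotientGroup.map_mk'_self, bot_sup_eq, MonoidHom.map_zpowers]
    exact Group.isSolvable_of_comm fun a b => Subtype.ext (setLike_mul_comm a.2 b.2)
  exact (hc _ (hAN.trans le_sup_left) hS a ha x (mem_sup_right (mem_zpowers x))).symm

/-- The statement by induction on the order. -/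
theorem aux (n : ℕ) : ∀ {G : Type*} [Group G] [Finite G], Nat.card G = n → ∀ A : Subgroup G,
    Group.IsSolvable A →
    (∀ S : Subgroup G, A ≤ S → Group.IsSolvable S → ∀ a ∈ A, ∀ s ∈ S, a * s = s * a) →
    A ≤ center G := by
  induction n using Nat.strong_induction_on with
  | _ n ih => ?_
  intro G _ _ hn A hA hc
  have hAC : A ≤ centralizer (A : Set G) := fun a ha b hb => hc A le_rfl hA b hb a ha
  set C := centralizer (A : Set G) with hC
  have hover : ∀ H : Subgroup G, A ≤ H → H ≠ ⊤ → H ≤ C := by
    intro H hAH hH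
    have hlt : Nat.card H < n := by
      subst hn
      exact lt_of_le_of_ne (Subgroup.card_le_card_group H) fun e => hH (eq_top_of_card_eq H e)
    have hsol : Group.IsSolvable (A.subgroupOf H) := by
      haveI := hA
      exact Group.isSolvable_of_isSolvable_injective (subgroupOfEquivOfLe hAH).injective
        (f := (subgroupOfEquivOfLe hAH).toMonoidHom)
    have hcen := ih _ hlt (G := H) rfl (A.subgroupOf H) hsol fun S hAS hS a ha s hs => by
      haveI := hS
      have hS' : Group.IsSolvable (S.map H.subtype) :=
        Group.isSolvable_of_surjective (f := H.subtype.subgroupMap S) (H.subtype.subgroupMap_surjective S)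
      have hAS' : A ≤ S.map H.subtype := fun x hx => ⟨⟨x, hAH hx⟩, hAS hx, rfl⟩
      exact Subtype.ext (hc _ hAS' hS' (a : G) ha (s : G) ⟨s, hs, rfl⟩)
    intro h hh a ha
    exact (congrArg Subtype.val ((mem_center_iff.1 (hcen (show (⟨a, hAH ha⟩ : H) ∈ A.subgroupOf H from ha)))
      ⟨h, hh⟩)).symm
  by_cases hCtop : C = ⊤
  · intro a ha
    rw [mem_center_iff]
    intro x
    exact ((mem_centralizer_iff.1 (hCtop ▸ mem_top x : x ∈ C)) a ha).symm
  -- a centre
  by_cases hZ : center G = ⊥
  swap
  · haveI : (center G).Normal := inferInstance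
    have hlt : Nat.card (G ⧸ center G) < n := by
      subst hn
      have h1 := (center G).card_eq_card_quotient_mul_card_subgroup
      have h2 : 1 < Nat.card (center G) := (center G).one_lt_card_iff_ne_bot.2 hZ
      have h3 : 0 < Nat.card (G ⧸ center G) := Nat.card_pos
      nlinarith
    have hZs : Group.IsSolvable (center G) := solvable_center
    haveI := hA
    have hbar := ih _ hlt (G := G ⧸ center G) rfl (A.map (QuotientGroup.mk' _))
      (Group.isSolvable_of_surjective (f := (QuotientGroup.mk' (center G)).subgroupMap A)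
        (MonoidHom.subgroupMap_surjective _ _))
      fun S hAS hS a ha s hs => by
        obtain ⟨a, ha', rfl⟩ := ha
        obtain ⟨s, rfl⟩ := QuotientGroup.mk'_surjective (center G) s
        have hmap : (S.comap (QuotientGroup.mk' (center G))).map (QuotientGroup.mk' (center G)) = S :=
          map_comap_eq_self_of_surjective (QuotientGroup.mk'_surjective _) _
        have hS' : Group.IsSolvable (S.comap (QuotientGroup.mk' (center G))) :=
          solvable_over hZs (fun z hz => by
            rw [mem_comap, QuotientGroup.mk'_apply, (QuotientGroup.eq_one_iff z).2 hz]; exact one_mem S) (hmap.symm ▸ hS)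
        rw [← map_mul, ← map_mul, hc _ (fun x hx => hAS ⟨x, hx, rfl⟩) hS' a ha' s hs]
    set W := (center (G ⧸ center G)).comap (QuotientGroup.mk' (center G)) with hW
    have hWs : Group.IsSolvable W := solvable_over hZs (fun z hz => by
      rw [hW, mem_comap, QuotientGroup.mk'_apply, (QuotientGroup.eq_one_iff z).2 hz]; exact one_mem _) (by
        rw [hW, map_comap_eq_self_of_surjective (QuotientGroup.mk'_surjective _)]
        exact solvable_center)
    exact key hWs (fun x hx => hbar ⟨x, hx, rfl⟩) hc
  -- self-normalising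
  have hNC : normalizer (C : Set G) ≤ C := by
    by_cases hN : normalizer (C : Set G) = ⊤
    · exfalso
      haveI : C.Normal := normalizer_eq_top_iff.1 hN
      have hB : Group.IsSolvable (C ⊓ centralizer (C : Set G) : Subgroup G) := by
        refine Group.isSolvable_of_comm fun a b => Subtype.ext ?_
        exact (mem_centralizer_iff.1 b.2.2 a a.2.1)
      have h := key hB (le_inf hAC fun a ha x hx => (mem_centralizer_iff.1 hx a ha).symm) hc
      exact hCtop (eq_top_iff.2 fun x _ a ha => ((mem_center_iff.1 (h ha)) x).symm)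
    · exact hover _ (hAC.trans le_normalizer) hN
  have hC1 : C ≠ ⊥ := fun e => hCtop (by
    have hA0 : A = ⊥ := eq_bot_iff.2 (e ▸ hAC)
    exact eq_top_iff.2 fun x _ a ha => by
      rw [SetLike.mem_coe, hA0, mem_bot] at ha; subst ha; simp)
  have hfrob : Cfsg.IsFrobeniusComplement C := by
    refine ⟨hC1, hCtop, fun g hg => ?_⟩
    by_contra hne
    obtain ⟨d, ⟨hdC, hdg⟩, hd1⟩ := SetLike.exists_of_lt (bot_lt_iff_ne_bot.2 hne)
    rw [mem_bot] at hd1
    obtain ⟨c, hc', hdc⟩ := hdg
    have hdc' : g * c * g⁻¹ = d := hdc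
    have hD : centralizer ({d} : Set G) ≠ ⊤ := fun e => hd1 (by
      have : d ∈ center G := mem_center_iff.2 fun x =>
        mem_centralizer_singleton_iff.1 (e ▸ mem_top x : x ∈ centralizer ({d} : Set G))
      rwa [hZ, mem_bot] at this)
    have hle := hover _ (fun a ha => mem_centralizer_singleton_iff.2
      (mem_centralizer_iff.1 hdC a ha)) hD
    have hgC : ∀ a ∈ A, g * a * g⁻¹ ∈ C := fun a ha => hle (mem_centralizer_singleton_iff.2 (by
      have h1 := mem_centralizer_iff.1 hc' a ha
      rw [← hdc']
      calc g * a * g⁻¹ * (g * c * g⁻¹) = g * (a * c) * g⁻¹ := by group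
        _ = g * c * g⁻¹ * (g * a * g⁻¹) := by rw [h1]; group))
    -- the conjugate contains A
    have hAg : ∀ a ∈ A, g⁻¹ * a * g ∈ C := fun a ha => by
      refine mem_centralizer_iff.2 fun b hb => ?_
      have h1 := mem_centralizer_iff.1 (hgC b hb) a ha
      calc b * (g⁻¹ * a * g) = g⁻¹ * (g * b * g⁻¹ * a) * g := by group
        _ = g⁻¹ * a * g * b := by rw [← h1]; group
    set Cg := C.map (MulAut.conj g).toMonoidHom with hCg
    have hcard : Nat.card Cg = Nat.card C :=
      Nat.card_congr ((C.equivMapOfInjective (MulAut.conj g).toMonoidHom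
        (MulAut.conj g).injective).toEquiv.symm)
    have hCgt : Cg ≠ ⊤ := fun e => hCtop (eq_top_of_card_eq C (by rw [← hcard, e, Subgroup.card_top]))
    have hCgA : A ≤ Cg := fun a ha => ⟨g⁻¹ * a * g, hAg a ha, by
      show g * (g⁻¹ * a * g) * g⁻¹ = a
      group⟩
    have heq : Cg = C := eq_of_le_of_card_ge (hover _ hCgA hCgt) hcard.ge
    refine hg (hNC ?_)
    rw [mem_normalizer_iff]
    intro x
    constructor
    · intro hx
      rw [← heq]
      exact ⟨x, hx, rfl⟩
    · intro hx
      rw [← heq] at hx
      obtain ⟨y, hy, hyx⟩ := hx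
      have : y = x := (MulAut.conj g).injective hyx
      exact this ▸ hy
  obtain ⟨K, -, hKn, hKC, hKnil⟩ := CfsgLib.Frob.exists_nilpotent_kernel hfrob
  haveI := hKn
  have hKs : Group.IsSolvable K := by haveI := hKnil; infer_instance
  have hKA : Group.IsSolvable (K ⊔ A : Subgroup G) := by
    refine solvable_over hKs le_sup_left ?_
    rw [Subgroup.map_sup, QuotientGroup.map_mk'_self, bot_sup_eq]
    haveI := hA
    exact Group.isSolvable_of_surjective (f := (QuotientGroup.mk' K).subgroupMap A)
      (MonoidHom.subgroupMap_surjective _ _)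
  exfalso
  by_cases hT : K ⊔ A = ⊤
  · exact hCtop (eq_top_iff.2 fun x _ a ha => hc _ le_sup_right hKA a ha x (hT ▸ mem_top x))
  · have hKle : K ≤ C := le_sup_left.trans (hover _ le_sup_right hT)
    have h1 := hKC.card_mul_card
    rw [eq_bot_iff.2 (hKC.disjoint le_rfl hKle), Subgroup.card_bot, one_mul] at h1
    exact hCtop (eq_top_of_card_eq C h1)

/-- Let A be a solvable subgroup of a finite group G such that A lies in the centre of every solvable subgroup of G containing A. Then A lies in the centre of G. -/
theorem result {G : Type*} [Group G] [Finite G]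
    (A : Subgroup G) (hA : Group.IsSolvable A)
    (hc : ∀ S : Subgroup G, A ≤ S → Group.IsSolvable S → ∀ a ∈ A, ∀ s ∈ S, a * s = s * a) : A ≤ Subgroup.center G :=
  aux _ rfl A hA hc

end Cfsg.Agent.S4097
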