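import Cfsg.Statements.S4106
import Mathlib
import Cfsg.Agent.Lib.SolutionCount
-- import your own Cfsg.Agent.* helpers here

set_option autoImplicit false
open Cfsg

namespace Cfsg.Agent.S4106

/-- Let G be a finite group, π a set of primes and m the π-part of the order of G. Then the number of conjugacy classes of G consisting of π-elements (elements whose order is divisible only by primes in π) is at most m. -/
theorem result {G : Type*} [Group G] [Finite G]
    (π : Set ℕ) (hπ : ∀ q ∈ π, q.Prime)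
    (m : ℕ) (hm : m ∣ Nat.card G) (hmπ : ∀ q : ℕ, q.Prime → q ∣ m → q ∈ π)
    (hm' : ∀ q ∈ π, ¬ q ∣ Nat.card G / m) :
    Nat.card {C : ConjClasses G // ∀ q : ℕ, q.Prime → (∃ g : G, ConjClasses.mk g = C ∧ q ∣ orderOf g) → q ∈ π} ≤ m := by
  classical
  have := Fintype.ofFinite G
  set n := Nat.card G / m
  have hmn : m * n = Nat.card G := Nat.mul_div_cancel' hm
  have hcop : m.Coprime n := Nat.coprime_of_dvd fun q hq h1 h2 => hm' q (hmπ q hq h1) h2
  set isPi : G → Prop := fun x => ∀ q : ℕ, q.Prime → q ∣ orderOf x → q ∈ π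
  have hxm : ∀ x, isPi x → x ^ m = 1 := by
    intro x hx
    refine orderOf_dvd_iff_pow_eq_one.mp ?_
    have h1 : (orderOf x).Coprime n := Nat.coprime_of_dvd fun q hq h2 h3 => hm' q (hx q hq h2) h3
    exact h1.dvd_of_dvd_mul_right (hmn ▸ orderOf_dvd_natCard x)
  set T : G → Finset G := fun x => Finset.univ.filter fun y => x * y = y * x ∧ y ^ n = 1
  -- lower bound on each fibre
  have hT : ∀ x, n ≤ (Subgroup.centralizer ({x} : Set G)).index * (T x).card := by
    intro x
    set C := Subgroup.centralizer ({x} : Set G)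
    have hc : Nat.card {g : C // g ^ n = 1} = (T x).card := by
      rw [← Fintype.card_coe, ← Nat.card_eq_fintype_card]
      refine Nat.card_eq_of_bijective (fun g => ⟨(g.1 : G), Finset.mem_filter.mpr ⟨Finset.mem_univ _,
        (Subgroup.mem_centralizer_singleton_iff.mp g.1.2).symm, congrArg Subtype.val g.2⟩⟩) ⟨?_, ?_⟩
      · intro a b h
        have h' : ((a.1 : C) : G) = ((b.1 : C) : G) :=
          congrArg (fun z : ↥(T x) => (z : G)) h
        exact Subtype.ext (Subtype.ext h')
      · rintro ⟨y, hy⟩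
        obtain ⟨-, h1, h2⟩ := Finset.mem_filter.mp hy
        exact ⟨⟨⟨y, Subgroup.mem_centralizer_singleton_iff.mpr h1.symm⟩, Subtype.ext h2⟩, rfl⟩
    have hpos : 0 < (T x).card := Finset.card_pos.mpr ⟨1, by simp [T]⟩
    have hg := CfsgLib.frobenius_solutions (G := C) n
    rw [hc] at hg
    refine le_trans ?_ (Nat.mul_le_mul_left _ (Nat.le_of_dvd hpos hg))
    refine Nat.le_of_dvd (Nat.mul_pos (Nat.pos_of_ne_zero C.index_ne_zero_of_finite) ?_) ?_
    · exact Nat.gcd_pos_of_pos_right _ Nat.card_pos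
    · rw [← Nat.gcd_mul_left]
      refine Nat.dvd_gcd (dvd_mul_left n _) ?_
      rw [C.index_mul_card]
      exact hmn ▸ dvd_mul_left n m
  -- choose the classes
  set S : Finset G := Finset.univ.filter isPi
  have hdis : ∀ x ∈ S, ∀ x' ∈ S, ∀ y ∈ T x, ∀ y' ∈ T x', x * y = x' * y' → x = x' := by
    intro x hx x' hx' y hy y' hy' he
    obtain ⟨-, hc1, hn1⟩ := Finset.mem_filter.mp hy
    obtain ⟨-, hc2, hn2⟩ := Finset.mem_filter.mp hy'
    have h1 := congrArg (fun z => z ^ n) he
    simp only [(show Commute x y from hc1).mul_pow, (show Commute x' y' from hc2).mul_pow, hn1, hn2,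
      mul_one] at h1
    have hb : (n.gcd m : ℤ) = 1 := by exact_mod_cast hcop.symm
    rw [Nat.gcd_eq_gcd_ab] at hb
    have e : ∀ z : G, z ^ m = 1 → z = (z ^ n) ^ Nat.gcdA n m := by
      intro z hz
      conv_lhs => rw [← zpow_one z, ← hb, zpow_add, zpow_mul, zpow_mul, zpow_natCast, zpow_natCast,
        hz, one_zpow, mul_one]
    rw [e x (hxm x (Finset.mem_filter.mp hx).2), e x' (hxm x' (Finset.mem_filter.mp hx').2), h1]
  have hsum : ∑ x ∈ S, (T x).card ≤ Nat.card G := by
    rw [← Finset.card_sigma, Nat.card_eq_fintype_card, ← Finset.card_univ]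
    refine Finset.card_le_card_of_injOn (fun z => z.1 * z.2) (fun _ _ => Finset.mem_univ _) ?_
    rintro ⟨x, y⟩ hz ⟨x', y'⟩ hz' he
    simp only [Finset.mem_coe, Finset.mem_sigma] at hz hz'
    have he' : x * y = x' * y' := he
    obtain rfl := hdis x hz.1 x' hz'.1 y hz.2 y' hz'.2 he'
    rw [mul_left_cancel he']
  -- count by classes
  let D := {C : ConjClasses G // ∀ q : ℕ, q.Prime → (∃ g : G, ConjClasses.mk g = C ∧ q ∣ orderOf g) → q ∈ π}
  have hinv : ∀ g x : G, x ∈ S → g * x * g⁻¹ ∈ S := by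
    intro g x hx
    refine Finset.mem_filter.mpr ⟨Finset.mem_univ _, fun q hq hd => ?_⟩
    refine (Finset.mem_filter.mp hx).2 q hq ?_
    rwa [← MulAut.conj_apply, MulEquiv.orderOf_eq] at hd
  have hlow : Nat.card D * n ≤ ∑ x ∈ S, (T x).card := by
    rw [← Finset.sum_fiberwise S ConjClasses.mk fun x => (T x).card]
    have hD : Nat.card D = (Finset.univ.filter fun C : ConjClasses G => ∀ q : ℕ, q.Prime →
        (∃ g : G, ConjClasses.mk g = C ∧ q ∣ orderOf g) → q ∈ π).card := by
      rw [Nat.card_eq_fintype_card, Fintype.card_subtype]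
    rw [hD, ← smul_eq_mul]
    refine le_trans (Finset.card_nsmul_le_sum _ _ _ fun C hC => ?_)
      (Finset.sum_le_sum_of_subset (Finset.subset_univ _))
    have hCp := (Finset.mem_filter.mp hC).2
    obtain ⟨x, rfl⟩ := ConjClasses.exists_rep C
    have hset : (S.filter fun y => ConjClasses.mk y = ConjClasses.mk x) =
        (ConjClasses.mk x).carrier.toFinset := by
      ext y
      simp only [Finset.mem_filter, Set.mem_toFinset, ConjClasses.mem_carrier_iff_mk_eq]
      exact ⟨fun h => h.2, fun h => ⟨Finset.mem_filter.mpr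
        ⟨Finset.mem_univ _, fun q hq hd => hCp q hq ⟨y, h, hd⟩⟩, h⟩⟩
    have hTcard : ∀ y ∈ (ConjClasses.mk x).carrier.toFinset, (T y).card = (T x).card := by
      intro y hy
      rw [Set.mem_toFinset, ConjClasses.mem_carrier_iff_mk_eq] at hy
      obtain ⟨g, rfl⟩ := isConj_iff.mp (ConjClasses.mk_eq_mk_iff_isConj.mp hy.symm)
      refine (Finset.card_equiv (MulAut.conj g).toEquiv fun z => ?_).symm
      simp only [T, Finset.mem_filter, Finset.mem_univ, true_and]
      show _ ↔ _ * MulAut.conj g z = MulAut.conj g z * _ ∧ (MulAut.conj g z) ^ n = 1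
      rw [← MulAut.conj_apply, ← map_mul, ← map_mul, ← map_pow, EmbeddingLike.apply_eq_iff_eq,
        map_eq_one_iff _ (MulAut.conj g).injective]
    rw [hset, Finset.sum_congr rfl hTcard, Finset.sum_const, smul_eq_mul,
      ← Set.ncard_eq_toFinset_card', CfsgLib.ncard_carrier_eq_index_centralizer]
    exact hT x
  have hn0 : 0 < n := Nat.pos_of_ne_zero fun e => by
    rw [e, mul_zero] at hmn; exact Nat.card_pos.ne hmn
  exact Nat.le_of_mul_le_mul_right ((hlow.trans hsum).trans hmn.ge) hn0

end Cfsg.Agent.S4106
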