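import Cfsg.Statements.S4107
import Mathlib
import Cfsg.Agent.Lib.Basic
import Cfsg.Agent.Lib.Coprime
-- import your own Cfsg.Agent.* helpers here

set_option autoImplicit false
open Cfsg

namespace Cfsg.Agent.S4107

/-- Let G be a finite group and N a proper non-trivial normal subgroup such that for every x outside N all elements of the coset xN have the same order as x. Then N ≤ F(G) or F(G) ≤ N, where F(G) is the Fitting subgroup; and if N is properly contained in F(G) then F(G) has prime-power order. -/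
theorem result {G : Type*} [Group G] [Finite G] (N : Subgroup G) [N.Normal] (hN1 : N ≠ ⊥) (hN2 : N ≠ ⊤)
    (heq : ∀ x : G, x ∉ N → ∀ n ∈ N, orderOf (x * n) = orderOf x) :
    (N ≤ Cfsg.fittingSubgroup G ∨ Cfsg.fittingSubgroup G ≤ N) ∧
    (N < Cfsg.fittingSubgroup G → IsPrimePow (Nat.card (Cfsg.fittingSubgroup G))) := by
  classical
  have key : ∀ p : ℕ, p.Prime → ¬ Cfsg.pCore p G ≤ N → IsPGroup p N := by
    intro p hp hnle
    have : Fact p.Prime := ⟨hp⟩
    obtain ⟨x, hxP, hxN⟩ := SetLike.not_le_iff_exists.mp hnle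
    refine IsPGroup.of_card (n := (Nat.card N).factorization p) ?_
    have honly : ∀ q, q.Prime → q ∣ Nat.card N → q = p := by
      intro q hq hqN
      by_contra hne
      have : Fact q.Prime := ⟨hq⟩
      obtain ⟨s, hs⟩ := exists_prime_orderOf_dvd_card' q hqN
      have hsq : orderOf (s : G) = q := by rw [Subgroup.orderOf_coe, hs]
      set A := Subgroup.zpowers (s : G)
      obtain ⟨k, hk⟩ := (CfsgLib.isPGroup_pCore (G := G) p).exists_card_eq
      have hcop : (Nat.card A).Coprime (Nat.card (Cfsg.pCore p G)) := by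
        rw [Nat.card_zpowers, hsq, hk]
        exact ((Nat.coprime_primes hq hp).mpr hne).pow_right k
      have hsolv : Group.IsSolvable (Cfsg.pCore p G) := by
        have := (CfsgLib.isPGroup_pCore (G := G) p).isNilpotent
        infer_instance
      obtain ⟨y, hy, c, hc, hxyc⟩ := CfsgLib.coprime_decomp (A := A)
        (by rw [Subgroup.normalizer_eq_top]; exact le_top) hcop (Or.inr hsolv) hxP
      obtain ⟨hcP, hcC⟩ := Subgroup.mem_inf.mp hc
      have hyN : y ∈ N := by
        refine (?_ : ⁅Cfsg.pCore p G, A⁆ ≤ N) hy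
        exact le_trans (Subgroup.commutator_mono le_rfl (Subgroup.zpowers_le.mpr s.2))
          (Subgroup.commutator_le_right _ N)
      have hcN : c ∉ N := fun h => hxN (hxyc ▸ N.mul_mem hyN h)
      have hcomm : Commute c (s : G) :=
        (Subgroup.mem_centralizer_iff.mp hcC (s : G) (Subgroup.mem_zpowers _)).symm
      obtain ⟨j, -, hj⟩ := (Nat.dvd_prime_pow hp).mp (hk ▸ Subgroup.orderOf_dvd_natCard _ hcP)
      have h1 := heq c hcN s s.2
      rw [hcomm.orderOf_mul_eq_mul_orderOf_of_coprime (by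
        rw [hj, hsq]; exact ((Nat.coprime_primes hp hq).mpr (Ne.symm hne)).pow_left j), hj, hsq] at h1
      have h2 : p ^ j * q = p ^ j * 1 := by rw [mul_one]; exact h1
      exact hq.ne_one (Nat.eq_of_mul_eq_mul_left (pow_pos hp.pos j) h2)
    refine Nat.eq_of_factorization_eq Nat.card_pos.ne' (pow_ne_zero _ hp.ne_zero) fun q => ?_
    rw [hp.factorization_pow]
    rcases eq_or_ne q p with rfl | hne
    · simp
    · rw [Finsupp.single_eq_of_ne hne]
      by_contra h0
      by_cases hq : q.Prime
      · exact hne (honly q hq (Nat.dvd_of_factorization_pos h0))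
      · exact h0 (Nat.factorization_eq_zero_of_not_prime _ hq)
  have hexists : ¬ Cfsg.fittingSubgroup G ≤ N → ∃ p, p.Prime ∧ ¬ Cfsg.pCore p G ≤ N := by
    intro h
    rw [CfsgLib.fittingSubgroup_eq_iSup_pCore] at h
    by_contra hc
    push Not at hc
    exact h (iSup_le fun p => hc p p.2)
  have hNle : ∀ p, p.Prime → IsPGroup p N → N ≤ Cfsg.fittingSubgroup G := fun p hp h =>
    (CfsgLib.le_pCore h).trans (CfsgLib.pCore_le_fittingSubgroup hp)
  refine ⟨?_, fun hlt => ?_⟩
  · by_cases h : Cfsg.fittingSubgroup G ≤ N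
    · exact Or.inr h
    · obtain ⟨p, hp, hnle⟩ := hexists h
      exact Or.inl (hNle p hp (key p hp hnle))
  · obtain ⟨p, hp, hnle⟩ := hexists hlt.not_ge
    have : Fact p.Prime := ⟨hp⟩
    have hNp := key p hp hnle
    have hF : Cfsg.fittingSubgroup G = Cfsg.pCore p G := by
      refine le_antisymm ?_ (CfsgLib.pCore_le_fittingSubgroup hp)
      rw [CfsgLib.fittingSubgroup_eq_iSup_pCore]
      refine iSup_le fun q => ?_
      rcases eq_or_ne (q : ℕ) p with e | e
      · rw [e]
      have : Fact (q : ℕ).Prime := ⟨q.2⟩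
      by_cases hqN : Cfsg.pCore (q : ℕ) G ≤ N
      · exact hqN.trans (CfsgLib.le_pCore hNp)
      · have hd := (IsPGroup.disjoint_of_ne (q : ℕ) p e N N (key q q.2 hqN) hNp)
        exact absurd (disjoint_self.mp hd) hN1
    rw [hF]
    obtain ⟨k, hk⟩ := (CfsgLib.isPGroup_pCore (G := G) p).exists_card_eq
    refine ⟨p, k, hp.prime, ?_, hk.symm⟩
    rcases Nat.eq_zero_or_pos k with h0 | h0
    · rw [h0, pow_zero] at hk
      exact absurd (le_bot_iff.mp ((CfsgLib.le_pCore hNp).trans (Subgroup.card_eq_one.mp hk).le)) hN1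
    · exact h0

end Cfsg.Agent.S4107
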