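import Cfsg.Statements.S4108
import Mathlib
import Cfsg.Agent.Lib.Frobenius.More
-- import your own Cfsg.Agent.* helpers here

set_option autoImplicit false
open Cfsg

namespace Cfsg.Agent.S4108

/-- Let G be a finite group, p a prime and N a proper non-trivial normal p-subgroup such that for every x outside N all elements of the coset xN have the same order as x. Then every non-trivial subgroup H of G of order prime to p acts fixed-point-freely on N: NH is a Frobenius group with complement H and kernel N. -/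
theorem result {G : Type*} [Group G] [Finite G] (N : Subgroup G) [N.Normal] (hN1 : N ≠ ⊥) (hN2 : N ≠ ⊤)
    (heq : ∀ x : G, x ∉ N → ∀ n ∈ N, orderOf (x * n) = orderOf x)
    (p : ℕ) [Fact p.Prime] (hNp : IsPGroup p N) :
    ∀ H : Subgroup G, H ≠ ⊥ → (Nat.card H).Coprime p →
      Cfsg.IsFrobeniusComplement (H.subgroupOf (N ⊔ H)) ∧ Cfsg.frobeniusKernel (H.subgroupOf (N ⊔ H)) = (N.subgroupOf (N ⊔ H) : Set ↥(N ⊔ H)) := by
  intro H hH hcop
  obtain ⟨a, ha⟩ := hNp.exists_card_eq
  have hdisj : Disjoint N H := Subgroup.disjoint_of_coprime_natCard (by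
    rw [ha]; exact (hcop.pow_right a).symm)
  set N' := N.subgroupOf (N ⊔ H)
  set H' := H.subgroupOf (N ⊔ H)
  have hn' : N'.Normal := (inferInstance : N.Normal).comap _
  have hc : Subgroup.IsComplement' N' H' := by
    refine Subgroup.isComplement'_of_disjoint_and_mul_eq_univ ?_ ?_
    · rw [Subgroup.disjoint_def]
      intro x hx hy
      exact Subtype.ext (Subgroup.disjoint_def.mp hdisj hx hy)
    · rw [Set.eq_univ_iff_forall]
      rintro ⟨x, hx⟩
      obtain ⟨n, hn, h, hh, rfl⟩ := Subgroup.mem_sup_of_normal_left.mp hx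
      exact ⟨⟨n, Subgroup.mem_sup_left hn⟩, hn, ⟨h, Subgroup.mem_sup_right hh⟩, hh, rfl⟩
  have hN' : N' ≠ ⊥ := fun e => hN1 (by
    rw [← Subgroup.map_subgroupOf_eq_of_le (le_sup_left : N ≤ N ⊔ H)]
    show N'.map _ = ⊥
    rw [e, Subgroup.map_bot])
  have hH' : H' ≠ ⊥ := fun e => hH (by
    rw [← Subgroup.map_subgroupOf_eq_of_le (le_sup_right : H ≤ N ⊔ H)]
    show H'.map _ = ⊥
    rw [e, Subgroup.map_bot])
  have hF : Cfsg.IsFrobeniusComplement H' := by
    refine CfsgLib.Frob.frob_of_fpf hc hN' hH' fun h hh h1 => ?_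
    rw [Subgroup.eq_bot_iff_forall]
    rintro n ⟨hn, hnh⟩
    have hcm : Commute (h : G) (n : G) :=
      (congrArg Subtype.val (Subgroup.mem_centralizer_singleton_iff.mp hnh)).symm
    have hh' : (h : G) ∉ N := fun hc' => h1 (Subtype.ext (Subgroup.disjoint_def.mp hdisj hc' hh))
    have hco : (orderOf (h : G)).Coprime (orderOf (n : G)) :=
      (hcop.coprime_dvd_left (Subgroup.orderOf_dvd_natCard H hh)).pow_right a |>.coprime_dvd_right
        (ha ▸ Subgroup.orderOf_dvd_natCard N hn)
    have h2 := heq (h : G) hh' n hn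
    rw [hcm.orderOf_mul_eq_mul_orderOf_of_coprime hco] at h2
    exact Subtype.ext (orderOf_eq_one_iff.mp ((Nat.mul_eq_left (orderOf_pos _).ne').mp h2))
  exact ⟨hF, (CfsgLib.Frob.kernel_eq_of_complement hF hc).symm⟩

end Cfsg.Agent.S4108
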