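import Cfsg.Statements.S4112
import Mathlib
import Cfsg.Agent.Lib.Elementary
-- import your own Cfsg.Agent.* helpers here

set_option autoImplicit false
open Cfsg

namespace Cfsg.Agent.S4112

open scoped Pointwise

/-- Let G be a finite group and M ≤ N non-trivial proper normal subgroups such that for every g outside N the conjugacy class of g is a union of cosets of M (equivalently gm is conjugate to g for every m ∈ M). Then (1) and (2) below are equivalent, and they imply (3): (1) every g outside N acts fixed-point-freely on M, that is C_G(x) ≤ N for every x ∈ M, x ≠ 1; (2) the index of N in G is coprime to the order of M; (3) there is a subgroup H of G with HN = G and H ∩ M = 1. -/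
theorem result {G : Type*} [Group G] [Finite G] (N M : Subgroup G) [N.Normal] [M.Normal] (hMN : M ≤ N) (hM1 : M ≠ ⊥) (hN2 : N ≠ ⊤)
    (hcam : ∀ g : G, g ∉ N → ∀ m ∈ M, ∃ x : G, x * g * x⁻¹ = g * m) :
    ((∀ x ∈ M, x ≠ 1 → Subgroup.centralizer ({x} : Set G) ≤ N) ↔ N.index.Coprime (Nat.card M)) ∧
    ((∀ x ∈ M, x ≠ 1 → Subgroup.centralizer ({x} : Set G) ≤ N) → ∃ H : Subgroup G, H ⊔ N = ⊤ ∧ H ⊓ M = ⊥) := by
  classical
  have horder : ∀ g : G, g ∉ N → ∀ m ∈ M, orderOf (g * m) = orderOf g := by
    intro g hg m hm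
    obtain ⟨x, hx⟩ := hcam g hg m hm
    rw [← hx]
    exact MulEquiv.orderOf_eq (MulAut.conj x) g
  have hfw : (∀ x ∈ M, x ≠ 1 → Subgroup.centralizer ({x} : Set G) ≤ N) → N.index.Coprime (Nat.card M) := by
    intro h
    rw [Nat.coprime_iff_gcd_eq_one]
    by_contra hne
    obtain ⟨p, hp, hpd⟩ := Nat.exists_prime_and_dvd hne
    have := Fact.mk hp
    let P : Sylow p G := default
    have hMP : (M.subgroupOf (P : Subgroup G)) ≠ ⊥ := by
      intro e
      obtain ⟨⟨x, hxM⟩, hxo⟩ := exists_prime_orderOf_dvd_card' p (hpd.trans (Nat.gcd_dvd_right _ _))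
      rw [Subgroup.orderOf_mk] at hxo
      obtain ⟨Q, hQ⟩ := (IsPGroup.of_card (p := p) (n := 1) (G := Subgroup.zpowers x) (by rw [Nat.card_zpowers, hxo, pow_one])).exists_le_sylow
      obtain ⟨g, rfl⟩ := MulAction.exists_smul_eq G P Q
      have hx := hQ (Subgroup.mem_zpowers x)
      rw [Sylow.coe_subgroup_smul, Subgroup.mem_pointwise_smul_iff_inv_smul_mem, MulAut.smul_def,
        MulAut.inv_def, MulAut.conj_symm_apply] at hx
      have hmem : (⟨_, hx⟩ : (P : Subgroup G)) ∈ M.subgroupOf (P : Subgroup G) := by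
        rw [Subgroup.mem_subgroupOf]
        simpa using Subgroup.Normal.conj_mem inferInstance x hxM g⁻¹
      rw [e, Subgroup.mem_bot] at hmem
      have h1 : g⁻¹ * x * g = 1 := congrArg Subtype.val hmem
      have h2 : x = 1 := by simpa [mul_assoc] using congrArg (fun t => g * t * g⁻¹) h1
      exact hp.ne_one (by rw [← hxo, h2, orderOf_one])
    have := P.isPGroup'.isNilpotent
    obtain ⟨⟨x, hxP⟩, hx, hx1⟩ := (Subgroup.bot_or_exists_ne_one _).resolve_left
      (CfsgLib.inf_center_ne_bot_of_nilpotent hMP)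
    obtain ⟨hxM, hxc⟩ := Subgroup.mem_inf.mp hx
    have hPN : (P : Subgroup G) ≤ N := by
      refine le_trans (fun u hu => ?_) (h x hxM fun e => hx1 (Subtype.ext e))
      exact Subgroup.mem_centralizer_singleton_iff.mpr (congrArg Subtype.val (Subgroup.mem_center_iff.mp hxc ⟨u, hu⟩))
    exact P.not_dvd_index ((hpd.trans (Nat.gcd_dvd_left _ _)).trans (Subgroup.index_dvd_of_le hPN))
  have hbw : N.index.Coprime (Nat.card M) → ∀ x ∈ M, x ≠ 1 → Subgroup.centralizer ({x} : Set G) ≤ N := by
    intro hcop x hx hx1 g hg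
    by_contra hgN
    set a := Nat.card M with ha
    set d := Nat.gcd (orderOf g) (a ^ orderOf g) with hd
    have hgc : Commute g x := Subgroup.mem_centralizer_singleton_iff.mp hg
    have hd0 : orderOf g ≠ 0 := (orderOf_pos g).ne'
    have hdd : d ∣ orderOf g := Nat.gcd_dvd_left _ _
    have hgd : g ^ d ∉ N := by
      intro hmem
      apply hgN
      rw [← QuotientGroup.eq_one_iff] at hmem ⊢
      rw [QuotientGroup.mk_pow] at hmem
      refine orderOf_eq_one_iff.mp (Nat.eq_one_of_dvd_coprimes ?_ (orderOf_dvd_natCard (g : G ⧸ N)) (orderOf_dvd_of_pow_eq_one hmem))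
      rw [← Subgroup.index_eq_card]
      exact Nat.Coprime.coprime_dvd_right (Nat.gcd_dvd_right _ _) (hcop.pow_right _)
    have hcx : (orderOf (g ^ d)).Coprime (orderOf x) := by
      refine Nat.Coprime.coprime_dvd_right (Subgroup.orderOf_dvd_natCard M hx) ?_
      rw [orderOf_pow_of_dvd (Nat.pos_iff_ne_zero.mp (Nat.gcd_pos_of_pos_left _ (orderOf_pos g))) hdd, Nat.coprime_iff_gcd_eq_one]
      by_contra hne
      obtain ⟨q, hq, hqd⟩ := Nat.exists_prime_and_dvd hne
      have hqa : q ∣ a := hqd.trans (Nat.gcd_dvd_right _ _)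
      have hqo : q ∣ orderOf g / d := hqd.trans (Nat.gcd_dvd_left _ _)
      have hv : q ^ (orderOf g).factorization q ∣ d :=
        Nat.dvd_gcd (Nat.ordProj_dvd _ _) ((pow_dvd_pow_of_dvd hqa _).trans (pow_dvd_pow a
          (Nat.lt_of_lt_of_le (Nat.factorization_lt q hd0) le_rfl).le))
      have h3 : q ^ ((orderOf g).factorization q + 1) ∣ orderOf g := by
        rw [pow_succ]
        conv_rhs => rw [← Nat.mul_div_cancel' hdd]
        exact Nat.mul_dvd_mul hv hqo
      have := (hq.pow_dvd_iff_le_factorization hd0).mp h3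
      omega
    have hmul := (hgc.pow_left d).orderOf_mul_eq_mul_orderOf_of_coprime hcx
    rw [horder _ hgd x hx] at hmul
    exact hx1 (orderOf_eq_one_iff.mp ((Nat.mul_eq_left (orderOf_pos _).ne').mp hmul.symm))
  refine ⟨⟨hfw, hbw⟩, fun h => ?_⟩
  have hcop := hfw h
  obtain ⟨H, hH, hmin⟩ := (Set.toFinite {H : Subgroup G | H ⊔ N = ⊤}).exists_minimal ⟨⊤, top_sup_eq N⟩
  refine ⟨H, hH, ?_⟩
  -- `H ⊓ N` is in the Frattini subgroup of `H`
  have hfr : N.subgroupOf H ≤ frattini H := by
    refine le_iInf₂ fun W hW => ?_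
    by_contra hnle
    have htop : W ⊔ N.subgroupOf H = ⊤ := (hW.le_iff.mp le_sup_left).resolve_right fun e =>
      hnle (e ▸ le_sup_right)
    have h1 : W.map H.subtype ⊔ N = ⊤ := by
      rw [eq_top_iff, ← hH]
      refine sup_le ?_ le_sup_right
      have h2 := congrArg (Subgroup.map H.subtype) htop
      rw [Subgroup.map_sup, ← MonoidHom.range_eq_map, Subgroup.range_subtype] at h2
      exact (le_of_eq h2.symm).trans (sup_le_sup_left (Subgroup.map_comap_le _ _) _)
    have h3 := hmin h1 (Subgroup.map_subtype_le W)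
    refine hW.1 (eq_top_iff.mpr fun u _ => ?_)
    obtain ⟨v, hv, hve⟩ := h3 u.2
    exact (Subtype.ext hve : v = u) ▸ hv
  rw [eq_bot_iff]
  intro u hu
  obtain ⟨huH, huM⟩ := Subgroup.mem_inf.mp hu
  rw [Subgroup.mem_bot]
  by_contra hu1
  obtain ⟨q, hq, hqd⟩ := Nat.exists_prime_and_dvd (mt orderOf_eq_one_iff.mp hu1)
  have := Fact.mk hq
  have hqH : q ∣ Nat.card H := hqd.trans (Subgroup.orderOf_dvd_natCard H huH)
  have hqi : q ∣ (frattini H).index := by
    by_contra hni
    -- the Sylow subgroup of the Frattini subgroup is normal in `H`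
    let P : Sylow q (frattini H) := default
    have := frattini_nilpotent (G := H)
    have hPn : (P : Subgroup (frattini H)).Normal :=
      ((Group.isNilpotent_of_finite_tfae (G := frattini H)).out 0 3 rfl rfl).mp this q ⟨hq⟩ P
    have hPc : (P : Subgroup (frattini H)).Characteristic := P.characteristic_of_normal hPn
    set P0 := (P : Subgroup (frattini H)).map (frattini H).subtype with hP0
    have hP0n : P0.Normal := inferInstance
    have hP0i : ¬ q ∣ P0.index := by
      rw [hP0, Subgroup.index_map_subtype]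
      exact fun hd => (Nat.Prime.dvd_mul hq).mp hd |>.elim P.not_dvd_index hni
    obtain ⟨k, hk⟩ := IsPGroup.iff_card.mp (P.isPGroup'.map (frattini H).subtype : IsPGroup q P0)
    obtain ⟨K, hK⟩ := Subgroup.exists_right_complement'_of_coprime (N := P0)
      (by rw [hk]; exact (hq.coprime_iff_not_dvd.mpr hP0i).pow_left k)
    have hKtop : K = ⊤ := frattini_nongenerating (by
      rw [eq_top_iff, ← hK.sup_eq_top]
      exact sup_le (le_sup_of_le_right (Subgroup.map_subtype_le _)) le_sup_left)
    rw [hKtop, Subgroup.isComplement'_top_right] at hK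
    have := P0.card_mul_index
    rw [hK, Subgroup.card_bot, one_mul] at this
    rw [hK] at hP0i
    exact hP0i (this.symm ▸ hqH)
  have hdvd : (frattini H).index ∣ N.index := by
    refine (Subgroup.index_dvd_of_le hfr).trans ?_
    show N.relIndex H ∣ N.index
    exact Subgroup.relIndex_dvd_index_of_normal N H
  exact hq.ne_one (Nat.eq_one_of_dvd_coprimes hcop (hqi.trans hdvd) (hqd.trans (Subgroup.orderOf_dvd_natCard M huM)))

end Cfsg.Agent.S4112
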