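import Cfsg.Statements.S4113
import Mathlib
-- import your own Cfsg.Agent.* helpers here

set_option autoImplicit false
open Cfsg

namespace Cfsg.Agent.S4113

/-- Let G be a finite group, M ≤ N non-trivial proper normal subgroups, and H a subgroup with HM = G and H ∩ M = 1. Then every element of G outside N acts fixed-point-freely on M (C_G(x) ≤ N for every x ∈ M, x ≠ 1) if and only if H ∩ gHg⁻¹ ≤ H ∩ N for every g outside H, with H proper and non-trivial and H ∩ N proper in H. -/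
theorem result {G : Type*} [Group G] [Finite G] (N M : Subgroup G) [N.Normal] [M.Normal] (hMN : M ≤ N) (hM1 : M ≠ ⊥) (hN2 : N ≠ ⊤)
    (H : Subgroup G) (hHM : H ⊔ M = ⊤) (hHM' : H ⊓ M = ⊥) :
    (∀ x ∈ M, x ≠ 1 → Subgroup.centralizer ({x} : Set G) ≤ N) ↔
      (H ≠ ⊥ ∧ H ≠ ⊤ ∧ H ⊓ N < H ∧ ∀ g : G, g ∉ H → H ⊓ H.map (MulAut.conj g).toMonoidHom ≤ N) := by
  classical
  have hMH : ∀ g : G, ∃ m ∈ M, ∃ h ∈ H, m * h = g := fun g =>
    Subgroup.mem_sup_of_normal_left.mp (by rw [sup_comm, hHM]; exact Subgroup.mem_top g)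
  have hmap : ∀ (g : G) (x : G), x ∈ H.map (MulAut.conj g).toMonoidHom ↔ g⁻¹ * x * g ∈ H := by
    intro g x
    constructor
    · rintro ⟨k, hk, rfl⟩
      simpa [mul_assoc] using hk
    · exact fun h => ⟨_, h, by simp [mul_assoc]⟩
  have hdis : ∀ z, z ∈ H → z ∈ M → z = 1 := fun z h1 h2 =>
    Subgroup.mem_bot.mp (hHM' ▸ Subgroup.mem_inf.mpr ⟨h1, h2⟩)
  constructor
  · intro hfp
    refine ⟨?_, ?_, ?_, ?_⟩
    · rintro rfl
      rw [bot_sup_eq] at hHM
      exact hN2 (top_le_iff.mp (hHM ▸ hMN))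
    · rintro rfl
      exact hM1 (by simpa using hHM')
    · refine lt_of_le_of_ne inf_le_left fun e => hN2 (top_le_iff.mp ?_)
      rw [← hHM]
      exact sup_le (e ▸ inf_le_right) hMN
    · intro g hg z hz
      obtain ⟨hzH, hzg⟩ := Subgroup.mem_inf.mp hz
      obtain ⟨m, hm, h', hh', rfl⟩ := hMH g
      rw [hmap] at hzg
      have hk : m⁻¹ * z * m ∈ H := by
        have := H.mul_mem (H.mul_mem hh' hzg) (H.inv_mem hh')
        simpa [mul_assoc] using this
      have h1 : z⁻¹ * (m⁻¹ * z * m) = 1 := by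
        refine hdis _ (H.mul_mem (H.inv_mem hzH) hk) ?_
        have := M.mul_mem ((inferInstance : M.Normal).conj_mem _ (M.inv_mem hm) z⁻¹) hm
        simpa [mul_assoc] using this
      have hm1 : m ≠ 1 := fun e => hg (by rw [e, one_mul]; exact hh')
      refine hfp m hm hm1 (Subgroup.mem_centralizer_singleton_iff.mpr ?_)
      have h2 : z = m⁻¹ * z * m := inv_mul_eq_one.mp h1
      conv_rhs => rw [h2]
      group
  · rintro ⟨-, -, -, hI⟩ x hxM hx1 c hc
    by_contra hcN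
    obtain ⟨m₁, hm₁, h, hh, rfl⟩ := hMH c
    have hhN : h ∉ N := fun hn => hcN (N.mul_mem (hMN hm₁) hn)
    have hfpf : ∀ u ∈ M, u * h * u⁻¹ = h → u = 1 := by
      intro u hu he
      by_contra hu1
      refine hhN (hI u (fun huH => hu1 (hdis u huH hu)) (Subgroup.mem_inf.mpr ⟨hh, (hmap u h).mpr ?_⟩))
      have : u⁻¹ * h * u = h := by
        conv_lhs => rw [← he]
        group
      rwa [this]
    let φ : M → M := fun m => ⟨(m : G) * (h * (m : G)⁻¹ * h⁻¹),
      M.mul_mem m.2 ((inferInstance : M.Normal).conj_mem _ (M.inv_mem m.2) h)⟩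
    have hinj : Function.Injective φ := by
      intro a b hab
      have e : (a : G) * (h * (a : G)⁻¹ * h⁻¹) = (b : G) * (h * (b : G)⁻¹ * h⁻¹) :=
        congrArg Subtype.val hab
      refine Subtype.ext (inv_mul_eq_one.mp (hfpf _ (M.mul_mem (M.inv_mem a.2) b.2) ?_))
      calc (a : G)⁻¹ * b * h * ((a : G)⁻¹ * b)⁻¹
          = (a : G)⁻¹ * ((b : G) * (h * (b : G)⁻¹ * h⁻¹)) * h * a := by group
        _ = h := by rw [← e]; group
    obtain ⟨⟨m, hm⟩, hmφ⟩ := (Finite.injective_iff_surjective.mp hinj) ⟨m₁, hm₁⟩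
    have hc' : m₁ * h = m * h * m⁻¹ := by
      have e2 : m * (h * m⁻¹ * h⁻¹) = m₁ := congrArg Subtype.val hmφ
      rw [← e2]; group
    have hxc := Subgroup.mem_centralizer_singleton_iff.mp hc
    rw [hc'] at hxc
    have h2 := hfpf (m⁻¹ * x * m) (by simpa using (inferInstance : M.Normal).conj_mem x hxM m⁻¹) (by
      have h3 : m⁻¹ * (x * (m * h * m⁻¹)) * m = m⁻¹ * ((m * h * m⁻¹) * x) * m := by rw [hxc]
      rw [mul_inv_eq_iff_eq_mul]
      calc m⁻¹ * x * m * h = m⁻¹ * (x * (m * h * m⁻¹)) * m := by group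
        _ = m⁻¹ * ((m * h * m⁻¹) * x) * m := h3
        _ = h * (m⁻¹ * x * m) := by group)
    refine hx1 ?_
    have h4 := congrArg (fun w => m * w * m⁻¹) h2
    simp only [mul_one, mul_inv_cancel] at h4
    rw [show m * (m⁻¹ * x * m) * m⁻¹ = x by group] at h4
    exact h4

end Cfsg.Agent.S4113
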