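import Cfsg.Statements.S4116
import Mathlib
import Cfsg.Agent.Lib.SylowExtra
-- import your own Cfsg.Agent.* helpers here

set_option autoImplicit false
open Cfsg

namespace Cfsg.Agent.S4116

open scoped Pointwise

theorem not_cover_of_trivial_inter {G : Type*} [Group G] [Finite G] {K : Subgroup G}
    (hmax : ∀ M M' : Subgroup K, IsCoatom M → IsCoatom M' → M ≠ M' → ∀ x ∈ M, x ∈ M' → x = 1)
    (hnn : ∀ M : Subgroup K, IsCoatom M → ¬ M.Normal) (hK : K ≠ ⊥) : False := by
  classical
  have := Fintype.ofFinite K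
  have hnontriv : Nontrivial K := (Subgroup.nontrivial_iff_ne_bot K).mpr hK
  let conjS : K → Subgroup K → Subgroup K := fun a M => MulAut.conj a • M
  have hmem : ∀ (a : K) (M : Subgroup K) (z : K), z ∈ conjS a M ↔ a⁻¹ * z * a ∈ M := by
    intro a M z
    show z ∈ MulAut.conj a • M ↔ _
    rw [Subgroup.mem_pointwise_smul_iff_inv_smul_mem, MulAut.smul_def, MulAut.inv_def,
      MulAut.conj_symm_apply]
  have hcoat : ∀ (a : K) (M : Subgroup K), IsCoatom M → IsCoatom (conjS a M) := by
    intro a M hM
    show IsCoatom (MulAut.conj a • M)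
    rw [Subgroup.pointwise_smul_def]
    exact (OrderIso.isCoatom_iff (MulEquiv.mapSubgroup (MulAut.conj a)) M).mpr hM
  -- the number of elements covered by a class
  let cov : Subgroup K → Finset K := fun M =>
    Finset.univ.filter fun x => x ≠ 1 ∧ ∃ a : K, a⁻¹ * x * a ∈ M
  have hcard : ∀ M : Subgroup K, IsCoatom M → M.index * (Nat.card M - 1) ≤ (cov M).card ∧
      1 < M.index ∧ 1 < Nat.card M := by
    intro M hM
    refine ⟨?_, M.one_lt_index_of_ne_top hM.1, ?_⟩
    · have hself : Subgroup.normalizer (M : Set K) = M := by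
        refine le_antisymm ?_ Subgroup.le_normalizer
        by_contra hc
        exact hnn M hM (Subgroup.normalizer_eq_top_iff.mp
          (hM.2 _ (lt_of_le_not_ge Subgroup.le_normalizer hc)))
      let e : (K ⧸ M) × {m : M // m ≠ 1} → cov M := fun z =>
        ⟨z.1.out * (z.2.1 : K) * z.1.out⁻¹, Finset.mem_filter.mpr ⟨Finset.mem_univ _,
          fun h => z.2.2 (Subtype.ext (conj_eq_one_iff.mp h)), z.1.out, by simp [mul_assoc]⟩⟩
      have he : Function.Injective e := by
        rintro ⟨q, m⟩ ⟨q', m'⟩ h
        have h' : q.out * (m.1 : K) * q.out⁻¹ = q'.out * (m'.1 : K) * q'.out⁻¹ := congrArg Subtype.val h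
        have hm1 : q.out * (m.1 : K) * q.out⁻¹ ≠ 1 := fun h => m.2 (Subtype.ext (conj_eq_one_iff.mp h))
        have heq : conjS q.out M = conjS q'.out M := by
          by_contra hne
          exact hm1 (hmax _ _ (hcoat _ M hM) (hcoat _ M hM) hne _
            ((hmem _ _ _).mpr (by simp [mul_assoc])) ((hmem _ _ _).mpr (by rw [h']; simp [mul_assoc])))
        have hq : q = q' := by
          rw [← QuotientGroup.out_eq' q, ← QuotientGroup.out_eq' q', QuotientGroup.eq]
          suffices hn : q.out⁻¹ * q'.out ∈ Subgroup.normalizer (M : Set K) by rwa [hself] at hn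
          rw [Subgroup.mem_normalizer_iff]
          intro z
          have := hmem q.out M (q'.out * z * q'.out⁻¹)
          rw [heq, hmem] at this
          simp only [mul_assoc, inv_mul_cancel_left, inv_mul_cancel, mul_one] at this
          simpa [mul_assoc] using this
        subst hq
        refine Prod.ext rfl (Subtype.ext (Subtype.ext ?_))
        simpa using h'
      have := Nat.card_le_card_of_injective e he
      rw [Nat.card_prod, Nat.card_eq_fintype_card (α := {m : M // m ≠ 1}), Fintype.card_subtype_compl,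
        Fintype.card_subtype_eq, ← Nat.card_eq_fintype_card, ← Subgroup.index] at this
      simpa using this
    · rw [Subgroup.one_lt_card_iff_ne_bot]
      rintro rfl
      exact hnn ⊥ hM inferInstance
  have hle : ∀ M : Subgroup K, IsCoatom M → Nat.card K ≤ 2 * (cov M).card := by
    intro M hM
    obtain ⟨h1, h2, h3⟩ := hcard M hM
    have h4 := M.card_mul_index
    obtain ⟨c, hc⟩ := Nat.exists_eq_add_of_le' h3
    rw [hc, show c + 2 - 1 = c + 1 from rfl] at h1
    rw [← h4, hc]
    nlinarith
  obtain ⟨M, hM, -⟩ := (eq_top_or_exists_le_coatom (⊥ : Subgroup K)).resolve_left bot_ne_top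
  have hKcard : 0 < Nat.card K := Nat.card_pos
  -- an element outside the class of M
  obtain ⟨x, hx1, hx⟩ : ∃ x : K, x ≠ 1 ∧ ∀ a : K, a⁻¹ * x * a ∉ M := by
    by_contra hc
    push Not at hc
    have hMtop : ∀ g : K, g = 1 ∨ ∃ a : K, a⁻¹ * g * a ∈ M := fun g => by
      rcases eq_or_ne g 1 with h | h
      · exact Or.inl h
      · exact Or.inr (hc g h)
    obtain ⟨-, hi, hMc⟩ := hcard M hM
    let e : (K ⧸ M) × {m : M // m ≠ 1} → {g : K // g ≠ 1} := fun z =>
      ⟨z.1.out * (z.2.1 : K) * z.1.out⁻¹, fun h => z.2.2 (Subtype.ext (conj_eq_one_iff.mp h))⟩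
    have hs : Function.Surjective e := by
      rintro ⟨g, hg⟩
      obtain ⟨a, ha⟩ := hc g hg
      have h1 : (↑a : K ⧸ M).out⁻¹ * g * (↑a : K ⧸ M).out ∈ M := by
        obtain ⟨m, hm⟩ := QuotientGroup.mk_out_eq_mul M a
        rw [hm]
        have := M.mul_mem (M.mul_mem (M.inv_mem m.2) ha) m.2
        simpa [mul_assoc] using this
      refine ⟨⟨↑a, ⟨⟨_, h1⟩, fun h => hg ?_⟩⟩, Subtype.ext ?_⟩
      · have := congrArg (fun w : M => (↑a : K ⧸ M).out * (w : K) * (↑a : K ⧸ M).out⁻¹) h
        simpa [mul_assoc] using this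
      · simp [e, mul_assoc]
    have := Nat.card_le_card_of_surjective e hs
    rw [Nat.card_prod, Nat.card_eq_fintype_card (α := {g : K // g ≠ 1}), Fintype.card_subtype_compl,
      Fintype.card_subtype_eq, Nat.card_eq_fintype_card (α := {m : M // m ≠ 1}),
      Fintype.card_subtype_compl, Fintype.card_subtype_eq, ← Nat.card_eq_fintype_card,
      ← Nat.card_eq_fintype_card, ← Subgroup.index] at this
    have h4 := M.card_mul_index
    obtain ⟨c, hc2'⟩ := Nat.exists_eq_add_of_le' hMc
    have hc2 : Nat.card M = c + 2 := hc2'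
    rw [← h4, hc2, show c + 2 - 1 = c + 1 from rfl] at this
    have h5 : (c + 2) * M.index = M.index * (c + 1) + M.index := by ring
    omega
  obtain ⟨M', hM', hxM'⟩ := (eq_top_or_exists_le_coatom (Subgroup.zpowers x)).resolve_left fun e => by
    have : IsCyclic K := ⟨x, fun y => (e ▸ Subgroup.mem_top y : y ∈ Subgroup.zpowers x)⟩
    let : CommGroup K := IsCyclic.commGroup
    exact hnn M hM inferInstance
  have hdis : Disjoint (cov M) (cov M') := by
    rw [Finset.disjoint_left]
    intro z hz hz'
    obtain ⟨-, hz1, a, ha⟩ := Finset.mem_filter.mp hz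
    obtain ⟨-, -, b, hb⟩ := Finset.mem_filter.mp hz'
    have heq : conjS a M = conjS b M' := by
      by_contra hne
      exact hz1 (hmax _ _ (hcoat _ M hM) (hcoat _ M' hM') hne z ((hmem _ _ _).mpr ha) ((hmem _ _ _).mpr hb))
    have hxb : b * x * b⁻¹ ∈ conjS b M' :=
      (hmem _ _ _).mpr (by simpa [mul_assoc] using hxM' (Subgroup.mem_zpowers x))
    rw [← heq, hmem] at hxb
    exact hx (b⁻¹ * a) (by simpa [mul_assoc] using hxb)
  have hsub : (cov M ∪ cov M') ⊆ Finset.univ.erase 1 := by
    intro z hz
    rcases Finset.mem_union.mp hz with h | h <;>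
      exact Finset.mem_erase.mpr ⟨(Finset.mem_filter.mp h).2.1, Finset.mem_univ _⟩
  have hc := Finset.card_le_card hsub
  rw [Finset.card_union_of_disjoint hdis, Finset.card_erase_of_mem (Finset.mem_univ _),
    Finset.card_univ, ← Nat.card_eq_fintype_card] at hc
  have := hle M hM
  have := hle M' hM'
  omega

/-- Let G be a finite group with a subgroup H whose order is coprime to its index (a Hall subgroup) and which meets each of its conjugates by elements outside N_G(H) trivially. Then every subgroup of G whose order is divisible only by primes dividing the order of H lies in a conjugate of H. -/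
theorem result {G : Type*} [Group G] [Finite G] (H : Subgroup G)
    (hHall : (Nat.card H).Coprime H.index) (hTI : Cfsg.IsTISubset (H : Set G))
    (K : Subgroup G) (hK : ∀ q : ℕ, q.Prime → q ∣ Nat.card K → q ∣ Nat.card H) :
    ∃ g : G, K ≤ H.map (MulAut.conj g).toMonoidHom := by
  classical
  have hmap : ∀ (g : G) (x : G), x ∈ H.map (MulAut.conj g).toMonoidHom ↔ g⁻¹ * x * g ∈ H := by
    intro g x
    constructor
    · rintro ⟨k, hk, rfl⟩
      simpa [mul_assoc] using hk
    · exact fun h => ⟨_, h, by simp [mul_assoc]⟩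
  -- conjugates sharing a nontrivial element are equal
  have hshare : ∀ (a b x : G), x ≠ 1 → x ∈ H.map (MulAut.conj a).toMonoidHom →
      x ∈ H.map (MulAut.conj b).toMonoidHom →
      H.map (MulAut.conj a).toMonoidHom = H.map (MulAut.conj b).toMonoidHom := by
    intro a b x hx ha hb
    rw [hmap] at ha hb
    have hn : b⁻¹ * a ∈ Subgroup.normalizer (H : Set G) := by
      by_contra hn
      have h1 := hTI _ hn _ ha (by simpa [mul_assoc] using hb)
      exact hx (calc x = a * (a⁻¹ * x * a) * a⁻¹ := by group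
        _ = 1 := by rw [h1]; group)
    ext z
    rw [hmap, hmap]
    have := Subgroup.mem_normalizer_iff.mp hn (a⁻¹ * z * a)
    rw [show b⁻¹ * a * (a⁻¹ * z * a) * (b⁻¹ * a)⁻¹ = b⁻¹ * z * b by group] at this
    exact this
  induction K using WellFoundedLT.induction with
  | _ K ih =>
  by_contra hK1
  push Not at hK1
  have hKne : K ≠ ⊥ := fun e => hK1 1 (e ▸ bot_le)
  have hsub : ∀ M : Subgroup K, M ≠ ⊤ → ∃ a, M.map K.subtype ≤ H.map (MulAut.conj a).toMonoidHom := by
    intro M hM
    have hlt : M.map K.subtype < K := lt_of_le_of_ne (Subgroup.map_subtype_le M) fun e => hM <| by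
      rw [← Subgroup.map_subtype_inj, e, ← MonoidHom.range_eq_map, Subgroup.range_subtype]
    exact ih _ hlt fun q hq hd => hK q hq (hd.trans (Subgroup.card_dvd_of_le hlt.le))
  -- two maximal subgroups in the same conjugate coincide
  have hmax : ∀ M M' : Subgroup K, IsCoatom M → IsCoatom M' → M ≠ M' → ∀ x ∈ M, x ∈ M' → x = 1 := by
    intro M M' hM hM' hne x hx hx'
    by_contra hx1
    obtain ⟨a, ha⟩ := hsub M hM.1
    obtain ⟨b, hb⟩ := hsub M' hM'.1
    have e := hshare a b x (fun e => hx1 (Subtype.ext e)) (ha ⟨x, hx, rfl⟩) (hb ⟨x, hx', rfl⟩)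
    have htop : M ⊔ M' = ⊤ := hM.2 _ (lt_of_le_of_ne le_sup_left fun e' => hne (by
      rcases eq_or_lt_of_le (show M' ≤ M from e' ▸ le_sup_right) with e2 | e2
      · exact e2.symm
      · exact absurd (hM'.2 M e2) hM.1))
    refine hK1 a ?_
    have : (M ⊔ M').map K.subtype ≤ H.map (MulAut.conj a).toMonoidHom := by
      rw [Subgroup.map_sup]; exact sup_le ha (e ▸ hb)
    rwa [htop, ← MonoidHom.range_eq_map, Subgroup.range_subtype] at this
  -- no maximal subgroup is normal
  have hnn : ∀ M : Subgroup K, IsCoatom M → ¬ M.Normal := by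
    intro M hM hMn
    rcases eq_or_ne M ⊥ with hbot | hMne
    · -- prime order
      subst hbot
      obtain ⟨x, hx, hx1⟩ := (Subgroup.bot_or_exists_ne_one K).resolve_left hKne
      obtain ⟨p, hp, hpo⟩ := Nat.exists_prime_and_dvd (fun e => hx1 (orderOf_eq_one_iff.mp e))
      have : Fact p.Prime := ⟨hp⟩
      have hpH : ¬ p ∣ H.index := fun hd => hp.ne_one (Nat.eq_one_of_dvd_coprimes hHall
        (hK p hp (hpo.trans (Subgroup.orderOf_dvd_natCard K hx))) hd)
      obtain ⟨P, hP⟩ := CfsgLib.exists_sylow_le_of_not_dvd_index H hpH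
      have hKp : IsPGroup p K := by
        obtain ⟨y, hy⟩ := exists_prime_orderOf_dvd_card' p (hpo.trans (Subgroup.orderOf_dvd_natCard K hx))
        have hyt : Subgroup.zpowers y = ⊤ := hM.2 _ (bot_lt_iff_ne_bot.mpr (by
          rw [Ne, Subgroup.zpowers_eq_bot]; rintro rfl
          rw [orderOf_one] at hy; exact hp.ne_one hy.symm))
        refine IsPGroup.of_card (n := 1) ?_
        rw [pow_one, ← hy, ← Nat.card_zpowers, hyt]
        exact (Nat.card_congr Subgroup.topEquiv.toEquiv).symm
      obtain ⟨Q, hQ⟩ := hKp.exists_le_sylow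
      obtain ⟨g, rfl⟩ := MulAction.exists_smul_eq G P Q
      refine hK1 g fun z hz => ?_
      have h1 := hQ hz
      rw [Sylow.coe_subgroup_smul, Subgroup.mem_pointwise_smul_iff_inv_smul_mem, MulAut.smul_def,
        MulAut.inv_def, MulAut.conj_symm_apply] at h1
      exact (hmap g z).mpr (hP h1)
    · obtain ⟨a, ha⟩ := hsub M hM.1
      obtain ⟨x, hx, hx1⟩ := (Subgroup.bot_or_exists_ne_one M).resolve_left hMne
      set H' := H.map (MulAut.conj a).toMonoidHom with hH'
      have hKN : K ≤ Subgroup.normalizer (H' : Set G) := by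
        intro k hk
        have hy := ha ⟨_, hMn.conj_mem x hx ⟨k, hk⟩, rfl⟩
        have e := hshare a (k * a) (k * (x : G) * k⁻¹)
          (fun e => hx1 (Subtype.ext (conj_eq_one_iff.mp e))) hy
          ((hmap (k * a) _).mpr (by
            have := (hmap a (x : G)).mp (ha ⟨x, hx, rfl⟩)
            simpa [mul_assoc] using this))
        rw [Subgroup.mem_normalizer_iff]
        intro z
        conv_rhs => rw [hH', e, hmap]
        rw [hH', hmap]
        simp [mul_assoc]
      refine hK1 a (Subgroup.relIndex_eq_one.mp ?_)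
      have hnorm : (H'.subgroupOf (Subgroup.normalizer (H' : Set G))).Normal := Subgroup.normal_in_normalizer
      have h1 : H'.relIndex K ∣ H'.relIndex (Subgroup.normalizer (H' : Set G)) := by
        rw [← Subgroup.relIndex_subgroupOf hKN]
        exact Subgroup.relIndex_dvd_index_of_normal _ _
      have h2 : H'.relIndex K ∣ H.index := by
        refine h1.trans ?_
        rw [← Subgroup.index_map_equiv H (MulAut.conj a)]
        exact Subgroup.relIndex_dvd_index_of_le Subgroup.le_normalizer
      have h3 : H'.relIndex K ∣ Nat.card K := Subgroup.index_dvd_card _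
      by_contra hne
      obtain ⟨q, hq, hqd⟩ := Nat.exists_prime_and_dvd hne
      exact hq.ne_one (Nat.eq_one_of_dvd_coprimes hHall (hK q hq (hqd.trans h3)) (hqd.trans h2))
  exact not_cover_of_trivial_inter hmax hnn hKne

end Cfsg.Agent.S4116
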