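import Cfsg.Statements.S4115
import Mathlib
import Cfsg.Agent.S4116
import Cfsg.Agent.Lib.TIHall.Basic
import Cfsg.Agent.Lib.TIHall.FixedPoints
import Cfsg.Agent.Lib.TIHall.Complement
import Cfsg.Agent.Lib.CharTheory.BrauerSuzuki
-- import your own Cfsg.Agent.* helpers here

set_option autoImplicit false
universe u
open Cfsg

namespace Cfsg.Agent.S4115

open scoped Pointwise

/-- Let G be a finite group and H a subgroup that meets each of its conjugates by elements outside N_G(H) trivially and whose order is coprime to its index in N_G(H). Then H has a normal complement in N_G(H) if and only if H has a normal complement in G. Moreover, if H is not normal in G and has a normal complement in N_G(H), then H is isomorphic to a Frobenius complement of some finite Frobenius group. -/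
theorem result {G : Type u} [Group G] [Finite G] (H : Subgroup G)
    (hTI : Cfsg.IsTISubset (H : Set G)) (hHall : (Nat.card H).Coprime (H.subgroupOf (Subgroup.normalizer (H : Set G))).index) :
    ((∃ K : Subgroup (Subgroup.normalizer (H : Set G)), K.Normal ∧ K.IsComplement' (H.subgroupOf (Subgroup.normalizer (H : Set G)))) ↔
      (∃ N : Subgroup G, N.Normal ∧ N.IsComplement' H)) ∧
    (¬ H.Normal → (∃ K : Subgroup (Subgroup.normalizer (H : Set G)), K.Normal ∧ K.IsComplement' (H.subgroupOf (Subgroup.normalizer (H : Set G)))) →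
      ∃ (F : Type u) (_ : Group F) (_ : Finite F) (C : Subgroup F), Cfsg.IsFrobeniusComplement C ∧ Nonempty (H ≃* C)) := by
  set N := Subgroup.normalizer (H : Set G) with hN
  have hHN : H ≤ N := Subgroup.le_normalizer
  have hHn : (H.subgroupOf N).Normal := Subgroup.normal_in_normalizer
  have hHidx := CfsgLib.TIHall.coprime_index hTI hHall
  have hpi : ∀ E : Subgroup G, Nat.card E ∣ Nat.card H → ∃ g : G, E ≤ H.map (MulAut.conj g).toMonoidHom :=
    fun E hE => Cfsg.Agent.S4116.result H hHidx hTI E fun q _ hq => hq.trans hE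
  -- the complement in `N` centralises `H`
  have hcent : ∀ K : Subgroup N, K.Normal → K.IsComplement' (H.subgroupOf N) →
      ∀ k ∈ K, ∀ h ∈ H, (k : G) * h = h * (k : G) := fun K hKn hK k hk h hh =>
    congrArg Subtype.val (Subgroup.commute_of_normal_of_disjoint _ _ hKn hHn hK.disjoint k ⟨h, hHN hh⟩ hk hh).eq
  have hforward : (∃ K : Subgroup N, K.Normal ∧ K.IsComplement' (H.subgroupOf N)) →
      ∃ M : Subgroup G, M.Normal ∧ M.IsComplement' H := by
    rintro ⟨K, hKn, hK⟩
    have hfus : ∀ x ∈ H, ∀ y ∈ H, IsConj x y → ∃ h ∈ H, h * x * h⁻¹ = y := by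
      intro x hx y hy hxy
      by_cases hx1 : x = 1
      · subst hx1
        exact ⟨1, H.one_mem, by rw [isConj_one_right.mp hxy]; group⟩
      obtain ⟨g, hg⟩ := isConj_iff.mp hxy
      have hgN : g ∈ N := by
        by_contra hgN
        exact hx1 (hTI g hgN x hx (hg ▸ hy))
      have hmem : (⟨g, hgN⟩ : N) ∈ K ⊔ H.subgroupOf N := by rw [hK.sup_eq_top]; trivial
      obtain ⟨k, hk, h, hh, hkh⟩ := Subgroup.mem_sup_of_normal_left.mp hmem
      refine ⟨(h : G), hh, ?_⟩
      have hg' : g = (k : G) * (h : G) := congrArg Subtype.val hkh.symm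
      have hxH : (h : G) * x * (h : G)⁻¹ ∈ H := H.mul_mem (H.mul_mem hh hx) (H.inv_mem hh)
      rw [← hg, hg']
      calc (h : G) * x * (h : G)⁻¹ = ((h : G) * x * (h : G)⁻¹ * (k : G)) * (k : G)⁻¹ := by group
        _ = ((k : G) * ((h : G) * x * (h : G)⁻¹)) * (k : G)⁻¹ := by rw [hcent K hKn hK k hk _ hxH]
        _ = _ := by group
    have helem : ∀ (E : Subgroup G) (p : ℕ), p.Prime → Cfsg.IsElementary p E →
        Nat.card E ∣ Nat.card H → ∃ g : G, E.map (MulAut.conj g).toMonoidHom ≤ H := by
      intro E p _ _ hE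
      obtain ⟨g, hg⟩ := hpi E hE
      refine ⟨g⁻¹, ?_⟩
      rintro _ ⟨e, he, rfl⟩
      obtain ⟨h, hh, rfl⟩ := hg he
      simpa [mul_assoc] using hh
    obtain ⟨M, hMn, hsup, hinf⟩ := CfsgLib.CharTheory.brauer_suzuki_complement H hHidx hfus helem
    refine ⟨M, hMn, Subgroup.isComplement'_of_disjoint_and_mul_eq_univ (disjoint_iff.mpr hinf) ?_⟩
    rw [← Subgroup.normal_mul, hsup, Subgroup.coe_top]
  refine ⟨⟨hforward, ?_⟩, ?_⟩
  · rintro ⟨M, hMn, hM⟩
    refine ⟨M.subgroupOf N, inferInstance, Subgroup.isComplement'_of_disjoint_and_mul_eq_univ ?_ ?_⟩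
    · rw [Subgroup.disjoint_def]
      exact fun {x} hx hx' => Subtype.ext (Subgroup.disjoint_def.mp hM.disjoint hx hx')
    · rw [Set.eq_univ_iff_forall]
      intro x
      have hmem : (x : G) ∈ M ⊔ H := by rw [hM.sup_eq_top]; trivial
      obtain ⟨m, hm, h, hh, hmh⟩ := Subgroup.mem_sup_of_normal_left.mp hmem
      have hmN : m ∈ N := by
        rw [show m = (x : G) * h⁻¹ by rw [← hmh, mul_inv_cancel_right]]
        exact N.mul_mem x.2 (N.inv_mem (hHN hh))
      exact ⟨⟨m, hmN⟩, hm, ⟨h, hHN hh⟩, hh, Subtype.ext hmh⟩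
  intro hnn hex
  obtain ⟨M, hMn, hM⟩ := hforward hex
  obtain ⟨K, hKn, hK⟩ := hex
  set C := M ⊓ Subgroup.centralizer (H : Set G) with hC
  have hMc : Nat.card M = H.index := hM.index_eq_card.symm
  have hcop : (Nat.card H).Coprime (Nat.card M) := hMc ▸ hHidx
  -- fixed points of any non-trivial element are fixed by `H`
  have hfix : ∀ h ∈ H, h ≠ 1 → ∀ v ∈ M, h * v = v * h → v ∈ C := by
    intro h hh hh1 v hv hhv
    have hvN : v ∈ N := CfsgLib.TIHall.mem_normalizer_of_commute hTI hh hh1 hhv.symm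
    have hmem : (⟨v, hvN⟩ : N) ∈ K ⊔ H.subgroupOf N := by rw [hK.sup_eq_top]; trivial
    obtain ⟨k, hk, y, hy, hky⟩ := Subgroup.mem_sup_of_normal_left.mp hmem
    refine ⟨hv, ?_⟩
    -- `k` has order prime to `|H|`, hence lies in `M`
    have hkM : (k : G) ∈ M := by
      have h1 : (QuotientGroup.mk' M (k : G)) = 1 := by
        rw [← orderOf_eq_one_iff]
        have hd1 : orderOf (QuotientGroup.mk' M (k : G)) ∣ Nat.card H := by
          rw [← hM.symm.index_eq_card]; exact orderOf_dvd_natCard _
        have hd2 : orderOf (QuotientGroup.mk' M (k : G)) ∣ (H.subgroupOf N).index := by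
          refine (orderOf_map_dvd _ _).trans ?_
          rw [Subgroup.orderOf_coe, hK.index_eq_card]
          exact Subgroup.orderOf_dvd_natCard _ hk
        exact Nat.eq_one_of_dvd_coprimes hHall hd1 hd2
      exact (QuotientGroup.eq_one_iff _).mp h1
    have hvky : v = (k : G) * (y : G) := congrArg Subtype.val hky.symm
    have hy1 : (y : G) = 1 := Subgroup.disjoint_def.mp hM.disjoint (by
      simpa [hvky] using M.mul_mem (M.inv_mem hkM) hv) hy
    show v ∈ Subgroup.centralizer (H : Set G)
    rw [hvky, hy1, mul_one, Subgroup.mem_centralizer_iff]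
    exact fun z hz => (hcent K hKn hK k hk z hz).symm
  have hH1 : H ≠ ⊥ := fun e => hnn (by rw [e]; infer_instance)
  have hCne : ¬ M ≤ C := by
    intro hle
    apply hnn
    rw [← Subgroup.normalizer_eq_top_iff, eq_top_iff, ← hM.sup_eq_top]
    exact sup_le ((hle.trans inf_le_right).trans (Subgroup.centralizer_le_normalizer _)) hHN
  -- some invariant Sylow subgroup of `M` is not centralised
  obtain ⟨p, hp, P, hPM, hPH, hPC, hPp⟩ : ∃ (p : ℕ) (_ : p.Prime) (P : Subgroup G),
      P ≤ M ∧ H ≤ Subgroup.normalizer (P : Set G) ∧ ¬ P ≤ C ∧ IsPGroup p P := by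
    by_contra hno
    push Not at hno
    apply hCne
    refine (Subgroup.eq_of_le_of_card_ge (inf_le_left : C ≤ M) (Nat.le_of_dvd Nat.card_pos ?_)).ge
    refine (Nat.dvd_iff_prime_pow_dvd_dvd _ _).mpr fun p k hp hk => ?_
    have := Fact.mk hp
    obtain ⟨P₀⟩ : Nonempty (Sylow p M) := inferInstance
    set P₁ := (P₀ : Subgroup M).map M.subtype with hP₁
    have hsup := Sylow.normalizer_sup_eq_top P₀
    set T := Subgroup.normalizer (P₁ : Set G) with hT
    -- a complement of `T ⊓ M` in `T`
    have hTidx : (M.subgroupOf T).index = Nat.card H := by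
      rw [← hM.symm.index_eq_card]
      change M.relIndex T = M.index
      rw [← Subgroup.relIndex_sup_right T M, hsup, Subgroup.relIndex_top_right]
    obtain ⟨H₁, hH₁⟩ := Subgroup.exists_right_complement'_of_coprime (N := M.subgroupOf T) (by
      rw [hTidx]
      exact hcop.symm.coprime_dvd_left (Subgroup.card_comap_dvd_of_injective M T.subtype T.subtype_injective))
    have hH₁c : Nat.card (H₁.map T.subtype) = Nat.card H := by
      rw [Subgroup.card_map_of_injective T.subtype_injective, ← hH₁.symm.index_eq_card, hTidx]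
    obtain ⟨g, hg⟩ := hpi _ hH₁c.dvd
    have hgeq : H.map (MulAut.conj g).toMonoidHom = H₁.map T.subtype :=
      (Subgroup.eq_of_le_of_card_ge hg (by
        rw [hH₁c, Subgroup.card_map_of_injective (MulAut.conj g).injective])).symm
    set P := P₁.map (MulAut.conj g⁻¹).toMonoidHom with hP
    have hPH : H ≤ Subgroup.normalizer (P : Set G) := by
      intro h hh
      have h1 : g * h * g⁻¹ ∈ T := by
        obtain ⟨t, -, ht⟩ : g * h * g⁻¹ ∈ H₁.map T.subtype :=
          hgeq ▸ ⟨h, hh, rfl⟩
        exact ht ▸ t.2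
      rw [hP, ← Subgroup.map_equiv_normalizer_eq]
      exact ⟨g * h * g⁻¹, h1, by simp [mul_assoc]⟩
    have hPM : P ≤ M := by
      rintro _ ⟨_, ⟨x, -, rfl⟩, rfl⟩
      exact hMn.conj_mem _ x.2 g⁻¹
    have hPC : P ≤ C := by
      by_contra hc
      exact hno p hp P hPM hPH hc ((P₀.isPGroup'.map _).map _)
    refine dvd_trans ?_ (Subgroup.card_dvd_of_le hPC)
    rw [hP, Subgroup.card_map_of_injective (MulAut.conj g⁻¹).injective, hP₁,
      Subgroup.card_map_of_injective M.subtype_injective, P₀.card_eq_multiplicity]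
    exact Nat.pow_dvd_pow p ((Nat.Prime.pow_dvd_iff_le_factorization hp Nat.card_pos.ne').mp hk)
  have := Fact.mk hp
  set D := P ⊓ C with hD
  have hDH : H ≤ Subgroup.normalizer (D : Set G) := by
    refine CfsgLib.TIHall.le_normalizer_of_conj_mem fun h hh x hx => ?_
    rw [hx.2.2 h hh, mul_inv_cancel_right]; exact hx
  set V := P ⊓ Subgroup.normalizer (D : Set G) with hV
  have hDV : D < V := by
    have hnc := Group.normalizerCondition_of_isNilpotent (h := hPp.isNilpotent) (D.subgroupOf P)
      (lt_top_iff_ne_top.mpr fun e => hPC ((Subgroup.subgroupOf_eq_top.mp e).trans inf_le_right))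
    refine lt_of_le_not_ge (le_inf inf_le_left Subgroup.le_normalizer) fun hle => hnc.not_ge ?_
    intro y hy
    have hyN : (y : G) ∈ Subgroup.normalizer (D : Set G) := by
      rw [Subgroup.mem_normalizer_iff]
      intro x
      constructor
      · intro hx; exact (Subgroup.mem_normalizer_iff.mp hy ⟨x, hx.1⟩).mp hx
      · intro hx
        have hxP : x ∈ P := by simpa [mul_assoc] using P.mul_mem (P.mul_mem (P.inv_mem y.2) hx.1) y.2
        exact (Subgroup.mem_normalizer_iff.mp hy ⟨x, hxP⟩).mpr hx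
    exact hle ⟨y.2, hyN⟩
  refine CfsgLib.TIHall.exists_frobenius_of_section H V D hH1 hDV inf_le_right hDH ?_
    (hcop.coprime_dvd_right (Subgroup.card_dvd_of_le (inf_le_left.trans hPM)))
    fun h hh hh1 v hv hc => ⟨hv.1, hfix h hh hh1 v (hPM hv.1) hc⟩
  refine CfsgLib.TIHall.le_normalizer_of_conj_mem fun h hh x hx => ⟨(Subgroup.mem_normalizer_iff.mp (hPH hh) x).mp hx.1, ?_⟩
  show h * x * h⁻¹ ∈ Subgroup.normalizer (D : Set G)
  exact (Subgroup.normalizer (D : Set G)).mul_mem ((Subgroup.normalizer (D : Set G)).mul_mem (hDH hh) hx.2) ((Subgroup.normalizer (D : Set G)).inv_mem (hDH hh))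

end Cfsg.Agent.S4115
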