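import Cfsg.Statements.S4117
import Mathlib
import Cfsg.Agent.Lib.TIHall.ZGroupAction
-- import your own Cfsg.Agent.* helpers here

set_option autoImplicit false
open Cfsg

namespace Cfsg.Agent.S4117

open scoped Pointwise commutatorElement

/-- Let A be a finite group acting on the finite group G by automorphisms with the orders of A and G coprime, and suppose every Sylow subgroup of G is cyclic. Then the fixed-point subgroup C_G(A) is a Hall subgroup of G (its order is coprime to its index), the subgroup [G, A] generated by the elements g⁻¹·a(g) is cyclic and normal with [G, A] ∩ C_G(A) = 1 and [G, A]·C_G(A) = G. -/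
theorem result {G A : Type*} [Group G] [Finite G] [Group A] [Finite A]
    [MulDistribMulAction A G] (hcop : (Nat.card A).Coprime (Nat.card G))
    (hcyc : ∀ (p : ℕ) [Fact p.Prime] (P : Sylow p G), IsCyclic (P : Subgroup G)) :
    (Nat.card (MulAction.fixedPoints A G : Set G)).Coprime (Nat.card G / Nat.card (MulAction.fixedPoints A G : Set G)) ∧
    IsCyclic (Subgroup.closure {y : G | ∃ (a : A) (g : G), y = g⁻¹ * a • g}) ∧
    (Subgroup.closure {y : G | ∃ (a : A) (g : G), y = g⁻¹ * a • g}).Normal ∧
    (Subgroup.closure {y : G | ∃ (a : A) (g : G), y = g⁻¹ * a • g} : Set G) ∩ MulAction.fixedPoints A G = {1} ∧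
    Subgroup.closure {y : G | ∃ (a : A) (g : G), y = g⁻¹ * a • g} ⊔ Subgroup.closure (MulAction.fixedPoints A G) = ⊤ := by
  let S := G ⋊[MulDistribMulAction.toMulAut A G] A
  have : Finite S := Finite.of_equiv _ SemidirectProduct.equivProd.symm
  let i : G →* S := SemidirectProduct.inl
  let j : A →* S := SemidirectProduct.inr
  have hi : Function.Injective i := SemidirectProduct.inl_injective
  set H : Subgroup S := i.range with hHdef
  set Q : Subgroup S := j.range with hQdef
  have hH : IsZGroup G := ⟨fun p hp P => by have := Fact.mk hp; exact hcyc p P⟩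
  have : IsZGroup H := IsZGroup.of_surjective (MonoidHom.rangeRestrict_surjective i)
  have hact : ∀ (a : A) (g : G), j a * i g * (j a)⁻¹ = i (a • g) := fun a g => by
    rw [← map_inv]; exact (SemidirectProduct.inl_aut a g).symm
  have hQH : Q ≤ Subgroup.normalizer (H : Set S) := by
    refine CfsgLib.TIHall.le_normalizer_of_conj_mem ?_
    rintro _ ⟨a, rfl⟩ _ ⟨g, rfl⟩
    exact ⟨a • g, (hact a g).symm⟩
  have hHc : Nat.card H = Nat.card G := Nat.card_congr (MonoidHom.ofInjective hi).toEquiv.symm
  have hQc : Nat.card Q = Nat.card A :=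
    Nat.card_congr (MonoidHom.ofInjective (f := j) SemidirectProduct.inr_injective).toEquiv.symm
  have hc : (Nat.card Q).Coprime (Nat.card H) := by rw [hQc, hHc]; exact hcop
  set C : Subgroup G := (H ⊓ Subgroup.centralizer (Q : Set S)).comap i with hCdef
  set D := Subgroup.closure {y : G | ∃ (a : A) (g : G), y = g⁻¹ * a • g} with hDdef
  have hfix : MulAction.fixedPoints A G = (C : Set G) := by
    ext g
    constructor
    · intro hg
      refine ⟨⟨g, rfl⟩, ?_⟩
      rintro _ ⟨a, rfl⟩
      rw [← mul_inv_eq_iff_eq_mul, hact, hg a]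
    · intro hg a
      apply hi
      rw [← hact, hg.2 (j a) ⟨a, rfl⟩, mul_inv_cancel_right]
  have hCi : C.map i = H ⊓ Subgroup.centralizer (Q : Set S) := Subgroup.map_comap_eq_self inf_le_left
  have hD : D.map i = ⁅H, Q⁆ := by
    refine le_antisymm ?_ ?_
    · rw [hDdef, MonoidHom.map_closure, Subgroup.closure_le]
      rintro _ ⟨_, ⟨a, g, rfl⟩, rfl⟩
      have e : i (g⁻¹ * a • g) = ⁅i g⁻¹, j a⁆ := by
        rw [commutatorElement_def, map_mul, ← hact, map_inv, inv_inv]; simp only [mul_assoc]
      rw [e]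
      exact Subgroup.commutator_mem_commutator ⟨g⁻¹, rfl⟩ ⟨a, rfl⟩
    · rw [Subgroup.commutator_le]
      rintro _ ⟨g, rfl⟩ _ ⟨a, rfl⟩
      refine ⟨g⁻¹⁻¹ * a • g⁻¹, Subgroup.subset_closure ⟨a, g⁻¹, rfl⟩, ?_⟩
      rw [map_mul, ← hact, inv_inv, map_inv, commutatorElement_def]; simp only [mul_assoc]
  have hDn : H ≤ Subgroup.normalizer ((D.map i : Subgroup S) : Set S) :=
    hD ▸ CfsgLib.left_le_normalizer_commutator Q H
  refine ⟨?_, ?_, ?_, ?_, ?_⟩
  · rw [hfix]
    show (Nat.card C).Coprime (Nat.card G / Nat.card C)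
    have h := CfsgLib.TIHall.fixed_coprime_relIndex hQH hc
    rw [← hCi, hHdef, MonoidHom.range_eq_map i, ← Subgroup.relIndex_comap, Subgroup.comap_map_eq_self_of_injective hi,
      Subgroup.relIndex_top_right, Subgroup.card_map_of_injective hi] at h
    rwa [← Subgroup.card_mul_index C, Nat.mul_div_cancel_left _ Nat.card_pos]
  · have := CfsgLib.TIHall.isCyclic_commutator_action hQH hc
    have e := Subgroup.equivMapOfInjective D i hi
    have : IsCyclic (D.map i) := hD ▸ this
    exact isCyclic_of_surjective _ e.symm.surjective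
  · refine ⟨fun x hx g => ?_⟩
    have h1 := (Subgroup.mem_normalizer_iff.mp (hDn ⟨g, rfl⟩) (i x)).mp ⟨x, hx, rfl⟩
    rw [← map_inv, ← map_mul, ← map_mul] at h1
    exact (Subgroup.mem_map_iff_mem hi).mp h1
  · refine Set.eq_singleton_iff_unique_mem.mpr ⟨⟨one_mem _, fun a => smul_one a⟩, fun x hx => ?_⟩
    have h1 : i x ∈ (H ⊓ Subgroup.centralizer (Q : Set S)) ⊓ ⁅H, Q⁆ :=
      ⟨hCi ▸ Subgroup.mem_map_of_mem i (show x ∈ (C : Set G) from hfix ▸ hx.2), hD ▸ Subgroup.mem_map_of_mem i hx.1⟩
    rw [CfsgLib.TIHall.fixed_inf_commutator hQH hc, Subgroup.mem_bot] at h1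
    exact hi (h1.trans (map_one i).symm)
  · rw [hfix, Subgroup.closure_eq]
    apply Subgroup.map_injective hi
    rw [Subgroup.map_sup, hD, hCi, CfsgLib.coprime_commutator_sup hQH hc (Or.inr inferInstance),
      hHdef, MonoidHom.range_eq_map]

end Cfsg.Agent.S4117
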