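import Cfsg.Statements.S4118
import Mathlib
import Cfsg.Agent.Lib.TIHall.Basic
import Cfsg.Agent.Lib.TIHall.FixedPoints
import Cfsg.Agent.Lib.TIHall.Complement
import Cfsg.Agent.Lib.Coprime
import Cfsg.Agent.Lib.ZassenhausFC.Small
-- import your own Cfsg.Agent.* helpers here

set_option autoImplicit false
open Cfsg

namespace Cfsg.Agent.S4118

universe u

theorem exists_complement {G : Type u} [Group G] [Finite G] {H O : Subgroup G} (hTI : Cfsg.IsTISubset (H : Set G))
    (hOn : O.Normal) (hcop : (Nat.card O).Coprime (Nat.card H)) (hOsol : Group.IsSolvable O) (hH1 : H ≠ ⊥)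
    (hnC : ¬ O ≤ Subgroup.centralizer (H : Set G)) :
    ∃ (F : Type u) (_ : Group F) (_ : Finite F) (C : Subgroup F),
      Cfsg.IsFrobeniusComplement C ∧ Nonempty (H ≃* C) := by
  classical
  have hfix : ∀ h ∈ H, h ≠ 1 → ∀ v ∈ O, h * v = v * h → v ∈ Subgroup.centralizer (H : Set G) := by
    intro h hh h1 v hv hhv
    have hvN := CfsgLib.TIHall.mem_normalizer_of_commute (H := H) hTI hh h1 hhv.symm
    rw [Subgroup.mem_centralizer_iff]
    intro z hz
    have hd : (v * z * v⁻¹) * z⁻¹ ∈ O ⊓ H := ⟨by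
      have e : v * z * v⁻¹ * z⁻¹ = v * (z * v⁻¹ * z⁻¹) := by group
      rw [e]; exact O.mul_mem hv (hOn.conj_mem _ (O.inv_mem hv) z),
      H.mul_mem ((Subgroup.mem_normalizer_iff.mp hvN z).mp hz) (H.inv_mem hz)⟩
    rw [disjoint_iff.mp (Subgroup.disjoint_of_coprime_natCard hcop), Subgroup.mem_bot] at hd
    exact (mul_inv_eq_iff_eq_mul.mp (mul_inv_eq_one.mp hd)).symm
  have hHO : H ≤ Subgroup.normalizer (O : Set G) := by
    rw [Subgroup.normalizer_eq_top_iff.mpr hOn]; exact le_top
  obtain ⟨p, hp, P, hPO, hPH, hPC, hPp⟩ : ∃ (p : ℕ) (_ : p.Prime) (P : Subgroup G),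
      P ≤ O ∧ H ≤ Subgroup.normalizer (P : Set G) ∧ ¬ P ≤ Subgroup.centralizer (H : Set G) ∧ IsPGroup p P := by
    by_contra hno
    push Not at hno
    refine hnC ?_
    have hle : O ⊓ Subgroup.centralizer (H : Set G) = O := by
      refine Subgroup.eq_of_le_of_card_ge inf_le_left (Nat.le_of_dvd Nat.card_pos ?_)
      refine (Nat.dvd_iff_prime_pow_dvd_dvd _ _).mpr fun p k hp hk => ?_
      have := Fact.mk hp
      obtain ⟨P, hP⟩ := CfsgLib.coprime_exists_invariant_sylow hHO hcop.symm (Or.inr hOsol) p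
      have hPp := P.isPGroup'.map O.subtype
      have hPle : (P : Subgroup O).map O.subtype ≤ O ⊓ Subgroup.centralizer (H : Set G) :=
        le_inf (Subgroup.map_subtype_le _) (by
          by_contra h; exact hno p hp _ (Subgroup.map_subtype_le _) hP h hPp)
      refine dvd_trans ?_ (Subgroup.card_dvd_of_le hPle)
      rw [Subgroup.card_map_of_injective O.subtype_injective, P.card_eq_multiplicity]
      exact Nat.pow_dvd_pow p ((Nat.Prime.pow_dvd_iff_le_factorization hp Nat.card_pos.ne').mp hk)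
    exact hle ▸ inf_le_right
  have := Fact.mk hp
  obtain ⟨D, hD⟩ : ∃ D, D = P ⊓ Subgroup.centralizer (H : Set G) := ⟨_, rfl⟩
  obtain ⟨V, hV⟩ : ∃ V, V = P ⊓ Subgroup.normalizer (D : Set G) := ⟨_, rfl⟩
  have hDH : H ≤ Subgroup.normalizer (D : Set G) := by
    refine CfsgLib.TIHall.le_normalizer_of_conj_mem fun h hh x hx => ?_
    rw [hD] at hx ⊢
    rw [(Subgroup.mem_centralizer_iff.mp hx.2 h hh), mul_inv_cancel_right]; exact hx
  have hDP : D ≤ P := hD ▸ inf_le_left
  have hDV : D < V := by
    have hnc := Group.normalizerCondition_of_isNilpotent (h := hPp.isNilpotent) (D.subgroupOf P)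
      (lt_top_iff_ne_top.mpr fun e => hPC ((hD ▸ Subgroup.subgroupOf_eq_top.mp e).trans inf_le_right))
    refine lt_of_le_not_ge (hV ▸ le_inf hDP Subgroup.le_normalizer) fun hle => hnc.not_ge ?_
    intro y hy
    have hyN : (y : G) ∈ Subgroup.normalizer (D : Set G) := by
      rw [Subgroup.mem_normalizer_iff]
      intro x
      constructor
      · intro hx; exact (Subgroup.mem_normalizer_iff.mp hy ⟨x, hDP hx⟩).mp hx
      · intro hx
        have hxP : x ∈ P := by simpa [mul_assoc] using P.mul_mem (P.mul_mem (P.inv_mem y.2) (hDP hx)) y.2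
        exact (Subgroup.mem_normalizer_iff.mp hy ⟨x, hxP⟩).mpr hx
    exact hle (hV ▸ (⟨y.2, hyN⟩ : (y : G) ∈ P ⊓ Subgroup.normalizer (D : Set G)))
  refine CfsgLib.TIHall.exists_frobenius_of_section H V D hH1 hDV (hV ▸ inf_le_right) hDH ?_
    (hcop.symm.coprime_dvd_right (Subgroup.card_dvd_of_le ((hV ▸ inf_le_left : V ≤ P).trans hPO))) ?_
  · refine CfsgLib.TIHall.le_normalizer_of_conj_mem fun h hh x hx => ?_
    rw [hV] at hx ⊢
    exact ⟨(Subgroup.mem_normalizer_iff.mp (hPH hh) x).mp hx.1,
      (Subgroup.normalizer (D : Set G)).mul_mem ((Subgroup.normalizer (D : Set G)).mul_mem (hDH hh) hx.2)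
        ((Subgroup.normalizer (D : Set G)).inv_mem (hDH hh))⟩
  · intro h hh h1 v hv hhv
    rw [hV] at hv
    rw [hD]
    exact ⟨hv.1, hfix h hh h1 v (hPO hv.1) hhv⟩

theorem solvable_of {G : Type u} [Group G] [Finite G] {H O : Subgroup G} (hTI : Cfsg.IsTISubset (H : Set G))
    (hOn : O.Normal) (hcop : (Nat.card O).Coprime (Nat.card H)) (hmax : ∀ K : Subgroup G, K.Normal → (Nat.card K).Coprime (Nat.card H) → K ≤ O)
    (hsup : O ⊔ Subgroup.normalizer (H : Set G) = ⊤) (hnn : ¬ H.Normal)
    (hHall : (Nat.card H).Coprime (H.subgroupOf (Subgroup.normalizer (H : Set G))).index)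
    (hOsol : Group.IsSolvable O)
    (hno : ∀ K : Subgroup G, K ≤ H → ¬ Nonempty (K ≃* Matrix.SpecialLinearGroup (Fin 2) (ZMod 5))) :
    Group.IsSolvable G := by
  classical
  obtain ⟨N, hN⟩ : ∃ N, N = Subgroup.normalizer (H : Set G) := ⟨_, rfl⟩
  rw [← hN] at hsup hHall
  have hH1 : H ≠ ⊥ := fun e => hnn (by rw [e]; infer_instance)
  have hnC : ¬ O ≤ Subgroup.centralizer (H : Set G) := fun hle => hnn (by
    rw [← Subgroup.normalizer_eq_top_iff, eq_top_iff, ← hsup]
    exact sup_le (hle.trans (Subgroup.centralizer_le_normalizer _)) hN.le)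
  obtain ⟨F, _, _, C, hC, ⟨e⟩⟩ := exists_complement hTI hOn hcop hOsol hH1 hnC
  have hHsol : Group.IsSolvable H := CfsgLib.ZasFC.isSolvable_of_no_sl25
    (CfsgLib.ZasFC.hasFunctional_of_complement C hC e) fun K ⟨eK⟩ => hno (K.map H.subtype) (Subgroup.map_subtype_le K)
      ⟨(K.equivMapOfInjective _ H.subtype_injective).symm.trans eK⟩
  haveI hAut : Group.IsSolvable (MulAut H) := CfsgLib.ZasFC.aut_solvable_of_complement C hC e hHsol
  have hHN : H ≤ N := hN ▸ Subgroup.le_normalizer
  haveI hHn : (H.subgroupOf N).Normal := by rw [hN]; exact Subgroup.normal_in_normalizer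
  obtain ⟨H', hH'⟩ : ∃ H', H' = H.subgroupOf N := ⟨_, rfl⟩
  haveI hH'n : H'.Normal := hH' ▸ hHn
  have eH : H' ≃* H := hH' ▸ Subgroup.subgroupOfEquivOfLe hHN
  haveI : Group.IsSolvable H' := Group.isSolvable_of_isSolvable_injective (f := eH.toMonoidHom) eH.injective
  haveI : Group.IsSolvable (MulAut H') :=
    Group.isSolvable_of_isSolvable_injective (f := (MulAut.congr eH).toMonoidHom) (MulAut.congr eH).injective
  obtain ⟨r, hr⟩ : ∃ r : N →* MulAut H', r = MulAut.conjNormal := ⟨_, rfl⟩
  have hX : ∀ x ∈ r.ker, ∀ y ∈ H', y * x = x * y := by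
    intro x hx y hy
    rw [hr, MonoidHom.mem_ker] at hx
    have h1 := congrArg Subtype.val (DFunLike.congr_fun hx (⟨y, hy⟩ : H'))
    rw [MulAut.conjNormal_apply] at h1
    exact (mul_inv_eq_iff_eq_mul.mp h1).symm
  -- the part of the centraliser prime to `|H|` lies in `O`
  haveI : Group.IsSolvable r.ker := by
    obtain ⟨Z, hZ⟩ : ∃ Z : Subgroup r.ker, Z = H'.subgroupOf r.ker := ⟨_, rfl⟩
    haveI : Z.Normal := hZ ▸ inferInstance
    have hZcop : (Nat.card Z).Coprime Z.index := by
      have h1 : Nat.card Z ∣ Nat.card H' := hZ ▸ Subgroup.card_comap_dvd_of_injective _ _ r.ker.subtype_injective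
      have h2 : Z.index ∣ H'.index := by
        rw [hZ]
        exact CfsgLib.TIHall.relIndex_dvd_index_of_normal_right H' r.ker
      refine (Nat.Coprime.coprime_dvd_left h1 (Nat.Coprime.coprime_dvd_right h2 ?_))
      rw [Nat.card_congr eH.toEquiv, hH']
      exact hHall
    obtain ⟨K, hK⟩ := Subgroup.exists_right_complement'_of_coprime hZcop
    have hKcomm : ∀ z ∈ Z, ∀ k : r.ker, z * k = k * z := fun z hz k =>
      Subtype.ext (hX k k.2 z (by rw [hZ] at hz; exact hz))
    have hKc : ∀ x : r.ker, (orderOf x).Coprime (Nat.card H) → x ∈ K := by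
      intro x hx
      obtain ⟨⟨⟨z, hz⟩, ⟨k, hk⟩⟩, rfl⟩ := hK.2 x
      show z * k ∈ K
      have hz1 : z = 1 := by
        have hpow : (z * k) ^ orderOf (z * k) = 1 := pow_orderOf_eq_one _
        rw [(show Commute z k from hKcomm z hz k).mul_pow] at hpow
        have h3 : z ^ orderOf (z * k) = 1 := by
          refine Subgroup.disjoint_def.mp hK.disjoint (pow_mem hz _) ?_
          rw [eq_inv_of_mul_eq_one_left hpow]
          exact inv_mem (pow_mem hk _)
        refine orderOf_eq_one_iff.mp (Nat.eq_one_of_dvd_coprimes hx (orderOf_dvd_of_pow_eq_one h3) ?_)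
        refine (Subgroup.orderOf_dvd_natCard Z hz).trans ?_
        rw [← Nat.card_congr eH.toEquiv, hZ]
        exact Subgroup.card_comap_dvd_of_injective _ _ r.ker.subtype_injective
      rw [hz1, one_mul]; exact hk
    obtain ⟨K', hK'⟩ : ∃ K', K' = (K.map r.ker.subtype).map N.subtype := ⟨_, rfl⟩
    have hKcard : (Nat.card K').Coprime (Nat.card H) := by
      rw [hK', Subgroup.card_map_of_injective N.subtype_injective,
        Subgroup.card_map_of_injective r.ker.subtype_injective, ← hK.symm.index_eq_card]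
      have h2 : Z.index ∣ H'.index := by
        rw [hZ]
        exact CfsgLib.TIHall.relIndex_dvd_index_of_normal_right H' r.ker
      refine Nat.Coprime.coprime_dvd_left h2 ?_
      rw [hH']
      exact hHall.symm
    have hKO : K' ≤ O := by
      have hKn : ∀ g ∈ N, ∀ x ∈ K', g * x * g⁻¹ ∈ K' := by
        intro g hg x hx
        rw [hK'] at hx ⊢
        obtain ⟨_, ⟨k, hk, rfl⟩, rfl⟩ := hx
        have hgk : (⟨g, hg⟩ : N) * (k : N) * (⟨g, hg⟩ : N)⁻¹ ∈ r.ker :=
          (MonoidHom.normal_ker r).conj_mem (k : N) k.2 _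
        refine ⟨_, ⟨⟨_, hgk⟩, hKc _ ?_, rfl⟩, rfl⟩
        rw [← Subgroup.orderOf_coe]
        show (orderOf ((⟨g, hg⟩ : N) * (k : N) * (⟨g, hg⟩ : N)⁻¹)).Coprime (Nat.card H)
        rw [← MulAut.conj_apply, MulEquiv.orderOf_eq, Subgroup.orderOf_coe]
        have h2 : Z.index ∣ H'.index := by
          rw [hZ]
          exact CfsgLib.TIHall.relIndex_dvd_index_of_normal_right H' r.ker
        refine Nat.Coprime.coprime_dvd_left (k := H'.index) ((Subgroup.orderOf_dvd_natCard K hk).trans ?_) ?_
        · rw [← hK.symm.index_eq_card]; exact h2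
        · rw [hH']; exact hHall.symm
      have hNle : N ≤ Subgroup.normalizer ((K' ⊔ O : Subgroup G) : Set G) := by
        refine CfsgLib.TIHall.le_normalizer_sup (fun g hg x hx => Subgroup.mem_sup_left (hKn g hg x hx))
          (fun g _ x hx => Subgroup.mem_sup_right (hOn.conj_mem x hx g))
      have hn : (K' ⊔ O).Normal := by
        rw [← Subgroup.normalizer_eq_top_iff, eq_top_iff, ← hsup]
        exact sup_le (le_sup_right.trans Subgroup.le_normalizer) hNle
      refine le_sup_left.trans (hmax _ hn ?_)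
      refine (hKcard.mul_left hcop).coprime_dvd_left (CfsgLib.TIHall.card_sup_dvd_of_le_normalizer ?_)
      rw [Subgroup.normalizer_eq_top_iff.mpr hOn]; exact le_top
    haveI := hOsol
    haveI : Group.IsSolvable K := by
      refine Group.isSolvable_of_isSolvable_injective (f := (Subgroup.inclusion hKO).comp
        ((hK' ▸ ((K.equivMapOfInjective _ r.ker.subtype_injective).trans
          ((K.map r.ker.subtype).equivMapOfInjective _ N.subtype_injective)) : K ≃* K')).toMonoidHom) ?_
      exact (Subgroup.inclusion_injective hKO).comp (MulEquiv.injective _)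
    haveI : Group.IsSolvable Z := by
      refine Group.isSolvable_of_comm fun a b => Subtype.ext ?_
      exact hKcomm a a.2 b
    exact (Group.isSolvable_iff_subgroup_quotient Z).mpr ⟨inferInstance,
      Group.isSolvable_of_surjective (f := hK.symm.QuotientMulEquiv.symm.toMonoidHom) hK.symm.QuotientMulEquiv.symm.surjective⟩
  haveI : Group.IsSolvable N := Group.isSolvable_of_ker_le_range r.ker.subtype r (le_of_eq r.ker.range_subtype.symm)
  refine (Group.isSolvable_iff_subgroup_quotient O).mpr ⟨hOsol, ?_⟩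
  refine Group.isSolvable_of_surjective (f := (QuotientGroup.mk' O).comp N.subtype) fun q => ?_
  obtain ⟨x, rfl⟩ := QuotientGroup.mk_surjective q
  obtain ⟨o, ho, w, hw, rfl⟩ := Subgroup.mem_sup_of_normal_left.mp (hsup.ge (Subgroup.mem_top x))
  refine ⟨⟨w, hw⟩, ?_⟩
  rw [MonoidHom.comp_apply, Subgroup.coe_subtype, QuotientGroup.mk'_apply, QuotientGroup.mk_mul,
    (QuotientGroup.eq_one_iff o).mpr ho, one_mul]

/-- Let G be a finite group and H a non-normal subgroup meeting each of its conjugates by elements outside N_G(H) trivially, with the order of H coprime to its index in N_G(H); let π be the set of primes dividing the order of H and suppose G is π-separable (it has a chain of normal subgroups from 1 to G each of whose factors has order divisible only by primes in π or coprime to the order of H). Let O be the largest normal subgroup of G of order coprime to the order of H. Then G = O·N_G(H), O·H is normal in G, and G is solvable if and only if O is solvable and H has no subgroup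 isomorphic to SL₂(5). -/
theorem result {G : Type*} [Group G] [Finite G] (H : Subgroup G)
    (hTI : Cfsg.IsTISubset (H : Set G)) (hnn : ¬ H.Normal)
    (hHall : (Nat.card H).Coprime (H.subgroupOf (Subgroup.normalizer (H : Set G))).index)
    (hsep : ∃ (n : ℕ) (M : Fin (n + 1) → Subgroup G), M 0 = ⊥ ∧ M (Fin.last n) = ⊤ ∧ Monotone M ∧ (∀ i, (M i).Normal) ∧
      ∀ i : Fin n, (∀ q : ℕ, q.Prime → q ∣ (M i.castSucc).relIndex (M i.succ) → q ∣ Nat.card H) ∨
        ((M i.castSucc).relIndex (M i.succ)).Coprime (Nat.card H))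
    (O : Subgroup G) (hO : O = sSup {K : Subgroup G | K.Normal ∧ (Nat.card K).Coprime (Nat.card H)}) :
    O ⊔ Subgroup.normalizer (H : Set G) = ⊤ ∧ (O ⊔ H).Normal ∧
    (Group.IsSolvable G ↔ Group.IsSolvable O ∧
      ∀ K : Subgroup G, K ≤ H → ¬ Nonempty (K ≃* Matrix.SpecialLinearGroup (Fin 2) (ZMod 5))) := by
  obtain ⟨hOn, hcop, hmax⟩ := CfsgLib.TIHall.pPrimeRadical_spec (H := H) O hO
  have hsup := CfsgLib.TIHall.sup_normalizer_eq_top (H := H) hTI hHall hsep O hOn hcop hmax
  refine ⟨hsup, CfsgLib.TIHall.sup_normal (H := H) O hOn hsup, fun h => ⟨inferInstance, fun K _ ⟨e⟩ => ?_⟩,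
    fun h => solvable_of hTI hOn hcop hmax hsup hnn hHall h.1 h.2⟩
  exact CfsgLib.ZasFC.sl25_not_solvable (Group.isSolvable_of_surjective (f := e.toMonoidHom) e.surjective)

end Cfsg.Agent.S4118
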