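import Cfsg.Statements.S4125
import Cfsg.Agent.Lib.QBaer
-- import your own Cfsg.Agent.* helpers here

set_option autoImplicit false
open Cfsg

namespace Cfsg.Agent.S4125

/-- Let G be a finite group and q a prime dividing its order such that every element of q-power order has a conjugacy class of prime-power size. Then G is q-solvable of q-length 1: there are normal subgroups K ≤ L of G with K of order prime to q, L/K a q-group and L of index prime to q. Moreover there is a prime p such that every element of q-power order has a class of p-power size (one prime serving for all of them), and for a Sylow q-subgroup Q: if p = q then Q is normal with a normal complement (a direct factor), while if p ≠ q then Q is abelian, the product of Q with the largest normal p-subgroup O_p(G) is normal in G, and G/O_{q'}(G) is solvable, where O_{q'}(G) is the largest normal subgroup of order prime to q. -/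
theorem result {G : Type*} [Group G] [Finite G] (q : ℕ) [Fact q.Prime] (hq : q ∣ Nat.card G)
    (hBaer : ∀ x : G, (∃ k : ℕ, orderOf x = q ^ k) → ∃ (r : ℕ) (a : ℕ), r.Prime ∧ (Subgroup.centralizer ({x} : Set G)).index = r ^ a) (Q : Sylow q G) :
    (∃ K L : Subgroup G, K.Normal ∧ L.Normal ∧ K ≤ L ∧ (Nat.card K).Coprime q ∧ (∃ m : ℕ, K.relIndex L = q ^ m) ∧ L.index.Coprime q) ∧
    ∃ p : ℕ, p.Prime ∧ (∀ x : G, (∃ k : ℕ, orderOf x = q ^ k) → ∃ a : ℕ, (Subgroup.centralizer ({x} : Set G)).index = p ^ a) ∧
      (p = q → (Q : Subgroup G).Normal ∧ ∃ N : Subgroup G, N.Normal ∧ N.IsComplement' (Q : Subgroup G)) ∧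
      (p ≠ q → IsMulCommutative (Q : Subgroup G) ∧ (Cfsg.pCore p G ⊔ (Q : Subgroup G)).Normal ∧
        ∀ _h : (Cfsg.pPrimeCore q G).Normal, Group.IsSolvable (G ⧸ Cfsg.pPrimeCore q G)) := by
  classical
  have hqp : q.Prime := Fact.out
  obtain ⟨p, hp, hall⟩ := CfsgLib.QBaer.exists_prime (q := q) hBaer
  haveI := Fact.mk hp
  by_cases hpq : p = q
  · subst hpq
    have hs := CfsgLib.QBaer.sylow_direct Q hall
    haveI := hs.1
    refine ⟨⟨⊥, (Q : Subgroup G), inferInstance, hs.1, bot_le, by simp, ?_, ?_⟩, p, hp, hall,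
      fun _ => hs, fun h => absurd rfl h⟩
    · obtain ⟨m, hm⟩ := IsPGroup.iff_card.1 Q.2
      exact ⟨m, by rw [Subgroup.relIndex_bot_left]; exact hm⟩
    · exact ((hp.coprime_iff_not_dvd).2 Q.not_dvd_index).symm
  · obtain ⟨hab, hn⟩ := CfsgLib.QBaer.sylow_abelian Q hpq hall
    haveI := hn
    refine ⟨⟨Cfsg.pCore p G, Cfsg.pCore p G ⊔ (Q : Subgroup G), Subgroup.normal_of_characteristic _, hn,
      le_sup_left, ?_, ?_, ?_⟩, p, hp, hall, fun h => absurd h hpq,
      fun _ => ⟨hab, hn, fun hR => CfsgLib.QBaer.solvable_quotient Q hpq hall hR⟩⟩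
    · obtain ⟨e, he⟩ := IsPGroup.iff_card.1 (CfsgLib.isPGroup_pCore (G := G) p)
      rw [he]
      exact Nat.Coprime.pow_left e ((Nat.coprime_primes hp hqp).2 hpq)
    · obtain ⟨m, hm⟩ := IsPGroup.iff_card.1 Q.2
      haveI : (Cfsg.pCore p G).Normal := Subgroup.normal_of_characteristic _
      have h0 : (Cfsg.pCore p G).relIndex (Q : Subgroup G) ∣ q ^ m := hm ▸ Subgroup.relIndex_dvd_card _ _
      rw [← Subgroup.relIndex_sup_right, sup_comm] at h0
      obtain ⟨k, -, hk⟩ := (Nat.dvd_prime_pow hqp).1 h0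
      exact ⟨k, hk⟩
    · exact ((hqp.coprime_iff_not_dvd).2 fun hd => Q.not_dvd_index
        (hd.trans (Subgroup.index_dvd_of_le (le_sup_right : (Q : Subgroup G) ≤ _)))).symm

end Cfsg.Agent.S4125
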