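import Cfsg.Statements.S4126
import Mathlib
import Cfsg.Agent.Lib.SmallElements
import Cfsg.Agent.Lib.SylowExtra
import Cfsg.Agent.Lib.Fusion.Hyperfocal
-- import your own Cfsg.Agent.* helpers here

set_option autoImplicit false
open Cfsg

namespace Cfsg.Agent.S4126

universe u

open scoped commutatorElement

variable {G : Type u} [Group G] [Finite G] {p : ℕ} [Fact p.Prime]

omit [Finite G] [Fact p.Prime] in
theorem exists_cover [Finite G] [Fact p.Prime] (P : Sylow p G) {C : Subgroup G} {a : ℕ} (hC : C.index = p ^ a) :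
    ∀ g : G, ∃ u ∈ (P : Subgroup G), u⁻¹ * g ∈ C := by
  have hp : p.Prime := Fact.out
  let f : (P : Subgroup G) ⧸ C.subgroupOf (P : Subgroup G) → G ⧸ C := Quotient.map' (fun u => (u : G)) fun u v huv => by
    rw [QuotientGroup.leftRel_apply] at huv ⊢
    exact huv
  have hinj : Function.Injective f := by
    intro a b
    induction a using Quotient.inductionOn' with
    | h a =>
      induction b using Quotient.inductionOn' with
      | h b =>
        intro hab
        refine Quotient.sound' ?_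
        have := Quotient.exact' hab
        rw [QuotientGroup.leftRel_apply] at this ⊢
        exact this
  have hle := Nat.card_le_card_of_injective f hinj
  have hcard : Nat.card ((P : Subgroup G) ⧸ C.subgroupOf (P : Subgroup G)) = Nat.card (G ⧸ C) := by
    refine le_antisymm hle ?_
    rw [← Subgroup.index_eq_card, ← Subgroup.index_eq_card, hC]
    obtain ⟨j, hj⟩ := IsPGroup.iff_card.mp ((P.isPGroup'.to_le (inf_le_left : (P : Subgroup G) ⊓ C ≤ _)))
    have hjle : j ≤ (Nat.card C).factorization p := by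
      refine (Nat.Prime.pow_dvd_iff_le_factorization hp Nat.card_pos.ne').mp ?_
      rw [← hj]
      exact Subgroup.card_dvd_of_le inf_le_right
    have h1 := Subgroup.card_mul_index (C.subgroupOf (P : Subgroup G))
    rw [Nat.card_congr (Subgroup.subgroupOfEquivOfLe (inf_le_left : (P : Subgroup G) ⊓ C ≤ _)).symm.toEquiv |>.symm.trans rfl |>.symm] at hj
    rw [Subgroup.inf_subgroupOf_left] at hj
    rw [hj, P.card_eq_multiplicity, ← C.card_mul_index, hC,
      Nat.factorization_mul Nat.card_pos.ne' (pow_pos hp.pos a).ne', Finsupp.add_apply, hp.factorization_pow,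
      Finsupp.single_eq_same, pow_add] at h1
    refine Nat.le_of_mul_le_mul_left ?_ (pow_pos hp.pos j)
    rw [h1]
    exact Nat.mul_le_mul_right _ (Nat.pow_le_pow_right hp.pos hjle)
  intro g
  obtain ⟨q, hq⟩ := ((Nat.bijective_iff_injective_and_card f).mpr ⟨hinj, hcard⟩).2 (g : G ⧸ C)
  induction q using Quotient.inductionOn' with
  | h u => exact ⟨u, u.2, QuotientGroup.eq.mp hq⟩

theorem conj_eq (P : Sylow p G) {x : G} {a : ℕ}
    (hx : (Subgroup.centralizer ({x} : Set G)).index = p ^ a) (g : G) :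
    ∃ u ∈ (P : Subgroup G), g * x * g⁻¹ = u * x * u⁻¹ := by
  obtain ⟨u, hu, hum⟩ := exists_cover P hx g
  refine ⟨u, hu, ?_⟩
  calc g * x * g⁻¹ = u * ((u⁻¹ * g) * x * (u⁻¹ * g)⁻¹) * u⁻¹ := by group
    _ = u * x * u⁻¹ := by rw [Subgroup.mem_centralizer_singleton_iff.mp hum, mul_inv_cancel_right]

theorem fix_small {Y : Subgroup G} (hY : IsPGroup p Y) {g : G} (hgY : g ∈ Subgroup.normalizer (Y : Set G))
    (hg : (orderOf g).Coprime p) (hfix : ∀ x ∈ Y, x ^ CfsgLib.Small.smallExp p = 1 → g * x = x * g) :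
    g ∈ Subgroup.centralizer (Y : Set G) := by
  let α : MulAut Y := Subgroup.normalizerMonoidHom Y ⟨g, hgY⟩
  have hα : α = 1 := CfsgLib.Small.eq_one_of_fixes_small hY
    (hg.coprime_dvd_left (by
      have := orderOf_map_dvd (Subgroup.normalizerMonoidHom Y) ⟨g, hgY⟩
      rwa [Subgroup.orderOf_mk] at this))
    fun x hx => Subtype.ext (by
      show g * (x : G) * g⁻¹ = x
      rw [hfix x x.2 (by rw [← SubgroupClass.coe_pow, hx]; rfl), mul_inv_cancel_right])
  rw [Subgroup.mem_centralizer_iff]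
  intro y hy
  have h1 : g * y * g⁻¹ = y := congrArg Subtype.val (DFunLike.congr_fun hα (⟨y, hy⟩ : Y))
  calc y * g = g * y * g⁻¹ * g := by rw [h1]
    _ = g * y := inv_mul_cancel_right _ _

theorem centralizes_normal (h : ∀ x : G, x ^ CfsgLib.Small.smallExp p = 1 →
      ∃ a : ℕ, (Subgroup.centralizer ({x} : Set G)).index = p ^ a) :
    ∀ (n : ℕ) (Y : Subgroup G), Nat.card Y = n → Y.Normal → IsPGroup p Y →
      ∀ y : G, (orderOf y).Coprime p → y ∈ Subgroup.centralizer (Y : Set G) := by
  intro n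
  induction n using Nat.strong_induction_on with
  | _ n IH =>
  intro Y hn hYn hY
  subst hn
  intro y hy
  refine fix_small hY (Subgroup.normalizer_eq_top_iff.mpr hYn ▸ Subgroup.mem_top y) hy fun x hx hxs => ?_
  obtain ⟨a, ha⟩ := h x hxs
  obtain ⟨P, hP⟩ := hY.exists_le_sylow
  by_cases hY0 : Y = ⊥
  · rw [hY0, Subgroup.mem_bot] at hx
    rw [hx, mul_one, one_mul]
  -- the commutator with the Sylow subgroup is smaller
  set W := ⁅Y, (P : Subgroup G)⁆ with hW
  have hWY : W ≤ Y := Subgroup.commutator_le_left Y _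
  have hWne : W ≠ Y := by
    intro e
    have := P.isPGroup'.isNilpotent
    set D := Y.subgroupOf (P : Subgroup G) with hD
    have hDmap : D.map (P : Subgroup G).subtype = Y := Subgroup.map_subgroupOf_eq_of_le hP
    have h1 : D ≤ ⁅D, (⊤ : Subgroup (P : Subgroup G))⁆ := by
      rw [← Subgroup.map_subtype_le_map_subtype, Subgroup.map_commutator, hDmap, ← MonoidHom.range_eq_map,
        Subgroup.range_subtype, ← hW, e]
    obtain ⟨m, hm⟩ := (Subgroup.nilpotent_iff_lowerCentralSeries (G := (P : Subgroup G))).mp inferInstance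
    have hall : ∀ i, D ≤ Subgroup.lowerCentralSeries (⊤ : Subgroup (P : Subgroup G)) i := by
      intro i
      induction i with
      | zero => exact le_top
      | succ i hi => exact h1.trans (Subgroup.commutator_mono hi le_rfl)
    have hbot : D = ⊥ := le_bot_iff.mp (hm ▸ hall m)
    exact hY0 (by rw [← hDmap, hbot, Subgroup.map_bot])
  set Y1 := Subgroup.closure (Set.range fun g : G => g * x * g⁻¹ * x⁻¹) with hY1
  have hY1W : Y1 ≤ W := by
    rw [hY1, Subgroup.closure_le]
    rintro _ ⟨g, rfl⟩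
    obtain ⟨u, hu, e⟩ := conj_eq P ha g
    show g * x * g⁻¹ * x⁻¹ ∈ W
    rw [e, show u * x * u⁻¹ * x⁻¹ = ⁅x, u⁆⁻¹ by rw [commutatorElement_def]; group]
    exact Subgroup.inv_mem _ (Subgroup.commutator_mem_commutator hx hu)
  have hY1n : Y1.Normal := by
    have key : ∀ g : G, ∀ z ∈ Y1, g * z * g⁻¹ ∈ Y1 := by
      intro g z hz
      rw [hY1] at hz
      induction hz using Subgroup.closure_induction with
      | mem z hz =>
        obtain ⟨k, rfl⟩ := hz
        rw [show g * (k * x * k⁻¹ * x⁻¹) * g⁻¹ = (g * k * x * (g * k)⁻¹ * x⁻¹) * (g * x * g⁻¹ * x⁻¹)⁻¹ by group]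
        exact Y1.mul_mem (Subgroup.subset_closure ⟨g * k, rfl⟩) (Y1.inv_mem (Subgroup.subset_closure ⟨g, rfl⟩))
      | one => simp
      | mul z w _ _ h1 h2 =>
        rw [show g * (z * w) * g⁻¹ = (g * z * g⁻¹) * (g * w * g⁻¹) by group]
        exact Y1.mul_mem h1 h2
      | inv z _ h1 =>
        rw [show g * z⁻¹ * g⁻¹ = (g * z * g⁻¹)⁻¹ by group]
        exact Y1.inv_mem h1
    exact ⟨fun z hz g => key g z hz⟩
  have hlt : Nat.card Y1 < Nat.card Y := lt_of_le_of_lt (Subgroup.card_le_of_le hY1W)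
    (lt_of_le_of_ne (Subgroup.card_le_of_le hWY) fun e => hWne (Subgroup.eq_of_le_of_card_ge hWY e.ge))
  have hind := IH _ hlt Y1 rfl hY1n (hY.to_le (hY1W.trans hWY))
  -- Sylow subgroups for the other primes centralize `x`
  set C := Subgroup.centralizer ({x} : Set G) with hC
  have hqel : ∀ (q : ℕ) [Fact q.Prime], q ≠ p → ∀ Q : Sylow q G, (Q : Subgroup G) ≤ C := by
    intro q _ hqp Q
    obtain ⟨Q0, hQ0⟩ := CfsgLib.exists_sylow_le_of_not_dvd_index C (p := q) (by
      rw [ha]
      exact fun hd => hqp ((Nat.prime_dvd_prime_iff_eq Fact.out Fact.out).mp ((Fact.out : q.Prime).dvd_of_dvd_pow hd)))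
    obtain ⟨g, hg⟩ := MulAction.exists_smul_eq G Q0 Q
    intro z hz
    obtain ⟨s, hs, hsz⟩ : z ∈ ((g • Q0 : Sylow q G) : Subgroup G) := hg.symm ▸ hz
    have hzw : Commute z (g * x * g⁻¹) := by
      have h1 : Commute s x := Subgroup.mem_centralizer_singleton_iff.mp (hQ0 hs)
      have h2 := h1.map (MulAut.conj g).toMonoidHom
      rw [← hsz]
      exact h2
    have hw : Commute z (g * x * g⁻¹ * x⁻¹) := by
      obtain ⟨j, hj⟩ := IsPGroup.iff_orderOf.mp Q.isPGroup' ⟨z, hz⟩
      rw [Subgroup.orderOf_mk] at hj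
      refine (Subgroup.mem_centralizer_iff.mp (hind z ?_) _ (Subgroup.subset_closure ⟨g, rfl⟩)).symm
      rw [hj]
      exact Nat.Coprime.pow_left j ((Nat.coprime_primes Fact.out Fact.out).mpr hqp)
    have h3 := hw.inv_right.mul_right hzw
    rw [show (g * x * g⁻¹ * x⁻¹)⁻¹ * (g * x * g⁻¹) = x by group] at h3
    exact Subgroup.mem_centralizer_singleton_iff.mpr h3.eq
  have hyC : Subgroup.zpowers y ≤ C := by
    have hdiv : Nat.card (Subgroup.zpowers y) ∣ Nat.card (Subgroup.zpowers y ⊓ C : Subgroup G) := by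
      rw [← Nat.factorization_le_iff_dvd Nat.card_pos.ne' Nat.card_pos.ne', Finsupp.le_def]
      intro q
      by_cases hq : q.Prime
      swap
      · rw [Nat.factorization_eq_zero_of_not_prime _ hq]; exact Nat.zero_le _
      have := Fact.mk hq
      by_cases hqp : q = p
      · subst hqp
        rw [Nat.card_zpowers, Nat.factorization_eq_zero_of_not_dvd ((Nat.Prime.coprime_iff_not_dvd hq).mp hy.symm)]
        exact Nat.zero_le _
      obtain ⟨R⟩ : Nonempty (Sylow q (Subgroup.zpowers y)) := inferInstance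
      obtain ⟨Q, hQ⟩ := (R.isPGroup'.map (Subgroup.zpowers y).subtype).exists_le_sylow
      have h1 := Subgroup.card_dvd_of_le (le_inf (Subgroup.map_subtype_le (R : Subgroup (Subgroup.zpowers y))) (hQ.trans (hqel q hqp Q)))
      rw [Subgroup.card_map_of_injective (Subgroup.zpowers y).subtype_injective, R.card_eq_multiplicity,
        Nat.Prime.pow_dvd_iff_le_factorization hq Nat.card_pos.ne'] at h1
      exact h1
    exact inf_eq_left.mp (Subgroup.eq_of_le_of_card_ge inf_le_left (Nat.le_of_dvd Nat.card_pos hdiv))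
  exact Subgroup.mem_centralizer_singleton_iff.mp (hyC (Subgroup.mem_zpowers y))

/-- Let G be a finite group and p a prime. Suppose every element of order p, and when p = 2 also every element of order 4, has a conjugacy class of p-power size. Then G has a normal p-complement. -/
theorem result {G : Type*} [Group G] [Finite G] (p : ℕ) [Fact p.Prime]
    (h : ∀ x : G, (orderOf x = p ∨ (p = 2 ∧ orderOf x = 4)) → ∃ a : ℕ, (Subgroup.centralizer ({x} : Set G)).index = p ^ a) :
    Cfsg.HasNormalPComplement p G := by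
  have hp : p.Prime := Fact.out
  have h' : ∀ x : G, x ^ CfsgLib.Small.smallExp p = 1 → ∃ a : ℕ, (Subgroup.centralizer ({x} : Set G)).index = p ^ a := by
    intro x hx
    by_cases hx1 : x = 1
    · refine ⟨0, ?_⟩
      rw [pow_zero, Subgroup.index_eq_one, eq_top_iff]
      intro g _
      rw [hx1]
      exact Subgroup.mem_centralizer_singleton_iff.mpr (by rw [mul_one, one_mul])
    refine h x ?_
    rcases (CfsgLib.Small.pow_smallExp_eq_one_iff x).mp hx with hxp | ⟨h2, hx4⟩
    · exact Or.inl (orderOf_eq_prime hxp hx1)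
    · subst h2
      obtain ⟨k, hk, hko⟩ := (Nat.dvd_prime_pow hp).mp (show orderOf x ∣ 2 ^ 2 from orderOf_dvd_of_pow_eq_one hx4)
      rcases (show k = 0 ∨ k = 1 ∨ k = 2 by omega) with rfl | rfl | rfl
      · exact absurd (orderOf_eq_one_iff.mp (hko.trans (pow_zero 2))) hx1
      · exact Or.inl (hko.trans (pow_one 2))
      · exact Or.inr ⟨rfl, hko⟩
  obtain ⟨S⟩ : Nonempty (Sylow p G) := inferInstance
  refine Cfsg.FusionSystem.hasNormalPComplement_of_centralizes S fun Q hQ g hgQ hg => ?_
  refine fix_small (S.isPGroup'.to_le hQ) hgQ hg fun x hx hxs => ?_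
  obtain ⟨a, ha⟩ := h' x hxs
  have hX : IsPGroup p (Subgroup.normalClosure ({x} : Set G)) := by
    refine S.isPGroup'.to_le ?_
    rw [Subgroup.normalClosure, Subgroup.closure_le]
    intro z hz
    obtain ⟨w, hw, hwz⟩ := Group.mem_conjugatesOfSet_iff.mp hz
    obtain ⟨k, rfl⟩ := isConj_iff.mp hwz
    obtain rfl : w = x := hw
    obtain ⟨u, hu, e⟩ := conj_eq S ha k
    show k * w * k⁻¹ ∈ (S : Subgroup G)
    rw [e]
    exact (S : Subgroup G).mul_mem ((S : Subgroup G).mul_mem hu (hQ hx)) ((S : Subgroup G).inv_mem hu)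
  exact (Subgroup.mem_centralizer_iff.mp (centralizes_normal h' _ _ rfl Subgroup.normalClosure_normal hX g hg) x
    (Subgroup.subset_normalClosure rfl)).symm

end Cfsg.Agent.S4126
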