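import Cfsg.Statements.S4137
import Cfsg.Agent.Lib.ConjRankThree.Reduce.Main
import Cfsg.Agent.Lib.SLShort.Shrink
import Mathlib.FieldTheory.Finite.GaloisField

set_option autoImplicit false
open Cfsg

namespace Cfsg.Agent.S4137

/-- Let G be a finite group with trivial centre and at most three distinct sizes of conjugacy classes other than 1. Then G is solvable or G is isomorphic to PSL₂(2^a) for some a ≥ 1. -/
theorem result {G : Type*} [Group G] [Finite G]
    (hZ : Subgroup.center G = ⊥) (h : Nat.card {n : ℕ | 1 < n ∧ ∃ x : G, (Subgroup.centralizer ({x} : Set G)).index = n} ≤ 3) :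
    Group.IsSolvable G ∨ ∃ a : ℕ, 0 < a ∧ Nonempty (G ≃* Matrix.ProjectiveSpecialLinearGroup (Fin 2) (GaloisField 2 a)) := by
  by_cases hs : Group.IsSolvable G
  · exact Or.inl hs
  refine Or.inr ?_
  haveI : CfsgLib.ConjRankThree.Centerless G := ⟨hZ⟩
  have hord : (CfsgLib.ConjRankThree.orders G).ncard ≤ 3 := by
    set S := {n : ℕ | 1 < n ∧ ∃ x : G, (Subgroup.centralizer ({x} : Set G)).index = n}
    have hfin : S.Finite := (Set.finite_range fun x : G => (Subgroup.centralizer ({x} : Set G)).index).subset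
      fun n ⟨_, x, hx⟩ => ⟨x, hx⟩
    have hsub : CfsgLib.ConjRankThree.orders G ⊆ (fun n => Nat.card G / n) '' S := by
      rintro v ⟨x, hx, rfl⟩
      refine ⟨(Subgroup.centralizer ({x} : Set G)).index, ⟨?_, x, rfl⟩, ?_⟩
      · refine lt_of_le_of_ne (Nat.pos_of_ne_zero Subgroup.index_ne_zero_of_finite) fun e => ?_
        exact CfsgLib.ConjRankThree.cent_ne_top hx (Subgroup.index_eq_one.mp e.symm)
      · show Nat.card G / _ = CfsgLib.ConjRankThree.cc x
        rw [← (Subgroup.centralizer ({x} : Set G)).card_mul_index, mul_comm]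
        exact Nat.mul_div_cancel_left _ (Nat.pos_of_ne_zero Subgroup.index_ne_zero_of_finite)
    refine (Set.ncard_le_ncard hsub (hfin.image _)).trans ((Set.ncard_image_le hfin).trans ?_)
    rw [← Nat.card_coe_set_eq]
    exact h
  obtain ⟨F, iF, iFt, f, hf, hF, ⟨e⟩⟩ := CfsgLib.ConjRankThree.psl_of_le_three hs hord
  letI := Fintype.ofFinite (GaloisField 2 f)
  have hK : Fintype.card (GaloisField 2 f) = 2 ^ f := by
    rw [← Nat.card_eq_fintype_card]
    exact GaloisField.card 2 f (by omega)
  exact ⟨f, by omega, ⟨e.trans (CfsgLib.SLShort.pslCongr 2 (FiniteField.ringEquivOfCardEq (hF.trans hK.symm)))⟩⟩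

end Cfsg.Agent.S4137
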