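import Cfsg.Statements.S4142
import Mathlib
import Cfsg.Agent.Lib.PRegularClass
-- import your own Cfsg.Agent.* helpers here

set_option autoImplicit false
open Cfsg

namespace Cfsg.Agent.S4142

/-- Let G be a finite group and N a normal subgroup. Then the conjugacy class of every element g outside N is a union of cosets of N (gn is conjugate to g for all n ∈ N) if and only if for every g outside N the centralizer of g in G has the same order as the centralizer of gN in G/N. -/
theorem result {G : Type*} [Group G] [Finite G] (N : Subgroup G) [N.Normal] :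
    (∀ g : G, g ∉ N → ∀ n ∈ N, ∃ x : G, x * g * x⁻¹ = g * n) ↔
      ∀ g : G, g ∉ N → Nat.card (Subgroup.centralizer ({g} : Set G)) =
        Nat.card (Subgroup.centralizer ({(QuotientGroup.mk g : G ⧸ N)} : Set (G ⧸ N))) := by
  have hsub : ∀ g : G, (ConjClasses.mk g).carrier ⊆
      (QuotientGroup.mk : G → G ⧸ N) ⁻¹' (ConjClasses.mk (g : G ⧸ N)).carrier := fun g y hy => by
    rw [Set.mem_preimage, ConjClasses.mem_carrier_iff_mk_eq]
    exact ConjClasses.mk_eq_mk_iff_isConj.mpr ((QuotientGroup.mk' N).map_isConj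
      (ConjClasses.mk_eq_mk_iff_isConj.mp (ConjClasses.mem_carrier_iff_mk_eq.mp hy)))
  have hcard : ∀ g : G, ((QuotientGroup.mk : G → G ⧸ N) ⁻¹' (ConjClasses.mk (g : G ⧸ N)).carrier).ncard
      = Nat.card N * (Subgroup.centralizer ({(g : G ⧸ N)} : Set (G ⧸ N))).index := fun g => by
    rw [← Nat.card_coe_set_eq, Nat.card_congr (QuotientGroup.preimageMkEquivSubgroupProdSet N _),
      Nat.card_prod, Nat.card_coe_set_eq, CfsgLib.ncard_carrier_eq_index_centralizer]
  have hiff : ∀ g : G, (Nat.card (Subgroup.centralizer ({g} : Set G)) =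
      Nat.card (Subgroup.centralizer ({(g : G ⧸ N)} : Set (G ⧸ N)))) ↔
      (ConjClasses.mk g).carrier = (QuotientGroup.mk : G → G ⧸ N) ⁻¹' (ConjClasses.mk (g : G ⧸ N)).carrier := by
    intro g
    have h1 := (Subgroup.centralizer ({g} : Set G)).card_mul_index
    have h2 := (Subgroup.centralizer ({(g : G ⧸ N)} : Set (G ⧸ N))).card_mul_index
    have h3 := Subgroup.card_eq_card_quotient_mul_card_subgroup N
    rw [← h1, ← h2] at h3
    constructor
    · intro he
      refine Set.eq_of_subset_of_ncard_le (hsub g) (le_of_eq ?_) (Set.toFinite _)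
      rw [hcard, CfsgLib.ncard_carrier_eq_index_centralizer]
      rw [he, mul_assoc] at h3
      rw [mul_left_cancel₀ Nat.card_pos.ne' h3, mul_comm]
    · intro he
      have h4 := congrArg Set.ncard he
      rw [hcard, CfsgLib.ncard_carrier_eq_index_centralizer] at h4
      rw [h4, mul_assoc, mul_comm _ (Nat.card N)] at h3
      exact mul_right_cancel₀ (mul_ne_zero Nat.card_pos.ne' Subgroup.index_ne_zero_of_finite) h3
  constructor
  · intro h g hg
    rw [hiff]
    refine Set.Subset.antisymm (hsub g) fun y hy => ?_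
    rw [Set.mem_preimage, ConjClasses.mem_carrier_iff_mk_eq, ConjClasses.mk_eq_mk_iff_isConj] at hy
    obtain ⟨c, hc⟩ := isConj_iff.mp hy.symm
    obtain ⟨x, rfl⟩ := QuotientGroup.mk'_surjective N c
    have hn : g⁻¹ * (x⁻¹ * y * x) ∈ N := by
      rw [← QuotientGroup.eq_one_iff]
      simp only [QuotientGroup.mk'_apply] at hc
      simp only [QuotientGroup.mk_mul, QuotientGroup.mk_inv, ← hc]
      group
    obtain ⟨z, hz⟩ := h g hg _ hn
    rw [ConjClasses.mem_carrier_iff_mk_eq, ConjClasses.mk_eq_mk_iff_isConj]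
    refine (isConj_iff.mpr ⟨x * z, ?_⟩ : IsConj g y).symm
    calc x * z * g * (x * z)⁻¹ = x * (z * g * z⁻¹) * x⁻¹ := by group
      _ = y := by rw [hz]; group
  · intro h g hg n hn
    have he := (hiff g).mp (h g hg)
    have : g * n ∈ (ConjClasses.mk g).carrier := by
      rw [he, Set.mem_preimage, QuotientGroup.mk_mul_of_mem g hn]
      exact ConjClasses.mem_carrier_mk
    exact isConj_iff.mp (ConjClasses.mk_eq_mk_iff_isConj.mp (ConjClasses.mem_carrier_iff_mk_eq.mp this)).symm

end Cfsg.Agent.S4142
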