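import Cfsg.Statements.S4160
import Mathlib
import Cfsg.Agent.Lib.PComplement
-- import your own Cfsg.Agent.* helpers here

set_option autoImplicit false
open Cfsg

namespace Cfsg.Agent.S4160

theorem cover {G : Type*} [Group G] [Finite G] (p : ℕ) [Fact p.Prime] :
    Cfsg.HasNormalPComplement p G ∨ ∃ U : Set G, 2 * (Nat.card U + 1) ≤ Nat.card G ∧
      ∀ x : G, x ≠ 1 → ¬ p ∣ (Subgroup.centralizer ({x} : Set G)).index → x ∈ U := by
  classical
  obtain ⟨P⟩ : Nonempty (Sylow p G) := inferInstance
  set N := Subgroup.normalizer ((P : Subgroup G) : Set G) with hN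
  set C := Subgroup.centralizer ((P : Subgroup G) : Set G) with hC
  by_cases hle : N ≤ C
  · exact Or.inl (CfsgLib.hasNormalPComplement_of_normalizer_le_centralizer P hle)
  refine Or.inr ⟨Set.range (fun a : (G ⧸ N) × {c : C // c ≠ 1} =>
    a.1.out * ((a.2.1 : C) : G) * a.1.out⁻¹), ?_, ?_⟩
  · refine le_trans (Nat.mul_le_mul_left 2 (Nat.succ_le_succ (Finite.card_range_le _))) ?_
    have hCN : C ≤ N := Subgroup.centralizer_le_normalizer _
    have hdvd := Subgroup.card_dvd_of_le hCN
    have hne : Nat.card C ≠ Nat.card N := fun h => hle (Subgroup.eq_of_le_of_card_ge hCN h.ge).ge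
    obtain ⟨k, hk⟩ := hdvd
    have hk2 : 2 ≤ k := by
      rcases k with _ | _ | k
      · simp [Nat.card_pos.ne'] at hk
      · simp at hk; exact absurd hk.symm hne
      · omega
    have hsub : Nat.card {c : C // c ≠ 1} + 1 = Nat.card C := by
      have := Fintype.ofFinite C
      rw [Nat.card_eq_fintype_card, Nat.card_eq_fintype_card, Fintype.card_subtype_compl, Fintype.card_subtype_eq]
      have : 0 < Fintype.card C := Fintype.card_pos
      omega
    have hG := Subgroup.card_eq_card_quotient_mul_card_subgroup N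
    have hq : 1 ≤ Nat.card (G ⧸ N) := Nat.card_pos
    have h3 : Nat.card (G ⧸ N) * (Nat.card C * 2) ≤ Nat.card G := by
      rw [hG, hk]; exact Nat.mul_le_mul_left _ (Nat.mul_le_mul_left _ hk2)
    rw [Nat.card_prod]
    rw [← hsub] at h3
    nlinarith
  · intro x hx hndvd
    set H := Subgroup.centralizer ({x} : Set G) with hH
    obtain ⟨R⟩ : Nonempty (Sylow p H) := inferInstance
    have hidx : ¬ p ∣ ((R : Subgroup H).map H.subtype).index := by
      rw [Subgroup.index_map_subtype]
      exact fun h => ((Fact.out : p.Prime).dvd_mul.mp h).elim R.not_dvd_index hndvd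
    let S : Sylow p G := IsPGroup.toSylow (R.2.map H.subtype) hidx
    obtain ⟨g, hg⟩ := MulAction.exists_smul_eq G P S
    have key : g⁻¹ * x * g ∈ C := by
      refine Subgroup.mem_centralizer_iff.mpr fun y hy => ?_
      have hm : g * y * g⁻¹ ∈ (S : Subgroup G) := by
        rw [← hg, Sylow.coe_subgroup_smul, Subgroup.mem_smul_pointwise_iff_exists]
        exact ⟨y, hy, by simp [MulAut.smul_def, MulAut.conj_apply]⟩
      obtain ⟨r, -, hr⟩ := (show g * y * g⁻¹ ∈ (R : Subgroup H).map H.subtype from hm)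
      have hcomm : Commute x (g * y * g⁻¹) := by
        rw [← hr]; exact Subgroup.mem_centralizer_singleton_iff.mp r.2 |>.symm
      have h2 := hcomm.map (MulAut.conj g⁻¹).toMonoidHom
      simpa [MulAut.conj_apply, mul_assoc] using h2.eq.symm
    obtain ⟨n, hn, hout⟩ : ∃ n ∈ N, (QuotientGroup.mk g : G ⧸ N).out = g * n := by
      obtain ⟨n, hn⟩ := QuotientGroup.mk_out_eq_mul N g
      exact ⟨n, n.2, hn⟩
    have hc : n⁻¹ * (g⁻¹ * x * g) * n ∈ C := by
      refine Subgroup.mem_centralizer_iff.mpr fun y hy => ?_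
      have hy' : n * y * n⁻¹ ∈ (P : Subgroup G) := (Subgroup.mem_normalizer_iff.mp hn y).mp hy
      have h := (show Commute (n * y * n⁻¹) (g⁻¹ * x * g) from Subgroup.mem_centralizer_iff.mp key _ hy').map
        (MulAut.conj n⁻¹).toMonoidHom
      simpa [MulAut.conj_apply, mul_assoc] using h.eq
    refine ⟨⟨QuotientGroup.mk g, ⟨⟨_, hc⟩, fun h => hx ?_⟩⟩, ?_⟩
    · have h1 : n⁻¹ * (g⁻¹ * x * g) * n = 1 := congrArg Subtype.val h
      have h2 := congrArg (fun t => g * (n * t * n⁻¹) * g⁻¹) h1
      simpa [mul_assoc] using h2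
    · simp only [hout]
      group

/-- Let G be a finite group and p ≠ q primes each dividing the size of some conjugacy class of G, such that no conjugacy class size is divisible by pq. Then G has a normal p-complement or a normal q-complement. -/
theorem result {G : Type*} [Group G] [Finite G] (p q : ℕ) (hp : p.Prime) (hq : q.Prime) (hpq : p ≠ q)
    (hp' : ∃ x : G, p ∣ (Subgroup.centralizer ({x} : Set G)).index) (hq' : ∃ x : G, q ∣ (Subgroup.centralizer ({x} : Set G)).index) (h : ∀ x : G, ¬ p * q ∣ (Subgroup.centralizer ({x} : Set G)).index) :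
    Cfsg.HasNormalPComplement p G ∨ Cfsg.HasNormalPComplement q G := by
  haveI := Fact.mk hp
  haveI := Fact.mk hq
  rcases cover (G := G) p with h1 | ⟨U, hU, hU'⟩
  · exact Or.inl h1
  rcases cover (G := G) q with h1 | ⟨V, hV, hV'⟩
  · exact Or.inr h1
  exfalso
  classical
  have hsub : (Set.univ : Set G) ⊆ insert 1 (U ∪ V) := by
    intro x _
    by_cases hx : x = 1
    · exact Or.inl hx
    refine Or.inr ?_
    by_cases hd : p ∣ (Subgroup.centralizer ({x} : Set G)).index
    · exact Or.inr (hV' x hx fun hd' => h x ((Nat.coprime_primes hp hq).mpr hpq |>.mul_dvd_of_dvd_of_dvd hd hd'))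
    · exact Or.inl (hU' x hx hd)
  have h2 := Set.ncard_le_ncard hsub
  have h3 := (Set.ncard_insert_le 1 (U ∪ V)).trans (Nat.succ_le_succ (Set.ncard_union_le U V))
  rw [Set.ncard_univ] at h2
  simp only [Nat.card_coe_set_eq] at hU hV
  omega

end Cfsg.Agent.S4160
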