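import Cfsg.Statements.S4149
import Cfsg.Agent.S4160
-- import your own Cfsg.Agent.* helpers here

set_option autoImplicit false
open Cfsg

namespace Cfsg.Agent.S4149

/-- Let G be a finite group that has a normal p-complement for at most one prime p dividing its order, and let σ be a natural number such that every conjugacy class size of G has at most σ distinct prime divisors. Then the number of primes dividing at least one conjugacy class size of G is at most 2σ. -/
theorem result {G : Type*} [Group G] [Finite G] (σ : ℕ)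
    (hσ : ∀ x : G, ((Subgroup.centralizer ({x} : Set G)).index).primeFactors.card ≤ σ)
    (hnil : ∀ p q : ℕ, p.Prime → q.Prime → p ∣ Nat.card G → q ∣ Nat.card G →
      Cfsg.HasNormalPComplement p G → Cfsg.HasNormalPComplement q G → p = q) :
    Nat.card {p : ℕ | p.Prime ∧ ∃ x : G, p ∣ (Subgroup.centralizer ({x} : Set G)).index} ≤ 2 * σ := by
  classical
  haveI := Fintype.ofFinite G
  set idx : G → ℕ := fun x => (Subgroup.centralizer ({x} : Set G)).index with hidx
  have hidx0 : ∀ x, idx x ≠ 0 := fun x => Subgroup.index_ne_zero_of_finite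
  set V := (Nat.card G).primeFactors.filter (fun p => ∃ x : G, p ∣ idx x) with hV
  have hset : {p : ℕ | p.Prime ∧ ∃ x : G, p ∣ (Subgroup.centralizer ({x} : Set G)).index} = ↑V := by
    ext p
    simp only [hV, Set.mem_setOf_eq, Finset.coe_filter, Nat.mem_primeFactors]
    constructor
    · rintro ⟨hp, x, hx⟩
      exact ⟨⟨hp, hx.trans (Subgroup.index_dvd_card _), Nat.card_pos.ne'⟩, x, hx⟩
    · rintro ⟨⟨hp, -, -⟩, h⟩
      exact ⟨hp, h⟩
  rw [hset, Nat.card_coe_set_eq, Set.ncard_coe_finset]
  set B := V.filter (fun p => ¬ Cfsg.HasNormalPComplement p G) with hB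
  have hVp : ∀ p ∈ V, p.Prime ∧ p ∣ Nat.card G := fun p hp =>
    ⟨(Nat.mem_primeFactors.1 (Finset.mem_filter.1 hp).1).1, (Nat.mem_primeFactors.1 (Finset.mem_filter.1 hp).1).2.1⟩
  have hone : (V.filter (fun p => Cfsg.HasNormalPComplement p G)).card ≤ 1 := by
    refine Finset.card_le_one.2 fun p hp q hq => ?_
    obtain ⟨hpV, hpc⟩ := Finset.mem_filter.1 hp
    obtain ⟨hqV, hqc⟩ := Finset.mem_filter.1 hq
    exact hnil p q (hVp p hpV).1 (hVp q hqV).1 (hVp p hpV).2 (hVp q hqV).2 hpc hqc
  have hsplit : (V.filter (fun p => Cfsg.HasNormalPComplement p G)).card + B.card = V.card :=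
    Finset.card_filter_add_card_filter_not _
  rcases Nat.eq_zero_or_pos σ with hσ0 | hσ0
  · have : V = ∅ := by
      refine Finset.eq_empty_of_forall_notMem fun p hp => ?_
      obtain ⟨x, hx⟩ := (Finset.mem_filter.1 hp).2
      have h1 : p ∈ (idx x).primeFactors := Nat.mem_primeFactors.2 ⟨(hVp p hp).1, hx, hidx0 x⟩
      have h2 := hσ x
      rw [hσ0, Nat.le_zero, Finset.card_eq_zero] at h2
      exact absurd (h2 ▸ h1) (Finset.notMem_empty _)
    simp [this]
  have hU : ∀ p : ℕ, ∃ U : Finset G, p ∈ B → 2 * (U.card + 1) ≤ Nat.card G ∧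
      ∀ x : G, x ≠ 1 → ¬ p ∣ idx x → x ∈ U := by
    intro p
    by_cases hp : p ∈ B
    · obtain ⟨hpV, hpc⟩ := Finset.mem_filter.1 hp
      haveI := Fact.mk (hVp p hpV).1
      obtain ⟨U, h1, h2⟩ := (Cfsg.Agent.S4160.cover (G := G) p).resolve_left hpc
      refine ⟨U.toFinset, fun _ => ⟨?_, fun x hx hd => Set.mem_toFinset.2 (h2 x hx hd)⟩⟩
      rwa [← Set.ncard_eq_toFinset_card', ← Nat.card_coe_set_eq]
    · exact ⟨∅, fun h => absurd h hp⟩
  choose U hU using hU
  have hcount : ∀ x ∈ (Finset.univ : Finset G).erase 1, B.card ≤ (B.filter (fun p => x ∈ U p)).card + σ := by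
    intro x hx
    have hsub : B ⊆ B.filter (fun p => x ∈ U p) ∪ (idx x).primeFactors := by
      intro p hp
      by_cases hd : p ∣ idx x
      · exact Finset.mem_union_right _ (Nat.mem_primeFactors.2 ⟨(hVp p (Finset.mem_filter.1 hp).1).1, hd, hidx0 x⟩)
      · exact Finset.mem_union_left _ (Finset.mem_filter.2 ⟨hp, (hU p hp).2 x (Finset.ne_of_mem_erase hx) hd⟩)
    exact ((Finset.card_le_card hsub).trans (Finset.card_union_le _ _)).trans (Nat.add_le_add_left (hσ x) _)
  have hsum := Finset.sum_le_sum hcount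
  rw [Finset.sum_const, Finset.sum_add_distrib, Finset.sum_const, smul_eq_mul, smul_eq_mul,
    Finset.card_erase_of_mem (Finset.mem_univ _), Finset.card_univ, ← Nat.card_eq_fintype_card] at hsum
  have hswap : ∑ x ∈ (Finset.univ : Finset G).erase 1, (B.filter (fun p => x ∈ U p)).card ≤ ∑ p ∈ B, (U p).card := by
    simp only [Finset.card_filter]
    rw [Finset.sum_comm]
    refine Finset.sum_le_sum fun p _ => ?_
    rw [← Finset.card_filter]
    exact Finset.card_le_card fun x hx => (Finset.mem_filter.1 hx).2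
  have hUsum : 2 * (∑ p ∈ B, (U p).card + B.card) ≤ B.card * Nat.card G := by
    rw [← smul_eq_mul B.card, ← Finset.sum_const, Finset.card_eq_sum_ones B, ← Finset.sum_add_distrib, Finset.mul_sum]
    exact Finset.sum_le_sum fun p hp => (hU p hp).1
  have hG : 1 ≤ Nat.card G := Nat.card_pos
  have hlt : B.card < 2 * σ := by
    by_contra hge
    obtain ⟨n, hn⟩ : ∃ n, Nat.card G = n + 1 := ⟨Nat.card G - 1, by omega⟩
    rw [hn, Nat.add_sub_cancel] at hsum
    rw [hn] at hUsum
    nlinarith
  omega

end Cfsg.Agent.S4149
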