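import Cfsg.Statements.S4150
import Mathlib
import Cfsg.Agent.Lib.TwoPrimesDegree13
import Cfsg.Agent.Lib.ThreePrimes
import Cfsg.Agent.S0713
-- import your own Cfsg.Agent.* helpers here

set_option autoImplicit false
open Cfsg

namespace Cfsg.Agent.S4150

open Equiv Finset CfsgLib.TwoPrimesAlt
open scoped Pointwise

variable {α : Type*} [Fintype α] [DecidableEq α]

/-- A group of small index in the alternating group is the alternating group. -/
theorem eq_alt (G : Subgroup (Perm α)) (hG : G ≤ alternatingGroup α) (hα : 5 ≤ Fintype.card α) {q : ℕ}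
    (hq : q.Prime) (hqA : q ∣ Nat.card (alternatingGroup α)) (hi : (G.subgroupOf (alternatingGroup α)).index < q) :
    G = alternatingGroup α := by
  have := alternatingGroup.isSimpleGroup (α := α) (by rwa [Nat.card_eq_fintype_card])
  exact le_antisymm hG (Subgroup.subgroupOf_eq_top.mp (eq_top_of_index_lt _ hq hqA hi))

theorem card_alt {n : ℕ} (hα : Fintype.card α = n) (hn : 2 ≤ n) :
    Nat.card (alternatingGroup α) = n.factorial / 2 := by
  have : Nontrivial α := Fintype.one_lt_card_iff_nontrivial.mp (by omega)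
  rw [nat_card_alternatingGroup, Nat.card_eq_fintype_card, hα]

theorem iso_alt (G : Subgroup (Perm α)) (h : G = alternatingGroup α) :
    Nonempty (G ≃* alternatingGroup (Fin (Fintype.card α))) :=
  ⟨(MulEquiv.subgroupCongr h).trans (Equiv.altCongrHom (Fintype.equivFin α))⟩

/-- A subgroup of index six in the alternating group of degree six is `A₅`. -/
theorem iso_five (K : Subgroup (alternatingGroup α)) (hα : Fintype.card α = 6) (hK : K.index = 6) :
    Nonempty (K ≃* alternatingGroup (Fin 5)) := by
  classical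
  have hA := alternatingGroup.isSimpleGroup (α := α) (by rw [Nat.card_eq_fintype_card, hα]; norm_num)
  have hAc : Nat.card (alternatingGroup α) = 360 := by rw [card_alt hα (by norm_num)]; rfl
  let f : (alternatingGroup α) →* Perm ((alternatingGroup α) ⧸ K) := MulAction.toPermHom (alternatingGroup α) ((alternatingGroup α) ⧸ K)
  have : Fintype ((alternatingGroup α) ⧸ K) := Fintype.ofFinite _
  have hc6 : Fintype.card ((alternatingGroup α) ⧸ K) = 6 := by rw [← Nat.card_eq_fintype_card]; exact hK
  have hKne : K ≠ ⊤ := fun h => by rw [h, Subgroup.index_top] at hK; omega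
  have hinj : Function.Injective f := (MonoidHom.ker_eq_bot_iff _).mp
    (f.normal_ker.eq_bot_or_eq_top.resolve_right fun h => hKne (top_unique (by
      rw [show f.ker = K.normalCore from (Subgroup.normalCore_eq_ker K).symm] at h
      exact h ▸ K.normalCore_le)))
  have heven : ∀ g, Perm.sign (f g) = 1 := by
    intro g
    rcases (Perm.sign.comp f).normal_ker.eq_bot_or_eq_top with h | h
    · exfalso
      have h1 := Subgroup.card_dvd_of_injective _ ((MonoidHom.ker_eq_bot_iff _).mp h)
      rw [hAc, Nat.card_eq_fintype_card, Fintype.card_units_int] at h1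
      norm_num at h1
    · exact (h.ge (Subgroup.mem_top g) : g ∈ (Perm.sign.comp f).ker)
  let c₀ : (alternatingGroup α) ⧸ K := (1 : (alternatingGroup α))
  have hfix : ∀ k : K, f k c₀ = c₀ := fun k => by
    show (k : (alternatingGroup α)) • ((1 : (alternatingGroup α)) : (alternatingGroup α) ⧸ K) = ((1 : (alternatingGroup α)) : (alternatingGroup α) ⧸ K)
    rw [MulAction.Quotient.smul_coe, smul_eq_mul, mul_one, QuotientGroup.eq, mul_one]
    exact K.inv_mem k.2
  let Θ := {c : (alternatingGroup α) ⧸ K // c ≠ c₀}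
  have hp : ∀ (k : K) (c : (alternatingGroup α) ⧸ K), f k c ≠ c₀ ↔ c ≠ c₀ := fun k c => not_congr
    ⟨fun h => (f k).injective (h.trans (hfix k).symm), fun h => h ▸ hfix k⟩
  let g : K →* alternatingGroup Θ :=
    { toFun := fun k => ⟨(f k).subtypePerm (hp k), by
        rw [Perm.mem_alternatingGroup, ← heven (k : alternatingGroup α)]
        convert Perm.sign_subtypePerm (p := fun c => c ≠ c₀) (f k) (hp k) (fun c hc hc' => hc (by rw [hc']; exact hfix k)) using 3⟩
      map_one' := Subtype.ext (Equiv.ext fun c => Subtype.ext (by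
        show f ((1 : K) : (alternatingGroup α)) c.1 = c.1
        rw [Subgroup.coe_one, map_one]; rfl))
      map_mul' := fun k k' => Subtype.ext (Equiv.ext fun c => Subtype.ext (by
        show f ((k * k' : K) : (alternatingGroup α)) c.1 = f k (f k' c.1)
        rw [Subgroup.coe_mul, map_mul]; rfl)) }
  have hg : Function.Injective g := fun k k' h => Subtype.ext (hinj (Equiv.ext fun c => by
    by_cases hc : c = c₀
    · rw [hc, hfix k, hfix k']
    · exact congrArg Subtype.val (congrArg (fun w : alternatingGroup Θ => (w : Perm Θ) ⟨c, hc⟩) h)))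
  have hΘ : Fintype.card Θ = 5 := by
    rw [Fintype.card_subtype_compl, Fintype.card_subtype_eq, hc6]
  have hKc : Nat.card K = Nat.card (alternatingGroup Θ) := by
    rw [card_alt hΘ (by norm_num)]
    have h := K.card_mul_index
    rw [hK, hAc] at h
    rw [show Nat.factorial 5 / 2 = 60 from rfl]
    omega
  exact ⟨(MulEquiv.ofBijective g ((Nat.bijective_iff_injective_and_card g).mpr ⟨hg, hKc⟩)).trans
    (Equiv.altCongrHom (Fintype.equivFinOfCardEq hΘ))⟩

theorem core (G : Subgroup (Perm α)) (hG : G ≤ alternatingGroup α)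
    (htr : MulAction.IsPretransitive G α) {p q : ℕ} (hp : p.Prime) (hq : q.Prime) (hpq : p < q)
    (hd : Fintype.card α ≤ 2 * p)
    (hsel : (p + 4 ≤ q ∧ (Fintype.card α < 2 * p ∨ q + 3 ≤ 2 * p)) ∨ (p = 3 ∧ q = 5) ∨ (p = 5 ∧ q = 7) ∨
      (p = 11 ∧ q = 13 ∧ Fintype.card α < 22))
    {x y : Perm α} (hx : x ∈ G) (hy : y ∈ G) (hxo : orderOf x = p) (hyo : orderOf y = q) :
    ∃ k : ℕ, 5 ≤ k ∧ Nonempty (G ≃* alternatingGroup (Fin k)) := by
  classical
  obtain ⟨n, hn, hnc, -⟩ := supp_info y hq hyo
  have hyd : y.support.card ≤ Fintype.card α := y.support.card_le_univ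
  have hn0 : n = 0 := by
    by_contra h
    have : 2 * q ≤ (n + 1) * q := Nat.mul_le_mul_right q (by omega)
    omega
  subst hn0
  have hyc := hnc rfl
  rw [zero_add, one_mul] at hn
  have hp2 := hp.two_le
  have hd5 : 5 ≤ Fintype.card α := by omega
  obtain ⟨a, ha⟩ : ∃ a, a ∈ y.support := Finset.card_pos.mp (by omega)
  have hprim : MulAction.IsPreprimitive G α := by
    refine MulAction.IsPreprimitive.of_isTrivialBlock_base a fun {B} haB hB => ?_
    have hmul := hB.ncard_block_mul_ncard_orbit_eq ⟨a, haB⟩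
    rw [Nat.card_eq_fintype_card] at hmul
    set yG : G := ⟨y, hy⟩ with hyG
    by_cases hfix : yG • B = B
    · -- the cycle lies in the block
      have hsub : (y.support : Set α) ⊆ B := by
        intro t ht
        obtain ⟨i, -, rfl⟩ := (hyc.sameCycle (Perm.mem_support.mp ha) (Perm.mem_support.mp ht)).exists_pow_eq'
        clear ht
        induction i with
        | zero => simpa using haB
        | succ i ih =>
          rw [pow_succ', Perm.mul_apply, ← hfix]
          exact ⟨_, ih, rfl⟩
      have hqb : q ≤ B.ncard := by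
        rw [← hn, ← Set.ncard_coe_finset]
        exact Set.ncard_le_ncard hsub
      refine Or.inr (Set.eq_univ_iff_forall.mpr fun t => ?_)
      by_contra ht
      have h1 : B.ncard < Fintype.card α := by
        rw [← Nat.card_eq_fintype_card]
        exact Set.ncard_lt_card fun h => ht (h ▸ Set.mem_univ t)
      have h2 : 2 ≤ (MulAction.orbit G B).ncard := by
        by_contra h
        have := Nat.mul_le_mul (le_refl B.ncard) (show (MulAction.orbit G B).ncard ≤ 1 by omega)
        omega
      have := Nat.mul_le_mul hqb h2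
      omega
    · -- many blocks
      left
      by_contra hsub
      rw [Set.not_subsingleton_iff] at hsub
      have h2 : 2 ≤ B.ncard := (Set.one_lt_ncard_iff_nontrivial).mpr hsub
      have h3 : q ≤ (MulAction.orbit G B).ncard := by
        have h4 : ∀ i j : ℕ, i < j → j < q → yG ^ i • B ≠ yG ^ j • B := by
          intro i j hij hj h
          obtain ⟨k, rfl⟩ := Nat.exists_eq_add_of_le hij.le
          rw [pow_add, mul_smul, smul_left_cancel_iff] at h
          have hk : ¬ q ∣ k := fun hd => by have := Nat.le_of_dvd (by omega) hd; omega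
          obtain ⟨c, hc⟩ := exists_pow_eq_self_of_coprime (x := yG) (n := k) (by
            rw [← Subgroup.orderOf_coe, hyo]; exact (hq.coprime_iff_not_dvd.mpr hk).symm)
          apply hfix
          rw [← hc]
          have : yG ^ k ∈ MulAction.stabilizer G B := h.symm
          exact pow_mem this c
        have h5 : Function.Injective fun i : Fin q =>
            (⟨yG ^ (i : ℕ) • B, MulAction.mem_orbit B _⟩ : MulAction.orbit G B) := fun i j h => by
          rcases lt_trichotomy (i : ℕ) j with h' | h' | h'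
          · exact absurd (congrArg Subtype.val h) (h4 i j h' j.2)
          · exact Fin.ext h'
          · exact absurd (congrArg Subtype.val h).symm (h4 j i h' i.2)
        have := Nat.card_le_card_of_injective _ h5
        rwa [Nat.card_eq_fintype_card, Fintype.card_fin, Nat.card_coe_set_eq] at this
      have := Nat.mul_le_mul h2 h3
      omega
  obtain ⟨e, he, hec, -⟩ := supp_info x hp hxo
  have hxd : x.support.card ≤ Fintype.card α := x.support.card_le_univ
  have he1 : e ≤ 1 := by
    by_contra h
    have : 3 * p ≤ (e + 1) * p := Nat.mul_le_mul_right p (by omega)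
    omega
  have done : G = alternatingGroup α → ∃ k : ℕ, 5 ≤ k ∧ Nonempty (G ≃* alternatingGroup (Fin k)) :=
    fun h => ⟨_, hd5, iso_alt G h⟩
  have hjor : ∀ {r : ℕ} {g : Perm α}, r.Prime → r + 3 ≤ Fintype.card α → g.IsCycle → g.support.card = r → g ∈ G →
      G = alternatingGroup α := fun hr hr3 hgc hgs hgG =>
    le_antisymm hG (Cfsg.Agent.S0713.result G hprim hr hd5 hr3 hgc hgs hgG)
  have hqG : q ∣ Nat.card G := by rw [← hyo]; exact G.orderOf_dvd_natCard hy
  have hpG : p ∣ Nat.card G := by rw [← hxo]; exact G.orderOf_dvd_natCard hx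
  have hdG : Fintype.card α ∣ Nat.card G := by
    rw [← (MulAction.stabilizer G a).index_mul_card, Subgroup.index,
      ← Nat.card_congr (MulAction.orbitEquivQuotientStabilizer G a), MulAction.orbit_eq_univ, Nat.card_univ,
      Nat.card_eq_fintype_card]
    exact dvd_mul_right _ _
  have hAK : Nat.card G * (G.subgroupOf (alternatingGroup α)).index = Nat.card (alternatingGroup α) := by
    rw [← Nat.card_congr (Subgroup.subgroupOfEquivOfLe hG).toEquiv, Subgroup.card_mul_index]
  have hqA : q ∣ Nat.card (alternatingGroup α) := hqG.trans (Dvd.intro _ hAK)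
  -- the six point case
  by_cases hsix : e = 1 ∧ p = 3 ∧ q = 5
  · obtain ⟨rfl, rfl, rfl⟩ := hsix
    have hd6 : Fintype.card α = 6 := by omega
    rw [hd6] at hdG
    have h30 : 30 ∣ Nat.card G := (by norm_num : Nat.Coprime 6 5).mul_dvd_of_dvd_of_dvd hdG hqG
    rw [card_alt hd6 (by norm_num), show Nat.factorial 6 / 2 = 360 from rfl] at hAK
    obtain ⟨t, ht⟩ := h30
    rw [ht, mul_assoc, show (360 : ℕ) = 30 * 12 from rfl] at hAK
    have h12 : t * (G.subgroupOf (alternatingGroup α)).index = 12 := Nat.eq_of_mul_eq_mul_left (by norm_num) hAK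
    have hdvd : (G.subgroupOf (alternatingGroup α)).index ∣ 12 := Dvd.intro_left _ h12
    rcases Nat.lt_or_ge (G.subgroupOf (alternatingGroup α)).index 5 with h | h
    · exact done (eq_alt G hG hd5 hq hqA h)
    have hle := Nat.le_of_dvd (by norm_num) hdvd
    have hcases : (G.subgroupOf (alternatingGroup α)).index = 6 ∨ (G.subgroupOf (alternatingGroup α)).index = 12 := by
      interval_cases (G.subgroupOf (alternatingGroup α)).index <;> omega
    rcases hcases with h6 | h6
    · obtain ⟨ε⟩ := iso_five _ hd6 h6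
      exact ⟨5, le_rfl, ⟨(Subgroup.subgroupOfEquivOfLe hG).symm.trans ε⟩⟩
    · exfalso
      rw [h6] at h12
      have ht1 : t = 1 := by omega
      exact no_sharp G Finset.univ (p := 5) (r₁ := 2) (r₂ := 3) hq (by norm_num) (by norm_num) (by norm_num)
        (by norm_num) (by norm_num) (by rw [Finset.card_univ, hd6]) (by rw [ht, ht1])
        (fun g _ t ht' => absurd (Finset.mem_univ t) ht')
        (fun c _ d _ => by obtain ⟨g, hg⟩ := htr.exists_smul_eq c d; exact ⟨g, g.2, hg⟩) hy hyo hn
  rcases Nat.lt_or_ge 0 e with he0 | he0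
  · -- a double cycle
    have : e = 1 := by omega
    subst this
    exact done (hjor hq (by omega) hyc hn hy)
  have : e = 0 := by omega
  subst this
  have hxc := hec rfl
  rw [zero_add, one_mul] at he
  by_cases hbig : p + 3 ≤ Fintype.card α
  · exact done (hjor hp hbig hxc he hx)
  have hcases : (p = 3 ∧ q = 5) ∨ (p = 5 ∧ q = 7) ∨ (p = 11 ∧ q = 13) := by omega
  rcases hcases with ⟨rfl, rfl⟩ | ⟨rfl, rfl⟩ | ⟨rfl, rfl⟩
  · have hd' : Fintype.card α = 5 := by omega
    have h15 : 15 ∣ Nat.card G := (by norm_num : Nat.Coprime 3 5).mul_dvd_of_dvd_of_dvd hpG hqG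
    obtain ⟨t, ht⟩ := h15
    rw [ht, card_alt hd' (by norm_num), mul_assoc, show Nat.factorial 5 / 2 = 15 * 4 from rfl] at hAK
    have h4 := Nat.eq_of_mul_eq_mul_left (by norm_num) hAK
    have := Nat.le_of_dvd (by norm_num) (Dvd.intro_left _ h4)
    exact done (eq_alt G hG hd5 hq hqA (by omega))
  · have hd' : Fintype.card α = 7 := by omega
    obtain ⟨a', b', hab, -⟩ := Finset.card_eq_two.mp (show (x.supportᶜ).card = 2 by
      rw [Finset.card_compl, he, hd'])
    have h3 := three_trans G hp (by norm_num) hd' hprim hx hxc he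
    obtain ⟨hGc, hac, htra⟩ := card_three_trans G h3 hab (by omega)
    rw [hd'] at hGc hac
    rw [hac, ← mul_assoc, show (7 : ℕ) * (7 - 1) = 42 from rfl] at hGc
    have h5 : 5 ∣ Nat.card (fixS G {b', a'}) := by
      have h := hpG
      rw [hGc] at h
      exact ((Nat.prime_five).dvd_mul.mp h).resolve_left (by norm_num)
    obtain ⟨t, ht⟩ := h5
    rw [hGc, ht, card_alt hd' (by norm_num), ← mul_assoc, mul_assoc, show Nat.factorial 7 / 2 = 42 * 5 * 12 from rfl] at hAK
    have h12 := Nat.eq_of_mul_eq_mul_left (by norm_num) hAK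
    have hdvd : (G.subgroupOf (alternatingGroup α)).index ∣ 12 := Dvd.intro_left _ h12
    rcases Nat.lt_or_ge (G.subgroupOf (alternatingGroup α)).index 7 with h | h
    · exact done (eq_alt G hG hd5 hq hqA h)
    exfalso
    have hle := Nat.le_of_dvd (by norm_num) hdvd
    have hi : (G.subgroupOf (alternatingGroup α)).index = 12 := by
      interval_cases (G.subgroupOf (alternatingGroup α)).index <;> omega
    rw [hi] at h12
    have ht1 : t = 1 := by omega
    obtain ⟨z, hz1, hz2⟩ : ∃ z ∈ fixS G {b', a'}, orderOf z = 5 := by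
      have := Fact.mk Nat.prime_five
      obtain ⟨z, hz⟩ := exists_prime_orderOf_dvd_card' (G := fixS G {b', a'}) 5 (by rw [ht]; exact dvd_mul_right _ _)
      exact ⟨z, z.2, by rw [Subgroup.orderOf_coe, hz]⟩
    obtain ⟨k, hk, -, -⟩ := supp_info z Nat.prime_five hz2
    have hk7 : z.support.card ≤ 7 := hd' ▸ z.support.card_le_univ
    refine no_sharp (fixS G {a'}) (Finset.univ.erase a') (p := 5) (r₁ := 2) (r₂ := 3) hp (by norm_num) (by norm_num)
      (by norm_num) (by norm_num) (by norm_num) (by simp [hd']) (by rw [hac, ht, ht1])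
      (fun g hg t ht => (mem_fixS.mp hg).2 t (by simpa using ht)) htra
      (mem_fixS.mpr ⟨(mem_fixS.mp hz1).1, fun t ht => (mem_fixS.mp hz1).2 t (by simp_all)⟩) hz2 (by omega)
  · exact done (le_antisymm hG (degree13 G (by omega) hG hprim hx hxo hxc))

/-- Let m ≥ 5. Then there are primes p < q with m/2 ≤ p and q ≤ m such that any two elements x, y of the alternating group of degree m with x of order p and y of order q generate a subgroup isomorphic to an alternating group of some degree d ≥ 5. -/
theorem result (m : ℕ) (hm : 5 ≤ m) :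
    ∃ p q : ℕ, p.Prime ∧ q.Prime ∧ m ≤ 2 * p ∧ p < q ∧ q ≤ m ∧
      ∀ x y : alternatingGroup (Fin m), orderOf x = p → orderOf y = q →
        ∃ d : ℕ, 5 ≤ d ∧ Nonempty (Subgroup.closure ({x, y} : Set (alternatingGroup (Fin m))) ≃* alternatingGroup (Fin d)) := by
  classical
  obtain ⟨p, q, hp, hq, hmp, hpq, hqm, hsel⟩ := CfsgLib.ThreePrimes.exists_pair m hm
  refine ⟨p, q, hp, hq, hmp, hpq, hqm, fun x y hx hy => ?_⟩
  set H := Subgroup.closure ({x, y} : Set (alternatingGroup (Fin m)))
  set xp : Perm (Fin m) := ↑x with hxp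
  set yp : Perm (Fin m) := ↑y with hyp
  have hxo : orderOf xp = p := by rw [hxp, Subgroup.orderOf_coe, hx]
  have hyo : orderOf yp = q := by rw [hyp, Subgroup.orderOf_coe, hy]
  obtain ⟨n, hn, hnc, -⟩ := supp_info yp hq hyo
  have hym : yp.support.card ≤ m := by simpa using yp.support.card_le_univ
  have hn0 : n = 0 := by
    by_contra h
    have : 2 * q ≤ (n + 1) * q := Nat.mul_le_mul_right q (by omega)
    omega
  subst hn0
  have hyc := hnc rfl
  rw [zero_add, one_mul] at hn
  set S := xp.support ∪ yp.support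
  have hfix : ∀ g ∈ H, ∀ i, i ∉ S → (g : Perm (Fin m)) i = i := by
    intro g hg i hi
    simp only [S, Finset.mem_union, Perm.mem_support, not_or, not_not] at hi
    induction hg using Subgroup.closure_induction with
    | mem g hg => rcases hg with rfl | rfl
                  · exact hi.1
                  · exact hi.2
    | one => rfl
    | mul g h _ _ ihg ihh => rw [Subgroup.coe_mul, Perm.mul_apply, ihh, ihg]
    | inv g _ ih => rw [Subgroup.coe_inv, Perm.inv_eq_iff_eq, ih]
  have hpres : ∀ (g : H) (i : Fin m), ((g : alternatingGroup (Fin m)) : Perm (Fin m)) i ∈ S ↔ i ∈ S := by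
    intro g i
    by_cases hi : i ∈ S
    · refine iff_of_true ?_ hi
      by_contra h
      exact h (by rw [Equiv.injective _ (hfix _ g.2 _ h)]; exact hi)
    · rw [hfix _ g.2 i hi]
  let ρ : H →* Perm {i // i ∈ S} :=
    { toFun := fun g => ((g : alternatingGroup (Fin m)) : Perm (Fin m)).subtypePerm (hpres g)
      map_one' := Equiv.ext fun c => rfl
      map_mul' := fun g h => Equiv.ext fun c => rfl }
  have hρ : Function.Injective ρ := fun g h e => Subtype.ext (Subtype.ext (Equiv.ext fun i => by
    by_cases hi : i ∈ S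
    · exact congrArg Subtype.val (congrArg (fun w : Perm {i // i ∈ S} => w ⟨i, hi⟩) e)
    · rw [hfix _ g.2 i hi, hfix _ h.2 i hi]))
  have hG : ρ.range ≤ alternatingGroup {i // i ∈ S} := by
    rintro _ ⟨g, rfl⟩
    rw [Perm.mem_alternatingGroup]
    show Perm.sign (((g : alternatingGroup (Fin m)) : Perm (Fin m)).subtypePerm (hpres g)) = 1
    rw [← Perm.mem_alternatingGroup.mp (g : alternatingGroup (Fin m)).2]
    convert Perm.sign_subtypePerm (p := fun i => i ∈ S) _ (hpres g) (fun i hi => by_contra fun h => hi (hfix _ g.2 i h)) using 3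
  set xH : H := ⟨x, Subgroup.subset_closure (by simp)⟩
  set yH : H := ⟨y, Subgroup.subset_closure (by simp)⟩
  obtain ⟨a, ha⟩ : ∃ a, a ∈ yp.support := Finset.card_pos.mp (by have := hq.two_le; omega)
  have haS : a ∈ S := Finset.mem_union_right _ ha
  -- everything is reached from `a`
  have hreach : ∀ i, i ∈ S → ∃ g : H, ((g : alternatingGroup (Fin m)) : Perm (Fin m)) a = i := by
    have hy' : ∀ i ∈ yp.support, ∃ g : H, ((g : alternatingGroup (Fin m)) : Perm (Fin m)) a = i := fun i hi => by
      obtain ⟨k, hk⟩ := hyc.sameCycle (Perm.mem_support.mp ha) (Perm.mem_support.mp hi)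
      exact ⟨yH ^ k, by simpa [yH, hyp] using hk⟩
    intro i hi
    rcases Finset.mem_union.mp hi with h | h
    · have hO : ((Finset.range p).image fun k => (xp ^ k) i).card = p := by
        rw [Finset.card_image_of_injOn, Finset.card_range]
        intro k hk l hl hkl
        exact free_pow hp hxo (Perm.mem_support.mp h) (Finset.mem_range.mp hk) (Finset.mem_range.mp hl) hkl
      obtain ⟨j, hj1, hj2⟩ : ∃ j, j ∈ ((Finset.range p).image fun k => (xp ^ k) i) ∧ j ∈ yp.support := by
        by_contra hno
        push Not at hno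
        have := (((Finset.range p).image fun k => (xp ^ k) i) ∪ yp.support).card_le_univ
        rw [Finset.card_union_of_disjoint (Finset.disjoint_left.mpr hno), hO, hn, Fintype.card_fin] at this
        omega
      obtain ⟨g, hg⟩ := hy' j hj2
      obtain ⟨k, -, rfl⟩ := Finset.mem_image.mp hj1
      refine ⟨(xH ^ k)⁻¹ * g, ?_⟩
      simp only [Subgroup.coe_mul, Subgroup.coe_inv, Subgroup.coe_pow, Perm.mul_apply, xH, ← hxp]
      rw [hg, Perm.inv_eq_iff_eq]
    · exact hy' i h
  have htr : MulAction.IsPretransitive ρ.range {i // i ∈ S} := by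
    refine ⟨fun c d => ?_⟩
    obtain ⟨g, hg⟩ := hreach c c.2
    obtain ⟨h, hh⟩ := hreach d d.2
    refine ⟨⟨ρ (h * g⁻¹), ⟨_, rfl⟩⟩, Subtype.ext ?_⟩
    show (((h * g⁻¹ : H) : alternatingGroup (Fin m)) : Perm (Fin m)) c.1 = d.1
    rw [Subgroup.coe_mul, Subgroup.coe_mul, Perm.mul_apply, Subgroup.coe_inv, Subgroup.coe_inv,
      Perm.inv_eq_iff_eq.mpr hg.symm, hh]
  have hS : Fintype.card {i // i ∈ S} ≤ m := by simpa using S.card_le_univ
  obtain ⟨k, hk, ⟨ε⟩⟩ := core ρ.range hG htr hp hq hpq (hS.trans hmp) (by omega) (x := ρ xH) (y := ρ yH) ⟨_, rfl⟩ ⟨_, rfl⟩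
    (by rw [orderOf_injective ρ hρ, ← hx, Subgroup.orderOf_mk])
    (by rw [orderOf_injective ρ hρ, ← hy, Subgroup.orderOf_mk])
  exact ⟨k, hk, ⟨(MonoidHom.ofInjective hρ).trans ε⟩⟩

end Cfsg.Agent.S4150
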