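import Cfsg.Statements.S4151
import Mathlib
import Cfsg.Agent.Lib.TIHall.FixedPoints
-- import your own Cfsg.Agent.* helpers here

set_option autoImplicit false
open Cfsg

namespace Cfsg.Agent.S4151

open scoped IsMulCommutative Pointwise commutatorElement

/-- Let G be a finite group and H a non-normal subgroup meeting each of its conjugates by elements outside N_G(H) trivially, with the order of H coprime to its index in N_G(H), such that G is π-separable for π the set of primes dividing the order of H (G has a chain of normal subgroups from 1 to G each of whose factors has order divisible only by primes dividing the order of H or coprime to it). Suppose a Sylow 2-subgroup of H is abelian and Q is a complement of H in N_G(H). Then C_H(Q), the subgroup of elements of H commuting with Q, has order coprime to its index in G and has a normal complement in G. -/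
theorem result {G : Type*} [Group G] [Finite G] (H : Subgroup G)
    (hTI : Cfsg.IsTISubset (H : Set G)) (hnn : ¬ H.Normal)
    (hHall : (Nat.card H).Coprime (H.subgroupOf (Subgroup.normalizer (H : Set G))).index)
    (hsep : ∃ (n : ℕ) (M : Fin (n + 1) → Subgroup G), M 0 = ⊥ ∧ M (Fin.last n) = ⊤ ∧ Monotone M ∧ (∀ i, (M i).Normal) ∧
      ∀ i : Fin n, (∀ q : ℕ, q.Prime → q ∣ (M i.castSucc).relIndex (M i.succ) → q ∣ Nat.card H) ∨
        ((M i.castSucc).relIndex (M i.succ)).Coprime (Nat.card H))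
    (h2 : ∀ P : Sylow 2 H, IsMulCommutative (P : Subgroup H))
    (Q : Subgroup G) (hQ : Q ≤ Subgroup.normalizer (H : Set G)) (hQH : Q ⊓ H = ⊥) (hQH' : Q ⊔ H = Subgroup.normalizer (H : Set G)) :
    (Nat.card ↥(H ⊓ Subgroup.centralizer (Q : Set G))).Coprime (H ⊓ Subgroup.centralizer (Q : Set G)).index ∧
    ∃ N : Subgroup G, N.Normal ∧ N.IsComplement' (H ⊓ Subgroup.centralizer (Q : Set G)) := by
  set N := Subgroup.normalizer (H : Set G) with hN
  set C := H ⊓ Subgroup.centralizer (Q : Set G) with hC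
  obtain ⟨O, hOdef⟩ : ∃ O : Subgroup G, O = sSup {K : Subgroup G | K.Normal ∧ (Nat.card K).Coprime (Nat.card H)} :=
    ⟨_, rfl⟩
  obtain ⟨hOn, hOc, hOmax⟩ := CfsgLib.TIHall.pPrimeRadical_spec (H := H) O hOdef
  have hsup := CfsgLib.TIHall.sup_normalizer_eq_top hTI hHall hsep O hOn hOc hOmax
  have hHidx := CfsgLib.TIHall.coprime_index hTI hHall
  have hHZ : IsZGroup H := CfsgLib.TIHall.isZGroup_of_abelian_cyclic (fun A hA => by
    have := hA
    have := CfsgLib.TIHall.isCyclic_of_le hTI O hOn hOc hsup hnn (A.map H.subtype) (Subgroup.map_subtype_le A)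
    exact isCyclic_of_surjective _ (Subgroup.equivMapOfInjective A _ H.subtype_injective).symm.surjective) h2
  -- the order of `Q` is prime to that of `H`
  have hQc : (Nat.card Q).Coprime (Nat.card H) := by
    have hn : (H.subgroupOf N).Normal := Subgroup.normal_in_normalizer
    have h1 := Subgroup.relIndex_sup_right (Q.subgroupOf N) (H.subgroupOf N)
    rw [← Subgroup.subgroupOf_sup hQ Subgroup.le_normalizer, hQH', Subgroup.subgroupOf_self,
      Subgroup.relIndex_top_right, ← Subgroup.inf_relIndex_right (H.subgroupOf N)] at h1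
    rw [show H.subgroupOf N ⊓ Q.subgroupOf N = ⊥ by
      rw [eq_bot_iff]; rintro x ⟨hx1, hx2⟩
      exact Subgroup.mem_bot.mpr (Subtype.ext ((Subgroup.eq_bot_iff_forall _).mp hQH x ⟨hx2, hx1⟩)),
      Subgroup.relIndex_bot_left, Nat.card_congr (Subgroup.subgroupOfEquivOfLe hQ).toEquiv] at h1
    rw [← h1]; exact hHall.symm
  have hCH : C ≤ H := inf_le_left
  have hCdvd : Nat.card C ∣ Nat.card H := Subgroup.card_dvd_of_le hCH
  -- for a prime divisor of `|C|` a Sylow subgroup of `H` lies in `C`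
  have hCsyl : ∀ p : ℕ, [Fact p.Prime] → p ∣ Nat.card C →
      ∃ P : Sylow p H, (P : Subgroup H).map H.subtype ≤ C := by
    intro p _ hp
    obtain ⟨⟨x, hxH, hxQ⟩, hx⟩ := exists_prime_orderOf_dvd_card' p hp
    rw [← Subgroup.orderOf_coe] at hx
    obtain ⟨P, -, hP⟩ := CfsgLib.TIHall.exists_fixed_sylow hQ hQc hxH hxQ hx
    exact ⟨P, le_inf (Subgroup.map_subtype_le _) hP⟩
  refine ⟨Nat.coprime_of_dvd fun p hp hpC hpi => ?_, ?_⟩
  · have := Fact.mk hp
    rw [← Subgroup.relIndex_mul_index hCH] at hpi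
    rcases hp.dvd_mul.mp hpi with h | h
    · obtain ⟨P, hP⟩ := hCsyl p hpC
      refine P.not_dvd_index (h.trans (Subgroup.index_dvd_of_le ?_))
      exact fun y hy => hP ⟨y, hy, rfl⟩
    · exact hp.not_dvd_one (hHidx ▸ Nat.dvd_gcd (hpC.trans hCdvd) h)
  set M := ⁅H, Q⁆ with hM
  have hMH : M ≤ H := CfsgLib.commutator_le_of_le_normalizer hQ
  have hdis : C ⊓ M = ⊥ := CfsgLib.TIHall.fixed_inf_commutator hQ hQc
  have hHM : H ≤ Subgroup.normalizer (M : Set G) := CfsgLib.left_le_normalizer_commutator Q H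
  have hQM : Q ≤ Subgroup.normalizer (M : Set G) := CfsgLib.right_le_normalizer_commutator Q H
  have hMc : (Nat.card C).Coprime (Nat.card M) := Nat.coprime_of_dvd fun p hp hpC hpM => by
    have := Fact.mk hp
    obtain ⟨P, hP⟩ := hCsyl p hpC
    obtain ⟨y, hy⟩ := exists_prime_orderOf_dvd_card' p hpM
    have hyH : IsPGroup p (Subgroup.zpowers (⟨(y : G), hMH y.2⟩ : H)) :=
      IsPGroup.of_card (n := 1) (by
        rw [Nat.card_zpowers, pow_one, Subgroup.orderOf_mk, Subgroup.orderOf_coe, hy])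
    obtain ⟨S, hS⟩ := hyH.exists_le_sylow
    obtain ⟨h, rfl⟩ := MulAction.exists_smul_eq H P S
    have hm := hS (Subgroup.mem_zpowers _)
    rw [Sylow.coe_subgroup_smul, Subgroup.mem_pointwise_smul_iff_inv_smul_mem, MulAut.smul_def,
      MulAut.conj_inv_apply] at hm
    have h1 : (h : G)⁻¹ * (y : G) * h ∈ C := hP ⟨_, hm, rfl⟩
    have h2 : (h : G)⁻¹ * (y : G) * h ∈ M := by
      simpa using (Subgroup.mem_normalizer_iff.mp (hHM (inv_mem h.2)) (y : G)).mp y.2
    have h3 : (h : G)⁻¹ * (y : G) * h = 1 := (Subgroup.eq_bot_iff_forall _).mp hdis _ ⟨h1, h2⟩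
    have h4 : (y : G) = 1 := by
      calc (y : G) = h * ((h : G)⁻¹ * (y : G) * h) * (h : G)⁻¹ := by group
        _ = 1 := by rw [h3]; group
    rw [← Subgroup.orderOf_coe, h4, orderOf_one] at hy
    exact hp.one_lt.ne hy
  have hHMQ : H ≤ Subgroup.normalizer ((M ⊔ Q : Subgroup G) : Set G) := by
    refine CfsgLib.TIHall.le_normalizer_sup (fun h hh x hx => ?_) (fun h hh q hq => ?_)
    · exact Subgroup.mem_sup_left ((Subgroup.mem_normalizer_iff.mp (hHM hh) x).mp hx)
    · rw [show h * q * h⁻¹ = ⁅h, q⁆ * q by rw [commutatorElement_def, inv_mul_cancel_right]]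
      exact Subgroup.mul_mem_sup (Subgroup.commutator_mem_commutator hh hq) hq
  set K := O ⊔ (M ⊔ Q) with hK
  have hKC : C ⊔ K = ⊤ := by
    rw [eq_top_iff, ← hsup, ← hN, ← hQH']
    refine sup_le (le_sup_left.trans le_sup_right) (sup_le (le_sup_right.trans le_sup_right |>.trans le_sup_right) ?_)
    refine (CfsgLib.coprime_commutator_sup hQ hQc (Or.inr inferInstance)).ge.trans (sup_le ?_ le_sup_left)
    exact (le_sup_left.trans le_sup_right).trans le_sup_right
  have hKn : K.Normal := by
    rw [← Subgroup.normalizer_eq_top_iff, eq_top_iff, ← hKC]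
    refine sup_le ?_ Subgroup.le_normalizer
    refine hCH.trans (CfsgLib.TIHall.le_normalizer_sup (fun h _ x hx => ?_) (fun h hh x hx => ?_))
    · exact Subgroup.mem_sup_left (hOn.conj_mem x hx h)
    · exact Subgroup.mem_sup_right ((Subgroup.mem_normalizer_iff.mp (hHMQ hh) x).mp hx)
  have hKc : (Nat.card K).Coprime (Nat.card C) := by
    have h1 : M ⊔ Q ≤ Subgroup.normalizer (O : Set G) := by
      rw [Subgroup.normalizer_eq_top_iff.mpr hOn]; exact le_top
    have h2 : Nat.card (O ⊔ (M ⊔ Q) : Subgroup G) ∣ Nat.card (M ⊔ Q : Subgroup G) * Nat.card O := by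
      rw [sup_comm]; exact CfsgLib.TIHall.card_sup_dvd_of_le_normalizer h1
    have h3 : Nat.card (M ⊔ Q : Subgroup G) ∣ Nat.card Q * Nat.card M := by
      rw [sup_comm]; exact CfsgLib.TIHall.card_sup_dvd_of_le_normalizer hQM
    refine Nat.Coprime.coprime_dvd_left (h2.trans (Nat.mul_dvd_mul_right h3 _)) ?_
    exact ((hQc.coprime_dvd_right hCdvd).mul_left hMc.symm).mul_left (hOc.coprime_dvd_right hCdvd)
  refine ⟨K, hKn, Subgroup.isComplement'_of_disjoint_and_mul_eq_univ ?_ ?_⟩
  · exact disjoint_iff.mpr (Subgroup.inf_eq_bot_of_coprime hKc)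
  · rw [← Subgroup.normal_mul, sup_comm, hKC, Subgroup.coe_top]

end Cfsg.Agent.S4151
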