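import Cfsg.Statements.S4153
import Mathlib
-- import your own Cfsg.Agent.* helpers here

set_option autoImplicit false
open Cfsg

namespace Cfsg.Agent.S4153

open scoped Pointwise

/-- Let G be a finite group, p a prime, N a normal subgroup, P a Sylow p-subgroup of G and P̄ a Sylow p-subgroup of G/N. Count the elements of p-power order, the identity included. Then (number of such elements of G/N)/#P̄ ≤ (number of such elements of G)/#P, stated as a cross-multiplied inequality, with equality when N is central. -/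
theorem result {G : Type*} [Group G] [Finite G] (p : ℕ) [Fact p.Prime] (N : Subgroup G) [N.Normal]
    (P : Sylow p G) (Pbar : Sylow p (G ⧸ N)) :
    Nat.card {g : (G ⧸ N) // ∃ k : ℕ, orderOf g = p ^ k} * Nat.card (P : Subgroup G) ≤ Nat.card {g : G // ∃ k : ℕ, orderOf g = p ^ k} * Nat.card (Pbar : Subgroup (G ⧸ N)) ∧
    (N ≤ Subgroup.center G → Nat.card {g : (G ⧸ N) // ∃ k : ℕ, orderOf g = p ^ k} * Nat.card (P : Subgroup G) = Nat.card {g : G // ∃ k : ℕ, orderOf g = p ^ k} * Nat.card (Pbar : Subgroup (G ⧸ N))) := by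
  classical
  have hp : p.Prime := Fact.out
  set π := QuotientGroup.mk' N with hπ
  set m := p ^ (Nat.card N).factorization p with hm
  have hcard : Nat.card (P : Subgroup G) = Nat.card (Pbar : Subgroup (G ⧸ N)) * m := by
    rw [Sylow.card_eq_multiplicity, Sylow.card_eq_multiplicity, hm, ← pow_add]
    congr 1
    rw [← Finsupp.add_apply, ← Nat.factorization_mul Nat.card_pos.ne' Nat.card_pos.ne', ← N.card_eq_card_quotient_mul_card_subgroup]
  have hlift : ∀ q : {g : (G ⧸ N) // ∃ k : ℕ, orderOf g = p ^ k}, ∃ (S : Sylow p G) (g : G), g ∈ (S : Subgroup G) ∧ π g = q.1 := by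
    rintro ⟨q, k, hk⟩
    have hz : IsPGroup p (Subgroup.zpowers q) := IsPGroup.of_card (by rw [Nat.card_zpowers, hk])
    obtain ⟨T, hT⟩ := hz.exists_le_sylow
    obtain ⟨S₀⟩ : Nonempty (Sylow p G) := inferInstance
    obtain ⟨c, hc⟩ := MulAction.exists_smul_eq (G ⧸ N) (S₀.mapSurjective (QuotientGroup.mk'_surjective N)) T
    obtain ⟨b, rfl⟩ := QuotientGroup.mk'_surjective N c
    have hq := hT (Subgroup.mem_zpowers q)
    rw [← hc, Sylow.coe_subgroup_smul, Subgroup.mem_pointwise_smul_iff_inv_smul_mem, MulAut.smul_def,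
      MulAut.inv_def, MulAut.conj_symm_apply, Sylow.coe_mapSurjective, Subgroup.mem_map] at hq
    obtain ⟨v, hv, hve⟩ := hq
    refine ⟨b • S₀, b * v * b⁻¹, ?_, ?_⟩
    · rw [Sylow.coe_subgroup_smul]
      exact Subgroup.smul_mem_pointwise_smul v (MulAut.conj b) _ hv
    · rw [hπ, map_mul, map_mul, map_inv, hve]; group
  choose S g hgS hgq using hlift
  have hSN : ∀ T : Sylow p G, m ≤ Nat.card ↥((T : Subgroup G) ⊓ N) := by
    intro T
    have h1 := Subgroup.relIndex_mul_relIndex ⊥ ((T : Subgroup G) ⊓ N) (T : Subgroup G) bot_le inf_le_left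
    have h2 := Subgroup.relIndex_ker (f := π) (K := (T : Subgroup G))
    rw [QuotientGroup.ker_mk'] at h2
    rw [Subgroup.relIndex_bot_left, Subgroup.relIndex_bot_left, Subgroup.inf_relIndex_left, h2,
      Sylow.card_eq_multiplicity T, ← Sylow.card_eq_multiplicity P, hcard] at h1
    have h3 : Nat.card ((T : Subgroup G).map π) ≤ Nat.card (Pbar : Subgroup (G ⧸ N)) := by
      obtain ⟨U, hU⟩ := (T.isPGroup'.map π).exists_le_sylow
      refine (Subgroup.card_le_of_le hU).trans (le_of_eq ?_)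
      rw [Sylow.card_eq_multiplicity, Sylow.card_eq_multiplicity]
    refine Nat.le_of_mul_le_mul_left (?_ : Nat.card (Pbar : Subgroup (G ⧸ N)) * m ≤ Nat.card (Pbar : Subgroup (G ⧸ N)) * Nat.card ↥((T : Subgroup G) ⊓ N)) (Nat.card_pos (α := (Pbar : Subgroup (G ⧸ N))))
    rw [← h1, mul_comm]
    exact Nat.mul_le_mul_right _ h3
  let F : (Σ q : {g : (G ⧸ N) // ∃ k : ℕ, orderOf g = p ^ k}, ↥((S q : Subgroup G) ⊓ N)) →
      {g : G // ∃ k : ℕ, orderOf g = p ^ k} := fun x => ⟨g x.1 * x.2.1, by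
    obtain ⟨k, hk⟩ := IsPGroup.iff_orderOf.mp (S x.1).isPGroup'
      ⟨_, mul_mem (hgS x.1) (Subgroup.mem_inf.mp x.2.2).1⟩
    exact ⟨k, by rwa [Subgroup.orderOf_mk] at hk⟩⟩
  have hF : Function.Injective F := by
    rintro ⟨q, u, hu⟩ ⟨r, v, hv⟩ h
    have h' : g q * u = g r * v := congrArg Subtype.val h
    have h2 := congrArg π h'
    rw [map_mul, map_mul, hgq, hgq, show π u = 1 from (QuotientGroup.eq_one_iff u).mpr (Subgroup.mem_inf.mp hu).2,
      show π v = 1 from (QuotientGroup.eq_one_iff v).mpr (Subgroup.mem_inf.mp hv).2, mul_one, mul_one] at h2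
    obtain rfl := Subtype.ext h2
    obtain rfl := mul_left_cancel h'
    rfl
  have := Fintype.ofFinite {g : (G ⧸ N) // ∃ k : ℕ, orderOf g = p ^ k}
  have hsum : Nat.card {g : (G ⧸ N) // ∃ k : ℕ, orderOf g = p ^ k} * m ≤
      Nat.card (Σ q : {g : (G ⧸ N) // ∃ k : ℕ, orderOf g = p ^ k}, ↥((S q : Subgroup G) ⊓ N)) := by
    rw [Nat.card_sigma, Nat.card_eq_fintype_card, ← Finset.card_univ, ← smul_eq_mul, ← Finset.sum_const]
    exact Finset.sum_le_sum fun q _ => hSN _
  refine ⟨?_, fun hc => ?_⟩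
  · rw [hcard, mul_left_comm, mul_comm _ (Nat.card (Pbar : Subgroup (G ⧸ N)))]
    exact Nat.mul_le_mul_left _ (hsum.trans (Nat.card_le_card_of_injective F hF))
  · have hsurj : Function.Surjective F := by
      rintro ⟨h, k, hk⟩
      have hq : ∃ i : ℕ, orderOf (π h) = p ^ i := by
        obtain ⟨i, -, hi⟩ := (Nat.dvd_prime_pow hp).mp (hk ▸ orderOf_map_dvd π h)
        exact ⟨i, hi⟩
      set q : {g : (G ⧸ N) // ∃ k : ℕ, orderOf g = p ^ k} := ⟨π h, hq⟩
      have hu : (g q)⁻¹ * h ∈ N := (QuotientGroup.eq_one_iff _).mp (show π ((g q)⁻¹ * h) = 1 by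
        rw [map_mul, map_inv, hgq]; exact inv_mul_cancel _)
      set u := (g q)⁻¹ * h with hu'
      have hcom : ∀ w, Commute w u := fun w => Subgroup.mem_center_iff.mp (hc hu) w
      obtain ⟨j, hj⟩ := IsPGroup.iff_orderOf.mp (S q).isPGroup' ⟨_, hgS q⟩
      rw [Subgroup.orderOf_mk] at hj
      have hcg : Commute (g q)⁻¹ h := by
        have := (hcom (g q))
        have e : h = g q * u := by rw [hu']; group
        rw [e]
        exact (Commute.mul_right (Commute.refl (g q)) this).inv_left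
      have hup : IsPGroup p (Subgroup.zpowers u) := by
        obtain ⟨l, -, hl⟩ := (Nat.dvd_prime_pow hp).mp
          ((hcg.orderOf_mul_dvd_lcm).trans (Nat.lcm_dvd
            (show orderOf (g q)⁻¹ ∣ p ^ (j + k) by rw [orderOf_inv, hj]; exact pow_dvd_pow p (Nat.le_add_right _ _))
            (show orderOf h ∣ p ^ (j + k) by rw [hk]; exact pow_dvd_pow p (Nat.le_add_left _ _))))
        exact IsPGroup.of_card (by rw [Nat.card_zpowers, hu', hl])
      have hsup : IsPGroup p ↥((S q : Subgroup G) ⊔ Subgroup.zpowers u) := by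
        have : (Subgroup.zpowers u).Normal := ⟨fun w hw a => by
          obtain ⟨i, rfl⟩ := Subgroup.mem_zpowers_iff.mp hw
          rw [((hcom a).zpow_right i).eq, mul_inv_cancel_right]; exact Subgroup.zpow_mem_zpowers u i⟩
        exact IsPGroup.to_sup_of_normal_right (S q).isPGroup' hup
      have huS : u ∈ (S q : Subgroup G) := by
        rw [← (S q).is_maximal' hsup le_sup_left]
        exact Subgroup.mem_sup_right (Subgroup.mem_zpowers u)
      exact ⟨⟨q, u, Subgroup.mem_inf.mpr ⟨huS, hu⟩⟩, Subtype.ext (by show g q * u = h; rw [hu']; group)⟩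
    have heq : Nat.card {g : G // ∃ k : ℕ, orderOf g = p ^ k} = Nat.card {g : (G ⧸ N) // ∃ k : ℕ, orderOf g = p ^ k} * m := by
      refine le_antisymm ((Nat.card_le_card_of_surjective F hsurj).trans ?_) (hsum.trans (Nat.card_le_card_of_injective F hF))
      rw [Nat.card_sigma, Nat.card_eq_fintype_card, ← Finset.card_univ, ← smul_eq_mul, ← Finset.sum_const]
      refine Finset.sum_le_sum fun q _ => ?_
      obtain ⟨i, hi⟩ := IsPGroup.iff_card.mp ((S q).isPGroup'.to_le (inf_le_left : (S q : Subgroup G) ⊓ N ≤ _))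
      rw [hi, hm]
      refine Nat.pow_le_pow_right hp.pos ((hp.pow_dvd_iff_le_factorization Nat.card_pos.ne').mp ?_)
      rw [← hi]
      exact Subgroup.card_dvd_of_le inf_le_right
    rw [hcard, heq]; ring

end Cfsg.Agent.S4153
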