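import Cfsg.Statements.S4154
import Mathlib
-- import your own Cfsg.Agent.* helpers here

set_option autoImplicit false
open Cfsg

namespace Cfsg.Agent.S4154

theorem card_mul_relIndex' {X : Type*} [Group X] {H K : Subgroup X} (h : H ≤ K) :
    Nat.card H * H.relIndex K = Nat.card K := by
  have := Subgroup.relIndex_mul_relIndex ⊥ H K bot_le h
  rwa [Subgroup.relIndex_bot_left, Subgroup.relIndex_bot_left] at this

theorem relIndex_le_index' {X : Type*} [Group X] [Finite X] (H K : Subgroup X) :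
    H.relIndex K ≤ H.index := by
  rw [← Subgroup.relIndex_top_right]
  exact Subgroup.relIndex_le_of_le_right le_top (by rw [Subgroup.relIndex_top_right]; exact Subgroup.index_ne_zero_of_finite)

/-- Let G be a finite group and α an automorphism of G such that every element of G is the product of an element fixed by α and an element of the form g⁻¹α(g). If N is a normal α-invariant subgroup, then the automorphism ᾱ induced on G/N has the same property, and every coset fixed by ᾱ contains an element fixed by α (so the fixed points of ᾱ are the images of the fixed points of α). -/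
theorem result {G : Type*} [Group G] [Finite G] (α : MulAut G)
    (hccp : ∀ x : G, ∃ c g : G, α c = c ∧ x = c * (g⁻¹ * α g))
    (N : Subgroup G) [N.Normal] (hN : ∀ n ∈ N, α n ∈ N) :
    (∀ x : G, ∃ c g : G, c⁻¹ * α c ∈ N ∧ x⁻¹ * (c * (g⁻¹ * α g)) ∈ N) ∧
    (∀ x : G, x⁻¹ * α x ∈ N → ∃ c : G, α c = c ∧ c⁻¹ * x ∈ N) := by
  classical
  refine ⟨fun x => ?_, fun x hx => ?_⟩
  · obtain ⟨c, g, hc, hx⟩ := hccp x
    exact ⟨c, g, by simp [hc], by simp [← hx]⟩
  let C : Subgroup G := MonoidHom.eqLocus α.toMonoidHom (MonoidHom.id G)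
  let f : G → G := fun g => g⁻¹ * α g
  have hf : ∀ a b, f a = f b ↔ a * b⁻¹ ∈ C := by
    intro a b
    show a⁻¹ * α a = b⁻¹ * α b ↔ α (a * b⁻¹) = a * b⁻¹
    rw [map_mul, map_inv, mul_inv_eq_iff_eq_mul, inv_mul_eq_iff_eq_mul]
    group
  have hcardH : ∀ (H : Subgroup G), Nat.card (f '' (H : Set G)) * Nat.card ↥(C ⊓ H) = Nat.card H := by
    intro H
    rw [← card_mul_relIndex' (inf_le_right : C ⊓ H ≤ H), mul_comm]
    congr 1
    refine Nat.card_congr (Equiv.ofBijective
      (fun a : f '' (H : Set G) => (QuotientGroup.mk (⟨Classical.choose a.2,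
        (Classical.choose_spec a.2).1⟩⁻¹ : H) : H ⧸ (C ⊓ H).subgroupOf H)) ⟨?_, ?_⟩) |>.symm |>.symm
    · intro a b h
      rw [QuotientGroup.eq, inv_inv, Subgroup.mem_subgroupOf] at h
      exact Subtype.ext ((Classical.choose_spec a.2).2.symm.trans
        (((hf _ _).mpr h.1).trans (Classical.choose_spec b.2).2))
    · intro q
      obtain ⟨u, rfl⟩ := QuotientGroup.mk_surjective q
      refine ⟨⟨f ((u : G)⁻¹), _, inv_mem u.2, rfl⟩, QuotientGroup.eq.mpr ?_⟩
      set v := Classical.choose (⟨_, inv_mem u.2, rfl⟩ : f ((u : G)⁻¹) ∈ f '' (H : Set G))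
      have hv := Classical.choose_spec (⟨_, inv_mem u.2, rfl⟩ : f ((u : G)⁻¹) ∈ f '' (H : Set G))
      rw [inv_inv, Subgroup.mem_subgroupOf]
      have := (hf _ _).mp hv.2
      rw [inv_inv] at this
      exact ⟨this, mul_mem hv.1 u.2⟩
  -- unique decomposition in `G`
  let Φ : C × (f '' (⊤ : Subgroup G)) → G := fun q => (q.1 : G) * q.2
  have hΦ : Function.Bijective Φ := by
    rw [Nat.bijective_iff_surjective_and_card]
    refine ⟨fun y => ?_, ?_⟩
    · obtain ⟨c, g, hc, hy⟩ := hccp y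
      exact ⟨⟨⟨c, hc⟩, ⟨f g, g, Subgroup.mem_top g, rfl⟩⟩, hy.symm⟩
    · have := hcardH ⊤
      rw [inf_top_eq, Subgroup.card_top] at this
      rw [Nat.card_prod, mul_comm]
      exact this
  -- surjectivity inside `N`
  have hfN : ∀ g ∈ N, f g ∈ N := fun g hg => mul_mem (inv_mem hg) (hN g hg)
  let Ψ : ↥(C ⊓ N) × (f '' (N : Set G)) → N := fun q => ⟨(q.1 : G) * q.2, mul_mem q.1.2.2 (by
    obtain ⟨g, hg, hge⟩ := q.2.2
    exact hge ▸ hfN g hg)⟩
  have hΨ : Function.Bijective Ψ := by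
    rw [Nat.bijective_iff_injective_and_card]
    refine ⟨fun q r h => ?_, ?_⟩
    · have h2 := hΦ.1 (a₁ := (⟨q.1.1, q.1.2.1⟩, ⟨q.2.1, Set.image_mono (fun g _ => Subgroup.mem_top g) q.2.2⟩))
        (a₂ := (⟨r.1.1, r.1.2.1⟩, ⟨r.2.1, Set.image_mono (fun g _ => Subgroup.mem_top g) r.2.2⟩))
        (congrArg Subtype.val h)
      simp only [Prod.mk.injEq, Subtype.mk.injEq] at h2
      exact Prod.ext (Subtype.ext h2.1) (Subtype.ext h2.2)
    · rw [Nat.card_prod, mul_comm]; exact hcardH N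
  obtain ⟨⟨⟨c, hc⟩, ⟨_, m, hm, rfl⟩⟩, hcm⟩ := hΨ.2 ⟨_, hx⟩
  have hcm' : c * f m = x⁻¹ * α x := congrArg Subtype.val hcm
  have h3 := hΦ.1 (a₁ := (⟨c, hc.1⟩, ⟨f m, m, Subgroup.mem_top m, rfl⟩))
    (a₂ := (1, ⟨f x, x, Subgroup.mem_top x, rfl⟩)) (by simpa [Φ] using hcm')
  have h4 : f m = f x := congrArg Subtype.val (Prod.ext_iff.mp h3).2
  refine ⟨x * m⁻¹, (hf x m).mp h4.symm, ?_⟩
  simpa [mul_assoc] using hm

end Cfsg.Agent.S4154
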