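import Cfsg.Statements.S4155
import Mathlib
import Cfsg.Agent.Lib.Frobenius.Complement
import Cfsg.Agent.Lib.Basic
import Cfsg.Agent.Lib.NilpotentCommute
-- import your own Cfsg.Agent.* helpers here

set_option autoImplicit false
open Cfsg

namespace Cfsg.Agent.S4155

/-- Let G be a finite group and N a proper non-trivial normal nilpotent subgroup whose order is not a prime power, such that for every x outside N all elements of the coset xN have the same order as x. Then N is the Fitting subgroup of G, and for every prime q every Sylow q-subgroup of G/N is cyclic or generalized quaternion. -/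
theorem result {G : Type*} [Group G] [Finite G] (N : Subgroup G) [N.Normal] (hN1 : N ≠ ⊥) (hN2 : N ≠ ⊤)
    (heq : ∀ x : G, x ∉ N → ∀ n ∈ N, orderOf (x * n) = orderOf x)
    (hnil : Group.IsNilpotent N) (hnpp : ¬ IsPrimePow (Nat.card N)) :
    N = Cfsg.fittingSubgroup G ∧
    ∀ (q : ℕ) [Fact q.Prime] (Q : Sylow q (G ⧸ N)), IsCyclic (Q : Subgroup (G ⧸ N)) ∨ ∃ n : ℕ, Nonempty ((Q : Subgroup (G ⧸ N)) ≃* QuaternionGroup (2 ^ n)) := by
  classical
  have hcomm : ∀ u v : G, u ∉ N → v ∈ N → v ≠ 1 → (orderOf u).Coprime (orderOf v) → ¬ Commute u v := by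
    intro u v hu hv hv1 hco hc
    have h1 := heq u hu v hv
    rw [hc.orderOf_mul_eq_mul_orderOf_of_coprime hco] at h1
    exact hv1 (orderOf_eq_one_iff.mp
      ((Nat.mul_eq_left (orderOf_pos u).ne').mp h1))
  have hex : ∀ q : ℕ, q.Prime → ∃ r : ℕ, r.Prime ∧ r ≠ q ∧ r ∣ Nat.card N := by
    intro q hq
    by_contra hne
    push Not at hne
    have e := Nat.eq_prime_pow_of_unique_prime_dvd Nat.card_pos.ne'
      (p := q) (fun {d} hd hdvd => by_contra fun hdq => hne d hd hdq hdvd)
    refine hnpp ⟨q, _, hq.prime, ?_, e.symm⟩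
    by_contra h0
    rw [Nat.eq_zero_of_not_pos h0, pow_zero] at e
    exact hN1 (Subgroup.eq_bot_of_card_eq _ e)
  refine ⟨le_antisymm (CfsgLib.le_fittingSubgroup hnil) ?_, ?_⟩
  · haveI := CfsgLib.isNilpotent_fittingSubgroup (G := G)
    rw [CfsgLib.fittingSubgroup_eq_iSup_pCore]
    refine iSup_le fun q => ?_
    intro u hu
    by_contra huN
    obtain ⟨r, hr, hrq, hrd⟩ := hex q q.2
    haveI := Fact.mk hr
    obtain ⟨v, hv⟩ := exists_prime_orderOf_dvd_card' r hrd
    have huF : u ∈ Cfsg.fittingSubgroup G := by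
      rw [CfsgLib.fittingSubgroup_eq_iSup_pCore]
      exact (le_iSup (fun q : Nat.Primes => Cfsg.pCore (q : ℕ) G) q) hu
    have hvF : (v : G) ∈ Cfsg.fittingSubgroup G := CfsgLib.le_fittingSubgroup hnil v.2
    haveI := Fact.mk q.2
    obtain ⟨k, hk⟩ := IsPGroup.iff_orderOf.mp (CfsgLib.isPGroup_pCore (G := G) (q : ℕ)) ⟨u, hu⟩
    rw [Subgroup.orderOf_mk] at hk
    have hco : (orderOf u).Coprime (orderOf (v : G)) := by
      rw [hk, Subgroup.orderOf_coe, hv]
      exact Nat.Coprime.pow_left _ ((Nat.coprime_primes q.2 hr).mpr (Ne.symm hrq))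
    refine hcomm u v huN v.2 (fun h => hr.ne_one ?_) hco ?_
    · rw [← hv, ← Subgroup.orderOf_coe, h, orderOf_one]
    · exact congrArg Subtype.val (CfsgLib.commute_of_nilpotent
        (⟨u, huF⟩ : Cfsg.fittingSubgroup G) ⟨v, hvF⟩ (by rwa [Subgroup.orderOf_mk, Subgroup.orderOf_mk]))
  · intro q _ Q
    have hq : q.Prime := Fact.out
    obtain ⟨r, hr, hrq, hrd⟩ := hex q hq
    haveI := Fact.mk hr
    haveI := hnil
    let PR : Sylow r N := default
    let PO : Sylow q N := default
    haveI hnR : (PR : Subgroup N).Normal := PR.normal_of_normalizerCondition Group.normalizerCondition_of_isNilpotent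
    haveI hnO : (PO : Subgroup N).Normal := PO.normal_of_normalizerCondition Group.normalizerCondition_of_isNilpotent
    haveI := PR.characteristic_of_normal hnR
    haveI := PO.characteristic_of_normal hnO
    set R := (PR : Subgroup N).map N.subtype with hR
    set O := (PO : Subgroup N).map N.subtype with hO
    have hRn : R.Normal := ConjAct.normal_of_characteristic_of_normal
    have hOn : O.Normal := ConjAct.normal_of_characteristic_of_normal
    have hRp : IsPGroup r R := PR.isPGroup'.map _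
    have hOp : IsPGroup q O := PO.isPGroup'.map _
    have hR1 : R ≠ ⊥ := by
      intro h
      rw [hR, Subgroup.map_eq_bot_iff_of_injective _ N.subtype_injective] at h
      exact PR.ne_bot_of_dvd_card hrd h
    haveI : Nontrivial R := (Subgroup.nontrivial_iff_ne_bot R).mpr hR1
    haveI := hRp.center_nontrivial
    set V := (Subgroup.center R).map R.subtype with hV
    haveI hVn : V.Normal := ConjAct.normal_of_characteristic_of_normal
    have hVR : V ≤ R := Subgroup.map_subtype_le _
    have hV1 : V ≠ ⊥ := by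
      rw [hV, Ne, Subgroup.map_eq_bot_iff_of_injective _ R.subtype_injective]
      exact (Subgroup.nontrivial_iff_ne_bot _).mp inferInstance
    have hdis : V ⊓ O = ⊥ := eq_bot_iff.mpr ((inf_le_inf hVR le_rfl).trans
      (disjoint_iff.mp (IsPGroup.disjoint_of_coprime hRp hOp ((Nat.coprime_primes hr hq).mpr hrq))).le)
    let S : Sylow q G := default
    have hOS : O ≤ S := by
      obtain ⟨T, hT⟩ := hOp.exists_le_sylow
      obtain ⟨g, hg⟩ := MulAction.exists_smul_eq G T S
      rw [← hg, Sylow.coe_subgroup_smul, ← Subgroup.Normal.conjAct hOn (ConjAct.toConjAct g)]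
      exact Subgroup.pointwise_smul_le_pointwise_smul_iff.mpr hT
    have hON : O ≤ N := Subgroup.map_subtype_le _
    have hSN : ∀ s ∈ (S : Subgroup G), s ∈ N → s ∈ O := by
      intro s hs hsN
      have h1 : (PO : Subgroup N) ≤ (S : Subgroup G).subgroupOf N := fun x hx =>
        Subgroup.mem_subgroupOf.mpr (hOS ⟨x, hx, rfl⟩)
      have h2 := PO.is_maximal' (S.isPGroup'.comap_of_injective _ N.subtype_injective) h1
      exact ⟨⟨s, hsN⟩, by rw [SetLike.mem_coe, ← h2]; exact Subgroup.mem_subgroupOf.mpr hs, rfl⟩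
    set π := QuotientGroup.mk' O with hπ
    set A := (S : Subgroup G).map π with hA
    haveI : IsMulCommutative (Subgroup.center R) := inferInstance
    haveI hVc : IsMulCommutative V := Subgroup.map_isMulCommutative _ _
    haveI hVbc : IsMulCommutative (V.map π) := Subgroup.map_isMulCommutative _ _
    haveI hVbn : (V.map π).Normal := hVn.map _ (QuotientGroup.mk'_surjective O)
    have hVb : V.map π ≠ ⊥ := by
      rw [Ne, Subgroup.map_eq_bot_iff, QuotientGroup.ker_mk']
      intro h
      exact hV1 (eq_bot_iff.mpr ((le_inf le_rfl h).trans hdis.le))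
    have hfpf : ∀ x ∈ A, x ≠ 1 → V.map π ⊓ Subgroup.centralizer {x} = ⊥ := by
      rintro _ ⟨s, hs, rfl⟩ hs1
      rw [eq_bot_iff]
      rintro _ ⟨⟨v, hv, rfl⟩, hc⟩
      have hc' : π s * π v = π v * π s := Subgroup.mem_centralizer_singleton_iff.mp hc |> fun h => by
        first | exact h | exact h.symm
      have hvN : v ∈ N := (Subgroup.map_subtype_le _) (hVR hv)
      have h1 : s * v * s⁻¹ * v⁻¹ ∈ V ⊓ O := Subgroup.mem_inf.mpr ⟨mul_mem (hVn.conj_mem v hv s) (inv_mem hv),
        (QuotientGroup.eq_one_iff _).mp (show π (s * v * s⁻¹ * v⁻¹) = 1 by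
          rw [map_mul, map_mul, map_mul, map_inv, map_inv, hc']; group)⟩
      rw [hdis, Subgroup.mem_bot, mul_inv_eq_one, mul_inv_eq_iff_eq_mul] at h1
      rw [Subgroup.mem_bot]
      by_cases hv1 : v = 1
      · rw [hv1, map_one]
      exfalso
      have hsN : s ∉ N := fun h => hs1 ((QuotientGroup.eq_one_iff s).mpr (hSN s hs h))
      refine hcomm s v hsN hvN hv1 ?_ h1
      obtain ⟨a, ha⟩ := IsPGroup.iff_orderOf.mp S.isPGroup' ⟨s, hs⟩
      obtain ⟨b, hb⟩ := IsPGroup.iff_orderOf.mp hRp ⟨v, hVR hv⟩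
      rw [Subgroup.orderOf_mk] at ha hb
      rw [ha, hb]
      exact Nat.Coprime.pow _ _ ((Nat.coprime_primes hq hr).mpr (Ne.symm hrq))
    have hAV : A ≤ Subgroup.normalizer ((V.map π : Subgroup (G ⧸ O)) : Set (G ⧸ O)) := by
      rw [Subgroup.normalizer_eq_top]; exact le_top
    set ρ := QuotientGroup.map O N (MonoidHom.id G) hON with hρ
    have hρi : Function.Injective (ρ.subgroupMap A) := by
      rw [injective_iff_map_eq_one]
      rintro ⟨_, s, hs, rfl⟩ h
      have h' : (s : G ⧸ N) = 1 := congrArg Subtype.val h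
      exact Subtype.ext ((QuotientGroup.eq_one_iff s).mpr (hSN s hs ((QuotientGroup.eq_one_iff s).mp h')))
    let e1 : A ≃* A.map ρ := MulEquiv.ofBijective _ ⟨hρi, ρ.subgroupMap_surjective A⟩
    have hB : A.map ρ = ((S.mapSurjective (QuotientGroup.mk'_surjective N) : Sylow q (G ⧸ N)) : Subgroup (G ⧸ N)) := by
      rw [Sylow.coe_mapSurjective, hA, Subgroup.map_map]
      rfl
    have e : A ≃* (Q : Subgroup (G ⧸ N)) :=
      (e1.trans (MulEquiv.subgroupCongr hB)).trans (Sylow.equiv _ Q)
    let PA : Sylow q A := default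
    have hPA : (PA : Subgroup A) = ⊤ := (PA.is_maximal' ((S.isPGroup'.map π).to_subgroup ⊤) le_top).symm
    have e2 : PA ≃* A := (MulEquiv.subgroupCongr hPA).trans Subgroup.topEquiv
    rcases CfsgLib.Frob.sylow_cyclic_or_quaternion hVb hAV hfpf PA with h | ⟨n, ⟨f⟩⟩
    · exact Or.inl (isCyclic_of_surjective (e2.trans e) (e2.trans e).surjective)
    · exact Or.inr ⟨n, ⟨(e2.trans e).symm.trans f⟩⟩

end Cfsg.Agent.S4155
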