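import Cfsg.Statements.S4156
import Mathlib
-- import your own Cfsg.Agent.* helpers here

set_option autoImplicit false
open Cfsg

namespace Cfsg.Agent.S4156

/-- Let n ≥ 5 and F a finite field. Then the projective special linear group PSL_n(F) contains a subgroup isomorphic to the alternating group of degree n + 1. -/
theorem result (n : ℕ) (hn : 5 ≤ n) (F : Type*) [Field F] [Finite F] :
    ∃ f : alternatingGroup (Fin (n + 1)) →* Matrix.ProjectiveSpecialLinearGroup (Fin n) F, Function.Injective f := by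
  classical
  have : Nontrivial (Fin (n + 1)) := Fin.nontrivial_iff_two_le.mpr (by omega)
  have hsimple := alternatingGroup.isSimpleGroup (α := Fin (n + 1)) (by simp; omega)
  have hcomm : _root_.commutator ↥(alternatingGroup (Fin (n + 1))) = ⊤ :=
    commutator_alternatingGroup_eq_top (α := Fin (n + 1)) (by simp; omega)
  let M : Equiv.Perm (Fin (n + 1)) → Matrix (Fin n) (Fin n) F := fun s i k =>
    (if s k.castSucc = i.castSucc then 1 else 0) - (if s (Fin.last n) = i.castSucc then 1 else 0)
  have hM1 : M 1 = 1 := by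
    ext i k
    have hlast : ∀ i : Fin n, ¬ Fin.last n = i.castSucc := fun i => (Fin.castSucc_lt_last i).ne'
    simp [M, Matrix.one_apply, hlast, eq_comm]
  have hMm : ∀ s t, M (s * t) = M s * M t := by
    intro s t
    ext i k
    rw [Matrix.mul_apply]
    have e : ∑ j : Fin n, M s i j * M t j k = ∑ j : Fin (n + 1),
        ((if s j = i.castSucc then (1 : F) else 0) - (if s (Fin.last n) = i.castSucc then 1 else 0)) *
        ((if t k.castSucc = j then (1 : F) else 0) - (if t (Fin.last n) = j then 1 else 0)) := by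
      rw [Fin.sum_univ_castSucc, sub_self, zero_mul, add_zero]
    rw [e]
    simp only [mul_sub, Finset.sum_sub_distrib, mul_ite, mul_one, mul_zero, Finset.sum_ite_eq, Finset.mem_univ, if_true]
    show (if (s * t) k.castSucc = i.castSucc then (1 : F) else 0) - (if (s * t) (Fin.last n) = i.castSucc then 1 else 0) = _
    rw [Equiv.Perm.mul_apply, Equiv.Perm.mul_apply]
    ring
  let d : ↥(alternatingGroup (Fin (n + 1))) →* Fˣ :=
    (MonoidHom.toHomUnits (Matrix.detMonoidHom.comp
      ({ toFun := fun s => M (s : Equiv.Perm (Fin (n + 1))), map_one' := hM1, map_mul' := fun s t => hMm s t } :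
        ↥(alternatingGroup (Fin (n + 1))) →* Matrix (Fin n) (Fin n) F)))
  have hd : ∀ s : ↥(alternatingGroup (Fin (n + 1))), (M s).det = 1 := by
    intro s
    have hle : _root_.commutator ↥(alternatingGroup (Fin (n + 1))) ≤ d.ker := by
      rw [commutator_def, Subgroup.commutator_le]
      intro a _ b _
      rw [MonoidHom.mem_ker, map_commutatorElement, commutatorElement_eq_one_iff_mul_comm]
      exact mul_comm _ _
    rw [hcomm] at hle
    exact congrArg Units.val (hle (Subgroup.mem_top s))
  let ρ : ↥(alternatingGroup (Fin (n + 1))) →* Matrix.SpecialLinearGroup (Fin n) F :=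
    MonoidHom.mk' (fun s => ⟨M s, hd s⟩) (fun s t => Subtype.ext (hMm s t))
  let f : ↥(alternatingGroup (Fin (n + 1))) →* Matrix.ProjectiveSpecialLinearGroup (Fin n) F :=
    (QuotientGroup.mk' _).comp ρ
  refine ⟨f, ?_⟩
  rw [← MonoidHom.ker_eq_bot_iff]
  refine ((inferInstance : f.ker.Normal).eq_bot_or_eq_top).resolve_right fun htop => ?_
  -- a three-cycle is not scalar
  have h01 : (⟨0, by omega⟩ : Fin n).castSucc ≠ (⟨1, by omega⟩ : Fin n).castSucc := by simp [Fin.ext_iff]
  let s : Equiv.Perm (Fin (n + 1)) := Equiv.swap (⟨0, by omega⟩ : Fin n).castSucc (⟨1, by omega⟩ : Fin n).castSucc *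
    Equiv.swap (⟨1, by omega⟩ : Fin n).castSucc (⟨2, by omega⟩ : Fin n).castSucc
  have hs : s ∈ alternatingGroup (Fin (n + 1)) := by
    rw [Equiv.Perm.mem_alternatingGroup, map_mul, Equiv.Perm.sign_swap h01, Equiv.Perm.sign_swap (by simp [Fin.ext_iff])]
    rfl
  have hk : f ⟨s, hs⟩ = 1 := (htop ▸ Subgroup.mem_top (⟨s, hs⟩ : ↥(alternatingGroup (Fin (n + 1)))) : _ ∈ f.ker)
  obtain ⟨r, -, hr⟩ := Matrix.SpecialLinearGroup.mem_center_iff.mp ((QuotientGroup.eq_one_iff _).mp hk)
  have hentry := congrFun (congrFun hr (⟨1, by omega⟩ : Fin n)) (⟨0, by omega⟩ : Fin n)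
  have hv : M s ⟨1, by omega⟩ ⟨0, by omega⟩ = 1 := by
    have e1 : s (⟨0, by omega⟩ : Fin n).castSucc = (⟨1, by omega⟩ : Fin n).castSucc := by
      simp only [s, Equiv.Perm.mul_apply]
      rw [Equiv.swap_apply_of_ne_of_ne h01 (by simp [Fin.ext_iff]), Equiv.swap_apply_left]
    have e2 : s (Fin.last n) = Fin.last n := by
      simp only [s, Equiv.Perm.mul_apply]
      have hne : ∀ i : Fin n, Fin.last n ≠ i.castSucc := fun i => (Fin.castSucc_lt_last i).ne'
      rw [Equiv.swap_apply_of_ne_of_ne (hne _) (hne _), Equiv.swap_apply_of_ne_of_ne (hne _) (hne _)]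
    simp only [M, e1, e2, if_true]
    rw [if_neg (Fin.castSucc_lt_last _).ne', sub_zero]
  rw [Matrix.scalar_apply, Matrix.diagonal_apply_ne _ (by simp [Fin.ext_iff])] at hentry
  exact zero_ne_one (α := F) (hentry.trans hv)

end Cfsg.Agent.S4156
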