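import Cfsg.Statements.S4168
import Mathlib
-- import your own Cfsg.Agent.* helpers here

set_option autoImplicit false
open Cfsg

namespace Cfsg.Agent.S4168

/-- Let L be a finite quasisimple group (perfect with L/Z(L) simple). Then every prime dividing the order of the centre Z(L) also divides the order of L/Z(L). -/
theorem result {L : Type*} [Group L] [Finite L] (hL : Cfsg.IsQuasisimple L)
    (p : ℕ) (hp : p.Prime) (hdiv : p ∣ Nat.card (Subgroup.center L)) : p ∣ (Subgroup.center L).index := by
  have := Fact.mk hp
  obtain ⟨⟨z, hz⟩, hzo⟩ := exists_prime_orderOf_dvd_card' p hdiv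
  rw [← hzo, Subgroup.orderOf_mk]
  apply orderOf_dvd_of_pow_eq_one
  have hker : _root_.commutator L ≤ (MonoidHom.transferCenterPow L).ker := by
    have hc : IsMulCommutative (Subgroup.center L) := inferInstance
    rw [commutator_def, Subgroup.commutator_le]
    intro a _ b _
    rw [MonoidHom.mem_ker, map_commutatorElement, commutatorElement_eq_one_iff_mul_comm]
    exact hc.is_comm.comm _ _
  have hperf : _root_.commutator L = ⊤ := hL.1.commutator_eq_top
  rw [hperf] at hker
  have h1 := MonoidHom.transferCenterPow_apply (G := L) z
  rw [MonoidHom.mem_ker.mp (hker (Subgroup.mem_top z))] at h1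
  exact h1.symm

end Cfsg.Agent.S4168
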