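import Cfsg.Statements.S4169
import Mathlib
import Cfsg.Agent.Lib.SmallClasses
import Cfsg.Agent.Lib.UniqueSubgroup
-- import your own Cfsg.Agent.* helpers here

set_option autoImplicit false
open Cfsg

namespace Cfsg.Agent.S4169

/-- Let P be a finite p-group whose conjugacy classes have exactly two sizes (1 and one other value). Then P has nilpotency class at most 3. -/
theorem result {P : Type*} [Group P] [Finite P] {p : ℕ} [Fact p.Prime] (hP : IsPGroup p P)
    (m : ℕ) (hm : 1 < m) (h : ∀ x : P, (Subgroup.centralizer ({x} : Set P)).index = 1 ∨ (Subgroup.centralizer ({x} : Set P)).index = m) :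
    upperCentralSeries P 3 = ⊤ := by
  have := hP.isNilpotent
  obtain ⟨A, hAn, hAc, hAself⟩ := CfsgLib.UniqueSubgroup.exists_self_centralizing P
  have h1 := CfsgLib.SmallClasses.class_le_three A hAc hAself m (fun x hx => by
    rcases h x with e | e
    · omega
    · exact e.ge)
  have htop : Subgroup.closure {x : P | (Subgroup.centralizer ({x} : Set P)).index = 1 ∨ (Subgroup.centralizer ({x} : Set P)).index = m} = ⊤ :=
    eq_top_iff.mpr fun x _ => Subgroup.subset_closure (h x)
  set M := Subgroup.closure {x : P | (Subgroup.centralizer ({x} : Set P)).index = 1 ∨ (Subgroup.centralizer ({x} : Set P)).index = m} with hM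
  show Subgroup.upperCentralSeries P 3 = ⊤
  rw [← Subgroup.lowerCentralSeries_eq_bot_iff_upperCentralSeries_eq_top] at h1 ⊢
  have h2 := congrArg (Subgroup.map M.subtype) h1
  rw [Subgroup.top_subtype_lowerCentralSeries, Subgroup.map_bot, htop] at h2
  exact h2

end Cfsg.Agent.S4169
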