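import Cfsg.Statements.S4170
import Cfsg.Agent.Lib.SylowFixedRatio

set_option autoImplicit false
open scoped Pointwise
open Cfsg

namespace Cfsg.Agent.S4170

/-- Let p be an odd prime and G a nontrivial group of permutations of a finite set Ω that is generated by its elements of p-power order. Then Ω has two disjoint nonempty subsets Δ₁ and Δ₂ such that the index in G of the subgroup of elements mapping Δ₁ onto Δ₁ and Δ₂ onto Δ₂ (and hence also the complement of their union onto itself) is divisible by p. -/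
theorem result {Ω : Type*} [Fintype Ω] (p : ℕ) [Fact p.Prime] (hp : p ≠ 2) (G : Subgroup (Equiv.Perm Ω)) (hG : G ≠ ⊥) (hgen : Subgroup.closure {g : G | ∃ k : ℕ, orderOf g = p ^ k} = ⊤) :
    ∃ Δ₁ Δ₂ : Set Ω, Δ₁.Nonempty ∧ Δ₂.Nonempty ∧ Disjoint Δ₁ Δ₂ ∧ p ∣ (MulAction.stabilizer G Δ₁ ⊓ MulAction.stabilizer G Δ₂).index := by
  classical
  -- a `p`-element moving a point
  obtain ⟨x, k, hk, hx⟩ : ∃ (x : G) (k : ℕ), orderOf x = p ^ k ∧ x ≠ 1 := by
    by_contra h
    push_neg at h
    have htriv : (⊤ : Subgroup G) = ⊥ := by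
      rw [← hgen, Subgroup.closure_eq_bot_iff]
      rintro g ⟨k, hk⟩
      exact h g k hk
    apply hG
    rw [eq_bot_iff]
    intro g hg
    have : (⟨g, hg⟩ : G) ∈ (⊥ : Subgroup G) := htriv ▸ Subgroup.mem_top _
    rw [Subgroup.mem_bot] at this
    exact Subgroup.mem_bot.mpr (congrArg Subtype.val this)
  obtain ⟨c, hc⟩ : ∃ c : Ω, x • c ≠ c := by
    by_contra h
    push_neg at h
    exact hx (Subtype.ext (Equiv.ext fun c => h c))
  have hm : x ^ p ^ k • c = c := by rw [← hk, pow_orderOf_eq_one, one_smul]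
  obtain ⟨j, hj, hj'⟩ := Cfsg.Agent.SylowFixedRatio.exists_cycle hm hc
  set y := x ^ p ^ j with hy
  have hyp : y ^ p • c = c := by rwa [hy, ← pow_mul, ← pow_succ]
  have hmod : ∀ i, y ^ (i % p) • c = y ^ i • c := by
    intro i
    have hq : ∀ q, (y ^ p) ^ q • c = c := by
      intro q
      induction q with
      | zero => simp
      | succ q ih => rw [pow_succ, mul_smul, hyp, ih]
    conv_rhs => rw [← Nat.mod_add_div i p, pow_add, pow_mul, mul_smul, hq]
  set C : Set Ω := (fun i => y ^ i • c) '' (Set.Iio p) with hC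
  have hp2 := (Fact.out : p.Prime).two_le
  have hcC : c ∈ C := ⟨0, by simp only [Set.mem_Iio]; omega, by simp⟩
  have hyC : y • C = C := by
    refine Set.eq_of_subset_of_ncard_le ?_ ?_ (Set.toFinite _)
    · rintro _ ⟨_, ⟨i, _, rfl⟩, rfl⟩
      refine ⟨(i + 1) % p, Nat.mod_lt _ (by omega), ?_⟩
      show y ^ ((i + 1) % p) • c = y • y ^ i • c
      rw [hmod, pow_succ', mul_smul]
    · exact (Set.ncard_image_of_injective _ (MulAction.injective y)).ge
  have hyc : y • c ∈ C := by
    rw [← hyC]
    exact Set.smul_mem_smul_set hcC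
  refine ⟨{c}, C \ {c}, Set.singleton_nonempty c, ⟨y • c, hyc, hj⟩, Set.disjoint_sdiff_right, ?_⟩
  by_contra hndvd
  set K := MulAction.stabilizer G ({c} : Set Ω) ⊓ MulAction.stabilizer G (C \ {c}) with hK
  obtain ⟨Q⟩ : Nonempty (Sylow p K) := inferInstance
  set Q' : Subgroup G := (Q : Subgroup K).map K.subtype with hQ'
  have hQp : IsPGroup p Q' := Q.2.map _
  have hQidx : ¬ p ∣ Q'.index := by
    rw [hQ', Subgroup.index_map_subtype, Fact.out (p := p.Prime).dvd_mul]
    rintro (h | h)
    · exact Q.not_dvd_index h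
    · exact hndvd h
  let P : Sylow p G := hQp.toSylow hQidx
  have hPK : ∀ g ∈ (P : Subgroup G), g ∈ K := fun g hg => Subgroup.map_subtype_le _ hg
  have hP : ∀ b ∈ C, P ∈ Cfsg.Agent.SylowFixedRatio.fixSyl p G b := by
    intro b hb g hg
    show g • b = b
    by_cases hbc : b = c
    · subst hbc
      have h := (hPK g hg).1
      have h' : g • b ∈ g • ({b} : Set Ω) := Set.smul_mem_smul_set rfl
      rw [show g • ({b} : Set Ω) = {b} from h] at h'
      exact h'
    · have hsub : MulAction.orbit (P : Subgroup G) b ⊆ C \ {c} := by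
        rintro _ ⟨h, rfl⟩
        have h1 : (h : G) • b ∈ (h : G) • (C \ {c}) := Set.smul_mem_smul_set ⟨hb, hbc⟩
        rwa [show (h : G) • (C \ {c}) = C \ {c} from (hPK h.1 h.2).2] at h1
      obtain ⟨n, hn⟩ := P.2.card_orbit b
      have hlt : (C \ {c}).ncard < p := by
        rw [Set.ncard_sdiff_singleton_of_mem hcC]
        have : C.ncard ≤ p := (Set.ncard_image_le (Set.finite_Iio p)).trans_eq (by simp)
        omega
      have hle := Set.ncard_le_ncard hsub (Set.toFinite _)
      rw [← Nat.card_coe_set_eq, hn] at hle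
      have hn0 : n = 0 := by
        by_contra h0
        have : p ≤ p ^ n := Nat.le_self_pow h0 p
        omega
      rw [hn0, pow_zero] at hn
      have hsing : MulAction.orbit (P : Subgroup G) b = {b} := by
        rw [Nat.card_coe_set_eq, Set.ncard_eq_one] at hn
        obtain ⟨a, ha⟩ := hn
        have : b ∈ ({a} : Set Ω) := ha ▸ MulAction.mem_orbit_self b
        rw [ha, Set.mem_singleton_iff.mp this]
      have h2 : (⟨g, hg⟩ : (P : Subgroup G)) • b ∈ MulAction.orbit (P : Subgroup G) b :=
        MulAction.mem_orbit _ _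
      rw [hsing] at h2
      exact h2
  have hypg : IsPGroup p (Subgroup.zpowers y) := by
    have : IsPGroup p (Subgroup.zpowers x) := IsPGroup.of_card (n := k) (by rw [Nat.card_zpowers, hk])
    exact this.to_le (Subgroup.zpowers_le.mpr (pow_mem (Subgroup.mem_zpowers x) _))
  exact hj (Cfsg.Agent.SylowFixedRatio.fixes_of_setwise C y hypg hyC P hP c hcC)

end Cfsg.Agent.S4170
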