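import Cfsg.Statements.S4172
import Mathlib
import Cfsg.Agent.Lib.Tate
import Cfsg.Agent.Lib.Comp.LayerNormalizes
import Cfsg.Agent.Lib.PSolvable
-- import your own Cfsg.Agent.* helpers here

set_option autoImplicit false
open Cfsg

namespace Cfsg.Agent.S4172

namespace Aux

open scoped commutatorElement

universe u

variable {G : Type u} [Group G] [Finite G] {p : ℕ} [Fact p.Prime]

theorem cyclic_gen {P : Type u} [Group P] [Finite P] (hP : IsPGroup p P) (hgen : (frattini P).index = p ^ 2)
    (U : Subgroup P) [U.Normal] (hU : ¬ U ≤ frattini P) :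
    ∃ w : P, U ⊔ Subgroup.zpowers w = ⊤ ∧ commutator P ≤ U := by
  have hp : p.Prime := Fact.out
  set M := U ⊔ frattini P
  have hMf : frattini P ≤ M := le_sup_right
  have hlt : frattini P < M := lt_of_le_of_ne hMf fun e => hU (le_of_le_of_eq le_sup_left e.symm)
  have h1 := Subgroup.relIndex_mul_index hMf
  rw [hgen] at h1
  have h2 : (frattini P).relIndex M ≠ 1 := fun e => hlt.not_ge (Subgroup.relIndex_eq_one.mp e)
  obtain ⟨i, hi, hMi⟩ := (Nat.dvd_prime_pow hp).mp (Dvd.intro_left _ h1)
  have hi1 : i ≤ 1 := by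
    by_contra hc
    obtain rfl : i = 2 := by omega
    rw [hMi] at h1
    exact h2 (mul_right_cancel₀ (pow_ne_zero 2 hp.ne_zero) (by rw [h1, one_mul]))
  obtain ⟨w, hw⟩ : ∃ w : P, M ⊔ Subgroup.zpowers w = ⊤ := by
    interval_cases i
    · exact ⟨1, by rw [show M = ⊤ from Subgroup.index_eq_one.mp (by rw [hMi, pow_zero]), top_sup_eq]⟩
    · obtain ⟨w, -, hw⟩ := SetLike.exists_of_lt (lt_top_iff_ne_top.mpr fun e => by
        rw [e, Subgroup.index_top, pow_one] at hMi; exact hp.one_lt.ne hMi : M < ⊤)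
      refine ⟨w, Subgroup.index_eq_one.mp ?_⟩
      have h3 := Subgroup.relIndex_mul_index (le_sup_left : M ≤ M ⊔ Subgroup.zpowers w)
      rw [hMi, pow_one] at h3
      rcases (Nat.dvd_prime hp).mp (Dvd.intro_left _ h3) with h4 | h4
      · exact h4
      · exfalso
        rw [h4] at h3
        exact hw (Subgroup.relIndex_eq_one.mp (mul_right_cancel₀ hp.ne_zero (by rw [h3, one_mul]))
          (Subgroup.mem_sup_right (Subgroup.mem_zpowers w)))
  have htop : U ⊔ Subgroup.zpowers w = ⊤ := frattini_nongenerating (by rw [← hw]; exact sup_right_comm _ _ _)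
  refine ⟨w, htop, ?_⟩
  rw [_root_.commutator_def, Subgroup.commutator_le]
  intro a _ b _
  obtain ⟨u, hu, _, ⟨j, rfl⟩, rfl⟩ := Subgroup.mem_sup_of_normal_left.mp (htop.ge (Subgroup.mem_top a))
  obtain ⟨v, hv, _, ⟨k, rfl⟩, rfl⟩ := Subgroup.mem_sup_of_normal_left.mp (htop.ge (Subgroup.mem_top b))
  rw [← QuotientGroup.eq_one_iff]
  change QuotientGroup.mk' U _ = 1
  have hu' : QuotientGroup.mk' U u = 1 := (QuotientGroup.eq_one_iff u).mpr hu
  have hv' : QuotientGroup.mk' U v = 1 := (QuotientGroup.eq_one_iff v).mpr hv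
  rw [map_commutatorElement, map_mul, map_mul, hu', hv', one_mul, one_mul, map_zpow, map_zpow]
  exact commutatorElement_eq_one_iff_mul_comm.mpr (Commute.zpow_zpow_self _ _ _).eq

theorem not_le_frattini (P : Sylow p G) (M : Subgroup G)
    (hPM : (P : Subgroup G) ≤ Subgroup.normalizer (M : Set G)) (hnc : ¬ Cfsg.HasNormalPComplement p M) :
    ¬ M.subgroupOf (P : Subgroup G) ≤ frattini ↥(P : Subgroup G) := by
  intro hle
  set H := Subgroup.normalizer (M : Set G)
  have hMH : M ≤ H := Subgroup.le_normalizer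
  haveI : (M.subgroupOf H).Normal := (Subgroup.normal_subgroupOf_iff_le_normalizer hMH).mpr le_rfl
  let Q : Sylow p H := P.subtype hPM
  let e : ↥(Q : Subgroup H) ≃* ↥(P : Subgroup G) := Subgroup.subgroupOfEquivOfLe hPM
  refine hnc (CfsgLib.hasNormalPComplement_of_equiv (Subgroup.subgroupOfEquivOfLe hMH)
    (CfsgLib.hasNormalPComplement_of_inf_le_frattini Q (M.subgroupOf H) ?_))
  rintro x ⟨hxM, hxQ⟩
  have h1 : e ⟨x, hxQ⟩ ∈ frattini ↥(P : Subgroup G) := hle (show ((e ⟨x, hxQ⟩ : ↥(P : Subgroup G)) : G) ∈ M from hxM)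
  have h2 := frattini_le_comap_frattini_of_surjective (φ := e.symm.toMonoidHom) e.symm.surjective h1
  rw [Subgroup.mem_comap, MulEquiv.coe_toMonoidHom, e.symm_apply_apply] at h2
  exact ⟨⟨x, hxQ⟩, h2, rfl⟩

theorem cyclic_pow_card_eq_one {C : Type u} [Group C] [Finite C] [IsCyclic C] (S : Subgroup C) {x : C}
    (hx : x ^ Nat.card S = 1) : x ∈ S := by
  classical
  haveI := Fintype.ofFinite C
  by_contra hxS
  have h1 := IsCyclic.card_pow_eq_one_le (α := C) (n := Nat.card S) Nat.card_pos
  have h2 : (insert x (S : Set C).toFinset) ⊆ (Finset.univ.filter fun a : C => a ^ Nat.card S = 1) := by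
    intro a ha
    rw [Finset.mem_filter]
    refine ⟨Finset.mem_univ a, ?_⟩
    rcases Finset.mem_insert.mp ha with rfl | ha
    · exact hx
    · exact orderOf_dvd_iff_pow_eq_one.mp (Subgroup.orderOf_dvd_natCard S (Set.mem_toFinset.mp ha))
  have h3 := Finset.card_le_card h2
  rw [Finset.card_insert_of_notMem (by simpa using hxS), Set.toFinset_card, ← Nat.card_eq_fintype_card] at h3
  simp only [SetLike.coe_sort_coe] at h3
  omega

theorem exists_sylow_eq_inf_normal (P : Sylow p G) (E : Subgroup G) [hE : E.Normal] :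
    ∃ S : Sylow p ↥E, (S : Subgroup ↥E) = (P : Subgroup G).subgroupOf E := by
  have hH : IsPGroup p ((P : Subgroup G).subgroupOf E) := P.2.comap_of_injective E.subtype E.subtype_injective
  obtain ⟨S, hS⟩ := hH.exists_le_sylow
  refine ⟨S, (Subgroup.eq_of_le_of_card_ge hS ?_).symm⟩
  obtain ⟨T, hT⟩ := (S.2.map E.subtype).exists_le_sylow
  obtain ⟨g, hg⟩ := MulAction.exists_smul_eq G T P
  let f : ↥(S : Subgroup ↥E) → ↥((P : Subgroup G).subgroupOf E) := fun s =>
    ⟨⟨g * ((s : ↥E) : G) * g⁻¹, hE.conj_mem _ (s : ↥E).2 g⟩, by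
      show g * ((s : ↥E) : G) * g⁻¹ ∈ (P : Subgroup G)
      rw [← hg, Sylow.coe_subgroup_smul, Subgroup.mem_pointwise_smul_iff_inv_smul_mem]
      simpa [mul_assoc] using hT ⟨s, s.2, rfl⟩⟩
  refine Nat.card_le_card_of_injective f fun a b h => ?_
  have := congrArg (fun z : ↥((P : Subgroup G).subgroupOf E) => ((z : ↥E) : G)) h
  exact Subtype.ext (Subtype.ext (mul_left_cancel (mul_right_cancel this)))

theorem no_complement (hcore : Cfsg.pPrimeCore p G = ⊥) (E M : Subgroup G) [E.Normal] (hME : M ≤ E)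
    (hEM : E ≤ Subgroup.normalizer (M : Set G)) (hM : ¬ IsPGroup p M) : ¬ Cfsg.HasNormalPComplement p M := by
  intro h
  refine hM ?_
  haveI := CfsgLib.pPrimeCore_characteristic (G := ↥E) p
  have hE : Cfsg.pPrimeCore p ↥E = ⊥ := by
    have := CfsgLib.map_pPrimeCore_le (G := G) p E
    rw [hcore, le_bot_iff, Subgroup.map_eq_bot_iff_of_injective _ E.subtype_injective] at this
    exact this
  haveI : (M.subgroupOf E).Normal := (Subgroup.normal_subgroupOf_iff_le_normalizer hME).mpr hEM
  have h1 := CfsgLib.map_pPrimeCore_le (G := ↥E) p (M.subgroupOf E)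
  rw [hE, le_bot_iff, Subgroup.map_eq_bot_iff_of_injective _ (M.subgroupOf E).subtype_injective] at h1
  have h2 := CfsgLib.hasNormalPComplement_of_equiv (Subgroup.subgroupOfEquivOfLe hME).symm h
  have h3 := CfsgLib.isPGroup_quotient_of_hasNormalPComplement h2
  intro x
  obtain ⟨k, hk⟩ := h3 (QuotientGroup.mk ((Subgroup.subgroupOfEquivOfLe hME).symm x))
  rw [← QuotientGroup.mk_pow, QuotientGroup.eq_one_iff, h1, Subgroup.mem_bot, ← map_pow, MulEquiv.map_eq_one_iff] at hk
  exact ⟨k, hk⟩

theorem main (p : ℕ) [Fact p.Prime] (P : Sylow p G) (hna : ¬ IsMulCommutative (P : Subgroup G))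
    (hgen : (frattini ↥(P : Subgroup G)).index = p ^ 2) (hcore : Cfsg.pPrimeCore p G = ⊥)
    (hfrat : ((frattini ↥(P : Subgroup G)).map (P : Subgroup G).subtype).normalCore = ⊥)
    [hFn : (Cfsg.generalizedFittingSubgroup G).Normal] :
    (Cfsg.generalizedFittingSubgroup G ≠ ⊥ ∧ ∀ K : Subgroup G, K.Normal → K ≠ ⊥ → Cfsg.generalizedFittingSubgroup G ≤ K) ∧
      IsCyclic ↥((P : Subgroup G).map (QuotientGroup.mk' (Cfsg.generalizedFittingSubgroup G))) ∧
      (¬ IsMulCommutative (Cfsg.generalizedFittingSubgroup G) → ∀ K L : Subgroup G, Cfsg.IsComponent K → Cfsg.IsComponent L → ∃ x ∈ (P : Subgroup G), L = K.map (MulAut.conj x).toMonoidHom) := by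
  have hp : p.Prime := Fact.out
  set F := Cfsg.generalizedFittingSubgroup G with hF
  have hna' : commutator ↥(P : Subgroup G) ≠ ⊥ := fun h => hna ((commutator_eq_bot_iff _).mp h)
  haveI : Nontrivial G := by
    by_contra hc
    rw [not_nontrivial_iff_subsingleton] at hc
    exact hna ⟨⟨fun a b => Subsingleton.elim _ _⟩⟩
  -- a normal subgroup is not inside the Frattini subgroup of `P`
  have hout : ∀ N : Subgroup G, N.Normal → N ≠ ⊥ → ¬ N.subgroupOf (P : Subgroup G) ≤ frattini ↥(P : Subgroup G) := by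
    intro N hN hN1 hle
    by_cases hNp : IsPGroup p N
    · have hNP : N ≤ (P : Subgroup G) := by
        obtain ⟨T, hT⟩ := hNp.exists_le_sylow
        obtain ⟨g, hg⟩ := MulAction.exists_smul_eq G T P
        intro n hn
        rw [← hg, Sylow.coe_subgroup_smul, Subgroup.mem_pointwise_smul_iff_inv_smul_mem]
        refine hT ?_
        rw [← map_inv]
        exact hN.conj_mem n hn g⁻¹
      have : N ≤ ((frattini ↥(P : Subgroup G)).map (P : Subgroup G).subtype).normalCore :=
        Subgroup.normal_le_normalCore.mpr fun n hn => ⟨⟨n, hNP hn⟩, hle hn, rfl⟩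
      rw [hfrat, le_bot_iff] at this
      exact hN1 this
    · exact not_le_frattini P N (Subgroup.normalizer_eq_top_iff.mpr hN ▸ le_top)
        (no_complement hcore N N le_rfl Subgroup.le_normalizer hNp) hle
  -- two normal subgroups meet
  have hmeet : ∀ N₁ N₂ : Subgroup G, N₁.Normal → N₂.Normal → N₁ ≠ ⊥ → N₂ ≠ ⊥ → N₁ ⊓ N₂ ≠ ⊥ := by
    intro N₁ N₂ hn1 hn2 h1 h2 hbot
    obtain ⟨-, -, hc1⟩ := cyclic_gen P.2 hgen (N₁.subgroupOf _) (hout N₁ hn1 h1)
    obtain ⟨-, -, hc2⟩ := cyclic_gen P.2 hgen (N₂.subgroupOf _) (hout N₂ hn2 h2)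
    refine hna' (le_bot_iff.mp fun x hx => ?_)
    have : (x : G) ∈ N₁ ⊓ N₂ := ⟨hc1 hx, hc2 hx⟩
    rw [hbot, Subgroup.mem_bot] at this
    exact Subgroup.mem_bot.mpr (Subtype.ext this)
  obtain ⟨N, hNn, -, hN1, hmin⟩ := CfsgLib.exists_minimal_normal (G := G) (N := ⊤) top_ne_bot
  have huniq : ∀ K : Subgroup G, K.Normal → K ≠ ⊥ → N ≤ K := fun K hK hK1 => by
    haveI := hK
    rcases hmin (K ⊓ N) inferInstance inf_le_right with h | h
    · exact absurd h (hmeet K N hK hNn hK1 hN1)
    · exact h ▸ inf_le_left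
  have hF1 : F ≠ ⊥ := fun h => by
    have h1 := CfsgLib.centralizer_generalizedFitting_le (G := G)
    rw [← hF, h, le_bot_iff] at h1
    obtain ⟨g, hg⟩ := exists_ne (1 : G)
    refine hg (Subgroup.mem_bot.mp (h1.le (Subgroup.mem_centralizer_iff.mpr fun z hz => ?_)))
    rw [SetLike.mem_coe, Subgroup.mem_bot] at hz
    rw [hz, one_mul, mul_one]
  haveI := hNn
  obtain ⟨w, hw, -⟩ := cyclic_gen P.2 hgen (N.subgroupOf _) (hout N hNn hN1)
  have hPw : ∀ u ∈ (P : Subgroup G), ∃ n ∈ N, ∃ i : ℤ, u = n * (w : G) ^ i := fun u hu => by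
    obtain ⟨a, ha, _, ⟨i, rfl⟩, hai⟩ := Subgroup.mem_sup_of_normal_left.mp (hw.ge (Subgroup.mem_top (⟨u, hu⟩ : ↥(P : Subgroup G))))
    exact ⟨a, ha, i, by have := congrArg Subtype.val hai; simpa using this.symm⟩
  have hkey : F ≤ N ∧ (¬ IsMulCommutative F → Cfsg.fittingSubgroup G = ⊥ ∧ Subgroup.centralizer (N : Set G) = ⊥) := by
    by_cases hNp : IsPGroup p N
    · -- abelian case
      have hNc : ∀ K : Subgroup G, Cfsg.IsComponent K → False := by
        intro K hK
        set E := Cfsg.layer G
        haveI : E.Normal := inferInstance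
        have hNE : N ≤ E := huniq E inferInstance fun h => CfsgLib.isComponent_ne_bot hK (le_bot_iff.mp (h ▸ CfsgLib.le_layer hK))
        haveI : Group.IsNilpotent N := hNp.isNilpotent
        have hcomm : ∀ n ∈ N, ∀ e ∈ E, e * n = n * e := fun n hn e he =>
          (Subgroup.mem_centralizer_iff.mp (CfsgLib.layer_le_centralizer_fitting he) n
            (CfsgLib.le_fittingSubgroup (N := N) inferInstance hn)).symm
        refine hout N hNn hN1 fun x hxN => ?_
        -- transfer in the layer
        set H := ((P : Subgroup G)).subgroupOf E with hHdef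
        have hperf : commutator ↥E = ⊤ := by
          refine Subgroup.map_injective E.subtype_injective ?_
          rw [_root_.commutator_def, Subgroup.map_commutator, ← MonoidHom.range_eq_map, Subgroup.range_subtype,
            CfsgLib.layer_commutator_self]
        set z : ↥E := ⟨x, hNE hxN⟩
        have hkeyz : ∀ (k : ℕ) (g₀ : ↥E), g₀⁻¹ * z ^ k * g₀ ∈ H → g₀⁻¹ * z ^ k * g₀ = z ^ k := fun k g₀ _ => by
          have : Commute g₀ z := Subtype.ext (hcomm x hxN g₀ g₀.2)
          rw [mul_assoc, ← (this.pow_right k).eq, inv_mul_cancel_left]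
        let φ : ↥E →* Abelianization H := MonoidHom.transfer (Abelianization.of : H →* Abelianization H)
        have hφ : φ z = 1 := by
          have hle : commutator ↥E ≤ φ.ker := Abelianization.commutator_subset_ker φ
          exact hle (hperf.ge (Subgroup.mem_top z))
        have hφ' : (⟨z ^ H.index, MonoidHom.transfer_eq_pow_aux z hkeyz⟩ : H) ∈ (Abelianization.of : H →* Abelianization H).ker :=
          MonoidHom.mem_ker.mpr ((MonoidHom.transfer_eq_pow (Abelianization.of : H →* Abelianization H) z hkeyz).symm.trans hφ)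
        rw [Abelianization.ker_of] at hφ'
        let f : H →* ↥(P : Subgroup G) :=
          { toFun := fun h => ⟨((h : ↥E) : G), h.2⟩, map_one' := rfl, map_mul' := fun _ _ => rfl }
        have h2 : f ⟨z ^ H.index, MonoidHom.transfer_eq_pow_aux z hkeyz⟩ ∈ frattini ↥(P : Subgroup G) := by
          refine CfsgLib.commutator_le_frattini_pGroup P.2 ?_
          have := Subgroup.mem_map_of_mem f hφ'
          rw [_root_.commutator_def, Subgroup.map_commutator] at this
          rw [_root_.commutator_def]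
          exact Subgroup.commutator_mono le_top le_top this
        have h3 : (x : ↥(P : Subgroup G)) ^ H.index ∈ frattini ↥(P : Subgroup G) := by
          convert h2 using 1
          exact Subtype.ext (by simp [f, z])
        have hcop : (orderOf x).Coprime H.index := by
          obtain ⟨k, hk⟩ := IsPGroup.iff_orderOf.mp P.2 x
          rw [hk]
          refine Nat.Coprime.pow_left k (hp.coprime_iff_not_dvd.mpr ?_)
          obtain ⟨S, hS⟩ : ∃ S : Sylow p ↥E, (S : Subgroup ↥E) = H := exists_sylow_eq_inf_normal P E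
          rw [← hS]
          exact S.not_dvd_index
        obtain ⟨m, hm⟩ := exists_pow_eq_self_of_coprime hcop.symm
        rw [← hm]
        exact pow_mem h3 m
      have hlay : Cfsg.layer G = ⊥ := le_bot_iff.mp (sSup_le fun K hK => (hNc K hK).elim)
      set A := Cfsg.pCore p G with hAd
      have hFA : F = A := by
        rw [hF, Cfsg.generalizedFittingSubgroup, hlay, bot_sup_eq, CfsgLib.fitting_eq_pCore hp hcore]
      have hAp : IsPGroup p A := CfsgLib.isPGroup_pCore p
      have hAP : A ≤ (P : Subgroup G) := CfsgLib.pCore_le_sylow P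
      have hNA : N ≤ A := CfsgLib.le_pCore hNp
      have hAn : A.Normal := inferInstance
      -- `A` is elementary abelian
      set Y : Set G := {y | (∃ a ∈ A, ∃ b ∈ A, ⁅a, b⁆ = y) ∨ ∃ a ∈ A, a ^ p = y}
      have hY : Subgroup.normalClosure Y = ⊥ := by
        have hle : Subgroup.normalClosure Y ≤ ((frattini ↥(P : Subgroup G)).map (P : Subgroup G).subtype).normalCore := by
          refine Subgroup.normalClosure_le_normal ?_
          rintro y hy b
          have hmem : b * y * b⁻¹ ∈ Y := by
            rcases hy with ⟨a, ha, c, hc, rfl⟩ | ⟨a, ha, rfl⟩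
            · exact Or.inl ⟨b * a * b⁻¹, hAn.conj_mem a ha b, b * c * b⁻¹, hAn.conj_mem c hc b, by
                simp [commutatorElement_def, mul_assoc]⟩
            · exact Or.inr ⟨b * a * b⁻¹, hAn.conj_mem a ha b, by rw [conj_pow]⟩
          rcases hmem with ⟨a, ha, c, hc, h⟩ | ⟨a, ha, h⟩
          · exact ⟨⁅(⟨a, hAP ha⟩ : ↥(P : Subgroup G)), ⟨c, hAP hc⟩⁆, CfsgLib.commutator_le_frattini_pGroup P.2
              (Subgroup.commutator_mem_commutator (Subgroup.mem_top _) (Subgroup.mem_top _)), by rw [map_commutatorElement]; exact h⟩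
          · exact ⟨(⟨a, hAP ha⟩ : ↥(P : Subgroup G)) ^ p, CfsgLib.pow_mem_frattini_pGroup P.2 _, by rw [map_pow]; exact h⟩
        rwa [hfrat, le_bot_iff] at hle
      have hY' : ∀ y ∈ Y, y = 1 := fun y hy => Subgroup.mem_bot.mp (hY.le (Subgroup.subset_normalClosure hy))
      have hAab : ∀ a ∈ A, ∀ b ∈ A, a * b = b * a := fun a ha b hb =>
        commutatorElement_eq_one_iff_mul_comm.mp (hY' _ (Or.inl ⟨a, ha, b, hb, rfl⟩))
      have hAexp : ∀ a ∈ A, a ^ p = 1 := fun a ha => hY' _ (Or.inr ⟨a, ha, rfl⟩)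
      refine ⟨?_, fun hab => absurd ⟨⟨fun a b => Subtype.ext (hAab a (hFA ▸ a.2) b (hFA ▸ b.2))⟩⟩ hab⟩
      rw [hFA]
      by_contra hnle
      obtain ⟨a, haA, haN⟩ := SetLike.not_le_iff_exists.mp hnle
      obtain ⟨n, hn, i, rfl⟩ := hPw a (hAP haA)
      set b := (w : G) ^ i with hb
      have hbA : b ∈ A := by simpa using mul_mem (inv_mem (hNA hn)) haA
      have hbN : b ∉ N := fun h => haN (mul_mem hn h)
      have hbP : ∀ v ∈ (P : Subgroup G), v * b * v⁻¹ = b := fun v hv => by
        obtain ⟨m, hm, j, rfl⟩ := hPw v hv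
        rw [show m * (w : G) ^ j * b * (m * (w : G) ^ j)⁻¹ = m * ((w : G) ^ j * b * ((w : G) ^ j)⁻¹) * m⁻¹ by group,
          hb, ← zpow_add, add_comm, zpow_add, mul_inv_cancel_right, ← hb, hAab m (hNA hm) b hbA, mul_inv_cancel_right]
      -- every element of `A` is congruent to a unique power of `b`
      have hAb : ∀ x ∈ A, ∃ k : ℤ, (b ^ k)⁻¹ * x ∈ N := by
        intro x hx
        obtain ⟨m, hm, j, rfl⟩ := hPw x (hAP hx)
        have hjA : (w : G) ^ j ∈ A := by simpa using mul_mem (inv_mem (hNA hm)) hx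
        -- the cyclic image of `A` has order `p`
        set π := QuotientGroup.mk' N
        have hcard : orderOf (π b) = p := orderOf_eq_prime (by rw [← map_pow, hAexp b hbA, map_one])
          fun h => hbN ((QuotientGroup.eq_one_iff b).mp h)
        have h1 : π ((w : G) ^ j) ∈ Subgroup.zpowers (π b) := by
          haveI : IsCyclic ↥(Subgroup.zpowers (π (w : G))) := inferInstance
          set T := Subgroup.zpowers (π (w : G))
          set S : Subgroup ↥T := Subgroup.zpowers ⟨π b, ⟨i, by rw [hb, map_zpow]⟩⟩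
          have hS : Nat.card S = p := by rw [Nat.card_zpowers, ← Subgroup.orderOf_coe, hcard]
          have hpow : (⟨π ((w : G) ^ j), ⟨j, by rw [map_zpow]⟩⟩ : ↥T) ^ Nat.card S = 1 := Subtype.ext (by
            rw [hS, SubmonoidClass.coe_pow, ← map_pow, hAexp _ hjA, map_one]; rfl)
          obtain ⟨k, hk⟩ := (cyclic_pow_card_eq_one S hpow : _ ∈ S)
          exact ⟨k, congrArg Subtype.val hk⟩
        obtain ⟨k, hk⟩ := h1
        refine ⟨k, (QuotientGroup.eq_one_iff _).mp ?_⟩
        change π _ = 1
        rw [map_mul, map_inv, map_mul, map_zpow π b, show (π b) ^ k = π ((w : G) ^ j) from hk,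
          show π m = 1 from (QuotientGroup.eq_one_iff m).mpr hm, one_mul, inv_mul_cancel]
      -- the representative in each conjugate of `⟨b⟩`
      have hex : ∀ g : G, ∃ y : G, y ∈ Subgroup.zpowers (g * b * g⁻¹) ∧ b⁻¹ * y ∈ N := by
        intro g
        obtain ⟨k, hk⟩ := hAb _ (hAn.conj_mem b hbA g)
        have hkp : ¬ (p : ℤ) ∣ k := by
          rintro ⟨l, rfl⟩
          rw [zpow_mul, zpow_natCast, hAexp b hbA, one_zpow, inv_one, one_mul] at hk
          exact hbN (by simpa [mul_assoc] using hNn.conj_mem _ hk g⁻¹)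
        obtain ⟨l, m, hlm⟩ := ((Nat.prime_iff_prime_int.mp hp).coprime_iff_not_dvd).mpr hkp
        refine ⟨(g * b * g⁻¹) ^ m, ⟨m, rfl⟩, ?_⟩
        rw [← QuotientGroup.eq_one_iff] at hk ⊢
        change QuotientGroup.mk' N _ = 1 at hk ⊢
        simp only [map_mul, map_inv, map_zpow, inv_mul_eq_one] at hk ⊢
        rw [← hk, ← zpow_mul]
        have hpb : (QuotientGroup.mk' N b) ^ (p : ℤ) = 1 := by rw [zpow_natCast, ← map_pow, hAexp b hbA, map_one]
        conv_lhs => rw [← zpow_one (QuotientGroup.mk' N b), ← hlm, mul_comm l, zpow_add, zpow_mul, hpb, one_zpow,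
          one_mul, mul_comm m]
      have huni : ∀ (g : G) (y y' : G), y ∈ Subgroup.zpowers (g * b * g⁻¹) → y' ∈ Subgroup.zpowers (g * b * g⁻¹) →
          y⁻¹ * y' ∈ N → y = y' := by
        intro g y y' hy hy' hN'
        obtain ⟨k, hk⟩ := mul_mem (inv_mem hy) hy'
        by_cases hd : (p : ℤ) ∣ k
        · obtain ⟨l, rfl⟩ := hd
          simp only at hk
          rw [zpow_mul, zpow_natCast, conj_pow, hAexp b hbA, mul_one, mul_inv_cancel, one_zpow] at hk
          exact inv_mul_eq_one.mp hk.symm
        · exfalso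
          obtain ⟨l, m, hlm⟩ := ((Nat.prime_iff_prime_int.mp hp).coprime_iff_not_dvd).mpr hd
          refine hbN ?_
          have h1 : g * b * g⁻¹ = (y⁻¹ * y') ^ m := by
            rw [← hk]
            simp only
            rw [← zpow_mul]
            conv_lhs => rw [← zpow_one (g * b * g⁻¹), ← hlm, mul_comm l, zpow_add, zpow_mul, zpow_natCast, conj_pow,
              hAexp b hbA, mul_one, mul_inv_cancel, one_zpow, one_mul, mul_comm m]
          have h2 := hNn.conj_mem _ (zpow_mem hN' m) g⁻¹
          rw [← h1] at h2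
          simpa [mul_assoc] using h2
      choose e he1 he2 using hex
      have hwd : ∀ g g' : G, g⁻¹ * g' ∈ (P : Subgroup G) → e g = e g' := by
        intro g g' h
        have hconj : g' * b * g'⁻¹ = g * b * g⁻¹ := by
          calc g' * b * g'⁻¹ = g * (g⁻¹ * g' * b * (g⁻¹ * g')⁻¹) * g⁻¹ := by group
            _ = g * b * g⁻¹ := by rw [hbP _ h]
        refine huni g _ _ (he1 g) (hconj ▸ he1 g') ?_
        have := mul_mem (inv_mem (he2 g)) (he2 g')
        simpa [mul_assoc] using this
      haveI := Fintype.ofFinite (G ⧸ (P : Subgroup G))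
      let A' := ↥A
      letI : CommGroup A' := { (inferInstance : Group ↥A) with mul_comm := fun a c => Subtype.ext (hAab a a.2 c c.2) }
      let f : G ⧸ (P : Subgroup G) → A' := fun q => Quotient.liftOn' q
        (fun g => (⟨e g, Subgroup.zpowers_le.mpr (hAn.conj_mem b hbA g) (he1 g)⟩ : ↥A))
        (fun g g' h => Subtype.ext (hwd g g' (QuotientGroup.leftRel_apply.mp h)))
      have hfmk : ∀ g : G, ((f (QuotientGroup.mk g) : ↥A) : G) = e g := fun g => rfl
      let π : A' →* G ⧸ N := (QuotientGroup.mk' N).comp A.subtype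
      have hπf : ∀ q, π (f q) = QuotientGroup.mk' N b := fun q => by
        induction q using QuotientGroup.induction_on with
        | _ g =>
          show QuotientGroup.mk' N (e g) = _
          exact (QuotientGroup.eq.mpr (he2 g)).symm
      set y : A' := ∏ q : G ⧸ (P : Subgroup G), f q
      have hπy : π y = QuotientGroup.mk' N b ^ (P : Subgroup G).index := by
        have hs : ∀ s : Finset (G ⧸ (P : Subgroup G)), π (∏ q ∈ s, f q) = QuotientGroup.mk' N b ^ s.card := by
          classical
          intro s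
          induction s using Finset.induction_on with
          | empty => rw [Finset.prod_empty, map_one, Finset.card_empty, pow_zero]
          | insert q s hq ih =>
            rw [Finset.prod_insert hq, map_mul π, hπf, ih, Finset.card_insert_of_notMem hq, pow_succ']
        rw [show π y = _ from hs Finset.univ, Finset.card_univ, ← Nat.card_eq_fintype_card, ← Subgroup.index_eq_card]
      set Y : G := ((y : ↥A) : G)
      have hYN : Y ∉ N := by
        intro h
        have h1 : QuotientGroup.mk' N b ^ (P : Subgroup G).index = 1 := hπy ▸ (QuotientGroup.eq_one_iff Y).mpr h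
        have h2 := orderOf_dvd_of_pow_eq_one h1
        rw [show orderOf (QuotientGroup.mk' N b) = p from orderOf_eq_prime (by rw [← map_pow, hAexp b hbA, map_one]) fun h => hbN ((QuotientGroup.eq_one_iff b).mp h)] at h2
        exact P.not_dvd_index h2
      have hYp : Y ^ p = 1 := hAexp _ (y : ↥A).2
      -- the line through `Y` is normal
      have hYn : ∀ t : G, t * Y * t⁻¹ ∈ Subgroup.zpowers Y := by
        intro t
        obtain ⟨c, hc⟩ := hAb _ (hAn.conj_mem b hbA t)
        let ψ : A' →* A' :=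
          { toFun := fun a => (⟨t * ((a : ↥A) : G) * t⁻¹, hAn.conj_mem _ (a : ↥A).2 t⟩ : ↥A)
            map_one' := Subtype.ext (by simp)
            map_mul' := fun a c => Subtype.ext (by
              show t * (((a : ↥A) : G) * ((c : ↥A) : G)) * t⁻¹ = t * ((a : ↥A) : G) * t⁻¹ * (t * ((c : ↥A) : G) * t⁻¹)
              group) }
        have hψ : ∀ q : G ⧸ (P : Subgroup G), ψ (f q) = f (t • q) ^ c := by
          intro q
          induction q using QuotientGroup.induction_on with
          | _ g =>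
            refine Subtype.ext ?_
            show t * e g * t⁻¹ = e (t * g) ^ c
            have hm : t * e g * t⁻¹ ∈ Subgroup.zpowers (t * g * b * (t * g)⁻¹) := by
              obtain ⟨k, hk⟩ := he1 g
              refine ⟨k, ?_⟩
              simp only at hk ⊢
              rw [← hk, show t * g * b * (t * g)⁻¹ = t * (g * b * g⁻¹) * t⁻¹ by group, conj_zpow]
            refine huni (t * g) _ _ hm (zpow_mem (he1 (t * g)) c) ?_
            rw [← QuotientGroup.eq_one_iff] at hc ⊢
            change QuotientGroup.mk' N _ = 1 at hc ⊢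
            simp only [map_mul, map_inv, map_zpow, inv_mul_eq_one] at hc ⊢
            have hg : ∀ g : G, QuotientGroup.mk' N (e g) = QuotientGroup.mk' N b := fun g => (QuotientGroup.eq.mpr (he2 g)).symm
            rw [hg g, hg (t * g), hc]
        have hψy : ψ y = y ^ c := by
          rw [map_prod, Finset.prod_congr rfl (fun q _ => hψ q), Finset.prod_zpow,
            Fintype.prod_equiv (MulAction.toPerm t) (fun q => f (t • q)) f fun _ => rfl]
        exact ⟨c, (congrArg (fun a : A' => ((a : ↥A) : G)) hψy).symm⟩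
      have hZn : (Subgroup.zpowers Y).Normal := ⟨fun z hz t => by
        obtain ⟨k, rfl⟩ := hz
        simp only
        rw [← conj_zpow]
        exact zpow_mem (hYn t) k⟩
      have hZ1 : Subgroup.zpowers Y ≠ ⊥ := Subgroup.zpowers_ne_bot.mpr fun h => hYN (h ▸ one_mem N)
      obtain ⟨n₀, hn₀, hn1⟩ := (Subgroup.bot_or_exists_ne_one N).resolve_left hN1
      obtain ⟨k, hk⟩ := huniq _ hZn hZ1 hn₀
      simp only at hk
      have hkp : ¬ (p : ℤ) ∣ k := by
        rintro ⟨l, rfl⟩
        rw [zpow_mul, zpow_natCast, hYp, one_zpow] at hk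
        exact hn1 hk.symm
      obtain ⟨l, m, hlm⟩ := ((Nat.prime_iff_prime_int.mp hp).coprime_iff_not_dvd).mpr hkp
      refine hYN ?_
      rw [← zpow_one Y, ← hlm, mul_comm l, zpow_add, zpow_mul, zpow_natCast, hYp, one_zpow, one_mul, mul_comm m,
        zpow_mul, hk]
      exact zpow_mem hn₀ m
    · have hC : Subgroup.centralizer (N : Set G) = ⊥ := by
        by_contra hC1
        have hle := huniq _ inferInstance hC1
        have hab : IsMulCommutative N := ⟨⟨fun a c => Subtype.ext (Subgroup.mem_centralizer_iff.mp (hle c.2) a a.2)⟩⟩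
        haveI := hab
        letI : CommGroup N := { (inferInstance : Group N) with mul_comm := hab.is_comm.comm }
        haveI : Group.IsNilpotent N := CommGroup.isNilpotent
        apply hNp
        refine (CfsgLib.isPGroup_pCore p).to_le (K := Cfsg.pCore p G) ?_
        have hh : Cfsg.fittingSubgroup G = Cfsg.pCore p G := CfsgLib.fitting_eq_pCore hp hcore
        rw [← hh]
        exact CfsgLib.le_fittingSubgroup inferInstance
      have hFit : Cfsg.fittingSubgroup G = ⊥ := by
        by_contra h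
        apply hNp
        refine (CfsgLib.isPGroup_pCore p).to_le (K := Cfsg.pCore p G) ?_
        rw [← CfsgLib.fitting_eq_pCore hp hcore]
        exact huniq _ inferInstance h
      refine ⟨?_, fun _ => ⟨hFit, hC⟩⟩
      rw [hF, Cfsg.generalizedFittingSubgroup, hFit, sup_bot_eq]
      refine sSup_le fun K hK => ?_
      rcases CfsgLib.component_le_or_commutator_eq_bot hK N with h | h
      · exact h
      · rw [Subgroup.commutator_eq_bot_iff_le_centralizer, hC, le_bot_iff] at h
        exact absurd h (CfsgLib.isComponent_ne_bot hK)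
  have hFN : F = N := le_antisymm hkey.1 (huniq F hFn hF1)
  refine ⟨⟨hF1, fun K hK hK1 => hFN.le.trans (huniq K hK hK1)⟩, ?_, ?_⟩
  · have h : (P : Subgroup G).map (QuotientGroup.mk' F) = Subgroup.zpowers (QuotientGroup.mk' F (w : G)) := by
      refine le_antisymm ?_ (Subgroup.zpowers_le.mpr ⟨w, w.2, rfl⟩)
      rintro _ ⟨u, hu, rfl⟩
      obtain ⟨n, hn, i, rfl⟩ := hPw u hu
      refine ⟨i, ?_⟩
      show (QuotientGroup.mk' F (w : G)) ^ i = QuotientGroup.mk' F (n * (w : G) ^ i)
      rw [map_mul, map_zpow, show QuotientGroup.mk' F n = 1 from (QuotientGroup.eq_one_iff n).mpr (hFN ▸ hn), one_mul]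
    rw [h]; infer_instance
  intro hFab K L hK hL
  obtain ⟨hFit, hC⟩ := hkey.2 hFab
  by_contra hno
  push Not at hno
  set E := Cfsg.layer G
  have hFE : F = E := by rw [hF, Cfsg.generalizedFittingSubgroup, hFit, sup_bot_eq]
  let Orb : Subgroup G → Prop := fun J => ∃ x ∈ (P : Subgroup G), J = K.map (MulAut.conj x).toMonoidHom
  set M₁ := sSup {J : Subgroup G | Cfsg.IsComponent J ∧ Orb J} with hM₁
  set M₂ := sSup {J : Subgroup G | Cfsg.IsComponent J ∧ ¬ Orb J} with hM₂
  have hKorb : Orb K := ⟨1, one_mem _, by ext z; simp⟩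
  have hLorb : ¬ Orb L := fun ⟨x, hx, h⟩ => hno x hx h
  have hstab : ∀ (S : Subgroup G → Prop), (∀ x ∈ (P : Subgroup G), ∀ J, S J → S (J.map (MulAut.conj x).toMonoidHom)) →
      (P : Subgroup G) ≤ Subgroup.normalizer ((sSup {J : Subgroup G | Cfsg.IsComponent J ∧ S J} : Subgroup G) : Set G) := by
    intro S hS x hx
    have hmap : ∀ v ∈ (P : Subgroup G), ∀ z ∈ sSup {J : Subgroup G | Cfsg.IsComponent J ∧ S J},
        v * z * v⁻¹ ∈ sSup {J : Subgroup G | Cfsg.IsComponent J ∧ S J} := fun v hv z hz => by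
      have hle : (sSup {J : Subgroup G | Cfsg.IsComponent J ∧ S J}).map (MulAut.conj v).toMonoidHom ≤
          sSup {J : Subgroup G | Cfsg.IsComponent J ∧ S J} := by
        rw [Subgroup.map_le_iff_le_comap]
        refine sSup_le fun J hJ => ?_
        rw [← Subgroup.map_le_iff_le_comap]
        exact le_sSup ⟨CfsgLib.isComponent_map_equiv _ hJ.1, hS v hv J hJ.2⟩
      exact hle ⟨z, hz, rfl⟩
    rw [Subgroup.mem_normalizer_iff]
    refine fun z => ⟨hmap x hx z, fun hz => ?_⟩
    simpa [mul_assoc] using hmap x⁻¹ (inv_mem hx) _ hz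
  have hEnorm : ∀ S : Subgroup G → Prop,
      E ≤ Subgroup.normalizer ((sSup {J : Subgroup G | Cfsg.IsComponent J ∧ S J} : Subgroup G) : Set G) := by
    intro S x hx
    have hmap : ∀ v ∈ E, ∀ z ∈ sSup {J : Subgroup G | Cfsg.IsComponent J ∧ S J},
        v * z * v⁻¹ ∈ sSup {J : Subgroup G | Cfsg.IsComponent J ∧ S J} := fun v hv z hz => by
      have hle : (sSup {J : Subgroup G | Cfsg.IsComponent J ∧ S J}).map (MulAut.conj v).toMonoidHom ≤
          sSup {J : Subgroup G | Cfsg.IsComponent J ∧ S J} := by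
        rw [Subgroup.map_le_iff_le_comap]
        refine sSup_le fun J hJ z hz => le_sSup (s := {J : Subgroup G | Cfsg.IsComponent J ∧ S J}) hJ ?_
        exact ((Subgroup.mem_normalizer_iff.mp (CfsgLib.Comp.layer_le_normalizer_component hJ.1 hv)) z).mp hz
      exact hle ⟨z, hz, rfl⟩
    rw [Subgroup.mem_normalizer_iff]
    refine fun z => ⟨hmap x hx z, fun hz => ?_⟩
    simpa [mul_assoc] using hmap x⁻¹ (inv_mem hx) _ hz
  have hnot : ∀ (S : Subgroup G → Prop) (J : Subgroup G), Cfsg.IsComponent J → S J →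
      (∀ x ∈ (P : Subgroup G), ∀ J, S J → S (J.map (MulAut.conj x).toMonoidHom)) →
      commutator ↥(P : Subgroup G) ≤ (sSup {J : Subgroup G | Cfsg.IsComponent J ∧ S J}).subgroupOf (P : Subgroup G) := by
    intro S J hJ hSJ hS
    set M := sSup {J : Subgroup G | Cfsg.IsComponent J ∧ S J}
    have hMp : ¬ IsPGroup p M := fun h => by
      haveI := h.isNilpotent
      exact CfsgLib.component_not_le_of_isSolvable hJ (N := M) inferInstance (le_sSup ⟨hJ, hSJ⟩)
    have h := not_le_frattini P M (hstab S hS)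
      (no_complement hcore E M (sSup_le fun J hJ => CfsgLib.le_layer hJ.1) (hEnorm S) hMp)
    haveI : (M.subgroupOf (P : Subgroup G)).Normal :=
      ⟨fun a ha b => ((Subgroup.mem_normalizer_iff.mp (hstab S hS b.2)) (a : G)).mp ha⟩
    obtain ⟨-, -, hc⟩ := cyclic_gen P.2 hgen (M.subgroupOf _) h
    exact hc
  have hO : ∀ x ∈ (P : Subgroup G), ∀ J, Orb J → Orb (J.map (MulAut.conj x).toMonoidHom) := by
    rintro x hx J ⟨v, hv, rfl⟩
    refine ⟨x * v, mul_mem hx hv, ?_⟩
    rw [Subgroup.map_map]
    congr 1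
    ext z; simp [mul_assoc]
  have hO' : ∀ x ∈ (P : Subgroup G), ∀ J, ¬ Orb J → ¬ Orb (J.map (MulAut.conj x).toMonoidHom) := by
    intro x hx J hJ h
    have h' := hO x⁻¹ (inv_mem hx) _ h
    rw [Subgroup.map_map] at h'
    refine hJ ?_
    convert h'
    ext z; simp [mul_assoc]
  have h12 : ∀ a ∈ M₁, ∀ c ∈ M₂, a * c = c * a := by
    have : M₁ ≤ Subgroup.centralizer (M₂ : Set G) := sSup_le fun J₁ h₁ => by
      rw [Subgroup.le_centralizer_iff]
      refine sSup_le fun J₂ h₂ => ?_
      rw [Subgroup.le_centralizer_iff, ← Subgroup.commutator_eq_bot_iff_le_centralizer]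
      exact (CfsgLib.components_eq_or_commute h₁.1 h₂.1).resolve_left fun e => h₂.2 (e ▸ h₁.2)
    exact fun a ha c hc => (Subgroup.mem_centralizer_iff.mp (this ha) c hc).symm
  refine hna' (le_bot_iff.mp fun x hx => ?_)
  have hx1 : (x : G) ∈ M₁ := hnot Orb K hK hKorb hO hx
  have hx2 : (x : G) ∈ M₂ := hnot (fun J => ¬ Orb J) L hL hLorb hO' hx
  have hxC : (x : G) ∈ Subgroup.centralizer (N : Set G) := by
    have hle : E ≤ Subgroup.centralizer ({(x : G)} : Set G) := sSup_le fun J hJ j hj =>
      Subgroup.mem_centralizer_singleton_iff.mpr (by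
        by_cases hJo : Orb J
        · exact h12 j (le_sSup (s := {J : Subgroup G | Cfsg.IsComponent J ∧ Orb J}) ⟨hJ, hJo⟩ hj) x hx2
        · exact (h12 x hx1 j (le_sSup (s := {J : Subgroup G | Cfsg.IsComponent J ∧ ¬ Orb J}) ⟨hJ, hJo⟩ hj)).symm)
    refine Subgroup.mem_centralizer_iff.mpr fun n hn => ?_
    exact Subgroup.mem_centralizer_singleton_iff.mp (hle (hFE ▸ hFN ▸ hn))
  rw [hC, Subgroup.mem_bot] at hxC
  exact Subgroup.mem_bot.mpr (Subtype.ext hxC)

end Aux

/-- Let p be a prime and G a finite group with a non-commutative Sylow p-subgroup P whose Frattini subgroup has index p² in P (P is generated by two elements). Suppose G has no nontrivial normal subgroup of order prime to p and the Frattini subgroup of P contains no nontrivial normal subgroup of G. Then the generalized Fitting subgroup F*(G) is the unique minimal normal subgroup of G, the image of P in G/F*(G) is cyclic, and if F*(G) is not commutative then P permutes the components of G transitively by conjugation. -/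
theorem result {G : Type*} [Group G] [Finite G] (p : ℕ) [Fact p.Prime] (P : Sylow p G) (hna : ¬ IsMulCommutative (P : Subgroup G)) (hgen : (frattini ↥(P : Subgroup G)).index = p ^ 2) (hcore : Cfsg.pPrimeCore p G = ⊥) (hfrat : ((frattini ↥(P : Subgroup G)).map (P : Subgroup G).subtype).normalCore = ⊥) [hFn : (Cfsg.generalizedFittingSubgroup G).Normal] :
    (Cfsg.generalizedFittingSubgroup G ≠ ⊥ ∧ ∀ K : Subgroup G, K.Normal → K ≠ ⊥ → Cfsg.generalizedFittingSubgroup G ≤ K) ∧
      IsCyclic ↥((P : Subgroup G).map (QuotientGroup.mk' (Cfsg.generalizedFittingSubgroup G))) ∧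
      (¬ IsMulCommutative (Cfsg.generalizedFittingSubgroup G) → ∀ K L : Subgroup G, Cfsg.IsComponent K → Cfsg.IsComponent L → ∃ x ∈ (P : Subgroup G), L = K.map (MulAut.conj x).toMonoidHom) := by

  exact Aux.main p P hna hgen hcore hfrat

end Cfsg.Agent.S4172
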