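import Cfsg.Statements.S4176
import Mathlib
import Cfsg.Agent.Lib.OrbitSpan
-- import your own Cfsg.Agent.* helpers here

set_option autoImplicit false
open Cfsg

namespace Cfsg.Agent.S4176

/-- Let k be a field of prime characteristic p, H a finite p-soluble group and ρ a k-linear representation of H on V. Let a be a vector that is fixed by some Sylow p-subgroup of H and whose H-orbit spans V. Then the space of H-fixed vectors has dimension at most 1, and every vector b whose H-orbit has size coprime to the size of the orbit of a is fixed by H. -/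
theorem result {k V H : Type*} [Field k] (p : ℕ) [Fact p.Prime] [CharP k p] [AddCommGroup V] [Module k V]
    [Group H] [Finite H] (hsol : Cfsg.IsPSolvable p H) (ρ : Representation k H V) (a : V)
    (hfix : ∃ P : Sylow p H, ∀ x : H, x ∈ (P : Subgroup H) → ρ x a = a)
    (hspan : Submodule.span k {u : V | ∃ h : H, ρ h a = u} = ⊤) :
    Module.finrank k ρ.invariants ≤ 1 ∧
    ∀ b : V, (Nat.card {u : V | ∃ h : H, ρ h a = u}).Coprime (Nat.card {u : V | ∃ h : H, ρ h b = u}) → ∀ h : H, ρ h b = b := by
  classical
  obtain ⟨n, M, h0, h1, hm, hn, hfac⟩ := hsol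
  obtain ⟨P, hP⟩ := hfix
  have hp : p.Prime := Fact.out
  have hcast : ∀ m : ℕ, ¬ p ∣ m → (m : k) ≠ 0 := fun m hm h => hm ((CharP.cast_eq_zero_iff k p m).mp h)
  have hspanR : ∀ (v : V), v ∈ ρ.invariants ↔ ∀ h : H, ρ h v = v := fun v => Iff.rfl
  -- the main induction
  have key : ∀ i : Fin (n + 1), ∃ E : V →ₗ[k] V, (∀ g v, E (ρ g v) = ρ g (E v)) ∧
      (∀ v, ∀ m ∈ M i, ρ m (E v) = E v) ∧ (∀ v, (∀ h : H, ρ h v = v) → E v = v) ∧
      ∀ b : V, (Nat.card {u : V | ∃ h : H, ρ h a = u}).Coprime (Nat.card {u : V | ∃ h : H, ρ h b = u}) → E b = b := by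
    intro i
    induction i using Fin.induction with
    | zero =>
      refine ⟨LinearMap.id, fun _ _ => rfl, fun v m hm => ?_, fun _ _ => rfl, fun _ _ => rfl⟩
      rw [h0, Subgroup.mem_bot] at hm
      simp [hm]
    | succ i ih =>
      obtain ⟨E, hEc, hEf, hEi, hEb⟩ := ih
      have hMle := hm (Fin.castSucc_le_succ i)
      have := hn i.succ
      set Y := CfsgLib.OrbitSpan.stab ρ (E a) with hY
      have hYa : CfsgLib.OrbitSpan.stab ρ a ≤ Y := fun g (hg : ρ g a = a) => by
        show ρ g (E a) = E a
        rw [← hEc, hg]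
      rcases hfac i with ⟨e, he⟩ | hc
      · -- a `p`-factor acts trivially
        refine ⟨E, hEc, ?_, hEi, hEb⟩
        have hfixa : ∀ m ∈ M i.succ, ρ m (E a) = E a := by
          have h2 : Y.relIndex (M i.succ) = 1 := by
            have hMY : M i.castSucc ≤ Y := fun m hm => hEf a m hm
            have hPY : (P : Subgroup H) ≤ Y := le_trans (fun x hx => hP x hx) hYa
            have hd1 : Y.relIndex (M i.succ) ∣ p ^ e := he ▸ Subgroup.relIndex_dvd_of_le_left (M i.succ) hMY
            have hd2 : Y.relIndex (M i.succ) ∣ Y.index := CfsgLib.TIHall.relIndex_dvd_index_of_normal_right Y (M i.succ)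
            exact Nat.eq_one_of_dvd_coprimes
              (((hp.coprime_iff_not_dvd).mpr fun h => P.not_dvd_index (h.trans (Subgroup.index_dvd_of_le hPY))).pow_left e)
              hd1 hd2
          exact fun m hm => Subgroup.relIndex_eq_one.mp h2 hm
        intro v m hm'
        have hv : v ∈ Submodule.span k {u : V | ∃ h : H, ρ h a = u} := by rw [hspan]; trivial
        induction hv using Submodule.span_induction with
        | mem u hu =>
          obtain ⟨h, rfl⟩ := hu
          rw [hEc, ← Module.End.mul_apply, ← map_mul, show m * h = h * (h⁻¹ * m * h) by group, map_mul,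
            Module.End.mul_apply, hfixa _ (by simpa using (hn i.succ).conj_mem m hm' h⁻¹)]
        | zero => simp
        | add x y _ _ hx hy => rw [map_add, map_add, hx, hy]
        | smul c x _ hx => rw [map_smul, map_smul, hx]
      · -- a `p'`-factor: average
        set A := CfsgLib.OrbitSpan.avg ρ (M i.castSucc) (M i.succ) with hA
        have hq : ((M i.castSucc).relIndex (M i.succ) : k) ≠ 0 :=
          hcast _ fun h => hp.not_dvd_one (hc ▸ Nat.dvd_gcd h dvd_rfl)
        refine ⟨A.comp E, fun g v => ?_, fun v m hm' => ?_, fun v hv => ?_, fun b hb => ?_⟩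
        · show A (E (ρ g v)) = ρ g (A (E v))
          rw [hEc, hA, CfsgLib.OrbitSpan.avg_comm ρ _ _ (hn _) (hn _) g (hEf v)]
        · exact CfsgLib.OrbitSpan.avg_fixed ρ _ _ (hEf v) hm'
        · show A (E v) = v
          rw [hEi v hv, hA, CfsgLib.OrbitSpan.avg_of_fixed ρ _ _ (fun x _ => hv x) hq]
        · show A (E b) = b
          have hEb' := hEb b hb
          rw [hEb']
          set X := CfsgLib.OrbitSpan.stab ρ b ⊓ M i.succ with hX
          set A' := CfsgLib.OrbitSpan.avg ρ (M i.castSucc) X with hA'
          have hMX : M i.castSucc ≤ X := le_inf (fun m hm => show ρ m b = b from hEb' ▸ hEf b m hm) hMle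
          have hX' : ((M i.castSucc).relIndex X : k) ≠ 0 := hcast _ fun h => by
            refine hp.not_dvd_one (hc ▸ Nat.dvd_gcd (h.trans ?_) dvd_rfl)
            rw [← Subgroup.relIndex_mul_relIndex _ _ _ hMX (inf_le_right : X ≤ M i.succ)]
            exact Dvd.intro _ rfl
          have hcop : ∀ g : H, (CfsgLib.OrbitSpan.stab ρ b).index.Coprime (CfsgLib.OrbitSpan.stab ρ (ρ g (E a))).index := by
            intro g
            rw [← CfsgLib.OrbitSpan.card_orbit, ← CfsgLib.OrbitSpan.card_orbit]
            refine hb.symm.coprime_dvd_right ?_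
            have horb : {u : V | ∃ h : H, ρ h (ρ g (E a)) = u} = {u : V | ∃ h : H, ρ h (E a) = u} := by
              ext u
              constructor
              · rintro ⟨h, rfl⟩; exact ⟨h * g, by rw [map_mul, Module.End.mul_apply]⟩
              · rintro ⟨h, rfl⟩; exact ⟨h * g⁻¹, by rw [← Module.End.mul_apply, ← map_mul, inv_mul_cancel_right]⟩
            rw [horb, CfsgLib.OrbitSpan.card_orbit, CfsgLib.OrbitSpan.card_orbit]
            exact Subgroup.index_dvd_of_le hYa
          -- the two averages agree on the image of `E`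
          have hagree : ∀ v, A' (E v) = A (E v) := by
            intro v
            have hv : v ∈ Submodule.span k {u : V | ∃ h : H, ρ h a = u} := by rw [hspan]; trivial
            induction hv using Submodule.span_induction with
            | mem u hu =>
              obtain ⟨g, rfl⟩ := hu
              have hfw : ∀ m ∈ M i.castSucc, ρ m (E (ρ g a)) = E (ρ g a) := hEf (ρ g a)
              have hfin : Fintype (M i.succ) := Fintype.ofFinite _
              set O : Finset V := Finset.univ.image (fun x : M i.succ => ρ (x : H) (E (ρ g a))) with hO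
              have hO1 : ∀ u, u ∈ O ↔ ∃ x ∈ M i.succ, ρ x (E (ρ g a)) = u := fun u => by simp [hO]
              have hO2 : ∀ u, u ∈ O ↔ ∃ x ∈ X, ρ x (E (ρ g a)) = u := by
                intro u
                rw [hO1]
                constructor
                · rintro ⟨m, hm', rfl⟩
                  obtain ⟨x, hx, y, hy, rfl⟩ := CfsgLib.OrbitSpan.normal_factor (hcop g) hm'
                  refine ⟨x, hx, ?_⟩
                  have h2 : ρ y (E (ρ g a)) = E (ρ g a) := by rw [hEc]; exact hy.1
                  rw [map_mul, Module.End.mul_apply, h2]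
                · rintro ⟨x, hx, rfl⟩; exact ⟨x, hx.2, rfl⟩
              rw [hA', hA, CfsgLib.OrbitSpan.avg_eq_orbit ρ _ _ hfw hX' O hO2,
                CfsgLib.OrbitSpan.avg_eq_orbit ρ _ _ hfw hq O hO1]
            | zero => simp
            | add x y _ _ hx hy => rw [map_add, map_add, map_add, hx, hy]
            | smul c x _ hx => rw [map_smul, map_smul, map_smul, hx]
          have h3 := hagree b
          rw [hEb', hA', CfsgLib.OrbitSpan.avg_of_fixed ρ _ X (fun x hx => hx.1) hX'] at h3
          exact h3.symm
  obtain ⟨E, hEc, hEf, hEi, hEb⟩ := key (Fin.last n)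
  have hall : ∀ v h, ρ h (E v) = E v := fun v h => hEf v h (by rw [h1]; trivial)
  refine ⟨?_, fun b hb h => by rw [← hEb b hb]; exact hall b h⟩
  have hle : ρ.invariants ≤ Submodule.span k {E a} := by
    intro v hv
    rw [← hEi v hv]
    have hv' : v ∈ Submodule.span k {u : V | ∃ h : H, ρ h a = u} := by rw [hspan]; trivial
    clear hv
    induction hv' using Submodule.span_induction with
    | mem u hu =>
      obtain ⟨g, rfl⟩ := hu
      rw [hEc, hall]
      exact Submodule.mem_span_singleton_self _
    | zero => simp
    | add x y _ _ hx hy => rw [map_add]; exact Submodule.add_mem _ hx hy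
    | smul c x _ hx => rw [map_smul]; exact Submodule.smul_mem _ c hx
  refine (Submodule.finrank_mono hle).trans ?_
  refine (finrank_span_le_card ({E a} : Set V)).trans ?_
  simp

end Cfsg.Agent.S4176
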