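import Cfsg.Statements.S4177
import Mathlib
-- import your own Cfsg.Agent.* helpers here

set_option autoImplicit false
open Cfsg

namespace Cfsg.Agent.S4177

/-- Let k be a field whose characteristic does not divide the order of the finite group H (for instance a field of characteristic zero), and ρ a k-linear representation of H on V. Let a be a vector whose H-orbit spans V. Then the space of H-fixed vectors has dimension at most 1, and every vector b whose H-orbit has size coprime to the size of the orbit of a is fixed by H. -/
theorem result {k V H : Type*} [Field k] [AddCommGroup V] [Module k V] [Group H] [Finite H]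
    (hchar : ¬ ringChar k ∣ Nat.card H) (ρ : Representation k H V) (a : V)
    (hspan : Submodule.span k {u : V | ∃ h : H, ρ h a = u} = ⊤) :
    Module.finrank k ρ.invariants ≤ 1 ∧
    ∀ b : V, (Nat.card {u : V | ∃ h : H, ρ h a = u}).Coprime (Nat.card {u : V | ∃ h : H, ρ h b = u}) → ∀ h : H, ρ h b = b := by
  classical
  have := Fintype.ofFinite H
  have hne : ∀ K : Subgroup H, (Nat.card K : k) ≠ 0 := fun K h0 =>
    hchar (((ringChar.spec k _).mp h0).trans (Subgroup.card_subgroup_dvd_card K))
  have hH : (Nat.card H : k) ≠ 0 := fun h0 => hchar ((ringChar.spec k _).mp h0)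
  let E : V →ₗ[k] V := ∑ h : H, ρ h
  have hE : ∀ g v, E (ρ g v) = E v := by
    intro g v
    simp only [E, LinearMap.sum_apply]
    exact Fintype.sum_equiv (Equiv.mulRight g) _ _ (fun h => by simp [map_mul])
  have hEfix : ∀ g v, ρ g (E v) = E v := by
    intro g v
    simp only [E, LinearMap.sum_apply, map_sum]
    exact Fintype.sum_equiv (Equiv.mulLeft g) _ _ (fun h => by simp [map_mul])
  have hEr : ∀ v, E v ∈ Submodule.span k {E a} := by
    intro v
    have hv : v ∈ Submodule.span k {u : V | ∃ h : H, ρ h a = u} := hspan ▸ Submodule.mem_top
    induction hv using Submodule.span_induction with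
    | mem u hu => obtain ⟨h, rfl⟩ := hu; rw [hE]; exact Submodule.subset_span rfl
    | zero => simp
    | add u w _ _ hu hw => rw [map_add]; exact add_mem hu hw
    | smul c u _ hu => rw [map_smul]; exact Submodule.smul_mem _ c hu
  refine ⟨?_, ?_⟩
  · have hle : ρ.invariants ≤ Submodule.span k {E a} := by
      intro v hv
      have e : E v = (Nat.card H : k) • v := by
        simp only [E, LinearMap.sum_apply, show ∀ h : H, ρ h v = v from hv, Finset.sum_const,
          Finset.card_univ, Nat.card_eq_fintype_card, Nat.cast_smul_eq_nsmul]
      have := hEr v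
      rwa [e, Submodule.smul_mem_iff _ hH] at this
    refine (Submodule.finrank_mono hle).trans ((finrank_span_le_card _).trans ?_)
    simp
  · intro b hcop
    letI act : MulAction H V :=
      { smul := fun h v => ρ h v
        one_smul := fun v => by show ρ 1 v = v; simp
        mul_smul := fun g h v => by show ρ (g * h) v = ρ g (ρ h v); simp [map_mul] }
    have horb : ∀ v : V, (MulAction.stabilizer H v).index = Nat.card {u : V | ∃ h : H, ρ h v = u} := by
      intro v
      rw [MulAction.index_stabilizer, ← Nat.card_coe_set_eq]
      rfl
    set K : Subgroup H := MulAction.stabilizer H b with hK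
    set La : Subgroup H := MulAction.stabilizer H a with hLa
    have hdvd : La.index ∣ La.relIndex K := by
      have h1 : (La ⊓ K).index = La.relIndex K * K.index := by
        rw [← Subgroup.inf_relIndex_right, Subgroup.relIndex_mul_index inf_le_right]
      refine (Nat.Coprime.dvd_of_dvd_mul_right (k := La.index) (n := K.index) ?_ ?_)
      · rw [hLa, hK, horb, horb]; exact hcop
      · exact h1 ▸ Subgroup.index_dvd_of_le inf_le_left
    have hpos : La.relIndex K ≠ 0 := Subgroup.index_ne_zero_of_finite
    have htrans : MulAction.orbit H a ⊆ MulAction.orbit K a := by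
      apply Eq.ge
      have hfin : (MulAction.orbit H a).Finite := Set.finite_range _
      refine Set.eq_of_subset_of_ncard_le ?_ ?_ hfin
      · rintro u ⟨g, rfl⟩; exact ⟨(g : H), rfl⟩
      · rw [← MulAction.index_stabilizer H a, ← MulAction.index_stabilizer K a]
        exact Nat.le_of_dvd (Nat.pos_of_ne_zero hpos) hdvd
    let T : V →ₗ[k] V := ∑ g : K, ρ (g : H)
    have hT : ∀ g : H, T (ρ g a) = T a := by
      intro g
      obtain ⟨c, hc⟩ := htrans ⟨g, rfl⟩
      have hc' : ρ (c : H) a = ρ g a := hc
      rw [← hc']
      simp only [T, LinearMap.sum_apply]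
      exact Fintype.sum_equiv (Equiv.mulRight c) _ _ (fun h => by simp [map_mul])
    have hTr : ∀ v, T v ∈ Submodule.span k {T a} := by
      intro v
      have hv : v ∈ Submodule.span k {u : V | ∃ h : H, ρ h a = u} := hspan ▸ Submodule.mem_top
      induction hv using Submodule.span_induction with
      | mem u hu => obtain ⟨h, rfl⟩ := hu; rw [hT]; exact Submodule.subset_span rfl
      | zero => simp
      | add u w _ _ hu hw => rw [map_add]; exact add_mem hu hw
      | smul c u _ hu => rw [map_smul]; exact Submodule.smul_mem _ c hu
    have hrel : (Nat.card H : k) • T a = (Nat.card K : k) • E a := by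
      have h1 : T (E a) = (Nat.card H : k) • T a := by
        rw [show E a = ∑ h : H, ρ h a by simp [E], map_sum, Finset.sum_congr rfl (fun h _ => hT h)]
        simp [Finset.sum_const, Nat.card_eq_fintype_card, Nat.cast_smul_eq_nsmul]
      rw [← h1]
      simp only [T, LinearMap.sum_apply, hEfix, Finset.sum_const, Finset.card_univ,
        Nat.card_eq_fintype_card, Nat.cast_smul_eq_nsmul]
    intro h
    have hfix : ρ h (T a) = T a := by
      have := congrArg (ρ h) hrel
      rw [map_smul, map_smul, hEfix, ← hrel] at this
      exact smul_right_injective V hH this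
    obtain ⟨c, hc⟩ := Submodule.mem_span_singleton.mp (hTr b)
    have hTb : T b = (Nat.card K : k) • b := by
      simp only [T, LinearMap.sum_apply, show ∀ g : K, ρ (g : H) b = b from fun g => g.2,
        Finset.sum_const, Finset.card_univ, Nat.card_eq_fintype_card, Nat.cast_smul_eq_nsmul]
    have : ρ h (T b) = T b := by rw [← hc, map_smul, hfix]
    rw [hTb, map_smul] at this
    exact smul_right_injective V (hne K) this

end Cfsg.Agent.S4177
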