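import Cfsg.Statements.S4178
import Mathlib
-- import your own Cfsg.Agent.* helpers here

set_option autoImplicit false
open Cfsg

namespace Cfsg.Agent.S4178

section

/-- If the point stabilizer lies in `R`, then the index of `R` is at most the orbit size. -/
theorem index_le_orbit {H : Type*} [Group H] [Finite H] {X : Type*} [Finite X] (act : H → X → X)
    (h1 : ∀ g k : H, ∀ x, act (g * k) x = act g (act k x)) (h0 : ∀ x, act 1 x = x) (x : X) (s : Set X)
    (hs : ∀ g, act g x ∈ s) (R : Subgroup H) (hR : ∀ g, act g x = x → g ∈ R) : R.index ≤ s.ncard := by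
  classical
  have hf : ∀ g k : H, act g x = act k x → g⁻¹ * k ∈ R := fun g k e => hR _ (by
    rw [h1, ← e, ← h1, inv_mul_cancel, h0])
  rw [Subgroup.index_eq_card, ← Nat.card_coe_set_eq]
  refine Nat.card_le_card_of_injective (fun q : H ⧸ R => (⟨act q.out x, hs _⟩ : s)) fun q r e => ?_
  rw [← q.out_eq, ← r.out_eq]
  exact QuotientGroup.eq.mpr (hf _ _ (congrArg Subtype.val e))

end

/-- Let F be a finite field with q elements, V a non-zero finite-dimensional F-space of dimension d, H a group of invertible linear maps of V, and R the subgroup of H generated by the elements of H that fix some non-zero vector (have eigenvalue 1). Then the index of R in H is at most q^d − 1; and if H leaves invariant some proper non-zero subspace, the index is at most q^(d/2) − 1. -/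
theorem result {F V : Type*} [Field F] [Fintype F] [AddCommGroup V] [Module F V] [FiniteDimensional F V] [Nontrivial V]
    (H : Subgroup (V ≃ₗ[F] V)) :
    (Subgroup.closure {h : ↥H | ∃ v : V, v ≠ 0 ∧ (h : V ≃ₗ[F] V) v = v}).index ≤ Fintype.card F ^ Module.finrank F V - 1 ∧
    ((∃ W : Submodule F V, W ≠ ⊥ ∧ W ≠ ⊤ ∧ ∀ h ∈ H, ∀ w ∈ W, h w ∈ W) →
      ((Subgroup.closure {h : ↥H | ∃ v : V, v ≠ 0 ∧ (h : V ≃ₗ[F] V) v = v}).index : ℝ) ≤ Real.sqrt ((Fintype.card F : ℝ) ^ Module.finrank F V) - 1) := by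
  classical
  haveI : Finite V := Module.finite_of_finite F
  haveI : Finite H := Finite.of_injective (fun h : H => ((h : V ≃ₗ[F] V) : V → V)) fun a b e =>
    Subtype.ext (LinearEquiv.ext fun v => congrFun e v)
  set R := Subgroup.closure {h : ↥H | ∃ v : V, v ≠ 0 ∧ (h : V ≃ₗ[F] V) v = v} with hR
  have hq : ∀ W : Submodule F V, ({w : W | w ≠ 0}).ncard = Fintype.card F ^ Module.finrank F W - 1 := by
    intro W
    haveI : Fintype W := Fintype.ofFinite W
    have e : {w : W | w ≠ 0} = ({0} : Set W)ᶜ := by ext; simp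
    rw [e, Set.ncard_compl, Set.ncard_singleton, Nat.card_eq_fintype_card, Module.card_eq_pow_finrank (K := F)]
  have main : ∀ W : Submodule F V, W ≠ ⊥ → (∀ h ∈ H, ∀ w ∈ W, h w ∈ W) →
      R.index ≤ Fintype.card F ^ Module.finrank F W - 1 := by
    intro W hW hinv
    obtain ⟨v, hv, hv0⟩ := (Submodule.ne_bot_iff W).mp hW
    rw [← hq W]
    refine index_le_orbit (fun (h : H) (w : W) => (⟨(h : V ≃ₗ[F] V) w, hinv h h.2 w w.2⟩ : W))
      (fun g k w => rfl) (fun w => rfl) ⟨v, hv⟩ {w : W | w ≠ 0} (fun g => fun e => ?_) R (fun g e => ?_)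
    · exact hv0 ((g : V ≃ₗ[F] V).map_eq_zero_iff.mp (congrArg Subtype.val e))
    · exact Subgroup.subset_closure ⟨v, hv0, congrArg Subtype.val e⟩
  refine ⟨?_, ?_⟩
  · have h1 := main ⊤ top_ne_bot fun _ _ _ _ => Submodule.mem_top
    rwa [finrank_top] at h1
  · rintro ⟨W, hW0, hWt, hinv⟩
    have h1 := main W hW0 hinv
    have h2 : R.index ≤ Fintype.card F ^ Module.finrank F (V ⧸ W) - 1 := by
      haveI : Finite (V ⧸ W) := Finite.of_surjective _ W.mkQ_surjective
      haveI : Fintype (V ⧸ W) := Fintype.ofFinite _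
      haveI : Nontrivial (V ⧸ W) := Submodule.Quotient.nontrivial_iff.mpr hWt
      obtain ⟨x, hx⟩ := exists_ne (0 : V ⧸ W)
      have e : {w : V ⧸ W | w ≠ 0} = ({0} : Set (V ⧸ W))ᶜ := by ext; simp
      have hc : ({w : V ⧸ W | w ≠ 0}).ncard = Fintype.card F ^ Module.finrank F (V ⧸ W) - 1 := by
        rw [e, Set.ncard_compl, Set.ncard_singleton, Nat.card_eq_fintype_card, Module.card_eq_pow_finrank (K := F)]
      rw [← hc]
      have hcomap : ∀ g : H, W ≤ W.comap ((g : V ≃ₗ[F] V) : V →ₗ[F] V) := fun g w hw => hinv g g.2 w hw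
      let act : H → V ⧸ W → V ⧸ W := fun g => W.mapQ W _ (hcomap g)
      have hact : ∀ g k : H, ∀ y, act (g * k) y = act g (act k y) := fun g k y => by
        obtain ⟨u, rfl⟩ := W.mkQ_surjective y; rfl
      have hact0 : ∀ y, act 1 y = y := fun y => by obtain ⟨u, rfl⟩ := W.mkQ_surjective y; rfl
      refine index_le_orbit act hact hact0 x {w : V ⧸ W | w ≠ 0} (fun g => fun e' => hx ?_) R (fun g e' => ?_)
      · rw [← hact0 x, ← inv_mul_cancel g, hact, e']
        exact map_zero (W.mapQ W _ (hcomap g⁻¹))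
      · by_contra hg
        have hinj : Function.Injective ⇑(((g : V ≃ₗ[F] V) : V →ₗ[F] V) - (LinearMap.id : V →ₗ[F] V)) := by
          rw [← LinearMap.ker_eq_bot, Submodule.eq_bot_iff]
          intro u hu
          by_contra hu0
          refine hg (Subgroup.subset_closure ⟨u, hu0, ?_⟩)
          rw [LinearMap.mem_ker, LinearMap.sub_apply, sub_eq_zero] at hu
          exact hu
        obtain ⟨u, rfl⟩ := W.mkQ_surjective x
        have hw : (g : V ≃ₗ[F] V) u - u ∈ W := (Submodule.Quotient.eq W).mp e'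
        -- `g - 1` is bijective on `W`
        let φ : W →ₗ[F] W := ((((g : V ≃ₗ[F] V) : V →ₗ[F] V) - (LinearMap.id : V →ₗ[F] V)).restrict
          (fun w hw' => W.sub_mem (hinv g g.2 w hw') hw'))
        have hφ : Function.Surjective φ := LinearMap.surjective_of_injective (fun a b hab =>
          Subtype.ext (hinj (congrArg Subtype.val hab)))
        obtain ⟨w, hw'⟩ := hφ ⟨_, hw⟩
        have huw : u = w := hinj (show (g : V ≃ₗ[F] V) u - u = (g : V ≃ₗ[F] V) w - w from (congrArg Subtype.val hw').symm)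
        exact hx ((Submodule.Quotient.mk_eq_zero W).mpr (huw ▸ w.2))
    have h3 := Submodule.finrank_quotient_add_finrank W
    set a := Module.finrank F W
    set b := Module.finrank F (V ⧸ W)
    set Q : ℕ := Fintype.card F
    have hQ : 1 ≤ Q := Fintype.card_pos
    have hpow : ∀ k, 1 ≤ Q ^ k := fun k => Nat.one_le_pow _ _ hQ
    have key : ∃ c : ℕ, R.index ≤ Q ^ c - 1 ∧ c + c ≤ Module.finrank F V := by
      rcases le_total a b with h | h
      · exact ⟨a, h1, by omega⟩
      · exact ⟨b, h2, by omega⟩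
    obtain ⟨c, hc1, hc2⟩ := key
    have h4 : ((R.index : ℕ) : ℝ) + 1 ≤ (Q : ℝ) ^ c := by
      have : R.index + 1 ≤ Q ^ c := by have := hpow c; omega
      exact_mod_cast this
    have h5 : (Q : ℝ) ^ c ≤ Real.sqrt ((Q : ℝ) ^ Module.finrank F V) := by
      refine Real.le_sqrt_of_sq_le ?_
      rw [← pow_mul]
      exact pow_le_pow_right₀ (by exact_mod_cast hQ) (by omega)
    linarith

end Cfsg.Agent.S4178
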