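import Cfsg.Statements.S4181
import Cfsg.Agent.Lib.SylowFixedRatio

set_option autoImplicit false
open Cfsg

namespace Cfsg.Agent.S4181

open Cfsg.Agent.SylowFixedRatio
open scoped Pointwise

/-- Double counting: cosets of `H` times Sylow subgroups of `H`. -/
theorem card_pairs {G : Type*} [Group G] [Finite G] (p : ℕ) [Fact p.Prime] (H : Subgroup G)
    (P : Sylow p G) (hP : (P : Subgroup G) ≤ H) :
    Nat.card (G ⧸ H) * Nat.card (Sylow p ↥H)
      = Nat.card (Sylow p G) * Nat.card {a : G ⧸ H // P ∈ fixSyl p G a} := by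
  classical
  haveI := Fintype.ofFinite (G ⧸ H)
  haveI := Fintype.ofFinite (Sylow p G)
  have hstab : MulAction.stabilizer G ((1 : G) : G ⧸ H) = H := MulAction.stabilizer_quotient H
  have e1 : ∀ a : G ⧸ H, Nat.card {R : Sylow p G // R ∈ fixSyl p G a} = Nat.card (Sylow p ↥H) := by
    intro a
    obtain ⟨g, rfl⟩ := QuotientGroup.mk_surjective a
    have hg : ((g : G) : G ⧸ H) = g • ((1 : G) : G ⧸ H) := by simp [MulAction.Quotient.smul_coe]
    rw [hg]
    refine Eq.trans ?_ (Nat.card_congr (Equiv.ofBijective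
      (fun R : {R : Sylow p G // (R : Subgroup G) ≤ H} => R.1.subtype R.2) ⟨?_, ?_⟩))
    · refine (Nat.card_congr (Equiv.subtypeEquiv (MulAction.toPerm g) fun R => ?_)).symm
      show (R : Subgroup G) ≤ H ↔ g • R ∈ fixSyl p G (g • ((1 : G) : G ⧸ H))
      rw [smul_mem_fixSyl_iff, fixSyl, Set.mem_ofPred_eq, hstab]
    · intro R R' e
      exact Subtype.ext (Sylow.subtype_injective e)
    · intro R
      obtain ⟨R', hR', e⟩ := exists_lift hP R
      exact ⟨⟨R', hR'⟩, e⟩
  have e2 : ∀ R : Sylow p G, Nat.card {a : G ⧸ H // R ∈ fixSyl p G a}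
      = Nat.card {a : G ⧸ H // P ∈ fixSyl p G a} := by
    intro R
    obtain ⟨g, rfl⟩ := MulAction.exists_smul_eq G P R
    refine (Nat.card_congr (Equiv.subtypeEquiv (MulAction.toPerm g) fun a => ?_)).symm
    exact (smul_mem_fixSyl_iff g).symm
  have key : Nat.card (Σ a : G ⧸ H, {R : Sylow p G // R ∈ fixSyl p G a})
      = Nat.card (Σ R : Sylow p G, {a : G ⧸ H // R ∈ fixSyl p G a}) :=
    Nat.card_congr ⟨fun x => ⟨x.2.1, x.1, x.2.2⟩, fun x => ⟨x.2.1, x.1, x.2.2⟩,
      fun _ => rfl, fun _ => rfl⟩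
  rw [Nat.card_sigma, Nat.card_sigma, Finset.sum_congr rfl fun a _ => e1 a,
    Finset.sum_congr rfl fun R _ => e2 R, Finset.sum_const, Finset.sum_const, Finset.card_univ,
    Finset.card_univ, smul_eq_mul, smul_eq_mul] at key
  rw [Nat.card_eq_fintype_card, Nat.card_eq_fintype_card (α := Sylow p G)]
  exact key

/-- Let p be a prime and G a finite group generated by its elements of p-power order, and let H be a proper subgroup of G containing a Sylow p-subgroup of G. Then 2p − 1 times the number of Sylow p-subgroups of H is at most p − 1 times the number of Sylow p-subgroups of G. -/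
theorem result {G : Type*} [Group G] [Finite G] (p : ℕ) [Fact p.Prime] (hgen : Subgroup.closure {g : G | ∃ k : ℕ, orderOf g = p ^ k} = ⊤)
    (H : Subgroup G) (hH : H ≠ ⊤) (P : Sylow p G) (hP : (P : Subgroup G) ≤ H) :
    (2 * p - 1) * Nat.card (Sylow p ↥H) ≤ (p - 1) * Nat.card (Sylow p G) := by
  haveI : Finite (G ⧸ H) := inferInstance
  have hng : ∀ a : G ⧸ H, ∃ R : Sylow p G, R ∉ fixSyl p G a := by
    intro a
    by_contra hcon
    push_neg at hcon
    apply hH
    have hall : MulAction.stabilizer G a = ⊤ := by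
      rw [eq_top_iff, ← hgen, Subgroup.closure_le]
      rintro x ⟨k, hk⟩
      have hx : IsPGroup p (Subgroup.zpowers x) := by
        apply IsPGroup.of_card (n := k)
        rw [Nat.card_zpowers, hk]
      obtain ⟨R, hR⟩ := hx.exists_le_sylow
      exact hcon R (hR (Subgroup.mem_zpowers x))
    obtain ⟨g, rfl⟩ := QuotientGroup.mk_surjective a
    rw [eq_top_iff]
    intro x _
    have h1 : g * x * g⁻¹ ∈ MulAction.stabilizer G (g : G ⧸ H) := by rw [hall]; exact Subgroup.mem_top _
    have h2 : ((g * x : G) : G ⧸ H) = (g : G ⧸ H) := by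
      have h3 : (g * x * g⁻¹) • (g : G ⧸ H) = (g : G ⧸ H) := h1
      rwa [MulAction.Quotient.smul_coe, smul_eq_mul, inv_mul_cancel_right] at h3
    rw [QuotientGroup.eq] at h2
    simpa using inv_mem h2
  have h1 := fixed_ratio (p := p) hng P
  have h2 := card_pairs p H P hP
  have hn : 0 < Nat.card (G ⧸ H) := Nat.card_pos
  refine Nat.le_of_mul_le_mul_left ?_ hn
  calc Nat.card (G ⧸ H) * ((2 * p - 1) * Nat.card (Sylow p ↥H))
      = (2 * p - 1) * Nat.card {a : G ⧸ H // P ∈ fixSyl p G a} * Nat.card (Sylow p G) := by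
        rw [mul_left_comm, h2]; ring
    _ ≤ (p - 1) * Nat.card (G ⧸ H) * Nat.card (Sylow p G) := Nat.mul_le_mul_right _ h1
    _ = Nat.card (G ⧸ H) * ((p - 1) * Nat.card (Sylow p G)) := by ring

end Cfsg.Agent.S4181
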