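import Cfsg.Statements.S4182

-- import your own Cfsg.Agent.* helpers here

set_option autoImplicit false
open Cfsg

namespace Cfsg.Agent.S4182

/-- A finite `p`-group is not covered by `p` proper subgroups. -/
theorem pgroup_cover_card {G : Type*} [Group G] [Finite G] {p : ℕ} [Fact p.Prime]
    (P : Subgroup G) (hP : IsPGroup p P) {ι : Type*} (s : Finset ι) (M : ι → Subgroup G)
    (hM : ∀ i ∈ s, ¬ P ≤ M i) (hcov : ∀ a ∈ P, ∃ i ∈ s, a ∈ M i) : p + 1 ≤ s.card := by
  classical
  obtain ⟨i₀, hi₀, -⟩ := hcov 1 P.one_mem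
  by_contra hlt
  push Not at hlt
  have hle : s.card ≤ p := by omega
  obtain ⟨n, hn⟩ := hP.exists_card_eq
  have hsize : ∀ i ∈ s, p * Nat.card ↥(M i ⊓ P : Subgroup G) ≤ Nat.card P := by
    intro i hi
    have hdvd : Nat.card ↥(M i ⊓ P : Subgroup G) ∣ Nat.card P :=
      Subgroup.card_dvd_of_le inf_le_right
    obtain ⟨k, hk⟩ := hdvd
    have hk1 : k ≠ 1 := by
      intro h1
      apply hM i hi
      rw [h1, mul_one] at hk
      have := Subgroup.eq_of_le_of_card_ge (inf_le_right : M i ⊓ P ≤ P) hk.le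
      exact this ▸ inf_le_left
    have hkdvd : k ∣ p ^ n := ⟨Nat.card ↥(M i ⊓ P : Subgroup G), by rw [← hn, hk, mul_comm]⟩
    obtain ⟨j, -, hj⟩ := (Nat.dvd_prime_pow Fact.out).1 hkdvd
    have hj0 : j ≠ 0 := by rintro rfl; exact hk1 (by simpa using hj)
    rw [hk, mul_comm]
    apply Nat.mul_le_mul_left
    rw [hj]
    exact Nat.le_self_pow hj0 p
  have hsub : ((P : Set G) \ {1}) ⊆ ⋃ i ∈ s, (((M i ⊓ P : Subgroup G) : Set G) \ {1}) := by
    rintro a ⟨ha, ha1⟩
    obtain ⟨i, hi, hai⟩ := hcov a ha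
    simp only [Set.mem_iUnion]
    exact ⟨i, hi, ⟨Subgroup.mem_inf.2 ⟨hai, ha⟩, ha1⟩⟩
  have hdiff : ∀ L : Subgroup G, ((L : Set G) \ {1}).ncard + 1 = Nat.card L := by
    intro L
    rw [Set.ncard_sdiff_singleton_add_one (SetLike.mem_coe.2 L.one_mem) (Set.toFinite _),
      ← Nat.card_coe_set_eq]
    rfl
  have h1 := (Set.ncard_le_ncard hsub (Set.toFinite _)).trans
    (Finset.set_ncard_biUnion_le s _)
  have h2 : p * ∑ i ∈ s, (((M i ⊓ P : Subgroup G) : Set G) \ {1}).ncard
      + s.card * p ≤ s.card * Nat.card P := by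
    have h3 : ∑ i ∈ s, p * Nat.card ↥(M i ⊓ P : Subgroup G) ≤ ∑ _i ∈ s, Nat.card P :=
      Finset.sum_le_sum hsize
    have h4 : ∑ i ∈ s, p * Nat.card ↥(M i ⊓ P : Subgroup G)
        = p * ∑ i ∈ s, (((M i ⊓ P : Subgroup G) : Set G) \ {1}).ncard + s.card * p := by
      rw [Finset.mul_sum]
      simp only [← hdiff, Nat.mul_add, Finset.sum_add_distrib, mul_one, Finset.sum_const,
        smul_eq_mul]
    rw [h4, Finset.sum_const, smul_eq_mul] at h3
    exact h3
  have h5 := hdiff P
  have hp2 : 2 ≤ p := (Fact.out : p.Prime).two_le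
  have hs1 : 1 ≤ s.card := Finset.card_pos.2 ⟨i₀, hi₀⟩
  have hp1 : 2 ≤ Nat.card P := by
    by_contra hc
    have : P = ⊥ := Subgroup.eq_bot_of_card_le _ (by omega)
    exact hM i₀ hi₀ (this ▸ bot_le)
  nlinarith

theorem cover_card_aux {G : Type*} [Group G] [Finite G] {p : ℕ} [Fact p.Prime] (n : ℕ) :
    ∀ H : Subgroup G, Nat.card H = n →
      H = Subgroup.closure {g : G | g ∈ H ∧ ∃ k : ℕ, orderOf g = p ^ k} →
      ∀ s : Finset (Subgroup G), (∀ K ∈ s, ¬ H ≤ K) →
        (∀ g ∈ H, (∃ k : ℕ, orderOf g = p ^ k) → ∃ K ∈ s, g ∈ K) → p + 1 ≤ s.card := by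
  classical
  induction n using Nat.strong_induction_on with
  | _ n ih =>
  intro H hcard hgen s
  induction s using Finset.strongInduction with
  | _ s ihs =>
  intro hprop hcov
  by_contra hlt
  push Not at hlt
  -- every proper subgroup generated by `p`-elements lies in a member
  have key : ∀ R : Subgroup G, R ≤ H → R ≠ H →
      R = Subgroup.closure {g : G | g ∈ R ∧ ∃ k : ℕ, orderOf g = p ^ k} →
      ∃ K ∈ s, R ≤ K := by
    intro R hRH hne hR
    by_contra hno
    push Not at hno
    have hc : Nat.card R < n := by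
      rw [← hcard]
      refine lt_of_le_of_ne (Subgroup.card_le_of_le hRH) fun h => hne ?_
      exact Subgroup.eq_of_le_of_card_ge hRH h.ge
    have := ih _ hc R rfl hR s hno (fun g hg => hcov g (hRH hg))
    omega
  -- minimality gives an element covered once
  have huniq : ∀ K ∈ s, ∃ x ∈ H, (∃ k : ℕ, orderOf x = p ^ k) ∧ x ∈ K ∧
      ∀ K' ∈ s, x ∈ K' → K' = K := by
    intro K hK
    by_contra hno
    push Not at hno
    have h1 := ihs (s.erase K) (Finset.erase_ssubset hK)
      (fun L hL => hprop L (Finset.mem_of_mem_erase hL)) ?_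
    · have := Finset.card_erase_le (s := s) (a := K); omega
    · intro g hg hgp
      obtain ⟨L, hL, hgL⟩ := hcov g hg hgp
      rcases eq_or_ne L K with rfl | hne
      · obtain ⟨L', hL', hgL', hne'⟩ := hno g hg hgp hgL
        exact ⟨L', Finset.mem_erase.2 ⟨hne', hL'⟩, hgL'⟩
      · exact ⟨L, Finset.mem_erase.2 ⟨hne, hL⟩, hgL⟩
  -- the subgroup generated by the `p`-elements of each member is normal in `H`
  let M : Subgroup G → Subgroup G := fun K =>
    Subgroup.closure {g : G | g ∈ H ∧ g ∈ K ∧ ∃ k : ℕ, orderOf g = p ^ k}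
  have hMK : ∀ K, M K ≤ K := fun K => (Subgroup.closure_le _).2 fun g hg => hg.2.1
  have hMH : ∀ K, M K ≤ H := fun K => (Subgroup.closure_le _).2 fun g hg => hg.1
  have hMne : ∀ K ∈ s, M K ≠ H := fun K hK h => hprop K hK (h ▸ hMK K)
  have hnorm : ∀ K ∈ s, H ≤ Subgroup.normalizer (M K : Set G) := by
    intro K hK
    obtain ⟨x, hxH, hxp, hxK, hxu⟩ := huniq K hK
    have hxM : x ∈ M K := Subgroup.subset_closure ⟨hxH, hxK, hxp⟩
    have hF : ∀ g ∈ H, ∀ z ∈ H, (∃ k : ℕ, orderOf z = p ^ k) → ∀ R : Subgroup G,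
        g * x * g⁻¹ ∈ R → z ∈ R → ¬ H ≤ R → g⁻¹ * z * g ∈ M K := by
      intro g hg z hz hzp R hxR hzR hHR
      have hw : g⁻¹ * z * g ∈ H := H.mul_mem (H.mul_mem (H.inv_mem hg) hz) hg
      have hwp : ∃ k : ℕ, orderOf (g⁻¹ * z * g) = p ^ k := by
        obtain ⟨k, hk⟩ := hzp
        refine ⟨k, ?_⟩
        rw [show g⁻¹ * z * g = MulAut.conj g⁻¹ z by simp [MulAut.conj_apply],
          MulEquiv.orderOf_eq]
        exact hk
      let T : Subgroup G := Subgroup.closure {x, g⁻¹ * z * g}
      have hTH : T ≤ H := (Subgroup.closure_le _).2 (by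
        rintro a (rfl | rfl)
        · exact hxH
        · exact hw)
      have hTne : T ≠ H := by
        intro h
        apply hHR
        intro a ha
        have hTR : T ≤ R.comap (MulAut.conj g).toMonoidHom := (Subgroup.closure_le _).2 (by
          rintro b (rfl | rfl)
          · simpa [MulAut.conj_apply] using hxR
          · simpa [MulAut.conj_apply, mul_assoc] using hzR)
        have : g⁻¹ * a * g ∈ T := h ▸ H.mul_mem (H.mul_mem (H.inv_mem hg) ha) hg
        simpa [MulAut.conj_apply, mul_assoc] using hTR this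
      obtain ⟨K', hK', hTK'⟩ := key T hTH hTne (by
        refine le_antisymm ?_ ((Subgroup.closure_le _).2 fun a ha => ha.1)
        refine (Subgroup.closure_le _).2 ?_
        rintro a (rfl | rfl)
        · exact Subgroup.subset_closure ⟨Subgroup.subset_closure (by simp), hxp⟩
        · exact Subgroup.subset_closure ⟨Subgroup.subset_closure (by simp), hwp⟩)
      have : K' = K := hxu K' hK' (hTK' (Subgroup.subset_closure (by simp)))
      exact Subgroup.subset_closure
        ⟨hw, this ▸ hTK' (Subgroup.subset_closure (by simp)), hwp⟩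
    -- conjugates of `x` in one member
    have hfix : ∀ c ∈ H, c * x * c⁻¹ ∈ M K → c⁻¹ ∈ Subgroup.normalizer (M K : Set G) := by
      intro c hc hcx
      have hle : (M K).map (MulAut.conj c⁻¹).toMonoidHom ≤ M K := by
        rw [Subgroup.map_le_iff_le_comap]
        refine (Subgroup.closure_le _).2 ?_
        rintro w ⟨hwH, hwK, hwp⟩
        have := hF c hc w hwH hwp (M K) hcx (Subgroup.subset_closure ⟨hwH, hwK, hwp⟩)
          (fun h => hMne K hK (le_antisymm (hMH K) h))
        simpa [MulAut.conj_apply] using this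
      have heq : (M K).map (MulAut.conj c⁻¹).toMonoidHom = M K :=
        Subgroup.eq_of_le_of_card_ge hle
          (Subgroup.card_map_of_injective (MulAut.conj c⁻¹).injective).ge
      rw [Subgroup.mem_normalizer_iff]
      intro w
      constructor
      · intro hw
        rw [← heq]
        exact ⟨w, hw, by simp [MulAut.conj_apply]⟩
      · intro hw
        rw [← heq] at hw
        obtain ⟨v, hv, hve⟩ := hw
        have : v = w := by simpa [MulAut.conj_apply] using hve
        exact this ▸ hv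
    suffices hz : ∀ z ∈ H, (∃ k : ℕ, orderOf z = p ^ k) →
        z ∈ Subgroup.normalizer (M K : Set G) by
      intro h hh
      rw [hgen] at hh
      exact (Subgroup.closure_le _).2 (fun a ha => hz a ha.1 ha.2) hh
    intro z hz hzp
    by_contra hzN
    -- the members serving the first `p` conjugates of `x`
    have hxi : ∀ i : Fin p, ∃ L ∈ s, z ^ (i : ℕ) * x * (z ^ (i : ℕ))⁻¹ ∈ L := fun i => by
      apply hcov _ (H.mul_mem (H.mul_mem (pow_mem hz _) hxH) (H.inv_mem (pow_mem hz _)))
      obtain ⟨k, hk⟩ := hxp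
      refine ⟨k, ?_⟩
      rw [← MulAut.conj_apply, MulEquiv.orderOf_eq]
      exact hk
    choose Φ hΦs hΦx using hxi
    have hserve : ∀ i : Fin p, ∀ w ∈ H, (∃ k : ℕ, orderOf w = p ^ k) → w ∈ Φ i →
        (z ^ (i : ℕ))⁻¹ * w * z ^ (i : ℕ) ∈ M K := fun i w hw hwp hwi =>
      hF _ (pow_mem hz _) w hw hwp (Φ i) (hΦx i) hwi (hprop _ (hΦs i))
    have hinj : Function.Injective Φ := by
      intro i j hij
      by_contra hne
      wlog hlt' : (i : ℕ) < (j : ℕ) generalizing i j
      · exact this hij.symm (Ne.symm hne)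
          (lt_of_le_of_ne (not_lt.1 hlt') fun h => hne (Fin.ext h.symm))
      obtain ⟨d, hd⟩ := Nat.exists_eq_add_of_lt hlt'
      have hjp := j.isLt
      set e : ℕ := d + 1 with he
      have hxj : z ^ (j : ℕ) * x * (z ^ (j : ℕ))⁻¹ ∈ Φ i := hij ▸ hΦx j
      obtain ⟨k, hk⟩ := hxp
      have hmem := hserve i _ (H.mul_mem (H.mul_mem (pow_mem hz _) hxH)
        (H.inv_mem (pow_mem hz _)))
        ⟨k, by rw [← MulAut.conj_apply, MulEquiv.orderOf_eq]; exact hk⟩ hxj
      have hce : z ^ e * x * (z ^ e)⁻¹ ∈ M K := by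
        have : (j : ℕ) = (i : ℕ) + e := by omega
        rw [this, pow_add] at hmem
        simpa [mul_assoc] using hmem
      have hNe : z ^ e ∈ Subgroup.normalizer (M K : Set G) := by
        simpa using inv_mem (hfix _ (pow_mem hz _) hce)
      apply hzN
      obtain ⟨m, hm⟩ := hzp
      have hco : Nat.Coprime e (orderOf z) := by
        rw [hm]
        refine Nat.Coprime.pow_right _ ?_
        refine ((Nat.Prime.coprime_iff_not_dvd Fact.out).2 fun hdvd => ?_).symm
        have := Nat.le_of_dvd (by omega) hdvd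
        omega
      obtain ⟨r, hr⟩ := exists_pow_eq_self_of_coprime hco
      rw [← hr]
      exact pow_mem hNe r
    have hsurj : ∀ L ∈ s, ∃ i, Φ i = L := by
      have himg : Finset.univ.image Φ = s :=
        Finset.eq_of_subset_of_card_le (by
          intro L hL
          obtain ⟨i, -, rfl⟩ := Finset.mem_image.1 hL
          exact hΦs i) (by
          rw [Finset.card_image_of_injective _ hinj, Finset.card_univ, Fintype.card_fin]
          omega)
      intro L hL
      rw [← himg] at hL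
      obtain ⟨i, -, rfl⟩ := Finset.mem_image.1 hL
      exact ⟨i, rfl⟩
    obtain ⟨L, hL, hzL⟩ := hcov z hz hzp
    obtain ⟨i, rfl⟩ := hsurj L hL
    have hzM := hserve i z hz hzp hzL
    rw [mul_assoc, (Commute.self_pow z (i : ℕ)).eq, inv_mul_cancel_left] at hzM
    exact hzN (Subgroup.le_normalizer hzM)
  -- a Sylow subgroup of `H` is then covered by proper subgroups
  obtain ⟨P⟩ : Nonempty (Sylow p ↥H) := inferInstance
  let P' : Subgroup G := (P : Subgroup ↥H).map H.subtype
  have hP' : IsPGroup p ↥P' := P.isPGroup'.map _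
  have hP'M : ∀ K ∈ s, ¬ P' ≤ M K := by
    intro K hK hle
    apply hMne K hK
    refine le_antisymm (hMH K) ?_
    intro h hh
    rw [hgen] at hh
    refine (Subgroup.closure_le _).2 ?_ hh
    rintro a ⟨haH, k, hk⟩
    have hk' : orderOf (⟨a, haH⟩ : ↥H) = p ^ k := by rw [Subgroup.orderOf_mk]; exact hk
    have hpg : IsPGroup p (Subgroup.zpowers (⟨a, haH⟩ : ↥H)) :=
      IsPGroup.of_card (by rw [Nat.card_zpowers]; exact hk')
    obtain ⟨Q, hQ⟩ := hpg.exists_le_sylow
    obtain ⟨g, hg⟩ := MulAction.exists_smul_eq ↥H P Q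
    have haQ : (⟨a, haH⟩ : ↥H) ∈ (g • P : Sylow p ↥H) := hg ▸ hQ (Subgroup.mem_zpowers _)
    change (⟨a, haH⟩ : ↥H) ∈ ((g • P : Sylow p ↥H) : Subgroup ↥H) at haQ
    rw [Sylow.coe_subgroup_smul, Subgroup.mem_pointwise_smul_iff_inv_smul_mem] at haQ
    have hconj : (g : G)⁻¹ * a * (g : G) ∈ M K := by
      refine hle ⟨_, haQ, ?_⟩
      simp [MulAut.smul_def]
    have := (Subgroup.mem_normalizer_iff.1 (hnorm K hK g.2) _).1 hconj
    simpa [mul_assoc] using this
  have hP'cov : ∀ a ∈ P', ∃ K ∈ s, a ∈ M K := by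
    rintro _ ⟨a, ha, rfl⟩
    obtain ⟨k, hk⟩ := IsPGroup.iff_orderOf.1 P.isPGroup' ⟨a, ha⟩
    have hka : orderOf ((H.subtype a : G)) = p ^ k := by
      simpa [Subgroup.orderOf_coe] using hk
    obtain ⟨K, hK, haK⟩ := hcov _ a.2 ⟨k, hka⟩
    exact ⟨K, hK, Subgroup.subset_closure ⟨a.2, haK, k, hka⟩⟩
  have := pgroup_cover_card P' hP' s M hP'M hP'cov
  omega

/-- Let p be a prime and G a finite group generated by its p-elements. If a finite family of proper subgroups of G covers the set of p-elements of G (every element of p-power order lies in one of them), then the family has at least p + 1 members. -/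
theorem result {G : Type*} [Group G] [Finite G] (p : ℕ) [Fact p.Prime] (hgen : Subgroup.closure {g : G | ∃ k : ℕ, orderOf g = p ^ k} = ⊤)
    {ι : Type*} [Fintype ι] (K : ι → Subgroup G) (hK : ∀ i, K i ≠ ⊤)
    (hcov : ∀ g : G, (∃ k : ℕ, orderOf g = p ^ k) → ∃ i, g ∈ K i) :
    p + 1 ≤ Fintype.card ι := by
  classical
  have htop : (⊤ : Subgroup G) =
      Subgroup.closure {g : G | g ∈ (⊤ : Subgroup G) ∧ ∃ k : ℕ, orderOf g = p ^ k} := by
    rw [← hgen]
    congr 1
    ext g
    simp [hgen]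
  have h := cover_card_aux (G := G) (p := p) _ ⊤ rfl htop (Finset.univ.image K) (by
    intro L hL hle
    obtain ⟨i, -, rfl⟩ := Finset.mem_image.1 hL
    exact hK i (top_le_iff.1 hle)) (by
    intro g _ hg
    obtain ⟨i, hi⟩ := hcov g hg
    exact ⟨K i, Finset.mem_image.2 ⟨i, Finset.mem_univ _, rfl⟩, hi⟩)
  exact h.trans Finset.card_image_le

end Cfsg.Agent.S4182
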