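import Cfsg.Statements.S4184
import Mathlib

set_option autoImplicit false
open Cfsg

namespace Cfsg.Agent.S4184

open Subgroup

/-- The index of a centraliser grows along inclusions. -/
theorem index_dvd_of_commute {G : Type*} [Group G] [Finite G] {g h : G} (hc : Commute g h)
    (hco : (orderOf g).Coprime (orderOf h)) :
    (centralizer ({g} : Set G)).index ∣ (centralizer ({g * h} : Set G)).index := by
  refine Subgroup.index_dvd_of_le fun x hx => ?_
  rw [mem_centralizer_singleton_iff] at hx ⊢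
  -- `g` is a power of `g * h`
  obtain ⟨j, hj⟩ : ∃ j : ℕ, g = (g * h) ^ j := by
    obtain ⟨a, ha⟩ := exists_pow_eq_self_of_coprime (x := g) (n := orderOf h) hco.symm
    refine ⟨orderOf h * a, ?_⟩
    rw [hc.mul_pow, pow_mul, pow_mul, ha, pow_orderOf_eq_one, one_pow, mul_one]
  rw [hj]
  exact ((show Commute x (g * h) from hx).pow_right j).eq

/-- Let G and M be finite groups with trivial centres and the same set of conjugacy class sizes, and suppose the prime graph of M is disconnected: the prime divisors of #M split into two non-empty parts such that M has no element of order pq with p in one part and q in the other. Then #G = #M. -/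
theorem result {G M : Type*}
    [Group G] [Finite G] [Group M] [Finite M] (hZG : Subgroup.center G = ⊥) (hZM : Subgroup.center M = ⊥)
    (h : Set.range (fun g : G => (Subgroup.centralizer ({g} : Set G)).index) = Set.range (fun g : M => (Subgroup.centralizer ({g} : Set M)).index))
    (hdisc : ∃ A : Set ℕ, (∃ a ∈ A, a.Prime ∧ a ∣ Nat.card M) ∧ (∃ b ∉ A, b.Prime ∧ b ∣ Nat.card M) ∧
      ∀ a ∈ A, ∀ b ∉ A, a.Prime → b.Prime → a ∣ Nat.card M → b ∣ Nat.card M → ¬ ∃ x : M, orderOf x = a * b) :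
    Nat.card G = Nat.card M := by
  classical
  obtain ⟨A, ⟨a, haA, hap, hadvd⟩, ⟨b, hbA, hbp, hbdvd⟩, hAB⟩ := hdisc
  -- centralisers in `M`
  have hM : ∀ x : M, x ≠ 1 → ∃ s : Prop, ∀ r : ℕ, r.Prime → r ∣ Nat.card (centralizer ({x} : Set M)) → (r ∈ A ↔ s) := by
    intro x hx
    obtain ⟨r₀, hr₀, hr₀d⟩ := Nat.exists_prime_and_dvd (mt orderOf_eq_one_iff.mp hx)
    refine ⟨r₀ ∈ A, fun r hr hrd => ?_⟩
    haveI := Fact.mk hr
    obtain ⟨⟨y, hy⟩, hyo⟩ := exists_prime_orderOf_dvd_card' (G := centralizer ({x} : Set M)) r hrd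
    rw [Subgroup.orderOf_mk] at hyo
    have hx' : orderOf (x ^ (orderOf x / r₀)) = r₀ := orderOf_pow_orderOf_div (orderOf_pos x).ne' hr₀d
    have hc : Commute y (x ^ (orderOf x / r₀)) :=
      (show Commute y x from mem_centralizer_singleton_iff.mp hy).pow_right _
    have hrM : r ∣ Nat.card M := hyo ▸ orderOf_dvd_natCard y
    have hr₀M : r₀ ∣ Nat.card M := hr₀d.trans (orderOf_dvd_natCard x)
    by_contra hne
    have hrr : r ≠ r₀ := fun e => hne (e ▸ Iff.rfl)
    have ho : orderOf (y * x ^ (orderOf x / r₀)) = r * r₀ := by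
      rw [hc.orderOf_mul_eq_mul_orderOf_of_coprime (by rw [hyo, hx']; exact (Nat.coprime_primes hr hr₀).mpr hrr),
        hyo, hx']
    by_cases hrA : r ∈ A
    · exact hAB r hrA r₀ (fun h => hne (iff_of_true hrA h)) hr hr₀ hrM hr₀M ⟨_, ho⟩
    · have hr₀A : r₀ ∈ A := by
        by_contra h
        exact hne (iff_of_false hrA h)
      exact hAB r₀ hr₀A r hrA hr₀ hr hr₀M hrM ⟨_, by rw [ho, mul_comm]⟩
  have hsizeM : ∀ x : M, (centralizer ({x} : Set M)).index * Nat.card (centralizer ({x} : Set M)) = Nat.card M :=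
    fun x => Subgroup.index_mul_card _
  have hGM : ∀ g : G, ∃ x : M, (centralizer ({x} : Set M)).index = (centralizer ({g} : Set G)).index := by
    intro g
    have : (centralizer ({g} : Set G)).index ∈ Set.range (fun g : M => (centralizer ({g} : Set M)).index) :=
      h ▸ ⟨g, rfl⟩
    obtain ⟨x, hx⟩ := this
    exact ⟨x, hx⟩
  have hMG : ∀ x : M, ∃ g : G, (centralizer ({g} : Set G)).index = (centralizer ({x} : Set M)).index := by
    intro x
    have : (centralizer ({x} : Set M)).index ∈ Set.range (fun g : G => (centralizer ({g} : Set G)).index) :=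
      h.symm ▸ ⟨x, rfl⟩
    obtain ⟨g, hg⟩ := this
    exact ⟨g, hg⟩
  -- elements of `M` of both kinds
  have hboth : ∀ s : Prop, ∃ x : M, x ≠ 1 ∧
      ∀ r : ℕ, r.Prime → r ∣ Nat.card (centralizer ({x} : Set M)) → ¬ (r ∈ A ↔ s) := by
    intro s
    obtain ⟨r, hr, hrd, hrs⟩ : ∃ r : ℕ, r.Prime ∧ r ∣ Nat.card M ∧ ¬ (r ∈ A ↔ s) := by
      by_cases hs : s
      · exact ⟨b, hbp, hbdvd, fun e => hbA (e.mpr hs)⟩
      · exact ⟨a, hap, hadvd, fun e => hs (e.mp haA)⟩
    haveI := Fact.mk hr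
    obtain ⟨x, hx⟩ := exists_prime_orderOf_dvd_card' (G := M) r hrd
    have hx1 : x ≠ 1 := fun e => hr.ne_one (by rw [← hx, e, orderOf_one])
    obtain ⟨s', hs'⟩ := hM x hx1
    have hr' : r ∣ Nat.card (centralizer ({x} : Set M)) :=
      hx ▸ Subgroup.orderOf_dvd_natCard _ (mem_centralizer_singleton_iff.mpr rfl)
    exact ⟨x, hx1, fun r' hr'' hrd' e => hrs ((hs' r hr hr').trans ((hs' r' hr'' hrd').symm.trans e))⟩
  -- `|M|` divides `|G|`
  have hdvd : Nat.card M ∣ Nat.card G := by
    rw [Nat.dvd_iff_prime_pow_dvd_dvd]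
    intro r j hr hrj
    obtain ⟨x, -, hx⟩ := hboth (r ∈ A)
    obtain ⟨g, hg⟩ := hMG x
    refine dvd_trans ?_ (hg ▸ Subgroup.index_dvd_card (centralizer ({g} : Set G)))
    have hcop : (r ^ j).Coprime (Nat.card (centralizer ({x} : Set M))) :=
      Nat.Coprime.pow_left j ((hr.coprime_iff_not_dvd).mpr fun hd => hx r hr hd Iff.rfl)
    exact hcop.dvd_of_dvd_mul_right (hsizeM x ▸ hrj)
  obtain ⟨k, hk⟩ := hdvd
  by_contra hne
  obtain ⟨p, hp, hpk⟩ := Nat.exists_prime_and_dvd (fun e : k = 1 => hne (by rw [hk, e, mul_one]))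
  haveI := Fact.mk hp
  have hpG : p ∣ Nat.card G := hk ▸ hpk.mul_left _
  have hn1 : ∀ g : G, g ≠ 1 → ∀ x : M, (centralizer ({x} : Set M)).index = (centralizer ({g} : Set G)).index → x ≠ 1 := by
    intro g hg x hx e
    subst e
    rw [show centralizer ({1} : Set M) = ⊤ from (Subgroup.eq_top_iff' _).mpr fun y =>
      mem_centralizer_singleton_iff.mpr (by simp), Subgroup.index_top] at hx
    refine hg ?_
    rw [← Subgroup.mem_bot, ← hZG]
    refine Subgroup.mem_center_iff.mpr fun y => mem_centralizer_singleton_iff.mp ?_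
    show y ∈ centralizer ({g} : Set G)
    rw [Subgroup.index_eq_one.mp hx.symm]
    exact Subgroup.mem_top y
  -- the complementary factor of a class size
  have hfac : ∀ g : G, g ≠ 1 → ∃ c : ℕ, 1 < c ∧ (centralizer ({g} : Set G)).index * c = Nat.card M ∧
      Nat.card (centralizer ({g} : Set G)) = k * c ∧
      ∃ s : Prop, ∀ r : ℕ, r.Prime → r ∣ c → (r ∈ A ↔ s) := by
    intro g hg
    obtain ⟨x, hx⟩ := hGM g
    have hx1 := hn1 g hg x hx
    refine ⟨Nat.card (centralizer ({x} : Set M)), ?_, hx ▸ hsizeM x, ?_, hM x hx1⟩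
    · haveI : Nontrivial (centralizer ({x} : Set M)) :=
        ⟨⟨x, mem_centralizer_singleton_iff.mpr rfl⟩, 1, fun e => hx1 (congrArg Subtype.val e)⟩
      exact Finite.one_lt_card
    · refine Nat.eq_of_mul_eq_mul_left
        (show 0 < (centralizer ({g} : Set G)).index from Nat.pos_of_ne_zero Subgroup.index_ne_zero_of_finite) ?_
      rw [Subgroup.index_mul_card, hk, ← hsizeM x, hx]
      ring
  obtain ⟨P⟩ : Nonempty (Sylow p G) := inferInstance
  haveI : Nontrivial ↥(P : Subgroup G) := (Subgroup.nontrivial_iff_ne_bot _).mpr (P.ne_bot_of_dvd_card hpG)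
  haveI : Nontrivial ↥(center ↥(P : Subgroup G)) := P.2.center_nontrivial
  obtain ⟨zc, hzc⟩ := exists_ne (1 : center ↥(P : Subgroup G))
  set z : G := ((zc : ↥(P : Subgroup G)) : G) with hz
  have hz1 : z ≠ 1 := fun e => hzc (Subtype.ext (Subtype.ext e))
  have hPz : (P : Subgroup G) ≤ centralizer ({z} : Set G) := fun y hy =>
    mem_centralizer_singleton_iff.mpr (congrArg Subtype.val (Subgroup.mem_center_iff.mp zc.2 ⟨y, hy⟩))
  obtain ⟨cz, hcz1, hcz, -, sz, hsz⟩ := hfac z hz1
  -- the elements of the other kind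
  let β : G → Prop := fun g => ∀ c : ℕ, (centralizer ({g} : Set G)).index * c = Nat.card M →
    ∀ r : ℕ, r.Prime → r ∣ c → ¬ (r ∈ A ↔ sz)
  have huniq : ∀ (g : G) (c c' : ℕ), (centralizer ({g} : Set G)).index * c = Nat.card M →
      (centralizer ({g} : Set G)).index * c' = Nat.card M → c = c' := fun g c c' h1 h2 =>
    Nat.eq_of_mul_eq_mul_left (Nat.pos_of_ne_zero Subgroup.index_ne_zero_of_finite) (h1.trans h2.symm)
  have hzβ : ¬ β z := fun hb => by
    obtain ⟨r, hr, hrc⟩ := Nat.exists_prime_and_dvd (show cz ≠ 1 by omega)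
    exact hb cz hcz r hr hrc (hsz r hr hrc)
  have hiff : ∀ g f : G, g ≠ 1 → f ≠ 1 →
      (centralizer ({g} : Set G)).index ∣ (centralizer ({f} : Set G)).index → (β g ↔ β f) := by
    intro g f hg hf hd
    obtain ⟨c, hc1, hc, -, s, hs⟩ := hfac g hg
    obtain ⟨d, hd1, hd', -, s', hs'⟩ := hfac f hf
    have hdc : d ∣ c := by
      obtain ⟨e, he⟩ := hd
      refine ⟨e, Nat.eq_of_mul_eq_mul_left
        (show 0 < (centralizer ({g} : Set G)).index from Nat.pos_of_ne_zero Subgroup.index_ne_zero_of_finite) ?_⟩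
      rw [hc, ← hd', he]
      ring
    obtain ⟨r, hr, hrd⟩ := Nat.exists_prime_and_dvd (show d ≠ 1 by omega)
    constructor
    · intro hb c' hc' r' hr' hrc'
      rw [huniq f c' d hc' hd'] at hrc'
      exact hb c hc r' hr' (hrc'.trans hdc)
    · intro hb c' hc' r' hr' hrc' e
      rw [huniq g c' c hc' hc] at hrc'
      exact hb d hd' r hr hrd ((hs r hr (hrd.trans hdc)).trans ((hs r' hr' hrc').symm.trans e))
  have hcomm : ∀ g f : G, g ≠ 1 → f ≠ 1 → Commute g f → (orderOf g).Coprime (orderOf f) → (β g ↔ β f) := by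
    intro g f hg hf hc hco
    have hgf : g * f ≠ 1 := fun e => by
      rw [eq_inv_of_mul_eq_one_left e, orderOf_inv, Nat.coprime_self, orderOf_eq_one_iff] at hco
      exact hf hco
    exact (hiff g (g * f) hg hgf (index_dvd_of_commute hc hco)).trans
      (hiff f (g * f) hf hgf (hc.eq ▸ index_dvd_of_commute hc.symm hco.symm)).symm
  have hsub : ∀ g : G, g ≠ 1 → β g → ∀ R : Subgroup G, R ≤ centralizer ({g} : Set G) → IsPGroup p R → Nat.card R ∣ k := by
    intro g hg hb R hR hRp
    obtain ⟨c, -, hc, hcard, -⟩ := hfac g hg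
    have hpc : ¬ p ∣ c := fun hpd => by
      refine hb c hc p hp hpd (hsz p hp ?_)
      have h1 : p ∣ (centralizer ({z} : Set G)).index * cz := hcz ▸ hc ▸ hpd.mul_left _
      exact (hp.dvd_mul.mp h1).resolve_left
        fun h2 => P.not_dvd_index (h2.trans (Subgroup.index_dvd_of_le hPz))
    obtain ⟨j, hj⟩ := IsPGroup.iff_card.mp hRp
    have hd : Nat.card R ∣ k * c := hcard ▸ Subgroup.card_dvd_of_le hR
    rw [hj] at hd ⊢
    exact (Nat.Coprime.pow_left j (hp.coprime_iff_not_dvd.mpr hpc)).dvd_of_dvd_mul_right hd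
  -- an element of the other kind of order prime to `p`
  obtain ⟨v, hv1, hvp, hvβ⟩ : ∃ v : G, v ≠ 1 ∧ (orderOf v).Coprime p ∧ β v := by
    obtain ⟨x, hx1, hx⟩ := hboth sz
    obtain ⟨g, hg⟩ := hMG x
    have hg1 : g ≠ 1 := fun e => by
      subst e
      rw [show centralizer ({1} : Set G) = ⊤ from (Subgroup.eq_top_iff' _).mpr fun y =>
        mem_centralizer_singleton_iff.mpr (by simp), Subgroup.index_top] at hg
      refine hx1 ?_
      rw [← Subgroup.mem_bot, ← hZM]
      refine Subgroup.mem_center_iff.mpr fun y => mem_centralizer_singleton_iff.mp ?_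
      show y ∈ centralizer ({x} : Set M)
      rw [Subgroup.index_eq_one.mp hg.symm]
      exact Subgroup.mem_top y
    have hgβ : β g := fun c hc r hr hrc => hx r hr (by
      have : c = Nat.card (centralizer ({x} : Set M)) := huniq g c _ hc (by rw [hg]; exact hsizeM x)
      exact this ▸ hrc)
    obtain ⟨r, hr, hrd⟩ := Nat.exists_prime_and_dvd (mt orderOf_eq_one_iff.mp hg1)
    set f := g ^ (orderOf g / r) with hf
    have hfo : orderOf f = r := orderOf_pow_orderOf_div (orderOf_pos g).ne' hrd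
    have hf1 : f ≠ 1 := fun e => hr.ne_one (by rw [← hfo, e, orderOf_one])
    have hfβ : β f := (hiff f g hf1 hg1 (Subgroup.index_dvd_of_le fun y hy =>
      mem_centralizer_singleton_iff.mpr ((show Commute y g from mem_centralizer_singleton_iff.mp hy).pow_right _).eq)).mpr hgβ
    by_cases hrp : r = p
    · obtain ⟨c, hc1, hc, hcard, -⟩ := hfac f hf1
      obtain ⟨q, hq, hqc⟩ := Nat.exists_prime_and_dvd (show c ≠ 1 by omega)
      haveI := Fact.mk hq
      obtain ⟨⟨v, hv⟩, hvo⟩ := exists_prime_orderOf_dvd_card' (G := centralizer ({f} : Set G)) q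
        (hcard ▸ hqc.mul_left _)
      rw [Subgroup.orderOf_mk] at hvo
      have hqp : q ≠ p := fun e => by
        have h1 : p ∣ (centralizer ({z} : Set G)).index * cz := by rw [hcz, ← hc, ← e]; exact hqc.mul_left _
        exact hfβ c hc q hq hqc (e ▸ hsz p hp ((hp.dvd_mul.mp h1).resolve_left
          fun h2 => P.not_dvd_index (h2.trans (Subgroup.index_dvd_of_le hPz))))
      have hv1 : v ≠ 1 := fun e => hq.ne_one (by rw [← hvo, e, orderOf_one])
      refine ⟨v, hv1, hvo ▸ (Nat.coprime_primes hq hp).mpr hqp, ?_⟩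
      exact (hcomm v f hv1 hf1 (mem_centralizer_singleton_iff.mp hv)
        (by rw [hvo, hfo, hrp]; exact (Nat.coprime_primes hq hp).mpr hqp)).mpr hfβ
    · exact ⟨f, hf1, hfo ▸ (Nat.coprime_primes hr hp).mpr hrp, hfβ⟩
  -- a Sylow subgroup of its centraliser
  obtain ⟨R₀⟩ : Nonempty (Sylow p (centralizer ({v} : Set G))) := inferInstance
  set R := (R₀ : Subgroup (centralizer ({v} : Set G))).map (centralizer ({v} : Set G)).subtype with hR
  have hRp : IsPGroup p R := R₀.2.map _
  have hRcard : Nat.card R = Nat.card R₀ :=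
    Subgroup.card_map_of_injective (Subgroup.subtype_injective _)
  obtain ⟨cv, -, -, hvcard, -⟩ := hfac v hv1
  have hpv : p ∣ Nat.card (centralizer ({v} : Set G)) := hvcard ▸ hpk.mul_right _
  obtain ⟨w, hwR, hw1, hwc⟩ : ∃ w ∈ R, w ≠ 1 ∧ ∀ y ∈ R, Commute y w := by
    haveI : Nontrivial ↥(R₀ : Subgroup (centralizer ({v} : Set G))) :=
      (Subgroup.nontrivial_iff_ne_bot _).mpr (R₀.ne_bot_of_dvd_card hpv)
    haveI : Nontrivial ↥(center ↥(R₀ : Subgroup (centralizer ({v} : Set G)))) := R₀.2.center_nontrivial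
    obtain ⟨wc, hwc⟩ := exists_ne (1 : center ↥(R₀ : Subgroup (centralizer ({v} : Set G))))
    refine ⟨_, ⟨_, (wc : ↥(R₀ : Subgroup (centralizer ({v} : Set G)))).2, rfl⟩,
      fun e => hwc (Subtype.ext (Subtype.ext (Subtype.ext e))), ?_⟩
    rintro _ ⟨y, hy, rfl⟩
    exact congrArg (Subtype.val ∘ Subtype.val) (Subgroup.mem_center_iff.mp wc.2 ⟨y, hy⟩)
  have hRβ : ∀ y ∈ R, y ≠ 1 → β y := by
    intro y hy hy1
    obtain ⟨j, hj⟩ := IsPGroup.iff_orderOf.mp hRp ⟨y, hy⟩
    rw [Subgroup.orderOf_mk] at hj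
    obtain ⟨y', -, rfl⟩ := hy
    exact (hcomm _ v hy1 hv1 (mem_centralizer_singleton_iff.mp y'.2)
      (hj ▸ (hvp.symm.pow_left j))).mpr hvβ
  obtain ⟨P', hP'⟩ := hRp.exists_le_sylow
  obtain ⟨g, hg⟩ := MulAction.exists_smul_eq G P P'
  set z' := g * z * g⁻¹ with hz'
  have hzP : z ∈ (P : Subgroup G) := (zc : ↥(P : Subgroup G)).2
  have hz'P : z' ∈ (P' : Subgroup G) := by
    rw [← hg, Sylow.coe_subgroup_smul]
    exact Subgroup.smul_mem_pointwise_smul z (MulAut.conj g) _ hzP
  have hz'c : ∀ y ∈ (P' : Subgroup G), Commute y z' := by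
    intro y hy
    rw [← hg, Sylow.coe_subgroup_smul] at hy
    obtain ⟨y₀, hy₀, rfl⟩ := hy
    exact (show Commute y₀ z from mem_centralizer_singleton_iff.mp (hPz hy₀)).map (MulAut.conj g).toMonoidHom
  have hz'β : ¬ β z' := by
    have hind : (centralizer ({z'} : Set G)).index = (centralizer ({z} : Set G)).index := by
      have : centralizer ({z'} : Set G) = (centralizer ({z} : Set G)).map (MulAut.conj g).toMonoidHom := by
        ext y
        rw [mem_centralizer_singleton_iff, Subgroup.mem_map]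
        constructor
        · intro hy
          refine ⟨g⁻¹ * y * g, mem_centralizer_singleton_iff.mpr ?_, by simp [MulAut.conj_apply, mul_assoc]⟩
          calc g⁻¹ * y * g * z = g⁻¹ * (y * z') * g := by rw [hz']; group
            _ = g⁻¹ * (z' * y) * g := by rw [hy]
            _ = _ := by rw [hz']; group
        · rintro ⟨y, hy, rfl⟩
          exact ((show Commute y z from mem_centralizer_singleton_iff.mp hy).map (MulAut.conj g).toMonoidHom).eq
      rw [this]
      exact Subgroup.index_map_equiv _ (MulAut.conj g)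
    intro hb
    exact hzβ fun c hc => hb c (hind.symm ▸ hc)
  have hz'R : z' ∉ R := fun hm => hz'β (hRβ z' hm (fun e => hz1 (conj_eq_one_iff.mp e)))
  -- the larger subgroup
  set R' := R ⊔ zpowers z' with hR'
  have hR'P : R' ≤ (P' : Subgroup G) := sup_le hP' (zpowers_le.mpr hz'P)
  have hR'c : R' ≤ centralizer ({w} : Set G) :=
    sup_le (fun y hy => mem_centralizer_singleton_iff.mpr (hwc y hy).eq)
      (zpowers_le.mpr (mem_centralizer_singleton_iff.mpr (hz'c w (hP' hwR)).eq.symm))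
  have hd := hsub w hw1 (hRβ w hwR hw1) R' hR'c (P'.2.to_le hR'P)
  obtain ⟨j, hj⟩ := IsPGroup.iff_card.mp (P'.2.to_le hR'P)
  have hle : Nat.card R' ≤ Nat.card R := by
    rw [hRcard, R₀.card_eq_multiplicity, hj]
    refine Nat.pow_le_pow_right hp.pos ?_
    exact (hp.pow_dvd_iff_le_factorization Nat.card_pos.ne').mp (hj ▸ hvcard ▸ dvd_mul_of_dvd_left hd _)
  have heq : R = R' := Subgroup.eq_of_le_of_card_ge le_sup_left hle
  exact hz'R (heq ▸ Subgroup.mem_sup_right (Subgroup.mem_zpowers z'))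

end Cfsg.Agent.S4184
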