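import Cfsg.Statements.S4186
import Mathlib
-- import your own Cfsg.Agent.* helpers here

set_option autoImplicit false
open Cfsg

namespace Cfsg.Agent.S4186

/-- Let T and X be subgroups of a group with T a finite 2-group normalizing X but not centralizing it. Then some element of T inverts some non-identity element of X under conjugation. -/
theorem result {G : Type*} [Group G] (T X : Subgroup G) [Finite ↥T] (hT : IsPGroup 2 ↥T) (hTN : T ≤ Subgroup.normalizer (X : Set G)) (hTC : ¬ T ≤ Subgroup.centralizer (X : Set G)) : ∃ t ∈ T, ∃ x ∈ X, x ≠ 1 ∧ t * x * t⁻¹ = x⁻¹ := by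
  classical
  set C : Subgroup T := (Subgroup.centralizer (X : Set G)).subgroupOf T with hC
  have hex : ∃ t : T, t ∉ C ∧ t ^ 2 ∈ C := by
    obtain ⟨t, htT, htC⟩ := SetLike.not_le_iff_exists.mp hTC
    obtain ⟨k, hk⟩ := hT ⟨t, htT⟩
    have hex : ∃ i : ℕ, (⟨t, htT⟩ : T) ^ 2 ^ i ∈ C := ⟨k, by rw [hk]; exact C.one_mem⟩
    obtain ⟨i, hi⟩ : ∃ i, Nat.find hex = i + 1 := ⟨Nat.find hex - 1, by
      have : Nat.find hex ≠ 0 := fun e => htC (by
        have := Nat.find_spec hex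
        rw [e, pow_zero, pow_one] at this
        exact this)
      omega⟩
    refine ⟨(⟨t, htT⟩ : T) ^ 2 ^ i, Nat.find_min hex (by omega), ?_⟩
    rw [← pow_mul, ← pow_succ, ← hi]
    exact Nat.find_spec hex
  obtain ⟨⟨t, htT⟩, ht, ht2⟩ := hex
  rw [hC, Subgroup.mem_subgroupOf, Subgroup.mem_centralizer_iff] at ht ht2
  push Not at ht
  obtain ⟨x, hx, hne⟩ := ht
  refine ⟨t, htT, x⁻¹ * (t * x * t⁻¹), ?_, fun e => hne ?_, ?_⟩
  · exact X.mul_mem (X.inv_mem hx) ((Subgroup.mem_normalizer_iff.mp (hTN htT) x).mp hx)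
  · show x * t = t * x
    conv_lhs => rw [show x = t * x * t⁻¹ from inv_mul_eq_one.mp e]
    group
  · have h2 : t ^ 2 * x * (t ^ 2)⁻¹ = x := by
      have := ht2 x hx
      simp only [Subgroup.coe_pow] at this
      rw [← this, mul_inv_cancel_right]
    calc t * (x⁻¹ * (t * x * t⁻¹)) * t⁻¹ = (t * x⁻¹ * t⁻¹) * (t ^ 2 * x * (t ^ 2)⁻¹) := by group
      _ = (t * x⁻¹ * t⁻¹) * x := by rw [h2]
      _ = (x⁻¹ * (t * x * t⁻¹))⁻¹ := by group

end Cfsg.Agent.S4186
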