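import Cfsg.Statements.S4188
import Mathlib
import Cfsg.Agent.Lib.UniqueSubgroup
import Cfsg.Agent.Lib.Elementary
-- import your own Cfsg.Agent.* helpers here

set_option autoImplicit false
open Cfsg

namespace Cfsg.Agent.S4188

open scoped commutatorElement

section
universe u

/-- The subgroup generated by the squares. -/
def sq (P : Type u) [Group P] : Subgroup P := Subgroup.closure (Set.range fun x : P => x ^ 2)

/-- The size of the largest elementary abelian quotient of exponent two. -/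
noncomputable def r (P : Type u) [Group P] : ℕ := (sq P).index

theorem sq_normal (P : Type u) [Group P] : (sq P).Normal := by
  refine ⟨fun n hn g => ?_⟩
  have h : (sq P).map (MulAut.conj g).toMonoidHom ≤ sq P := by
    rw [sq, MonoidHom.map_closure, Subgroup.closure_le]
    rintro _ ⟨_, ⟨x, rfl⟩, rfl⟩
    exact Subgroup.subset_closure ⟨MulAut.conj g x, (map_pow (MulAut.conj g) x 2).symm⟩
  exact h ⟨n, hn, rfl⟩

theorem r_le_card (P : Type u) [Group P] [Finite P] : r P ≤ Nat.card P :=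
  Nat.le_of_dvd Nat.card_pos (Subgroup.index_dvd_card _)

theorem r_le_hom {P H : Type u} [Group P] [Finite P] [Group H] (f : P →* H) :
    r P ≤ r f.range * r f.ker := by
  have hn := sq_normal P
  have hsurj := f.rangeRestrict_surjective
  have hmap : (sq P).map f.rangeRestrict = sq f.range := by
    rw [sq, sq, MonoidHom.map_closure]
    congr 1
    ext y
    constructor
    · rintro ⟨_, ⟨x, rfl⟩, rfl⟩
      exact ⟨f.rangeRestrict x, (map_pow _ x 2).symm⟩
    · rintro ⟨y, rfl⟩
      obtain ⟨x, rfl⟩ := hsurj y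
      exact ⟨_, ⟨x, rfl⟩, map_pow _ x 2⟩
  have h1 : (f.ker ⊔ sq P).index = r f.range := by
    rw [r, ← hmap, ← Subgroup.index_comap_of_surjective _ hsurj, Subgroup.comap_map_eq,
      MonoidHom.ker_rangeRestrict, sup_comm]
  have h2 : (sq P).relIndex (f.ker ⊔ sq P) ≤ r f.ker := by
    rw [Subgroup.relIndex_sup_right]
    have hle : sq f.ker ≤ (sq P).subgroupOf f.ker := by
      rw [sq, Subgroup.closure_le]
      rintro _ ⟨x, rfl⟩
      exact Subgroup.subset_closure ⟨(x : P), rfl⟩
    exact Nat.le_of_dvd (Nat.pos_of_ne_zero Subgroup.index_ne_zero_of_finite) (Subgroup.index_dvd_of_le hle)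
  calc r P = (sq P).relIndex (f.ker ⊔ sq P) * (f.ker ⊔ sq P).index :=
        (Subgroup.relIndex_mul_index le_sup_right).symm
    _ ≤ r f.ker * r f.range := by rw [h1]; exact Nat.mul_le_mul_right _ h2
    _ = r f.range * r f.ker := mul_comm _ _

theorem r_le_two_mul {P : Type u} [Group P] [Finite P] (Q : Subgroup P) [Q.Normal] (h : Q.index = 2) :
    r P ≤ 2 * r Q := by
  have h1 := r_le_hom (QuotientGroup.mk' Q)
  rw [QuotientGroup.ker_mk'] at h1
  refine h1.trans (Nat.mul_le_mul_right _ ?_)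
  refine (r_le_card _).trans ?_
  rw [← h, Subgroup.index_eq_card]
  exact Subgroup.card_le_card_group _

theorem r_of_comm {P : Type u} [Group P] [Finite P] (hc : ∀ x y : P, x * y = y * x) :
    r P = Nat.card {x : P // x ^ 2 = 1} := by
  let f : P →* P :=
    { toFun := fun x => x ^ 2, map_one' := one_pow 2, map_mul' := fun x y => (show Commute x y from hc x y).mul_pow 2 }
  have h1 : sq P = f.range := by
    show Subgroup.closure ((f.range : Subgroup P) : Set P) = _
    exact Subgroup.closure_eq f.range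
  have h2 : r P * Nat.card f.range = Nat.card P := by
    rw [r, h1, Subgroup.index_mul_card]
  have h3 : Nat.card f.ker * Nat.card f.range = Nat.card P := by
    rw [← Subgroup.index_ker, Subgroup.card_mul_index]
  exact (Nat.eq_of_mul_eq_mul_right Nat.card_pos (h2.trans h3.symm)).trans
    (Nat.card_congr (Equiv.subtypeEquivRight fun x => Iff.rfl))

theorem r_cyclic {P : Type u} [Group P] [Finite P] [IsCyclic P] : r P ≤ 2 := by
  classical
  have := Fintype.ofFinite P
  rw [r_of_comm (fun x y => (IsCyclic.commGroup (α := P)).mul_comm x y), Nat.card_eq_fintype_card,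
    Fintype.card_subtype]
  exact IsCyclic.card_pow_eq_one_le (by norm_num)

/-- The bound carried through the induction. -/
def Good (P N : Type u) [Group P] : Prop :=
  (Nat.card N = 3 ∧ r P ≤ 2) ∨ 2 * r P ≤ Nat.card N

theorem good_mul {a b x y : ℕ} (hx : (a = 3 ∧ x ≤ 2) ∨ 2 * x ≤ a) (hy : (b = 3 ∧ y ≤ 2) ∨ 2 * y ≤ b) :
    2 * (x * y) ≤ a * b := by
  rcases hx with ⟨rfl, hx⟩ | hx <;> rcases hy with ⟨rfl, hy⟩ | hy
  · calc 2 * (x * y) ≤ 2 * (2 * 2) := by gcongr
      _ ≤ 3 * 3 := by norm_num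
  · calc 2 * (x * y) = x * (2 * y) := by ring
      _ ≤ 3 * b := Nat.mul_le_mul (by omega) hy
  · calc 2 * (x * y) = 2 * x * y := by ring
      _ ≤ a * 3 := Nat.mul_le_mul hx (by omega)
  · calc 2 * (x * y) ≤ 2 * x * (2 * y) := by nlinarith
      _ ≤ a * b := Nat.mul_le_mul hx hy

variable {N : Type u} [CommGroup N] [Finite N]

theorem odd_pow_two_pow {G : Type u} [Group G] [Finite G] (hN : Odd (Nat.card G)) {x : G} {n : ℕ}
    (h : x ^ 2 ^ n = 1) : x = 1 :=
  orderOf_eq_one_iff.mp (Nat.eq_one_of_dvd_coprimes (Nat.Coprime.pow_right n (Nat.coprime_two_right.mpr hN))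
    (orderOf_dvd_natCard x) (orderOf_dvd_of_pow_eq_one h))

theorem eq_sq (hN : Odd (Nat.card N)) (x : N) : ∃ y : N, y ^ 2 = x := by
  have h : Function.Injective fun y : N => y ^ 2 := fun a b hab => by
    have : (a / b) ^ 2 ^ 1 = 1 := by rw [pow_one, div_pow, show a ^ 2 = b ^ 2 from hab, div_self']
    exact div_eq_one.mp (odd_pow_two_pow hN this)
  exact Finite.surjective_of_injective h x

theorem card_odd_sub (hN : Odd (Nat.card N)) (M : Subgroup N) :
    Odd (Nat.card M) ∧ Odd (Nat.card (N ⧸ M)) :=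
  ⟨hN.of_dvd_nat (Subgroup.card_subgroup_dvd_card M), hN.of_dvd_nat (Subgroup.card_quotient_dvd_card M)⟩

/-- Restriction to an invariant subgroup. -/
def res {P : Type u} [Group P] (φ : P →* MulAut N) (M : Subgroup N) (hM : ∀ p, ∀ x ∈ M, φ p x ∈ M) :
    P →* MulAut M where
  toFun p :=
    { toFun := fun m => ⟨φ p m, hM p m m.2⟩
      invFun := fun m => ⟨φ p⁻¹ m, hM p⁻¹ m m.2⟩
      left_inv := fun m => Subtype.ext (by simp)
      right_inv := fun m => Subtype.ext (by simp)
      map_mul' := fun a b => Subtype.ext (map_mul (φ p) (a : N) (b : N)) }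
  map_one' := MulEquiv.ext fun m => Subtype.ext (by simp)
  map_mul' p q := MulEquiv.ext fun m => Subtype.ext (by simp)

variable (hN : Odd (Nat.card N))
  (ih : ∀ (M : Type u) [CommGroup M] [Finite M], Odd (Nat.card M) → 1 < Nat.card M →
    Nat.card M < Nat.card N → ∀ (P : Type u) [Group P] [Finite P], IsPGroup 2 P →
    ∀ φ : P →* MulAut M, Function.Injective φ → Good P M)
include hN ih

theorem good_reducible {P : Type u} [Group P] [Finite P] (hP : IsPGroup 2 P) (φ : P →* MulAut N)
    (hφ : Function.Injective φ) (M : Subgroup N) (hM : ∀ p, ∀ x ∈ M, φ p x ∈ M) (h0 : M ≠ ⊥) (h1 : M ≠ ⊤) :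
    Good P N := by
  obtain ⟨hMo, hQo⟩ := card_odd_sub hN M
  have hMlt : 1 < Nat.card M := (Subgroup.one_lt_card_iff_ne_bot M).mpr h0
  have hQlt : 1 < Nat.card (N ⧸ M) := by
    rw [← Subgroup.index_eq_card]
    exact Subgroup.one_lt_index_of_ne_top h1
  have hcard : Nat.card (N ⧸ M) * Nat.card M = Nat.card N :=
    (Subgroup.card_eq_card_quotient_mul_card_subgroup M).symm
  set f := res φ M hM with hf
  have g1 : Good f.range M := ih M hMo hMlt (by nlinarith) f.range
    (hP.of_surjective f.rangeRestrict f.rangeRestrict_surjective) f.range.subtype Subtype.val_injective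
  have hK : ∀ k : f.ker, ∀ m ∈ M, φ (k : P) m = m := fun k m hm => by
    have h2 := congrArg Subtype.val (DFunLike.congr_fun (MonoidHom.mem_ker.mp k.2) ⟨m, hm⟩)
    exact h2
  have hinv : ∀ p : P, M.map (φ p).toMonoidHom = M := fun p => by
    refine le_antisymm ?_ fun x hx => ⟨φ p⁻¹ x, hM _ x hx, by simp⟩
    rintro _ ⟨x, hx, rfl⟩
    exact hM p x hx
  let ψ : f.ker →* MulAut (N ⧸ M) :=
    { toFun := fun k => QuotientGroup.congr M M (φ (k : P)) (hinv k)
      map_one' := MulEquiv.ext fun q => QuotientGroup.induction_on q fun x => by simp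
      map_mul' := fun k l => MulEquiv.ext fun q => QuotientGroup.induction_on q fun x => by simp; rfl }
  have hψ : Function.Injective ψ := by
    rw [injective_iff_map_eq_one]
    intro k hk
    refine Subtype.ext (hφ ?_)
    rw [Subgroup.coe_one, map_one]
    refine MulEquiv.ext fun x => ?_
    have h2 : ((φ (k : P) x : N) : N ⧸ M) = (x : N ⧸ M) :=
      DFunLike.congr_fun hk (x : N ⧸ M)
    have hmem : x⁻¹ * φ (k : P) x ∈ M := QuotientGroup.eq.mp h2.symm
    have hpow : ∀ j : ℕ, φ ((k : P) ^ j) x = x * (x⁻¹ * φ (k : P) x) ^ j := by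
      intro j
      induction j with
      | zero => simp
      | succ j ihj =>
        rw [pow_succ', map_mul, MulAut.mul_apply, ihj, map_mul, map_pow, hK k _ hmem, pow_succ', ← mul_assoc]
        rw [mul_inv_cancel_left]
    obtain ⟨i, hi⟩ := hP (k : P)
    have h3 := hpow (2 ^ i)
    rw [hi, map_one, MulAut.one_apply, eq_comm, mul_eq_left] at h3
    rw [MulAut.one_apply]
    exact (inv_mul_eq_one.mp (odd_pow_two_pow hN h3)).symm
  have g2 : Good f.ker (N ⧸ M) := ih (N ⧸ M) hQo hQlt (by nlinarith) f.ker (hP.to_subgroup _) ψ hψ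
  refine Or.inr ?_
  calc 2 * r P ≤ 2 * (r f.range * r f.ker) := by gcongr; exact r_le_hom f
    _ ≤ Nat.card M * Nat.card (N ⧸ M) := good_mul g1 g2
    _ = Nat.card N := by rw [mul_comm, hcard]

theorem good_imprimitive {P : Type u} [Group P] [Finite P] (hP : IsPGroup 2 P) (φ : P →* MulAut N)
    (hφ : Function.Injective φ)
    (hirr : ∀ M : Subgroup N, (∀ p, ∀ x ∈ M, φ p x ∈ M) → M = ⊥ ∨ M = ⊤)
    {z e : P} (hz : ∀ x, φ z x = x⁻¹) (he2 : e * e = 1) (hez : e ≠ z) (he1 : e ≠ 1)
    (hec : ∀ p : P, p * e * p⁻¹ = e ∨ p * e * p⁻¹ = e * z) : Good P N := by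
  have hee : ∀ x, φ e (φ e x) = x := fun x => by rw [← MulAut.mul_apply, ← map_mul, he2, map_one]; rfl
  set M : Subgroup N := (φ e).toMonoidHom.eqLocus (MonoidHom.id N) with hMdef
  set M' : Subgroup N := (φ (e * z)).toMonoidHom.eqLocus (MonoidHom.id N) with hM'def
  have hM : ∀ x, x ∈ M ↔ φ e x = x := fun x => Iff.rfl
  have hM' : ∀ x, x ∈ M' ↔ φ (e * z) x = x := fun x => Iff.rfl
  have hM'' : ∀ x, x ∈ M' ↔ φ e x = x⁻¹ := fun x => by
    rw [hM', map_mul, MulAut.mul_apply, hz, map_inv, inv_eq_iff_eq_inv]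
  have hmove : ∀ (p : P) (x : N) (g : P), φ g x = x → φ (p * g * p⁻¹) (φ p x) = φ p x := fun p x g hx => by
    rw [← MulAut.mul_apply, ← map_mul, inv_mul_cancel_right, map_mul, MulAut.mul_apply, hx]
  set Q : Subgroup P := Subgroup.centralizer {e} with hQdef
  have hQ : ∀ q, q ∈ Q ↔ q * e * q⁻¹ = e := fun q => by
    rw [hQdef, Subgroup.mem_centralizer_singleton_iff, mul_inv_eq_iff_eq_mul]
  have hMinv : ∀ q ∈ Q, ∀ x ∈ M, φ q x ∈ M := fun q hq x hx => by
    have h2 := hmove q x e hx
    rw [(hQ q).mp hq] at h2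
    exact h2
  have hM0 : M ≠ ⊥ := fun h => hez (hφ (MulEquiv.ext fun x => by
    rw [hz]
    have h2 : x * φ e x ∈ M := (hM _).mpr (by rw [map_mul, hee, mul_comm])
    rw [h, Subgroup.mem_bot, mul_comm] at h2
    exact eq_inv_of_mul_eq_one_left h2))
  have hM1 : M ≠ ⊤ := fun h => he1 (hφ (MulEquiv.ext fun x => by
    rw [map_one, MulAut.one_apply]
    exact (hM x).mp (h ▸ Subgroup.mem_top x)))
  obtain ⟨t, ht⟩ : ∃ t, t * e * t⁻¹ = e * z := by
    by_contra hc
    push Not at hc
    rcases hirr M (fun p x hx => hMinv p ((hQ p).mpr ((hec p).resolve_right (hc p))) x hx) with h | h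
    · exact hM0 h
    · exact hM1 h
  have hz1 : z ≠ 1 := fun h => by
    obtain ⟨x, -, hx1⟩ := (Subgroup.bot_or_exists_ne_one M).resolve_left hM0
    have h2 := hz x
    rw [h, map_one, MulAut.one_apply] at h2
    exact hx1 (odd_pow_two_pow hN (n := 1) (by rw [pow_one, pow_two]; exact mul_eq_one_iff_eq_inv.mpr h2))
  have htQ : t ∉ Q := fun h => hz1 (by
    have := (hQ t).mp h
    rw [ht] at this
    exact mul_eq_left.mp this)
  have hzc : ∀ p : P, p * z = z * p := fun p => hφ (MulEquiv.ext fun x => by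
    rw [map_mul, map_mul, MulAut.mul_apply, MulAut.mul_apply, hz, hz, map_inv])
  have hz2 : z * z = 1 := hφ (MulEquiv.ext fun x => by
    rw [map_mul, map_one, MulAut.mul_apply, hz, hz, inv_inv]; rfl)
  have hQidx : Q.index = 2 := by
    rw [Subgroup.index_eq_two_iff]
    refine ⟨t, fun b => ?_⟩
    rcases hec b with hb | hb
    · refine Or.inr ⟨(hQ b).mpr hb, fun h => htQ ?_⟩
      have h3 := Q.mul_mem (Q.inv_mem ((hQ b).mpr hb)) h
      rwa [inv_mul_cancel_left] at h3
    · refine Or.inl ⟨(hQ _).mpr ?_, fun h => hz1 ?_⟩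
      · calc b * t * e * (b * t)⁻¹ = b * (t * e * t⁻¹) * b⁻¹ := by group
          _ = b * e * b⁻¹ * (b * z * b⁻¹) := by rw [ht]; group
          _ = e * z * z := by rw [hb, hzc b, mul_inv_cancel_right]
          _ = e := by rw [mul_assoc, hz2, mul_one]
      · have := (hQ b).mp h
        rw [hb] at this
        exact mul_eq_left.mp this
  have hQn : Q.Normal := Subgroup.normal_of_index_eq_two hQidx
  have hMM : Nat.card M = Nat.card M' := by
    refine le_antisymm ?_ ?_
    · refine Nat.card_le_card_of_injective (fun m : M => (⟨φ t m, ?_⟩ : M')) ?_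
      · have h2 := hmove t (m : N) e m.2
        rw [ht] at h2
        exact h2
      · exact fun a b h => Subtype.ext ((φ t).injective (congrArg Subtype.val h))
    · refine Nat.card_le_card_of_injective (fun m : M' => (⟨φ t m, ?_⟩ : M)) ?_
      · have h2 := hmove t (m : N) (e * z) m.2
        rw [show t * (e * z) * t⁻¹ = e by
          calc t * (e * z) * t⁻¹ = t * e * t⁻¹ * (t * z * t⁻¹) := by group
            _ = e := by rw [ht, hzc t, mul_inv_cancel_right, mul_assoc, hz2, mul_one]] at h2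
        exact h2
      · exact fun a b h => Subtype.ext ((φ t).injective (congrArg Subtype.val h))
  have hbot : ∀ x, x ∈ M → x ∈ M' → x = 1 := fun x h1 h2 => odd_pow_two_pow hN (n := 1) (by
    rw [pow_one, pow_two]
    exact mul_eq_one_iff_eq_inv.mpr ((((hM x).mp h1).symm).trans ((hM'' x).mp h2)))
  have hcard : Nat.card N = Nat.card M * Nat.card M' := by
    rw [← Nat.card_prod]
    refine (Nat.card_eq_of_bijective (fun w : M × M' => (w.1 : N) * w.2) ⟨?_, fun x => ?_⟩).symm
    · rintro ⟨a, b⟩ ⟨c, d⟩ h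
      have h' : (a : N) * b = c * d := h
      have e1 : (c : N)⁻¹ * a = d * (b : N)⁻¹ := by
        rw [eq_mul_inv_iff_mul_eq, mul_assoc, h', inv_mul_cancel_left]
      have h3 := hbot _ (M.mul_mem (M.inv_mem c.2) a.2) (e1 ▸ M'.mul_mem d.2 (M'.inv_mem b.2))
      rw [h3] at e1
      exact Prod.ext (Subtype.ext (inv_mul_eq_one.mp h3).symm) (Subtype.ext (mul_inv_eq_one.mp e1.symm).symm)
    · obtain ⟨y, rfl⟩ := eq_sq hN x
      refine ⟨(⟨y * φ e y, (hM _).mpr (by rw [map_mul, hee, mul_comm])⟩,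
        ⟨y * (φ e y)⁻¹, (hM'' _).mpr (by rw [map_mul, map_inv, hee, mul_inv_rev, inv_inv, mul_comm])⟩), ?_⟩
      show y * φ e y * (y * (φ e y)⁻¹) = y ^ 2
      rw [mul_mul_mul_comm, mul_inv_cancel, mul_one, pow_two]
  set f := res (φ.comp Q.subtype) M (fun q x hx => hMinv q q.2 x hx) with hf
  have hMo := (card_odd_sub hN M).1
  have hMlt : 1 < Nat.card M := (Subgroup.one_lt_card_iff_ne_bot M).mpr hM0
  have hMN : Nat.card M < Nat.card N := by rw [hcard, ← hMM]; nlinarith
  have hM'inv : ∀ (k : f.ker) (x : N), x ∈ M' → φ ((k : Q) : P) x ∈ M' := fun k x hx => by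
    have h2 := hmove ((k : Q) : P) x (e * z) hx
    rw [show ((k : Q) : P) * (e * z) * ((k : Q) : P)⁻¹ = e * z by
      calc _ = ((k : Q) : P) * e * ((k : Q) : P)⁻¹ * (((k : Q) : P) * z * ((k : Q) : P)⁻¹) := by group
        _ = e * z := by rw [(hQ _).mp (k : Q).2, hzc, mul_inv_cancel_right]] at h2
    exact h2
  set g := res ((φ.comp Q.subtype).comp f.ker.subtype) M' hM'inv with hg
  have hginj : Function.Injective g := by
    rw [injective_iff_map_eq_one]
    intro k hk
    refine Subtype.ext (Subtype.ext (hφ ?_))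
    simp only [Subgroup.coe_one, map_one]
    refine MulEquiv.ext fun x => ?_
    obtain ⟨y, rfl⟩ := eq_sq hN x
    have e1 : φ ((k : Q) : P) (y * φ e y) = y * φ e y :=
      congrArg Subtype.val (DFunLike.congr_fun (MonoidHom.mem_ker.mp k.2)
        (⟨y * φ e y, (hM _).mpr (by rw [map_mul, hee, mul_comm])⟩ : M))
    have e2 : φ ((k : Q) : P) (y * (φ e y)⁻¹) = y * (φ e y)⁻¹ :=
      congrArg Subtype.val (DFunLike.congr_fun hk
        (⟨y * (φ e y)⁻¹, (hM'' _).mpr (by rw [map_mul, map_inv, hee, mul_inv_rev, inv_inv, mul_comm])⟩ : M'))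
    have e3 : y ^ 2 = y * φ e y * (y * (φ e y)⁻¹) := by
      rw [mul_mul_mul_comm, mul_inv_cancel, mul_one, pow_two]
    rw [MulAut.one_apply, e3, map_mul, e1, e2]
  by_cases h3 : Nat.card M = 3
  · have c1 : ∀ (R : Type u) [Group R] [Finite R] (X : Subgroup N), Nat.card X = 3 →
        ∀ ψ : R →* MulAut X, Function.Injective ψ → Nat.card R ≤ 2 := fun R _ _ X hX ψ hψ => by
      have : Fact (Nat.Prime 3) := ⟨by norm_num⟩
      have : IsCyclic X := isCyclic_of_prime_card hX
      refine (Nat.card_le_card_of_injective ψ hψ).trans (le_of_eq ?_)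
      rw [IsCyclic.card_mulAut, hX]
      rfl
    have hQ4 : Nat.card Q ≤ 4 := by
      rw [← Subgroup.card_mul_index f.ker, Subgroup.index_ker]
      exact Nat.mul_le_mul (c1 _ M' (hMM ▸ h3) g hginj) (c1 _ M h3 f.range.subtype Subtype.val_injective)
    have hP8 : Nat.card P ≤ 8 := by
      have := Q.card_mul_index
      rw [hQidx] at this
      omega
    have hne : sq P ≠ ⊥ := fun h => by
      have hsq : ∀ x : P, x * x = 1 := fun x => by
        rw [← pow_two]
        exact Subgroup.mem_bot.mp (h ▸ Subgroup.subset_closure ⟨x, rfl⟩)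
      have hinv : ∀ x : P, x⁻¹ = x := fun x => inv_eq_of_mul_eq_one_right (hsq x)
      refine hz1 ?_
      have hte : t * e * t⁻¹ = e := by
        rw [mul_inv_eq_iff_eq_mul]
        calc t * e = (t * e)⁻¹ := (hinv _).symm
          _ = e * t := by rw [mul_inv_rev, hinv, hinv]
      rw [ht] at hte
      exact mul_eq_left.mp hte
    have hr : r P ≤ 4 := by
      have h2 : 1 < Nat.card (sq P) := (Subgroup.one_lt_card_iff_ne_bot _).mpr hne
      have h4 := (sq P).card_mul_index
      unfold r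
      nlinarith
    refine Or.inr ?_
    rw [hcard, ← hMM, h3]
    omega
  · have g1 : Good f.range M := ih M hMo hMlt hMN f.range
      ((hP.to_subgroup Q).of_surjective f.rangeRestrict f.rangeRestrict_surjective) f.range.subtype Subtype.val_injective
    have g2 : Good f.ker M' := ih M' (card_odd_sub hN M').1 (hMM ▸ hMlt) (hMM ▸ hMN) f.ker
      ((hP.to_subgroup Q).to_subgroup _) g hginj
    have a1 : 2 * r f.range ≤ Nat.card M := g1.resolve_left fun h => h3 h.1
    have a2 : 2 * r f.ker ≤ Nat.card M' := g2.resolve_left fun h => h3 (hMM.trans h.1)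
    refine Or.inr ?_
    calc 2 * r P ≤ 2 * (2 * r Q) := by gcongr; exact r_le_two_mul Q hQidx
      _ ≤ 2 * (2 * (r f.range * r f.ker)) := by gcongr; exact r_le_hom f
      _ = (2 * r f.range) * (2 * r f.ker) := by ring
      _ ≤ Nat.card N := by rw [hcard]; exact Nat.mul_le_mul a1 a2

omit hN ih in
theorem two_pow_dvd_sq_sub_one {k : ℕ} {j : ℤ} (h : (2 : ℤ) ^ (k + 1) ∣ j ^ 2 - 1) :
    (2 : ℤ) ^ k ∣ j - 1 ∨ (2 : ℤ) ^ k ∣ j + 1 := by
  rcases Nat.eq_zero_or_pos k with rfl | hk
  · left; simp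
  have h2 : (2 : ℤ) ∣ j ^ 2 - 1 := (dvd_pow_self 2 (Nat.succ_ne_zero k)).trans h
  obtain ⟨i, rfl⟩ : ∃ i, j = 2 * i + 1 := by
    rcases Int.even_or_odd j with ⟨i, rfl⟩ | ⟨i, rfl⟩
    · exfalso
      have h3 : (i + i) ^ 2 - 1 = 2 * (2 * i ^ 2) - 1 := by ring
      omega
    · exact ⟨i, rfl⟩
  have h4 : (2 : ℤ) ^ (k - 1) ∣ i * (i + 1) := by
    refine Int.dvd_of_mul_dvd_mul_left (a := 4) (by norm_num) ?_
    have e : (4 : ℤ) * 2 ^ (k - 1) = 2 ^ (k + 1) := by
      rw [show (4 : ℤ) = 2 ^ 2 by norm_num, ← pow_add]; congr 1; omega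
    rw [e]
    convert h using 1
    ring
  have e2 : (2 : ℤ) * 2 ^ (k - 1) = 2 ^ k := by rw [← pow_succ']; congr 1; omega
  rcases Int.even_or_odd i with hi | hi
  · left
    have hc : IsCoprime ((2 : ℤ) ^ (k - 1)) (i + 1) := by
      refine IsCoprime.pow_left ?_
      rcases hi with ⟨l, rfl⟩
      exact ⟨-l, 1, by ring⟩
    rw [← e2, show 2 * i + 1 - 1 = 2 * i by ring]
    exact mul_dvd_mul_left 2 (hc.dvd_of_dvd_mul_right h4)
  · right
    have hc : IsCoprime ((2 : ℤ) ^ (k - 1)) i := by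
      refine IsCoprime.pow_left ?_
      rcases hi with ⟨l, rfl⟩
      exact ⟨-l, 1, by ring⟩
    rw [← e2, show 2 * i + 1 + 1 = 2 * (i + 1) by ring]
    exact mul_dvd_mul_left 2 (hc.dvd_of_dvd_mul_left h4)

theorem good_all {P : Type u} [Group P] [Finite P] (hP : IsPGroup 2 P) (φ : P →* MulAut N)
    (hφ : Function.Injective φ) (h1 : 1 < Nat.card N) : Good P N := by
  by_cases hirr : ∀ M : Subgroup N, (∀ p, ∀ x ∈ M, φ p x ∈ M) → M = ⊥ ∨ M = ⊤
  swap
  · push Not at hirr
    obtain ⟨M, hM, h0, h1'⟩ := hirr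
    exact good_reducible hN ih hP φ hφ M hM h0 h1'
  -- the exponent
  obtain ⟨q, hq, hqd⟩ := Nat.exists_prime_and_dvd (show Nat.card N ≠ 1 by omega)
  have := Fact.mk hq
  have hexp : ∀ x : N, x ^ q = 1 := by
    let T : Subgroup N := (powMonoidHom q : N →* N).ker
    have hT : ∀ p, ∀ x ∈ T, φ p x ∈ T := fun p x hx => by
      show (φ p x) ^ q = 1
      rw [← map_pow, show x ^ q = 1 from hx, map_one]
    rcases hirr T hT with h | h
    · obtain ⟨x, hx⟩ := exists_prime_orderOf_dvd_card' q hqd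
      have h2 : x ∈ T := show x ^ q = 1 by rw [← hx]; exact pow_orderOf_eq_one x
      rw [h, Subgroup.mem_bot] at h2
      rw [h2, orderOf_one] at hx
      exact absurd hx.symm hq.ne_one
    · exact fun x => (show x ∈ T from h ▸ Subgroup.mem_top x)
  obtain ⟨m, hm⟩ := (IsPGroup.exists_card_eq (p := q) (G := N) fun x => ⟨1, by rw [pow_one]; exact hexp x⟩)
  have hqo : q ≠ 2 := fun h => by
    rw [h] at hqd
    exact (Nat.not_even_iff_odd.mpr hN) (even_iff_two_dvd.mpr hqd)
  have hq3 : 3 ≤ q := by have := hq.two_le; omega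
  have hm0 : m ≠ 0 := fun h => by simp [hm, h] at h1
  by_cases hm1 : m = 1
  · -- cyclic of prime order
    subst hm1
    rw [pow_one] at hm
    have : IsCyclic N := isCyclic_of_prime_card hm
    have hcomm : ∀ a b : P, a * b = b * a := fun a b => hφ (by
      rw [map_mul, map_mul]
      obtain ⟨g, hg⟩ := IsCyclic.exists_generator (α := N)
      refine MulEquiv.ext fun x => ?_
      obtain ⟨i, rfl⟩ := Subgroup.mem_zpowers_iff.mp (hg x)
      obtain ⟨u, hu⟩ := Subgroup.mem_zpowers_iff.mp (hg (φ a g))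
      obtain ⟨v, hv⟩ := Subgroup.mem_zpowers_iff.mp (hg (φ b g))
      simp only [MulAut.mul_apply, map_zpow, ← hu, ← hv, ← zpow_mul, mul_comm u v])
    rcases Nat.lt_or_ge q 5 with h5 | h5
    · have hq' : q = 3 := by
        rcases Nat.lt_or_ge q 4 with h | h
        · omega
        · exact absurd hq (by rw [show q = 4 by omega]; norm_num)
      refine Or.inl ⟨by rw [hm, hq'], (r_le_card P).trans ((Nat.card_le_card_of_injective φ hφ).trans (le_of_eq ?_))⟩
      rw [IsCyclic.card_mulAut, hm, hq']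
      rfl
    · refine Or.inr ?_
      rw [hm, r_of_comm hcomm]
      refine le_trans (Nat.mul_le_mul_left 2 (?_ : _ ≤ 2)) (by omega)
      obtain ⟨g, hg⟩ := IsCyclic.exists_generator (α := N)
      -- an involution sends the generator to itself or its inverse
      have hval : ∀ x : {x : P // x ^ 2 = 1}, φ x g ∈ ({g, g⁻¹} : Set N) := fun x => by
        obtain ⟨u, hu⟩ := Subgroup.mem_zpowers_iff.mp (hg (φ x g))
        have h2 : g ^ (u * u - 1) = 1 := by
          have h3 : φ (x.1 * x.1) g = g := by rw [← pow_two, x.2, map_one]; rfl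
          rw [map_mul, MulAut.mul_apply, ← hu, map_zpow, ← hu, ← zpow_mul] at h3
          rw [zpow_sub, h3, zpow_one, mul_inv_cancel]
        have hog : orderOf g = q := by rw [orderOf_eq_card_of_forall_mem_zpowers hg, hm]
        rw [← orderOf_dvd_iff_zpow_eq_one, hog, show u * u - 1 = (u - 1) * (u + 1) by ring] at h2
        rw [← hu]
        rcases (Nat.prime_iff_prime_int.mp hq).dvd_or_dvd h2 with h4 | h4
        · left
          rw [← hog, orderOf_dvd_iff_zpow_eq_one, zpow_sub, zpow_one, mul_inv_eq_one] at h4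
          exact h4
        · right
          rw [← hog, orderOf_dvd_iff_zpow_eq_one, zpow_add, zpow_one, mul_eq_one_iff_eq_inv] at h4
          exact h4
      refine (Nat.card_le_card_of_injective (fun x : {x : P // x ^ 2 = 1} => (⟨φ x.1 g, hval x⟩ : ({g, g⁻¹} : Set N))) fun x y h => ?_).trans ?_
      · refine Subtype.ext (hφ (MulEquiv.ext fun w => ?_))
        obtain ⟨i, rfl⟩ := Subgroup.mem_zpowers_iff.mp (hg w)
        rw [map_zpow, map_zpow, show φ x.1 g = φ y.1 g from congrArg Subtype.val h]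
      · rw [Nat.card_coe_set_eq]
        exact (Set.ncard_insert_le _ _).trans (by rw [Set.ncard_singleton])
  have hn9 : 9 ≤ Nat.card N := by
    rw [hm]
    calc 9 = 3 ^ 2 := by norm_num
      _ ≤ q ^ 2 := Nat.pow_le_pow_left hq3 2
      _ ≤ q ^ m := Nat.pow_le_pow_right (by omega) (by omega)
  have hn16 : Nat.card N < 16 → Nat.card N = 9 := fun h => by
    rw [hm] at h ⊢
    have hq4 : q < 4 := by
      by_contra hc
      have : 4 ^ 2 ≤ q ^ m := (Nat.pow_le_pow_left (by omega) 2).trans (Nat.pow_le_pow_right (by omega) (by omega))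
      omega
    have hq' : q = 3 := by omega
    subst hq'
    have : m < 3 := by
      by_contra hc
      have : 3 ^ 3 ≤ 3 ^ m := Nat.pow_le_pow_right (by omega) (by omega)
      omega
    rw [show m = 2 by omega]
    norm_num
  rcases subsingleton_or_nontrivial P with hP1 | hP1
  · refine Or.inr (le_trans (Nat.mul_le_mul_left 2 ((r_le_card P).trans (Finite.card_le_one_iff_subsingleton.mpr hP1))) ?_)
    omega
  have : Fact (Nat.Prime 2) := ⟨Nat.prime_two⟩
  have hinv : ∀ w : P, w ∈ Subgroup.center P → w ^ 2 = 1 → w ≠ 1 → ∀ x, φ w x = x⁻¹ := by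
    intro w hw hw2 hw1 x
    let Mw : Subgroup N := (φ w).toMonoidHom.eqLocus (MonoidHom.id N)
    have hMw : ∀ p, ∀ y ∈ Mw, φ p y ∈ Mw := fun p y hy => by
      show φ w (φ p y) = φ p y
      rw [← MulAut.mul_apply, ← map_mul, ← Subgroup.mem_center_iff.mp hw p, map_mul, MulAut.mul_apply,
        show φ w y = y from hy]
    rcases hirr Mw hMw with h | h
    · have h2 : x * φ w x ∈ Mw := by
        show φ w (x * φ w x) = x * φ w x
        rw [map_mul, ← MulAut.mul_apply, ← map_mul, ← pow_two, hw2, map_one, MulAut.one_apply, mul_comm]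
      rw [h, Subgroup.mem_bot, mul_comm] at h2
      exact eq_inv_of_mul_eq_one_left h2
    · exact absurd (hφ (show φ w = φ 1 by
        rw [map_one]
        exact MulEquiv.ext fun y => (show y ∈ Mw from h ▸ Subgroup.mem_top y))) hw1
  obtain ⟨z, hzc, hz2, hz1⟩ : ∃ z : P, z ∈ Subgroup.center P ∧ z ^ 2 = 1 ∧ z ≠ 1 := by
    have := hP.center_nontrivial
    obtain ⟨k, hk⟩ := (hP.to_subgroup (Subgroup.center P)).exists_card_eq
    have hk0 : k ≠ 0 := fun h => by
      have := Finite.one_lt_card (α := Subgroup.center P)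
      rw [hk, h] at this
      simp at this
    obtain ⟨z, hz⟩ := exists_prime_orderOf_dvd_card' (G := Subgroup.center P) 2 (hk ▸ dvd_pow_self 2 hk0)
    refine ⟨z, z.2, ?_, fun h => ?_⟩
    · rw [← Subgroup.coe_pow, ← hz, pow_orderOf_eq_one, Subgroup.coe_one]
    · rw [show z = 1 from Subtype.ext h, orderOf_one] at hz
      omega
  have hz := hinv z hzc hz2 hz1
  have : Group.IsNilpotent P := hP.isNilpotent
  obtain ⟨A, hAn, hAc, hAs⟩ := CfsgLib.UniqueSubgroup.exists_self_centralizing P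
  have hzA : z ∈ A := hAs (Subgroup.mem_centralizer_iff.mpr fun y _ => Subgroup.mem_center_iff.mp hzc y)
  have hz2' : z * z = 1 := by rw [← pow_two]; exact hz2
  by_cases hcyc : ∀ x ∈ A, x ^ 2 = 1 → x ∈ Subgroup.zpowers z
  swap
  · push Not at hcyc
    obtain ⟨e', he'A, he'2, he'z⟩ := hcyc
    let Z0 : Subgroup P := Subgroup.zpowers z
    have hZ0n : Z0.Normal := ⟨fun n hn g => by
      obtain ⟨i, rfl⟩ := hn
      rw [Subgroup.mem_center_iff.mp ((Subgroup.center P).zpow_mem hzc i) g, mul_inv_cancel_right]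
      exact ⟨i, rfl⟩⟩
    let Ω : Subgroup P :=
      { carrier := {x | x ∈ A ∧ x * x = 1}
        one_mem' := ⟨A.one_mem, one_mul 1⟩
        mul_mem' := fun {a b} ha hb => ⟨A.mul_mem ha.1 hb.1, by
          calc a * b * (a * b) = a * (b * a) * b := by group
            _ = a * (a * b) * b := by rw [hAc b hb.1 a ha.1]
            _ = (a * a) * (b * b) := by group
            _ = 1 := by rw [ha.2, hb.2, one_mul]⟩
        inv_mem' := fun {a} ha => ⟨A.inv_mem ha.1, by rw [← mul_inv_rev, ha.2, inv_one]⟩ }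
    have hΩn : Ω.Normal := ⟨fun n hn g => ⟨hAn.conj_mem n hn.1 g, by
      calc g * n * g⁻¹ * (g * n * g⁻¹) = g * (n * n) * g⁻¹ := by group
        _ = 1 := by rw [hn.2, mul_one, mul_inv_cancel]⟩⟩
    set π := QuotientGroup.mk' Z0
    have hne : Ω.map π ≠ ⊥ := fun h => he'z (by
      rw [Subgroup.map_eq_bot_iff, QuotientGroup.ker_mk'] at h
      exact h ⟨he'A, by rw [← pow_two]; exact he'2⟩)
    have : (Ω.map π).Normal := hΩn.map π (QuotientGroup.mk'_surjective Z0)
    have : Group.IsNilpotent (P ⧸ Z0) := Group.nilpotent_of_surjective π (QuotientGroup.mk'_surjective Z0)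
    obtain ⟨_, hy, hy1⟩ := (Subgroup.bot_or_exists_ne_one _).resolve_left
      (CfsgLib.inf_center_ne_bot_of_nilpotent hne)
    obtain ⟨⟨e, he, rfl⟩, hec⟩ := Subgroup.mem_inf.mp hy
    have he0 : e ∉ Z0 := fun h => hy1 ((QuotientGroup.eq_one_iff e).mpr h)
    refine good_imprimitive hN ih hP φ hφ hirr hz he.2 (fun h => he0 (h ▸ Subgroup.mem_zpowers z))
      (fun h => he0 (h ▸ Z0.one_mem)) fun p => ?_
    have h3 : e⁻¹ * (p * e * p⁻¹) ∈ Z0 := by
      rw [← QuotientGroup.eq_one_iff]
      show π (e⁻¹ * (p * e * p⁻¹)) = 1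
      rw [map_mul, map_mul, map_mul, Subgroup.mem_center_iff.mp hec (π p), map_inv, map_inv,
        mul_inv_cancel_right, inv_mul_cancel]
    obtain ⟨i, hi⟩ := h3
    have hz' : z ^ i = e⁻¹ * (p * e * p⁻¹) := hi
    rcases Int.even_or_odd i with ⟨l, rfl⟩ | ⟨l, rfl⟩
    · left
      rw [zpow_add, ← (Commute.refl z).mul_zpow, hz2', one_zpow] at hz'
      rw [eq_inv_mul_iff_mul_eq, mul_one] at hz'
      exact hz'.symm
    · right
      rw [zpow_add, zpow_one, mul_comm (2 : ℤ) l, zpow_mul, zpow_two, ← (Commute.refl z).mul_zpow,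
        hz2', one_zpow, one_mul] at hz'
      rw [hz', mul_inv_cancel_left]
  -- `A` is cyclic
  have hoz : orderOf z = 2 := orderOf_eq_prime hz2 hz1
  obtain ⟨a, haA, hAa⟩ : ∃ a ∈ A, A = Subgroup.zpowers a := by
    have huniq : ∀ x : A, x ^ 2 = 1 → x ∈ Subgroup.zpowers (⟨z, hzA⟩ : A) := fun x hx => by
      obtain ⟨i, hi⟩ := Subgroup.mem_zpowers_iff.mp
        (hcyc x x.2 (by simpa using congrArg Subtype.val hx))
      exact ⟨i, Subtype.ext (by simpa using hi)⟩
    obtain ⟨a, -, ha⟩ := CfsgLib.UniqueSubgroup.exists_generator (p := 2) (hP.to_subgroup A)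
      (z := (⟨z, hzA⟩ : A)) (by rw [Subgroup.orderOf_mk, hoz]) huniq ⊤
      (fun x _ y _ => Subtype.ext (hAc x x.2 y y.2))
    refine ⟨a, a.2, le_antisymm (fun x hx => ?_) (Subgroup.zpowers_le.mpr a.2)⟩
    obtain ⟨i, hi⟩ := Subgroup.mem_zpowers_iff.mp (ha ▸ Subgroup.mem_top (⟨x, hx⟩ : A))
    exact ⟨i, by simpa using congrArg Subtype.val hi⟩
  obtain ⟨k, hk⟩ : ∃ k, orderOf a = 2 ^ (k + 1) := by
    obtain ⟨k, hk⟩ := IsPGroup.iff_orderOf.mp hP a
    rcases k with - | k
    · exfalso
      rw [pow_zero, orderOf_eq_one_iff] at hk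
      rw [hAa, hk, Subgroup.zpowers_one_eq_bot, Subgroup.mem_bot] at hzA
      exact hz1 hzA
    · exact ⟨k, hk⟩
  have hzk : a ^ 2 ^ k = z := by
    have h2 : (a ^ 2 ^ k) ^ 2 = 1 := by rw [← pow_mul, ← pow_succ, ← hk, pow_orderOf_eq_one]
    have h3 : a ^ 2 ^ k ≠ 1 := pow_ne_one_of_lt_orderOf (by positivity) (by
      rw [hk]; exact Nat.pow_lt_pow_right (by norm_num) (by omega))
    obtain ⟨i, hi⟩ := Subgroup.mem_zpowers_iff.mp (hcyc _ (A.pow_mem haA _) h2)
    rcases Int.even_or_odd i with ⟨l, rfl⟩ | ⟨l, rfl⟩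
    · rw [zpow_add, ← (Commute.refl z).mul_zpow, hz2', one_zpow] at hi
      exact absurd hi.symm h3
    · rw [zpow_add, zpow_one, mul_comm (2 : ℤ) l, zpow_mul, zpow_two, ← (Commute.refl z).mul_zpow,
        hz2', one_zpow, one_mul] at hi
      exact hi.symm
  -- semiregularity
  have hfree : ∀ (v : N) (i : ℤ), v ≠ 1 → φ (a ^ i) v = v → a ^ i = 1 := by
    intro v i hv hfix
    by_contra hne
    have hzpow : ∀ l : ℤ, φ ((a ^ i) ^ l) v = v := fun l => by
      have h2 : a ^ i ∈ (MulAction.stabilizer (MulAut N) v).comap φ := hfix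
      exact zpow_mem h2 l
    obtain ⟨s, hs⟩ := IsPGroup.iff_orderOf.mp hP (a ^ i)
    rcases s with - | s
    · rw [pow_zero, orderOf_eq_one_iff] at hs
      exact hne hs
    have h2 : ((a ^ i) ^ 2 ^ s) ^ 2 = 1 := by rw [← pow_mul, ← pow_succ, ← hs, pow_orderOf_eq_one]
    have h3 : (a ^ i) ^ 2 ^ s ≠ 1 := pow_ne_one_of_lt_orderOf (by positivity) (by
      rw [hs]; exact Nat.pow_lt_pow_right (by norm_num) (by omega))
    obtain ⟨l, hl⟩ := Subgroup.mem_zpowers_iff.mp (hcyc _ (A.pow_mem (A.zpow_mem haA i) _) h2)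
    rcases Int.even_or_odd l with ⟨w, rfl⟩ | ⟨w, rfl⟩
    · rw [zpow_add, ← (Commute.refl z).mul_zpow, hz2', one_zpow] at hl
      exact h3 hl.symm
    · rw [zpow_add, zpow_one, mul_comm (2 : ℤ) w, zpow_mul, zpow_two, ← (Commute.refl z).mul_zpow,
        hz2', one_zpow, one_mul] at hl
      have h4 := hzpow ((2 ^ s : ℕ) : ℤ)
      rw [zpow_natCast, ← hl, hz] at h4
      exact hv (odd_pow_two_pow hN (n := 1) (by rw [pow_one, pow_two]; exact mul_eq_one_iff_eq_inv.mpr h4.symm))
  -- the action on `A`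
  let c : P →* MulAut A := MulAut.conjNormal
  have hker : c.ker ≤ A := fun x hx => hAs (Subgroup.mem_centralizer_iff.mpr fun y hy => by
    have h2 := congrArg Subtype.val (DFunLike.congr_fun (MonoidHom.mem_ker.mp hx) (⟨y, hy⟩ : A))
    rw [MulAut.conjNormal_apply] at h2
    exact (mul_inv_eq_iff_eq_mul.mp h2).symm)
  have hrker : r c.ker ≤ 2 := by
    have : IsCyclic A := by rw [hAa]; infer_instance
    have : IsCyclic c.ker := isCyclic_of_injective (Subgroup.inclusion hker) (Subgroup.inclusion_injective hker)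
    exact r_cyclic
  have himg : ∀ b : c.range, ∃ j : ℤ, ((b : MulAut A) ⟨a, haA⟩ : P) = a ^ j := fun b => by
    obtain ⟨j, hj⟩ := Subgroup.mem_zpowers_iff.mp ((SetLike.ext_iff.mp hAa _).mp ((b : MulAut A) ⟨a, haA⟩).2)
    exact ⟨j, hj.symm⟩
  have hext : ∀ b b' : c.range, ((b : MulAut A) ⟨a, haA⟩ : P) = ((b' : MulAut A) ⟨a, haA⟩ : P) → b = b' := by
    intro b b' h
    refine Subtype.ext (MulEquiv.ext fun x => ?_)
    obtain ⟨i, hi⟩ := Subgroup.mem_zpowers_iff.mp ((SetLike.ext_iff.mp hAa _).mp x.2)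
    rw [show x = (⟨a, haA⟩ : A) ^ i from Subtype.ext (by rw [Subgroup.coe_zpow]; exact hi.symm), map_zpow,
      map_zpow, Subtype.ext h]
  have happ : ∀ (b : c.range) (i : ℤ) (hm : a ^ i ∈ A),
      (((b : MulAut A) ⟨a ^ i, hm⟩ : A) : P) = ((b : MulAut A) ⟨a, haA⟩ : P) ^ i := fun b i hm => by
    rw [show (⟨a ^ i, hm⟩ : A) = (⟨a, haA⟩ : A) ^ i from Subtype.ext (by rw [Subgroup.coe_zpow]),
      map_zpow, Subgroup.coe_zpow]
  have hcomm : ∀ b b' : c.range, b * b' = b' * b := fun b b' => hext _ _ (by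
    obtain ⟨i, hi⟩ := himg b
    obtain ⟨j, hj⟩ := himg b'
    simp only [Subgroup.coe_mul, MulAut.mul_apply]
    rw [show (b' : MulAut A) ⟨a, haA⟩ = ⟨a ^ j, A.zpow_mem haA j⟩ from Subtype.ext hj,
      show (b : MulAut A) ⟨a, haA⟩ = ⟨a ^ i, A.zpow_mem haA i⟩ from Subtype.ext hi, happ, happ, hi, hj,
      ← zpow_mul, ← zpow_mul, mul_comm])
  have hvals : ∀ b : {b : c.range // b ^ 2 = 1},
      (((b.1 : MulAut A) ⟨a, haA⟩ : A) : P) ∈ ({a, a⁻¹, a⁻¹ * z, a * z} : Set P) := fun b => by
    obtain ⟨j, hj⟩ := himg b.1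
    have h2 : a ^ (j * j) = a := by
      have h3 : ((((b.1 * b.1 : c.range) : MulAut A) ⟨a, haA⟩ : A) : P) = a := by
        rw [← pow_two, b.2]; rfl
      simp only [Subgroup.coe_mul, MulAut.mul_apply] at h3
      rw [show (b.1 : MulAut A) ⟨a, haA⟩ = ⟨a ^ j, A.zpow_mem haA j⟩ from Subtype.ext hj, happ, hj,
        ← zpow_mul] at h3
      exact h3
    have h4 : ((2 ^ (k + 1) : ℕ) : ℤ) ∣ j ^ 2 - 1 := by
      rw [← hk, orderOf_dvd_iff_zpow_eq_one, zpow_sub, zpow_one, pow_two, h2, mul_inv_cancel]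
    push_cast at h4
    rw [hj]
    have hpar : ∀ t : ℤ, a ^ ((2 : ℤ) ^ k * t) = 1 ∨ a ^ ((2 : ℤ) ^ k * t) = z := fun t => by
      rw [zpow_mul, show ((2 : ℤ) ^ k) = ((2 ^ k : ℕ) : ℤ) by push_cast; rfl, zpow_natCast, hzk]
      rcases Int.even_or_odd t with ⟨l, rfl⟩ | ⟨l, rfl⟩
      · left; rw [zpow_add, ← (Commute.refl z).mul_zpow, hz2', one_zpow]
      · right
        rw [zpow_add, zpow_one, mul_comm (2 : ℤ) l, zpow_mul, zpow_two, ← (Commute.refl z).mul_zpow,
          hz2', one_zpow, one_mul]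
    rcases two_pow_dvd_sq_sub_one h4 with ⟨t, ht⟩ | ⟨t, ht⟩
    · rw [show j = 1 + (2 : ℤ) ^ k * t by omega, zpow_add, zpow_one]
      rcases hpar t with h5 | h5 <;> rw [h5] <;> simp
    · rw [show j = -1 + (2 : ℤ) ^ k * t by omega, zpow_add, zpow_neg_one]
      rcases hpar t with h5 | h5 <;> rw [h5] <;> simp
  have hinj4 : Function.Injective fun b : {b : c.range // b ^ 2 = 1} =>
      (⟨_, hvals b⟩ : ({a, a⁻¹, a⁻¹ * z, a * z} : Set P)) := fun b b' h =>
    Subtype.ext (hext _ _ (Subtype.mk.inj h))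
  have hr4 : r c.range ≤ 4 := by
    rw [r_of_comm hcomm]
    refine (Nat.card_le_card_of_injective _ hinj4).trans ?_
    rw [Nat.card_coe_set_eq]
    refine (Set.ncard_insert_le _ _).trans ?_
    have h1' := Set.ncard_insert_le a⁻¹ ({a⁻¹ * z, a * z} : Set P)
    have h2' := Set.ncard_insert_le (a⁻¹ * z) ({a * z} : Set P)
    rw [Set.ncard_singleton] at h2'
    omega
  have hr8 : r P ≤ r c.range * r c.ker := r_le_hom c
  by_cases h16 : 16 ≤ Nat.card N
  · refine Or.inr ?_
    calc 2 * r P ≤ 2 * (4 * 2) := Nat.mul_le_mul_left 2 (hr8.trans (Nat.mul_le_mul hr4 hrker))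
      _ ≤ Nat.card N := by omega
  have hN9 := hn16 (by omega)
  suffices hB : r c.range ≤ 2 by
    refine Or.inr ?_
    calc 2 * r P ≤ 2 * (2 * 2) := Nat.mul_le_mul_left 2 (hr8.trans (Nat.mul_le_mul hB hrker))
      _ ≤ Nat.card N := by omega
  -- `|N| = 9`
  obtain ⟨v, hv⟩ : ∃ v : N, v ≠ 1 := by
    have : Nontrivial N := Finite.one_lt_card_iff_nontrivial.mp h1
    exact exists_ne 1
  have horb : Function.Injective fun i : Fin (2 ^ (k + 1)) => φ (a ^ (i : ℕ)) v := fun i i' h => by
    have h2 : φ (a ^ (((i : ℕ) : ℤ) - (i' : ℕ))) v = v := by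
      rw [zpow_sub, zpow_natCast, zpow_natCast, (Commute.pow_pow_self a _ _).inv_right.eq,
        map_mul, MulAut.mul_apply, show φ (a ^ (i : ℕ)) v = φ (a ^ (i' : ℕ)) v from h, map_inv,
        MulAut.inv_apply_self]
    have h3 := hfree v _ hv h2
    rw [← orderOf_dvd_iff_zpow_eq_one, hk] at h3
    refine Fin.ext ?_
    have h4 := Int.eq_zero_of_abs_lt_dvd h3 (by
      have := i.2
      have := i'.2
      rw [abs_lt]
      constructor <;> omega)
    omega
  have horb1 : ∀ i : Fin (2 ^ (k + 1)), φ (a ^ (i : ℕ)) v ≠ 1 := fun i => by simp [hv]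
  have hsz : 2 ^ (k + 1) ≤ 8 := by
    have h2 := Nat.card_le_card_of_injective
      (fun i : Fin (2 ^ (k + 1)) => (⟨φ (a ^ (i : ℕ)) v, horb1 i⟩ : {x : N // x ≠ 1}))
      fun i i' h => horb (congrArg Subtype.val h)
    have h3 : Nat.card {x : N // x ≠ 1} < Nat.card N :=
      Finite.card_subtype_lt (x := 1) (fun h => h rfl)
    rw [Nat.card_fin, hN9] at *
    omega
  have hk2 : k ≤ 2 := by
    by_contra hc
    have : 2 ^ 4 ≤ 2 ^ (k + 1) := Nat.pow_le_pow_right (by norm_num) (by omega)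
    omega
  have hrB : ∀ {b : ℕ}, Nat.card {b : c.range // b ^ 2 = 1} ≤ b → r c.range ≤ b := fun h => by
    rwa [r_of_comm hcomm]
  rcases Nat.lt_or_ge k 2 with hk1 | hk1
  · -- at most two candidate images
    refine hrB ?_
    refine (Nat.card_le_card_of_injective (fun b : {b : c.range // b ^ 2 = 1} =>
      (⟨_, ?_⟩ : ({a, a⁻¹} : Set P))) fun b b' h => Subtype.ext (hext _ _ (Subtype.mk.inj h))).trans ?_
    · have hne : ((((b.1 : c.range) : MulAut A) ⟨a, haA⟩ : A) : P) ≠ 1 := fun h => by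
        have h2 : ((b.1 : c.range) : MulAut A) ⟨a, haA⟩ = 1 := Subtype.ext h
        rw [MulEquiv.map_eq_one_iff] at h2
        have h3 : a = 1 := congrArg Subtype.val h2
        rw [h3, orderOf_one] at hk
        have : 1 < 2 ^ (k + 1) := Nat.one_lt_two_pow (by omega)
        omega
      rcases Nat.lt_or_ge k 1 with h0 | h0
      · rw [show k = 0 by omega, pow_zero, pow_one] at hzk
        subst hzk
        rcases hvals b with h | h | h | h
        · exact Or.inl h
        · exact Or.inr h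
        · exact absurd (h.trans (inv_mul_cancel a)) hne
        · exact absurd (h.trans hz2') hne
      · rw [show k = 1 by omega] at hzk hk
        have hza' : a * z = a⁻¹ := by
          refine eq_inv_of_mul_eq_one_left ?_
          rw [← hzk, ← pow_succ', ← pow_succ, ← pow_orderOf_eq_one a, hk]
          norm_num
        rcases hvals b with h | h | h | h
        · exact Or.inl h
        · exact Or.inr h
        · left
          rw [← hza', mul_assoc, hz2', mul_one] at h
          exact h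
        · exact Or.inr (h.trans hza')
    · rw [Nat.card_coe_set_eq]
      exact (Set.ncard_insert_le _ _).trans (by rw [Set.ncard_singleton])
  · obtain rfl : k = 2 := by omega
    have hexcl : ∀ t : P, t * a * t⁻¹ ≠ a * z := by
      intro t ht
      have hsur : ∀ w : N, w ≠ 1 → ∃ i : Fin (2 ^ 3), φ (a ^ (i : ℕ)) v = w := fun w hw => by
        have hb : Function.Bijective
            (fun i : Fin (2 ^ 3) => (⟨φ (a ^ (i : ℕ)) v, horb1 i⟩ : {x : N // x ≠ 1})) := by
          rw [Nat.bijective_iff_injective_and_card]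
          refine ⟨fun i i' h => horb (congrArg Subtype.val h), ?_⟩
          have := Fintype.ofFinite N
          classical
          simp only [Nat.card_eq_fintype_card] at hN9
          rw [Nat.card_eq_fintype_card, Nat.card_eq_fintype_card, Fintype.card_fin,
            Fintype.card_subtype_compl, Fintype.card_subtype_eq, hN9]
          norm_num
        obtain ⟨i, hi⟩ := hb.2 ⟨w, hw⟩
        exact ⟨i, congrArg Subtype.val hi⟩
      obtain ⟨i, hi⟩ := hsur (φ t v) (by simp [hv])
      set t' := (a ^ (i : ℕ))⁻¹ * t with ht'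
      have hfix : φ t' v = v := by rw [ht', map_mul, MulAut.mul_apply, ← hi, map_inv, MulAut.inv_apply_self]
      have hza : z * a = a * z := (Subgroup.mem_center_iff.mp hzc a).symm
      have htA : t' * a * t'⁻¹ = a * z := by
        calc t' * a * t'⁻¹ = (a ^ (i : ℕ))⁻¹ * (t * a * t⁻¹) * a ^ (i : ℕ) := by rw [ht']; group
          _ = (a ^ (i : ℕ))⁻¹ * (a ^ (i : ℕ) * (a * z)) := by
              rw [ht, mul_assoc, (((Commute.refl a).mul_left (show Commute z a from hza)).pow_right _).eq]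
          _ = a * z := inv_mul_cancel_left _ _
      have hfix2 : φ t' (φ (a ^ 2) v) = φ (a ^ 2) v := by
        rw [← MulAut.mul_apply, ← map_mul, show t' * a ^ 2 = (t' * a * t'⁻¹) ^ 2 * t' by rw [conj_pow]; group,
          htA, (show Commute a z from hza.symm).mul_pow, hz2, mul_one, map_mul, MulAut.mul_apply, hfix]
      let F : Subgroup N := (φ t').toMonoidHom.eqLocus (MonoidHom.id N)
      have hFt : F = ⊤ := by
        refine Subgroup.eq_top_of_card_eq _ ?_
        by_contra hne
        have hd : Nat.card F ∣ 3 ^ 2 := by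
          have := Subgroup.card_subgroup_dvd_card F
          rwa [hN9] at this
        obtain ⟨l, hl, hl'⟩ := (Nat.dvd_prime_pow (by norm_num)).mp hd
        have hFle : Nat.card F ≤ 3 := by
          rw [hl']
          have : l ≠ 2 := fun h => hne (by rw [hl', h, hN9]; norm_num)
          calc 3 ^ l ≤ 3 ^ 1 := Nat.pow_le_pow_right (by norm_num) (by omega)
            _ = 3 := by norm_num
        have hi4 : ∀ i i' : Fin (2 ^ 3), φ (a ^ (i : ℕ)) v = φ (a ^ (i' : ℕ)) v → i = i' := fun i i' h => horb h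
        have hvF : v ∈ F := hfix
        have hwF : φ (a ^ 2) v ∈ F := hfix2
        have hvi : v⁻¹ = φ (a ^ 4) v := by rw [show (4 : ℕ) = 2 ^ 2 by norm_num, hzk, hz]
        have hd1 : ∀ (i i' : ℕ), i < 8 → i' < 8 → i ≠ i' → φ (a ^ i) v ≠ φ (a ^ i') v := fun i i' h1 h2 h3 h4 =>
          h3 (congrArg Fin.val (hi4 ⟨i, h1⟩ ⟨i', h2⟩ h4))
        have n1 := hd1 0 4 (by norm_num) (by norm_num) (by norm_num)
        have n2 := hd1 0 2 (by norm_num) (by norm_num) (by norm_num)
        have n3 := hd1 2 4 (by norm_num) (by norm_num) (by norm_num)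
        rw [pow_zero, map_one, MulAut.one_apply, ← hvi] at n1
        rw [pow_zero, map_one, MulAut.one_apply] at n2
        rw [← hvi] at n3
        let f4 : Fin 4 → F := ![1, ⟨v, hvF⟩, ⟨v⁻¹, F.inv_mem hvF⟩, ⟨φ (a ^ 2) v, hwF⟩]
        have hinjf : Function.Injective f4 := by
          intro x y h
          have h' := congrArg Subtype.val h
          fin_cases x <;> fin_cases y <;> simp [f4, hv, Ne.symm, n1, n2, n3, n1.symm, n2.symm, n3.symm, -map_pow] at h' ⊢
        have := Nat.card_le_card_of_injective f4 hinjf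
        rw [Nat.card_fin] at this
        omega
      have ht1 : t' = 1 := hφ (MulEquiv.ext fun w => by
        rw [map_one, MulAut.one_apply]
        exact (show w ∈ F from hFt ▸ Subgroup.mem_top w))
      rw [ht1, one_mul, inv_one, mul_one] at htA
      exact hz1 (mul_eq_left.mp htA.symm)
    have hle3 : r c.range ≤ 3 := by
      refine hrB ?_
      refine (Nat.card_le_card_of_injective (fun b : {b : c.range // b ^ 2 = 1} =>
        (⟨_, ?_⟩ : ({a, a⁻¹, a⁻¹ * z} : Set P))) fun b b' h => Subtype.ext (hext _ _ (Subtype.mk.inj h))).trans ?_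
      · rcases hvals b with h | h | h | h
        · exact Or.inl h
        · exact Or.inr (Or.inl h)
        · exact Or.inr (Or.inr h)
        · exfalso
          obtain ⟨t, ht⟩ := b.1.2
          refine hexcl t ?_
          rw [← ht, MulAut.conjNormal_apply] at h
          exact h
      · rw [Nat.card_coe_set_eq]
        refine (Set.ncard_insert_le _ _).trans ?_
        have h2' := Set.ncard_insert_le a⁻¹ ({a⁻¹ * z} : Set P)
        rw [Set.ncard_singleton] at h2'
        omega
    obtain ⟨i, hi⟩ := (hP.of_surjective c.rangeRestrict c.rangeRestrict_surjective).exists_card_eq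
    have hd : r c.range ∣ 2 ^ i := hi ▸ Subgroup.index_dvd_card _
    obtain ⟨l, -, hl⟩ := (Nat.dvd_prime_pow Nat.prime_two).mp hd
    rw [hl] at hle3 ⊢
    rcases Nat.lt_or_ge l 2 with h | h
    · calc 2 ^ l ≤ 2 ^ 1 := Nat.pow_le_pow_right (by norm_num) (by omega)
        _ = 2 := by norm_num
    · have : 2 ^ 2 ≤ 2 ^ l := Nat.pow_le_pow_right (by norm_num) h
      omega

end

section
universe u

theorem good_main : ∀ (n : ℕ) (N : Type u) [CommGroup N] [Finite N], Nat.card N = n → Odd (Nat.card N) →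
    1 < Nat.card N → ∀ (P : Type u) [Group P] [Finite P], IsPGroup 2 P →
    ∀ φ : P →* MulAut N, Function.Injective φ → Good P N := by
  intro n
  induction n using Nat.strong_induction_on with
  | _ n ih =>
    intro N _ _ hn hN h1 P _ _ hP φ hφ
    exact good_all hN (fun M _ _ hM hM1 hlt => ih _ (hn ▸ hlt) M rfl hM hM1) hP φ hφ h1

end

/-- Let G be a finite group that is the semidirect product of a normal abelian subgroup N of odd order by a 2-subgroup P, and suppose N is the unique minimal normal subgroup of G. Then the index of the Frattini subgroup of P in P is at most #N − 1. -/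
theorem result {G : Type*} [Group G] [Finite G] (N P : Subgroup G) (hN : N.Normal) (hNab : IsMulCommutative ↥N) (hNodd : Odd (Nat.card ↥N)) (hP : IsPGroup 2 ↥P) (hdisj : N ⊓ P = ⊥) (hprod : N ⊔ P = ⊤) (hmin : N ≠ ⊥ ∧ ∀ M : Subgroup G, M.Normal → M ≠ ⊥ → N ≤ M) : (frattini ↥P).index ≤ Nat.card ↥N - 1 := by
  obtain ⟨hN0, hu⟩ := hmin
  have hc : ∀ x y : N, x * y = y * x := fun x y => mul_comm' x y
  letI : CommGroup N := { (inferInstance : Group N) with mul_comm := hc }
  let C : Subgroup G := P ⊓ Subgroup.centralizer (N : Set G)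
  have hCn : C.Normal := by
    refine Subgroup.normalizer_eq_top_iff.mp (top_le_iff.mp (hprod.ge.trans (sup_le ?_ ?_)))
    · intro x hx
      rw [Subgroup.mem_normalizer_iff]
      intro y
      have key : ∀ w ∈ N, ∀ y ∈ C, w * y * w⁻¹ = y := fun w hw y hy => by
        rw [Subgroup.mem_centralizer_iff.mp hy.2 w hw, mul_inv_cancel_right]
      constructor
      · intro hy
        rw [key x hx y hy]
        exact hy
      · intro hy
        have := key x⁻¹ (N.inv_mem hx) _ hy
        rw [show x⁻¹ * (x * y * x⁻¹) * x⁻¹⁻¹ = y by group] at this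
        rw [this]
        exact hy
    · intro x hx
      have hn : x ∈ Subgroup.normalizer ((Subgroup.centralizer (N : Set G) : Subgroup G) : Set G) :=
        (Subgroup.normalizer_eq_top_iff.mpr inferInstance).ge (Subgroup.mem_top x)
      rw [Subgroup.mem_normalizer_iff] at hn ⊢
      intro y
      exact and_congr (Subgroup.mem_normalizer_iff.mp (Subgroup.le_normalizer hx) y) (hn y)
  have hC : C = ⊥ := by
    by_contra hne
    refine hN0 ?_
    rw [eq_bot_iff, ← hdisj]
    exact le_inf le_rfl ((hu C hCn hne).trans inf_le_left)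
  let φ : P →* MulAut N := (MulAut.conjNormal (H := N)).comp P.subtype
  have hφ : Function.Injective φ := by
    rw [injective_iff_map_eq_one]
    intro p hp
    refine Subtype.ext (Subgroup.mem_bot.mp (hC ▸ ⟨p.2, Subgroup.mem_centralizer_iff.mpr fun w hw => ?_⟩))
    have h2 := congrArg Subtype.val (DFunLike.congr_fun hp (⟨w, hw⟩ : N))
    exact (mul_inv_eq_iff_eq_mul.mp h2).symm
  have h1 : 1 < Nat.card N := (Subgroup.one_lt_card_iff_ne_bot N).mpr hN0
  have : Fact (Nat.Prime 2) := ⟨Nat.prime_two⟩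
  have hle : (frattini ↥P).index ≤ r ↥P := by
    refine Nat.le_of_dvd (Nat.pos_of_ne_zero Subgroup.index_ne_zero_of_finite) (Subgroup.index_dvd_of_le ?_)
    rw [sq, Subgroup.closure_le]
    rintro _ ⟨x, rfl⟩
    exact CfsgLib.pow_mem_frattini_pGroup hP x
  rcases good_main _ N rfl hNodd h1 P hP φ hφ with ⟨h3, h2⟩ | h2 <;> omega

end Cfsg.Agent.S4188
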