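import Cfsg.Statements.S4194
import Cfsg.Agent.Lib.TwoCentral.Main

set_option autoImplicit false
open Cfsg

namespace Cfsg.Agent.S4194

/-- A finite group G has commutative Sylow 2-subgroups if and only if every 2-element of G (element of order a power of 2) is 2-central, that is, its centralizer contains a Sylow 2-subgroup of G. -/
theorem result {G : Type*} [Group G] [Finite G] (P : Sylow 2 G) :
    IsMulCommutative (P : Subgroup G) ↔ ∀ x : G, (∃ k : ℕ, orderOf x = 2 ^ k) → (∃ Q : Sylow 2 G, (Q : Subgroup G) ≤ Subgroup.centralizer ({x} : Set G)) := by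
  refine ⟨fun hab x hx => ?_, CfsgLib.TwoCentral.comm_of_central P⟩
  obtain ⟨k, hk⟩ := hx
  obtain ⟨Q, hQ⟩ := (IsPGroup.of_card (n := k) (by rw [Nat.card_zpowers, hk]) :
    IsPGroup 2 (Subgroup.zpowers x)).exists_le_sylow
  haveI := hab
  haveI : IsMulCommutative (Q : Subgroup G) := by
    obtain ⟨e⟩ : Nonempty ((P : Subgroup G) ≃* (Q : Subgroup G)) := ⟨P.equiv Q⟩
    exact ⟨⟨fun a b => e.symm.injective (by
      simpa [map_mul] using (IsMulCommutative.is_comm (M := (P : Subgroup G))).comm (e.symm a) (e.symm b))⟩⟩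
  refine ⟨Q, fun v hv => Subgroup.mem_centralizer_singleton_iff.mpr ?_⟩
  exact congrArg Subtype.val ((IsMulCommutative.is_comm (M := (Q : Subgroup G))).comm ⟨v, hv⟩
    ⟨x, hQ (Subgroup.mem_zpowers x)⟩)

end Cfsg.Agent.S4194
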