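import Cfsg.Statements.S4196
import Mathlib
-- import your own Cfsg.Agent.* helpers here

set_option autoImplicit false
open Cfsg

namespace Cfsg.Agent.S4196

open scoped Pointwise

/-- A finite group G has elementary abelian Sylow 2-subgroups (commutative with every element squaring to the identity) if and only if every 2-element of G has a Sylow 2-subgroup in its centralizer and is conjugate to its inverse. -/
theorem result {G : Type*} [Group G] [Finite G] (P : Sylow 2 G) :
    (IsMulCommutative (P : Subgroup G) ∧ ∀ x ∈ (P : Subgroup G), x ^ 2 = 1) ↔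
      ∀ x : G, (∃ k : ℕ, orderOf x = 2 ^ k) → (∃ Q : Sylow 2 G, (Q : Subgroup G) ≤ Subgroup.centralizer ({x} : Set G)) ∧ IsConj x x⁻¹ := by
  constructor
  · rintro ⟨hc, hsq⟩ x ⟨k, hk⟩
    have hxz : IsPGroup 2 (Subgroup.zpowers x) := IsPGroup.of_card (by rw [Nat.card_zpowers, hk])
    obtain ⟨Q, hQ⟩ := hxz.exists_le_sylow
    obtain ⟨g, rfl⟩ := MulAction.exists_smul_eq G P Q
    have hx := hQ (Subgroup.mem_zpowers x)
    rw [Sylow.coe_subgroup_smul] at hx
    simp only [Subgroup.mem_pointwise_smul_iff_inv_smul_mem] at hx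
    refine ⟨⟨g • P, ?_⟩, ?_⟩
    · intro y hy
      rw [Sylow.coe_subgroup_smul, Subgroup.mem_pointwise_smul_iff_inv_smul_mem] at hy
      rw [Subgroup.mem_centralizer_singleton_iff]
      apply MulAut.conj g⁻¹ |>.injective
      have := congrArg Subtype.val (hc.is_comm.comm ⟨_, hy⟩ ⟨_, hx⟩)
      simpa [MulAut.smul_def, mul_assoc] using this
    · have h2 := hsq _ hx
      have h3 : (MulAut.conj g)⁻¹ • (x ^ 2) = 1 := by rw [smul_pow']; exact h2
      rw [inv_smul_eq_iff, smul_one] at h3
      rw [inv_eq_of_mul_eq_one_right (by rwa [pow_two] at h3)]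
  · intro h
    have key : ∀ x ∈ (P : Subgroup G), x ^ 2 = 1 := by
      intro x hx
      obtain ⟨k, hk⟩ := IsPGroup.iff_orderOf.mp P.isPGroup' ⟨x, hx⟩
      rw [Subgroup.orderOf_mk] at hk
      obtain ⟨⟨Q, hQ⟩, hreal⟩ := h x ⟨k, hk⟩
      have hodd : ¬ 2 ∣ (Subgroup.centralizer ({x} : Set G)).index := fun hd =>
        Q.not_dvd_index (hd.trans (Subgroup.index_dvd_of_le hQ))
      have hcls : (Subgroup.centralizer ({x} : Set G)).index = Nat.card (conjugatesOf x) := by
        rw [Subgroup.centralizer_eq_comap_stabilizer]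
        erw [Subgroup.index_comap_of_surjective _ ConjAct.toConjAct.surjective]
        rw [MulAction.index_stabilizer,
          ← Nat.card_coe_set_eq, ConjAct.orbit_eq_carrier_conjClasses]
        rfl
      have : Finite (conjugatesOf x) := Subtype.finite
      have := Fintype.ofFinite (conjugatesOf x)
      by_contra hne
      apply hodd
      rw [hcls, Nat.card_eq_fintype_card, ← ZMod.natCast_eq_zero_iff]
      let σ : conjugatesOf x → conjugatesOf x := fun y => ⟨(y : G)⁻¹,
        hreal.trans (by
          obtain ⟨c, hc⟩ := isConj_iff.mp y.2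
          exact isConj_iff.mpr ⟨c, by rw [← hc]; group⟩)⟩
      have hσ : Function.Involutive σ := fun y => Subtype.ext (inv_inv _)
      have hfree : ∀ y, σ y ≠ y := by
        intro y e
        apply hne
        obtain ⟨c, hc⟩ := isConj_iff.mp y.2
        have e2 : (y : G) * y = 1 := by
          nth_rw 1 [← (congrArg Subtype.val e : (y : G)⁻¹ = y)]
          exact inv_mul_cancel _
        have e3 : x = c⁻¹ * y * c := by rw [← hc]; group
        rw [e3, pow_two]
        calc c⁻¹ * y * c * (c⁻¹ * y * c) = c⁻¹ * ((y : G) * y) * c := by group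
          _ = 1 := by rw [e2]; group
      have := Finset.sum_involution (s := (Finset.univ : Finset (conjugatesOf x)))
        (f := fun _ => (1 : ZMod 2)) (fun a _ => σ a) (by intros; decide) (fun a _ _ => hfree a)
        (fun _ _ => Finset.mem_univ _) (fun a _ => hσ a)
      simpa using this
    refine ⟨⟨⟨fun a b => Subtype.ext ?_⟩⟩, key⟩
    have ha := key _ a.2; have hb := key _ b.2
    have hab := key _ (mul_mem a.2 b.2)
    rw [pow_two] at ha hb hab
    calc (a : G) * b = ((a : G) * b)⁻¹ := eq_inv_of_mul_eq_one_left hab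
      _ = (b : G)⁻¹ * (a : G)⁻¹ := mul_inv_rev _ _
      _ = b * a := by rw [inv_eq_of_mul_eq_one_right ha, inv_eq_of_mul_eq_one_right hb]

end Cfsg.Agent.S4196
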