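import Cfsg.Statements.S4198
import Mathlib
-- import your own Cfsg.Agent.* helpers here

set_option autoImplicit false
open Cfsg

namespace Cfsg.Agent.S4198

open Equiv Equiv.Perm

theorem partition_step (m : ℕ) : Fintype.card (Nat.Partition (m + 1)) ≤ 2 * Fintype.card (Nat.Partition m) := by
  classical
  have hne : ∀ P : Nat.Partition (m + 1), P.parts.toFinset.Nonempty := fun P => by
    rw [Finset.nonempty_iff_ne_empty]
    intro h
    have := P.parts_sum
    rw [Multiset.toFinset_eq_empty.mp h] at this
    simp at this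
  let mn : Nat.Partition (m + 1) → ℕ := fun P => P.parts.toFinset.min' (hne P)
  have hmem : ∀ P, mn P ∈ P.parts := fun P => Multiset.mem_toFinset.mp (Finset.min'_mem _ _)
  have hmin : ∀ P, ∀ b ∈ P.parts, mn P ≤ b := fun P b hb => Finset.min'_le _ _ (Multiset.mem_toFinset.mpr hb)
  have hpos : ∀ P, 1 ≤ mn P := fun P => P.parts_pos (hmem P)
  have hsum : ∀ P : Nat.Partition (m + 1), mn P + (P.parts.erase (mn P)).sum = m + 1 := fun P => by
    rw [← Multiset.sum_cons, Multiset.cons_erase (hmem P), P.parts_sum]
  let f : Nat.Partition (m + 1) → Bool × Nat.Partition m := fun P =>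
    if h : mn P = 1 then (true, ⟨P.parts.erase (mn P), fun hb => P.parts_pos (Multiset.mem_of_mem_erase hb),
      by have := hsum P; omega⟩)
    else (false, ⟨(mn P - 1) ::ₘ P.parts.erase (mn P), fun {b} hb => by
        rcases Multiset.mem_cons.mp hb with rfl | hb
        · have := hpos P; omega
        · exact P.parts_pos (Multiset.mem_of_mem_erase hb),
      by rw [Multiset.sum_cons]; have := hsum P; have := hpos P; omega⟩)
  have hinj : Function.Injective f := by
    intro P Q h
    have key : mn P = mn Q → P.parts.erase (mn P) = Q.parts.erase (mn Q) → P = Q := fun h1 h2 =>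
      Nat.Partition.ext (by rw [← Multiset.cons_erase (hmem P), ← Multiset.cons_erase (hmem Q), h2, h1])
    by_cases hP : mn P = 1 <;> by_cases hQ : mn Q = 1 <;> simp only [f, hP, hQ, dite_true, dite_false, Prod.mk.injEq,
      Bool.true_eq_false, Bool.false_eq_true, false_and, true_and, Nat.Partition.mk.injEq] at h
    · exact key (hP.trans hQ.symm) (by rw [hP, hQ]; exact h)
    · have h1 : mn P = mn Q := by
        have a1 : mn P - 1 ∈ (mn Q - 1) ::ₘ Q.parts.erase (mn Q) := h ▸ Multiset.mem_cons_self _ _
        have a2 : mn Q - 1 ∈ (mn P - 1) ::ₘ P.parts.erase (mn P) := h.symm ▸ Multiset.mem_cons_self _ _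
        have := hpos P; have := hpos Q
        rcases Multiset.mem_cons.mp a1 with e1 | e1
        · omega
        rcases Multiset.mem_cons.mp a2 with e2 | e2
        · omega
        have := hmin Q _ (Multiset.mem_of_mem_erase e1)
        have := hmin P _ (Multiset.mem_of_mem_erase e2)
        omega
      rw [h1, Multiset.cons_inj_right] at h
      exact key h1 (by rw [h1]; exact h)
  have := Fintype.card_le_of_injective f hinj
  simpa [Fintype.card_prod] using this

theorem partition_five : Fintype.card (Nat.Partition 5) ≤ 2 ^ (5 - 2) := by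
  classical
  have hsub : ∀ P : Nat.Partition 5, P.parts.toFinset ⊆ Finset.range 6 := fun P b hb => by
    rw [Multiset.mem_toFinset] at hb
    have := Multiset.single_le_sum (fun x _ => Nat.zero_le x) b hb
    rw [P.parts_sum] at this
    exact Finset.mem_range.mpr (by omega)
  have hsum : ∀ P : Nat.Partition 5, P.parts.count 1 + 2 * P.parts.count 2 + 3 * P.parts.count 3 +
      4 * P.parts.count 4 + 5 * P.parts.count 5 = 5 := fun P => by
    have := Finset.sum_multiset_count_of_subset P.parts (Finset.range 6) (hsub P)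
    rw [P.parts_sum] at this
    simp [Finset.sum_range_succ] at this
    omega
  refine le_trans (Finset.card_le_card_of_injOn
    (fun P : Nat.Partition 5 => (P.parts.count 2, P.parts.count 3, P.parts.count 4, P.parts.count 5))
    (t := ({(0,0,0,0), (1,0,0,0), (2,0,0,0), (0,1,0,0), (1,1,0,0), (0,0,1,0), (0,0,0,1)} : Finset (ℕ × ℕ × ℕ × ℕ)))
    (fun P _ => ?_) fun P _ Q _ h => ?_) (by decide)
  · have := hsum P
    simp only [Finset.coe_insert, Finset.coe_singleton, Set.mem_insert_iff, Set.mem_singleton_iff, Prod.mk.injEq]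
    omega
  · simp only [Prod.mk.injEq] at h
    have a1 := hsum P
    have a2 := hsum Q
    refine Nat.Partition.ext (Multiset.ext.mpr fun i => ?_)
    by_cases hi : i ∈ Finset.Icc 1 5
    · rw [Finset.mem_Icc] at hi
      rcases (show i = 1 ∨ i = 2 ∨ i = 3 ∨ i = 4 ∨ i = 5 by omega) with rfl | rfl | rfl | rfl | rfl <;> omega
    · have key : ∀ R : Nat.Partition 5, R.parts.count i = 0 := fun R => by
        rw [Multiset.count_eq_zero]
        intro hm
        have h1 := Finset.mem_range.mp (hsub R (Multiset.mem_toFinset.mpr hm))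
        have h2 := R.parts_pos hm
        exact hi (Finset.mem_Icc.mpr ⟨h2, by omega⟩)
      rw [key, key]

theorem partition_bound : ∀ n, 5 ≤ n → Fintype.card (Nat.Partition n) ≤ 2 ^ (n - 2) := by
  intro n hn
  induction n, hn using Nat.le_induction with
  | base => exact partition_five
  | succ k hk ih =>
    refine (partition_step k).trans ?_
    rw [show k + 1 - 2 = (k - 2) + 1 by omega, pow_succ]
    omega

theorem alt_lt (n : ℕ) (hn : 5 ≤ n) :
    Nat.card (ConjClasses (alternatingGroup (Fin n))) < Nat.card (ConjClasses (Equiv.Perm (Fin n))) := by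
  classical
  have : Fintype (ConjClasses (alternatingGroup (Fin n))) := Fintype.ofFinite _
  have : Fintype (ConjClasses (Equiv.Perm (Fin n))) := Fintype.ofFinite _
  rw [Nat.card_eq_fintype_card, Nat.card_eq_fintype_card]
  have hsurj : ∀ C : ConjClasses (alternatingGroup (Fin n)), ∃ g, ConjClasses.mk g = C := fun C => ConjClasses.exists_rep C
  choose rep hrep using hsurj
  let F : ConjClasses (alternatingGroup (Fin n)) → ConjClasses (Equiv.Perm (Fin n)) :=
    fun C => ConjClasses.mk ((rep C : alternatingGroup (Fin n)) : Equiv.Perm (Fin n))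
  let first : ConjClasses (alternatingGroup (Fin n)) → Prop := fun C => Function.invFun F (F C) = C
  have hsame : ∀ C D, F C = F D → ∀ x : Equiv.Perm (Fin n), x * (rep C : Equiv.Perm (Fin n)) * x⁻¹ = rep D →
      x ∈ alternatingGroup (Fin n) → C = D := by
    intro C D _ x hx hxA
    rw [← hrep C, ← hrep D]
    exact ConjClasses.mk_eq_mk_iff_isConj.mpr (isConj_iff.mpr ⟨⟨x, hxA⟩, Subtype.ext hx⟩)
  have hconj : ∀ C D, F C = F D → ∃ x : Equiv.Perm (Fin n), x * (rep C : Equiv.Perm (Fin n)) * x⁻¹ = rep D :=
    fun C D h => isConj_iff.mp (ConjClasses.mk_eq_mk_iff_isConj.mp h)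
  -- two classes with the same image force the centralizer into the alternating group
  have hsplit : ∀ C D, F C = F D → C ≠ D → Subgroup.centralizer {(rep C : Equiv.Perm (Fin n))} ≤ alternatingGroup (Fin n) := by
    intro C D h hne c hc
    obtain ⟨x, hx⟩ := hconj C D h
    by_contra hcA
    have hxA : x ∉ alternatingGroup (Fin n) := fun hh => hne (hsame C D h x hx hh)
    refine hne (hsame C D h (x * c) ?_ ?_)
    · rw [← hx, Subgroup.mem_centralizer_singleton_iff] at *
      rw [show x * c * (rep C : Equiv.Perm (Fin n)) * (x * c)⁻¹ = x * (c * rep C) * c⁻¹ * x⁻¹ by group, hc]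
      group
    · rw [mem_alternatingGroup] at hcA hxA ⊢
      rw [map_mul]
      rcases Int.units_eq_one_or (sign x) with e | e <;> rcases Int.units_eq_one_or (sign c) with e' | e' <;>
        simp_all
  have hthree : ∀ C₀ C₁ C₂, F C₀ = F C₁ → F C₀ = F C₂ → C₁ ≠ C₀ → C₂ ≠ C₀ → C₁ = C₂ := by
    intro C₀ C₁ C₂ h1 h2 n1 n2
    obtain ⟨x, hx⟩ := hconj C₀ C₁ h1
    obtain ⟨y, hy⟩ := hconj C₀ C₂ h2
    refine hsame C₁ C₂ (h1.symm.trans h2) (y * x⁻¹) ?_ ?_
    · rw [← hx, ← hy]; group
    · have hx1 : x ∉ alternatingGroup (Fin n) := fun hh => n1 (hsame C₀ C₁ h1 x hx hh).symm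
      have hy1 : y ∉ alternatingGroup (Fin n) := fun hh => n2 (hsame C₀ C₂ h2 y hy hh).symm
      rw [mem_alternatingGroup] at hx1 hy1 ⊢
      rw [map_mul, map_inv]
      rcases Int.units_eq_one_or (sign x) with e | e <;> rcases Int.units_eq_one_or (sign y) with e' | e' <;>
        simp_all
  -- the odd class attached to a non-first class
  have hodd : ∀ C, ¬ first C → ∃ (h : Equiv.Perm (Fin n)) (a : ℕ), a ∈ (rep C : Equiv.Perm (Fin n)).cycleType ∧
      h.cycleType = (a - 1) ::ₘ (rep C : Equiv.Perm (Fin n)).cycleType.erase a ∧ sign h = -1 ∧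
      (∀ c ∈ (rep C : Equiv.Perm (Fin n)).cycleType, Odd c) ∧ 4 ≤ (rep C : Equiv.Perm (Fin n)).cycleType.sum := by
    intro C hC
    have hF : F (Function.invFun F (F C)) = F C := Function.invFun_eq ⟨C, rfl⟩
    obtain ⟨hoddT, hfix, -⟩ := centralizer_le_alternating_iff.mp (hsplit C _ hF.symm (fun e => hC e.symm))
    set T := (rep C : Equiv.Perm (Fin n)).cycleType with hT
    have hsum : 4 ≤ T.sum := by rw [Fintype.card_fin] at hfix; omega
    obtain ⟨a, ha⟩ : ∃ a, a ∈ T := Multiset.exists_mem_of_ne_zero fun e => by simp [e] at hsum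
    have ha3 : 3 ≤ a := by
      have := two_le_of_mem_cycleType ha
      obtain ⟨k, hk⟩ := hoddT a ha
      omega
    have hsum' : a + (T.erase a).sum = T.sum := by rw [← Multiset.sum_cons, Multiset.cons_erase ha]
    have hle : ((a - 1) ::ₘ T.erase a).sum ≤ Fintype.card (Fin n) ∧ ∀ b ∈ (a - 1) ::ₘ T.erase a, 2 ≤ b := by
      refine ⟨?_, fun b hb => ?_⟩
      · rw [Multiset.sum_cons]
        have h0 : T.sum ≤ Fintype.card (Fin n) := by
          rw [hT, sum_cycleType]; exact Finset.card_le_univ _
        omega
      · rcases Multiset.mem_cons.mp hb with rfl | hb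
        · omega
        · exact two_le_of_mem_cycleType (Multiset.mem_of_mem_erase hb)
    obtain ⟨h, hh⟩ := (exists_with_cycleType_iff _).mpr hle
    refine ⟨h, a, ha, hh, ?_, hoddT, hsum⟩
    rw [sign_of_cycleType, hh]
    refine Odd.neg_one_pow ?_
    have key : ∀ T : Multiset ℕ, (∀ c ∈ T, Odd c) → Even (T.sum + Multiset.card T) := by
      intro T
      induction T using Multiset.induction_on with
      | empty => simp
      | cons c S ih =>
        intro hS
        have h1 := ih fun d hd => hS d (Multiset.mem_cons_of_mem hd)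
        have h2 := hS c (Multiset.mem_cons_self _ _)
        rw [Multiset.sum_cons, Multiset.card_cons]
        rw [show c + S.sum + (Multiset.card S + 1) = (S.sum + Multiset.card S) + (c + 1) by ring]
        exact h1.add h2.add_one
    obtain ⟨r, hr⟩ := key T hoddT
    rw [Multiset.sum_cons, Multiset.card_cons]
    have hc1 : Multiset.card (T.erase a) + 1 = Multiset.card T := by
      rw [← Multiset.card_cons a, Multiset.cons_erase ha]
    exact ⟨r - 1, by omega⟩
  choose hh aa haa hct hsign hoddT hsum4 using hodd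
  let Ψ : ConjClasses (alternatingGroup (Fin n)) → ConjClasses (Equiv.Perm (Fin n)) := fun C =>
    if h : first C then F C else ConjClasses.mk (hh C h)
  have heven : ∀ C, sign (rep C : Equiv.Perm (Fin n)) = 1 := fun C => mem_alternatingGroup.mp (rep C).2
  have hmix : ∀ C D (hD : ¬ first D), F C ≠ ConjClasses.mk (hh D hD) := by
    intro C D hD h
    obtain ⟨x, hx⟩ := isConj_iff.mp (ConjClasses.mk_eq_mk_iff_isConj.mp h)
    have := congrArg sign hx
    rw [map_mul, map_mul, map_inv, heven, hsign, mul_one, mul_inv_cancel] at this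
    exact absurd this (by decide)
  refine Fintype.card_lt_of_injective_not_surjective Ψ ?_ ?_
  · intro C D h
    by_cases hC : first C <;> by_cases hD : first D <;> simp only [Ψ, hC, hD, dite_true, dite_false] at h
    · rw [← hC, ← hD, h]
    · exact absurd h (hmix C D hD)
    · exact absurd h.symm (hmix D C hC)
    · have e := isConj_iff_cycleType_eq.mp (ConjClasses.mk_eq_mk_iff_isConj.mp h)
      rw [hct, hct] at e
      set a := aa C hC with ha
      set b := aa D hD with hb
      have hab : a = b := by
        have h1 : a - 1 ∈ (b - 1) ::ₘ (rep D : Equiv.Perm (Fin n)).cycleType.erase b := e ▸ Multiset.mem_cons_self _ _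
        obtain ⟨i, hi⟩ := hoddT C hC a (haa C hC)
        obtain ⟨j, hj⟩ := hoddT D hD b (haa D hD)
        rcases Multiset.mem_cons.mp h1 with e1 | e1
        · have := two_le_of_mem_cycleType (haa C hC)
          omega
        · obtain ⟨k, hk⟩ := hoddT D hD _ (Multiset.mem_of_mem_erase e1)
          omega
      rw [hab, Multiset.cons_inj_right] at e
      have hTT : (rep C : Equiv.Perm (Fin n)).cycleType = (rep D : Equiv.Perm (Fin n)).cycleType := by
        rw [← Multiset.cons_erase (haa C hC), ← Multiset.cons_erase (haa D hD), ← ha, ← hb, hab, e]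
      have hFF : F C = F D := ConjClasses.mk_eq_mk_iff_isConj.mpr (isConj_of_cycleType_eq hTT)
      refine hthree (Function.invFun F (F C)) C D (Function.invFun_eq ⟨C, rfl⟩) ((Function.invFun_eq ⟨C, rfl⟩).trans hFF)
        (fun e => hC e.symm) (fun e => hD ?_)
      show Function.invFun F (F D) = D
      rw [← hFF]; exact e.symm
  · intro hs
    obtain ⟨C, hC⟩ := hs (ConjClasses.mk (Equiv.swap (⟨0, by omega⟩ : Fin n) ⟨1, by omega⟩))
    have hne : (⟨0, by omega⟩ : Fin n) ≠ ⟨1, by omega⟩ := fun e => by simp [Fin.ext_iff] at e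
    by_cases h : first C <;> simp only [Ψ, h, dite_true, dite_false] at hC
    · obtain ⟨x, hx⟩ := isConj_iff.mp (ConjClasses.mk_eq_mk_iff_isConj.mp hC)
      have := congrArg sign hx
      rw [map_mul, map_mul, map_inv, heven, sign_swap hne, mul_one, mul_inv_cancel] at this
      exact absurd this (by decide)
    · have e := isConj_iff_cycleType_eq.mp (ConjClasses.mk_eq_mk_iff_isConj.mp hC)
      rw [hct, (isSwap_iff_cycleType).mp ⟨_, _, hne, rfl⟩] at e
      obtain ⟨e1, e2⟩ : aa C h - 1 = 2 ∧ (rep C : Equiv.Perm (Fin n)).cycleType.erase (aa C h) = 0 :=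
        (Multiset.cons_inj_right _).mp (by
          have h2 : aa C h - 1 ∈ ({2} : Multiset ℕ) := e ▸ Multiset.mem_cons_self _ _
          rw [Multiset.mem_singleton] at h2
          rw [h2] at e
          exact e) |> fun e' => ⟨by
            have h2 : aa C h - 1 ∈ ({2} : Multiset ℕ) := e ▸ Multiset.mem_cons_self _ _
            exact Multiset.mem_singleton.mp h2, e'⟩
      have := hsum4 C h
      rw [← Multiset.cons_erase (haa C h), e2, Multiset.sum_cons, Multiset.sum_zero] at this
      omega

/-- For n ≥ 5 the alternating group of degree n has strictly fewer conjugacy classes than the symmetric group of degree n, and the symmetric group of degree n (whose classes correspond to the partitions of n) has at most 2^(n−2) conjugacy classes. -/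
theorem result (n : ℕ) (hn : 5 ≤ n) : Nat.card (ConjClasses (alternatingGroup (Fin n))) < Nat.card (ConjClasses (Equiv.Perm (Fin n))) ∧ Nat.card (ConjClasses (Equiv.Perm (Fin n))) ≤ 2 ^ (n - 2) := by
  refine ⟨alt_lt n hn, le_trans ?_ (partition_bound n hn)⟩
  rw [← Nat.card_eq_fintype_card (α := Nat.Partition n)]
  have hc : ∀ σ : Equiv.Perm (Fin n), σ.partition.parts.sum = n := fun σ => σ.partition.parts_sum.trans (Fintype.card_fin n)
  let f : ConjClasses (Equiv.Perm (Fin n)) → Nat.Partition n := Quotient.lift
    (fun σ : Equiv.Perm (Fin n) => (⟨σ.partition.parts, fun h => σ.partition.parts_pos h, hc σ⟩ : Nat.Partition n))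
    (fun a b h => Nat.Partition.ext (congrArg (fun P : (Fintype.card (Fin n)).Partition => P.parts) (Equiv.Perm.partition_eq_of_isConj.mp h)))
  refine Nat.card_le_card_of_injective f ?_
  rintro ⟨a⟩ ⟨b⟩ h
  exact ConjClasses.mk_eq_mk_iff_isConj.mpr (Equiv.Perm.partition_eq_of_isConj.mpr (Nat.Partition.ext (congrArg (fun P : Nat.Partition n => P.parts) h)))

end Cfsg.Agent.S4198
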