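import Cfsg.Statements.S4203
import Mathlib
import Cfsg.Agent.Lib.CharTheory.Burnside
-- import your own Cfsg.Agent.* helpers here

set_option autoImplicit false
open Cfsg

namespace Cfsg.Agent.S4203

universe u

theorem aux : ∀ (n : ℕ) (G : Type u) [Group G] [Finite G], Nat.card G = n →
    (∀ M : Subgroup G, IsCoatom M → ∃ p : ℕ, p.Prime ∧ (M.index = p ∨ M.index = p ^ 2)) → Group.IsSolvable G := by
  intro n
  induction n using Nat.strong_induction_on with
  | _ n IH =>
  intro G _ _ hn h
  subst hn
  classical
  rcases eq_or_ne (Nat.card G) 1 with h1 | h1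
  · have := (Nat.card_eq_one_iff_unique.mp h1).1
    infer_instance
  have hne : (Nat.card G).primeFactors.Nonempty := Nat.nonempty_primeFactors.mpr (by have := Nat.card_pos (α := G); omega)
  set p := (Nat.card G).primeFactors.max' hne with hpdef
  have hpm := (Nat.card G).primeFactors.max'_mem hne
  have hp : p.Prime := Nat.prime_of_mem_primeFactors hpm
  have hpd : p ∣ Nat.card G := Nat.dvd_of_mem_primeFactors hpm
  have hmax : ∀ q, q.Prime → q ∣ Nat.card G → q ≤ p := fun q hq hd =>
    Finset.le_max' _ _ (Nat.mem_primeFactors.mpr ⟨hq, hd, Nat.card_pos.ne'⟩)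
  have := Fact.mk hp
  obtain ⟨P⟩ : Nonempty (Sylow p G) := inferInstance
  by_cases hPn : (P : Subgroup G).Normal
  · have hlt : Nat.card (G ⧸ (P : Subgroup G)) < Nat.card G := by
      rw [Subgroup.card_eq_card_quotient_mul_card_subgroup (P : Subgroup G)]
      exact lt_mul_of_one_lt_right Nat.card_pos (Nat.lt_of_lt_of_le hp.one_lt
        (Nat.le_of_dvd Nat.card_pos (P.dvd_card_of_dvd_card hpd)))
    have hQ : Group.IsSolvable (G ⧸ (P : Subgroup G)) := by
      refine IH _ hlt _ rfl fun M hM => ?_
      obtain ⟨q, hq, hi⟩ := h (M.comap (QuotientGroup.mk' (P : Subgroup G)))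
        (Subgroup.isCoatom_comap_of_surjective (QuotientGroup.mk'_surjective _) hM)
      rw [Subgroup.index_comap_of_surjective _ (QuotientGroup.mk'_surjective _)] at hi
      exact ⟨q, hq, hi⟩
    have := P.isPGroup'.isNilpotent
    exact Group.isSolvable_of_ker_le_range (P : Subgroup G).subtype (QuotientGroup.mk' (P : Subgroup G)) (by simp)
  have hN : Subgroup.normalizer ((P : Subgroup G) : Set G) ≠ ⊤ := fun e => hPn (Subgroup.normalizer_eq_top_iff.mp e)
  obtain ⟨M, hM, hle⟩ := (eq_top_or_exists_le_coatom _).resolve_left hN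
  obtain ⟨q, hq, hi⟩ := h M hM
  have hPM : (P : Subgroup G) ≤ M := Subgroup.le_normalizer.trans hle
  -- the index of `M` is congruent to one
  have hmod : M.index ≡ 1 [MOD p] := by
    have e1 : Nat.card (Sylow p G) = (Subgroup.normalizer ((P : Subgroup G) : Set G)).index := P.card_eq_index_normalizer
    have e2 : Nat.card (Sylow p M) = (Subgroup.normalizer (((P.subtype hPM : Sylow p M) : Subgroup M) : Set M)).index :=
      (P.subtype hPM).card_eq_index_normalizer
    rw [Sylow.coe_subtype, ← Subgroup.subgroupOf_normalizer_eq hPM] at e2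
    have e3 : Nat.card (Sylow p G) = Nat.card (Sylow p M) * M.index := by
      rw [e1, e2, ← Subgroup.relIndex_mul_index hle]
      rfl
    have h2 := (card_sylow_modEq_one p M).mul_right M.index
    rw [← e3, one_mul] at h2
    exact h2.symm.trans (card_sylow_modEq_one p G)
  have hqd : q ∣ Nat.card G := dvd_trans (by rcases hi with e | e <;> rw [e]; exact dvd_pow_self q two_ne_zero) M.index_dvd_card
  have hqp := hmax q hq hqd
  have h2q := hq.two_le
  have hdvd : ∀ m, m ≡ 1 [MOD p] → 1 ≤ m → p ∣ m - 1 := fun m hm h1m => (Nat.modEq_iff_dvd' h1m).mp hm.symm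
  have hq2 : p = 3 := by
    rcases hi with e | e
    · have h3 := hdvd q (e ▸ hmod) (by omega)
      have := Nat.le_of_dvd (by omega) h3
      omega
    · have h3 := hdvd (q ^ 2) (e ▸ hmod) (Nat.one_le_pow _ _ hq.pos)
      rw [show q ^ 2 - 1 = (q + 1) * (q - 1) by rw [← Nat.sq_sub_sq, one_pow]] at h3
      rcases hp.dvd_mul.mp h3 with h4 | h4
      · have h5 := Nat.le_of_dvd (by omega) h4
        rcases Nat.lt_or_ge q p with hlt | hge
        · have hp1 : p = q + 1 := by omega
          rcases hq.eq_two_or_odd with e2 | e2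
          · omega
          · rcases hp.eq_two_or_odd with e3 | e3 <;> omega
        · have hqe : q = p := by omega
          rw [hqe] at h4
          exact absurd (Nat.dvd_one.mp ((Nat.dvd_add_right (dvd_refl p)).mp h4)) hp.ne_one
      · have := Nat.le_of_dvd (by omega) h4
        omega
  refine CfsgLib.CharTheory.isSolvable_of_card_two_primes (p := 2) (q := 3) Nat.prime_two Nat.prime_three
    (a := (Nat.card G).factorization 2) (b := (Nat.card G).factorization 3) ?_
  have hsub : (Nat.card G).primeFactors ⊆ {2, 3} := fun r hr => by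
    have h5 := hmax r (Nat.prime_of_mem_primeFactors hr) (Nat.dvd_of_mem_primeFactors hr)
    have := (Nat.prime_of_mem_primeFactors hr).two_le
    simp only [Finset.mem_insert, Finset.mem_singleton]
    omega
  conv_lhs => rw [← Nat.prod_factorization_pow_eq_self (Nat.card_pos (α := G)).ne']
  rw [Finsupp.prod_of_support_subset _ (by simpa using hsub) _ (by simp)]
  exact Finset.prod_pair (by norm_num)

/-- A finite group in which every maximal subgroup has index a prime or the square of a prime is solvable. -/
theorem result {G : Type*} [Group G] [Finite G] (h : ∀ M : Subgroup G, IsCoatom M → ∃ p : ℕ, p.Prime ∧ (M.index = p ∨ M.index = p ^ 2)) : Group.IsSolvable G := by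
  exact aux _ G rfl h

end Cfsg.Agent.S4203
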