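import Cfsg.Statements.S4204
import Mathlib
-- import your own Cfsg.Agent.* helpers here

set_option autoImplicit false
open Cfsg

namespace Cfsg.Agent.S4204

open scoped commutatorElement

theorem commutator_le_iff_le_comap {G : Type*} [Group G] (N : Subgroup G) [N.Normal] (X Y : Subgroup G) :
    ⁅X, Y⁆ ≤ N ↔ X ≤ (Subgroup.centralizer ((Y.map (QuotientGroup.mk' N) : Subgroup (G ⧸ N)) : Set (G ⧸ N))).comap
      (QuotientGroup.mk' N) := by
  constructor
  · intro h x hx
    rw [Subgroup.mem_comap, Subgroup.mem_centralizer_iff]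
    rintro _ ⟨y, hy, rfl⟩
    have h1 : QuotientGroup.mk' N ⁅x, y⁆ = 1 :=
      (QuotientGroup.eq_one_iff _).mpr (h (Subgroup.commutator_mem_commutator hx hy))
    rw [map_commutatorElement, commutatorElement_eq_one_iff_mul_comm] at h1
    exact h1.symm
  · intro h
    rw [Subgroup.commutator_le]
    intro x hx y hy
    rw [← QuotientGroup.eq_one_iff]
    show QuotientGroup.mk' N ⁅x, y⁆ = 1
    rw [map_commutatorElement, commutatorElement_eq_one_iff_mul_comm]
    exact (Subgroup.mem_centralizer_iff.mp (Subgroup.mem_comap.mp (h hx)) _ (Subgroup.mem_map_of_mem _ hy)).symm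

theorem iSup_commutator_le {G : Type*} [Group G] (N : Subgroup G) [N.Normal] {ι : Sort*} (X : ι → Subgroup G)
    (Y : Subgroup G) (h : ∀ i, ⁅X i, Y⁆ ≤ N) : ⁅⨆ i, X i, Y⁆ ≤ N := by
  rw [commutator_le_iff_le_comap]
  exact iSup_le fun i => (commutator_le_iff_le_comap N _ _).mp (h i)

/-- `γ` with a top element prepended. -/
def ext' {G : Type*} [Group G] (H : Subgroup G) : ℕ → Subgroup G
  | 0 => ⊤
  | i + 1 => H.lowerCentralSeries i

theorem ext'_normal {G : Type*} [Group G] (H : Subgroup G) [H.Normal] : ∀ i, (ext' H i).Normal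
  | 0 => inferInstanceAs (⊤ : Subgroup G).Normal
  | 1 => by rw [ext', Subgroup.lowerCentralSeries_zero]; infer_instance
  | i + 2 => by
    have := ext'_normal H (i + 1)
    rw [ext', Subgroup.lowerCentralSeries_succ]
    exact Subgroup.commutator_normal (ext' H (i + 1)) H

theorem ext'_commutator {G : Type*} [Group G] (H : Subgroup G) [H.Normal] :
    ∀ i, ⁅ext' H i, H⁆ ≤ ext' H (i + 1)
  | 0 => by show ⁅(⊤ : Subgroup G), H⁆ ≤ H.lowerCentralSeries 0; rw [Subgroup.lowerCentralSeries_zero]; exact Subgroup.commutator_le_right _ _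
  | i + 1 => le_of_eq (Subgroup.lowerCentralSeries_succ H i).symm

theorem ext'_antitone {G : Type*} [Group G] (H : Subgroup G) [H.Normal] : ∀ i, ext' H (i + 1) ≤ ext' H i
  | 0 => le_top
  | i + 1 => Subgroup.lowerCentralSeries_antitone H (Nat.le_succ i)

/-- If `H` and `K` are normal subgroups of a finite group with `H` nilpotent of class at most `c` and `K` nilpotent of class at most `d` (the terms with index `c`, respectively `d`, of their lower central series are trivial, indices starting at `0`), then `HK` is nilpotent of class at most `c + d`. -/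
theorem result {G : Type*} [Group G] [Finite G] (H K : Subgroup G) [H.Normal] [K.Normal] (c d : ℕ) (hH : H.lowerCentralSeries c = ⊥) (hK : K.lowerCentralSeries d = ⊥) : (H ⊔ K).lowerCentralSeries (c + d) = ⊥ := by
  let T : ℕ → Subgroup G := fun n => ⨆ i : Fin (n + 2), ext' H i ⊓ ext' K (n + 1 - i)
  have hTn : ∀ n, (T n).Normal := fun n => by
    haveI : ∀ i : Fin (n + 2), (ext' H i ⊓ ext' K (n + 1 - i)).Normal := fun i => by
      have := ext'_normal H i
      have := ext'_normal K (n + 1 - i)
      infer_instance
    exact Subgroup.iSup_normal (fun i : Fin (n + 2) => ext' H i ⊓ ext' K (n + 1 - i))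
  have key : ∀ n, (H ⊔ K).lowerCentralSeries n ≤ T n := by
    intro n
    induction n with
    | zero =>
      rw [Subgroup.lowerCentralSeries_zero]
      refine sup_le ?_ ?_
      · exact le_iSup_of_le (⟨1, by omega⟩ : Fin 2) (by simp [ext'])
      · exact le_iSup_of_le (⟨0, by omega⟩ : Fin 2) (by simp [ext'])
    | succ n ih =>
      rw [Subgroup.lowerCentralSeries_succ]
      refine (Subgroup.commutator_mono ih le_rfl).trans ?_
      have := hTn (n + 1)
      refine iSup_commutator_le _ _ _ fun i => ?_
      have hi := i.2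
      rw [Subgroup.commutator_comm, commutator_le_iff_le_comap]
      refine sup_le ?_ ?_ <;> rw [← commutator_le_iff_le_comap, Subgroup.commutator_comm]
      · refine le_trans ?_ (le_iSup_of_le (⟨i + 1, by omega⟩ : Fin (n + 1 + 2)) le_rfl)
        refine le_inf ((Subgroup.commutator_mono inf_le_left le_rfl).trans (ext'_commutator H i)) ?_
        have := ext'_normal K (n + 1 - i)
        rw [show n + 1 + 1 - (i + 1 : ℕ) = n + 1 - i by omega]
        exact (Subgroup.commutator_mono inf_le_right le_rfl).trans (Subgroup.commutator_le_left _ _)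
      · refine le_trans ?_ (le_iSup_of_le (⟨i, by omega⟩ : Fin (n + 1 + 2)) le_rfl)
        have := ext'_normal H i
        refine le_inf ((Subgroup.commutator_mono inf_le_left le_rfl).trans (Subgroup.commutator_le_left _ _)) ?_
        rw [show n + 1 + 1 - (i : ℕ) = (n + 1 - i) + 1 by omega]
        exact (Subgroup.commutator_mono inf_le_right le_rfl).trans (ext'_commutator K _)
  refine le_bot_iff.mp ((key (c + d)).trans (iSup_le fun i => ?_))
  have hanti : ∀ (L : Subgroup G) [L.Normal] (a b : ℕ), a ≤ b → ext' L b ≤ ext' L a := fun L _ a b hab => by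
    induction hab with
    | refl => exact le_rfl
    | step _ ih => exact (ext'_antitone L _).trans ih
  rcases Nat.lt_or_ge (i : ℕ) (c + 1) with hlt | hge
  · refine inf_le_right.trans ((hanti K (d + 1) _ (by omega)).trans ?_)
    rw [ext', hK]
  · refine inf_le_left.trans ((hanti H (c + 1) _ hge).trans ?_)
    rw [ext', hH]

end Cfsg.Agent.S4204
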