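import Cfsg.Statements.S4205
import Mathlib
-- import your own Cfsg.Agent.* helpers here

set_option autoImplicit false
open Cfsg

namespace Cfsg.Agent.S4205

/-- In a finite group whose upper central series reaches the whole group at step `c` (nilpotent of class at most `c`), starting from any subgroup and taking normalizers `c` times reaches the whole group. -/
theorem result {G : Type*} [Group G] [Finite G] (c : ℕ) (hG : Subgroup.upperCentralSeries G c = ⊤) (H : Subgroup G) : (fun K : Subgroup G => Subgroup.normalizer (K : Set G))^[c] H = ⊤ := by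
  set f : Subgroup G → Subgroup G := fun K => Subgroup.normalizer (K : Set G) with hf
  have key : ∀ i : ℕ, Subgroup.upperCentralSeries G i ≤ f^[i] H := by
    intro i
    induction i with
    | zero => rw [Subgroup.upperCentralSeries_zero]; exact bot_le
    | succ i ih =>
      rw [Function.iterate_succ_apply']
      have hmaps : ∀ x ∈ Subgroup.upperCentralSeries G (i + 1), ∀ y ∈ f^[i] H, x * y * x⁻¹ ∈ f^[i] H := by
        intro x hx y hy
        have h1 : x * y * x⁻¹ * y⁻¹ ∈ f^[i] H := ih (Subgroup.mem_upperCentralSeries_succ_iff.mp hx y)
        have h2 := mul_mem h1 hy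
        rwa [inv_mul_cancel_right] at h2
      intro x hx
      rw [hf, Subgroup.mem_normalizer_iff]
      refine fun y => ⟨hmaps x hx y, fun hy => ?_⟩
      have h3 := hmaps x⁻¹ (inv_mem hx) _ hy
      rwa [show x⁻¹ * (x * y * x⁻¹) * x⁻¹⁻¹ = y by group] at h3
  exact top_le_iff.mp (hG ▸ key c)

end Cfsg.Agent.S4205
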