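import Cfsg.Statements.S4208
import Mathlib
import Cfsg.Agent.S4207
import Cfsg.Agent.Lib.Elementary
-- import your own Cfsg.Agent.* helpers here

set_option autoImplicit false
open Cfsg

namespace Cfsg.Agent.S4208

open scoped commutatorElement

/-- Let `P` be a group of order `p^n` whose Frattini subgroup has index `p^r`. Then the order of the automorphism group of `P` divides `p^(r(n-r)) · (p^r - 1)(p^r - p) ⋯ (p^r - p^(r-1))`. -/
theorem result {P : Type*} [Group P] [Finite P] {p n r : ℕ} [Fact p.Prime] (hP : Nat.card P = p ^ n) (hr : (frattini P).index = p ^ r) : Nat.card (MulAut P) ∣ p ^ (r * (n - r)) * ∏ i ∈ Finset.range r, (p ^ r - p ^ i) := by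
  classical
  have hPp : IsPGroup p P := IsPGroup.of_card hP
  set F := frattini P with hF
  have hcq : ∀ a b : P ⧸ F, a * b = b * a := by
    intro a b
    obtain ⟨a, rfl⟩ := QuotientGroup.mk'_surjective F a
    obtain ⟨b, rfl⟩ := QuotientGroup.mk'_surjective F b
    rw [← map_mul, ← map_mul, QuotientGroup.mk'_eq_mk']
    refine ⟨(a * b)⁻¹ * (b * a), CfsgLib.commutator_le_frattini_pGroup hPp ?_, by group⟩
    rw [show (a * b)⁻¹ * (b * a) = ⁅b⁻¹, a⁻¹⁆ by rw [commutatorElement_def]; group]
    exact Subgroup.commutator_mem_commutator (Subgroup.mem_top _) (Subgroup.mem_top _)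
  let : CommGroup (P ⧸ F) := { (inferInstance : Group (P ⧸ F)) with mul_comm := hcq }
  have inst : Module (ZMod p) (Additive (P ⧸ F)) := AddCommGroup.zmodModule fun u => by
    obtain ⟨x, hx⟩ := QuotientGroup.mk'_surjective F (Additive.toMul u)
    apply Additive.toMul.injective
    rw [toMul_nsmul, ← hx, ← map_pow, toMul_zero]
    exact (QuotientGroup.eq_one_iff _).mpr (CfsgLib.pow_mem_frattini_pGroup hPp x)
  have hcQ : Nat.card (Additive (P ⧸ F)) = p ^ r := hr
  have hfd : Module.finrank (ZMod p) (Additive (P ⧸ F)) = r := by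
    have h1 := Module.natCard_eq_pow_finrank (K := ZMod p) (V := Additive (P ⧸ F))
    rw [hcQ, Nat.card_zmod] at h1
    exact (Nat.pow_right_injective (Fact.out : p.Prime).two_le h1).symm
  -- the action on the Frattini quotient
  have hchar : ∀ α : MulAut P, F.map α.toMonoidHom = F := fun α =>
    Subgroup.characteristic_iff_map_eq.mp inferInstance α
  let q : MulAut P →* MulAut (P ⧸ F) :=
    { toFun := fun α => QuotientGroup.congr F F α (hchar α)
      map_one' := MulEquiv.ext fun x => by
        obtain ⟨x, rfl⟩ := QuotientGroup.mk'_surjective F x; rfl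
      map_mul' := fun a b => MulEquiv.ext fun x => by
        obtain ⟨x, rfl⟩ := QuotientGroup.mk'_surjective F x; rfl }
  let b := Module.finBasisOfFinrankEq (ZMod p) (Additive (P ⧸ F)) hfd
  let toEnd : MulAut (P ⧸ F) →* Module.End (ZMod p) (Additive (P ⧸ F)) :=
    { toFun := fun β => (MulEquiv.toAdditive β).toAddMonoidHom.toZModLinearMap p
      map_one' := LinearMap.ext fun _ => rfl
      map_mul' := fun _ _ => LinearMap.ext fun _ => rfl }
  let toGL : MulAut (P ⧸ F) →* GL (Fin r) (ZMod p) :=
    ((Units.mapEquiv (LinearMap.toMatrixAlgEquiv b).toMulEquiv).toMonoidHom).comp toEnd.toHomUnits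
  have htoGL : Function.Injective toGL := fun β γ h => by
    have h1 : toEnd.toHomUnits β = toEnd.toHomUnits γ :=
      (Units.mapEquiv (LinearMap.toMatrixAlgEquiv b).toMulEquiv).injective h
    have h2 : toEnd β = toEnd γ := congrArg Units.val h1
    exact MulEquiv.ext fun x => congrArg Additive.toMul (LinearMap.congr_fun h2 (Additive.ofMul x))
  have hker : Nat.card q.ker ∣ p ^ (r * (n - r)) := by
    refine Cfsg.Agent.S4207.aut_card_dvd hP hr q.ker fun α hα x => ?_
    have h1 : QuotientGroup.mk' F (α x) = QuotientGroup.mk' F x :=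
      DFunLike.congr_fun (MonoidHom.mem_ker.mp hα) (QuotientGroup.mk' F x)
    rw [← QuotientGroup.eq_one_iff]
    show QuotientGroup.mk' F (α x * x⁻¹) = 1
    rw [map_mul, map_inv, h1, mul_inv_cancel]
  rw [← Subgroup.card_mul_index q.ker]
  refine mul_dvd_mul hker ?_
  rw [Subgroup.index_ker]
  refine (Subgroup.card_subgroup_dvd_card _).trans ?_
  refine (Subgroup.card_dvd_of_injective toGL htoGL).trans (dvd_of_eq ?_)
  rw [Matrix.card_GL_field, ← Fin.prod_univ_eq_prod_range]
  simp [ZMod.card]

end Cfsg.Agent.S4208
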