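import Cfsg.Statements.S4211
import Mathlib
import Cfsg.Agent.Lib.Hamiltonian
import Cfsg.Agent.Lib.InvariantComplement
-- import your own Cfsg.Agent.* helpers here

set_option autoImplicit false
open Cfsg

namespace Cfsg.Agent.S4211

/-- A finite non-abelian group in which every subgroup is normal is the internal direct product of a subgroup isomorphic to the quaternion group of order `8`, an elementary abelian `2`-subgroup and an abelian subgroup of odd order. -/
theorem result {G : Type*} [Group G] [Finite G] (hna : ¬ IsMulCommutative G) (hn : ∀ H : Subgroup G, H.Normal) : ∃ Q E A : Subgroup G, Nonempty (Q ≃* QuaternionGroup 2) ∧ Cfsg.IsElementaryAbelian 2 E ∧ IsMulCommutative A ∧ Odd (Nat.card A) ∧ E ⊓ A = ⊥ ∧ Q ⊓ (E ⊔ A) = ⊥ ∧ Q ⊔ (E ⊔ A) = ⊤ := by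
  classical
  -- a quaternion subgroup
  obtain ⟨x, y, hx4, hyy, hyx, hynx⟩ : ∃ x y : G, orderOf x = 4 ∧ y * y = x ^ 2 ∧ y * x * y⁻¹ = x⁻¹ ∧ y ∉ Subgroup.zpowers x := by
    by_contra hno
    apply hna
    refine ⟨⟨fun g k => CfsgLib.Hamiltonian.commute_of_prime_power hn (fun p hp a b ha hb => ?_) g k⟩⟩
    have := Fact.mk hp
    by_contra hab
    exact hno (CfsgLib.Hamiltonian.exists_minimal_pair hn ha hb hab).2
  have hxi : ∀ g : G, g * x * g⁻¹ = x ∨ g * x * g⁻¹ = x⁻¹ := by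
    intro g
    obtain ⟨k, hk⟩ := CfsgLib.Hamiltonian.conj_mem_zpowers hn x g
    simp only at hk
    have hodd : k % 2 = 1 := by
      rcases Int.emod_two_eq_zero_or_one k with h | h
      · exfalso
        obtain ⟨a, rfl⟩ : (2 : ℤ) ∣ k := Int.dvd_of_emod_eq_zero h
        have h1 : (g * x * g⁻¹) ^ 2 = 1 := by
          rw [← hk, ← zpow_natCast, ← zpow_mul, show (2 * a) * ((2 : ℕ) : ℤ) = ((4 : ℕ) : ℤ) * a by push_cast; ring,
            zpow_mul, zpow_natCast, ← hx4, pow_orderOf_eq_one, one_zpow]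
        rw [conj_pow, conj_eq_one_iff] at h1
        have := Nat.le_of_dvd two_pos (orderOf_dvd_of_pow_eq_one h1)
        omega
      · exact h
    have h4 : x ^ (4 : ℤ) = 1 := by
      rw [show (4 : ℤ) = ((4 : ℕ) : ℤ) from rfl, zpow_natCast, ← hx4, pow_orderOf_eq_one]
    have h5 : k % 4 = 1 ∨ k % 4 = 3 := by omega
    rw [← hk, ← Int.mul_ediv_add_emod k 4, zpow_add, zpow_mul, h4, one_zpow, one_mul]
    rcases h5 with h | h <;> rw [h]
    · left; exact zpow_one x
    · right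
      rw [show (3 : ℤ) = 4 + (-1) by norm_num, zpow_add, h4, one_mul, zpow_neg_one]
  have hy4 : orderOf y = 4 := by
    have h2 : orderOf (x ^ 2) = 2 := by rw [orderOf_pow, hx4]; rfl
    have h1 : y ^ 4 = 1 := by
      rw [show (4 : ℕ) = 2 * 2 from rfl, pow_mul, pow_two y, hyy, ← pow_mul, show 2 * 2 = 4 from rfl, ← hx4, pow_orderOf_eq_one]
    have hdvd : orderOf y ∣ 2 ^ 2 := orderOf_dvd_of_pow_eq_one (by norm_num [h1])
    obtain ⟨k, hk, hk'⟩ := (Nat.dvd_prime_pow Nat.prime_two).mp hdvd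
    by_contra hne
    have hk1 : k ≤ 1 := by
      by_contra h
      exact hne (by rw [hk', show k = 2 by omega]; rfl)
    have h3 : y ^ 2 = 1 := orderOf_dvd_iff_pow_eq_one.mp (hk' ▸ (Nat.pow_dvd_pow 2 hk1).trans (by norm_num))
    rw [pow_two, hyy] at h3
    rw [h3, orderOf_one] at h2
    omega
  have hyi : ∀ g : G, g * y * g⁻¹ = y ∨ g * y * g⁻¹ = y⁻¹ := by
    intro g
    obtain ⟨k, hk⟩ := CfsgLib.Hamiltonian.conj_mem_zpowers hn y g
    simp only at hk
    have hodd : k % 2 = 1 := by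
      rcases Int.emod_two_eq_zero_or_one k with h | h
      · exfalso
        obtain ⟨a, rfl⟩ : (2 : ℤ) ∣ k := Int.dvd_of_emod_eq_zero h
        have h1 : (g * y * g⁻¹) ^ 2 = 1 := by
          rw [← hk, ← zpow_natCast, ← zpow_mul, show (2 * a) * ((2 : ℕ) : ℤ) = ((4 : ℕ) : ℤ) * a by push_cast; ring,
            zpow_mul, zpow_natCast, ← hy4, pow_orderOf_eq_one, one_zpow]
        rw [conj_pow, conj_eq_one_iff] at h1
        have := Nat.le_of_dvd two_pos (orderOf_dvd_of_pow_eq_one h1)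
        omega
      · exact h
    have h4 : y ^ (4 : ℤ) = 1 := by
      rw [show (4 : ℤ) = ((4 : ℕ) : ℤ) from rfl, zpow_natCast, ← hy4, pow_orderOf_eq_one]
    have h5 : k % 4 = 1 ∨ k % 4 = 3 := by omega
    rw [← hk, ← Int.mul_ediv_add_emod k 4, zpow_add, zpow_mul, h4, one_zpow, one_mul]
    rcases h5 with h | h <;> rw [h]
    · left; exact zpow_one y
    · right
      rw [show (3 : ℤ) = 4 + (-1) by norm_num, zpow_add, h4, one_mul, zpow_neg_one]
  have hxy : x * y * x⁻¹ = y⁻¹ := by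
    rcases hyi x with h | h
    · exfalso
      rw [mul_inv_eq_iff_eq_mul] at h
      rw [← h, mul_inv_cancel_right, eq_inv_iff_mul_eq_one, ← pow_two] at hyx
      have := Nat.le_of_dvd two_pos (orderOf_dvd_of_pow_eq_one hyx)
      omega
    · exact h
  set Q := Subgroup.closure ({x, y} : Set G) with hQ
  set C := Subgroup.centralizer (Q : Set G) with hC
  have hxQ : x ∈ Q := Subgroup.subset_closure (Or.inl rfl)
  have hyQ : y ∈ Q := Subgroup.subset_closure (Or.inr rfl)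
  have hCmem : ∀ g : G, g * x * g⁻¹ = x → g * y * g⁻¹ = y → g ∈ C := by
    intro g h1 h2
    rw [hC, hQ, Subgroup.centralizer_closure]
    intro z hz
    rcases hz with rfl | rfl
    · exact (mul_inv_eq_iff_eq_mul.mp h1).symm
    · exact (mul_inv_eq_iff_eq_mul.mp h2).symm
  have hxx : x * x * x⁻¹ = x := by group
  have hyy' : y * y * y⁻¹ = y := by group
  have hconj : ∀ (a g z : G), (a * g) * z * (a * g)⁻¹ = a * (g * z * g⁻¹) * a⁻¹ := fun a g z => by group
  have hQC : ∀ g : G, g ∈ Q ⊔ C := by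
    intro g
    have hfin : ∀ a ∈ Q, a * g ∈ C → g ∈ Q ⊔ C := fun a ha h => by
      simpa using Subgroup.mul_mem_sup (Q.inv_mem ha) h
    have hinv : ∀ a z : G, a * z * a⁻¹ = z⁻¹ → a * z⁻¹ * a⁻¹ = z := fun a z h => by
      rw [← conj_inv, h, inv_inv]
    have hfix : ∀ a z : G, a * z * a⁻¹ = z → a * z⁻¹ * a⁻¹ = z⁻¹ := fun a z h => by rw [← conj_inv, h]
    rcases hxi g with h1 | h1 <;> rcases hyi g with h2 | h2
    · exact Subgroup.mem_sup_right (hCmem g h1 h2)
    · refine hfin x hxQ (hCmem _ ?_ ?_) <;> rw [hconj]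
      · rw [h1, hxx]
      · rw [h2, hinv x y hxy]
    · refine hfin y hyQ (hCmem _ ?_ ?_) <;> rw [hconj]
      · rw [h1, hinv y x hyx]
      · rw [h2, hyy']
    · refine hfin (y * x) (Q.mul_mem hyQ hxQ) (hCmem _ ?_ ?_) <;> rw [hconj, h1] at * <;> rw [hconj]
      · rw [hfix x x hxx, hinv y x hyx]
      · rw [h2, hinv x y hxy, hyy']
  -- no elements of order four in `C`
  have hC4 : ∀ z ∈ C, orderOf z ≠ 4 := by
    intro z hz hz4
    have hzx : Commute z x := (hz x hxQ).symm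
    have hzy : Commute z y := (hz y hyQ).symm
    obtain ⟨k, hk⟩ := CfsgLib.Hamiltonian.conj_mem_zpowers hn (x * z) y
    simp only at hk
    have h1 : y * (x * z) * y⁻¹ = x⁻¹ * z := by
      rw [← mul_assoc, mul_assoc (y * x), hzy.inv_right.eq, ← mul_assoc, hyx]
    rw [h1, (hzx.symm.mul_zpow k)] at hk
    -- `z ^ (k-1)` lies in `zpowers x`
    have h2 : z ^ (k - 1) = (x ^ (k + 1))⁻¹ := by
      rw [eq_inv_iff_mul_eq_one]
      calc z ^ (k - 1) * x ^ (k + 1) = x * ((x ^ k * z ^ k) * z⁻¹) := by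
            rw [(hzx.zpow_zpow (k - 1) (k + 1)).eq, zpow_add_one, zpow_sub_one, ← mul_assoc, ← mul_assoc, ← mul_assoc]
            rw [((Commute.refl x).zpow_left k).eq]
        _ = 1 := by rw [hk, mul_inv_cancel_right, mul_inv_cancel]
    have h3 : z ^ (k - 1) ∈ C := C.zpow_mem hz _
    rw [h2] at h3
    have h4 : Commute (x ^ (k + 1)) y := Commute.inv_left_iff.mp (h3 y hyQ).symm
    have hk1 : (2 : ℤ) ∣ k + 1 := by
      rcases Int.emod_two_eq_zero_or_one (k + 1) with h | h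
      · exact Int.dvd_of_emod_eq_zero h
      · exfalso
        obtain ⟨a, ha⟩ : ∃ a, k + 1 = 2 * a + 1 := ⟨(k + 1) / 2, by omega⟩
        have h5 : Commute (x ^ (2 * a)) y := by
          rw [zpow_mul]
          refine Commute.zpow_left ?_ a
          rw [show x ^ (2 : ℤ) = x ^ 2 by norm_cast, ← hyy]
          exact (Commute.refl y).mul_left (Commute.refl y)
        have h6 : Commute x y := by
          have := h5.inv_left.mul_left h4
          rwa [ha, zpow_add_one, inv_mul_cancel_left] at this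
        rw [h6.eq, mul_inv_cancel_right, eq_inv_iff_mul_eq_one, ← pow_two] at hxy
        have := Nat.le_of_dvd two_pos (orderOf_dvd_of_pow_eq_one hxy)
        omega
    -- raise to the fourth part: then `k ≡ 1` and `k ≡ -1` modulo `4`
    have h7 : (4 : ℤ) ∣ k - 1 ∨ (4 : ℤ) ∣ k + 1 := by omega
    rcases h7 with h | h
    · obtain ⟨a, ha⟩ := h
      rw [ha, zpow_mul, show z ^ (4 : ℤ) = 1 by
        rw [show (4 : ℤ) = ((4 : ℕ) : ℤ) from rfl, zpow_natCast, ← hz4, pow_orderOf_eq_one], one_zpow, eq_comm, inv_eq_one,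
        show k + 1 = 4 * a + 2 by omega, zpow_add, zpow_mul, show x ^ (4 : ℤ) = 1 by
        rw [show (4 : ℤ) = ((4 : ℕ) : ℤ) from rfl, zpow_natCast, ← hx4, pow_orderOf_eq_one], one_zpow, one_mul] at h2
      have : x ^ 2 = 1 := by exact_mod_cast h2
      have := Nat.le_of_dvd two_pos (orderOf_dvd_of_pow_eq_one this)
      omega
    · obtain ⟨a, ha⟩ := h
      rw [ha, zpow_mul, show x ^ (4 : ℤ) = 1 by
        rw [show (4 : ℤ) = ((4 : ℕ) : ℤ) from rfl, zpow_natCast, ← hx4, pow_orderOf_eq_one], one_zpow, inv_one,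
        show k - 1 = 4 * (a - 1) + 2 by omega, zpow_add, zpow_mul, show z ^ (4 : ℤ) = 1 by
        rw [show (4 : ℤ) = ((4 : ℕ) : ℤ) from rfl, zpow_natCast, ← hz4, pow_orderOf_eq_one], one_zpow, one_mul] at h2
      have : z ^ 2 = 1 := by exact_mod_cast h2
      have := Nat.le_of_dvd two_pos (orderOf_dvd_of_pow_eq_one this)
      omega
  have hCdiv : ∀ z ∈ C, ¬ 4 ∣ orderOf z := by
    intro z hz h
    obtain ⟨m, hm⟩ := h
    refine hC4 (z ^ m) (C.pow_mem hz m) ?_
    rw [orderOf_pow, hm, Nat.gcd_eq_right (Dvd.intro_left 4 rfl), Nat.mul_div_cancel _ (Nat.pos_of_ne_zero fun e => by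
      have := orderOf_pos z; rw [hm, e, mul_zero] at this; omega)]
  -- hence `C` is abelian
  have hinvC : ∀ z : G, z ^ 2 = 1 → ∀ g : G, Commute z g := by
    intro z hz g
    obtain ⟨k, hk⟩ := CfsgLib.Hamiltonian.conj_mem_zpowers hn z g
    simp only at hk
    rcases Int.even_or_odd k with ⟨a, rfl⟩ | ⟨a, rfl⟩
    · rw [← two_mul, zpow_mul, show z ^ (2 : ℤ) = 1 by exact_mod_cast hz, one_zpow, eq_comm, conj_eq_one_iff] at hk
      rw [hk]; exact Commute.one_left g
    · rw [zpow_add, zpow_mul, show z ^ (2 : ℤ) = 1 by exact_mod_cast hz, one_zpow, one_mul, zpow_one, eq_mul_inv_iff_mul_eq] at hk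
      exact hk
  have hCc : IsMulCommutative C := by
    refine ⟨⟨fun g k => ?_⟩⟩
    have hnC : ∀ H : Subgroup C, H.Normal := fun H => by
      have h1 := (hn (H.map C.subtype)).comap C.subtype
      rwa [Subgroup.comap_map_eq_self_of_injective C.subtype_injective] at h1
    refine CfsgLib.Hamiltonian.commute_of_prime_power hnC (fun p hp a b ha hb => ?_) g k
    have := Fact.mk hp
    by_contra hab
    obtain ⟨-, x', -, hx', -⟩ := CfsgLib.Hamiltonian.exists_minimal_pair hnC ha hb hab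
    exact hC4 x' x'.2 (by rw [Subgroup.orderOf_coe, hx'])
  have hcomm : ∀ a ∈ C, ∀ b ∈ C, a * b = b * a := fun a ha b hb =>
    congrArg Subtype.val (hCc.is_comm.comm ⟨a, ha⟩ ⟨b, hb⟩)
  let A : Subgroup G :=
    { carrier := {z | z ∈ C ∧ Odd (orderOf z)}
      one_mem' := ⟨C.one_mem, by rw [orderOf_one]; exact odd_one⟩
      mul_mem' := fun {a b} ha hb => ⟨C.mul_mem ha.1 hb.1, Odd.of_dvd_nat (ha.2.mul hb.2)
        ((show Commute a b from hcomm a ha.1 b hb.1).orderOf_mul_dvd_mul_orderOf)⟩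
      inv_mem' := fun {a} ha => ⟨C.inv_mem ha.1, by rw [orderOf_inv]; exact ha.2⟩ }
  let E₀ : Subgroup C :=
    { carrier := {z | z ^ 2 = 1}
      one_mem' := one_pow 2
      mul_mem' := fun {a b} (ha : a ^ 2 = 1) (hb : b ^ 2 = 1) => by
        show (a * b) ^ 2 = 1
        rw [(show Commute a b from hCc.is_comm.comm a b).mul_pow, ha, hb, one_mul]
      inv_mem' := fun {a} (ha : a ^ 2 = 1) => by show a⁻¹ ^ 2 = 1; rw [inv_pow, ha, inv_one] }
  have hcC : x ^ 2 ∈ C := fun q _ => ((hinvC (x ^ 2) (by rw [← pow_mul, show 2 * 2 = 4 from rfl, ← hx4, pow_orderOf_eq_one]) q).eq).symm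
  have hE₀c : IsMulCommutative E₀ := ⟨⟨fun a b => Subtype.ext (hCc.is_comm.comm _ _)⟩⟩
  letI : CommGroup E₀ := { (inferInstance : Group E₀) with mul_comm := hE₀c.is_comm.comm }
  have hcE : (⟨x ^ 2, hcC⟩ : C) ∈ E₀ := Subtype.ext (by
    show (x ^ 2) ^ 2 = 1
    rw [← pow_mul, show 2 * 2 = 4 from rfl, ← hx4, pow_orderOf_eq_one])
  obtain ⟨K, hK1, hK2⟩ := CfsgLib.exists_complement_of_exponent (p := 2) (fun e : E₀ => Subtype.ext e.2)
    (Subgroup.zpowers (⟨⟨x ^ 2, hcC⟩, hcE⟩ : E₀))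
  let ι : E₀ →* G := C.subtype.comp E₀.subtype
  have hι : Function.Injective ι := fun a b h => Subtype.ext (Subtype.ext h)
  set E := K.map ι with hE
  have hhom := CfsgLib.Quat.hom_range (a := x) (b := y) (n := 2)
    (show x ^ (2 * 2) = 1 by rw [show 2 * 2 = 4 from rfl, ← hx4, pow_orderOf_eq_one]) hyy hyx
  have hinj := CfsgLib.Quat.hom_injective (a := x) (b := y) (n := 2)
    (show x ^ (2 * 2) = 1 by rw [show 2 * 2 = 4 from rfl, ← hx4, pow_orderOf_eq_one]) hyy hyx hx4 hynx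
  have hEC : E ≤ C := by rintro _ ⟨e, -, rfl⟩; exact (e : C).2
  have hAC : A ≤ C := fun a ha => ha.1
  have hEodd : ∀ e ∈ E, e ^ 2 = 1 := by
    rintro _ ⟨e, -, rfl⟩
    exact congrArg Subtype.val e.2
  have hEA : E ⊓ A = ⊥ := by
    rw [Subgroup.eq_bot_iff_forall]
    rintro z ⟨hz, hz'⟩
    rw [← orderOf_eq_one_iff]
    exact Nat.eq_one_of_dvd_coprimes (Nat.coprime_two_left.mpr hz'.2) (orderOf_dvd_of_pow_eq_one (hEodd z hz)) dvd_rfl
  refine ⟨Q, E, A, ⟨((MonoidHom.ofInjective hinj).trans (MulEquiv.subgroupCongr hhom)).symm⟩, ⟨?_, hEodd⟩, ?_, ?_, hEA, ?_, ?_⟩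
  · exact ⟨⟨fun a b => Subtype.ext (hcomm _ (hEC a.2) _ (hEC b.2))⟩⟩
  · exact ⟨⟨fun a b => Subtype.ext (hcomm _ (hAC a.2) _ (hAC b.2))⟩⟩
  · by_contra h
    rw [Nat.not_odd_iff_even, even_iff_two_dvd] at h
    obtain ⟨a, ha⟩ := exists_prime_orderOf_dvd_card' 2 h
    rw [← Subgroup.orderOf_coe] at ha
    have := a.2.2
    rw [ha] at this
    exact absurd this (by decide)
  · -- the quaternion group meets `E A` trivially
    rw [Subgroup.eq_bot_iff_forall]
    rintro z ⟨hzQ, hzEA⟩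
    obtain ⟨e, he, a, ha, rfl⟩ : ∃ e ∈ E, ∃ a ∈ A, e * a = z := by
      have := hn A
      exact Subgroup.mem_sup_of_normal_right.mp hzEA
    have hzC : e * a ∈ C := C.mul_mem (hEC he) (hAC ha)
    -- `Q` has exponent four
    obtain ⟨q, hq⟩ : ∃ q, CfsgLib.Quat.hom x y _ hyy hyx q = e * a := MonoidHom.mem_range.mp (hhom.ge hzQ)
    have h8 : (e * a) ^ 4 = 1 := by
      have hq4 : ∀ q : QuaternionGroup 2, q ^ 4 = 1 := by decide
      rw [← hq, ← map_pow, hq4, map_one]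
    have h9 : a = 1 := by
      rw [(show Commute e a from hcomm e (hEC he) a (hAC ha)).mul_pow, show e ^ 4 = (e ^ 2) ^ 2 by rw [← pow_mul],
        hEodd e he, one_pow, one_mul] at h8
      rw [← orderOf_eq_one_iff]
      exact Nat.eq_one_of_dvd_coprimes (show (2 ^ 2).Coprime (orderOf a) from (Nat.coprime_two_left.mpr ha.2).pow_left 2)
        (orderOf_dvd_of_pow_eq_one h8) dvd_rfl
    subst h9
    rw [mul_one] at hzQ hq ⊢
    obtain ⟨e, heK, rfl⟩ := he
    -- a central involution of `Q` is `x ^ 2`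
    have h10 : q = 1 ∨ q = QuaternionGroup.a 2 := by
      have hkey : ∀ q : QuaternionGroup 2, q ^ 2 = 1 → q = 1 ∨ q = QuaternionGroup.a 2 := by decide
      refine hkey q (hinj ?_)
      rw [map_pow, hq, map_one]
      exact hEodd _ ⟨e, heK, rfl⟩
    rcases h10 with rfl | rfl
    · rw [map_one] at hq; exact hq.symm
    · have h11 : e = (⟨⟨x ^ 2, hcC⟩, hcE⟩ : E₀) := hι (hq.symm.trans (by
        show CfsgLib.Quat.powMap x 2 _ = x ^ 2
        rw [show (2 : ZMod (2 * 2)) = ((2 : ℤ) : ZMod (2 * 2)) from rfl,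
          CfsgLib.Quat.powMap_intCast (show x ^ (2 * 2) = 1 by rw [show 2 * 2 = 4 from rfl, ← hx4, pow_orderOf_eq_one])]
        norm_cast))
      have h12 : e ∈ Subgroup.zpowers (⟨⟨x ^ 2, hcC⟩, hcE⟩ : E₀) ⊓ K := ⟨h11 ▸ Subgroup.mem_zpowers _, heK⟩
      rw [hK1, Subgroup.mem_bot] at h12
      rw [h12, map_one]
  · rw [eq_top_iff]
    intro g _
    refine (sup_le le_sup_left ?_ : Q ⊔ C ≤ Q ⊔ (E ⊔ A)) (hQC g)
    intro z hz
    -- split `z` into its parts
    obtain ⟨m, hm, hmodd⟩ : ∃ m, (z ^ 2) ^ m = 1 ∧ Odd m := by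
      refine ⟨orderOf (z ^ 2), pow_orderOf_eq_one _, ?_⟩
      by_contra h
      rw [Nat.not_odd_iff_even, even_iff_two_dvd, orderOf_pow] at h
      refine hCdiv z hz ?_
      have hd : orderOf z / Nat.gcd (orderOf z) 2 * Nat.gcd (orderOf z) 2 = orderOf z := Nat.div_mul_cancel (Nat.gcd_dvd_left _ _)
      by_cases h2 : 2 ∣ orderOf z
      · rw [Nat.gcd_eq_right h2] at hd h
        obtain ⟨r, hr⟩ := h
        exact ⟨r, by omega⟩
      · exfalso
        rw [Nat.coprime_iff_gcd_eq_one.mp ((Nat.prime_two.coprime_iff_not_dvd.mpr h2).symm), Nat.div_one] at h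
        exact h2 h
    obtain ⟨r, rfl⟩ := hmodd
    have hz0 : z ^ (2 * r + 1) ∈ C := C.pow_mem hz _
    have hz0' : (⟨z ^ (2 * r + 1), hz0⟩ : C) ∈ E₀ := Subtype.ext (by
      show (z ^ (2 * r + 1)) ^ 2 = 1
      rw [← pow_mul, mul_comm, pow_mul, hm])
    have hz1 : z ^ (2 * r) ∈ A := ⟨C.pow_mem hz _, by
      refine Odd.of_dvd_nat (odd_two_mul_add_one r) (orderOf_dvd_of_pow_eq_one ?_)
      rw [← pow_mul, show 2 * r * (2 * r + 1) = 2 * (2 * r + 1) * r by ring, pow_mul, pow_mul, hm, one_pow]⟩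
    have h13 : z = z ^ (2 * r + 1) * (z ^ (2 * r))⁻¹ := by rw [pow_succ', mul_inv_cancel_right]
    rw [h13]
    refine (Q ⊔ (E ⊔ A)).mul_mem ?_ ((Q ⊔ (E ⊔ A)).inv_mem (Subgroup.mem_sup_right (Subgroup.mem_sup_right hz1)))
    obtain ⟨u, hu, v, hv, huv⟩ := Subgroup.mem_sup.mp (hK2.ge (Subgroup.mem_top (⟨⟨_, hz0⟩, hz0'⟩ : E₀)))
    have h14 : z ^ (2 * r + 1) = ι u * ι v := by rw [← map_mul, huv]; rfl
    rw [h14]
    refine (Q ⊔ (E ⊔ A)).mul_mem (Subgroup.mem_sup_left ?_) (Subgroup.mem_sup_right (Subgroup.mem_sup_left ⟨v, hv, rfl⟩))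
    obtain ⟨k, rfl⟩ := hu
    rw [map_zpow]
    exact Q.zpow_mem (Q.pow_mem hxQ 2) k

end Cfsg.Agent.S4211
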