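import Cfsg.Statements.S4212
import Mathlib
import Cfsg.Agent.Lib.SolutionCount
-- import your own Cfsg.Agent.* helpers here

set_option autoImplicit false
open Cfsg

namespace Cfsg.Agent.S4212

universe u

theorem fibre_dvd {H : Type u} [Group H] [Finite H] {q : ℕ} [Fact q.Prime] {k A n : ℕ} (hk : q ^ k ∣ n) (hn : n ≠ 0)
    {d : H} (hd : d ≠ 1) : q ^ k ∣ Nat.card {u : H // u ^ q ^ A = 1 ∧ u ^ n = d} := by
  classical
  have hq : q.Prime := Fact.out
  have := Fintype.ofFinite H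
  obtain ⟨v, n', hn', hnv⟩ := Nat.exists_eq_pow_mul_and_not_dvd hn q hq.ne_one
  have hkv : k ≤ v := by
    have h1 := (Nat.Coprime.pow_left k ((Nat.Prime.coprime_iff_not_dvd hq).mpr hn')).dvd_of_dvd_mul_right (hnv ▸ hk)
    exact (Nat.pow_dvd_pow_iff_le_right hq.one_lt).mp h1
  -- the order of a solution
  have hord : ∀ u : H, u ^ q ^ A = 1 → u ^ n = d → orderOf u = q ^ v * orderOf d := by
    intro u h1 h2
    obtain ⟨t, -, ht⟩ := (Nat.dvd_prime_pow hq).mp (orderOf_dvd_of_pow_eq_one h1)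
    have hvt : v < t := by
      by_contra hle
      refine hd (h2.symm.trans ?_)
      rw [← orderOf_dvd_iff_pow_eq_one, ht, hnv]
      exact (pow_dvd_pow q (by omega)).trans (dvd_mul_right _ _)
    have e : orderOf d = q ^ (t - v) := by
      rw [← h2, orderOf_pow' u hn, ht, hnv]
      have hg : Nat.gcd (q ^ t) (q ^ v * n') = q ^ v := by
        rw [Nat.Coprime.gcd_mul_right_cancel_right _ ((Nat.Coprime.pow_left t ((Nat.Prime.coprime_iff_not_dvd hq).mpr hn'))).symm]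
        exact Nat.gcd_eq_right (pow_dvd_pow q hvt.le)
      rw [hg, Nat.pow_div hvt.le hq.pos]
    rw [ht, e, ← pow_add, Nat.add_sub_cancel' hvt.le]
  rw [Nat.card_eq_fintype_card, Fintype.card_subtype, Finset.card_eq_sum_card_image (fun u : H => Subgroup.zpowers u)]
  refine Finset.dvd_sum fun Z hZ => ?_
  obtain ⟨u, hu, rfl⟩ := Finset.mem_image.mp hZ
  simp only [Finset.mem_filter, Finset.mem_univ, true_and] at hu
  have hsame : ∀ y ∈ Subgroup.zpowers u, y ^ n = d → Subgroup.zpowers y = Subgroup.zpowers u ∧ y ^ q ^ A = 1 := by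
    intro y hy hyn
    have hyA : y ^ q ^ A = 1 := by
      obtain ⟨i, rfl⟩ := Subgroup.mem_zpowers_iff.mp hy
      rw [← zpow_natCast, ← zpow_mul, mul_comm, zpow_mul, zpow_natCast, hu.1, one_zpow]
    refine ⟨Subgroup.eq_of_le_of_card_ge (Subgroup.zpowers_le.mpr hy) ?_, hyA⟩
    rw [Nat.card_zpowers, Nat.card_zpowers, hord u hu.1 hu.2, hord y hyA hyn]
  have e : ((Finset.univ.filter fun y : H => y ^ q ^ A = 1 ∧ y ^ n = d).filter fun y => Subgroup.zpowers y = Subgroup.zpowers u).card =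
      Nat.card {z : Subgroup.zpowers u // z ^ n = 1} := by
    rw [Finset.filter_filter, ← Fintype.card_subtype, ← Nat.card_eq_fintype_card]
    have hpow : ∀ z : Subgroup.zpowers u, (u * (z : H)) ^ n = u ^ n * ((z ^ n : Subgroup.zpowers u) : H) := fun z => by
      have hc : Commute u (z : H) := by
        obtain ⟨i, hi⟩ := Subgroup.mem_zpowers_iff.mp z.2
        rw [← hi]; exact Commute.self_zpow u i
      rw [hc.mul_pow, SubgroupClass.coe_pow]
    exact Nat.card_congr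
      { toFun := fun y => ⟨⟨u⁻¹ * y.1, Subgroup.mul_mem _ (Subgroup.inv_mem _ (Subgroup.mem_zpowers u)) (y.2.2.le (Subgroup.mem_zpowers y.1))⟩, by
          refine Subtype.ext ?_
          have h := hpow ⟨u⁻¹ * y.1, Subgroup.mul_mem _ (Subgroup.inv_mem _ (Subgroup.mem_zpowers u)) (y.2.2.le (Subgroup.mem_zpowers y.1))⟩
          rw [mul_inv_cancel_left] at h
          exact mul_eq_left.mp (h.symm.trans (y.2.1.2.trans hu.2.symm))⟩
        invFun := fun z => ⟨u * (z.1 : H), by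
          have h1 : u * (z.1 : H) ∈ Subgroup.zpowers u := Subgroup.mul_mem _ (Subgroup.mem_zpowers u) z.1.2
          have h2 : (u * (z.1 : H)) ^ n = d := by rw [hpow, z.2, OneMemClass.coe_one, mul_one, hu.2]
          exact ⟨⟨(hsame _ h1 h2).2, h2⟩, (hsame _ h1 h2).1⟩⟩
        left_inv := fun y => Subtype.ext (mul_inv_cancel_left u y.1)
        right_inv := fun z => Subtype.ext (Subtype.ext (inv_mul_cancel_left u (z.1 : H))) }
  rw [e]
  refine dvd_trans ?_ (CfsgLib.frobenius_solutions (G := Subgroup.zpowers u) n)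
  rw [Nat.card_zpowers, hord u hu.1 hu.2]
  exact Nat.dvd_gcd hk ((pow_dvd_pow q hkv).trans (dvd_mul_right _ _))

theorem central_case {H : Type u} [Group H] [Finite H] {c : H} (hc : ∀ z : H, Commute z c) (n : ℕ) :
    Nat.gcd n (Nat.card H) ∣ Nat.card {x : H // x ^ n = c} := by
  classical
  have := Fintype.ofFinite H
  rcases Nat.eq_zero_or_pos n with rfl | hn
  · rw [Nat.gcd_zero_left]
    by_cases h : (1 : H) = c
    · rw [Nat.card_congr (Equiv.subtypeUnivEquiv fun x : H => (pow_zero x).trans h)]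
    · have : IsEmpty {x : H // x ^ 0 = c} := ⟨fun x => h ((pow_zero x.1).symm.trans x.2)⟩
      rw [Nat.card_eq_zero.mpr (Or.inl this)]
      exact dvd_zero _
  refine (Nat.dvd_iff_prime_pow_dvd_dvd _ _).mpr fun q k hq hk => ?_
  have := Fact.mk hq
  have hkn : q ^ k ∣ n := hk.trans (Nat.gcd_dvd_left _ _)
  have hkH : q ^ k ∣ Nat.card H := hk.trans (Nat.gcd_dvd_right _ _)
  obtain ⟨A, M, hM, hHM⟩ := Nat.exists_eq_pow_mul_and_not_dvd (Nat.card_pos (α := H)).ne' q hq.ne_one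
  have hcop : (q ^ A).Coprime M := Nat.Coprime.pow_left A ((Nat.Prime.coprime_iff_not_dvd hq).mpr hM)
  obtain ⟨e₁, he₁a, he₁s⟩ := Nat.chineseRemainder hcop 1 0
  obtain ⟨e₂, he₂a, he₂s⟩ := Nat.chineseRemainder hcop 0 1
  have hall : ∀ x : H, x ^ (q ^ A * M) = 1 := fun x => hHM ▸ pow_card_eq_one'
  have hsum : ∀ x : H, x ^ e₁ * x ^ e₂ = x := fun x => by
    rw [← pow_add, pow_eq_pow_mod _ (hall x),
      show (e₁ + e₂) % (q ^ A * M) = 1 % (q ^ A * M) from (Nat.modEq_and_modEq_iff_modEq_mul hcop).mp ⟨he₁a.add he₂a, he₁s.add he₂s⟩,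
      ← pow_eq_pow_mod 1 (hall x), pow_one]
  have hA : ∀ x : H, (x ^ e₁) ^ q ^ A = 1 := fun x => by
    obtain ⟨t, ht⟩ := Nat.modEq_zero_iff_dvd.mp he₁s
    rw [← pow_mul, ht, show M * t * q ^ A = q ^ A * M * t by ring, pow_mul, hall, one_pow]
  have hMx : ∀ x : H, (x ^ e₂) ^ M = 1 := fun x => by
    obtain ⟨t, ht⟩ := Nat.modEq_zero_iff_dvd.mp he₂a
    rw [← pow_mul, ht, show q ^ A * t * M = q ^ A * M * t by ring, pow_mul, hall, one_pow]
  let F : H → ℕ := fun w => Nat.card {u : Subgroup.centralizer ({w} : Set H) // (u : H) ^ q ^ A = 1 ∧ (u : H) ^ n = c ^ e₁}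
  let W : Finset H := Finset.univ.filter fun w => w ^ M = 1 ∧ w ^ n = c ^ e₂
  have hsplit : Nat.card {x : H // x ^ n = c} = ∑ w ∈ W, F w := by
    rw [Finset.sum_subtype W (p := fun w => w ^ M = 1 ∧ w ^ n = c ^ e₂) (fun w => by simp [W]), ← Nat.card_sigma]
    refine Nat.card_congr (Equiv.ofBijective (fun x => ⟨⟨x.1 ^ e₂, hMx _, by rw [← pow_mul, mul_comm, pow_mul, x.2]⟩,
      ⟨⟨x.1 ^ e₁, Subgroup.mem_centralizer_singleton_iff.mpr (Commute.pow_pow_self x.1 e₁ e₂).eq⟩,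
        hA _, by show (x.1 ^ e₁) ^ n = _; rw [← pow_mul, mul_comm, pow_mul, x.2]⟩⟩) ⟨?_, ?_⟩)
    · intro x y h
      have h1 : x.1 ^ e₂ = y.1 ^ e₂ := congrArg (fun t : Σ w : {w : H // w ^ M = 1 ∧ w ^ n = c ^ e₂}, {u : Subgroup.centralizer ({w.1} : Set H) // (u : H) ^ q ^ A = 1 ∧ (u : H) ^ n = c ^ e₁} => t.1.1) h
      have h2 : x.1 ^ e₁ = y.1 ^ e₁ := congrArg (fun t : Σ w : {w : H // w ^ M = 1 ∧ w ^ n = c ^ e₂}, {u : Subgroup.centralizer ({w.1} : Set H) // (u : H) ^ q ^ A = 1 ∧ (u : H) ^ n = c ^ e₁} => (t.2.1 : H)) h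
      exact Subtype.ext (by rw [← hsum x.1, ← hsum y.1, h1, h2])
    · rintro ⟨⟨w, hwM, hwn⟩, ⟨⟨u, huw⟩, huA, hun⟩⟩
      have hcomm : Commute u w := Subgroup.mem_centralizer_singleton_iff.mp huw
      have hex : (u * w) ^ n = c := by rw [hcomm.mul_pow, hun, hwn, hsum]
      have p2 : (u * w) ^ e₂ = w := by
        rw [hcomm.mul_pow, pow_eq_pow_mod e₂ huA, pow_eq_pow_mod e₂ hwM, he₂a, he₂s, ← pow_eq_pow_mod 0 huA,
          ← pow_eq_pow_mod 1 hwM, pow_one, pow_zero, one_mul]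
      have p1 : (u * w) ^ e₁ = u := by
        rw [hcomm.mul_pow, pow_eq_pow_mod e₁ huA, pow_eq_pow_mod e₁ hwM, he₁a, he₁s, ← pow_eq_pow_mod 1 huA,
          ← pow_eq_pow_mod 0 hwM, pow_one, pow_zero, mul_one]
      refine ⟨⟨u * w, hex⟩, ?_⟩
      have key : ∀ z t : (Σ w : {w : H // w ^ M = 1 ∧ w ^ n = c ^ e₂}, {u : Subgroup.centralizer ({w.1} : Set H) // (u : H) ^ q ^ A = 1 ∧ (u : H) ^ n = c ^ e₁}),
          z.1.1 = t.1.1 → (z.2.1 : H) = (t.2.1 : H) → z = t := by
        rintro ⟨⟨a, _⟩, ⟨⟨b, _⟩, _⟩⟩ ⟨⟨a', _⟩, ⟨⟨b', _⟩, _⟩⟩ h1 h2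
        dsimp only at h1 h2
        subst h1 h2
        rfl
      exact key _ _ p2 p1
  rw [hsplit]
  have hcpow : ∀ (g : H) (e : ℕ), g * c ^ e * g⁻¹ = c ^ e := fun g e => by
    rw [((hc g).pow_right e).eq, mul_inv_cancel_right]
  refine CfsgLib.dvd_sum_class_invariant W F (fun g w hw => ?_) (fun g w => ?_) fun w hw => ?_
  · simp only [W, Finset.mem_filter, Finset.mem_univ, true_and] at hw ⊢
    exact ⟨by rw [conj_pow, hw.1, mul_one, mul_inv_cancel], by rw [conj_pow, hw.2, hcpow]⟩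
  · refine (Nat.card_congr ?_).symm
    have hm : ∀ u : H, u ∈ Subgroup.centralizer ({w} : Set H) → g * u * g⁻¹ ∈ Subgroup.centralizer ({g * w * g⁻¹} : Set H) := fun u hu => by
      rw [Subgroup.mem_centralizer_singleton_iff] at hu ⊢
      calc g * u * g⁻¹ * (g * w * g⁻¹) = g * (u * w) * g⁻¹ := by group
        _ = g * w * g⁻¹ * (g * u * g⁻¹) := by rw [hu]; group
    refine (Equiv.ofBijective (fun u => ⟨⟨g * (u.1 : H) * g⁻¹, hm _ u.1.2⟩,
      by show (g * (u.1 : H) * g⁻¹) ^ q ^ A = 1; rw [conj_pow, u.2.1, mul_one, mul_inv_cancel],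
      by show (g * (u.1 : H) * g⁻¹) ^ n = _; rw [conj_pow, u.2.2, hcpow]⟩) ⟨?_, ?_⟩)
    · intro a b h
      have h1 : g * (a.1 : H) * g⁻¹ = g * (b.1 : H) * g⁻¹ := congrArg (fun t : {u : Subgroup.centralizer ({g * w * g⁻¹} : Set H) // (u : H) ^ q ^ A = 1 ∧ (u : H) ^ n = c ^ e₁} => (t.1 : H)) h
      exact Subtype.ext (Subtype.ext (mul_left_cancel (mul_right_cancel h1)))
    · rintro ⟨⟨z, hz⟩, hz1, hz2⟩
      have hz' : g⁻¹ * z * g ∈ Subgroup.centralizer ({w} : Set H) := by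
        rw [Subgroup.mem_centralizer_singleton_iff] at hz ⊢
        calc g⁻¹ * z * g * w = g⁻¹ * (z * (g * w * g⁻¹)) * g := by group
          _ = w * (g⁻¹ * z * g) := by rw [hz]; group
      refine ⟨⟨⟨g⁻¹ * z * g, hz'⟩, ?_, ?_⟩, Subtype.ext (Subtype.ext (by show g * (g⁻¹ * z * g) * g⁻¹ = z; group))⟩
      · have e : (g⁻¹ * z * g⁻¹⁻¹) ^ q ^ A = g⁻¹ * z ^ q ^ A * g⁻¹⁻¹ := conj_pow
        rw [inv_inv] at e
        show (g⁻¹ * z * g) ^ q ^ A = 1
        rw [e, show z ^ q ^ A = 1 from hz1]; group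
      · have e : (g⁻¹ * z * g⁻¹⁻¹) ^ n = g⁻¹ * z ^ n * g⁻¹⁻¹ := conj_pow
        rw [inv_inv] at e
        show (g⁻¹ * z * g) ^ n = _
        rw [e, show z ^ n = c ^ e₁ from hz2]
        have := hcpow g⁻¹ e₁
        rwa [inv_inv] at this
  · set L := Subgroup.centralizer ({w} : Set H) with hL
    by_cases hd : c ^ e₁ = 1
    · have hF : F w = Nat.card {u : L // u ^ Nat.gcd (q ^ A) n = 1} := by
        refine Nat.card_congr (Equiv.subtypeEquivRight fun u => ?_)
        rw [← OneMemClass.coe_eq_one (x := u ^ Nat.gcd (q ^ A) n)]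
        rw [SubgroupClass.coe_pow, hd, pow_gcd_eq_one]
      rw [hF]
      refine dvd_trans ?_ (Nat.mul_dvd_mul_left _ (CfsgLib.frobenius_solutions (G := L) _))
      rw [← Nat.gcd_mul_left, L.index_mul_card]
      refine Nat.dvd_gcd (Dvd.dvd.mul_left (Nat.dvd_gcd ?_ hkn) _) hkH
      rw [hHM] at hkH
      exact (Nat.Coprime.pow_left k ((Nat.Prime.coprime_iff_not_dvd hq).mpr hM)).dvd_of_dvd_mul_right hkH
    · refine Dvd.dvd.mul_left ?_ _
      by_cases hex : ∃ d : L, (d : H) = c ^ e₁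
      · obtain ⟨d, hd'⟩ := hex
        have hF : F w = Nat.card {u : L // u ^ q ^ A = 1 ∧ u ^ n = d} := by
          refine Nat.card_congr (Equiv.subtypeEquivRight fun u => ?_)
          rw [← hd', ← SubgroupClass.coe_pow, ← SubgroupClass.coe_pow, OneMemClass.coe_eq_one, Subtype.coe_inj]
        rw [hF]
        exact fibre_dvd hkn hn.ne' fun h => hd (hd' ▸ congrArg Subtype.val h)
      · exact absurd ⟨⟨c ^ e₁, Subgroup.mem_centralizer_singleton_iff.mpr (((hc w).pow_right e₁).eq).symm⟩, rfl⟩ hex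

/-- Let `G` be a finite group of order `g`, `c` an element whose conjugacy class has `h` elements, and `n` a natural number. Then the number of elements `x` of `G` with `x^n` conjugate to `c` is a multiple of `gcd(hn, g)`. -/
theorem result {G : Type*} [Group G] [Finite G] (c : G) (n : ℕ) : Nat.gcd (Nat.card {y : G // IsConj c y} * n) (Nat.card G) ∣ Nat.card {x : G // IsConj c (x ^ n)} := by
  classical
  have := Fintype.ofFinite G
  set C := Subgroup.centralizer ({c} : Set G) with hC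
  have hconj : ∀ y : {y : G // IsConj c y}, Nat.card {x : {x : G // IsConj c (x ^ n)} // x.1 ^ n = y.1} =
      Nat.card {x : G // x ^ n = c} := by
    rintro ⟨y, hy⟩
    obtain ⟨g, rfl⟩ := isConj_iff.mp hy
    refine (Nat.card_congr ?_).symm
    exact
      { toFun := fun x => ⟨⟨g * x.1 * g⁻¹, by rw [conj_pow, x.2]; exact isConj_iff.mpr ⟨g, rfl⟩⟩,
          by show (g * x.1 * g⁻¹) ^ n = _; rw [conj_pow, x.2]⟩
        invFun := fun z => ⟨g⁻¹ * z.1.1 * g, by
          have h := z.2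
          have e : (g⁻¹ * z.1.1 * g⁻¹⁻¹) ^ n = g⁻¹ * z.1.1 ^ n * g⁻¹⁻¹ := conj_pow
          rw [inv_inv] at e
          rw [e, h]; group⟩
        left_inv := fun x => Subtype.ext (by show g⁻¹ * (g * x.1 * g⁻¹) * g = x.1; group)
        right_inv := fun z => Subtype.ext (Subtype.ext (by show g * (g⁻¹ * z.1.1 * g) * g⁻¹ = z.1.1; group)) }
  have hcard : Nat.card {x : G // IsConj c (x ^ n)} = Nat.card {y : G // IsConj c y} * Nat.card {x : G // x ^ n = c} := by
    have e : Nat.card {x : G // IsConj c (x ^ n)} =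
        Nat.card (Σ y : {y : G // IsConj c y}, {x : {x : G // IsConj c (x ^ n)} // x.1 ^ n = y.1}) :=
      Nat.card_congr
        { toFun := fun x => ⟨⟨x.1 ^ n, x.2⟩, ⟨x, rfl⟩⟩
          invFun := fun z => z.2.1
          left_inv := fun x => rfl
          right_inv := fun z => by
            obtain ⟨⟨y, hy⟩, ⟨⟨x, hx⟩, hxy⟩⟩ := z
            obtain rfl : x ^ n = y := hxy
            rfl }
    rw [e, Nat.card_sigma, Finset.sum_congr rfl fun y _ => hconj y, Finset.sum_const, Finset.card_univ, smul_eq_mul,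
      ← Nat.card_eq_fintype_card]
  have hh : Nat.card {y : G // IsConj c y} * Nat.card C = Nat.card G := by
    have e : Nat.card {y : G // IsConj c y} = C.index := by
      rw [← CfsgLib.ncard_carrier_eq_index_centralizer, ← Nat.card_coe_set_eq]
      exact Nat.card_congr (Equiv.subtypeEquivRight fun y =>
        ⟨fun h => ConjClasses.mem_carrier_iff_mk_eq.mpr (ConjClasses.mk_eq_mk_iff_isConj.mpr h.symm),
          fun h => (ConjClasses.mk_eq_mk_iff_isConj.mp (ConjClasses.mem_carrier_iff_mk_eq.mp h)).symm⟩)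
    rw [e, C.index_mul_card]
  rw [hcard, ← hh, Nat.gcd_mul_left]
  refine Nat.mul_dvd_mul_left _ ?_
  have hcC : c ∈ C := Subgroup.mem_centralizer_singleton_iff.mpr rfl
  have hcz : ∀ z : C, Commute z ⟨c, hcC⟩ := fun z => Subtype.ext (Subgroup.mem_centralizer_singleton_iff.mp z.2)
  have e2 : Nat.card {x : G // x ^ n = c} = Nat.card {x : C // x ^ n = ⟨c, hcC⟩} :=
    Nat.card_congr
      { toFun := fun x => ⟨⟨x.1, Subgroup.mem_centralizer_singleton_iff.mpr (by have h := (Commute.self_pow x.1 n).eq; rwa [x.2] at h)⟩,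
          Subtype.ext x.2⟩
        invFun := fun x => ⟨x.1.1, by rw [← SubgroupClass.coe_pow, x.2]⟩
        left_inv := fun x => rfl
        right_inv := fun x => rfl }
  rw [e2]
  exact central_case hcz n

end Cfsg.Agent.S4212
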