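import Cfsg.Statements.S4213
import Mathlib
import Cfsg.Agent.Lib.SolutionCount
import Cfsg.Agent.Lib.Elementary
-- import your own Cfsg.Agent.* helpers here

set_option autoImplicit false
open Cfsg

namespace Cfsg.Agent.S4213

universe u

theorem aux : ∀ (m : ℕ) (G : Type u) [Group G] [Finite G], Nat.card G = m → Group.IsSolvable G →
    ∀ n : ℕ, n ∣ Nat.card G → Nat.card {x : G // x ^ n = 1} = n →
      ∃ H : Subgroup G, (H : Set G) = {x : G | x ^ n = 1} := by
  intro M
  induction M using Nat.strong_induction_on with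
  | _ M IH =>
  intro G _ _ hM hs n hn hcount
  subst hM
  classical
  rcases subsingleton_or_nontrivial G with hG | hG
  · exact ⟨⊤, Set.ext fun x => ⟨fun _ => Subsingleton.elim _ _, fun _ => trivial⟩⟩
  have hn0 : n ≠ 0 := fun e => Nat.card_pos.ne' (Nat.eq_zero_of_zero_dvd (e ▸ hn))
  obtain ⟨N, hNn, -, hNb, hNmin⟩ := CfsgLib.exists_minimal_normal (G := G) (N := ⊤) top_ne_bot
  have hNs : Group.IsSolvable N := inferInstance
  obtain ⟨-, p, hp, hexp⟩ := CfsgLib.minimal_normal_elementary hNb hNs hNmin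
  have := Fact.mk hp
  obtain ⟨a, ha⟩ := IsPGroup.iff_card.mp (show IsPGroup p N from fun x => ⟨1, by
    rw [pow_one]; exact Subtype.ext (by rw [SubgroupClass.coe_pow]; exact hexp _ x.2)⟩)
  have ha0 : a ≠ 0 := fun h => hNb (N.card_eq_one.mp (by rw [ha, h, pow_zero]))
  have hGQ : Nat.card G = Nat.card (G ⧸ N) * p ^ a := by rw [← ha]; exact Subgroup.card_eq_card_quotient_mul_card_subgroup N
  have hlt : Nat.card (G ⧸ N) < Nat.card G := by
    rw [hGQ]
    exact lt_mul_of_one_lt_right Nat.card_pos (Nat.one_lt_pow ha0 hp.one_lt)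
  have hfinish : ∀ K : Subgroup G, (∀ x ∈ K, x ^ n = 1) → Nat.card K = n → (K : Set G) = {x : G | x ^ n = 1} := by
    intro K hK hKc
    refine Set.eq_of_subset_of_ncard_le (fun x hx => hK x hx) ?_ (Set.toFinite _)
    rw [← Nat.card_coe_set_eq, ← Nat.card_coe_set_eq]
    exact (hcount.trans hKc.symm).le
  have hcomap : ∀ (H : Subgroup (G ⧸ N)), Nat.card (H.comap (QuotientGroup.mk' N)) = Nat.card H * p ^ a := by
    intro H
    have h1 := (H.comap (QuotientGroup.mk' N)).card_mul_index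
    rw [Subgroup.index_comap_of_surjective _ (QuotientGroup.mk'_surjective N), hGQ, ← H.card_mul_index,
      mul_right_comm] at h1
    exact Nat.eq_of_mul_eq_mul_right (Nat.pos_of_ne_zero Subgroup.index_ne_zero_of_finite) h1
  have hQpos : ∀ m : ℕ, 1 ≤ Nat.card {y : G ⧸ N // y ^ m = 1} := fun m =>
    Nat.succ_le_of_lt (Nat.card_pos_iff.mpr ⟨⟨⟨1, one_pow m⟩⟩, inferInstance⟩)
  by_cases hpn : p ∣ n
  · obtain ⟨b, n', hn', hnb⟩ := Nat.exists_eq_pow_mul_and_not_dvd hn0 p hp.ne_one
    obtain ⟨c, Q', hQ', hQc⟩ := Nat.exists_eq_pow_mul_and_not_dvd (Nat.card_pos (α := G)).ne' p hp.ne_one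
    have hb0 : b ≠ 0 := fun h => hn' (by rw [hnb, h, pow_zero, one_mul] at hpn; exact hpn)
    have hcop : ∀ j, Nat.Coprime n' (p ^ j) := fun j => (((Nat.Prime.coprime_iff_not_dvd hp).mpr hn').symm).pow_right j
    have hbc : b ≤ c := by
      have h1 : p ^ b ∣ p ^ c * Q' := hQc ▸ (Dvd.intro n' hnb.symm).trans hn
      have h2 := (Nat.Coprime.pow_left b ((Nat.Prime.coprime_iff_not_dvd hp).mpr hQ')).dvd_of_dvd_mul_right h1
      exact (Nat.pow_dvd_pow_iff_le_right hp.one_lt).mp h2
    have hac : a ≤ c := by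
      have h1 : p ^ a ∣ p ^ c * Q' := hQc ▸ Dvd.intro_left _ hGQ.symm
      have h2 := (Nat.Coprime.pow_left a ((Nat.Prime.coprime_iff_not_dvd hp).mpr hQ')).dvd_of_dvd_mul_right h1
      exact (Nat.pow_dvd_pow_iff_le_right hp.one_lt).mp h2
    set e := min (b - 1) (c - a) with he
    set m := p ^ e * n' with hm
    have hmp : m * p ∣ n := by
      rw [hm, hnb, mul_right_comm, ← pow_succ]
      exact Nat.mul_dvd_mul_right (pow_dvd_pow p (by omega)) n'
    have hmQ : m ∣ Nat.card (G ⧸ N) := by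
      have hn'G : n' ∣ p ^ c * Q' := hQc ▸ (Dvd.intro_left _ hnb.symm).trans hn
      have hQeq : Nat.card (G ⧸ N) = p ^ (c - a) * Q' := by
        have h1 : Nat.card (G ⧸ N) * p ^ a = p ^ (c - a) * Q' * p ^ a := by
          rw [← hGQ, hQc, mul_right_comm, ← pow_add, Nat.sub_add_cancel hac]
        exact Nat.eq_of_mul_eq_mul_right (pow_pos hp.pos a) h1
      rw [hm, hQeq]
      exact Nat.mul_dvd_mul (pow_dvd_pow p (by omega)) ((hcop c).dvd_of_dvd_mul_left hn'G)
    have hlift : ∀ x : G, (QuotientGroup.mk' N x) ^ m = 1 → x ^ n = 1 := by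
      intro x hx
      rw [← map_pow] at hx
      have h1 : (x ^ m) ^ p = 1 := hexp _ ((QuotientGroup.eq_one_iff _).mp hx)
      obtain ⟨t, ht⟩ := hmp
      rw [ht, pow_mul, pow_mul, h1, one_pow]
    have hmT : m ≤ Nat.card {y : G ⧸ N // y ^ m = 1} :=
      Nat.le_of_dvd (hQpos m) (CfsgLib.frobenius_main _ (G ⧸ N) rfl m hmQ)
    have hTn : Nat.card {y : G ⧸ N // y ^ m = 1} * p ^ a ≤ n := by
      have h2 : Nat.card {y : G ⧸ N // y ^ m = 1} * p ^ a = Nat.card {x : G // (QuotientGroup.mk' N x) ^ m = 1} := by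
        rw [← ha, mul_comm, ← Nat.card_prod]
        exact (Nat.card_congr (QuotientGroup.preimageMkEquivSubgroupProdSet N {y : G ⧸ N | y ^ m = 1})).symm
      rw [h2, ← hcount]
      exact Nat.card_le_card_of_injective (fun x => ⟨x.1, hlift x.1 x.2⟩) fun x y h => Subtype.ext (congrArg (fun t : {x : G // x ^ n = 1} => t.1) h)
    have hnm : n = m * p ^ a := by
      have h3 : p ^ e * n' * p ^ a ≤ p ^ b * n' := by
        rw [← hm, ← hnb]
        exact (Nat.mul_le_mul_right _ hmT).trans hTn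
      rw [mul_right_comm, ← pow_add] at h3
      have hn'0 : 0 < n' := Nat.pos_of_ne_zero fun h => hn' (h ▸ dvd_zero p)
      have h4 := (Nat.pow_le_pow_iff_right hp.one_lt).mp (Nat.le_of_mul_le_mul_right h3 hn'0)
      rw [hnb, hm, mul_right_comm, ← pow_add, show e + a = b by omega]
    have hT : Nat.card {y : G ⧸ N // y ^ m = 1} = m := by
      refine le_antisymm (Nat.le_of_mul_le_mul_right ?_ (pow_pos hp.pos a)) hmT
      exact hTn.trans hnm.le
    obtain ⟨H, hH⟩ := IH _ hlt (G ⧸ N) rfl inferInstance m hmQ hT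
    refine ⟨H.comap (QuotientGroup.mk' N), hfinish _ (fun x hx => hlift x ?_) ?_⟩
    · have : QuotientGroup.mk' N x ∈ (H : Set (G ⧸ N)) := hx
      rwa [hH] at this
    · rw [hcomap, hnm, show Nat.card H = m from (Nat.card_congr (Equiv.setCongr hH)).trans hT]
  · have hcop : Nat.Coprime n p := ((Nat.Prime.coprime_iff_not_dvd hp).mpr hpn).symm
    have hnQ : n ∣ Nat.card (G ⧸ N) := (hcop.pow_right a).dvd_of_dvd_mul_right (hGQ ▸ hn)
    obtain ⟨k, hk1, hk0⟩ := Nat.chineseRemainder hcop 1 0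
    have hsurj : Function.Surjective (fun x : {x : G // x ^ n = 1} =>
        (⟨QuotientGroup.mk' N x.1, by rw [← map_pow, x.2, map_one]⟩ : {y : G ⧸ N // y ^ n = 1})) := by
      rintro ⟨y, hy⟩
      obtain ⟨g, rfl⟩ := QuotientGroup.mk'_surjective N y
      have hgn : g ^ n ∈ N := (QuotientGroup.eq_one_iff _).mp (by rw [← QuotientGroup.mk'_apply, map_pow]; exact hy)
      refine ⟨⟨g ^ k, ?_⟩, Subtype.ext ?_⟩
      · obtain ⟨t, ht⟩ := Nat.modEq_zero_iff_dvd.mp hk0
        rw [← pow_mul, mul_comm, pow_mul, ht, pow_mul, hexp _ hgn, one_pow]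
      · show QuotientGroup.mk' N (g ^ k) = QuotientGroup.mk' N g
        rw [map_pow, pow_eq_pow_mod k hy, hk1, ← pow_eq_pow_mod 1 hy, pow_one]
    have hTle := Nat.card_le_card_of_surjective _ hsurj
    rw [hcount] at hTle
    have hT : Nat.card {y : G ⧸ N // y ^ n = 1} = n :=
      le_antisymm hTle (Nat.le_of_dvd (hQpos n) (CfsgLib.frobenius_main _ (G ⧸ N) rfl n hnQ))
    obtain ⟨H, hH⟩ := IH _ hlt (G ⧸ N) rfl inferInstance n hnQ hT
    set U := H.comap (QuotientGroup.mk' N) with hU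
    have hNU : N ≤ U := fun x hx => by
      show QuotientGroup.mk' N x ∈ H
      rw [show QuotientGroup.mk' N x = 1 from (QuotientGroup.eq_one_iff x).mpr hx]
      exact one_mem _
    have hUc : Nat.card U = n * p ^ a := by
      rw [hU, hcomap, show Nat.card H = n from (Nat.card_congr (Equiv.setCongr hH)).trans hT]
    have hNc : Nat.card (N.subgroupOf U) = p ^ a := by
      rw [Nat.card_congr (Subgroup.subgroupOfEquivOfLe hNU).toEquiv, ha]
    have hidx : (N.subgroupOf U).index = n := by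
      have h1 := (N.subgroupOf U).card_mul_index
      rw [hNc, hUc, mul_comm n] at h1
      exact Nat.eq_of_mul_eq_mul_left (pow_pos hp.pos a) h1
    obtain ⟨K, hK⟩ := Subgroup.exists_right_complement'_of_coprime (N := N.subgroupOf U)
      (by rw [hidx, hNc]; exact (hcop.pow_right a).symm)
    have hKc : Nat.card K = n := by rw [← hK.symm.index_eq_card, hidx]
    refine ⟨K.map U.subtype, hfinish _ ?_ (by rw [Subgroup.card_map_of_injective U.subtype_injective, hKc])⟩
    rintro _ ⟨x, hx, rfl⟩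
    have h1 : (⟨x, hx⟩ : K) ^ n = 1 := hKc ▸ pow_card_eq_one'
    rw [← map_pow, show x ^ n = 1 from congrArg Subtype.val h1, map_one]

/-- If `G` is a finite solvable group and `n` divides the order of `G` and exactly `n` elements `x` of `G` satisfy `x^n = 1`, then these elements form a normal subgroup. -/
theorem result {G : Type*} [Group G] [Finite G] [Group.IsSolvable G] (n : ℕ) (hn : n ∣ Nat.card G) (hcount : Nat.card {x : G // x ^ n = 1} = n) : ∃ H : Subgroup G, H.Normal ∧ (H : Set G) = {x : G | x ^ n = 1} := by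
  obtain ⟨H, hH⟩ := aux _ G rfl inferInstance n hn hcount
  refine ⟨H, ⟨fun a ha g => ?_⟩, hH⟩
  have ha' : a ∈ (H : Set G) := ha
  rw [hH] at ha'
  show g * a * g⁻¹ ∈ (H : Set G)
  rw [hH]
  show (g * a * g⁻¹) ^ n = 1
  rw [conj_pow, show a ^ n = 1 from ha', mul_one, mul_inv_cancel]

end Cfsg.Agent.S4213
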