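import Cfsg.Statements.S4214
import Mathlib
import Cfsg.Agent.Lib.HallSolvable
import Cfsg.Agent.Lib.Coprime
import Cfsg.Agent.Lib.Elementary
-- import your own Cfsg.Agent.* helpers here

set_option autoImplicit false
open Cfsg

namespace Cfsg.Agent.S4214

namespace Aux

open scoped Pointwise commutatorElement
open CfsgLib

universe a

theorem exists_normal_prime_index {H : Type a} [Group H] [Finite H] [Group.IsSolvable H] [Nontrivial H] :
    ∃ M : Subgroup H, M.Normal ∧ M.index.Prime := by
  have hlt := Group.IsSolvable.commutator_lt_top_of_nontrivial H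
  obtain ⟨M, hM, hle⟩ := (eq_top_or_exists_le_coatom (commutator H)).resolve_left hlt.ne
  have hn : M.Normal := ⟨fun x hx g => by
    rw [show g * x * g⁻¹ = ⁅g, x⁆ * x by rw [commutatorElement_def]; group]
    exact mul_mem (hle (Subgroup.commutator_mem_commutator (Subgroup.mem_top _) (Subgroup.mem_top _))) hx⟩
  refine ⟨M, hn, ?_⟩
  have hi1 : M.index ≠ 1 := fun h => hM.1 (Subgroup.index_eq_one.mp h)
  obtain ⟨r, hr, hrd⟩ := Nat.exists_prime_and_dvd hi1
  haveI := Fact.mk hr
  obtain ⟨y, hy⟩ := exists_prime_orderOf_dvd_card' r (by rwa [← M.index_eq_card])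
  have hco : (Subgroup.zpowers y).comap (QuotientGroup.mk' M) = ⊤ := by
    refine hM.2 _ (lt_of_le_of_ne (QuotientGroup.le_comap_mk' M _) fun h => ?_)
    obtain ⟨g, rfl⟩ := QuotientGroup.mk'_surjective M y
    have hg : g ∈ M := h ▸ (Subgroup.mem_zpowers (QuotientGroup.mk' M g))
    rw [show QuotientGroup.mk' M g = 1 from (QuotientGroup.eq_one_iff g).mpr hg, orderOf_one] at hy
    exact hr.ne_one hy.symm
  have htop : Subgroup.zpowers y = ⊤ := by
    have := congrArg (Subgroup.map (QuotientGroup.mk' M)) hco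
    rwa [Subgroup.map_comap_eq_self_of_surjective (QuotientGroup.mk'_surjective M),
      Subgroup.map_top_of_surjective _ (QuotientGroup.mk'_surjective M)] at this
  rw [M.index_eq_card, ← Subgroup.card_top, ← htop, Nat.card_zpowers, hy]
  exact hr

/-- The index of the centralizer of a coprime solvable group in a normal subgroup of prime power order. -/
theorem index_cent {G : Type a} [Group G] [Finite G] [Group.IsSolvable G] {q : ℕ} [Fact q.Prime] (N : Subgroup G)
    [N.Normal] (hN : IsPGroup q N) (H : Subgroup G) (hq : ¬ q ∣ Nat.card H) :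
    ∃ l : List ℕ, Nat.card N = Nat.card (N ⊓ Subgroup.centralizer (H : Set G) : Subgroup G) * l.prod ∧
      ∀ x ∈ l, (∃ e, x = q ^ e) ∧ x ∣ Nat.card N ∧ ∃ r, r.Prime ∧ r ∣ Nat.card H ∧ x ≡ 1 [MOD r] := by
  induction hc : Nat.card H using Nat.strong_induction_on generalizing H with
  | h c ih =>
    subst hc
    rcases subsingleton_or_nontrivial H with h1 | h1
    · refine ⟨[], ?_, by simp⟩
      rw [(Subgroup.eq_bot_iff_forall H).mpr fun x hx => congrArg Subtype.val (Subsingleton.elim (⟨x, hx⟩ : H) 1)]
      rw [show Subgroup.centralizer ((⊥ : Subgroup G) : Set G) = ⊤ from eq_top_iff.mpr fun g _ => by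
        simp [Subgroup.mem_centralizer_iff], inf_top_eq, List.prod_nil, mul_one]
    obtain ⟨M₀, hMn, hr⟩ := exists_normal_prime_index (H := H)
    set r := M₀.index
    haveI := Fact.mk hr
    haveI := hMn
    set M := M₀.map H.subtype with hM
    have hMH : M ≤ H := Subgroup.map_subtype_le _
    have hMc : Nat.card M = Nat.card M₀ := Subgroup.card_map_of_injective H.subtype_injective
    have hlt : Nat.card M < Nat.card H := by
      rw [hMc, ← M₀.card_mul_index]
      exact lt_mul_of_one_lt_right Nat.card_pos hr.one_lt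
    have hrH : r ∣ Nat.card H := M₀.index_dvd_card
    obtain ⟨l, hl, hf⟩ := ih _ hlt M (fun h => hq (h.trans (Subgroup.card_dvd_of_le hMH))) rfl
    obtain ⟨R⟩ : Nonempty (Sylow r H) := inferInstance
    obtain ⟨h, hhR, hhM⟩ : ∃ h ∈ (R : Subgroup H), h ∉ M₀ := by
      by_contra hc
      push Not at hc
      exact R.not_dvd_index ((dvd_refl r).trans (Subgroup.index_dvd_of_le hc))
    have hgen : H ≤ M ⊔ Subgroup.zpowers (h : G) := by
      have htop : M₀ ⊔ Subgroup.zpowers h = ⊤ := by
        rw [← Subgroup.index_eq_one]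
        have hd := Subgroup.index_dvd_of_le (le_sup_left : M₀ ≤ M₀ ⊔ Subgroup.zpowers h)
        rcases (Nat.dvd_prime hr).mp hd with h2 | h2
        · exact h2
        · exfalso
          have heq : M₀ = M₀ ⊔ Subgroup.zpowers h := by
            refine Subgroup.eq_of_le_of_card_ge le_sup_left (le_of_eq ?_)
            have e1 := M₀.card_mul_index
            rw [← (M₀ ⊔ Subgroup.zpowers h).card_mul_index, h2] at e1
            exact (mul_right_cancel₀ hr.ne_zero e1).symm
          exact hhM (heq ▸ Subgroup.mem_sup_right (Subgroup.mem_zpowers h))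
      intro x hx
      have := Subgroup.mem_map_of_mem H.subtype (htop.ge (Subgroup.mem_top (⟨x, hx⟩ : H)))
      rwa [Subgroup.map_sup, MonoidHom.map_zpowers] at this
    set C := N ⊓ Subgroup.centralizer (M : Set G) with hC
    set D := N ⊓ Subgroup.centralizer (H : Set G) with hD
    have hDC : D ≤ C := inf_le_inf_left _ (Subgroup.centralizer_le hMH)
    have hmem : ∀ z ∈ Subgroup.zpowers (h : G), z ∈ H := fun z hz => by
      obtain ⟨k, rfl⟩ := hz
      exact H.zpow_mem h.2 k
    have hnorm : ∀ z ∈ Subgroup.zpowers (h : G), ∀ x ∈ C, z * x * z⁻¹ ∈ C := by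
      rintro z hz x hx
      refine Subgroup.mem_inf.mpr ⟨(inferInstance : N.Normal).conj_mem x (Subgroup.mem_inf.mp hx).1 z,
        Subgroup.mem_centralizer_iff.mpr fun m hm => ?_⟩
      have hm' : z⁻¹ * m * z ∈ M := by
        obtain ⟨m₀, hm₀, rfl⟩ := hm
        exact ⟨(⟨z, hmem z hz⟩ : H)⁻¹ * m₀ * ⟨z, hmem z hz⟩, by
          simpa using hMn.conj_mem m₀ hm₀ (⟨z, hmem z hz⟩ : H)⁻¹, rfl⟩
      have e := Subgroup.mem_centralizer_iff.mp (Subgroup.mem_inf.mp hx).2 _ hm'
      calc m * (z * x * z⁻¹) = z * ((z⁻¹ * m * z) * x) * z⁻¹ := by group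
        _ = z * (x * (z⁻¹ * m * z)) * z⁻¹ := by rw [e]
        _ = z * x * z⁻¹ * m := by group
    letI : MulAction (Subgroup.zpowers (h : G)) C :=
      { smul := fun z x => ⟨z.1 * x.1 * z.1⁻¹, hnorm z.1 z.2 x.1 x.2⟩
        one_smul := fun x => Subtype.ext (by show (1 : G) * x.1 * (1 : G)⁻¹ = x.1; group)
        mul_smul := fun y z x => Subtype.ext (by show (y.1 * z.1) * x.1 * (y.1 * z.1)⁻¹ = y.1 * (z.1 * x.1 * z.1⁻¹) * y.1⁻¹; group) }
    have hpz : IsPGroup r (Subgroup.zpowers (h : G)) := by
      rw [← Subgroup.coe_subtype, ← MonoidHom.map_zpowers]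
      exact (R.2.to_le (Subgroup.zpowers_le.mpr hhR)).map _
    have hfix : Nat.card (MulAction.fixedPoints (Subgroup.zpowers (h : G)) C) = Nat.card D := by
      refine Nat.card_congr ((Equiv.subtypeEquivRight fun x => ?_).trans (Subgroup.subgroupOfEquivOfLe hDC).toEquiv)
      rw [MulAction.mem_fixedPoints, Subgroup.mem_subgroupOf]
      constructor
      · intro hx
        refine Subgroup.mem_inf.mpr ⟨(Subgroup.mem_inf.mp x.2).1, Subgroup.mem_centralizer_iff.mpr fun y hy => ?_⟩
        have : (M ⊔ Subgroup.zpowers (h : G)) ≤ Subgroup.centralizer ({(x : G)} : Set G) := by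
          refine sup_le (fun m hm => Subgroup.mem_centralizer_singleton_iff.mpr
            (Subgroup.mem_centralizer_iff.mp (Subgroup.mem_inf.mp x.2).2 m hm)) (Subgroup.zpowers_le.mpr ?_)
          exact Subgroup.mem_centralizer_singleton_iff.mpr
            (mul_inv_eq_iff_eq_mul.mp (congrArg Subtype.val (hx ⟨_, Subgroup.mem_zpowers _⟩)))
        exact Subgroup.mem_centralizer_singleton_iff.mp (this (hgen hy))
      · intro hx z
        exact Subtype.ext (mul_inv_eq_iff_eq_mul.mpr
          (Subgroup.mem_centralizer_iff.mp (Subgroup.mem_inf.mp hx).2 z.1 (hmem z.1 z.2)))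
    have hmod := hpz.card_modEq_card_fixedPoints C
    rw [hfix] at hmod
    obtain ⟨k, hk⟩ := Subgroup.card_dvd_of_le hDC
    obtain ⟨e, he⟩ := (hN.to_le (inf_le_left : C ≤ N)).exists_card_eq
    obtain ⟨j, -, hj⟩ := (Nat.dvd_prime_pow (Fact.out : q.Prime)).mp ((dvd_mul_left k _).trans (hk ▸ dvd_of_eq he))
    refine ⟨k :: l, by rw [List.prod_cons, ← mul_assoc, ← hk]; exact hl, fun x hx => ?_⟩
    rcases List.mem_cons.mp hx with rfl | hx
    · refine ⟨⟨j, hj⟩, (dvd_mul_left x _).trans (hk ▸ Subgroup.card_dvd_of_le inf_le_left), r, hr, hrH, ?_⟩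
      have hcopD : Nat.gcd r (Nat.card D) = 1 := by
        refine (hr.coprime_iff_not_dvd.mpr fun hd => ?_)
        obtain ⟨i, hi⟩ := (hN.to_le (inf_le_left : D ≤ N)).exists_card_eq
        rw [hi] at hd
        exact hq (((Nat.prime_dvd_prime_iff_eq hr Fact.out).mp (hr.dvd_of_dvd_pow hd)) ▸ hrH)
      rw [hk] at hmod
      exact Nat.ModEq.cancel_left_of_coprime hcopD (by rw [mul_one]; exact hmod)
    · obtain ⟨h1, h2, s, hs, hsd, hx1⟩ := hf x hx
      exact ⟨h1, h2, s, hs, hsd.trans (Subgroup.card_dvd_of_le hMH), hx1⟩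

theorem count {G : Type a} [Group G] [Finite G] [Group.IsSolvable G] (m n : ℕ) (hG : Nat.card G = m * n)
    (hmn : Nat.Coprime m n) : ∃ l : List ℕ, Nat.card {H : Subgroup G // Nat.card H = m} = l.prod ∧
      ∀ x ∈ l, (∃ q e : ℕ, q.Prime ∧ x = q ^ e) ∧
        (∃ K L : Subgroup G, K.Normal ∧ L.Normal ∧ K < L ∧
          (∀ M : Subgroup G, M.Normal → K ≤ M → M ≤ L → M = K ∨ M = L) ∧ x ∣ K.relIndex L) ∧
        (∃ q : ℕ, q.Prime ∧ q ∣ m ∧ x ≡ 1 [MOD q]) := by
  induction hc : Nat.card G using Nat.strong_induction_on generalizing G m n with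
  | h c ih =>
    subst hc
    rcases subsingleton_or_nontrivial G with hG1 | hG1
    · refine ⟨[], ?_, by simp⟩
      rw [Nat.card_of_subsingleton (1 : G)] at hG
      obtain ⟨rfl, -⟩ := mul_eq_one.mp hG.symm
      rw [List.prod_nil, Nat.card_eq_one_iff_unique]
      exact ⟨⟨fun a b => Subtype.ext (Subgroup.ext fun x => by
        rw [Subsingleton.elim x 1]; simp [one_mem])⟩, ⟨⟨⊥, by simp⟩⟩⟩
    obtain ⟨N, hNn, -, hN0, hNmin⟩ := exists_minimal_normal (N := (⊤ : Subgroup G)) top_ne_bot
    obtain ⟨hNc, q, hq, hNq⟩ := minimal_normal_elementary hN0 inferInstance hNmin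
    haveI := Fact.mk hq
    obtain ⟨a', ha⟩ := prime_dvd_card_eq_pow hq hNq
    have hNp : IsPGroup q N := IsPGroup.of_card ha
    haveI : Nontrivial N := (Subgroup.nontrivial_iff_ne_bot N).mpr hN0
    haveI : Group.IsSolvable (G ⧸ N) := Group.isSolvable_of_surjective (QuotientGroup.mk'_surjective N)
    have hGN : Nat.card G = Nat.card (G ⧸ N) * Nat.card N := Subgroup.card_eq_card_quotient_mul_card_subgroup N
    have hlt : Nat.card (G ⧸ N) < Nat.card G := by
      rw [hGN]; exact lt_mul_of_one_lt_right Nat.card_pos Finite.one_lt_card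
    let π := QuotientGroup.mk' N
    have hlift : ∀ x : ℕ, (∃ K L : Subgroup (G ⧸ N), K.Normal ∧ L.Normal ∧ K < L ∧
          (∀ M : Subgroup (G ⧸ N), M.Normal → K ≤ M → M ≤ L → M = K ∨ M = L) ∧ x ∣ K.relIndex L) →
        ∃ K L : Subgroup G, K.Normal ∧ L.Normal ∧ K < L ∧
          (∀ M : Subgroup G, M.Normal → K ≤ M → M ≤ L → M = K ∨ M = L) ∧ x ∣ K.relIndex L := by
      rintro x ⟨K, L, hK, hL, hlt, hmin, hd⟩
      haveI := hK
      haveI := hL
      refine ⟨K.comap π, L.comap π, inferInstance, inferInstance,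
        (Subgroup.comap_lt_comap_of_surjective (QuotientGroup.mk'_surjective N)).mpr hlt, fun M hM h1 h2 => ?_, ?_⟩
      · have hNM : π.ker ≤ M := (Subgroup.ker_le_comap π K).trans h1
        have e : (M.map π).comap π = M := Subgroup.comap_map_eq_self hNM
        rcases hmin (M.map π) (hM.map π (QuotientGroup.mk'_surjective N))
          ((Subgroup.map_comap_eq_self_of_surjective (QuotientGroup.mk'_surjective N) K) ▸ Subgroup.map_mono h1)
          (Subgroup.map_le_iff_le_comap.mpr h2) with h | h
        · exact Or.inl (by rw [← e, h])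
        · exact Or.inr (by rw [← e, h])
      · rwa [Subgroup.relIndex_comap, Subgroup.map_comap_eq_self_of_surjective (QuotientGroup.mk'_surjective N)]
    have hcomap : ∀ L : Subgroup G, (L.map π).comap π = L ⊔ N := fun L => by
      rw [Subgroup.comap_map_eq, QuotientGroup.ker_mk']
    by_cases hqm : q ∣ m
    · have hNn' : (Nat.card N).Coprime n := by
        rw [ha]
        exact Nat.Coprime.pow_left _ (hq.coprime_iff_not_dvd.mpr fun h => hq.ne_one (Nat.eq_one_of_dvd_coprimes hmn hqm h))
      obtain ⟨m', hm'⟩ := dvd_left_of_dvd_mul_of_coprime (hG ▸ Subgroup.card_subgroup_dvd_card N) hNn'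
      have hG' : Nat.card (G ⧸ N) = m' * n := by
        refine mul_right_cancel₀ (Nat.card_pos (α := N)).ne' ?_
        rw [← hGN, hG, hm']; ring
      obtain ⟨l, hl, hf⟩ := ih _ hlt m' n hG' (hmn.coprime_dvd_left ⟨Nat.card N, by rw [hm']; ring⟩) rfl
      have hNle : ∀ H : Subgroup G, Nat.card H = m → N ≤ H := fun H hH => by
        have hd : Nat.card (H ⊔ N : Subgroup G) ∣ m := by
          refine dvd_left_of_dvd_mul_of_coprime (hG ▸ Subgroup.card_subgroup_dvd_card _) ?_
          exact Nat.Coprime.coprime_dvd_left (card_sup_dvd_mul H N) (Nat.Coprime.mul_left (hH ▸ hmn) hNn')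
        have heq : H = H ⊔ N := Subgroup.eq_of_le_of_card_ge le_sup_left
          (hH ▸ Nat.le_of_dvd (by rw [← hH]; exact Nat.card_pos) hd)
        rw [heq]; exact le_sup_right
      refine ⟨l, ?_, fun x hx => ⟨(hf x hx).1, hlift x (hf x hx).2.1, ?_⟩⟩
      · rw [← hl]
        refine Nat.card_congr
          { toFun := fun H => ⟨H.1.map π, ?_⟩
            invFun := fun H => ⟨H.1.comap π, by rw [card_comap_mk, H.2, hm']⟩
            left_inv := fun H => Subtype.ext (Subgroup.comap_map_eq_self (by rw [QuotientGroup.ker_mk']; exact hNle _ H.2))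
            right_inv := fun H => Subtype.ext (Subgroup.map_comap_eq_self_of_surjective (QuotientGroup.mk'_surjective N) _) }
        obtain ⟨H, hH⟩ := H
        have h1 := card_comap_mk N (H.map π)
        rw [hcomap, sup_eq_left.mpr (hNle _ hH), hH, hm'] at h1
        exact (mul_left_cancel₀ (Nat.card_pos (α := N)).ne' h1).symm
      · obtain ⟨r, hr, hrd, h⟩ := (hf x hx).2.2
        exact ⟨r, hr, hm' ▸ hrd.mul_left _, h⟩
    · have hNm : (Nat.card N).Coprime m := by
        rw [ha]; exact Nat.Coprime.pow_left _ (hq.coprime_iff_not_dvd.mpr hqm)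
      obtain ⟨n', hn'⟩ := hNm.dvd_of_dvd_mul_left (hG ▸ Subgroup.card_subgroup_dvd_card N)
      have hG' : Nat.card (G ⧸ N) = m * n' := by
        refine mul_right_cancel₀ (Nat.card_pos (α := N)).ne' ?_
        rw [← hGN, hG, hn']; ring
      obtain ⟨l, hl, hf⟩ := ih _ hlt m n' hG' (hmn.coprime_dvd_right ⟨Nat.card N, by rw [hn']; ring⟩) rfl
      obtain ⟨⟨H₀, hH₀⟩, hD⟩ := hall_main hG hmn
      obtain ⟨l₂, hl₂, hf₂⟩ := index_cent N hNp H₀ (hH₀.symm ▸ hqm)
      set S := {H : Subgroup G // Nat.card H = m}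
      set T := {H : Subgroup (G ⧸ N) // Nat.card H = m}
      have hdisj : ∀ H : Subgroup G, Nat.card H = m → ∀ x ∈ H, x ∈ N → x = 1 := fun H hH x hxH hxN =>
        Subgroup.disjoint_def.mp (Subgroup.disjoint_of_coprime_natCard (hH.symm ▸ hNm)) hxN hxH
      have hcard : ∀ H : S, Nat.card (H.1.map π) = m := fun H => by
        have hinj : Function.Injective (π.comp H.1.subtype) := by
          rw [injective_iff_map_eq_one]
          intro x hx
          exact Subtype.ext (hdisj H.1 H.2 x x.2 ((QuotientGroup.eq_one_iff _).mp hx))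
        rw [show H.1.map π = (π.comp H.1.subtype).range by rw [MonoidHom.range_comp, Subgroup.range_subtype],
          ← Nat.card_congr (MonoidHom.ofInjective hinj).toEquiv, H.2]
      let f : S → T := fun H => ⟨H.1.map π, hcard H⟩
      have hfib : ∀ X : T, Nat.card {H : S // f H = X} = l₂.prod := by
        intro X
        obtain ⟨⟨Hb, hHb⟩, hDb⟩ := hall_main hG' (hmn.coprime_dvd_right ⟨Nat.card N, by rw [hn']; ring⟩)
        obtain ⟨gb, hgb⟩ := hDb X.1 (H₀.map π) X.2 (dvd_of_eq (hcard ⟨H₀, hH₀⟩))
        obtain ⟨g, rfl⟩ := QuotientGroup.mk'_surjective N gb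
        set H₁ := MulAut.conj g • H₀ with hH₁
        have hH₁c : Nat.card H₁ = m := by rw [hH₁, card_conj_smul, hH₀]
        have hconjmap : ∀ (y : G) (H : Subgroup G), (MulAut.conj y • H).map π = MulAut.conj (π y) • H.map π := fun y H => by
          ext x
          constructor
          · rintro ⟨z, hz, rfl⟩
            rw [SetLike.mem_coe, mem_conj_smul_iff] at hz
            rw [mem_conj_smul_iff]
            exact ⟨_, hz, by rw [map_mul, map_mul, map_inv]⟩
          · intro hx
            rw [mem_conj_smul_iff] at hx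
            obtain ⟨z, hz, hzx⟩ := hx
            refine ⟨y * z * y⁻¹, mem_conj_smul_iff.mpr (by simpa [mul_assoc] using hz), ?_⟩
            rw [map_mul, map_mul, hzx, map_inv]; group
        have hX1 : X.1 = H₁.map π := by
          rw [hH₁, hconjmap]
          refine (Subgroup.eq_of_le_of_card_ge hgb ?_).symm
          rw [X.2, card_conj_smul, hcard ⟨H₀, hH₀⟩]
        have hfix : ∀ a ∈ N, (MulAut.conj a • H₁).map π = H₁.map π := fun a ha' => by
          rw [hconjmap, show π a = 1 from (QuotientGroup.eq_one_iff a).mpr ha', map_one, one_smul]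
        let φ : N → {H : S // f H = X} := fun a => ⟨⟨MulAut.conj (a : G) • H₁, by rw [card_conj_smul, hH₁c]⟩,
          Subtype.ext (by show (MulAut.conj (a : G) • H₁).map π = X.1; rw [hfix a a.2, hX1])⟩
        set C := N ⊓ Subgroup.centralizer (H₁ : Set G)
        have hφ : ∀ a b : N, φ a = φ b ↔ a⁻¹ * b ∈ C.subgroupOf N := by
          intro a b
          rw [Subgroup.mem_subgroupOf]
          constructor
          · intro h
            have h' : MulAut.conj (a : G) • H₁ = MulAut.conj (b : G) • H₁ := congrArg (fun z : {H : S // f H = X} => z.1.1) h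
            refine Subgroup.mem_inf.mpr ⟨(a⁻¹ * b).2, Subgroup.mem_centralizer_iff.mpr fun x hx => ?_⟩
            set c : G := ((a⁻¹ * b : N) : G)
            have h1 : c * x * c⁻¹ ∈ H₁ := by
              have : MulAut.conj (a : G) • H₁ = MulAut.conj (b : G) • H₁ := h'
              have hx2 : (b : G) * x * (b : G)⁻¹ ∈ MulAut.conj (a : G) • H₁ := this ▸ mem_conj_smul_iff.mpr (by simpa [mul_assoc] using hx)
              rw [mem_conj_smul_iff] at hx2
              simpa [c, mul_assoc] using hx2
            have h2 : c * x * c⁻¹ * x⁻¹ ∈ N := by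
              rw [show c * x * c⁻¹ * x⁻¹ = c * (x * c⁻¹ * x⁻¹) by group]
              exact mul_mem (a⁻¹ * b).2 (hNn.conj_mem _ (inv_mem (a⁻¹ * b).2) x)
            have h3 := hdisj H₁ hH₁c _ (mul_mem h1 (inv_mem hx)) h2
            exact (mul_inv_eq_iff_eq_mul.mp (mul_inv_eq_one.mp h3)).symm
          · intro h
            refine Subtype.ext (Subtype.ext ?_)
            show MulAut.conj (a : G) • H₁ = MulAut.conj (b : G) • H₁
            have hc := Subgroup.mem_centralizer_iff.mp (Subgroup.mem_inf.mp h).2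
            set c : G := ((a⁻¹ * b : N) : G)
            have hcfix : MulAut.conj c • H₁ = H₁ := by
              ext x
              rw [mem_conj_smul_iff]
              constructor
              · intro hx
                have e := hc _ hx
                have e2 : x = c⁻¹ * x * c := by
                  have : x * c = c * (c⁻¹ * x * c) := by group
                  rw [← e] at this
                  exact mul_right_cancel this
                rw [e2]; exact hx
              · intro hx
                rwa [mul_assoc, hc x hx, inv_mul_cancel_left]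
            conv_lhs => rw [← hcfix, conj_smul_mul, show (a : G) * c = b by simp [c]]
        have hsurj : Function.Surjective φ := by
          rintro ⟨⟨H, hH⟩, hHX⟩
          have hmap : H.map π = H₁.map π := (congrArg Subtype.val hHX).trans hX1
          have hsup : H ⊔ N = H₁ ⊔ N := by rw [← hcomap, hmap, hcomap]
          set U := H₁ ⊔ N with hU
          haveI : IsMulCommutative (N.subgroupOf U) :=
            ⟨⟨fun x y => Subtype.ext (Subtype.ext (Subgroup.mul_comm_of_mem_isMulCommutative N x.2 y.2))⟩⟩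
          haveI : (N.subgroupOf U).Normal := inferInstance
          have hcN : Nat.card (N.subgroupOf U) = Nat.card N :=
            Nat.card_congr (Subgroup.subgroupOfEquivOfLe (le_sup_right : N ≤ U)).toEquiv
          have hUc : Nat.card U = Nat.card N * m := by
            rw [hU, ← hcomap, card_comap_mk, hcard ⟨H₁, hH₁c⟩]
          have hidx : (N.subgroupOf U).index = m := by
            have h1 := Subgroup.card_mul_index (N.subgroupOf U)
            rw [hcN, hUc] at h1
            exact mul_left_cancel₀ Nat.card_pos.ne' h1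
          have hcop : (Nat.card (N.subgroupOf U)).Coprime (N.subgroupOf U).index := by rw [hcN, hidx]; exact hNm
          have hHU : H ≤ U := hsup ▸ le_sup_left
          obtain ⟨u, hu, hu'⟩ := complements_conj_of_abelian hcop
            (isComplement'_of_card hcop (by rw [hidx, Nat.card_congr (Subgroup.subgroupOfEquivOfLe (le_sup_left : H₁ ≤ U)).toEquiv, hH₁c]))
            (isComplement'_of_card hcop (by rw [hidx, Nat.card_congr (Subgroup.subgroupOfEquivOfLe hHU).toEquiv, hH]))
          exact ⟨⟨(u : G), hu⟩, Subtype.ext (Subtype.ext (conj_subgroupOf le_sup_left hHU hu'))⟩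
        have e : (N ⧸ C.subgroupOf N) ≃ {H : S // f H = X} :=
          Equiv.ofBijective (Quotient.lift φ fun a b hab => (hφ a b).mpr (QuotientGroup.leftRel_apply.mp hab))
            ⟨fun x y => Quotient.inductionOn₂ x y fun a b h => Quotient.sound (QuotientGroup.leftRel_apply.mpr ((hφ a b).mp h)),
              fun z => let ⟨a, h⟩ := hsurj z; ⟨Quotient.mk'' a, h⟩⟩
        rw [← Nat.card_congr e]
        have hC : Nat.card C = Nat.card (N ⊓ Subgroup.centralizer (H₀ : Set G) : Subgroup G) := by
          rw [← card_conj_smul g (N ⊓ Subgroup.centralizer (H₀ : Set G))]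
          congr 2
          ext x
          simp only [C, mem_conj_smul_iff, Subgroup.mem_inf, Subgroup.mem_centralizer_iff, hH₁, SetLike.mem_coe]
          refine and_congr ⟨fun h => by simpa [mul_assoc] using hNn.conj_mem x h g⁻¹,
            fun h => by simpa [mul_assoc] using hNn.conj_mem _ h g⟩ ⟨fun h y hy => ?_, fun h y hy => ?_⟩
          · have := h (g * y * g⁻¹) (by simpa [mul_assoc] using hy)
            calc y * (g⁻¹ * x * g) = g⁻¹ * ((g * y * g⁻¹) * x) * g := by group
              _ = g⁻¹ * (x * (g * y * g⁻¹)) * g := by rw [this]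
              _ = g⁻¹ * x * g * y := by group
          · have := h (g⁻¹ * y * g) hy
            calc y * x = g * ((g⁻¹ * y * g) * (g⁻¹ * x * g)) * g⁻¹ := by group
              _ = g * ((g⁻¹ * x * g) * (g⁻¹ * y * g)) * g⁻¹ := by rw [this]
              _ = x * y := by group
        have h1 := Subgroup.card_eq_card_quotient_mul_card_subgroup (C.subgroupOf N)
        rw [Nat.card_congr (Subgroup.subgroupOfEquivOfLe (inf_le_left : C ≤ N)).toEquiv, hC, hl₂, mul_comm (Nat.card (N ⧸ _))] at h1
        exact (mul_left_cancel₀ Nat.card_pos.ne' h1).symm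
      haveI := Fintype.ofFinite T
      refine ⟨l ++ l₂, ?_, fun x hx => ?_⟩
      · rw [List.prod_append, ← hl, ← Nat.card_congr (Equiv.sigmaFiberEquiv f), Nat.card_sigma,
          Finset.sum_congr rfl fun X _ => hfib X, Finset.sum_const, Finset.card_univ, smul_eq_mul, ← Nat.card_eq_fintype_card]
      · rcases List.mem_append.mp hx with hx | hx
        · exact ⟨(hf x hx).1, hlift x (hf x hx).2.1, (hf x hx).2.2⟩
        · obtain ⟨⟨e, he⟩, hd, r, hr, hrd, hx1⟩ := hf₂ x hx
          exact ⟨⟨q, e, hq, he⟩, ⟨⊥, N, inferInstance, hNn, bot_lt_iff_ne_bot.mpr hN0,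
            fun M hM _ hMN => hNmin M hM hMN, by rwa [Subgroup.relIndex_bot_left]⟩, r, hr, hH₀ ▸ hrd, hx1⟩

end Aux

/-- Let `G` be a finite solvable group of order `mn` with `gcd(m, n) = 1`. Then the number of subgroups of order `m` is a product of natural numbers each of which is a power of a prime, divides the order of some chief factor of `G` (a quotient `L/K` of normal subgroups `K < L` of `G` with no normal subgroup of `G` strictly between them), and is congruent to `1` modulo some prime divisor of `m`. -/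
theorem result {G : Type*} [Group G] [Finite G] [Group.IsSolvable G] (m n : ℕ) (hG : Nat.card G = m * n) (hmn : Nat.Coprime m n) : ∃ (k : ℕ) (f : Fin k → ℕ), Nat.card {H : Subgroup G // Nat.card H = m} = ∏ i, f i ∧ ∀ i, (∃ q e : ℕ, q.Prime ∧ f i = q ^ e) ∧ (∃ K L : Subgroup G, K.Normal ∧ L.Normal ∧ K < L ∧ (∀ M : Subgroup G, M.Normal → K ≤ M → M ≤ L → M = K ∨ M = L) ∧ f i ∣ K.relIndex L) ∧ (∃ q : ℕ, q.Prime ∧ q ∣ m ∧ f i ≡ 1 [MOD q]) := by

  obtain ⟨l, hl, hf⟩ := Aux.count m n hG hmn
  exact ⟨l.length, fun i => l.get i, by rw [hl, ← List.prod_ofFn, List.ofFn_get], fun i => hf _ (List.get_mem l i)⟩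

end Cfsg.Agent.S4214
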