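import Cfsg.Statements.S4216
import Mathlib
-- import your own Cfsg.Agent.* helpers here

set_option autoImplicit false
open Cfsg

namespace Cfsg.Agent.S4216

open scoped commutatorElement

/-- The hard inclusion in Grün's first theorem. -/
private theorem mem_of_mem_commutator {G : Type*} [Group G] [Finite G] {p : ℕ} [Fact p.Prime] (P : Sylow p G)
    (S : Subgroup G) (hSP : S ≤ (P : Subgroup G)) (hS1 : ∀ w ∈ (P : Subgroup G), ∀ n ∈ Subgroup.normalizer ((P : Subgroup G) : Set G),
      ⁅n, w⁆ ∈ (P : Subgroup G) → ⁅n, w⁆ ∈ S)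
    (hS2 : ∀ a ∈ (P : Subgroup G), ∀ b ∈ (P : Subgroup G), ∀ z : G, z * ⁅a, b⁆ * z⁻¹ ∈ (P : Subgroup G) → z * ⁅a, b⁆ * z⁻¹ ∈ S) :
    ∀ (k : ℕ) (u : G), u ∈ (P : Subgroup G) → u ∈ commutator G → orderOf u = k → u ∈ S := by
  classical
  intro k
  induction k using Nat.strong_induction_on with
  | _ k IH =>
  intro u hu huG hk
  subst hk
  have hp : p.Prime := Fact.out
  set PG : Subgroup G := (P : Subgroup G) with hPG
  set N : Subgroup PG := S.subgroupOf PG
  have hcomm : ∀ a b : PG, ⁅a, b⁆ ∈ N := fun a b => by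
    have := hS2 a a.2 b b.2 1 (by rw [one_mul, inv_one, mul_one]; exact (⁅a, b⁆ : PG).2)
    rw [one_mul, inv_one, mul_one] at this
    exact this
  have hN : N.Normal := ⟨fun m hm g => by
    have := N.mul_mem (hcomm g m) hm
    rwa [commutatorElement_def, inv_mul_cancel_right] at this⟩
  let : CommGroup (PG ⧸ N) := { (inferInstance : Group (PG ⧸ N)) with
    mul_comm := fun x y => by
      obtain ⟨a, rfl⟩ := QuotientGroup.mk_surjective x
      obtain ⟨b, rfl⟩ := QuotientGroup.mk_surjective y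
      show QuotientGroup.mk' N a * QuotientGroup.mk' N b = QuotientGroup.mk' N b * QuotientGroup.mk' N a
      rw [← commutatorElement_eq_one_iff_mul_comm, ← map_commutatorElement, QuotientGroup.mk'_apply,
        QuotientGroup.eq_one_iff]
      exact hcomm a b }
  let φ : PG →* PG ⧸ N := QuotientGroup.mk' N
  have hφ1 : ∀ w : PG, (w : G) ∈ S → φ w = 1 := fun w hw => (QuotientGroup.eq_one_iff w).mpr hw
  -- small elements die
  have hsmall : ∀ (m : ℕ) (g : G) (hm : g⁻¹ * u ^ m * g ∈ PG), orderOf (u ^ m) < orderOf u →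
      φ ⟨g⁻¹ * u ^ m * g, hm⟩ = 1 := by
    intro m g hm hlt
    refine hφ1 _ (IH _ hlt _ hm ?_ ?_)
    · simpa using (inferInstance : (commutator G).Normal).conj_mem _ (Subgroup.pow_mem _ huG m) g⁻¹
    · rw [← (MulAut.conj g⁻¹).orderOf_eq (u ^ m)]
      simp
  -- independence of the representative
  have hind : ∀ (g w : G) (y : G), w ∈ PG → y ∈ PG → ∀ (h1 : g⁻¹ * u * g ∈ PG)
      (h2 : (w * g * y)⁻¹ * u * (w * g * y) ∈ PG), φ ⟨_, h2⟩ = φ ⟨_, h1⟩ := by
    intro g w y hw hy h1 h2
    have h3 : g⁻¹ * (w⁻¹ * u * w) * g ∈ PG := by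
      have := PG.mul_mem (PG.mul_mem hy h2) (PG.inv_mem hy)
      convert this using 1
      group
    have e1 : φ ⟨_, h2⟩ = φ ⟨_, h3⟩ := by
      have e : (⟨_, h2⟩ : PG) = ⟨y, hy⟩⁻¹ * ⟨_, h3⟩ * ⟨y, hy⟩ := Subtype.ext (by simp [mul_assoc])
      rw [e, map_mul, map_mul, map_inv, mul_comm (φ ⟨y, hy⟩)⁻¹, inv_mul_cancel_right]
    rw [e1, ← mul_inv_eq_one, ← map_inv, ← map_mul]
    refine hφ1 _ ?_
    have e : g⁻¹ * (w⁻¹ * u * w) * g * (g⁻¹ * u * g)⁻¹ = g⁻¹ * ⁅w⁻¹, u⁆ * g⁻¹⁻¹ := by
      rw [commutatorElement_def]; group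
    have h4 := hS2 w⁻¹ (PG.inv_mem hw) u hu g⁻¹ (e ▸ PG.mul_mem h3 (PG.inv_mem h1))
    rw [← e] at h4
    exact h4
  have hfixmem : ∀ x : G ⧸ PG, u • x = x → x.out⁻¹ * u * x.out ∈ PG := by
    intro x hx
    have h1 : (QuotientGroup.mk (u * x.out) : G ⧸ PG) = QuotientGroup.mk x.out := by
      show u • (QuotientGroup.mk x.out : G ⧸ PG) = QuotientGroup.mk x.out
      rw [QuotientGroup.out_eq']
      exact hx
    have h2 := PG.inv_mem (QuotientGroup.eq.mp h1)
    convert h2 using 1
    group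
  let F : G ⧸ PG → PG ⧸ N := fun x => if h : x.out⁻¹ * u * x.out ∈ PG then φ ⟨_, h⟩ else 1
  have : Fintype (G ⧸ PG) := Fintype.ofFinite _
  have : Fintype (Quotient (MulAction.orbitRel (Subgroup.zpowers u) (G ⧸ PG))) := Fintype.ofFinite _
  set Fx : Finset (G ⧸ PG) := Finset.univ.filter (fun x => u • x = x) with hFx
  have hV : MonoidHom.transfer φ u = ∏ x ∈ Fx, F x := by
    rw [MonoidHom.transfer_eq_prod_quotient_orbitRel_zpowers_quot]
    rw [← Finset.prod_filter_mul_prod_filter_not Finset.univ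
      (fun q : Quotient (MulAction.orbitRel (Subgroup.zpowers u) (G ⧸ PG)) => Function.minimalPeriod (u • ·) q.out = 1),
      Finset.prod_eq_one (s := Finset.univ.filter (fun q : Quotient (MulAction.orbitRel (Subgroup.zpowers u) (G ⧸ PG)) =>
        ¬ Function.minimalPeriod (u • ·) q.out = 1)), mul_one]
    · refine Finset.prod_bij (fun q _ => q.out) ?_ ?_ ?_ ?_
      · intro q hq
        rw [Finset.mem_filter] at hq
        exact Finset.mem_filter.mpr ⟨Finset.mem_univ _, (Function.minimalPeriod_eq_one_iff_isFixedPt).mp hq.2⟩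
      · intro a _ b _ h
        rw [← Quotient.out_eq a, ← Quotient.out_eq b, h]
      · intro x hx
        rw [Finset.mem_filter] at hx
        set q : Quotient (MulAction.orbitRel (Subgroup.zpowers u) (G ⧸ PG)) := ⟦x⟧
        have h1 : q.out = x := by
          obtain ⟨⟨z, hz⟩, hzx⟩ : q.out ∈ MulAction.orbit (Subgroup.zpowers u) x :=
            MulAction.orbitRel_apply.mp (Quotient.exact (Quotient.out_eq q))
          have : z ∈ MulAction.stabilizer G x := Subgroup.zpowers_le.mpr hx.2 hz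
          exact hzx.symm.trans this
        exact ⟨q, Finset.mem_filter.mpr ⟨Finset.mem_univ _,
          Function.minimalPeriod_eq_one_iff_isFixedPt.mpr (show u • q.out = q.out by rw [h1]; exact hx.2)⟩, h1⟩
      · intro q hq
        rw [Finset.mem_filter] at hq
        have hmem := hfixmem q.out (Function.minimalPeriod_eq_one_iff_isFixedPt.mp hq.2)
        simp only [F, dif_pos hmem]
        congr 1
        exact Subtype.ext (by simp only [hq.2, pow_one])
    · intro q hq
      rw [Finset.mem_filter] at hq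
      refine hsmall _ _ _ ?_
      set m := Function.minimalPeriod (u • ·) q.out with hm
      have hdvd : m ∣ orderOf u := by
        refine Function.IsPeriodicPt.minimalPeriod_dvd ?_
        show (fun y : G ⧸ PG => u • y)^[orderOf u] q.out = q.out
        rw [smul_iterate, pow_orderOf_eq_one]
        exact one_smul G _
      rw [orderOf_pow u, Nat.gcd_eq_right hdvd]
      have hm0 : m ≠ 0 := fun h0 => (orderOf_pos u).ne' (Nat.eq_zero_of_zero_dvd (h0 ▸ hdvd))
      exact Nat.div_lt_self (orderOf_pos u) (by omega)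
  have hV1 : MonoidHom.transfer φ u = 1 :=
    MonoidHom.mem_ker.mp (Abelianization.commutator_subset_ker _ huG)
  -- split into points fixed by P and the others
  let R : Finset (G ⧸ PG) := Finset.univ.filter (fun x => x ∈ MulAction.fixedPoints PG (G ⧸ PG))
  have hR : R ⊆ Fx := fun x hx => by
    rw [Finset.mem_filter] at hx ⊢
    exact ⟨Finset.mem_univ _, hx.2 ⟨u, hu⟩⟩
  have hval : ∀ x ∈ R, F x = φ ⟨u, hu⟩ := by
    intro x hx
    have hxu := hfixmem x (Finset.mem_filter.mp (hR hx)).2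
    simp only [F, dif_pos hxu]
    have hn : x.out ∈ Subgroup.normalizer ((PG : Subgroup G) : Set G) := by
      rw [← Sylow.mem_fixedPoints_mul_left_cosets_iff_mem_normalizer, QuotientGroup.out_eq']
      exact (Finset.mem_filter.mp hx).2
    rw [← mul_inv_eq_one, ← map_inv, ← map_mul]
    refine hφ1 _ ?_
    have hmem : x.out⁻¹ * u * x.out * u⁻¹ ∈ PG := PG.mul_mem hxu (PG.inv_mem hu)
    have e : x.out⁻¹ * u * x.out * u⁻¹ = ⁅x.out⁻¹, u⁆ := by rw [commutatorElement_def, inv_inv]
    have := hS1 u hu _ (Subgroup.inv_mem _ hn) (e ▸ hmem)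
    rw [← e] at this
    exact this
  have hrest : ∏ x ∈ Fx \ R, F x = 1 := by
    rw [← Finset.prod_fiberwise (Fx \ R) (fun x => (⟦x⟧ : Quotient (MulAction.orbitRel PG (G ⧸ PG))))]
    refine Finset.prod_eq_one fun c _ => ?_
    set T := (Fx \ R).filter (fun x => (⟦x⟧ : Quotient (MulAction.orbitRel PG (G ⧸ PG))) = c) with hT
    rcases T.eq_empty_or_nonempty with hTe | ⟨x₀, hx₀⟩
    · rw [hTe, Finset.prod_empty]
    rw [hT, Finset.mem_filter, Finset.mem_sdiff] at hx₀
    obtain ⟨⟨hx₀F, hx₀R⟩, hx₀c⟩ := hx₀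
    have hx₀u := (Finset.mem_filter.mp hx₀F).2
    have hmem₀ := hfixmem x₀ hx₀u
    have hconst : ∀ x ∈ T, F x = φ ⟨_, hmem₀⟩ := by
      intro x hx
      rw [hT, Finset.mem_filter, Finset.mem_sdiff] at hx
      have hmem := hfixmem x (Finset.mem_filter.mp hx.1.1).2
      simp only [F, dif_pos hmem]
      obtain ⟨⟨w, hw⟩, hwx⟩ : x ∈ MulAction.orbit PG x₀ :=
        MulAction.orbitRel_apply.mp (Quotient.exact (hx.2.trans hx₀c.symm))
      have h1 : (QuotientGroup.mk (w * x₀.out) : G ⧸ PG) = QuotientGroup.mk x.out := by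
        rw [QuotientGroup.out_eq', ← hwx]
        show w • (QuotientGroup.mk x₀.out : G ⧸ PG) = w • x₀
        rw [QuotientGroup.out_eq']
      have hy := QuotientGroup.eq.mp h1
      have e : w * x₀.out * ((w * x₀.out)⁻¹ * x.out) = x.out := mul_inv_cancel_left _ _
      have h2 : (w * x₀.out * ((w * x₀.out)⁻¹ * x.out))⁻¹ * u * (w * x₀.out * ((w * x₀.out)⁻¹ * x.out)) ∈ PG := by
        rw [e]; exact hmem
      rw [← hind x₀.out w _ hw hy hmem₀ h2]
      congr 1
      exact Subtype.ext (by simp only [e])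
    rw [Finset.prod_congr rfl hconst, Finset.prod_const]
    -- the value has order dividing p
    have hpow : φ ⟨_, hmem₀⟩ ^ p = 1 := by
      rcases eq_or_ne u 1 with rfl | hu1
      · rw [← map_pow]
        refine hφ1 _ ?_
        simp
      have hlt : orderOf (u ^ p) < orderOf u := by
        obtain ⟨j, hj⟩ := IsPGroup.iff_orderOf.mp P.2 ⟨u, hu⟩
        rw [Subgroup.orderOf_mk] at hj
        have hj0 : j ≠ 0 := fun h0 => hu1 (orderOf_eq_one_iff.mp (by rw [hj, h0, pow_zero]))
        rw [orderOf_pow u, hj, Nat.gcd_eq_right (dvd_pow_self p hj0)]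
        exact Nat.div_lt_self (pow_pos hp.pos _) hp.one_lt
      have e : (x₀.out⁻¹ * u * x₀.out) ^ p = x₀.out⁻¹ * u ^ p * x₀.out := by
        have h := map_pow (MulAut.conj x₀.out⁻¹) u p
        simp only [MulAut.conj_apply, inv_inv] at h
        exact h.symm
      have hm : x₀.out⁻¹ * u ^ p * x₀.out ∈ PG := e ▸ PG.pow_mem hmem₀ p
      rw [← map_pow, ← hsmall p x₀.out hm hlt]
      congr 1
      exact Subtype.ext (by simp [e])
    -- the number of terms is divisible by p
    obtain ⟨d, hd⟩ : p ∣ T.card := by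
      let U : Subgroup PG := Subgroup.zpowers ⟨u, hu⟩
      have hmod := (P.2.to_subgroup U).card_modEq_card_fixedPoints (MulAction.orbit PG x₀)
      have horb : p ∣ Nat.card (MulAction.orbit PG x₀) := by
        obtain ⟨j, hj⟩ := P.2.card_orbit x₀
        rw [hj]
        refine dvd_pow_self p fun h0 => hx₀R (Finset.mem_filter.mpr ⟨Finset.mem_univ _, fun w => ?_⟩)
        rw [h0, pow_zero, Nat.card_eq_one_iff_unique] at hj
        have := hj.1.elim ⟨w • x₀, MulAction.mem_orbit x₀ w⟩ ⟨x₀, MulAction.mem_orbit_self x₀⟩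
        exact congrArg Subtype.val this
      have hc : Nat.card (MulAction.fixedPoints U (MulAction.orbit PG x₀)) = T.card := by
        rw [← Nat.card_eq_finsetCard]
        refine Nat.card_eq_of_bijective (fun z => ⟨((z : MulAction.orbit PG x₀) : G ⧸ PG), ?_⟩) ⟨?_, ?_⟩
        · have hz : u • ((z : MulAction.orbit PG x₀) : G ⧸ PG) = ((z : MulAction.orbit PG x₀) : G ⧸ PG) :=
            congrArg Subtype.val (z.2 ⟨⟨u, hu⟩, Subgroup.mem_zpowers _⟩)
          rw [hT, Finset.mem_filter, Finset.mem_sdiff]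
          refine ⟨⟨Finset.mem_filter.mpr ⟨Finset.mem_univ _, hz⟩, fun hzR => hx₀R ?_⟩,
            (Quotient.sound (MulAction.orbitRel_apply.mpr (z : MulAction.orbit PG x₀).2)).trans hx₀c⟩
          obtain ⟨w, hw⟩ := (z : MulAction.orbit PG x₀).2
          have hfix := (Finset.mem_filter.mp hzR).2
          have : x₀ = ((z : MulAction.orbit PG x₀) : G ⧸ PG) := by
            rw [← hfix w⁻¹, ← hw, inv_smul_smul]
          exact this ▸ hzR
        · intro a b h
          exact Subtype.ext (Subtype.ext (congrArg Subtype.val h :))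
        · rintro ⟨x, hx⟩
          rw [hT, Finset.mem_filter, Finset.mem_sdiff] at hx
          have hxo : x ∈ MulAction.orbit PG x₀ :=
            MulAction.orbitRel_apply.mp (Quotient.exact (hx.2.trans hx₀c.symm))
          refine ⟨⟨⟨x, hxo⟩, ?_⟩, rfl⟩
          rintro ⟨z, hz⟩
          obtain ⟨i, rfl⟩ := Subgroup.mem_zpowers_iff.mp hz
          refine Subtype.ext ?_
          show (u ^ i) • x = x
          have hst : u ∈ MulAction.stabilizer G x := (Finset.mem_filter.mp hx.1.1).2
          exact (Subgroup.zpow_mem _ hst i :)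
      rw [← hc]
      exact (Nat.ModEq.dvd_iff hmod dvd_rfl).mp horb
    rw [hd, pow_mul, hpow, one_pow]
  rw [hV, ← Finset.prod_sdiff hR, hrest, one_mul, Finset.prod_congr rfl hval, Finset.prod_const] at hV1
  have hcop : ¬ p ∣ R.card := by
    have hmod := P.2.card_modEq_card_fixedPoints (G ⧸ PG)
    have hcard : Nat.card (MulAction.fixedPoints PG (G ⧸ PG)) = R.card := by
      rw [← Nat.card_eq_finsetCard]
      exact Nat.card_congr (Equiv.subtypeEquivRight fun x => by simp [R])
    rw [← hcard]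
    intro hd
    exact P.not_dvd_index ((Nat.ModEq.dvd_iff hmod dvd_rfl).mpr hd)
  obtain ⟨j, hj⟩ := IsPGroup.iff_orderOf.mp P.2 ⟨u, hu⟩
  have hj' : φ ⟨u, hu⟩ ^ p ^ j = 1 := by rw [← map_pow, ← hj, pow_orderOf_eq_one, map_one]
  have h1 : φ ⟨u, hu⟩ ^ Nat.gcd R.card (p ^ j) = 1 := pow_gcd_eq_one.mpr ⟨hV1, hj'⟩
  rw [(Nat.Coprime.pow_right _ ((hp.coprime_iff_not_dvd.mpr hcop).symm)).gcd_eq_one, pow_one] at h1
  exact ((QuotientGroup.eq_one_iff (⟨u, hu⟩ : PG)).mp h1 : (⟨u, hu⟩ : PG) ∈ N)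

/-- Grün's first Theorem: if `P` is a Sylow `p`-subgroup of the finite group `G`, then `P ∩ G'` is the subgroup generated by `P ∩ N_G(P)'` together with the subgroups `P ∩ z P' z⁻¹` for all `z ∈ G`, where `'` denotes the derived subgroup and `N_G(P)` the normalizer of `P`. -/
theorem result {G : Type*} [Group G] [Finite G] {p : ℕ} [Fact p.Prime] (P : Sylow p G) : (P : Subgroup G) ⊓ commutator G = ((P : Subgroup G) ⊓ ⁅Subgroup.normalizer ((P : Subgroup G) : Set G), Subgroup.normalizer ((P : Subgroup G) : Set G)⁆) ⊔ ⨆ z : G, (P : Subgroup G) ⊓ (⁅(P : Subgroup G), (P : Subgroup G)⁆).map (MulAut.conj z).toMonoidHom := by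
  refine le_antisymm ?_ (sup_le ?_ (iSup_le fun z => ?_))
  · intro u hu
    obtain ⟨hu, huG⟩ := Subgroup.mem_inf.mp hu
    refine mem_of_mem_commutator P _ ?_ ?_ ?_ _ u hu huG rfl
    · exact sup_le inf_le_left (iSup_le fun z => inf_le_left)
    · intro w hw n hn h
      refine Subgroup.mem_sup_left (Subgroup.mem_inf.mpr ⟨h, Subgroup.commutator_mem_commutator hn ?_⟩)
      exact Subgroup.le_normalizer hw
    · intro a ha b hb z h
      refine Subgroup.mem_sup_right (Subgroup.mem_iSup_of_mem z (Subgroup.mem_inf.mpr ⟨h, ?_⟩))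
      exact ⟨_, Subgroup.commutator_mem_commutator ha hb, rfl⟩
  · exact le_inf inf_le_left (inf_le_right.trans (Subgroup.commutator_mono le_top le_top))
  · refine le_inf inf_le_left (inf_le_right.trans ?_)
    rintro _ ⟨x, hx, rfl⟩
    exact (inferInstance : (commutator G).Normal).conj_mem x (Subgroup.commutator_mono le_top le_top hx) z

end Cfsg.Agent.S4216
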