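import Cfsg.Statements.S4217
import Mathlib
-- import your own Cfsg.Agent.* helpers here

set_option autoImplicit false
open Cfsg

namespace Cfsg.Agent.S4217

open scoped IsMulCommutative

/-- Crossed homomorphisms into `A` inducing the `z`-th power on `A`. -/
private def crossedDegrees {G : Type*} [Group G] (A : Subgroup G) [A.Normal] [IsMulCommutative A] : AddSubgroup ℤ where
  carrier := {z | ∃ f : G → A, (∀ g h : G, f (g * h) = f g * MulAut.conjNormal g (f h)) ∧ ∀ a : A, f a = a ^ z}
  zero_mem' := ⟨fun _ => 1, fun g h => by simp, fun a => by simp⟩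
  add_mem' := by
    rintro y z ⟨f, hf, hfa⟩ ⟨f', hf', hfa'⟩
    refine ⟨fun g => f g * f' g, fun g h => ?_, fun a => by dsimp only; rw [hfa, hfa', zpow_add]⟩
    dsimp only
    rw [hf, hf', map_mul, mul_mul_mul_comm]
  neg_mem' := by
    rintro z ⟨f, hf, hfa⟩
    refine ⟨fun g => (f g)⁻¹, fun g h => ?_, fun a => by dsimp only; rw [hfa, zpow_neg]⟩
    dsimp only
    rw [hf, map_inv, mul_inv]

/-- Corestriction of a splitting over an intermediate subgroup. -/
private theorem index_mem {G : Type*} [Group G] [Finite G] (A : Subgroup G) [A.Normal] [IsMulCommutative A]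
    (H K : Subgroup G) (hKA : K ⊓ A = ⊥) (hH : K ⊔ A = H) : (H.index : ℤ) ∈ crossedDegrees A := by
  classical
  have hAH : A ≤ H := hH ▸ le_sup_right
  have hdec : ∀ h : H, ∃ a : A, (a : G)⁻¹ * h ∈ K := by
    intro h
    obtain ⟨k, hk, a, ha, e⟩ := Subgroup.mem_sup_of_normal_right.mp (hH.symm ▸ h.2 : (h : G) ∈ K ⊔ A)
    refine ⟨⟨k * a * k⁻¹, (inferInstance : A.Normal).conj_mem a ha k⟩, ?_⟩
    rw [← e]
    have : (k * a * k⁻¹)⁻¹ * (k * a) = k := by group
    show (k * a * k⁻¹)⁻¹ * (k * a) ∈ K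
    rw [this]; exact hk
  choose φ hφ using hdec
  have huniq : ∀ (h : H) (a : A), (a : G)⁻¹ * h ∈ K → φ h = a := by
    intro h a ha
    have h1 := K.mul_mem ha (K.inv_mem (hφ h))
    have h2 : (a : G)⁻¹ * h * ((φ h : G)⁻¹ * h)⁻¹ = ((a⁻¹ * φ h : A) : G) := by simp [mul_assoc]
    have h3 : ((a⁻¹ * φ h : A) : G) ∈ K ⊓ A := Subgroup.mem_inf.mpr ⟨h2 ▸ h1, SetLike.coe_mem _⟩
    rw [hKA, Subgroup.mem_bot, ← Subgroup.coe_one A, Subtype.coe_inj, inv_mul_eq_one] at h3
    exact h3.symm
  have hmul : ∀ h h' : H, φ (h * h') = φ h * MulAut.conjNormal (h : G) (φ h') := by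
    intro h h'
    refine huniq _ _ ?_
    have hk := K.mul_mem (hφ h) (hφ h')
    have hc : MulAut.conjNormal (h : G) (φ h') = MulAut.conjNormal ((φ h : G)⁻¹ * h) (φ h') := by
      refine Subtype.ext ?_
      have hcm : ((φ h : G)) * (((φ h : G)⁻¹ * h) * φ h' * ((φ h : G)⁻¹ * h)⁻¹) =
          ((φ h : G)⁻¹ * h) * φ h' * ((φ h : G)⁻¹ * h)⁻¹ * φ h := by
        have := congrArg Subtype.val (mul_comm (φ h) (MulAut.conjNormal ((φ h : G)⁻¹ * h) (φ h')))
        simp only [Subgroup.coe_mul, MulAut.conjNormal_apply] at this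
        exact this
      simp only [MulAut.conjNormal_apply]
      calc (h : G) * φ h' * (h : G)⁻¹
          = (φ h : G) * (((φ h : G)⁻¹ * h) * φ h' * ((φ h : G)⁻¹ * h)⁻¹) * (φ h : G)⁻¹ := by group
        _ = ((φ h : G)⁻¹ * h) * φ h' * ((φ h : G)⁻¹ * h)⁻¹ := by rw [hcm, mul_inv_cancel_right]
    rw [hc]
    convert hk using 1
    simp only [Subgroup.coe_mul, MulAut.conjNormal_apply]
    group
  have hA : ∀ a : A, φ ⟨a, hAH a.2⟩ = a := fun a => huniq _ a (by simp)
  have : Fintype (G ⧸ H) := Fintype.ofFinite _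
  let t : G ⧸ H → G := Quotient.out
  have ht : ∀ (g : G) (x : G ⧸ H), (t (g • x))⁻¹ * g * t x ∈ H := fun g x => by
    rw [mul_assoc]
    refine QuotientGroup.eq.mp ?_
    show (QuotientGroup.mk (t (g • x)) : G ⧸ H) = g • (QuotientGroup.mk (t x) : G ⧸ H)
    simp only [t, QuotientGroup.out_eq']
  let T : G → G ⧸ H → A := fun g x => MulAut.conjNormal (t (g • x)) (φ ⟨_, ht g x⟩)
  refine ⟨fun g => ∏ x, T g x, fun g h => ?_, fun a => ?_⟩
  · have hT : ∀ x, T (g * h) x = T g (h • x) * MulAut.conjNormal g (T h x) := by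
      intro x
      have e : (⟨_, ht (g * h) x⟩ : H) = ⟨_, ht g (h • x)⟩ * ⟨_, ht h x⟩ := by
        refine Subtype.ext ?_
        simp only [Subgroup.coe_mul, mul_smul]
        group
      simp only [T]
      rw [e, hmul, map_mul]
      simp only [mul_smul]
      congr 1
      simp only [← MulAut.mul_apply, ← map_mul]
      congr 2
      group
    dsimp only
    rw [Finset.prod_congr rfl (fun x _ => hT x), Finset.prod_mul_distrib, map_prod]
    congr 1
    exact Fintype.prod_equiv (MulAction.toPerm h) _ _ (fun x => rfl)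
  · have hfix : ∀ x : G ⧸ H, (a : G) • x = x := by
      intro x
      induction x using QuotientGroup.induction_on with
      | _ y =>
        refine QuotientGroup.eq.mpr ?_
        refine hAH ?_
        have := (inferInstance : A.Normal).conj_mem _ (A.inv_mem a.2) y⁻¹
        simpa [mul_assoc] using this
    have hT : ∀ x, T a x = a := by
      intro x
      have hm : (t x)⁻¹ * a * t x ∈ A := by simpa using (inferInstance : A.Normal).conj_mem a a.2 (t x)⁻¹
      have e : (⟨_, ht a x⟩ : H) = ⟨((⟨_, hm⟩ : A) : G), hAH hm⟩ := Subtype.ext (by simp only [hfix])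
      simp only [T]
      rw [e, hA]
      exact Subtype.ext (by simp [MulAut.conjNormal_apply, hfix, mul_assoc])
    show ∏ x, T a x = a ^ (H.index : ℤ)
    rw [Finset.prod_congr rfl (fun x _ => hT x), Finset.prod_const, zpow_natCast, Finset.card_univ,
      ← Nat.card_eq_fintype_card, Subgroup.index]

/-- Let `A` be an abelian normal subgroup of the finite group `G`. Then `A` has a complement in `G` if and only if, for every prime `p` dividing the index of `A`, there are a Sylow `p`-subgroup `S` of `G/A` and a subgroup `K` of `G` with `K ∩ A = 1` and `KA` equal to the preimage of `S` (that is, `A` has a complement in the preimage of a Sylow `p`-subgroup of `G/A`). -/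
theorem result {G : Type*} [Group G] [Finite G] (A : Subgroup G) [A.Normal] (hA : IsMulCommutative A) : (∃ K : Subgroup G, K.IsComplement' A) ↔ ∀ p : ℕ, p.Prime → p ∣ A.index → ∃ (S : Sylow p (G ⧸ A)) (K : Subgroup G), K ⊓ A = ⊥ ∧ K ⊔ A = (S : Subgroup (G ⧸ A)).comap (QuotientGroup.mk' A) := by
  have := hA
  constructor
  · rintro ⟨K, hK⟩ p hp -
    have : Fact p.Prime := ⟨hp⟩
    obtain ⟨S⟩ : Nonempty (Sylow p (G ⧸ A)) := Sylow.nonempty
    refine ⟨S, K ⊓ (S : Subgroup (G ⧸ A)).comap (QuotientGroup.mk' A), ?_, ?_⟩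
    · exact eq_bot_iff.mpr ((inf_le_inf_right A inf_le_left).trans hK.disjoint.le_bot)
    · have hAC : A ≤ (S : Subgroup (G ⧸ A)).comap (QuotientGroup.mk' A) :=
        (QuotientGroup.ker_mk' A).symm.trans_le (Subgroup.ker_le_comap _ _)
      refine le_antisymm (sup_le inf_le_right hAC) fun g hg => ?_
      obtain ⟨k, hk, a, ha, rfl⟩ := Subgroup.mem_sup_of_normal_right.mp (hK.sup_eq_top ▸ Subgroup.mem_top g)
      refine Subgroup.mul_mem_sup (Subgroup.mem_inf.mpr ⟨hk, ?_⟩) ha
      have := Subgroup.mul_mem _ hg (Subgroup.inv_mem _ (hAC ha))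
      rwa [mul_inv_cancel_right] at this
  · intro h
    by_cases h1 : A.index = 1
    · rw [Subgroup.index_eq_one] at h1
      subst h1
      exact ⟨⊥, Subgroup.isComplement'_bot_top⟩
    obtain ⟨d, hd⟩ := Int.subgroup_cyclic (crossedDegrees A)
    have hdvd : ∀ z, z ∈ crossedDegrees A ↔ d ∣ z := fun z => by
      rw [hd, AddSubgroup.mem_closure_singleton]
      exact ⟨fun ⟨k, hk⟩ => ⟨k, by rw [← hk, smul_eq_mul, mul_comm]⟩,
        fun ⟨k, hk⟩ => ⟨k, by rw [hk, smul_eq_mul, mul_comm]⟩⟩
    have hone : d.natAbs = 1 := by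
      by_contra hne
      obtain ⟨q, hq, hqd⟩ := Nat.exists_prime_and_dvd hne
      have key : ∀ p : ℕ, p.Prime → p ∣ A.index → ∃ S : Sylow p (G ⧸ A), q ∣ (S : Subgroup (G ⧸ A)).index := by
        intro p hp hpd
        obtain ⟨S, K, hK1, hK2⟩ := h p hp hpd
        refine ⟨S, hqd.trans ?_⟩
        have := (hdvd _).mp (index_mem A _ K hK1 hK2)
        rw [Subgroup.index_comap_of_surjective _ (QuotientGroup.mk'_surjective A)] at this
        exact Int.natAbs_dvd_natAbs.mpr this
      obtain ⟨p, hp, hpd⟩ := Nat.exists_prime_and_dvd h1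
      obtain ⟨S, hS⟩ := key p hp hpd
      have hqA : q ∣ A.index := hS.trans (Subgroup.index_dvd_card _)
      have : Fact q.Prime := ⟨hq⟩
      obtain ⟨S', hS'⟩ := key q hq hqA
      exact S'.not_dvd_index hS'
    obtain ⟨f, hf, hfa⟩ := (hdvd 1).mpr (Int.natAbs_dvd.mp (by rw [hone]; norm_num))
    have hf1 : f 1 = 1 := by
      have := hfa 1
      rwa [one_zpow] at this
    let K : Subgroup G :=
      { carrier := {g | f g = 1}
        one_mem' := hf1
        mul_mem' := fun {x y} (hx : f x = 1) (hy : f y = 1) => by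
          show f (x * y) = 1
          rw [hf, hx, hy, map_one, one_mul]
        inv_mem' := fun {x} (hx : f x = 1) => by
          show f x⁻¹ = 1
          have := hf x x⁻¹
          rw [mul_inv_cancel, hf1, hx, one_mul] at this
          exact (MulAut.conjNormal x).injective (this.symm.trans (map_one _).symm) }
    refine ⟨K, Subgroup.isComplement'_of_disjoint_and_mul_eq_univ ?_ ?_⟩
    · rw [disjoint_iff, eq_bot_iff]
      rintro g ⟨hg1, hg2⟩
      have := hfa ⟨g, hg2⟩
      rw [zpow_one] at this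
      exact Subgroup.mem_bot.mpr (congrArg Subtype.val (this.symm.trans hg1))
    · refine Set.eq_univ_of_forall fun g => ?_
      have hk : ((f g : G))⁻¹ * g ∈ K := by
        show f ((f g : G)⁻¹ * g) = 1
        have h2 := hfa (f g)⁻¹
        rw [zpow_one, Subgroup.coe_inv] at h2
        rw [hf, h2, show MulAut.conjNormal (f g : G)⁻¹ (f g) = f g from Subtype.ext (by simp [MulAut.conjNormal_apply]), inv_mul_cancel]
      refine ⟨_, hk, g⁻¹ * f g * g, by simpa using (inferInstance : A.Normal).conj_mem _ (f g).2 g⁻¹, by group⟩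

end Cfsg.Agent.S4217
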