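import Cfsg.Statements.S4218
import Mathlib
import Cfsg.Agent.Lib.Blocks.HallHigman
import Cfsg.Agent.Lib.CoprimeGen
-- import your own Cfsg.Agent.* helpers here

set_option autoImplicit false
open Cfsg

namespace Cfsg.Agent.S4218

open scoped commutatorElement

/-- Let `G` be a finite `p`-solvable group, `N₀ = O_{p'}(G)`, `P₁ = O_{p',p}(G)`, and let `F ≤ P₁` be the preimage of the Frattini subgroup of `P₁/N₀`. Then an element `g` of `G` induces the identity on `P₁/F` by conjugation (that is, `g x g⁻¹ x⁻¹ ∈ F` for all `x ∈ P₁`) if and only if `g ∈ P₁`: the group `G/P₁` acts faithfully on `P₁/F`. -/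
theorem result {G : Type*} [Group G] [Finite G] {p : ℕ} [Fact p.Prime] (hG : Cfsg.IsPSolvable p G) (g : G) : (∀ x ∈ Cfsg.pPrimePCore p G, g * x * g⁻¹ * x⁻¹ ∈ ((frattini (↥(Cfsg.pPrimePCore p G) ⧸ (Cfsg.pPrimeCore p G).subgroupOf (Cfsg.pPrimePCore p G))).comap (QuotientGroup.mk' ((Cfsg.pPrimeCore p G).subgroupOf (Cfsg.pPrimePCore p G)))).map (Cfsg.pPrimePCore p G).subtype) ↔ g ∈ Cfsg.pPrimePCore p G := by
  set P₁ := pPrimePCore p G with hP₁
  set N₀ := pPrimeCore p G with hN₀
  set q := QuotientGroup.mk' N₀ with hq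
  have hN₀P : N₀ ≤ P₁ := QuotientGroup.le_comap_mk' N₀ _
  have hQn : (pCore p (G ⧸ N₀)).Normal := CfsgLib.Blocks.pCore_normal'
  set Qp := pCore p (G ⧸ N₀) with hQp
  have hQpp : IsPGroup p Qp := CfsgLib.isPGroup_pCore p
  let f : P₁ →* Qp := (q.comp P₁.subtype).codRestrict Qp (fun x => x.2)
  have hf : Function.Surjective f := by
    rintro ⟨y, hy⟩
    obtain ⟨x, rfl⟩ := QuotientGroup.mk'_surjective N₀ y
    exact ⟨⟨x, hy⟩, rfl⟩
  have hker : f.ker = N₀.subgroupOf P₁ := by
    ext x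
    rw [MonoidHom.mem_ker, Subgroup.mem_subgroupOf]
    exact Subtype.ext_iff.trans (QuotientGroup.eq_one_iff (x : G))
  set W := (frattini Qp).map Qp.subtype with hW
  have hWn : W.Normal := by
    have h1 := (CfsgLib.le_normalizer_map_characteristic (A := (⊤ : Subgroup (G ⧸ N₀))) (K := Qp)
      (by rw [Subgroup.normalizer_eq_top_iff.mpr hQn]) (frattini Qp)).1
    exact Subgroup.normalizer_eq_top_iff.mp (top_unique h1)
  -- transport of the Frattini subgroup
  have hmem : ∀ c : P₁, (c : G) ∈ (((frattini (↥P₁ ⧸ N₀.subgroupOf P₁)).comap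
      (QuotientGroup.mk' (N₀.subgroupOf P₁))).map P₁.subtype) ↔ q c ∈ W := by
    intro c
    let ψ : (↥P₁ ⧸ N₀.subgroupOf P₁) ≃* Qp :=
      (QuotientGroup.quotientMulEquivOfEq hker.symm).trans (QuotientGroup.quotientKerEquivOfSurjective f hf)
    have hfr : frattini (↥P₁ ⧸ N₀.subgroupOf P₁) = (frattini Qp).comap ψ.toMonoidHom :=
      le_antisymm (frattini_le_comap_frattini_of_surjective ψ.surjective) (fun y hy => by
        have h1 : (frattini Qp) ≤ (frattini (↥P₁ ⧸ N₀.subgroupOf P₁)).comap ψ.symm.toMonoidHom :=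
          frattini_le_comap_frattini_of_surjective ψ.symm.surjective
        simpa using h1 hy)
    rw [Subgroup.mem_map, hW]
    constructor
    · rintro ⟨d, hd, hdc⟩
      obtain rfl : d = c := Subtype.ext hdc
      rw [Subgroup.mem_comap, hfr] at hd
      exact ⟨_, hd, rfl⟩
    · rintro ⟨z, hz, hzc⟩
      refine ⟨c, ?_, rfl⟩
      rw [Subgroup.mem_comap, hfr]
      obtain rfl : z = f c := Subtype.ext hzc
      exact hz
  set S : Subgroup (G ⧸ N₀) := (Subgroup.centralizer
    ((Qp.map (QuotientGroup.mk' W) : Subgroup ((G ⧸ N₀) ⧸ W)) : Set ((G ⧸ N₀) ⧸ W))).comap (QuotientGroup.mk' W) with hS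
  have hSmem : ∀ y, y ∈ S ↔ ∀ z ∈ Qp, y * z * y⁻¹ * z⁻¹ ∈ W := by
    intro y
    constructor
    · intro hy z hz
      rw [← QuotientGroup.eq_one_iff]
      have h1 := hy _ ⟨z, hz, rfl⟩
      simp only [QuotientGroup.mk'_apply] at h1
      rw [QuotientGroup.mk_mul, QuotientGroup.mk_mul, QuotientGroup.mk_mul, QuotientGroup.mk_inv,
        QuotientGroup.mk_inv, ← h1]
      group
    · rintro h _ ⟨z, hz, rfl⟩
      have h1 := (QuotientGroup.eq_one_iff _).mpr (h z hz)
      rw [QuotientGroup.mk_mul, QuotientGroup.mk_mul, QuotientGroup.mk_mul, QuotientGroup.mk_inv,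
        QuotientGroup.mk_inv] at h1
      simp only [QuotientGroup.mk'_apply]
      rw [mul_inv_eq_one, mul_inv_eq_iff_eq_mul] at h1
      exact h1.symm
  have hcond : (∀ x ∈ P₁, g * x * g⁻¹ * x⁻¹ ∈ (((frattini (↥P₁ ⧸ N₀.subgroupOf P₁)).comap
      (QuotientGroup.mk' (N₀.subgroupOf P₁))).map P₁.subtype)) ↔ q g ∈ S := by
    rw [hSmem]
    have hin : ∀ x ∈ P₁, g * x * g⁻¹ * x⁻¹ ∈ P₁ := fun x hx =>
      P₁.mul_mem ((hQn.comap q).conj_mem x hx g) (P₁.inv_mem hx)
    constructor
    · intro h z hz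
      obtain ⟨x, rfl⟩ := QuotientGroup.mk'_surjective N₀ z
      have h1 := (hmem ⟨_, hin x hz⟩).mp (h x hz)
      rw [map_mul, map_mul, map_mul, map_inv, map_inv] at h1
      exact h1
    · intro h x hx
      refine (hmem ⟨_, hin x hx⟩).mpr ?_
      simpa using h (q x) hx
  rw [hcond]
  have hhh : Subgroup.centralizer (Qp : Set (G ⧸ N₀)) ≤ Qp :=
    CfsgLib.Blocks.hall_higman (Cfsg.Agent.S3744.isPSolvable_quotient hG N₀) (CfsgLib.pPrimeCore_quotient_eq_bot p)
  constructor
  · intro hgS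
    have hSn : S.Normal := by
      have : (Qp.map (QuotientGroup.mk' W)).Normal := hQn.map _ (QuotientGroup.mk'_surjective _)
      rw [hS]
      infer_instance
    have hSp : IsPGroup p S := by
      rintro ⟨y, hy⟩
      obtain ⟨k, c, hc, ho⟩ := Nat.exists_eq_pow_mul_and_not_dvd (orderOf_pos y).ne' p (Fact.out : p.Prime).one_lt.ne'
      set a := y ^ p ^ k with ha
      have hac : a ^ c = 1 := by rw [ha, ← pow_mul, ← ho, pow_orderOf_eq_one]
      obtain ⟨b, hb⟩ := IsPGroup.iff_card.mp hQpp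
      have hA : Subgroup.zpowers a ≤ Subgroup.centralizer (Qp : Set (G ⧸ N₀)) := by
        refine CfsgLib.centralize_of_trivial_mod_frattini (by rw [Subgroup.normalizer_eq_top_iff.mpr hQn]; exact le_top) ?_ ?_
        · rw [Nat.card_zpowers]
          refine Nat.Coprime.coprime_dvd_left (orderOf_dvd_of_pow_eq_one hac) ?_
          refine Nat.Coprime.coprime_dvd_right (hb ▸ Subgroup.card_subgroup_dvd_card (frattini Qp)) ?_
          exact (((Fact.out : p.Prime).coprime_iff_not_dvd.mpr hc).symm).pow_right b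
        · rintro _ ⟨j, rfl⟩ z hz
          exact (hSmem _).mp (Subgroup.zpow_mem _ (Subgroup.pow_mem _ hy _) j) z hz
      have haQ : a ∈ Qp := hhh (hA (Subgroup.mem_zpowers a))
      have ha1 : a = 1 := by
        rw [← orderOf_eq_one_iff]
        refine Nat.eq_one_of_dvd_coprimes (((Fact.out : p.Prime).coprime_iff_not_dvd.mpr hc).pow_left b) ?_
          (orderOf_dvd_of_pow_eq_one hac)
        rw [← hb, ← Subgroup.orderOf_mk a haQ]
        exact orderOf_dvd_natCard _
      exact ⟨k, Subtype.ext ha1⟩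
    exact CfsgLib.le_pCore hSp hgS
  · intro hg
    rw [hSmem]
    intro z hz
    exact ⟨⁅(⟨q g, hg⟩ : Qp), ⟨z, hz⟩⁆, CfsgLib.commutator_le_frattini_pGroup hQpp
      (Subgroup.commutator_mem_commutator (Subgroup.mem_top _) (Subgroup.mem_top _)), rfl⟩

end Cfsg.Agent.S4218
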