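import Cfsg.Statements.S4219
import Mathlib
-- import your own Cfsg.Agent.* helpers here

set_option autoImplicit false
open Cfsg

namespace Cfsg.Agent.S4219

open scoped Pointwise

/-- Let a finite group `G` act `t`-fold transitively on a finite set, let `H` be the stabilizer of `t` distinct points and `P` a Sylow `p`-subgroup of `H`. Then the normalizer of `P` in `G` is `t`-fold transitive on the fixed points of `P`: any `t` distinct fixed points of `P` can be carried to any other `t` distinct fixed points of `P` by an element normalizing `P`. -/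
theorem result {G : Type*} [Group G] [Finite G] {α : Type*} [Fintype α] [MulAction G α] {t : ℕ} (hG : MulAction.IsMultiplyPretransitive G α t) (x : Fin t ↪ α) {p : ℕ} [Fact p.Prime] (P : Sylow p (MulAction.stabilizer G x)) (a b : Fin t ↪ α) (ha : ∀ i, a i ∈ MulAction.fixedPoints ((P : Subgroup (MulAction.stabilizer G x)).map (MulAction.stabilizer G x).subtype) α) (hb : ∀ i, b i ∈ MulAction.fixedPoints ((P : Subgroup (MulAction.stabilizer G x)).map (MulAction.stabilizer G x).subtype) α) : ∃ g ∈ Subgroup.normalizer ((((P : Subgroup (MulAction.stabilizer G x)).map (MulAction.stabilizer G x).subtype) : Subgroup G) : Set G), g • a = b := by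
  set Q := (P : Subgroup (MulAction.stabilizer G x)).map (MulAction.stabilizer G x).subtype with hQ
  have hfix : ∀ c : Fin t ↪ α, (∀ i, c i ∈ MulAction.fixedPoints Q α) → Q ≤ MulAction.stabilizer G c := by
    intro c hc g hg
    rw [MulAction.mem_stabilizer_iff]
    exact DFunLike.ext _ _ fun i => hc i ⟨g, hg⟩
  have htr : ∀ u v : Fin t ↪ α, ∃ g : G, g • u = v := fun u v =>
    MulAction.IsPretransitive.exists_smul_eq (self := hG) u v
  obtain ⟨g0, hg0⟩ := htr a b
  obtain ⟨h, hh⟩ := htr x b
  set B := MulAction.stabilizer G b with hB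
  have hQp : IsPGroup p Q := P.isPGroup'.map _
  have hQB : Q ≤ B := hfix b hb
  have hQ' : Q.map (MulAut.conj g0).toMonoidHom ≤ B := by
    rintro _ ⟨g, hg, rfl⟩
    rw [hB, MulAction.mem_stabilizer_iff]
    show (g0 * g * g0⁻¹) • b = b
    rw [← hg0, mul_smul, mul_smul, inv_smul_smul, MulAction.mem_stabilizer_iff.mp (hfix a ha hg)]
  have hBc : Nat.card B = Nat.card (MulAction.stabilizer G x) :=
    Nat.card_congr (MulAction.stabilizerEquivStabilizerOfOrbitRel ⟨h, hh⟩).toEquiv
  have hQc : Nat.card Q = p ^ (Nat.card B).factorization p := by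
    rw [hQ, Subgroup.card_map_of_injective (MulAction.stabilizer G x).subtype_injective, hBc,
      P.card_eq_multiplicity]
  let S1 : Sylow p B := Sylow.ofCard (Q.subgroupOf B) (by
    rw [Nat.card_congr (Subgroup.subgroupOfEquivOfLe hQB).toEquiv, hQc])
  let S2 : Sylow p B := Sylow.ofCard ((Q.map (MulAut.conj g0).toMonoidHom).subgroupOf B) (by
    rw [Nat.card_congr (Subgroup.subgroupOfEquivOfLe hQ').toEquiv,
      Subgroup.card_map_of_injective (f := (MulAut.conj g0).toMonoidHom) (MulAut.conj g0).injective, hQc])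
  obtain ⟨c, hc⟩ := MulAction.exists_smul_eq B S2 S1
  have hc' := congrArg (fun S : Sylow p B => (S : Subgroup B).map B.subtype) hc
  simp only [Sylow.coe_subgroup_smul, S1, S2, Sylow.coe_ofCard, Subgroup.map_subgroupOf_eq_of_le hQB] at hc'
  have hle : Q.map (MulAut.conj ((c : G) * g0)).toMonoidHom ≤ Q := by
    rintro _ ⟨g, hg, rfl⟩
    have hm : (c : G) * (g0 * g * g0⁻¹) * (c : G)⁻¹ ∈
        ((MulAut.conj c • (Q.map (MulAut.conj g0).toMonoidHom).subgroupOf B).map B.subtype) := by
      refine ⟨c * ⟨g0 * g * g0⁻¹, hQ' ⟨g, hg, rfl⟩⟩ * c⁻¹, ?_, rfl⟩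
      exact Subgroup.smul_mem_pointwise_smul _ (MulAut.conj c) _ (Subgroup.mem_subgroupOf.mpr ⟨g, hg, rfl⟩)
    rw [hc'] at hm
    show (c : G) * g0 * g * ((c : G) * g0)⁻¹ ∈ Q
    rwa [show (c : G) * g0 * g * ((c : G) * g0)⁻¹ = (c : G) * (g0 * g * g0⁻¹) * (c : G)⁻¹ by group]
  have heq := Subgroup.eq_of_le_of_card_ge hle (le_of_eq (Subgroup.card_map_of_injective
    (f := (MulAut.conj ((c : G) * g0)).toMonoidHom) (MulAut.conj ((c : G) * g0)).injective).symm)
  refine ⟨(c : G) * g0, Subgroup.mem_normalizer_iff.mpr fun z => ?_, ?_⟩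
  · conv_rhs => rw [← heq]
    exact (Subgroup.mem_map_iff_mem (f := (MulAut.conj ((c : G) * g0)).toMonoidHom)
      (MulAut.conj ((c : G) * g0)).injective).symm
  · rw [mul_smul, hg0]
    exact MulAction.mem_stabilizer_iff.mp c.2

end Cfsg.Agent.S4219
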