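import Cfsg.Statements.S4220
import Mathlib
import Cfsg.Agent.S0415
import Cfsg.Agent.S0713
import Cfsg.Agent.S4219
import Cfsg.Agent.Lib.TwoPrimesAlt
-- import your own Cfsg.Agent.* helpers here

set_option autoImplicit false
open Cfsg

namespace Cfsg.Agent.S4220

open Equiv Equiv.Perm MulAction
open scoped Pointwise commutatorElement

set_option maxHeartbeats 1000000

theorem inj4 {β : Type*} (a b c d : β) (h : [a, b, c, d].Nodup) : Function.Injective ![a, b, c, d] := fun i j e => by
  simp only [List.nodup_cons, List.mem_cons, List.not_mem_nil, not_or, not_false_eq_true, List.nodup_nil, and_true] at h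
  fin_cases i <;> fin_cases j <;> first | rfl | (simp at e; grind)

/-- A subgroup containing a double transposition and four-fold transitive contains the alternating group. -/
theorem double_trick {α : Type*} [Fintype α] [DecidableEq α] (G : Subgroup (Perm α))
    (h4 : IsMultiplyPretransitive G α 4) (h5 : 5 ≤ Fintype.card α) {a b c d : α}
    (hd : [a, b, c, d].Nodup) (hg : swap a b * swap c d ∈ G) : alternatingGroup α ≤ G := by
  classical
  simp only [List.nodup_cons, List.mem_cons, List.not_mem_nil, not_or, not_false_eq_true, List.nodup_nil, and_true] at hd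
  obtain ⟨⟨hab, hac, had⟩, ⟨hbc, hbd⟩, hcd⟩ := hd
  obtain ⟨e, he⟩ : ∃ e, e ∉ ({a, b, c, d} : Finset α) := by
    by_contra h
    push Not at h
    have h1 : (Finset.univ : Finset α).card ≤ ({a, b, c, d} : Finset α).card := Finset.card_le_card fun u _ => h u
    have h2 : ({a, b, c, d} : Finset α).card ≤ 4 := Finset.card_le_four
    rw [Finset.card_univ] at h1
    omega
  simp only [Finset.mem_insert, Finset.mem_singleton, not_or] at he
  obtain ⟨hea, heb, hec, hed⟩ := he
  let u : Fin 4 ↪ α := ⟨![a, b, c, d], inj4 _ _ _ _ (by simp_all [eq_comm])⟩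
  let v : Fin 4 ↪ α := ⟨![a, b, c, e], inj4 _ _ _ _ (by simp_all [eq_comm])⟩
  haveI := h4
  obtain ⟨h, hh⟩ := exists_smul_eq G u v
  have ha : (h : Perm α) a = a := DFunLike.congr_fun hh 0
  have hb : (h : Perm α) b = b := DFunLike.congr_fun hh 1
  have hc : (h : Perm α) c = c := DFunLike.congr_fun hh 2
  have hd' : (h : Perm α) d = e := DFunLike.congr_fun hh 3
  have hconj : (h : Perm α) * (swap a b * swap c d) * (h : Perm α)⁻¹ = swap a b * swap c e := by
    conv_rhs => rw [← ha, ← hb, ← hc, ← hd']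
    rw [swap_apply_apply, swap_apply_apply]
    group
  have hmem := G.mul_mem hg (hconj ▸ G.mul_mem (G.mul_mem h.2 hg) (G.inv_mem h.2))
  have hcomm : swap c d * swap a b = swap a b * swap c d := by
    ext u; simp only [Perm.mul_apply, swap_apply_def]; grind
  rw [show swap a b * swap c d * (swap a b * swap c e) = swap a b * (swap c d * swap a b) * swap c e by group, hcomm,
    show swap a b * (swap a b * swap c d) * swap c e = (swap a b * swap a b) * (swap c d * swap c e) by group,
    swap_mul_self, one_mul] at hmem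
  haveI : IsMultiplyPretransitive G α 2 := isMultiplyPretransitive_of_le (n := 4) (by norm_num)
    (by rw [Nat.card_eq_fintype_card]; omega)
  exact alternatingGroup_le_of_isPreprimitive_of_isThreeCycle_mem
    (isPreprimitive_of_is_two_pretransitive inferInstance) (isThreeCycle_swap_mul_swap_same hcd (Ne.symm hec) (Ne.symm hed)) hmem

theorem sq_three {β : Type*} [DecidableEq β] {a b d : β} (hab : a ≠ b) (had : a ≠ d) (hbd : b ≠ d) :
    swap a b * swap a d * (swap a b * swap a d) = swap a d * swap a b := by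
  ext u; simp only [Perm.mul_apply, swap_apply_def]; grind

theorem alt_le_nine {α : Type*} [Fintype α] [DecidableEq α] (G : Subgroup (Perm α))
    (h4 : IsMultiplyPretransitive G α 4) (h9 : Fintype.card α = 9) : alternatingGroup α ≤ G := by
  classical
  haveI := h4
  haveI : IsMultiplyPretransitive G α 2 := isMultiplyPretransitive_of_le (n := 4) (by norm_num)
    (by rw [Nat.card_eq_fintype_card]; omega)
  have hprim : IsPreprimitive G α := isPreprimitive_of_is_two_pretransitive inferInstance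
  by_cases hs : ∀ x : Fin 4 ↪ α, stabilizer G x = ⊥
  · rcases Cfsg.Agent.S0415.result G (by omega) hs with h | h | h | h <;> omega
  push Not at hs
  obtain ⟨x, hx⟩ := hs
  obtain ⟨q, hq, hqd⟩ := Nat.exists_prime_and_dvd (n := Nat.card (stabilizer G x))
    (fun h => hx (Subgroup.card_eq_one.mp h))
  haveI := Fact.mk hq
  obtain ⟨g, hg⟩ := exists_prime_orderOf_dvd_card' q hqd
  rw [← Subgroup.orderOf_coe, ← Subgroup.orderOf_coe] at hg
  set σ : Perm α := ((g : G) : Perm α) with hσ
  have hfix : ∀ i, σ (x i) = x i := fun i => DFunLike.congr_fun g.2 i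
  have hsub : σ.support ⊆ (Finset.univ.map x)ᶜ := fun u hu => by
    rw [Finset.mem_compl, Finset.mem_map]
    rintro ⟨i, -, rfl⟩
    exact Perm.mem_support.mp hu (hfix i)
  have hc : σ.support.card ≤ 5 := by
    have := Finset.card_le_card hsub
    rwa [Finset.card_compl, Finset.card_map, Finset.card_univ, Fintype.card_fin, h9] at this
  obtain ⟨m, hm, hcyc, -⟩ := CfsgLib.TwoPrimesAlt.supp_info σ hq hg
  have hmem : σ ∈ G := (g : G).2
  have hsucc : q ≤ (m + 1) * q := Nat.le_mul_of_pos_left q (Nat.succ_pos m)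
  rcases Nat.eq_zero_or_pos m with rfl | hm0
  · exact Cfsg.Agent.S0713.result G hprim hq (by omega) (by omega) (hcyc rfl) (by omega) hmem
  have h2q : 2 * q ≤ 5 := le_trans (Nat.mul_le_mul_right q (by omega)) (hm ▸ hc)
  obtain rfl : q = 2 := le_antisymm (by omega) hq.two_le
  have hm1 : m = 1 := by omega
  subst hm1
  obtain ⟨n, hn⟩ := Perm.cycleType_prime_order (σ := σ) (hg ▸ hq)
  have hn1 : n = 1 := by
    have h2 := σ.sum_cycleType
    rw [hn, Multiset.sum_replicate, smul_eq_mul, hg, hm] at h2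
    omega
  -- a double transposition
  have hinv : ∀ u, σ (σ u) = u := fun u => by
    have h2 : σ ^ 2 = 1 := hg ▸ pow_orderOf_eq_one σ
    have := DFunLike.congr_fun h2 u
    rwa [pow_two, Perm.mul_apply, Perm.one_apply] at this
  obtain ⟨a, ha⟩ := Finset.card_pos.mp (show 0 < σ.support.card by omega)
  have ha' := Perm.mem_support.mp ha
  obtain ⟨c, hc', hca⟩ : ∃ c ∈ σ.support, c ∉ ({a, σ a} : Finset α) := Finset.exists_mem_notMem_of_card_lt_card (by
    have : ({a, σ a} : Finset α).card ≤ 2 := Finset.card_le_two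
    omega)
  simp only [Finset.mem_insert, Finset.mem_singleton, not_or] at hca
  obtain ⟨hca1, hca2⟩ := hca
  have hc'' := Perm.mem_support.mp hc'
  have hnd : [a, σ a, c, σ c].Nodup := by
    simp only [List.nodup_cons, List.mem_cons, List.not_mem_nil, not_or, not_false_eq_true, List.nodup_nil, and_true]
    refine ⟨⟨Ne.symm ha', Ne.symm hca1, fun e => hca2 ?_⟩, ⟨Ne.symm hca2, fun e => hca1 ?_⟩, Ne.symm hc''⟩
    · rw [e, hinv]
    · exact (σ.injective e).symm
  have hsupp : σ.support = {a, σ a, c, σ c} := by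
    refine (Finset.eq_of_subset_of_card_le ?_ ?_).symm
    · intro u hu
      simp only [Finset.mem_insert, Finset.mem_singleton] at hu
      rcases hu with rfl | rfl | rfl | rfl
      · exact ha
      · exact Perm.apply_mem_support.mpr ha
      · exact hc'
      · exact Perm.apply_mem_support.mpr hc'
    · have h4c : ({a, σ a, c, σ c} : Finset α).card = 4 := by
        have := List.toFinset_card_of_nodup hnd
        simpa using this
      omega
  have heq : σ = swap a (σ a) * swap c (σ c) := by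
    simp only [List.nodup_cons, List.mem_cons, List.not_mem_nil, not_or, not_false_eq_true, List.nodup_nil, and_true] at hnd
    obtain ⟨⟨n1, n2, n3⟩, ⟨n4, n5⟩, n6⟩ := hnd
    ext u
    by_cases hu : u ∈ σ.support
    · rw [hsupp] at hu
      simp only [Finset.mem_insert, Finset.mem_singleton] at hu
      rw [Perm.mul_apply]
      rcases hu with rfl | rfl | rfl | rfl
      · rw [swap_apply_of_ne_of_ne n2 n3, swap_apply_left]
      · rw [swap_apply_of_ne_of_ne n4 n5, swap_apply_right, hinv]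
      · rw [swap_apply_left, swap_apply_of_ne_of_ne (Ne.symm n3) (Ne.symm n5)]
      · rw [swap_apply_right, swap_apply_of_ne_of_ne (Ne.symm n2) (Ne.symm n4), hinv]
    · have hu' := Perm.notMem_support.mp hu
      rw [hsupp] at hu
      simp only [Finset.mem_insert, Finset.mem_singleton, not_or] at hu
      rw [Perm.mul_apply, swap_apply_of_ne_of_ne hu.2.2.1 hu.2.2.2, swap_apply_of_ne_of_ne hu.1 hu.2.1, hu']
  exact double_trick G h4 (by omega) hnd (heq ▸ hmem)

/-- In a normal subgroup of the symmetric group. -/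
theorem conj_swaps {r : ℕ} {M : Subgroup (Perm (Fin r))} (hM : M.Normal) {a b c d : Fin r}
    (h : swap a b * swap c d ∈ M) (σ : Perm (Fin r)) : swap (σ a) (σ b) * swap (σ c) (σ d) ∈ M := by
  rw [swap_apply_apply, swap_apply_apply,
    show σ * swap a b * σ⁻¹ * (σ * swap c d * σ⁻¹) = σ * (swap a b * swap c d) * σ⁻¹ by group]
  exact hM.conj_mem _ h σ

theorem exists_double {r : ℕ} (hr : 4 ≤ r) {M : Subgroup (Perm (Fin r))} (hM : M.Normal) (hne : M ≠ ⊥) :
    ∃ a b c d : Fin r, [a, b, c, d].Nodup ∧ swap a b * swap c d ∈ M := by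
  classical
  obtain ⟨σ, hσ, hσ1⟩ := (Subgroup.bot_or_exists_ne_one M).resolve_left hne
  obtain ⟨a, ha⟩ : ∃ a, σ a ≠ a := by
    by_contra h
    push Not at h
    exact hσ1 (Equiv.ext h)
  obtain ⟨b, hb⟩ : ∃ b, b ∉ ({a, σ a, σ.symm a} : Finset (Fin r)) := by
    by_contra h
    push Not at h
    have h1 : (Finset.univ : Finset (Fin r)).card ≤ ({a, σ a, σ.symm a} : Finset (Fin r)).card :=
      Finset.card_le_card fun u _ => h u
    have h2 : ({a, σ a, σ.symm a} : Finset (Fin r)).card ≤ 3 := Finset.card_le_three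
    rw [Finset.card_univ, Fintype.card_fin] at h1
    omega
  simp only [Finset.mem_insert, Finset.mem_singleton, not_or] at hb
  obtain ⟨hba, hbσ, hbσ'⟩ := hb
  have hσb : σ b ≠ a := fun e => hbσ' (by rw [← e, symm_apply_apply])
  have hmem : swap (σ a) (σ b) * swap a b ∈ M := by
    have h1 := M.mul_mem hσ (hM.conj_mem _ (M.inv_mem hσ) (swap a b))
    rw [swap_inv] at h1
    rw [swap_apply_apply, show σ * swap a b * σ⁻¹ * swap a b = σ * (swap a b * σ⁻¹ * swap a b) by group]
    exact h1
  by_cases hfix : σ b = b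
  · rw [hfix] at hmem
    -- a three-cycle
    obtain ⟨e, he⟩ : ∃ e, e ∉ ({a, σ a, b} : Finset (Fin r)) := by
      by_contra h
      push Not at h
      have h1 : (Finset.univ : Finset (Fin r)).card ≤ ({a, σ a, b} : Finset (Fin r)).card :=
        Finset.card_le_card fun u _ => h u
      have h2 : ({a, σ a, b} : Finset (Fin r)).card ≤ 3 := Finset.card_le_three
      rw [Finset.card_univ, Fintype.card_fin] at h1
      omega
    simp only [Finset.mem_insert, Finset.mem_singleton, not_or] at he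
    obtain ⟨hea, heσ, heb⟩ := he
    have h2 := conj_swaps hM hmem (swap a e)
    rw [swap_apply_of_ne_of_ne ha (Ne.symm heσ), swap_apply_of_ne_of_ne hba (Ne.symm heb), swap_apply_left] at h2
    refine ⟨σ a, a, b, e, ?_, ?_⟩
    · simp only [List.nodup_cons, List.mem_cons, List.not_mem_nil, not_or, not_false_eq_true, List.nodup_nil, and_true]
      exact ⟨⟨ha, Ne.symm hbσ, Ne.symm heσ⟩, ⟨Ne.symm hba, Ne.symm hea⟩, Ne.symm heb⟩
    · have h3 := M.mul_mem hmem h2
      convert h3 using 1
      ext u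
      simp only [Perm.mul_apply, swap_apply_def]
      grind
  · refine ⟨σ a, σ b, a, b, ?_, hmem⟩
    simp only [List.nodup_cons, List.mem_cons, List.not_mem_nil, not_or, not_false_eq_true, List.nodup_nil, and_true]
    exact ⟨⟨σ.injective.ne (Ne.symm hba), ha, Ne.symm hbσ⟩, ⟨hσb, hfix⟩, Ne.symm hba⟩

theorem exists_perm_four {r : ℕ} {a b c d a' b' c' d' : Fin r} (h : [a, b, c, d].Nodup) (h' : [a', b', c', d'].Nodup) :
    ∃ σ : Perm (Fin r), σ a = a' ∧ σ b = b' ∧ σ c = c' ∧ σ d = d' := by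
  have hi : ∀ {a b c d : Fin r}, [a, b, c, d].Nodup → Function.Injective ![a, b, c, d] := fun h => inj4 _ _ _ _ h
  haveI := Equiv.Perm.isMultiplyPretransitive (Fin r) 4
  obtain ⟨σ, hσ⟩ := exists_smul_eq (Perm (Fin r)) (⟨_, hi h⟩ : Fin 4 ↪ Fin r) ⟨_, hi h'⟩
  exact ⟨σ, DFunLike.congr_fun hσ 0, DFunLike.congr_fun hσ 1, DFunLike.congr_fun hσ 2, DFunLike.congr_fun hσ 3⟩

theorem double_mem {r : ℕ} (hr : 4 ≤ r) {M : Subgroup (Perm (Fin r))} (hM : M.Normal) (hne : M ≠ ⊥)
    {a b c d : Fin r} (h : [a, b, c, d].Nodup) : swap a b * swap c d ∈ M := by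
  obtain ⟨a₀, b₀, c₀, d₀, h₀, hm⟩ := exists_double hr hM hne
  obtain ⟨σ, ea, eb, ec, ed⟩ := exists_perm_four h₀ h
  have := conj_swaps hM hm σ
  rwa [ea, eb, ec, ed] at this

theorem main {α : Type*} [Fintype α] [DecidableEq α] (G : Subgroup (Perm α)) {k p r : ℕ} (hp : p.Prime)
    (hn : Fintype.card α = k * p + r) (hk : 1 ≤ k) (hpk : k < p) (hrk : k < r) (hr3 : 3 ≤ r)
    (hG : IsMultiplyPretransitive G α (r + 1)) : alternatingGroup α ≤ G := by
  classical
  haveI := Fact.mk hp
  have hnc : Nat.card α = k * p + r := by rw [Nat.card_eq_fintype_card, hn]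
  have hkp : p ≤ k * p := Nat.le_mul_of_pos_left p hk
  have hp2 := hp.two_le
  haveI := hG
  by_cases hsmall : k * p ≤ 3
  · exact _root_.IsMultiplyPretransitive.alternatingGroup_le α G (isMultiplyPretransitive_of_le (n := r + 1) (by omega) (by omega))
  have hpne2 : p ≠ 2 := by rintro rfl; omega
  haveI : IsMultiplyPretransitive G α 4 := isMultiplyPretransitive_of_le (n := r + 1) (by omega) (by omega)
  haveI : IsMultiplyPretransitive G α 2 := isMultiplyPretransitive_of_le (n := r + 1) (by omega) (by omega)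
  have hprim : IsPreprimitive G α := isPreprimitive_of_is_two_pretransitive inferInstance
  by_cases h33 : r = 3 ∧ p = 3
  · obtain ⟨rfl, rfl⟩ := h33
    exact alt_le_nine G inferInstance (by omega)
  obtain ⟨x⟩ : Nonempty (Fin r ↪ α) := Function.Embedding.nonempty_of_card_le (by rw [Fintype.card_fin]; omega)
  haveI hGr : IsMultiplyPretransitive G α r := isMultiplyPretransitive_of_le (n := r + 1) (by omega) (by omega)
  set H := stabilizer G x with hH
  obtain ⟨P⟩ : Nonempty (Sylow p H) := inferInstance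
  set Q := (P : Subgroup H).map H.subtype with hQ
  have hQp : IsPGroup p Q := P.2.map _
  have hQfix : ∀ q ∈ Q, ∀ i, q • x i = x i := fun q hq i => by
    obtain ⟨h, -, rfl⟩ := hq
    exact DFunLike.congr_fun h.2 i
  set Δ := Set.range x with hΔ
  have hcompl : Nat.card (Δᶜ : Set α) = k * p := by
    rw [Nat.card_coe_set_eq, Set.ncard_compl, hΔ, Set.ncard_range_of_injective x.injective, hnc, Nat.card_fin]
    omega
  -- orbits of `Q`
  have horbQ : ∀ a ∉ Δ, Nat.card (orbit Q a) = p := by
    intro a ha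
    have horbH : orbit H a = Δᶜ := by
      ext b
      constructor
      · rintro ⟨h, rfl⟩ ⟨i, hi⟩
        refine ha ⟨i, ?_⟩
        have : (h : G) • x i = x i := DFunLike.congr_fun h.2 i
        rw [← this] at hi
        exact MulAction.injective (h : G) hi
      · intro hb
        let u : Fin (r + 1) ↪ α := ⟨Fin.snoc x a, Fin.snoc_injective_of_injective x.injective ha⟩
        let v : Fin (r + 1) ↪ α := ⟨Fin.snoc x b, Fin.snoc_injective_of_injective x.injective hb⟩
        obtain ⟨g, hg⟩ := exists_smul_eq G u v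
        refine ⟨⟨g, mem_stabilizer_iff.mpr (DFunLike.ext _ _ fun i => ?_)⟩, ?_⟩
        · have := DFunLike.congr_fun hg i.castSucc
          simp only [u, v, Function.Embedding.smul_apply, Function.Embedding.coeFn_mk, Fin.snoc_castSucc] at this
          exact this
        · have := DFunLike.congr_fun hg (Fin.last r)
          simpa [u, v, Function.Embedding.smul_apply] using this
    have h1 : Nat.card (orbit H a) * Nat.card (stabilizer H a) = Nat.card H := by
      rw [← Nat.card_prod]; exact Nat.card_congr (orbitProdStabilizerEquivGroup H a)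
    rw [horbH, hcompl] at h1
    have h2 : Nat.card (orbit Q a) * Nat.card (stabilizer Q a) = Nat.card Q := by
      rw [← Nat.card_prod]; exact Nat.card_congr (orbitProdStabilizerEquivGroup Q a)
    have hsub : orbit Q a ⊆ Δᶜ := by
      rintro _ ⟨q, rfl⟩ ⟨i, hi⟩
      refine ha ⟨i, MulAction.injective (q : G) ?_⟩
      show (q : G) • x i = (q : G) • a
      rw [hQfix q q.2 i, hi]
      rfl
    have hle : Nat.card (orbit Q a) ≤ k * p := by
      rw [← hcompl]; exact Nat.card_mono (Set.toFinite _) hsub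
    obtain ⟨j, hj⟩ := hQp.card_orbit a
    rcases j with _ | _ | j
    · exfalso
      rw [hj, pow_zero, one_mul] at h2
      -- then `p` would not divide `|H : P|`
      have hle' : Nat.card (P : Subgroup H) ∣ Nat.card (stabilizer H a) := by
        refine Subgroup.card_dvd_of_le fun h hh => mem_stabilizer_iff.mpr ?_
        have := mem_stabilizer_iff.mp (show (⟨(h : G), h, hh, rfl⟩ : Q) ∈ stabilizer Q a from
          (Subgroup.eq_top_of_card_eq _ h2).symm ▸ Subgroup.mem_top _)
        exact this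
      refine P.not_dvd_index ?_
      obtain ⟨t, ht⟩ := hle'
      rw [ht, ← Subgroup.card_mul_index (P : Subgroup H)] at h1
      exact ⟨k * t, by
        refine (Nat.eq_of_mul_eq_mul_left (Nat.card_pos (α := (P : Subgroup H))) ?_).symm
        rw [← h1]; ring⟩
    · rw [hj, zero_add, pow_one]
    · exfalso
      rw [hj] at hle
      have h3 : p * p ≤ p ^ (j + 1 + 1) := by
        rw [← pow_two]; exact Nat.pow_le_pow_right hp.pos (by omega)
      have h4 : k * p < p * p := Nat.mul_lt_mul_of_pos_right hpk hp.pos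
      omega
  have hstabn : ∀ a ∉ Δ, (stabilizer Q a).index = p := fun a ha => by
    rw [Subgroup.index, ← Nat.card_congr (orbitEquivQuotientStabilizer Q a)]
    exact horbQ a ha
  have hstabN : ∀ a ∉ Δ, (stabilizer Q a).Normal := fun a ha => by
    haveI := hQp.isNilpotent
    refine Subgroup.NormalizerCondition.normal_of_coatom _ Group.normalizerCondition_of_isNilpotent ⟨fun h => ?_, fun L hL => ?_⟩
    · have := hstabn a ha
      rw [h, Subgroup.index_top] at this
      exact hp.ne_one this.symm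
    · have h1 := Subgroup.index_dvd_of_le hL.le
      rw [hstabn a ha] at h1
      rcases (Nat.dvd_prime hp).mp h1 with h2 | h2
      · exact Subgroup.index_eq_one.mp h2
      · exfalso
        refine hL.ne (Subgroup.eq_of_le_of_card_ge hL.le ?_)
        have e1 := (stabilizer Q a).card_mul_index
        have e2 := L.card_mul_index
        rw [hstabn a ha, ← e2, h2] at e1
        exact (Nat.eq_of_mul_eq_mul_right hp.pos e1).ge
  -- elements of `Q` agreeing at a point agree on its orbit
  have hagree : ∀ q ∈ Q, ∀ q' ∈ Q, ∀ a ∉ Δ, q • a = q' • a → ∀ t ∈ Q, q • t • a = q' • t • a := by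
    intro q hq q' hq' a ha h t ht
    have h1 : (⟨q'⁻¹ * q, mul_mem (inv_mem hq') hq⟩ : Q) ∈ stabilizer Q a := by
      show (q'⁻¹ * q) • a = a
      rw [mul_smul, h, inv_smul_smul]
    have h2 := (hstabN a ha).conj_mem _ h1 (⟨t, ht⟩ : Q)⁻¹
    rw [inv_inv] at h2
    have h3 : (t⁻¹ * (q'⁻¹ * q) * t) • a = a := h2
    rw [mul_smul, mul_smul, mul_smul, inv_smul_eq_iff, inv_smul_eq_iff] at h3
    exact h3
  have hgen : ∀ a ∉ Δ, ∀ q₀ ∈ Q, q₀ • a ≠ a → ∀ q ∈ Q, ∃ i : ℕ, q • a = q₀ ^ i • a := by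
    intro a ha q₀ hq₀ hne q hq
    haveI := hstabN a ha
    have hc : Nat.card (Q ⧸ stabilizer Q a) = p := hstabn a ha
    have h1 : ((⟨q₀, hq₀⟩ : Q) : Q ⧸ stabilizer Q a) ≠ 1 := fun e => hne ((QuotientGroup.eq_one_iff _).mp e)
    have h2 := zpowers_eq_top_of_prime_card hc h1
    obtain ⟨i, hi⟩ := (IsOfFinOrder.mem_powers_iff_mem_zpowers (isOfFinOrder_of_finite _)).mpr
      (h2 ▸ Subgroup.mem_top ((⟨q, hq⟩ : Q) : Q ⧸ stabilizer Q a))
    refine ⟨i, ?_⟩
    have h3 : (⟨q₀, hq₀⟩ : Q) ^ i * (1 : Q) = (⟨q₀, hq₀⟩ : Q) ^ i := mul_one _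
    have h4 := QuotientGroup.eq.mp (show (((⟨q₀, hq₀⟩ : Q) ^ i : Q) : Q ⧸ stabilizer Q a) = ((⟨q, hq⟩ : Q) : _) from hi)
    have h5 : ((q₀ ^ i)⁻¹ * q) • a = a := h4
    rw [mul_smul, inv_smul_eq_iff] at h5
    exact h5
  have hmoves : ∀ a ∉ Δ, ∃ q₀ ∈ Q, q₀ • a ≠ a := fun a ha => by
    by_contra h
    push Not at h
    have : orbit Q a = {a} := Set.eq_singleton_iff_unique_mem.mpr
      ⟨mem_orbit_self a, by rintro _ ⟨q, rfl⟩; exact h q q.2⟩
    have h1 := horbQ a ha
    rw [this, Nat.card_coe_set_eq, Set.ncard_singleton] at h1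
    exact hp.ne_one h1.symm
  have hpow_smul : ∀ q ∈ Q, ∀ a ∉ Δ, q ^ p • a = a := fun q hq a ha => by
    haveI := hstabN a ha
    have h1 := Subgroup.pow_index_mem (stabilizer Q a) (⟨q, hq⟩ : Q)
    rw [hstabn a ha] at h1
    exact h1
  -- the normaliser and its actions
  set N : Subgroup G := Subgroup.normalizer (Q : Set G) ⊓ stabilizer G Δ with hN
  have hNΔ : ∀ n ∈ N, ∀ i, ∃ j, x j = n • x i := fun n hn i => by
    have h1 : n • x i ∈ n • Δ := Set.smul_mem_smul_set ⟨i, rfl⟩
    rw [mem_stabilizer_iff.mp hn.2] at h1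
    exact h1
  choose φ₀ hφ₀ using hNΔ
  have hφinj : ∀ (n : N), Function.Injective (φ₀ n n.2) := fun n i j e => by
    have := congrArg x e
    rw [hφ₀, hφ₀] at this
    exact x.injective (MulAction.injective _ this)
  let φ : N →* Perm (Fin r) := MonoidHom.mk'
    (fun n => Equiv.ofBijective (φ₀ n n.2) (Finite.injective_iff_bijective.mp (hφinj n)))
    (fun n n' => Equiv.ext fun i => x.injective (by
      show x (φ₀ _ _ i) = x (φ₀ n n.2 (φ₀ n' n'.2 i))
      rw [hφ₀, hφ₀, hφ₀, Subgroup.coe_mul, mul_smul]))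
  have hφ : ∀ (n : N) i, x (φ n i) = (n : G) • x i := fun n i => hφ₀ n n.2 i
  have hφsurj : Function.Surjective φ := by
    intro σ
    have hfixed : ∀ (τ : Perm (Fin r)) i, (τ.toEmbedding.trans x) i ∈
        MulAction.fixedPoints ((P : Subgroup H).map H.subtype) α := fun τ i q => hQfix q q.2 (τ i)
    obtain ⟨g, hg, hgx⟩ := Cfsg.Agent.S4219.result hGr x P ((1 : Perm (Fin r)).toEmbedding.trans x) (σ.toEmbedding.trans x)
      (hfixed 1) (hfixed σ)
    have hgi : ∀ i, g • x i = x (σ i) := fun i => DFunLike.congr_fun hgx i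
    refine ⟨⟨g, ⟨hg, mem_stabilizer_iff.mpr ?_⟩⟩, Equiv.ext fun i => x.injective ((hφ _ i).trans (hgi i))⟩
    rw [hΔ, ← Set.image_smul, ← Set.range_comp, show (fun a => g • a) ∘ x = x ∘ σ from funext hgi,
      σ.surjective.range_comp]
  have hQconj : ∀ n ∈ N, ∀ q ∈ Q, n * q * n⁻¹ ∈ Q := fun n hn q hq =>
    (Subgroup.mem_normalizer_iff.mp hn.1 q).mp hq
  have hout : ∀ n ∈ N, ∀ a ∉ Δ, n • a ∉ Δ := fun n hn a ha h => by
    have h1 : n⁻¹ • n • a ∈ n⁻¹ • Δ := Set.smul_mem_smul_set h
    rw [mem_stabilizer_iff.mp (inv_mem hn.2 : n⁻¹ ∈ stabilizer G Δ), inv_smul_smul] at h1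
    exact ha h1
  let O := {s : Set α // ∃ a, a ∉ Δ ∧ s = orbit Q a}
  have horb_smul : ∀ n ∈ N, ∀ a : α, n • orbit Q a = orbit Q (n • a) := by
    intro n hn a
    ext b
    rw [Set.mem_smul_set_iff_inv_smul_mem]
    constructor
    · rintro ⟨q, hq⟩
      refine ⟨⟨n * (q : G) * n⁻¹, hQconj n hn q q.2⟩, ?_⟩
      show (n * (q : G) * n⁻¹) • n • a = b
      rw [mul_smul, mul_smul, inv_smul_smul]
      show n • (q • a) = b
      rw [show q • a = n⁻¹ • b from hq, smul_inv_smul]
    · rintro ⟨q, rfl⟩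
      refine ⟨⟨n⁻¹ * (q : G) * n⁻¹⁻¹, hQconj n⁻¹ (inv_mem hn) q q.2⟩, ?_⟩
      show (n⁻¹ * (q : G) * n⁻¹⁻¹) • a = n⁻¹ • (q : G) • n • a
      rw [inv_inv, mul_smul, mul_smul]
  letI : MulAction N O :=
    { smul := fun n s => ⟨(n : G) • s.1, by
        obtain ⟨a, ha, hs⟩ := s.2
        exact ⟨(n : G) • a, hout n n.2 a ha, by rw [hs, horb_smul n n.2]⟩⟩
      one_smul := fun s => Subtype.ext (one_smul G s.1)
      mul_smul := fun n n' s => Subtype.ext (mul_smul (n : G) (n' : G) s.1) }
  set θ := MulAction.toPermHom N O with hθ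
  have hOcard : Nat.card O ≤ k := by
    haveI := Fintype.ofFinite O
    let oc : (Δᶜ : Set α) → O := fun a => ⟨orbit Q a.1, a.1, a.2, rfl⟩
    have hfib : ∀ s : O, p ≤ (Finset.univ.filter fun a => oc a = s).card := by
      rintro ⟨s, a, ha, rfl⟩
      rw [← horbQ a ha, Nat.card_eq_fintype_card, ← Finset.card_univ]
      have hmem : ∀ b : orbit Q a, (b : α) ∈ Δᶜ := by
        rintro ⟨_, q, rfl⟩ ⟨i, hi⟩
        refine ha ⟨i, MulAction.injective (q : G) ?_⟩
        show (q : G) • x i = (q : G) • a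
        rw [hQfix q q.2 i, hi]
        rfl
      refine Finset.card_le_card_of_injOn (fun b => ⟨b, hmem b⟩) (fun b _ => ?_)
        fun b _ b' _ e => Subtype.ext (congrArg (fun y : (Δᶜ : Set α) => (y : α)) e)
      simp only [Finset.coe_filter, Finset.mem_univ, true_and, Set.mem_setOf_eq]
      exact Subtype.ext (orbit_eq_iff.mpr b.2)
    have h1 := Finset.card_eq_sum_card_fiberwise (f := oc) (s := Finset.univ) (t := Finset.univ) (fun _ _ => Finset.mem_univ _)
    have h2 : Fintype.card O * p ≤ k * p := by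
      rw [← hcompl, Nat.card_eq_fintype_card, ← Finset.card_univ (α := (Δᶜ : Set α)), h1, ← Finset.card_univ (α := O),
        ← smul_eq_mul, ← Finset.sum_const]
      exact Finset.sum_le_sum fun s _ => hfib s
    rw [Nat.card_eq_fintype_card]
    exact Nat.le_of_mul_le_mul_right h2 hp.pos
  have hker : ∀ l : N, l ∈ θ.ker → ∀ a ∉ Δ, (l : G) • a ∈ orbit Q a := fun l hl a ha => by
    have h1 : θ l ⟨orbit Q a, a, ha, rfl⟩ = ⟨orbit Q a, a, ha, rfl⟩ := by rw [MonoidHom.mem_ker.mp hl]; rfl
    have h2 : (l : G) • orbit Q a = orbit Q a := congrArg Subtype.val h1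
    exact h2 ▸ Set.smul_mem_smul_set (mem_orbit_self a)
  set M := θ.ker.map φ with hM
  have hMn : M.Normal := Subgroup.Normal.map inferInstance φ hφsurj
  have hMne : M ≠ ⊥ := by
    intro h
    rw [hM, Subgroup.map_eq_bot_iff] at h
    have h1 := Nat.le_of_dvd (Nat.pos_of_ne_zero Subgroup.index_ne_zero_of_finite) (Subgroup.index_dvd_of_le h)
    rw [Subgroup.index_ker, Subgroup.index_ker, MonoidHom.range_eq_top.mpr hφsurj, Subgroup.card_top, Nat.card_perm,
      Nat.card_fin] at h1
    have h2 : Nat.card θ.range ≤ Nat.card (Perm O) := Subgroup.card_le_card_group _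
    rw [Nat.card_perm] at h2
    have h3 := Nat.factorial_le hOcard
    have h4 := (Nat.factorial_lt hk).mpr hrk
    omega
  -- exponents
  have hexp : ∀ (l : N), l ∈ θ.ker → ∀ a ∉ Δ, ∃ e : ℕ, ∀ q ∈ Q, ((l : G) * q * (l : G)⁻¹) • a = q ^ e • a := by
    intro l hl a ha
    obtain ⟨q₀, hq₀, hq₀a⟩ := hmoves a ha
    obtain ⟨e, he⟩ := hgen a ha q₀ hq₀ hq₀a _ (hQconj l l.2 q₀ hq₀)
    refine ⟨e, fun q hq => ?_⟩
    obtain ⟨i, hi⟩ := hgen a ha q₀ hq₀ hq₀a q hq
    -- equal at `a` implies equal on the orbit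
    obtain ⟨t, ht⟩ := hker l⁻¹ (inv_mem hl) a ha
    have hla : (l : G)⁻¹ • a = (t : G) • a := by
      rw [show ((l : G))⁻¹ • a = ((l⁻¹ : N) : G) • a from rfl, ← ht]; rfl
    have h1 : q • (t : G) • a = q₀ ^ i • (t : G) • a := hagree q hq _ (pow_mem hq₀ i) a ha hi t t.2
    have h2 : ((l : G) * q * (l : G)⁻¹) • a = ((l : G) * q₀ * (l : G)⁻¹) ^ i • a := by
      rw [conj_pow, mul_smul, mul_smul, mul_smul, mul_smul, hla, h1]
    rw [h2]
    have hpow : ∀ q ∈ Q, ∀ q' ∈ Q, q • a = q' • a → ∀ n : ℕ, q ^ n • a = q' ^ n • a := by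
      intro q hq q' hq' h n
      induction n with
      | zero => simp
      | succ n ih =>
        rw [pow_succ', pow_succ', mul_smul, mul_smul, ih]
        exact hagree q hq q' hq' a ha h _ (pow_mem hq' n)
    rw [hpow _ (hQconj l l.2 q₀ hq₀) _ (pow_mem hq₀ e) he i, ← pow_mul, mul_comm, pow_mul]
    exact (hpow _ hq _ (pow_mem hq₀ i) hi e).symm
  have hpow' : ∀ a ∉ Δ, ∀ q ∈ Q, ∀ q' ∈ Q, q • a = q' • a → ∀ n : ℕ, q ^ n • a = q' ^ n • a := by
    intro a ha q hq q' hq' h n
    induction n with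
    | zero => simp
    | succ n ih =>
      rw [pow_succ', pow_succ', mul_smul, mul_smul, ih]
      exact hagree q hq q' hq' a ha h _ (pow_mem hq' n)
  have hext : ∀ g ∈ Q, ∀ g' ∈ Q, (∀ a ∉ Δ, g • a = g' • a) → g = g' := fun g hg g' hg' h =>
    Subtype.ext (Equiv.ext fun a => by
      by_cases ha : a ∈ Δ
      · obtain ⟨i, rfl⟩ := ha
        exact (hQfix g hg i).trans (hQfix g' hg' i).symm
      · exact h a ha)
  -- the key element
  have hfinish : ∀ (g : N), g ∈ θ.ker → (∀ q ∈ Q, (g : G) * q * (g : G)⁻¹ = q) → ∀ τ : Perm (Fin r), τ = φ g ^ p →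
      ∃ σ : Perm α, σ ∈ G ∧ (∀ i, σ (x i) = x (τ i)) ∧ ∀ a ∉ Δ, σ a = a := by
    intro g hg hc τ hτ
    refine ⟨((g : G) ^ p : G), ((g : G) ^ p).2, fun i => ?_, fun a ha => ?_⟩
    · rw [hτ, ← map_pow, hφ]
      rfl
    · obtain ⟨⟨q, hq⟩, hqa⟩ := hker g hg a ha
      have hj : ∀ j : ℕ, (g : G) ^ j • a = q ^ j • a := by
        intro j
        induction j with
        | zero => simp
        | succ j ih =>
          have hcq : (g : G) * q ^ j = q ^ j * (g : G) := mul_inv_eq_iff_eq_mul.mp (hc _ (pow_mem hq j))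
          rw [pow_succ' (g : G), mul_smul, ih, ← mul_smul, hcq, mul_smul, ← (show q • a = (g : G) • a from hqa),
            ← mul_smul, ← pow_succ]
      show (g : G) ^ p • a = a
      rw [hj, hpow_smul q hq a ha]
  have hfin4 : 4 ≤ r → ∀ (g : N), g ∈ θ.ker → (∀ q ∈ Q, (g : G) * q * (g : G)⁻¹ = q) →
      ∀ a b c d : Fin r, [a, b, c, d].Nodup → φ g = swap a b * swap c d → alternatingGroup α ≤ G := by
    intro hr4 g hg hc a b c d hd hgφ
    have hd' := hd
    simp only [List.nodup_cons, List.mem_cons, List.not_mem_nil, not_or, not_false_eq_true, List.nodup_nil, and_true] at hd'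
    have hodd : (swap a b * swap c d) ^ p = swap a b * swap c d := by
      obtain ⟨m, hm⟩ := hp.odd_of_ne_two hpne2
      have h2 : (swap a b * swap c d) * (swap a b * swap c d) = 1 := by
        ext u; simp only [Perm.mul_apply, Perm.one_apply, swap_apply_def]; grind
      rw [hm, pow_succ, pow_mul, pow_two, h2, one_pow, one_mul]
    obtain ⟨σ, hσG, hσi, hσo⟩ := hfinish g hg hc _ (hgφ ▸ hodd).symm
    refine double_trick G inferInstance (by omega) (a := x a) (b := x b) (c := x c) (d := x d)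
      (by simpa using hd.map x.injective) ?_
    convert hσG using 1
    ext u
    by_cases hu : u ∈ Δ
    · obtain ⟨i, rfl⟩ := hu
      rw [hσi, hgφ]
      simp only [Perm.mul_apply, x.injective.swap_apply]
    · rw [hσo u hu, Perm.mul_apply]
      have hne : ∀ i, u ≠ x i := fun i e => hu ⟨i, e.symm⟩
      rw [swap_apply_of_ne_of_ne (hne c) (hne d), swap_apply_of_ne_of_ne (hne a) (hne b)]
  by_cases hr5 : 5 ≤ r
  · -- the derived subgroup of the kernel centralises `Q`
    have hder : ∀ l m : N, l ∈ θ.ker → m ∈ θ.ker → ∀ q ∈ Q, ((⁅l, m⁆ : N) : G) * q * ((⁅l, m⁆ : N) : G)⁻¹ = q := by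
      intro l m hl hm q hq
      have key : ∀ (l m : N), l ∈ θ.ker → m ∈ θ.ker → ∀ q ∈ Q,
          (l : G) * ((m : G) * q * (m : G)⁻¹) * (l : G)⁻¹ = (m : G) * ((l : G) * q * (l : G)⁻¹) * (m : G)⁻¹ := by
        intro l m hl hm q hq
        refine hext _ (hQconj l l.2 _ (hQconj m m.2 q hq)) _ (hQconj m m.2 _ (hQconj l l.2 q hq)) fun a ha => ?_
        obtain ⟨e, he⟩ := hexp l hl a ha
        obtain ⟨f, hf⟩ := hexp m hm a ha
        rw [he _ (hQconj m m.2 q hq), hpow' a ha _ (hQconj m m.2 q hq) _ (pow_mem hq f) (hf q hq) e,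
          hf _ (hQconj l l.2 q hq), hpow' a ha _ (hQconj l l.2 q hq) _ (pow_mem hq e) (he q hq) f, ← pow_mul, ← pow_mul,
          mul_comm]
      rw [commutatorElement_def]
      push_cast
      have hq' : (l : G)⁻¹ * ((m : G)⁻¹ * q * (m : G)) * (l : G) ∈ Q := by
        have h1 := hQconj _ (inv_mem l.2) _ (hQconj _ (inv_mem m.2) q hq)
        rwa [inv_inv, inv_inv] at h1
      calc (l : G) * m * (l : G)⁻¹ * (m : G)⁻¹ * q * ((l : G) * m * (l : G)⁻¹ * (m : G)⁻¹)⁻¹
          = (l : G) * ((m : G) * ((l : G)⁻¹ * ((m : G)⁻¹ * q * m) * l) * (m : G)⁻¹) * (l : G)⁻¹ := by group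
        _ = (m : G) * ((l : G) * ((l : G)⁻¹ * ((m : G)⁻¹ * q * m) * l) * (l : G)⁻¹) * (m : G)⁻¹ := key l m hl hm _ hq'
        _ = q := by group
    obtain ⟨a, b, c, d, e, hd5⟩ : ∃ a b c d e : Fin r, [a, b, c, d, e].Nodup :=
      ⟨⟨0, by omega⟩, ⟨1, by omega⟩, ⟨2, by omega⟩, ⟨3, by omega⟩, ⟨4, by omega⟩, by simp⟩
    simp only [List.nodup_cons, List.mem_cons, List.not_mem_nil, not_or, not_false_eq_true, List.nodup_nil, and_true] at hd5
    obtain ⟨⟨hab, hac, had, hae⟩, ⟨hbc, hbd, hbe⟩, ⟨hcd, hce⟩, hde⟩ := hd5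
    -- two three-cycles with commutator a double transposition
    have hthree : ∀ u v w : Fin r, u ≠ v → u ≠ w → v ≠ w → swap u v * swap u w ∈ M := by
      intro u v w huv huw hvw
      obtain ⟨y, z, hyz⟩ : ∃ y z, [y, z, u, v, w].Nodup := by
        obtain ⟨y, hy⟩ : ∃ y, y ∉ ({u, v, w} : Finset (Fin r)) := by
          by_contra h
          push Not at h
          have h1 : (Finset.univ : Finset (Fin r)).card ≤ ({u, v, w} : Finset (Fin r)).card := Finset.card_le_card fun t _ => h t
          have h2 : ({u, v, w} : Finset (Fin r)).card ≤ 3 := Finset.card_le_three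
          rw [Finset.card_univ, Fintype.card_fin] at h1
          omega
        obtain ⟨z, hz⟩ : ∃ z, z ∉ ({u, v, w, y} : Finset (Fin r)) := by
          by_contra h
          push Not at h
          have h1 : (Finset.univ : Finset (Fin r)).card ≤ ({u, v, w, y} : Finset (Fin r)).card := Finset.card_le_card fun t _ => h t
          have h2 : ({u, v, w, y} : Finset (Fin r)).card ≤ 4 := Finset.card_le_four
          rw [Finset.card_univ, Fintype.card_fin] at h1
          omega
        simp only [Finset.mem_insert, Finset.mem_singleton, not_or] at hy hz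
        refine ⟨y, z, ?_⟩
        simp only [List.nodup_cons, List.mem_cons, List.not_mem_nil, not_or, not_false_eq_true, List.nodup_nil, and_true]
        exact ⟨⟨Ne.symm hz.2.2.2, hy.1, hy.2.1, hy.2.2⟩, ⟨hz.1, hz.2.1, hz.2.2.1⟩, ⟨huv, huw⟩, hvw⟩
      simp only [List.nodup_cons, List.mem_cons, List.not_mem_nil, not_or, not_false_eq_true, List.nodup_nil, and_true] at hyz
      have h1 : swap y z * swap u v ∈ M := double_mem (by omega) hMn hMne (by simp only [List.nodup_cons, List.mem_cons, List.not_mem_nil, not_or, not_false_eq_true, List.nodup_nil, and_true]; grind)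
      have h2 : swap y z * swap u w ∈ M := double_mem (by omega) hMn hMne (by simp only [List.nodup_cons, List.mem_cons, List.not_mem_nil, not_or, not_false_eq_true, List.nodup_nil, and_true]; grind)
      have hcm : swap u v * swap y z = swap y z * swap u v := by
        ext t; simp only [Perm.mul_apply, swap_apply_def]; grind
      have h3 := M.mul_mem h1 h2
      rwa [show swap y z * swap u v * (swap y z * swap u w) = swap y z * (swap u v * swap y z) * swap u w by group, hcm,
        ← mul_assoc (swap y z), swap_mul_self, one_mul] at h3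
    obtain ⟨l, hl, hlφ⟩ := hthree a b c hab hac hbc
    obtain ⟨m, hm, hmφ⟩ := hthree b c d hbc hbd hcd
    have hcomm : ⁅swap a b * swap a c, swap b c * swap b d⁆ = swap a d * swap b c := by
      rw [commutatorElement_def, mul_inv_rev, mul_inv_rev, swap_inv, swap_inv, swap_inv, swap_inv]
      ext t; simp only [Perm.mul_apply, swap_apply_def]; grind
    exact hfin4 (by omega) ⁅l, m⁆
      (by rw [commutatorElement_def]; exact mul_mem (mul_mem (mul_mem hl hm) (inv_mem hl)) (inv_mem hm))
      (hder l m hl hm) a d b c (by simp only [List.nodup_cons, List.mem_cons, List.not_mem_nil, not_or, not_false_eq_true, List.nodup_nil, and_true]; grind) (by rw [map_commutatorElement, hlφ, hmφ, hcomm])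
  -- few orbits
  have hk3 : k ≤ 3 := by omega
  have hscalar : ∀ l : N, l ∈ θ.ker → (∃ e : ℕ, ∀ q ∈ Q, (l : G) * q * (l : G)⁻¹ = q ^ e) ∨ alternatingGroup α ≤ G := by
    intro l hl
    choose e he using hexp l hl
    by_cases hall : ∀ a (ha : a ∉ Δ) b (hb : b ∉ Δ), (e a ha : ZMod p) = (e b hb : ZMod p)
    · obtain ⟨a, ha⟩ : ∃ a, a ∉ Δ := by
        have : 0 < Nat.card (Δᶜ : Set α) := by rw [hcompl]; positivity
        obtain ⟨⟨a, ha⟩⟩ := (Nat.card_pos_iff.mp this).1
        exact ⟨a, ha⟩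
      refine Or.inl ⟨e a ha, fun q hq => hext _ (hQconj l l.2 q hq) _ (pow_mem hq _) fun b hb => ?_⟩
      rw [he b hb q hq]
      have hmod : e b hb % p = e a ha % p := by
        have := (ZMod.natCast_eq_natCast_iff' _ _ _).mp (hall b hb a ha)
        exact this
      have hred : ∀ n : ℕ, q ^ n • b = q ^ (n % p) • b := fun n => by
        conv_lhs => rw [← Nat.mod_add_div n p]
        rw [pow_add, mul_smul, pow_mul]
        congr 1
        have hfix : ∀ j : ℕ, (q ^ p) ^ j • b = b := by
          intro j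
          induction j with
          | zero => simp
          | succ j ih => rw [pow_succ', mul_smul, ih, hpow_smul q hq b hb]
        exact hfix _
      rw [hred (e b hb), hmod, ← hred]
    · right
      push Not at hall
      -- the exponent is constant on orbits
      have hconst : ∀ a (ha : a ∉ Δ) b (hb : b ∉ Δ), b ∈ orbit Q a → (e b hb : ZMod p) = (e a ha : ZMod p) := by
        intro a ha b hb hba
        obtain ⟨⟨t, ht⟩, rfl⟩ := hba
        change t • a ∉ Δ at hb
        obtain ⟨q₀, hq₀, hq₀a⟩ := hmoves a ha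
        have h1 := hagree _ (hQconj l l.2 q₀ hq₀) _ (pow_mem hq₀ (e a ha)) a ha (he a ha q₀ hq₀) t ht
        have h2 : q₀ ^ e (t • a) hb • t • a = q₀ ^ e a ha • t • a := (he (t • a) hb q₀ hq₀).symm.trans h1
        have hq₀b : q₀ • t • a ≠ t • a := fun h => hq₀a (by
          have h' := hagree q₀ hq₀ 1 (one_mem Q) (t • a) hb (by rw [one_smul]; exact h) t⁻¹ (inv_mem ht)
          rwa [inv_smul_smul, one_smul] at h')
        haveI := hstabN (t • a) hb
        set y := ((⟨q₀, hq₀⟩ : Q) : Q ⧸ stabilizer Q (t • a))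
        have hy : y ^ e (t • a) hb = y ^ e a ha := by
          rw [← QuotientGroup.mk_pow, ← QuotientGroup.mk_pow, QuotientGroup.eq]
          show ((q₀ ^ e (t • a) hb)⁻¹ * q₀ ^ e a ha) • t • a = t • a
          rw [mul_smul, inv_smul_eq_iff, h2]
        have hyo : orderOf y = p := by
          refine orderOf_eq_prime ?_ fun h => hq₀b ((QuotientGroup.eq_one_iff _).mp h)
          rw [← QuotientGroup.mk_pow, QuotientGroup.eq_one_iff]
          exact hpow_smul q₀ hq₀ _ hb
        rw [pow_eq_pow_iff_modEq, hyo] at hy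
        exact (ZMod.natCast_eq_natCast_iff _ _ _).mpr hy
      -- an orbit with exponent different from all others
      obtain ⟨a₁, ha₁, b₁, hb₁, hne⟩ := hall
      obtain ⟨a, ha, f₁, f₂, hf₁, hf₂, hothers⟩ : ∃ a, ∃ ha : a ∉ Δ, ∃ f₁ f₂ : ℕ, (f₁ : ZMod p) ≠ e a ha ∧
          (f₂ : ZMod p) ≠ e a ha ∧ ∀ b (hb : b ∉ Δ), b ∉ orbit Q a → (e b hb : ZMod p) = f₁ ∨ (e b hb : ZMod p) = f₂ := by
        have horb_ne : ∀ u (hu : u ∉ Δ) v (hv : v ∉ Δ), (e u hu : ZMod p) ≠ e v hv →
            (⟨orbit Q u, u, hu, rfl⟩ : O) ≠ ⟨orbit Q v, v, hv, rfl⟩ := by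
          intro u hu v hv h h'
          have h2 : orbit Q u = orbit Q v := congrArg Subtype.val h'
          exact h (hconst v hv u hu (h2 ▸ mem_orbit_self u))
        by_cases hthird : ∃ c, ∃ hc : c ∉ Δ, c ∉ orbit Q a₁ ∧ c ∉ orbit Q b₁
        · obtain ⟨c, hc, hca, hcb⟩ := hthird
          have hO3 : ∀ b (hb : b ∉ Δ), b ∈ orbit Q a₁ ∨ b ∈ orbit Q b₁ ∨ b ∈ orbit Q c := by
            intro b hb
            by_contra h
            push Not at h
            have hinj : Function.Injective (![⟨orbit Q a₁, a₁, ha₁, rfl⟩, ⟨orbit Q b₁, b₁, hb₁, rfl⟩,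
                ⟨orbit Q c, c, hc, rfl⟩, ⟨orbit Q b, b, hb, rfl⟩] : Fin 4 → O) := by
              have hne' : ∀ u (hu : u ∉ Δ) v (hv : v ∉ Δ), u ∉ orbit Q v →
                  (⟨orbit Q u, u, hu, rfl⟩ : O) ≠ ⟨orbit Q v, v, hv, rfl⟩ := fun u hu v hv h h' =>
                h (by
                  have e : orbit Q u = orbit Q v := congrArg Subtype.val h'
                  rw [← e]; exact mem_orbit_self u)
              have n1 := horb_ne a₁ ha₁ b₁ hb₁ hne
              have n2 := hne' c hc a₁ ha₁ hca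
              have n3 := hne' c hc b₁ hb₁ hcb
              have n4 := hne' b hb a₁ ha₁ h.1
              have n5 := hne' b hb b₁ hb₁ h.2.1
              have n6 := hne' b hb c hc h.2.2
              exact inj4 _ _ _ _ (by
                simp only [List.nodup_cons, List.mem_cons, List.not_mem_nil, not_or, not_false_eq_true, List.nodup_nil, and_true]
                exact ⟨⟨n1, n2.symm, n4.symm⟩, ⟨n3.symm, n5.symm⟩, n6.symm⟩)
            have := Nat.card_le_card_of_injective _ hinj
            rw [Nat.card_fin] at this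
            omega
          by_cases hca' : (e c hc : ZMod p) = e a₁ ha₁
          · refine ⟨b₁, hb₁, e a₁ ha₁, e a₁ ha₁, hne, hne, fun b hb hbb => Or.inl ?_⟩
            rcases hO3 b hb with h | h | h
            · exact hconst a₁ ha₁ b hb h
            · exact absurd h hbb
            · rw [hconst c hc b hb h, hca']
          · refine ⟨a₁, ha₁, e b₁ hb₁, e c hc, Ne.symm hne, hca', fun b hb hba => ?_⟩
            rcases hO3 b hb with h | h | h
            · exact absurd h hba
            · exact Or.inl (hconst b₁ hb₁ b hb h)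
            · exact Or.inr (hconst c hc b hb h)
        · push Not at hthird
          refine ⟨a₁, ha₁, e b₁ hb₁, e b₁ hb₁, Ne.symm hne, Ne.symm hne, fun b hb hba =>
            Or.inl (hconst b₁ hb₁ b hb (hthird b hb hba))⟩
      obtain ⟨q₀, hq₀, hq₀a⟩ := hmoves a ha
      -- two steps killing the other orbits
      set q₁ := (l : G) * q₀ * (l : G)⁻¹ * (q₀ ^ f₁)⁻¹ with hq₁
      have hq₁Q : q₁ ∈ Q := mul_mem (hQconj l l.2 q₀ hq₀) (inv_mem (pow_mem hq₀ _))
      set q₂ := (l : G) * q₁ * (l : G)⁻¹ * (q₁ ^ f₂)⁻¹ with hq₂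
      have hq₂Q : q₂ ∈ Q := mul_mem (hQconj l l.2 q₁ hq₁Q) (inv_mem (pow_mem hq₁Q _))
      have hcalc : ∀ b (hb : b ∉ Δ) (q : G), q ∈ Q → ∀ f : ℕ,
          ∃ n : ℕ, (n : ZMod p) = (e b hb : ZMod p) - f ∧ ((l : G) * q * (l : G)⁻¹ * (q ^ f)⁻¹) • b = q ^ n • b := by
        intro b hb q hq f
        refine ⟨e b hb + (p * (f + 1) - f), ?_, ?_⟩
        · have hle : f ≤ p * (f + 1) := le_trans (Nat.le_succ f) (Nat.le_mul_of_pos_left _ hp.pos)
          rw [Nat.cast_add, Nat.cast_sub hle, Nat.cast_mul, ZMod.natCast_self, zero_mul, zero_sub, sub_eq_add_neg]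
        · have h1 : (q ^ f)⁻¹ • b = q ^ (p * (f + 1) - f) • b := by
            rw [inv_smul_eq_iff, ← mul_smul, ← pow_add, Nat.add_sub_cancel'
              (le_trans (Nat.le_succ f) (Nat.le_mul_of_pos_left _ hp.pos)), mul_comm p, pow_mul,
              hpow_smul _ (pow_mem hq _) b hb]
          have hc : Commute (q ^ (p * (f + 1) - f)) (q ^ e b hb) := (Commute.refl q).pow_pow _ _
          have h2 := hagree _ (hQconj l l.2 q hq) _ (pow_mem hq (e b hb)) b hb (he b hb q hq)
            _ (pow_mem hq (p * (f + 1) - f))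
          rw [mul_smul, h1, h2, ← mul_smul, ← pow_add]
      have hzero : ∀ b ∉ Δ, ∀ q ∈ Q, ∀ n : ℕ, (n : ZMod p) = 0 → q ^ n • b = b := by
        intro b hb q hq n hn
        obtain ⟨m, rfl⟩ := (CharP.cast_eq_zero_iff (ZMod p) p n).mp hn
        rw [mul_comm p, pow_mul, hpow_smul _ (pow_mem hq m) b hb]
      have hkill : ∀ b, b ∉ orbit Q a → q₂ • b = b := by
        intro b hba
        by_cases hb : b ∈ Δ
        · obtain ⟨i, rfl⟩ := hb; exact hQfix q₂ hq₂Q i
        obtain ⟨n₁, hn₁, hn₁'⟩ := hcalc b hb q₀ hq₀ f₁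
        obtain ⟨n₂, hn₂, hn₂'⟩ := hcalc b hb q₁ hq₁Q f₂
        rw [← hq₁] at hn₁'
        rw [← hq₂] at hn₂'
        rw [hn₂']
        rcases hothers b hb hba with h | h
        · have h1 : q₁ • b = b := hn₁'.trans (hzero b hb q₀ hq₀ n₁ (by rw [hn₁, h, sub_self]))
          have h2 := hpow' b hb q₁ hq₁Q 1 (one_mem Q) (by rw [one_smul]; exact h1) n₂
          rwa [one_pow, one_smul] at h2
        · exact hzero b hb q₁ hq₁Q n₂ (by rw [hn₂, h, sub_self])
      have hq₂a : q₂ • a ≠ a := by
        obtain ⟨n₁, hn₁, hn₁'⟩ := hcalc a ha q₀ hq₀ f₁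
        obtain ⟨n₂, hn₂, hn₂'⟩ := hcalc a ha q₁ hq₁Q f₂
        rw [← hq₁] at hn₁'
        rw [← hq₂] at hn₂'
        rw [hn₂', hpow' a ha q₁ hq₁Q _ (pow_mem hq₀ n₁) hn₁' n₂, ← pow_mul]
        intro h
        haveI := hstabN a ha
        set y := ((⟨q₀, hq₀⟩ : Q) : Q ⧸ stabilizer Q a)
        have hyo : orderOf y = p := by
          refine orderOf_eq_prime ?_ fun h => hq₀a ((QuotientGroup.eq_one_iff _).mp h)
          rw [← QuotientGroup.mk_pow, QuotientGroup.eq_one_iff]
          exact hpow_smul q₀ hq₀ _ ha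
        have hy : y ^ (n₁ * n₂) = 1 := by
          rw [← QuotientGroup.mk_pow, QuotientGroup.eq_one_iff]
          exact h
        have h0 : ((n₁ * n₂ : ℕ) : ZMod p) = 0 := by
          rw [CharP.cast_eq_zero_iff (ZMod p) p, ← hyo]
          exact orderOf_dvd_of_pow_eq_one hy
        rw [Nat.cast_mul, hn₁, hn₂, mul_eq_zero, sub_eq_zero, sub_eq_zero] at h0
        rcases h0 with h0 | h0
        · exact hf₁ h0.symm
        · exact hf₂ h0.symm
      set σ : Perm α := q₂.1 with hσ
      have hσa : σ a ≠ a := hq₂a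
      have hsupp : σ.support.card ≤ p := by
        have h1 : σ.support ⊆ (orbit Q a).toFinset := fun b hb => by
          rw [Set.mem_toFinset]
          by_contra h
          exact Perm.mem_support.mp hb (hkill b h)
        refine (Finset.card_le_card h1).trans ?_
        rw [Set.toFinset_card, ← Nat.card_eq_fintype_card, horbQ a ha]
      have hσp : σ ^ p = 1 := by
        ext b
        have h1 : q₂ ^ p • b = b := by
          by_cases hb : b ∈ Δ
          · obtain ⟨i, rfl⟩ := hb
            exact hQfix _ (pow_mem hq₂Q p) i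
          · exact hpow_smul q₂ hq₂Q b hb
        rw [Perm.one_apply]
        exact h1
      have hσo : orderOf σ = p := orderOf_eq_prime hσp fun h => hσa (by rw [h]; rfl)
      have hcyc : σ.IsCycle := isCycle_of_prime_order (hσo ▸ hp) (by omega)
      have hsc : σ.support.card = p := by rw [← hcyc.orderOf, hσo]
      exact Cfsg.Agent.S0713.result G hprim hp (by omega) (by omega) hcyc hsc q₂.2
  -- commutators with the normaliser
  have hcomkey : ∀ (n l : N), l ∈ θ.ker → alternatingGroup α ≤ G ∨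
      (⁅n, l⁆ ∈ θ.ker ∧ ∀ q ∈ Q, ((⁅n, l⁆ : N) : G) * q * ((⁅n, l⁆ : N) : G)⁻¹ = q) := by
    intro n l hl
    rcases hscalar l hl with ⟨e, he⟩ | h
    swap
    · exact Or.inl h
    refine Or.inr ⟨?_, fun q hq => ?_⟩
    · rw [commutatorElement_def]
      exact mul_mem ((inferInstance : θ.ker.Normal).conj_mem l hl n) (inv_mem hl)
    · rw [commutatorElement_def]
      push_cast
      have hq' : (l : G)⁻¹ * q * (l : G) ∈ Q := by
        have := hQconj _ (inv_mem l.2) q hq
        rwa [inv_inv] at this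
      have h2 : (n : G)⁻¹ * ((l : G)⁻¹ * q * l) * n ∈ Q := by
        have := hQconj _ (inv_mem n.2) _ hq'
        rwa [inv_inv] at this
      calc (n : G) * l * (n : G)⁻¹ * (l : G)⁻¹ * q * ((n : G) * l * (n : G)⁻¹ * (l : G)⁻¹)⁻¹
          = (n : G) * ((l : G) * ((n : G)⁻¹ * ((l : G)⁻¹ * q * l) * n) * (l : G)⁻¹) * (n : G)⁻¹ := by group
        _ = ((l : G)⁻¹ * q * l) ^ e := by rw [he _ h2, ← conj_pow]; group
        _ = q := by rw [← he _ hq']; group
  rcases Nat.lt_or_ge r 4 with hr4 | hr4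
  · obtain rfl : r = 3 := by omega
    obtain ⟨t, ht, ht1⟩ := (Subgroup.bot_or_exists_ne_one M).resolve_left hMne
    have hex : ∀ M' : Perm (Fin 3), M' ≠ 1 → ∃ c : Perm (Fin 3), ∃ a b d : Fin 3, a ≠ b ∧ a ≠ d ∧ b ≠ d ∧
        c * M' * c⁻¹ * M'⁻¹ = swap a b * swap a d := by decide +kernel
    obtain ⟨c, a, b, d, hab, had, hbd, he⟩ := hex t ht1
    obtain ⟨l, hl, rfl⟩ := ht
    obtain ⟨n, rfl⟩ := hφsurj c
    rcases hcomkey n l hl with h | ⟨hk', hc⟩
    · exact h
    have hφg : φ ⁅n, l⁆ = swap a b * swap a d := by rw [map_commutatorElement, commutatorElement_def]; exact he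
    have h3 : (swap a b * swap a d) ^ 3 = 1 := by
      have := isThreeCycle_swap_mul_swap_same hab had hbd
      have e := pow_orderOf_eq_one (swap a b * swap a d)
      rwa [this.orderOf] at e
    obtain ⟨u, v, w, huv, huw, hvw, hpow⟩ : ∃ u v w : Fin 3, u ≠ v ∧ u ≠ w ∧ v ≠ w ∧
        (swap a b * swap a d) ^ p = swap u v * swap u w := by
      have hpm : p % 3 = 1 ∨ p % 3 = 2 := by
        have : p % 3 ≠ 0 := fun h => h33 ⟨rfl, ((Nat.prime_dvd_prime_iff_eq Nat.prime_three hp).mp (Nat.dvd_of_mod_eq_zero h)).symm⟩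
        omega
      rw [← Nat.mod_add_div p 3, pow_add, pow_mul, h3, one_pow, mul_one]
      rcases hpm with h | h <;> rw [h]
      · exact ⟨a, b, d, hab, had, hbd, pow_one _⟩
      · refine ⟨a, d, b, had, hab, Ne.symm hbd, ?_⟩
        rw [pow_two]
        exact sq_three hab had hbd
    obtain ⟨σ, hσG, hσi, hσo⟩ := hfinish _ hk' hc _ (by rw [hφg, hpow])
    refine alternatingGroup_le_of_isPreprimitive_of_isThreeCycle_mem hprim
      (isThreeCycle_swap_mul_swap_same (x.injective.ne huv) (x.injective.ne huw) (x.injective.ne hvw)) ?_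
    convert hσG using 1
    ext y
    by_cases hy : y ∈ Δ
    · obtain ⟨i, rfl⟩ := hy
      rw [hσi]
      simp only [Perm.mul_apply, x.injective.swap_apply]
    · rw [hσo y hy, Perm.mul_apply]
      have hne : ∀ i, y ≠ x i := fun i e => hy ⟨i, e.symm⟩
      rw [swap_apply_of_ne_of_ne (hne u) (hne w), swap_apply_of_ne_of_ne (hne u) (hne v)]
  · obtain ⟨a, b, c, d, hd⟩ : ∃ a b c d : Fin r, [a, b, c, d].Nodup :=
      ⟨⟨0, by omega⟩, ⟨1, by omega⟩, ⟨2, by omega⟩, ⟨3, by omega⟩, by simp⟩
    obtain ⟨l, hl, hlφ⟩ := double_mem hr4 hMn hMne hd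
    obtain ⟨n, hnφ⟩ := hφsurj (swap a c)
    rcases hcomkey n l hl with h | ⟨hk', hc⟩
    · exact h
    simp only [List.nodup_cons, List.mem_cons, List.not_mem_nil, not_or, not_false_eq_true, List.nodup_nil, and_true] at hd
    have hcomm : ⁅swap a c, swap a b * swap c d⁆ = swap a c * swap b d := by
      rw [commutatorElement_def, mul_inv_rev, swap_inv, swap_inv, swap_inv]
      ext t; simp only [Perm.mul_apply, swap_apply_def]; grind
    exact hfin4 hr4 _ hk' hc a c b d (by simp only [List.nodup_cons, List.mem_cons, List.not_mem_nil, not_or, not_false_eq_true, List.nodup_nil, and_true]; grind) (by rw [map_commutatorElement, hnφ, hlφ, hcomm])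

/-- Let `n = kp + r` with `p` prime, `1 ≤ k < p` and `r > k`, excluding the case `k = 1, r = 2`. Then a permutation group of degree `n` that is `(r + 1)`-fold transitive contains the alternating group. -/
theorem result {α : Type*} [Fintype α] [DecidableEq α] (G : Subgroup (Equiv.Perm α)) {k p r : ℕ} (hp : p.Prime) (hn : Fintype.card α = k * p + r) (hk : 1 ≤ k) (hpk : k < p) (hrk : k < r) (hex : ¬ (k = 1 ∧ r = 2)) (hG : MulAction.IsMultiplyPretransitive G α (r + 1)) : alternatingGroup α ≤ G := by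
  refine main G hp hn hk hpk hrk ?_ hG
  by_contra h
  exact hex ⟨by omega, by omega⟩

end Cfsg.Agent.S4220
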