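import Cfsg.Statements.S4222
-- import your own Cfsg.Agent.* helpers here

set_option autoImplicit false
open Cfsg

namespace Cfsg.Agent.S4222

/-- If a normal subgroup `N` of a finite group is complete (its centre is trivial and every automorphism of `N` is inner), then the group is the internal direct product of `N` and the centralizer of `N`: the centralizer is a complement to `N`. -/
theorem result {T : Type*} [Group T] [Finite T] (N : Subgroup T) [N.Normal] (hz : Subgroup.center ↥N = ⊥) (ha : Function.Surjective (MulAut.conj : ↥N →* MulAut ↥N)) : (Subgroup.centralizer (N : Set T)).IsComplement' N := by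
  have hdis : Disjoint (Subgroup.centralizer (N : Set T)) N := by
    rw [disjoint_iff, Subgroup.eq_bot_iff_forall]
    intro x hx
    rw [Subgroup.mem_inf] at hx
    have : (⟨x, hx.2⟩ : N) ∈ Subgroup.center ↥N := by
      rw [Subgroup.mem_center_iff]
      intro n
      exact Subtype.ext (Subgroup.mem_centralizer_iff.mp hx.1 n n.2)
    rw [hz, Subgroup.mem_bot] at this
    exact congrArg Subtype.val this
  refine Subgroup.isComplement'_of_disjoint_and_mul_eq_univ hdis (Set.eq_univ_of_forall fun g => ?_)
  obtain ⟨n, hn⟩ := ha (MulAut.conjNormal g)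
  refine Set.mem_mul.mpr ⟨g * (n : T)⁻¹, ?_, n, n.2, by group⟩
  rw [SetLike.mem_coe, Subgroup.mem_centralizer_iff]
  intro x hx
  have h := congrArg Subtype.val (DFunLike.congr_fun hn ⟨(n : T)⁻¹ * x * n, by
    exact N.mul_mem (N.mul_mem (N.inv_mem n.2) hx) n.2⟩)
  simp only [MulAut.conj_apply, Subgroup.coe_mul, MulAut.conjNormal_apply, InvMemClass.coe_inv] at h
  calc x * (g * (n : T)⁻¹) = ((n : T) * ((n : T)⁻¹ * x * n) * (n : T)⁻¹) * (g * (n : T)⁻¹) := by group
    _ = (g * ((n : T)⁻¹ * x * n) * g⁻¹) * (g * (n : T)⁻¹) := by rw [h]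
    _ = g * (n : T)⁻¹ * x := by group

end Cfsg.Agent.S4222
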