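import Cfsg.Statements.S4227
import Mathlib
import Cfsg.Agent.Lib.PSolvable
import Cfsg.Agent.Lib.CoprimeGen
import Cfsg.Agent.Lib.CharTheory.Burnside
import Cfsg.Agent.Lib.Elementary
-- import your own Cfsg.Agent.* helpers here

set_option autoImplicit false
open Cfsg

namespace Cfsg.Agent.S4227

open scoped IsMulCommutative

universe uu

private theorem solvable_of_exp {H : Type uu} [Group H] [Finite H] (h : ∀ x : H, x ^ 6 = 1) :
    Group.IsSolvable H ∧ ∀ q : ℕ, q.Prime → q ∣ Nat.card H → q = 2 ∨ q = 3 := by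
  have hpr : ∀ q : ℕ, q.Prime → q ∣ Nat.card H → q = 2 ∨ q = 3 := by
    intro q hq hd
    have := Fact.mk hq
    obtain ⟨x, hx⟩ := exists_prime_orderOf_dvd_card' q hd
    have h6 : q ∣ 2 * 3 := hx ▸ orderOf_dvd_of_pow_eq_one (h x)
    rcases hq.dvd_mul.mp h6 with h' | h'
    · exact Or.inl ((Nat.prime_dvd_prime_iff_eq hq Nat.prime_two).mp h')
    · exact Or.inr ((Nat.prime_dvd_prime_iff_eq hq Nat.prime_three).mp h')
  refine ⟨?_, hpr⟩
  have := Fact.mk Nat.prime_two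
  obtain ⟨P⟩ : Nonempty (Sylow 2 H) := inferInstance
  obtain ⟨a, ha⟩ := P.2.exists_card_eq
  obtain ⟨b, hb⟩ : ∃ b, (P : Subgroup H).index = 3 ^ b := ⟨_, Nat.eq_prime_pow_of_unique_prime_dvd (p := 3)
    (Subgroup.index_ne_zero_of_finite (H := (P : Subgroup H))) fun {d} hd hdi =>
      (hpr d hd (hdi.trans (Subgroup.index_dvd_card _))).resolve_left fun e => P.not_dvd_index (e ▸ hdi)⟩
  refine CfsgLib.CharTheory.isSolvable_of_card_two_primes (p := 2) (q := 3) (a := a) (b := b) Nat.prime_two Nat.prime_three ?_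
  rw [← (P : Subgroup H).card_mul_index, ha, hb]

/-- A group of exponent dividing `6` with trivial `O_{p'}` has a normal Sylow `p`-subgroup, `p = 2`. -/
private theorem case_two {H : Type uu} [Group H] [Finite H] (h : ∀ x : H, x ^ 6 = 1)
    (h0 : Cfsg.pPrimeCore 2 H = ⊥) : ¬ 2 ∣ (Cfsg.pCore 2 H).index := by
  have := Fact.mk Nat.prime_two
  have := (solvable_of_exp h).1
  obtain ⟨P, hP⟩ := (CfsgLib.isPGroup_pCore (G := H) 2).exists_le_sylow
  have hsq : ∀ c : P, c⁻¹ = c := fun c => by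
    rw [inv_eq_iff_mul_eq_one, ← pow_two]
    obtain ⟨j, hj⟩ := IsPGroup.iff_orderOf.mp P.2 c
    have h6 : orderOf c ∣ 2 * 3 := orderOf_dvd_of_pow_eq_one (Subtype.ext (h c))
    rw [hj] at h6
    apply orderOf_dvd_iff_pow_eq_one.mp
    rw [hj]
    exact (Nat.Coprime.pow_left j (by norm_num : Nat.Coprime 2 3)).dvd_of_dvd_mul_right h6
  have hPE : (P : Subgroup H) ≤ Cfsg.pCore 2 H := by
    intro x hx
    refine CfsgLib.centralizer_pCore_le Nat.prime_two h0 fun e he => ?_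
    have hc : (⟨e, hP he⟩ : P) * ⟨x, hx⟩ = ⟨x, hx⟩ * ⟨e, hP he⟩ :=
      calc _ = ((⟨e, hP he⟩ : P) * ⟨x, hx⟩)⁻¹ := (hsq _).symm
        _ = _ := by rw [mul_inv_rev, hsq, hsq]
    exact congrArg Subtype.val hc
  exact fun hd => P.not_dvd_index (hd.trans (Subgroup.index_dvd_of_le hPE))

/-- Quadratic action of an element of order three against a four-group. -/
private theorem eq_one_of_quadratic {W V : Type*} [Group W] [CommGroup V] (ρ : W →* MulAut V)
    (hV : ∀ v : V, v ^ 3 = 1) (hquad : ∀ y : W, y ^ 3 = 1 → ∀ v : V, v * ρ y v * ρ (y * y) v = 1)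
    (X a b : W) (hX : X ^ 3 = 1) (ha : a * a = 1) (hb : b * b = 1) (hab : a * b = b * a)
    (hXa : X * a * X⁻¹ = b) (hXb : X * b * X⁻¹ = a * b) : ∀ v : V, ρ a v = v := by
  have e2 : ∀ w : W, w * X * (w * X) = w * (X * w * X⁻¹) * (X * X) := fun w => by group
  have e3 : ∀ w : W, (w * X) ^ 3 = w * (X * w * X⁻¹) * (X * (X * w * X⁻¹) * X⁻¹) * X ^ 3 := fun w => by
    simp only [pow_succ, pow_zero, one_mul]; group
  have hXc : X * (a * b) * X⁻¹ = a := by
    rw [show X * (a * b) * X⁻¹ = (X * a * X⁻¹) * (X * b * X⁻¹) by group, hXa, hXb, ← mul_assoc, ← hab, mul_assoc, hb, mul_one]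
  have hca : a * b * a = b := by rw [hab, mul_assoc, ha, mul_one]
  have hbc : b * (a * b) = a := by rw [← mul_assoc, ← hab, mul_assoc, hb, mul_one]
  intro v
  set A := ρ X v with hA
  set B := ρ (X * X) v with hB
  have h0 : v * A * B = 1 := hquad X hX v
  have h1 : v * ρ a A * ρ (a * b) B = 1 := by
    have h := hquad (a * X) (by rw [e3, hXa, hXb, hX, mul_one, show a * b * (a * b) = (a * b * a) * b by group, hca, hb]) v
    rwa [e2, hXa, map_mul, map_mul ρ (a * b), MulAut.mul_apply, MulAut.mul_apply] at h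
  have h2 : v * ρ b A * ρ a B = 1 := by
    have h := hquad (b * X) (by rw [e3, hXb, hXc, hX, mul_one, hbc, ha]) v
    rwa [e2, hXb, hbc, map_mul, map_mul ρ a, MulAut.mul_apply, MulAut.mul_apply] at h
  have h3 : v * ρ (a * b) A * ρ b B = 1 := by
    have h := hquad (a * b * X) (by rw [e3, hXc, hXa, hX, mul_one, hca, hb]) v
    rwa [e2, hXc, hca, map_mul ρ (a * b), map_mul ρ b (X * X), MulAut.mul_apply, MulAut.mul_apply] at h
  let S : V → V := fun u => u * ρ a u * ρ b u * ρ (a * b) u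
  have hS : ∀ u u' : V, S (u * u') = S u * S u' := fun u u' => by
    simp only [S, map_mul]; ac_rfl
  have hAB : A * B = v⁻¹ := eq_inv_of_mul_eq_one_right (by rw [← mul_assoc]; exact h0)
  have hsum : v ^ 4 * S (A * B) = 1 := by
    have : (v * A * B) * (v * ρ a A * ρ (a * b) B) * (v * ρ b A * ρ a B) * (v * ρ (a * b) A * ρ b B) = 1 := by
      rw [h0, h1, h2, h3]; simp
    rw [hS, ← this]
    simp only [S, pow_succ, pow_zero, one_mul]
    ac_rfl
  have hSv : S v = v := by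
    have h4 : S (A * B) * S v = 1 := by
      rw [← hS, hAB, inv_mul_cancel]; simp [S]
    rw [show v ^ 4 = v by rw [pow_succ, hV, one_mul]] at hsum
    calc S v = (v * S (A * B)) * S v := by rw [hsum, one_mul]
      _ = v := by rw [mul_assoc, h4, mul_one]
  have haS : ρ a (S v) = S v := by
    have f1 : ρ a (ρ a v) = v := by rw [← MulAut.mul_apply, ← map_mul, ha, map_one]; rfl
    have f2 : ρ a (ρ b v) = ρ (a * b) v := by rw [map_mul]; rfl
    have f3 : ρ a (ρ (a * b) v) = ρ b v := by rw [← MulAut.mul_apply, ← map_mul, ← mul_assoc, ha, one_mul]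
    simp only [S, map_mul (ρ a), f1, f2, f3]
    ac_rfl
  rwa [hSv] at haS

private theorem case_three {H : Type uu} [Group H] [Finite H] (h : ∀ x : H, x ^ 6 = 1)
    (h0 : Cfsg.pPrimeCore 3 H = ⊥) : ¬ 3 ∣ (Cfsg.pCore 3 H).index := by
  intro hd
  have := Fact.mk Nat.prime_two
  have := Fact.mk Nat.prime_three
  have hsol := (solvable_of_exp h).1
  set E := Cfsg.pCore 3 H with hE
  have hEp : IsPGroup 3 E := CfsgLib.isPGroup_pCore 3
  have hE3 : ∀ e ∈ E, e ^ 3 = 1 := by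
    intro e he
    obtain ⟨j, hj⟩ := IsPGroup.iff_orderOf.mp hEp ⟨e, he⟩
    rw [Subgroup.orderOf_mk] at hj
    apply orderOf_dvd_iff_pow_eq_one.mp
    have h6 : orderOf e ∣ 2 * 3 := orderOf_dvd_of_pow_eq_one (h e)
    rw [hj] at h6 ⊢
    exact (Nat.Coprime.pow_left j (by norm_num : Nat.Coprime 3 2)).dvd_of_dvd_mul_left h6
  have h1 : ∀ x : H ⧸ E, x ^ 6 = 1 := fun x => by
    obtain ⟨g, rfl⟩ := QuotientGroup.mk'_surjective E x
    rw [← map_pow, h, map_one]
  have hc3 : Cfsg.pCore 3 (H ⧸ E) = ⊥ := by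
    rw [eq_bot_iff]
    intro x hx
    obtain ⟨g, rfl⟩ := QuotientGroup.mk'_surjective E x
    rw [Subgroup.mem_bot, QuotientGroup.mk'_apply, QuotientGroup.eq_one_iff]
    refine CfsgLib.le_pCore ((CfsgLib.isPGroup_pCore 3).comap_of_ker_isPGroup (QuotientGroup.mk' E) ?_) hx
    rw [QuotientGroup.ker_mk']; exact hEp
  have hp2 : Cfsg.pPrimeCore 2 (H ⧸ E) = ⊥ := by
    refine eq_bot_iff.mpr (le_trans (CfsgLib.le_pCore (p := 3) ?_) hc3.le)
    obtain ⟨k, hk⟩ : ∃ k, Nat.card (Cfsg.pPrimeCore 2 (H ⧸ E)) = 3 ^ k := ⟨_, Nat.eq_prime_pow_of_unique_prime_dvd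
      Nat.card_pos.ne' fun {d} hd hdi => ((solvable_of_exp h1).2 d hd (hdi.trans (Subgroup.card_subgroup_dvd_card _))).resolve_left
        fun e => hd.ne_one (Nat.eq_one_of_dvd_coprimes (CfsgLib.card_pPrimeCore_coprime (G := H ⧸ E) 2) hdi (by rw [e]))⟩
    exact IsPGroup.of_card hk
  have := (solvable_of_exp h1).1
  set Q := Cfsg.pCore 2 (H ⧸ E)
  have hQ2 : ∀ q ∈ Q, q * q = 1 := by
    intro q hq
    obtain ⟨j, hj⟩ := IsPGroup.iff_orderOf.mp (CfsgLib.isPGroup_pCore (G := H ⧸ E) 2) ⟨q, hq⟩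
    rw [Subgroup.orderOf_mk] at hj
    have h6 : orderOf q ∣ 2 * 3 := orderOf_dvd_of_pow_eq_one (h1 q)
    rw [← pow_two, ← orderOf_dvd_iff_pow_eq_one]
    rw [hj] at h6 ⊢
    exact (Nat.Coprime.pow_left j (by norm_num : Nat.Coprime 2 3)).dvd_of_dvd_mul_right h6
  have hQc : ∀ q ∈ Q, ∀ r ∈ Q, q * r = r * q := by
    intro q hq r hr
    have inv : ∀ z ∈ Q, z⁻¹ = z := fun z hz => inv_eq_iff_mul_eq_one.mpr (hQ2 z hz)
    calc q * r = (q * r)⁻¹ := (inv _ (Q.mul_mem hq hr)).symm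
      _ = r * q := by rw [mul_inv_rev, inv q hq, inv r hr]
  obtain ⟨X, hX⟩ := exists_prime_orderOf_dvd_card' (G := H ⧸ E) 3 hd
  have hX3 : X ^ 3 = 1 := orderOf_dvd_iff_pow_eq_one.mp (by rw [hX])
  obtain ⟨q, hq, hqX⟩ : ∃ q ∈ Q, q * X ≠ X * q := by
    by_contra hall
    push Not at hall
    have hXQ : X ∈ Q := CfsgLib.centralizer_pCore_le Nat.prime_two hp2 hall
    have := orderOf_dvd_of_pow_eq_one (show X ^ 2 = 1 by rw [pow_two]; exact hQ2 X hXQ)
    rw [hX] at this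
    norm_num at this
  have hσ : ∀ z ∈ Q, X * z * X⁻¹ ∈ Q := fun z hz => (inferInstance : (Cfsg.pCore 2 (H ⧸ E)).Normal).conj_mem z hz X
  set q1 := X * q * X⁻¹ with hq1
  set q2 := X * q1 * X⁻¹ with hq2
  have hq3 : X * q2 * X⁻¹ = q := by
    rw [hq2, hq1, show X * (X * (X * q * X⁻¹) * X⁻¹) * X⁻¹ = X ^ 3 * q * (X ^ 3)⁻¹ by simp only [pow_succ, pow_zero, one_mul]; group, hX3]
    simp
  have m1 : q1 ∈ Q := hσ q hq
  have m2 : q2 ∈ Q := hσ _ m1
  set a := q * q1 with ha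
  set b := q1 * q2 with hb
  have hXa : X * a * X⁻¹ = b := by rw [ha, hb, hq2, hq1]; group
  have hXb : X * b * X⁻¹ = a * b := by
    rw [hb, show X * (q1 * q2) * X⁻¹ = (X * q1 * X⁻¹) * (X * q2 * X⁻¹) by group, hq3, ← hq2, ha,
      show q * q1 * (q1 * q2) = q * (q1 * q1) * q2 by group, hQ2 q1 m1, mul_one]
    exact hQc _ m2 _ hq
  have ha1 : a ≠ 1 := by
    intro e
    refine hqX ?_
    have : q1 = q := by
      rw [ha, ← hQ2 q hq] at e
      exact mul_left_cancel e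
    rw [hq1, mul_inv_eq_iff_eq_mul] at this
    exact this.symm
  -- the action on E modulo its Frattini subgroup
  set N : Subgroup H := (frattini E).map E.subtype with hN
  have hNn : N.Normal := by
    have := CfsgLib.le_normalizer_map_characteristic (A := (⊤ : Subgroup H)) (K := E)
      (Subgroup.normalizer_eq_top E).ge (frattini E)
    exact Subgroup.normalizer_eq_top_iff.mp (top_le_iff.mp this.1)
  let π := QuotientGroup.mk' N
  set V : Subgroup (H ⧸ N) := E.map π with hV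
  have hVn : V.Normal := (inferInstance : E.Normal).map π (QuotientGroup.mk'_surjective N)
  have hVc : IsMulCommutative V := by
    refine ⟨⟨?_⟩⟩
    rintro ⟨_, x, hx, rfl⟩ ⟨_, y, hy, rfl⟩
    refine Subtype.ext ?_
    show π x * π y = π y * π x
    rw [← map_mul, ← map_mul]
    refine (QuotientGroup.eq.mpr ?_)
    refine ⟨(⟨x, hx⟩ * ⟨y, hy⟩ : E)⁻¹ * (⟨y, hy⟩ * ⟨x, hx⟩), ?_, rfl⟩
    have hcomm := CfsgLib.commutator_le_frattini_pGroup hEp (Subgroup.commutator_mem_commutator (Subgroup.mem_top (⟨y, hy⟩⁻¹ : E)) (Subgroup.mem_top (⟨x, hx⟩⁻¹ : E)))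
    have e : (⟨x, hx⟩ * ⟨y, hy⟩ : E)⁻¹ * (⟨y, hy⟩ * ⟨x, hx⟩) = ⟨y, hy⟩⁻¹ * ⟨x, hx⟩⁻¹ * (⟨y, hy⟩ * ⟨x, hx⟩) := by group
    rw [e]
    simpa [commutatorElement_def, mul_assoc] using hcomm
  let ψ : H →* MulAut V := MulAut.conjNormal.comp π
  have hψ : E ≤ ψ.ker := by
    intro e he
    refine MulEquiv.ext fun v => Subtype.ext ?_
    show π e * v * (π e)⁻¹ = v
    have := congrArg Subtype.val (hVc.is_comm.comm ⟨π e, ⟨e, he, rfl⟩⟩ v)
    rw [show π e * v = v * π e from this, mul_inv_cancel_right]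
  let ρ : H ⧸ E →* MulAut V := QuotientGroup.lift E ψ hψ
  have hV3 : ∀ v : V, v ^ 3 = 1 := by
    rintro ⟨_, e, he, rfl⟩
    refine Subtype.ext ?_
    show π e ^ 3 = 1
    rw [← map_pow, hE3 e he, map_one]
  have hquad : ∀ y : H ⧸ E, y ^ 3 = 1 → ∀ v : V, v * ρ y v * ρ (y * y) v = 1 := by
    intro y hy v
    obtain ⟨g, rfl⟩ := QuotientGroup.mk'_surjective E y
    obtain ⟨_, e, he, rfl⟩ := v
    have hg3 : ∀ z : H, QuotientGroup.mk' E z = QuotientGroup.mk' E g → z ^ 3 = 1 := by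
      intro z hz
      have hz3 : z ^ 3 ∈ E := by
        rw [← QuotientGroup.eq_one_iff, ← QuotientGroup.mk'_apply, map_pow, hz, hy]
      have e1 : (z ^ 3) ^ 2 = 1 := by rw [← pow_mul]; exact h z
      have := hE3 _ hz3
      rwa [pow_succ, e1, one_mul] at this
    have k1 := hg3 g rfl
    have k2 := hg3 (e * g) (by rw [map_mul, show QuotientGroup.mk' E e = 1 from (QuotientGroup.eq_one_iff e).mpr he, one_mul])
    refine Subtype.ext ?_
    show π e * (π g * π e * (π g)⁻¹) * (π (g * g) * π e * (π (g * g))⁻¹) = 1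
    rw [← map_inv, ← map_inv]
    simp only [← map_mul]
    rw [show e * (g * e * g⁻¹) * (g * g * e * (g * g)⁻¹) = (e * g) ^ 3 * (g ^ 3)⁻¹ by
      simp only [pow_succ, pow_zero, one_mul]; group, k1, k2, inv_one, mul_one, map_one]
  have key := eq_one_of_quadratic ρ hV3 hquad X a b hX3 (hQ2 _ (Q.mul_mem hq m1)) (hQ2 _ (Q.mul_mem m1 m2))
    (hQc _ (Q.mul_mem hq m1) _ (Q.mul_mem m1 m2)) hXa hXb
  obtain ⟨g, hg⟩ := QuotientGroup.mk'_surjective E a
  have hga : QuotientGroup.mk' E (g ^ 3) = a := by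
    rw [map_pow, hg, pow_succ, pow_two, hQ2 _ (Q.mul_mem hq m1), one_mul]
  have hgc : Subgroup.zpowers (g ^ 3) ≤ Subgroup.centralizer (E : Set H) := by
    refine CfsgLib.centralize_of_trivial_mod_frattini ((Subgroup.normalizer_eq_top E).symm ▸ le_top) ?_ ?_
    · obtain ⟨j, hj⟩ := (hEp.to_subgroup (frattini E)).exists_card_eq
      rw [hj, Nat.card_zpowers]
      refine Nat.Coprime.coprime_dvd_left (orderOf_dvd_of_pow_eq_one (?_ : (g ^ 3) ^ 2 = 1)) ?_
      · rw [← pow_mul]; exact h g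
      · exact (by norm_num : Nat.Coprime 2 3).pow_right j
    · intro w hw k hk
      obtain ⟨i, rfl⟩ := Subgroup.mem_zpowers_iff.mp hw
      rw [← hN, ← QuotientGroup.eq_one_iff, ← QuotientGroup.mk'_apply, map_mul, map_inv, mul_inv_eq_one]
      have h2 : ρ (QuotientGroup.mk' E ((g ^ 3) ^ i)) = 1 := by
        rw [map_zpow, hga, map_zpow, show ρ a = 1 from MulEquiv.ext key, one_zpow]
      have h3 := congrArg Subtype.val (MulEquiv.congr_fun h2 ⟨π k, k, hk, rfl⟩)
      simp only [MulAut.one_apply] at h3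
      rw [map_mul, map_mul, map_inv]
      exact h3
  have hmem := CfsgLib.centralizer_pCore_le Nat.prime_three h0 (hgc (Subgroup.mem_zpowers _))
  exact ha1 (hga ▸ (QuotientGroup.eq_one_iff _).mpr hmem)

private theorem pLength_of_exp {G : Type uu} [Group G] [Finite G] {p : ℕ} [hp : Fact p.Prime]
    (h : ∀ x : G, x ^ 6 = 1)
    (key : ∀ (H : Type uu) [Group H] [Finite H], (∀ x : H, x ^ 6 = 1) → Cfsg.pPrimeCore p H = ⊥ → ¬ p ∣ (Cfsg.pCore p H).index) :
    Cfsg.PLengthLE p 1 G := by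
  have e1 : (Cfsg.upperPSeries p G 1).1 = Cfsg.pPrimeCore p G := by
    show (Cfsg.pPrimeCore p (G ⧸ (⊥ : Subgroup G))).comap (QuotientGroup.mk' _) = _
    refine le_antisymm (CfsgLib.le_pPrimeCore ?_) ?_
    · rw [CfsgLib.card_comap_mk, Subgroup.card_bot, one_mul]
      exact CfsgLib.card_pPrimeCore_coprime p
    · rw [← Subgroup.map_le_iff_le_comap]
      have : ((Cfsg.pPrimeCore p G).map (QuotientGroup.mk' (⊥ : Subgroup G))).Normal :=
        (inferInstance : (Cfsg.pPrimeCore p G).Normal).map _ (QuotientGroup.mk'_surjective _)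
      exact CfsgLib.le_pPrimeCore ((CfsgLib.card_pPrimeCore_coprime p).coprime_dvd_left (Subgroup.card_map_dvd _ _))
  have hn1 : (Cfsg.upperPSeries p G 1).1.Normal := inferInstance
  have k1 : ¬ p ∣ (Cfsg.upperPSeries p G 2).1.index := by
    show ¬ p ∣ ((Cfsg.pCore p (G ⧸ (Cfsg.upperPSeries p G 1).1)).comap (QuotientGroup.mk' _)).index
    rw [Subgroup.index_comap_of_surjective _ (QuotientGroup.mk'_surjective _)]
    refine key _ (fun x => ?_) ?_
    · obtain ⟨g, rfl⟩ := QuotientGroup.mk'_surjective _ x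
      rw [← map_pow, h, map_one]
    · have q : ∀ (N : Subgroup G) [N.Normal], N = Cfsg.pPrimeCore p G → Cfsg.pPrimeCore p (G ⧸ N) = ⊥ := by
        rintro N _ rfl
        exact CfsgLib.pPrimeCore_quotient_eq_bot p
      exact q _ e1
  show ((Cfsg.pPrimeCore p (G ⧸ (Cfsg.upperPSeries p G 2).1)).comap (QuotientGroup.mk' _)) = ⊤
  rw [show Cfsg.pPrimeCore p (G ⧸ (Cfsg.upperPSeries p G 2).1) = ⊤ from top_le_iff.mp (CfsgLib.le_pPrimeCore ?_),
    Subgroup.comap_top]
  rw [Subgroup.card_top]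
  exact ((Nat.Prime.coprime_iff_not_dvd hp.out).mpr k1).symm

/-- A finite group in which every element has order dividing `6` has `2`-length at most `1` and `3`-length at most `1`. -/
theorem result {G : Type*} [Group G] [Finite G] (h : ∀ x : G, x ^ 6 = 1) : Cfsg.PLengthLE 2 1 G ∧ Cfsg.PLengthLE 3 1 G := by
  have := Fact.mk Nat.prime_two
  have := Fact.mk Nat.prime_three
  exact ⟨pLength_of_exp h fun _ _ _ => case_two, pLength_of_exp h fun _ _ _ => case_three⟩

end Cfsg.Agent.S4227
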