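import Cfsg.Statements.S4230
import Mathlib
-- import your own Cfsg.Agent.* helpers here

set_option autoImplicit false
open Cfsg

namespace Cfsg.Agent.S4230

/-- Let p be an odd prime, q a natural number not divisible by p, and e the multiplicative order of q modulo p. For a natural number f, p divides the value at q of the f-th cyclotomic polynomial if and only if f = e·p^j for some j ≥ 0. -/
theorem result (p q f : ℕ) (hp : p.Prime) (hp2 : p ≠ 2) (hpq : ¬ p ∣ q) :
    ((p : ℤ) ∣ (Polynomial.cyclotomic f ℤ).eval (q : ℤ)) ↔ ∃ j : ℕ, f = orderOf (q : ZMod p) * p ^ j := by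
  have := Fact.mk hp
  set e := orderOf (q : ZMod p) with he
  have hq0 : (q : ZMod p) ≠ 0 := fun h => hpq ((ZMod.natCast_eq_zero_iff q p).mp h)
  have he0 : 0 < e := by
    rw [he]
    exact orderOf_pos_iff.mpr (isOfFinOrder_iff_pow_eq_one.mpr
      ⟨p - 1, Nat.sub_pos_of_lt hp.one_lt, ZMod.pow_card_sub_one_eq_one hq0⟩)
  have hpe : ¬ p ∣ e := fun h => by
    have h1 := Nat.le_of_dvd (by have := hp.two_le; omega) (h.trans (ZMod.orderOf_dvd_card_sub_one hq0))
    have := hp.two_le
    omega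
  rcases eq_or_ne f 0 with rfl | hf
  · refine iff_of_false ?_ ?_
    · rw [Polynomial.cyclotomic_zero, Polynomial.eval_one]
      exact fun h => hp.ne_one (by exact_mod_cast Int.eq_one_of_dvd_one (Int.natCast_nonneg p) h)
    · rintro ⟨j, hj⟩
      exact (mul_ne_zero he0.ne' (pow_ne_zero j hp.ne_zero)) hj.symm
  obtain ⟨k, m, hm, hfm⟩ := Nat.exists_eq_pow_mul_and_not_dvd hf p hp.ne_one
  have : NeZero (m : ZMod p) := ⟨fun h => hm ((ZMod.natCast_eq_zero_iff m p).mp h)⟩
  have key : ((p : ℤ) ∣ (Polynomial.cyclotomic f ℤ).eval (q : ℤ)) ↔ e = m := by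
    rw [← ZMod.intCast_zmod_eq_zero_iff_dvd, ← eq_intCast (Int.castRingHom (ZMod p)),
      ← Polynomial.eval_map_apply, Polynomial.map_cyclotomic, eq_intCast, Int.cast_natCast, hfm]
    exact (Polynomial.isRoot_cyclotomic_prime_pow_mul_iff_of_charP (k := k) (p := p) (μ := (q : ZMod p))).trans
      IsPrimitiveRoot.iff_orderOf
  rw [key]
  constructor
  · intro h
    exact ⟨k, by rw [hfm, h, mul_comm]⟩
  · rintro ⟨j, hj⟩
    rw [hfm] at hj
    have h1 : e ∣ m := ((Nat.Coprime.pow_right k ((hp.coprime_iff_not_dvd.mpr hpe).symm))).dvd_of_dvd_mul_left (Dvd.intro _ hj.symm)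
    have h2 : m ∣ e := ((Nat.Coprime.pow_right j ((hp.coprime_iff_not_dvd.mpr hm).symm))).dvd_of_dvd_mul_right (hj ▸ dvd_mul_left m (p ^ k))
    exact Nat.dvd_antisymm h1 h2

end Cfsg.Agent.S4230
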