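import Cfsg.Statements.S4234
import Mathlib
import Cfsg.Agent.Lib.DicksonFull.Subgroups
-- import your own Cfsg.Agent.* helpers here

set_option autoImplicit false
open Cfsg

namespace Cfsg.Agent.S4234

namespace Aux

open CfsgLib.DicksonFull

local notation "F13" => ZMod 13
local notation "L13" => Matrix.ProjectiveSpecialLinearGroup (Fin 2) (ZMod 13)
local notation "S13" => Matrix.SpecialLinearGroup (Fin 2) (ZMod 13)

local instance : Fact (Nat.Prime 13) := ⟨by norm_num⟩

theorem simple : IsSimpleGroup L13 :=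
  Matrix.ProjectiveSpecialLinearGroup.rank_two_simple (by rw [Nat.card_zmod]; norm_num)

theorem card_L : Nat.card L13 = 1092 := by
  have h := card_psl (F := F13)
  rw [ZMod.card] at h
  rw [show Nat.gcd 2 (13 - 1) = 2 from rfl] at h
  norm_num [-Nat.card_eq_fintype_card] at h
  omega

/-- The orders of the proper subgroups. -/
theorem proper_card {H : Subgroup L13} (hH : H ≠ ⊤) :
    Nat.card H ∈ ({1, 2, 3, 4, 6, 7, 12, 13, 14, 26, 39, 78} : Finset ℕ) := by
  have hdvd : Nat.card H ∣ 1092 := card_L ▸ Subgroup.card_subgroup_dvd_card H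
  rcases proper_cases 13 hH with ⟨k, hk, h⟩ | h | h | h | ⟨u, hu, h⟩ | ⟨Q, m, K, _, _, hKQ, h3, hm, hQm, -⟩
  · rw [ZMod.card] at hk
    norm_num at hk
    have hk' : k ∈ Nat.divisors 7 ∨ k ∈ Nat.divisors 6 := hk.imp (fun h => Nat.mem_divisors.mpr ⟨h, by norm_num⟩)
      fun h => Nat.mem_divisors.mpr ⟨h, by norm_num⟩
    have hcard : Nat.card H = k ∨ Nat.card H = 2 * k :=
      h.imp (fun h => h.2) fun ⟨e⟩ => (Nat.card_congr e.toEquiv).trans DihedralGroup.nat_card
    rw [show Nat.divisors 7 = {1, 7} by decide, show Nat.divisors 6 = {1, 2, 3, 6} by decide] at hk'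
    simp only [Finset.mem_insert, Finset.mem_singleton] at hk'
    rcases hk' with (rfl | rfl) | (rfl | rfl | rfl | rfl) <;> rcases hcard with e | e <;> rw [e] <;> decide
  · obtain ⟨e⟩ := h
    rw [Nat.card_congr e.toEquiv, nat_card_alternatingGroup, Nat.card_fin]
    decide
  · obtain ⟨e⟩ := h
    rw [Nat.card_congr e.toEquiv, Nat.card_perm, Nat.card_fin] at hdvd
    norm_num [Nat.factorial] at hdvd
  · obtain ⟨e⟩ := h
    rw [Nat.card_congr e.toEquiv, nat_card_alternatingGroup, Nat.card_fin] at hdvd
    norm_num [Nat.factorial] at hdvd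
  · have h1 := card_bor 13 hu
    rw [ZMod.card] at h1
    norm_num at h1
    have hb : Nat.card (bor u : Subgroup L13) = 78 := by omega
    have h2 : Nat.card H ∈ Nat.divisors 78 :=
      Nat.mem_divisors.mpr ⟨hb ▸ Subgroup.card_dvd_of_le h, by norm_num⟩
    rw [show Nat.divisors 78 = {1, 2, 3, 6, 13, 26, 39, 78} by decide] at h2
    simp only [Finset.mem_insert, Finset.mem_singleton] at h2 ⊢
    omega
  · rw [ZMod.card] at hQm
    exfalso
    have hp : (Q ^ m).Prime := hQm ▸ (by norm_num)
    exact Nat.Prime.not_prime_pow hm hp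

theorem normalizer_ne_top {H : Subgroup L13} (h0 : H ≠ ⊥) (h1 : H ≠ ⊤) :
    Subgroup.normalizer (H : Set L13) ≠ ⊤ := fun h => by
  haveI := simple
  exact (Subgroup.normalizer_eq_top_iff.mp h).eq_bot_or_eq_top.elim h0 h1

theorem centralizer_ne_top {H : Subgroup L13} (h0 : H ≠ ⊥) (h1 : H ≠ ⊤) :
    Subgroup.centralizer (H : Set L13) ≠ ⊤ := fun h =>
  normalizer_ne_top h0 h1 (top_le_iff.mp (h.symm.le.trans (Subgroup.centralizer_le_normalizer _)))

/-- A Sylow subgroup has a larger normaliser than centraliser. -/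
theorem sylow_burnside {r : ℕ} [Fact r.Prime] (P : Sylow r L13) (h1 : 1 < Nat.card P) (h2 : Nat.card P < 1092) :
    ¬ Subgroup.normalizer ((P : Subgroup L13) : Set L13) ≤ Subgroup.centralizer ((P : Subgroup L13) : Set L13) := by
  intro h
  haveI := simple
  have hc := MonoidHom.ker_transferSylow_isComplement' P h
  have hcard := hc.card_mul
  rcases (inferInstance : ((MonoidHom.transferSylow P h).ker).Normal).eq_bot_or_eq_top with e | e
  · rw [e, Subgroup.card_bot, one_mul, card_L] at hcard
    omega
  · rw [e, Subgroup.card_top, card_L] at hcard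
    omega

theorem card_sylow {r : ℕ} [hr : Fact r.Prime] (P : Sylow r L13) {a : ℕ} (ha : r ^ a ∣ 1092)
    (ha' : ¬ r ^ (a + 1) ∣ 1092) : Nat.card P = r ^ a := by
  rw [P.card_eq_multiplicity, card_L]
  refine congrArg (r ^ ·) (le_antisymm ?_ ((hr.out.pow_dvd_iff_le_factorization (by norm_num)).mp ha))
  by_contra h
  exact ha' ((hr.out.pow_dvd_iff_le_factorization (by norm_num)).mpr (by omega))

theorem sylow_facts {r : ℕ} [Fact r.Prime] (P : Sylow r L13) (h1 : 1 < Nat.card P) (h2 : Nat.card P < 1092) :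
    Nat.card (Subgroup.normalizer ((P : Subgroup L13) : Set L13)) ∈
        ({1, 2, 3, 4, 6, 7, 12, 13, 14, 26, 39, 78} : Finset ℕ) ∧
      Nat.card P ∣ Nat.card (Subgroup.normalizer ((P : Subgroup L13) : Set L13)) ∧
      (1092 / Nat.card (Subgroup.normalizer ((P : Subgroup L13) : Set L13))) % r = 1 ∧
      ¬ (Nat.card (Subgroup.normalizer ((P : Subgroup L13) : Set L13)) = Nat.card P ∧
        IsMulCommutative (P : Subgroup L13)) := by
  refine ⟨proper_card (normalizer_ne_top ?_ ?_), Subgroup.card_dvd_of_le Subgroup.le_normalizer, ?_, ?_⟩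
  · intro e
    rw [e, Subgroup.card_bot] at h1
    omega
  · intro e
    rw [e, Subgroup.card_top, card_L] at h2
    omega
  · have hN := (Subgroup.normalizer ((P : Subgroup L13) : Set L13)).card_mul_index
    have h0 : Nat.card (Sylow r L13) = (Subgroup.normalizer ((P : Subgroup L13) : Set L13)).index :=
      P.card_eq_index_normalizer
    rw [card_L, ← h0] at hN
    rw [← hN, Nat.mul_div_cancel_left _ Nat.card_pos]
    have h := card_sylow_modEq_one r L13
    rw [Nat.ModEq, Nat.one_mod_eq_one.mpr (Fact.out : r.Prime).ne_one] at h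
    exact h
  · rintro ⟨e, hc⟩
    apply sylow_burnside P h1 h2
    rw [← Subgroup.eq_of_le_of_card_ge Subgroup.le_normalizer e.le]
    exact fun x hx => Subgroup.mem_centralizer_iff.mpr fun y hy =>
      congrArg Subtype.val (hc.is_comm.comm ⟨y, hy⟩ ⟨x, hx⟩)

theorem mul_comm_of_card {r : ℕ} [Fact r.Prime] (P : Sylow r L13) (h : Nat.card P = r ∨ Nat.card P = r ^ 2) :
    IsMulCommutative (P : Subgroup L13) := by
  rcases h with h | h
  · haveI := isCyclic_of_prime_card (α := (P : Subgroup L13)) h
    infer_instance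
  · exact ⟨⟨IsPGroup.commutative_of_card_eq_prime_sq h⟩⟩

theorem N_three (P : Sylow 3 L13) : Nat.card P = 3 ∧
    Nat.card (Subgroup.normalizer ((P : Subgroup L13) : Set L13)) = 12 := by
  have hP : Nat.card P = 3 := (card_sylow P (a := 1) (by norm_num) (by norm_num)).trans (pow_one 3)
  obtain ⟨h1, h2, h3, h4⟩ := sylow_facts P (by omega) (by omega)
  refine ⟨hP, ?_⟩
  set N := Nat.card (Subgroup.normalizer ((P : Subgroup L13) : Set L13)) with hN
  rw [hP] at h2
  -- an element of the normaliser inverts the Sylow subgroup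
  have heven : 2 ∣ N := by
    by_contra hodd
    apply sylow_burnside P (by omega) (by omega)
    intro g hg
    refine Subgroup.mem_centralizer_iff.mpr fun x hx => ?_
    haveI := isCyclic_of_prime_card (α := (P : Subgroup L13)) hP
    by_cases hx1 : x = 1
    · subst hx1; simp
    have hxo : orderOf x = 3 := by
      refine ((Nat.dvd_prime Nat.prime_three).mp ?_).resolve_left fun h => hx1 (orderOf_eq_one_iff.mp h)
      have hd := orderOf_dvd_natCard (⟨x, hx⟩ : (P : Subgroup L13))
      rwa [hP, ← Subgroup.orderOf_coe] at hd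
    have hzp : Subgroup.zpowers x = (P : Subgroup L13) :=
      Subgroup.eq_of_le_of_card_ge (Subgroup.zpowers_le.mpr hx) (by rw [Nat.card_zpowers, hxo, hP])
    have hmem : g * x * g⁻¹ ∈ Subgroup.zpowers x := by
      rw [hzp]; exact (Subgroup.mem_normalizer_iff.mp hg x).mp hx
    obtain ⟨i, hi⟩ := mem_powers_iff_mem_zpowers.mpr hmem
    have hi' : g * x * g⁻¹ = x ^ (i % 3) := by rw [← hxo, pow_mod_orderOf]; exact hi.symm
    rcases (show i % 3 = 0 ∨ i % 3 = 1 ∨ i % 3 = 2 by omega) with e | e | e <;> rw [e] at hi'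
    · rw [pow_zero, conj_eq_one_iff] at hi'
      exact absurd hi' hx1
    · rw [pow_one, mul_inv_eq_iff_eq_mul] at hi'
      exact hi'.symm
    · exfalso
      obtain ⟨k, hk⟩ : Odd (orderOf g) := by
        have hd : orderOf g ∣ N := by
          rw [hN, show orderOf g = orderOf (⟨g, hg⟩ : Subgroup.normalizer ((P : Subgroup L13) : Set L13)) from
            (Subgroup.orderOf_mk g hg).symm]
          exact orderOf_dvd_natCard _
        exact (Nat.odd_iff.mpr (Nat.two_dvd_ne_zero.mp hodd)).of_dvd_nat hd
      have hinv : MulAut.conj g x = x⁻¹ := by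
        rw [MulAut.conj_apply, hi', eq_inv_iff_mul_eq_one, ← pow_succ]
        rw [show 2 + 1 = orderOf x by rw [hxo]]
        exact pow_orderOf_eq_one x
      have hpow : ∀ n : ℕ, (MulAut.conj g ^ (2 * n)) x = x := by
        intro n
        induction n with
        | zero => simp
        | succ n ih =>
          rw [show 2 * (n + 1) = 2 * n + 1 + 1 by ring, pow_succ, MulAut.mul_apply, hinv, map_inv, pow_succ,
            MulAut.mul_apply, hinv, map_inv, inv_inv, ih]
      have h := hpow k
      rw [← map_pow] at h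
      have e1 : MulAut.conj (g ^ (2 * k)) (MulAut.conj g x) = x := by
        rw [← MulAut.mul_apply, ← map_mul, ← pow_succ, ← hk, pow_orderOf_eq_one, map_one, MulAut.one_apply]
      rw [hinv, map_inv, h] at e1
      exact absurd (hxo ▸ orderOf_dvd_of_pow_eq_one (show x ^ 2 = 1 by rw [pow_two]; exact mul_eq_one_iff_eq_inv.mpr e1.symm)) (by norm_num)
  simp only [Finset.mem_insert, Finset.mem_singleton] at h1
  rcases h1 with e | e | e | e | e | e | e | e | e | e | e | e <;> rw [e] at h2 h3 heven ⊢ <;> omega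

theorem N_seven (P : Sylow 7 L13) : Nat.card P = 7 ∧
    Nat.card (Subgroup.normalizer ((P : Subgroup L13) : Set L13)) = 14 := by
  haveI : Fact (Nat.Prime 7) := ⟨by norm_num⟩
  have hP : Nat.card P = 7 := (card_sylow P (a := 1) (by norm_num) (by norm_num)).trans (pow_one 7)
  obtain ⟨h1, h2, h3, -⟩ := sylow_facts P (by omega) (by omega)
  refine ⟨hP, ?_⟩
  rw [hP] at h2
  simp only [Finset.mem_insert, Finset.mem_singleton] at h1
  rcases h1 with e | e | e | e | e | e | e | e | e | e | e | e <;> rw [e] at h2 h3 ⊢ <;> omega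

theorem N_thirteen (P : Sylow 13 L13) : Nat.card P = 13 ∧
    Nat.card (Subgroup.normalizer ((P : Subgroup L13) : Set L13)) = 78 := by
  have hP : Nat.card P = 13 := (card_sylow P (a := 1) (by norm_num) (by norm_num)).trans (pow_one 13)
  obtain ⟨h1, h2, h3, -⟩ := sylow_facts P (by omega) (by omega)
  refine ⟨hP, ?_⟩
  rw [hP] at h2
  simp only [Finset.mem_insert, Finset.mem_singleton] at h1
  rcases h1 with e | e | e | e | e | e | e | e | e | e | e | e <;> rw [e] at h2 h3 ⊢ <;> omega

theorem N_two (V : Sylow 2 L13) : Nat.card V = 4 ∧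
    Nat.card (Subgroup.normalizer ((V : Subgroup L13) : Set L13)) = 12 := by
  have hV : Nat.card V = 4 := card_sylow V (a := 2) (by norm_num) (by norm_num)
  obtain ⟨h1, h2, -, h4⟩ := sylow_facts V (by omega) (by omega)
  refine ⟨hV, ?_⟩
  have hne : Nat.card (Subgroup.normalizer ((V : Subgroup L13) : Set L13)) ≠ 4 :=
    fun e => h4 ⟨e.trans hV.symm, mul_comm_of_card V (Or.inr hV)⟩
  rw [hV] at h2
  simp only [Finset.mem_insert, Finset.mem_singleton] at h1
  omega

theorem mem_centralizer_zpowers {x y : L13} (h : x * y = y * x) :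
    y ∈ Subgroup.centralizer ((Subgroup.zpowers x : Subgroup L13) : Set L13) :=
  Subgroup.mem_centralizer_iff.mpr fun z hz => by
    obtain ⟨i, rfl⟩ := hz
    exact (Commute.zpow_left h i).eq

theorem card_centralizer_dvd_three {x : L13} (hx : x ≠ 1) :
    Nat.card (Subgroup.centralizer ((Subgroup.zpowers x : Subgroup L13) : Set L13)) ∈
      ({1, 2, 3, 4, 6, 7, 12, 13, 14, 26, 39, 78} : Finset ℕ) := by
  refine proper_card (centralizer_ne_top (Subgroup.zpowers_ne_bot.mpr hx) fun e => ?_)
  haveI := simple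
  obtain ⟨a, b, hab⟩ : ∃ a b : L13, a * b ≠ b * a := by
    by_contra hc
    push Not at hc
    haveI := Fact.mk Nat.prime_three
    obtain ⟨P⟩ : Nonempty (Sylow 3 L13) := inferInstance
    have h12 := (N_three P).2
    have htop : Subgroup.normalizer ((P : Subgroup L13) : Set L13) = ⊤ := by
      refine top_le_iff.mp fun a _ => Subgroup.mem_normalizer_iff.mpr fun b => ?_
      rw [hc a b, mul_inv_cancel_right]
    rw [htop, Subgroup.card_top, card_L] at h12
    omega
  obtain ⟨i, rfl⟩ := Subgroup.mem_zpowers_iff.mp (e.symm ▸ Subgroup.mem_top a)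
  obtain ⟨j, rfl⟩ := Subgroup.mem_zpowers_iff.mp (e.symm ▸ Subgroup.mem_top b)
  exact hab (by rw [← zpow_add, ← zpow_add, add_comm])

/-- The centraliser of an involution has order `12`. -/
theorem C_two {x : L13} (hx : orderOf x = 2) :
    Nat.card (Subgroup.centralizer ((Subgroup.zpowers x : Subgroup L13) : Set L13)) = 12 := by
  haveI := Fact.mk Nat.prime_three
  obtain ⟨P⟩ : Nonempty (Sylow 3 L13) := inferInstance
  obtain ⟨hP, hN⟩ := N_three P
  set N := Subgroup.normalizer ((P : Subgroup L13) : Set L13) with hNdef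
  -- an involution commuting with an element of order three
  obtain ⟨y, hy, hyC⟩ : ∃ y : L13, orderOf y = 2 ∧ y ∈ Subgroup.centralizer ((P : Subgroup L13) : Set L13) := by
    haveI := isCyclic_of_prime_card (α := (P : Subgroup L13)) hP
    obtain ⟨g, hg⟩ := IsCyclic.exists_generator (α := (P : Subgroup L13))
    have hgo : orderOf (g : L13) = 3 := by
      rw [Subgroup.orderOf_coe, orderOf_eq_card_of_forall_mem_zpowers hg, hP]
    obtain ⟨V, hV⟩ : ∃ V : Subgroup L13, V ≤ N ∧ Nat.card V = 4 := by
      obtain ⟨W⟩ : Nonempty (Sylow 2 N) := inferInstance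
      refine ⟨(W : Subgroup N).map N.subtype, Subgroup.map_subtype_le _, ?_⟩
      rw [Subgroup.card_map_of_injective (Subgroup.subtype_injective _), W.card_eq_multiplicity, hN]
      have : (12 : ℕ).factorization 2 = 2 := by
        refine le_antisymm ?_ ((Nat.prime_two.pow_dvd_iff_le_factorization (by norm_num)).mp (by norm_num))
        by_contra h
        have := (Nat.prime_two.pow_dvd_iff_le_factorization (k := 3) (show (12 : ℕ) ≠ 0 by norm_num)).mpr (by omega)
        norm_num at this
      rw [this]; norm_num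
    have hact : ∀ v ∈ V, v * g * v⁻¹ = (g : L13) ∨ v * g * v⁻¹ = (g : L13) ^ 2 := by
      intro v hv
      have hm : v * g * v⁻¹ ∈ Subgroup.zpowers (g : L13) := by
        obtain ⟨i, hi⟩ := hg ⟨_, (Subgroup.mem_normalizer_iff.mp (hV.1 hv) g).mp g.2⟩
        exact ⟨i, by simpa using congrArg Subtype.val hi⟩
      obtain ⟨i, hi⟩ := mem_powers_iff_mem_zpowers.mpr hm
      have hi' : v * g * v⁻¹ = (g : L13) ^ (i % 3) := by
        have h := pow_mod_orderOf (g : L13) i
        rw [hgo] at h
        rw [h]; exact hi.symm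
      rcases (show i % 3 = 0 ∨ i % 3 = 1 ∨ i % 3 = 2 by omega) with e | e | e <;> rw [e] at hi'
      · rw [pow_zero, conj_eq_one_iff] at hi'
        rw [hi', orderOf_one] at hgo
        omega
      · exact Or.inl (by rw [hi', pow_one])
      · exact Or.inr hi'
    set C := Subgroup.centralizer ((P : Subgroup L13) : Set L13) with hC
    have hfix : ∀ v : L13, v * g * v⁻¹ = g → v ∈ C := fun v hv => by
      refine Subgroup.mem_centralizer_iff.mpr fun z hz => ?_
      obtain ⟨i, hi⟩ := hg ⟨z, hz⟩
      rw [← show (g : L13) ^ i = z by simpa using congrArg Subtype.val hi]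
      exact (Commute.zpow_left (mul_inv_eq_iff_eq_mul.mp hv).symm i).eq
    obtain ⟨v, hv, hv1, hvC⟩ : ∃ v ∈ V, v ≠ 1 ∧ v ∈ C := by
      by_contra hcon
      push Not at hcon
      have hinj : Function.Injective fun v : V => (v : L13) * g * (v : L13)⁻¹ := by
        intro a b hab
        have hab' : (a : L13) * g * (a : L13)⁻¹ = b * g * (b : L13)⁻¹ := hab
        have : ((a⁻¹ * b : V) : L13) ∈ C := hfix _ (by
          rw [Subgroup.coe_mul, Subgroup.coe_inv,
            show (a : L13)⁻¹ * b * g * ((a : L13)⁻¹ * b)⁻¹ = (a : L13)⁻¹ * (b * g * (b : L13)⁻¹) * a by group,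
            ← hab']
          group)
        by_contra hne
        exact hcon _ (a⁻¹ * b).2 (fun h => hne (inv_mul_eq_one.mp (Subtype.ext h))) this
      have h4 : Nat.card V ≤ Nat.card ↑({(g : L13), (g : L13) ^ 2} : Set L13) := by
        exact Nat.card_le_card_of_injective
          (fun v : V => (⟨(v : L13) * g * (v : L13)⁻¹, hact v v.2⟩ : ({(g : L13), (g : L13) ^ 2} : Set L13)))
          (fun a b h => hinj (congrArg Subtype.val h))
      rw [hV.2, Nat.card_coe_set_eq] at h4
      have := Set.ncard_insert_le (g : L13) ({(g : L13) ^ 2} : Set L13)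
      rw [Set.ncard_singleton] at this
      omega
    have hd : orderOf v ∣ 2 ^ 2 := by
      rw [show orderOf v = orderOf (⟨v, hv⟩ : V) from (Subgroup.orderOf_mk v hv).symm]
      exact (orderOf_dvd_natCard _).trans (dvd_of_eq hV.2)
    obtain ⟨i, hi, hi'⟩ := (Nat.dvd_prime_pow Nat.prime_two).mp hd
    interval_cases i
    · exact absurd (orderOf_eq_one_iff.mp (by simpa using hi')) hv1
    · exact ⟨v, by simpa using hi', hvC⟩
    · exact ⟨v ^ 2, by rw [orderOf_pow, hi']; norm_num, pow_mem hvC 2⟩
  have hy1 : y ≠ 1 := fun e => by rw [e, orderOf_one] at hy; omega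
  -- every involution lies in a Sylow subgroup, which lies in its centraliser
  have hsyl : ∀ z : L13, orderOf z = 2 → ∃ V : Sylow 2 L13, z ∈ V ∧
      4 ∣ Nat.card (Subgroup.centralizer ((Subgroup.zpowers z : Subgroup L13) : Set L13)) := by
    intro z hz
    have hzp : IsPGroup 2 (Subgroup.zpowers z) := IsPGroup.of_card (n := 1) (by rw [Nat.card_zpowers, hz, pow_one])
    obtain ⟨V, hV⟩ := hzp.exists_le_sylow
    refine ⟨V, hV (Subgroup.mem_zpowers z), (N_two V).1 ▸ Subgroup.card_dvd_of_le fun v hv => ?_⟩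
    refine mem_centralizer_zpowers ?_
    exact congrArg Subtype.val ((mul_comm_of_card V (Or.inr (N_two V).1)).is_comm.comm ⟨z, hV (Subgroup.mem_zpowers z)⟩ ⟨v, hv⟩)
  have hy12 : Nat.card (Subgroup.centralizer ((Subgroup.zpowers y : Subgroup L13) : Set L13)) = 12 := by
    have h1 := card_centralizer_dvd_three hy1
    obtain ⟨-, -, h4⟩ := hsyl y hy
    have h3 : 3 ∣ Nat.card (Subgroup.centralizer ((Subgroup.zpowers y : Subgroup L13) : Set L13)) :=
      hP ▸ Subgroup.card_dvd_of_le fun z hz => mem_centralizer_zpowers ((Subgroup.mem_centralizer_iff.mp hyC z hz).symm)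
    simp only [Finset.mem_insert, Finset.mem_singleton] at h1
    omega
  -- all involutions are conjugate
  obtain ⟨V, hxV, -⟩ := hsyl x hx
  obtain ⟨W, hyW, -⟩ := hsyl y hy
  obtain ⟨s, hs⟩ := MulAction.exists_smul_eq L13 W V
  have hy'V : s * y * s⁻¹ ∈ (V : Subgroup L13) := by
    rw [← hs, Sylow.coe_subgroup_smul, Subgroup.pointwise_smul_def]
    exact ⟨y, hyW, rfl⟩
  suffices h : ∃ t : L13, t * (s * y * s⁻¹) * t⁻¹ = x by
    obtain ⟨t, ht⟩ := h
    have e : (Subgroup.centralizer ((Subgroup.zpowers y : Subgroup L13) : Set L13)).map (MulAut.conj (t * s)).toMonoidHom =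
        Subgroup.centralizer ((Subgroup.zpowers x : Subgroup L13) : Set L13) := by
      have hx' : (t * s) * y * (t * s)⁻¹ = x := by rw [← ht]; group
      ext z
      simp only [Subgroup.mem_map_equiv, MulAut.conj_symm_apply]
      constructor
      · intro hz
        refine mem_centralizer_zpowers ?_
        have := Subgroup.mem_centralizer_iff.mp hz y (Subgroup.mem_zpowers y)
        calc x * z = (t * s) * (y * ((t * s)⁻¹ * z * (t * s))) * (t * s)⁻¹ := by rw [← hx']; group
          _ = z * x := by rw [this, ← hx']; group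
      · intro hz
        refine mem_centralizer_zpowers ?_
        have := Subgroup.mem_centralizer_iff.mp hz x (Subgroup.mem_zpowers x)
        calc y * ((t * s)⁻¹ * z * (t * s)) = (t * s)⁻¹ * (x * z) * (t * s) := by rw [← hx']; group
          _ = (t * s)⁻¹ * z * (t * s) * y := by rw [this, ← hx']; group
    rw [← e, Subgroup.card_map_of_injective (MulAut.conj (t * s)).injective, hy12]
  obtain ⟨hV4, hVN⟩ := N_two V
  obtain ⟨g, hg⟩ := exists_prime_orderOf_dvd_card' (G := Subgroup.normalizer ((V : Subgroup L13) : Set L13)) 3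
    (by rw [hVN]; norm_num)
  -- orbit of length three on the involutions
  classical
  let U : Set L13 := {z | z ∈ (V : Subgroup L13) ∧ z ≠ 1}
  have hU : U.ncard = 3 := by
    have : U = ((V : Subgroup L13) : Set L13) \ {1} := by
      ext a; exact Iff.rfl
    rw [this, Set.ncard_diff_singleton_of_mem (one_mem _), ← Nat.card_coe_set_eq]
    have : Nat.card ↥((V : Subgroup L13) : Set L13) = 4 := hV4
    omega
  have hgU : ∀ z ∈ U, (g : L13) * z * (g : L13)⁻¹ ∈ U := fun z hz =>
    ⟨(Subgroup.mem_normalizer_iff.mp g.2 z).mp hz.1, fun h => hz.2 (conj_eq_one_iff.mp h)⟩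
  have hg1 : orderOf (g : L13) = 3 := (Subgroup.orderOf_coe g).trans hg
  have hmove : ∀ z ∈ U, (g : L13) * z * (g : L13)⁻¹ ≠ z := by
    intro z hz hfix
    -- then the element centralises the whole group
    have hd : orderOf z ∣ 2 ^ 2 := by
      rw [show orderOf z = orderOf (⟨z, hz.1⟩ : (V : Subgroup L13)) from (Subgroup.orderOf_mk z hz.1).symm]
      exact (orderOf_dvd_natCard _).trans (dvd_of_eq hV4)
    obtain ⟨W, hW⟩ : ∃ W : Subgroup L13, W = Subgroup.centralizer ((Subgroup.zpowers (g : L13) : Subgroup L13) : Set L13) :=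
      ⟨_, rfl⟩
    apply sylow_burnside V (by omega) (by omega)
    have hfix2 : ∀ w ∈ (V : Subgroup L13), (g : L13) * w * (g : L13)⁻¹ = w := by
      intro w hw
      by_cases hw1 : w = 1
      · simp [hw1]
      by_contra hne
      have hww : ∀ a ∈ U, (g : L13) * a * (g : L13)⁻¹ ≠ a → (g : L13) * ((g : L13) * a * (g : L13)⁻¹) * (g : L13)⁻¹ = a → False := by
        intro a _ ha haa
        apply ha
        have h2 : (g : L13) ^ 2 * a * ((g : L13) ^ 2)⁻¹ = a :=
          (show (g : L13) ^ 2 * a * ((g : L13) ^ 2)⁻¹ = (g : L13) * ((g : L13) * a * (g : L13)⁻¹) * (g : L13)⁻¹ by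
            simp [pow_two, mul_assoc]).trans haa
        have h3 : (g : L13) ^ 3 = 1 := hg1 ▸ pow_orderOf_eq_one _
        calc (g : L13) * a * (g : L13)⁻¹ = (g : L13) * ((g : L13) ^ 2 * a * ((g : L13) ^ 2)⁻¹) * (g : L13)⁻¹ := by rw [h2]
          _ = (g : L13) ^ 3 * a * ((g : L13) ^ 3)⁻¹ := by simp [pow_succ, mul_assoc]
          _ = a := by rw [h3]; group
      have hwU : w ∈ U := ⟨hw, hw1⟩
      have h1 := hgU w hwU
      have h2 := hgU _ h1
      have hzw : z ≠ w := fun e => hne (e ▸ hfix)
      have hz1 : z ≠ (g : L13) * w * (g : L13)⁻¹ := fun e => hzw (by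
        have := hfix; rw [e] at this
        exact e.trans (by have h' := mul_left_cancel (mul_right_cancel this); exact h'))
      have hz2 : z ≠ (g : L13) * ((g : L13) * w * (g : L13)⁻¹) * (g : L13)⁻¹ := fun e => hz1 (by
        have := hfix; rw [e] at this
        exact e.trans (mul_left_cancel (mul_right_cancel this)))
      have hsub : ({z, w, (g : L13) * w * (g : L13)⁻¹, (g : L13) * ((g : L13) * w * (g : L13)⁻¹) * (g : L13)⁻¹} : Set L13) ⊆ U := by
        intro a ha
        simp only [Set.mem_insert_iff, Set.mem_singleton_iff] at ha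
        rcases ha with rfl | rfl | rfl | rfl
        exacts [hz, hwU, h1, h2]
      have := Set.ncard_le_ncard hsub (Set.toFinite _)
      rw [hU, Set.ncard_insert_of_notMem, Set.ncard_insert_of_notMem, Set.ncard_insert_of_notMem, Set.ncard_singleton] at this
      · omega
      · simp only [Set.mem_singleton_iff]
        intro e
        exact hne (mul_left_cancel (mul_right_cancel e)).symm
      · simp only [Set.mem_insert_iff, Set.mem_singleton_iff, not_or]
        exact ⟨fun e => hne e.symm, fun e => hww w hwU hne e.symm⟩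
      · simp only [Set.mem_insert_iff, Set.mem_singleton_iff, not_or]
        exact ⟨hzw, hz1, hz2⟩
    -- the normaliser is generated by the Sylow subgroup and the element
    intro n hn
    have hle : (V : Subgroup L13) ⊔ Subgroup.zpowers (g : L13) ≤ Subgroup.centralizer ((V : Subgroup L13) : Set L13) := by
      refine sup_le (fun a ha => Subgroup.mem_centralizer_iff.mpr fun b hb => ?_) (Subgroup.zpowers_le.mpr ?_)
      · exact congrArg Subtype.val ((mul_comm_of_card V (Or.inr hV4)).is_comm.comm ⟨b, hb⟩ ⟨a, ha⟩)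
      · exact Subgroup.mem_centralizer_iff.mpr fun b hb => (mul_inv_eq_iff_eq_mul.mp (hfix2 b hb)).symm
    apply hle
    have htop : (V : Subgroup L13) ⊔ Subgroup.zpowers (g : L13) = Subgroup.normalizer ((V : Subgroup L13) : Set L13) := by
      refine Subgroup.eq_of_le_of_card_ge (sup_le Subgroup.le_normalizer (Subgroup.zpowers_le.mpr g.2)) ?_
      rw [hVN]
      refine Nat.le_of_dvd Nat.card_pos (Nat.Coprime.mul_dvd_of_dvd_of_dvd (show Nat.Coprime 4 3 by norm_num)
        (hV4 ▸ Subgroup.card_dvd_of_le le_sup_left) ?_)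
      rw [← hg1, ← Nat.card_zpowers]
      exact Subgroup.card_dvd_of_le le_sup_right
    rw [htop]; exact hn
  have hxU : x ∈ U := ⟨hxV, fun e => by rw [e, orderOf_one] at hx; omega⟩
  have hyU : s * y * s⁻¹ ∈ U := ⟨hy'V, fun e => hy1 (conj_eq_one_iff.mp e)⟩
  set a := s * y * s⁻¹ with ha
  by_contra hcon
  push Not at hcon
  have h1 := hgU a hyU
  have h2 := hgU _ h1
  have h01 : a ≠ (g : L13) * a * (g : L13)⁻¹ := (hmove a hyU).symm
  have h12 := (hmove _ h1).symm
  have h02 : a ≠ (g : L13) * ((g : L13) * a * (g : L13)⁻¹) * (g : L13)⁻¹ := fun e => by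
    apply hmove a hyU
    have h3 : (g : L13) ^ 3 = 1 := hg1 ▸ pow_orderOf_eq_one _
    calc (g : L13) * a * (g : L13)⁻¹ = (g : L13) * ((g : L13) * ((g : L13) * a * (g : L13)⁻¹) * (g : L13)⁻¹) * (g : L13)⁻¹ := by rw [← e]
      _ = (g : L13) ^ 3 * a * ((g : L13) ^ 3)⁻¹ := by simp [pow_succ, mul_assoc]
      _ = a := by rw [h3]; group
  have hsub : ({x, a, (g : L13) * a * (g : L13)⁻¹, (g : L13) * ((g : L13) * a * (g : L13)⁻¹) * (g : L13)⁻¹} : Set L13) ⊆ U := by
    intro b hb
    simp only [Set.mem_insert_iff, Set.mem_singleton_iff] at hb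
    rcases hb with rfl | rfl | rfl | rfl
    exacts [hxU, hyU, h1, h2]
  have := Set.ncard_le_ncard hsub (Set.toFinite _)
  rw [hU, Set.ncard_insert_of_notMem, Set.ncard_insert_of_notMem, Set.ncard_insert_of_notMem, Set.ncard_singleton] at this
  · omega
  · simpa only [Set.mem_singleton_iff] using h12
  · simp only [Set.mem_insert_iff, Set.mem_singleton_iff, not_or]
    exact ⟨h01, h02⟩
  · simp only [Set.mem_insert_iff, Set.mem_singleton_iff, not_or]
    exact ⟨fun e => hcon 1 (by rw [e]; simp), fun e => hcon (g : L13) (by rw [e]),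
      fun e => hcon ((g : L13) * g) (by rw [e]; simp [mul_assoc])⟩

/-- A Sylow subgroup of prime order inside a subgroup. -/
theorem sylow_inside {H : Subgroup L13} {r : ℕ} [hr : Fact r.Prime] (hd : r ∣ Nat.card H) (h2 : ¬ r ^ 2 ∣ 1092)
    (hrd : r ∣ 1092) : ∃ Q : Sylow r L13, (Q : Subgroup L13) ≤ H := by
  obtain ⟨x, hx⟩ := exists_prime_orderOf_dvd_card' r hd
  have hxp : IsPGroup r (Subgroup.zpowers (x : L13)) :=
    IsPGroup.of_card (n := 1) (by rw [Nat.card_zpowers, Subgroup.orderOf_coe, hx, pow_one])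
  obtain ⟨Q, hQ⟩ := hxp.exists_le_sylow
  have hQc : Nat.card Q = r := (card_sylow Q (a := 1) (by rwa [pow_one]) h2).trans (pow_one r)
  refine ⟨Q, ?_⟩
  rw [← Subgroup.eq_of_le_of_card_ge hQ (by rw [Nat.card_zpowers, Subgroup.orderOf_coe, hx, hQc])]
  exact Subgroup.zpowers_le.mpr x.2

/-- A Sylow subgroup that is unique in a subgroup is normalised by its normaliser. -/
theorem le_normalizer_of_unique {H : Subgroup L13} {r : ℕ} [hr : Fact r.Prime] (Q : Sylow r L13)
    (hQ : (Q : Subgroup L13) ≤ H) (hu : ∀ n : ℕ, n ∣ Nat.card H → n % r = 1 →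
      n * Nat.card Q ∣ Nat.card H → n = 1) :
    Subgroup.normalizer (H : Set L13) ≤ Subgroup.normalizer ((Q : Subgroup L13) : Set L13) := by
  set QH := Q.subtype hQ with hQH
  have hn := hu (Nat.card (Sylow r H)) ((QH.card_dvd_index).trans (Subgroup.index_dvd_card _))
    (by
      have h := card_sylow_modEq_one r H
      rwa [Nat.ModEq, Nat.one_mod_eq_one.mpr hr.out.ne_one] at h)
    (by
      rw [← Subgroup.card_mul_index (QH : Subgroup H),
        show Nat.card (QH : Subgroup H) = Nat.card Q from Nat.card_congr (Subgroup.subgroupOfEquivOfLe hQ).toEquiv,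
        mul_comm]
      exact mul_dvd_mul_left _ QH.card_dvd_index)
  haveI : Subsingleton (Sylow r H) := (Nat.card_eq_one_iff_unique.mp hn).1
  haveI := Sylow.characteristic_of_subsingleton QH
  intro g hg
  refine Subgroup.mem_normalizer_iff'.mpr ?_
  have key : ∀ a ∈ Subgroup.normalizer (H : Set L13), ∀ z ∈ (Q : Subgroup L13), a * z * a⁻¹ ∈ (Q : Subgroup L13) := by
    intro a ha z hz
    let e : MulAut H := (MulAut.conj a).subgroupMap H |>.trans (MulEquiv.subgroupCongr (by
      ext w
      refine ⟨?_, fun hw => ⟨a⁻¹ * w * a, ((Subgroup.mem_normalizer_iff''.mp ha) w).mp hw, ?_⟩⟩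
      · rintro ⟨v, hv, rfl⟩
        exact (Subgroup.mem_normalizer_iff.mp ha v).mp hv
      · simp [mul_assoc]))
    have hm : e ⟨z, hQ hz⟩ ∈ (QH : Subgroup H) := by
      have h := Subgroup.characteristic_iff_le_comap.mp inferInstance e (show (⟨z, hQ hz⟩ : H) ∈ (QH : Subgroup H) from hz)
      exact h
    exact hm
  intro z
  constructor
  · intro hz
    have := key g hg _ hz
    simpa [mul_assoc] using this
  · intro hz
    have := key g⁻¹ (inv_mem hg) _ hz
    simpa [mul_assoc] using this

/-- The normaliser of a proper nontrivial subgroup. -/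
theorem card_normalizer {H : Subgroup L13} (h0 : H ≠ ⊥) (h1 : H ≠ ⊤) :
    Nat.card (Subgroup.normalizer (H : Set L13)) ∈ ({12, 14, 78} : Finset ℕ) := by
  have hN := proper_card (normalizer_ne_top h0 h1)
  have hH := proper_card h1
  have hHN : Nat.card H ∣ Nat.card (Subgroup.normalizer (H : Set L13)) := Subgroup.card_dvd_of_le Subgroup.le_normalizer
  have hne : Nat.card H ≠ 1 := fun e => h0 (Subgroup.card_eq_one.mp e)
  haveI := Fact.mk Nat.prime_two
  haveI := Fact.mk Nat.prime_three
  haveI : Fact (Nat.Prime 7) := ⟨by norm_num⟩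
  simp only [Finset.mem_insert, Finset.mem_singleton] at hH hN ⊢
  rcases hH with e | e | e | e | e | e | e | e | e | e | e | e
  · exact absurd e hne
  · -- order two
    haveI := isCyclic_of_prime_card (α := H) e
    obtain ⟨x, hx⟩ := IsCyclic.exists_generator (α := H)
    have hxo : orderOf (x : L13) = 2 := by
      rw [Subgroup.orderOf_coe, orderOf_eq_card_of_forall_mem_zpowers hx, e]
    have hH' : Subgroup.zpowers (x : L13) = H :=
      Subgroup.eq_of_le_of_card_ge (Subgroup.zpowers_le.mpr x.2) (by rw [Nat.card_zpowers, hxo, e])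
    have h := C_two hxo
    rw [hH'] at h
    have hd : 12 ∣ Nat.card (Subgroup.normalizer (H : Set L13)) :=
      h ▸ Subgroup.card_dvd_of_le (Subgroup.centralizer_le_normalizer _)
    omega
  · obtain ⟨Q, hQ⟩ := sylow_inside (H := H) (r := 3) (by rw [e]) (by norm_num) (by norm_num)
    rw [← Subgroup.eq_of_le_of_card_ge hQ (by rw [e, (N_three Q).1])]
    exact Or.inl (N_three Q).2
  · obtain ⟨V, hV⟩ := (IsPGroup.of_card (p := 2) (n := 2) (G := H) (by rw [e]; norm_num)).exists_le_sylow
    rw [Subgroup.eq_of_le_of_card_ge hV (by rw [e, (N_two V).1])]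
    exact Or.inl (N_two V).2
  · -- order six
    obtain ⟨Q, hQ⟩ := sylow_inside (H := H) (r := 3) (by rw [e]; norm_num) (by norm_num) (by norm_num)
    obtain ⟨hQ3, hQN⟩ := N_three Q
    have hle := le_normalizer_of_unique Q hQ (fun n hn hn1 hn2 => by
      rw [e] at hn hn2
      rw [hQ3] at hn2
      have := Nat.le_of_dvd (by norm_num) hn2
      omega)
    -- a subgroup of index two
    set N := Subgroup.normalizer ((Q : Subgroup L13) : Set L13) with hNdef
    have hHle : H ≤ N := Subgroup.le_normalizer.trans hle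
    have hidx : (H.subgroupOf N).index = 2 := by
      have h := (H.subgroupOf N).card_mul_index
      rw [Nat.card_congr (Subgroup.subgroupOfEquivOfLe hHle).toEquiv, e, hQN] at h
      omega
    haveI := Subgroup.normal_of_index_eq_two hidx
    have hd : Nat.card N ∣ Nat.card (Subgroup.normalizer (H : Set L13)) :=
      Subgroup.card_dvd_of_le ((Subgroup.normal_subgroupOf_iff_le_normalizer hHle).mp inferInstance)
    rw [hQN] at hd
    omega
  · obtain ⟨Q, hQ⟩ := sylow_inside (H := H) (r := 7) (by rw [e]) (by norm_num) (by norm_num)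
    rw [← Subgroup.eq_of_le_of_card_ge hQ (by rw [e, (N_seven Q).1])]
    exact Or.inr (Or.inl (N_seven Q).2)
  · rw [e] at hHN; omega
  · obtain ⟨Q, hQ⟩ := sylow_inside (H := H) (r := 13) (by rw [e]) (by norm_num) (by norm_num)
    rw [← Subgroup.eq_of_le_of_card_ge hQ (by rw [e, (N_thirteen Q).1])]
    exact Or.inr (Or.inr (N_thirteen Q).2)
  · rw [e] at hHN; omega
  all_goals
    obtain ⟨Q, hQ⟩ := sylow_inside (H := H) (r := 13) (by rw [e]; norm_num) (by norm_num) (by norm_num)
    obtain ⟨hQ13, hQN⟩ := N_thirteen Q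
    have hle := le_normalizer_of_unique Q hQ (fun n hn hn1 hn2 => by
      rw [e] at hn hn2
      rw [hQ13] at hn2
      have := Nat.le_of_dvd (by norm_num) hn2
      omega)
    set N := Subgroup.normalizer ((Q : Subgroup L13) : Set L13) with hNdef
    have hHle : H ≤ N := Subgroup.le_normalizer.trans hle
    have hcent : Subgroup.centralizer ((Q : Subgroup L13) : Set L13) ≤ (Q : Subgroup L13) := by
      set C := Subgroup.centralizer ((Q : Subgroup L13) : Set L13) with hC
      have hCN : Nat.card C ∣ 78 := hQN ▸ Subgroup.card_dvd_of_le (Subgroup.centralizer_le_normalizer _)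
      have hno : ∀ r : ℕ, [Fact r.Prime] → r ∣ Nat.card C → (r = 2 ∨ r = 3) → False := by
        intro r _ hr hr23
        obtain ⟨c, hc⟩ := exists_prime_orderOf_dvd_card' r hr
        have hco : orderOf (c : L13) = r := (Subgroup.orderOf_coe c).trans hc
        have hQC : (Q : Subgroup L13) ≤ Subgroup.centralizer ((Subgroup.zpowers (c : L13) : Subgroup L13) : Set L13) :=
          fun z hz => mem_centralizer_zpowers (Subgroup.mem_centralizer_iff.mp c.2 z hz).symm
        rcases hr23 with rfl | rfl
        · have h := hQ13 ▸ Subgroup.card_dvd_of_le hQC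
          rw [C_two hco] at h
          norm_num at h
        · obtain ⟨T, hT⟩ := (IsPGroup.of_card (p := 3) (n := 1) (G := Subgroup.zpowers (c : L13))
            (by rw [Nat.card_zpowers, hco, pow_one])).exists_le_sylow
          rw [Subgroup.eq_of_le_of_card_ge hT (by rw [Nat.card_zpowers, hco, (N_three T).1])] at hQC
          have h := hQ13 ▸ Subgroup.card_dvd_of_le (hQC.trans (Subgroup.centralizer_le_normalizer _))
          rw [(N_three T).2] at h
          norm_num at h
      intro c hc
      have h13 : Nat.card C ∣ 13 := by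
        refine Nat.Coprime.dvd_of_dvd_mul_left (m := 6) ?_ hCN
        refine Nat.coprime_of_dvd fun r hr h1 h2 => ?_
        haveI := Fact.mk hr
        have : r ∣ 2 ∨ r ∣ 3 := hr.dvd_mul.mp h2
        exact hno r h1 (this.imp (fun h => (Nat.prime_dvd_prime_iff_eq hr Nat.prime_two).mp h)
          (fun h => (Nat.prime_dvd_prime_iff_eq hr Nat.prime_three).mp h))
      have hQC : (Q : Subgroup L13) ≤ C := fun a ha => Subgroup.mem_centralizer_iff.mpr fun b hb =>
        congrArg Subtype.val ((mul_comm_of_card Q (Or.inl hQ13)).is_comm.comm ⟨b, hb⟩ ⟨a, ha⟩)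
      rw [Subgroup.eq_of_le_of_card_ge hQC (by rw [hQ13]; exact Nat.le_of_dvd (by norm_num) h13)]
      exact hc
    haveI := isCyclic_of_prime_card (α := (Q : Subgroup L13)) hQ13
    obtain ⟨q, hq⟩ := IsCyclic.exists_generator (α := (Q : Subgroup L13))
    have hpow : ∀ a ∈ N, ∃ i : ℤ, MulAut.conj a (q : L13) = (q : L13) ^ i := fun a ha => by
      obtain ⟨i, hi⟩ := hq ⟨_, (Subgroup.mem_normalizer_iff.mp ha q).mp q.2⟩
      exact ⟨i, by simpa using (congrArg Subtype.val hi).symm⟩
    have hsub : N ≤ Subgroup.normalizer (H : Set L13) := by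
      have key : ∀ a ∈ N, ∀ b ∈ H, a * b * a⁻¹ ∈ H := by
        intro a ha b hb
        obtain ⟨i, hi⟩ := hpow a ha
        obtain ⟨j, hj⟩ := hpow b (hHle hb)
        have hcomm : MulAut.conj (a * b) (q : L13) = MulAut.conj (b * a) (q : L13) := by
          rw [map_mul, map_mul, MulAut.mul_apply, MulAut.mul_apply, hi, hj, map_zpow, map_zpow, hi, hj,
            ← zpow_mul, ← zpow_mul, mul_comm]
        have hd : a * b * a⁻¹ * b⁻¹ ∈ Subgroup.centralizer ((Q : Subgroup L13) : Set L13) := by
          refine Subgroup.mem_centralizer_iff.mpr fun z hz => ?_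
          obtain ⟨k, hk⟩ := hq ⟨z, hz⟩
          rw [← show (q : L13) ^ k = z by simpa using congrArg Subtype.val hk]
          refine (Commute.zpow_left ?_ k).eq
          have h' : MulAut.conj (a * b * a⁻¹ * b⁻¹) (MulAut.conj (b * a) (q : L13)) = MulAut.conj (a * b) (q : L13) := by
            rw [← MulAut.mul_apply, ← map_mul]; congr 2; group
          rw [← hcomm] at h'
          have h'' : MulAut.conj (a * b * a⁻¹ * b⁻¹) ((q : L13) ^ (j * i)) = (q : L13) ^ (j * i) := by
            have he : MulAut.conj (a * b) (q : L13) = (q : L13) ^ (j * i) ∨ MulAut.conj (a * b) (q : L13) = (q : L13) ^ (i * j) := by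
              right
              rw [map_mul, MulAut.mul_apply, hj, map_zpow, hi, ← zpow_mul]
            rcases he with he | he
            · rwa [he] at h'
            · rw [mul_comm]; rwa [he] at h'
          -- the power generates
          have hgen : (q : L13) ∈ Subgroup.zpowers ((q : L13) ^ (j * i)) := by
            have hne : (q : L13) ^ (j * i) ≠ 1 := fun h1 => by
              have he : MulAut.conj (a * b) (q : L13) = 1 := by
                rw [map_mul, MulAut.mul_apply, hj, map_zpow, hi, ← zpow_mul, mul_comm]; exact h1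
              have hq1 : (q : L13) = 1 := (MulAut.conj (a * b)).injective (he.trans (map_one _).symm)
              have h13 := orderOf_eq_card_of_forall_mem_zpowers hq
              rw [← Subgroup.orderOf_coe, hq1, orderOf_one, hQ13] at h13
              omega
            have : Subgroup.zpowers ((q : L13) ^ (j * i)) = (Q : Subgroup L13) := by
              refine Subgroup.eq_of_le_of_card_ge (Subgroup.zpowers_le.mpr (zpow_mem q.2 _)) ?_
              rw [Nat.card_zpowers, hQ13]
              have hd := orderOf_dvd_natCard (⟨_, zpow_mem q.2 (j * i)⟩ : (Q : Subgroup L13))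
              rw [hQ13, ← Subgroup.orderOf_coe] at hd
              rcases (Nat.dvd_prime (by norm_num)).mp hd with h | h
              · exact absurd (orderOf_eq_one_iff.mp h) hne
              · exact h.ge
            rw [this]; exact q.2
          obtain ⟨m, hm⟩ := hgen
          have h4 : MulAut.conj (a * b * a⁻¹ * b⁻¹) (q : L13) = q := by
            conv_lhs => rw [← hm]
            rw [map_zpow, h'']
            exact hm
          exact (mul_inv_eq_iff_eq_mul.mp h4).symm
        have := H.mul_mem (hQ (hcent hd)) hb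
        simpa [mul_assoc] using this
      intro a ha
      refine Subgroup.mem_normalizer_iff.mpr fun b => ⟨key a ha b, fun hb => ?_⟩
      have := key a⁻¹ (inv_mem ha) _ hb
      simpa [mul_assoc] using this
    have hd : 78 ∣ Nat.card (Subgroup.normalizer (H : Set L13)) := hQN ▸ Subgroup.card_dvd_of_le hsub
    omega

theorem coatom_L {H : Subgroup L13} (h : ¬ H.Normal) : IsCoatom (Subgroup.normalizer (H : Set L13)) := by
  have h0 : H ≠ ⊥ := fun e => h (e ▸ inferInstance)
  have h1 : H ≠ ⊤ := fun e => h (e ▸ inferInstance)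
  refine ⟨normalizer_ne_top h0 h1, fun M hM => by_contra fun hne => ?_⟩
  have hc := card_normalizer h0 h1
  have hm := proper_card hne
  have hd := Subgroup.card_dvd_of_le hM.le
  have hlt : Nat.card (Subgroup.normalizer (H : Set L13)) ≠ Nat.card M := fun e =>
    hM.ne (Subgroup.eq_of_le_of_card_ge hM.le e.ge)
  simp only [Finset.mem_insert, Finset.mem_singleton] at hc hm
  rcases hc with c | c | c <;> rw [c] at hd hlt <;>
    rcases hm with e | e | e | e | e | e | e | e | e | e | e | e <;> rw [e] at hd hlt <;>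
    first
      | exact hlt rfl
      | norm_num at hd

theorem involution_SL {g : S13} (h : g * g = 1) : g = 1 ∨ g = -1 := by
  have hinv : g⁻¹ = g := inv_eq_of_mul_eq_one_right h
  have e := CfsgLib.DicksonFull.inv_coe g
  rw [hinv] at e
  have h2 : (2 : ZMod 13) ≠ 0 := by decide
  have hd : g.1 0 0 = g.1 1 1 := by
    have h00 := congrFun (congrFun e 0) 0
    have h11 := congrFun (congrFun e 1) 1
    simp [Matrix.trace_fin_two] at h00
    linear_combination h00
  have hb : g.1 0 1 = 0 := by
    have h01 := congrFun (congrFun e 0) 1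
    simp [Matrix.trace_fin_two] at h01
    have h' : (2 : ZMod 13) * g.1 0 1 = 0 := by linear_combination h01
    exact (mul_eq_zero.mp h').resolve_left h2
  have hc : g.1 1 0 = 0 := by
    have h10 := congrFun (congrFun e 1) 0
    simp [Matrix.trace_fin_two] at h10
    have h' : (2 : ZMod 13) * g.1 1 0 = 0 := by linear_combination h10
    exact (mul_eq_zero.mp h').resolve_left h2
  have hdet : g.1 0 0 * g.1 0 0 = 1 := by
    have := g.2
    rw [Matrix.det_fin_two, hb, hc, ← hd] at this
    linear_combination this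
  rcases mul_self_eq_one_iff.mp hdet with h1 | h1
  · left
    ext i j
    fin_cases i <;> fin_cases j <;> simp [hb, hc, h1, ← hd]
  · right
    ext i j
    fin_cases i <;> fin_cases j <;> simp [hb, hc, h1, ← hd]

theorem coatom_comap {A B : Type*} [Group A] [Group B] {f : A →* B} (hf : Function.Surjective f) {K : Subgroup B}
    (hK : IsCoatom K) : IsCoatom (K.comap f) := by
  refine ⟨fun e => hK.1 ?_, fun M hM => ?_⟩
  · rw [← Subgroup.map_comap_eq_self_of_surjective hf K, e, Subgroup.map_top_of_surjective f hf]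
  · have hker : f.ker ≤ M := le_trans (Subgroup.comap_mono bot_le) hM.le
    have hlt : K < M.map f := by
      rw [← Subgroup.map_comap_eq_self_of_surjective hf K]
      refine lt_of_le_of_ne (Subgroup.map_mono hM.le) fun e => hM.ne ?_
      have := congrArg (Subgroup.comap f) e
      rwa [Subgroup.map_comap_eq_self_of_surjective hf, Subgroup.comap_map_eq_self hker] at this
    rw [← Subgroup.comap_map_eq_self hker, hK.2 _ hlt, Subgroup.comap_top]

theorem coatom_S {H : Subgroup S13} (h : ¬ H.Normal) : IsCoatom (Subgroup.normalizer (H : Set S13)) := by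
  set f : S13 →* L13 := QuotientGroup.mk' _ with hfdef
  have hf : Function.Surjective f := QuotientGroup.mk'_surjective _
  have hker : f.ker = Subgroup.center S13 := QuotientGroup.ker_mk' _
  have hcent : ∀ z ∈ f.ker, ∀ a : S13, a * z = z * a := fun z hz =>
    Subgroup.mem_center_iff.mp (hker ▸ hz)
  set K := (H.map f).comap f with hK
  have hKeq : K = H ⊔ f.ker := Subgroup.comap_map_eq f H
  have hKn : ∀ a ∈ Subgroup.normalizer (K : Set S13), ∀ x ∈ H, a * x * a⁻¹ ∈ H := by
    intro a ha x hx
    have hmem : a * x * a⁻¹ ∈ K := (Subgroup.mem_normalizer_iff.mp ha x).mp (hKeq ▸ Subgroup.mem_sup_left hx)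
    rw [hKeq] at hmem
    obtain ⟨y, hy, z, hz, e⟩ := Subgroup.mem_sup_of_normal_right.mp hmem
    by_cases hneg : (-1 : S13) ∈ H
    · have hz1 : z = 1 ∨ z = -1 := by
        rw [hker, Matrix.SpecialLinearGroup.mem_center_iff] at hz
        obtain ⟨r, hr, hz⟩ := hz
        rw [Fintype.card_fin, pow_two] at hr
        rcases mul_self_eq_one_iff.mp hr with rfl | rfl
        · left; ext i j; rw [← hz]; fin_cases i <;> fin_cases j <;> simp
        · right; ext i j; rw [← hz]; fin_cases i <;> fin_cases j <;> simp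
      rcases hz1 with rfl | rfl
      · rw [← e, mul_one]; exact hy
      · rw [← e]; exact mul_mem hy hneg
    · have hodd : Odd (Nat.card H) := by
        by_contra hev
        rw [Nat.not_odd_iff_even, even_iff_two_dvd] at hev
        haveI := Fact.mk Nat.prime_two
        obtain ⟨t, ht⟩ := exists_prime_orderOf_dvd_card' 2 hev
        have ht2 : (t : S13) * t = 1 := by
          rw [← Subgroup.coe_mul, ← pow_two, orderOf_dvd_iff_pow_eq_one.mp (dvd_of_eq ht), OneMemClass.coe_one]
        rcases involution_SL ht2 with h1 | h1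
        · rw [OneMemClass.coe_eq_one.mp h1, orderOf_one] at ht; omega
        · exact hneg (h1 ▸ t.2)
      obtain ⟨k, hk⟩ := hodd
      have hpow : ∀ w ∈ H, w ^ Nat.card H = 1 := fun w hw =>
        (SubmonoidClass.coe_pow (⟨w, hw⟩ : H) _).symm.trans (congrArg Subtype.val pow_card_eq_one')
      have hz2 : z * z = 1 := by
        rw [hker, Matrix.SpecialLinearGroup.mem_center_iff] at hz
        obtain ⟨r, hr, hz⟩ := hz
        rw [Fintype.card_fin] at hr
        refine Subtype.ext ?_
        rw [Matrix.SpecialLinearGroup.coe_mul, ← hz, ← map_mul, ← pow_two, hr, map_one]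
        rfl
      have h1 : (a * x * a⁻¹) ^ Nat.card H = 1 := by rw [conj_pow, hpow x hx, mul_one, mul_inv_cancel]
      rw [← e, (show Commute y z from hcent z hz y).mul_pow, hpow y hy, one_mul, hk, pow_succ, pow_mul,
        pow_two, hz2, one_pow, one_mul] at h1
      rw [← e, h1, mul_one]
      exact hy
  have hNeq : Subgroup.normalizer (H : Set S13) = (Subgroup.normalizer ((H.map f : Subgroup L13) : Set L13)).comap f := by
    rw [Subgroup.comap_normalizer_eq_of_surjective _ hf, ← hK]
    refine le_antisymm (fun a ha => ?_) (fun a ha => ?_)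
    · have key : ∀ a ∈ Subgroup.normalizer (H : Set S13), ∀ x ∈ K, a * x * a⁻¹ ∈ K := by
        intro a ha x hx
        rw [hK, Subgroup.mem_comap] at hx ⊢
        obtain ⟨y, hy, e⟩ := hx
        exact ⟨a * y * a⁻¹, (Subgroup.mem_normalizer_iff.mp ha y).mp hy, by simp [e]⟩
      refine Subgroup.mem_normalizer_iff.mpr fun x => ⟨key a ha x, fun hx => ?_⟩
      have := key a⁻¹ (inv_mem ha) _ hx
      simpa [mul_assoc] using this
    · refine Subgroup.mem_normalizer_iff.mpr fun x => ⟨hKn a ha x, fun hx => ?_⟩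
      have := hKn a⁻¹ (inv_mem ha) _ hx
      simpa [mul_assoc] using this
  rw [hNeq]
  refine coatom_comap hf (coatom_L fun hn => h ?_)
  haveI := hn
  exact ⟨fun x hx a => hKn a (by rw [hK, Subgroup.normalizer_eq_top]; trivial) x hx⟩

theorem main {K S : Type*} [Group K] [CommGroup S] [Finite K] [Finite S]
    (hK : ∀ H : Subgroup K, ¬ H.Normal → IsCoatom (Subgroup.normalizer (H : Set K)))
    (hKS : (Nat.card K).Coprime (Nat.card S)) (H : Subgroup (K × S)) (hH : ¬ H.Normal) :
    IsCoatom (Subgroup.normalizer (H : Set (K × S))) := by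
  set f : K × S →* K := MonoidHom.fst K S with hfdef
  have hsplit : ∀ x ∈ H, (x.1, (1 : S)) ∈ H := by
    intro x hx
    obtain ⟨m, hm1, hm0⟩ := Nat.chineseRemainder hKS 1 0
    have e : x ^ m = (x.1, (1 : S)) := by
      refine Prod.ext ?_ ?_
      · show x.1 ^ m = x.1
        rw [← pow_mod_natCard, hm1, pow_mod_natCard, pow_one]
      · show x.2 ^ m = 1
        rw [← pow_mod_natCard, hm0, pow_mod_natCard, pow_zero]
    exact e ▸ pow_mem hx m
  have key : ∀ a : K × S, a.1 ∈ Subgroup.normalizer ((H.map f : Subgroup K) : Set K) → ∀ x ∈ H, a * x * a⁻¹ ∈ H := by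
    intro a ha x hx
    obtain ⟨y, hy, e⟩ := (Subgroup.mem_normalizer_iff.mp ha x.1).mp ⟨x, hx, rfl⟩
    have h1 : (y.1, (1 : S)) ∈ H := hsplit y hy
    have h2 : (x.1, (1 : S))⁻¹ * x ∈ H := mul_mem (inv_mem (hsplit x hx)) hx
    have he : a * x * a⁻¹ = (y.1, (1 : S)) * ((x.1, (1 : S))⁻¹ * x) := by
      refine Prod.ext ?_ ?_
      · have e' : y.1 = a.1 * x.1 * a.1⁻¹ := e
        simp [e']
      · simp [mul_comm a.2 x.2, mul_assoc]
    rw [he]; exact mul_mem h1 h2
  have hN : Subgroup.normalizer (H : Set (K × S)) = (Subgroup.normalizer ((H.map f : Subgroup K) : Set K)).comap f := by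
    refine le_antisymm (fun a ha => ?_) (fun a ha => ?_)
    · refine Subgroup.mem_normalizer_iff.mpr fun z => ⟨?_, ?_⟩
      · rintro ⟨x, hx, rfl⟩
        exact ⟨a * x * a⁻¹, (Subgroup.mem_normalizer_iff.mp ha x).mp hx, by simp⟩
      · rintro ⟨x, hx, e⟩
        refine ⟨a⁻¹ * x * a, ?_, ?_⟩
        · have := (Subgroup.mem_normalizer_iff.mp (inv_mem ha) x).mp hx
          rwa [inv_inv] at this
        · rw [map_mul, map_mul, map_inv, e]; group
    · refine Subgroup.mem_normalizer_iff.mpr fun x => ⟨key a ha x, fun hx => ?_⟩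
      have := key a⁻¹ (inv_mem (show a.1 ∈ _ from ha)) _ hx
      simpa [mul_assoc] using this
  rw [hN]
  refine coatom_comap (fun k => ⟨(k, 1), rfl⟩) (hK _ fun hn => hH ?_)
  haveI := hn
  exact ⟨fun x hx a => key a (by rw [Subgroup.normalizer_eq_top]; trivial) x hx⟩

theorem coatom_transfer {A B : Type*} [Group A] [Group B] (e : A ≃* B)
    (hB : ∀ H : Subgroup B, ¬ H.Normal → IsCoatom (Subgroup.normalizer (H : Set B))) (H : Subgroup A)
    (hH : ¬ H.Normal) : IsCoatom (Subgroup.normalizer (H : Set A)) := by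
  have hcm : (H.map e.toMonoidHom).comap e.toMonoidHom = H := Subgroup.comap_map_eq_self_of_injective e.injective H
  rw [← hcm, ← Subgroup.comap_normalizer_eq_of_surjective _ (f := e.toMonoidHom) e.surjective]
  refine coatom_comap (f := e.toMonoidHom) e.surjective (hB _ fun hn => hH ?_)
  rw [← hcm]
  haveI := hn
  infer_instance

end Aux

/-- Let K be isomorphic to PSL(2, 13) or to SL(2, 13) and let S be a finite abelian group of order coprime to the order of K. Then in the direct product K × S every subgroup that is not normal has a normalizer that is a maximal subgroup. -/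
theorem result {K S : Type*} [Group K] [CommGroup S] [Finite K] [Finite S]
    (hK : Nonempty (K ≃* Matrix.ProjectiveSpecialLinearGroup (Fin 2) (ZMod 13)) ∨
      Nonempty (K ≃* Matrix.SpecialLinearGroup (Fin 2) (ZMod 13)))
    (hKS : (Nat.card K).Coprime (Nat.card S)) (H : Subgroup (K × S)) (hH : ¬ H.Normal) :
    IsCoatom (Subgroup.normalizer (H : Set (K × S))) := by
  refine Aux.main (fun H' hH' => ?_) hKS H hH
  rcases hK with ⟨⟨e⟩⟩ | ⟨⟨e⟩⟩
  · exact Aux.coatom_transfer e (fun _ => Aux.coatom_L) H' hH'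
  · exact Aux.coatom_transfer e (fun _ => Aux.coatom_S) H' hH'

end Cfsg.Agent.S4234
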