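import Cfsg.Statements.S4236
import Mathlib
-- import your own Cfsg.Agent.* helpers here

set_option autoImplicit false
open Cfsg

namespace Cfsg.Agent.S4236

open scoped Pointwise

theorem sylow_inf_props {G : Type*} [Group G] [Finite G] (hcard : Nat.card (Sylow 17 G) = 35) (P : Sylow 17 G) :
    (∀ Q : Sylow 17 G, Q ≠ P →
      Nat.card ↥(P : Subgroup G) = 17 * Nat.card ↥((P : Subgroup G) ⊓ (Q : Subgroup G) : Subgroup G)) ∧
    (∀ β γ δ : Sylow 17 G, β ≠ P → γ ≠ P → δ ≠ P → (P : Subgroup G) ⊓ β ≠ (P : Subgroup G) ⊓ γ →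
      ((P : Subgroup G) ⊓ β ≤ δ ↔ ¬ (P : Subgroup G) ⊓ γ ≤ δ)) := by
  classical
  have : Fact (Nat.Prime 17) := ⟨by norm_num⟩
  have := Fintype.ofFinite (Sylow 17 G)
  have hstab : ∀ Q : Sylow 17 G, MulAction.stabilizer ↥(P : Subgroup G) Q =
      ((P : Subgroup G) ⊓ Q).subgroupOf (P : Subgroup G) := by
    intro Q
    rw [← P.2.inf_normalizer_sylow Q]
    ext g
    rw [MulAction.mem_stabilizer_iff, Subgroup.mem_subgroupOf]
    exact ⟨fun h => ⟨g.2, Sylow.smul_eq_iff_mem_normalizer.mp h⟩, fun h => Sylow.smul_eq_iff_mem_normalizer.mpr h.2⟩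
  have hone : ∀ Q : Sylow 17 G, Q ≠ P → P ∉ MulAction.orbit ↥(P : Subgroup G) Q := by
    intro Q hQ hmem
    obtain ⟨g, hg⟩ := hmem
    have hg' : (g : G) • Q = P := hg
    have hfix : (g : G) • P = P := Sylow.smul_eq_iff_mem_normalizer.mpr (Subgroup.le_normalizer g.2)
    exact hQ (smul_left_cancel _ (hg'.trans hfix.symm))
  have horb : ∀ Q : Sylow 17 G, Q ≠ P → Nat.card (MulAction.orbit ↥(P : Subgroup G) Q) = 17 := by
    intro Q hQ
    obtain ⟨k, hk⟩ := P.2.card_orbit Q
    have hlt : Nat.card (MulAction.orbit ↥(P : Subgroup G) Q) ≤ 34 := by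
      have h1 : (MulAction.orbit ↥(P : Subgroup G) Q).ncard < Nat.card (Sylow 17 G) :=
        Set.ncard_lt_card (fun h => hone Q hQ (h ▸ Set.mem_univ P))
      rw [Nat.card_coe_set_eq]
      omega
    rw [hk] at hlt ⊢
    match k with
    | 0 =>
      exfalso
      rw [pow_zero] at hk
      refine hQ ?_
      have hfix : ∀ g : ↥(P : Subgroup G), g • Q = Q := fun g => by
        have hsub := (Nat.card_eq_one_iff_unique.mp hk).1
        exact congrArg Subtype.val (hsub.elim ⟨g • Q, MulAction.mem_orbit Q g⟩ ⟨Q, MulAction.mem_orbit_self Q⟩)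
      have hle : (P : Subgroup G) ≤ Q := by
        rw [← inf_eq_left, ← P.2.inf_normalizer_sylow Q, inf_eq_left]
        exact fun g hg => Sylow.smul_eq_iff_mem_normalizer.mp (hfix ⟨g, hg⟩)
      exact (Sylow.ext (P.3 Q.2 hle))
    | 1 => rfl
    | k + 2 => exact absurd ((Nat.pow_le_pow_right (by norm_num) (show 2 ≤ k + 2 by omega)).trans hlt) (by norm_num)
  have hidx : ∀ Q : Sylow 17 G, Q ≠ P →
      (((P : Subgroup G) ⊓ Q).subgroupOf (P : Subgroup G)).index = 17 := by
    intro Q hQ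
    rw [← hstab, Subgroup.index]
    exact (Nat.card_congr (MulAction.orbitEquivQuotientStabilizer _ Q)).symm.trans (horb Q hQ)
  have hpart1 : ∀ Q : Sylow 17 G, Q ≠ P →
      Nat.card ↥(P : Subgroup G) = 17 * Nat.card ↥((P : Subgroup G) ⊓ (Q : Subgroup G) : Subgroup G) := by
    intro Q hQ
    rw [← Subgroup.card_mul_index (((P : Subgroup G) ⊓ Q).subgroupOf (P : Subgroup G)), hidx Q hQ, Nat.mul_comm,
      Nat.card_congr (Subgroup.subgroupOfEquivOfLe inf_le_left).toEquiv]
  refine ⟨hpart1, ?_⟩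
  intro β γ δ hβ hγ hδ hne
  have hconst : ∀ Q : Sylow 17 G, Q ≠ P → ∀ R ∈ MulAction.orbit ↥(P : Subgroup G) Q,
      ((P : Subgroup G) ⊓ R).subgroupOf (P : Subgroup G) = ((P : Subgroup G) ⊓ Q).subgroupOf (P : Subgroup G) := by
    rintro Q hQ _ ⟨g, rfl⟩
    have : (MulAction.stabilizer ↥(P : Subgroup G) Q).Normal := by
      refine Subgroup.normal_of_index_eq_minFac_card ?_
      rw [hstab, hidx Q hQ]
      obtain ⟨k, hk⟩ := IsPGroup.iff_card.mp P.2
      have hk1 : k ≠ 0 := fun e => by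
        have h := hpart1 Q hQ
        rw [hk, e, pow_zero] at h
        omega
      rw [hk, Nat.pow_minFac hk1]
      norm_num
    have h1 := MulAction.stabilizer_smul_eq_stabilizer_map_conj g Q
    rw [← hstab, ← hstab]
    exact h1.trans (Subgroup.Normal.map_conj_eq (H := MulAction.stabilizer ↥(P : Subgroup G) Q) g)
  have hinj : ∀ Q R : Sylow 17 G, ((P : Subgroup G) ⊓ Q).subgroupOf (P : Subgroup G) =
      ((P : Subgroup G) ⊓ R).subgroupOf (P : Subgroup G) → (P : Subgroup G) ⊓ Q = (P : Subgroup G) ⊓ R := fun Q R h => by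
    have := congrArg (Subgroup.map (P : Subgroup G).subtype) h
    rwa [Subgroup.subgroupOf_map_subtype, Subgroup.subgroupOf_map_subtype, inf_assoc, inf_assoc,
      inf_comm (Q : Subgroup G), inf_comm (R : Subgroup G), ← inf_assoc, ← inf_assoc, inf_idem] at this
  have hdisj : ∀ Q R : Sylow 17 G, Q ≠ P → R ≠ P → (P : Subgroup G) ⊓ Q ≠ (P : Subgroup G) ⊓ R →
      Disjoint (MulAction.orbit ↥(P : Subgroup G) Q) (MulAction.orbit ↥(P : Subgroup G) R) := by
    intro Q R hQ hR hQR
    refine Set.disjoint_left.mpr fun S h1 h2 => hQR (hinj Q R ?_)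
    rw [← hconst Q hQ S h1, hconst R hR S h2]
  have heq : ∀ Q R : Sylow 17 G, Q ≠ P → R ≠ P → (P : Subgroup G) ⊓ Q ≤ R → (P : Subgroup G) ⊓ Q = (P : Subgroup G) ⊓ R := by
    intro Q R hQ hR hle
    refine Subgroup.eq_of_le_of_card_ge (le_inf inf_le_left hle) (Nat.le_of_mul_le_mul_left ?_ (show 0 < 17 by norm_num))
    exact le_of_eq ((hpart1 R hR).symm.trans (hpart1 Q hQ))
  constructor
  · exact fun h1 h2 => hne ((heq β δ hβ hδ h1).trans (heq γ δ hγ hδ h2).symm)
  · intro h2
    by_contra h1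
    have hb : (P : Subgroup G) ⊓ β ≠ (P : Subgroup G) ⊓ δ := fun e => h1 (e.le.trans inf_le_right)
    have hc : (P : Subgroup G) ⊓ γ ≠ (P : Subgroup G) ⊓ δ := fun e => h2 (e.le.trans inf_le_right)
    have hn : ∀ Q : Sylow 17 G, Q ≠ P → (MulAction.orbit ↥(P : Subgroup G) Q).ncard = 17 := fun Q hQ => by
      rw [← Nat.card_coe_set_eq, horb Q hQ]
    have h3 : (MulAction.orbit ↥(P : Subgroup G) β ∪ MulAction.orbit ↥(P : Subgroup G) γ ∪
        MulAction.orbit ↥(P : Subgroup G) δ).ncard = 51 := by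
      rw [Set.ncard_union_eq (Set.disjoint_union_left.mpr ⟨hdisj β δ hβ hδ hb, hdisj γ δ hγ hδ hc⟩),
        Set.ncard_union_eq (hdisj β γ hβ hγ hne), hn β hβ, hn γ hγ, hn δ hδ]
    have h4 := Set.ncard_le_card (MulAction.orbit ↥(P : Subgroup G) β ∪ MulAction.orbit ↥(P : Subgroup G) γ ∪
        MulAction.orbit ↥(P : Subgroup G) δ)
    omega

theorem inf_const {G : Type*} [Group G] [Finite G] (hcard : Nat.card (Sylow 17 G) = 35) (P β γ : Sylow 17 G)
    (hβ : β ≠ P) (hγ : γ ≠ P) : (P : Subgroup G) ⊓ β = (P : Subgroup G) ⊓ γ := by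
  classical
  have := Fintype.ofFinite (Sylow 17 G)
  by_contra hne
  have hβγ : β ≠ γ := fun e => hne (by rw [e])
  have hnot : ¬ (P : Subgroup G) ⊓ γ ≤ β :=
    ((sylow_inf_props hcard P).2 β γ β hβ hγ hβ hne).mp inf_le_right
  have hnot' : ¬ (P : Subgroup G) ⊓ β ≤ γ := fun h =>
    ((sylow_inf_props hcard P).2 β γ γ hβ hγ hγ hne).mp h inf_le_right
  have hne1 : (β : Subgroup G) ⊓ P ≠ (β : Subgroup G) ⊓ γ := fun e =>
    hnot' ((inf_comm (P : Subgroup G) β).le.trans (e.le.trans inf_le_right))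
  have hne2 : (γ : Subgroup G) ⊓ P ≠ (γ : Subgroup G) ⊓ β := fun e =>
    hnot ((inf_comm (P : Subgroup G) γ).le.trans (e.le.trans inf_le_right))
  obtain ⟨δ, hδ⟩ := Finset.exists_mem_notMem_of_card_lt_card (s := ({P, β, γ} : Finset (Sylow 17 G)))
    (t := Finset.univ) (by rw [Finset.card_univ, ← Nat.card_eq_fintype_card, hcard]; exact lt_of_le_of_lt Finset.card_le_three (by norm_num))
  simp only [Finset.mem_insert, Finset.mem_singleton, not_or, Finset.mem_univ, true_and] at hδ
  obtain ⟨hδP, hδβ, hδγ⟩ := hδ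
  have e1 := (sylow_inf_props hcard P).2 β γ δ hβ hγ hδP hne
  have e2 := (sylow_inf_props hcard β).2 P γ δ hβ.symm (Ne.symm hβγ) hδβ hne1
  have e3 := (sylow_inf_props hcard γ).2 P β δ hγ.symm hβγ hδγ hne2
  rw [inf_comm (β : Subgroup G) P] at e2
  rw [inf_comm (γ : Subgroup G) P, inf_comm (γ : Subgroup G) β] at e3
  tauto

theorem not_card_595 {K : Type*} [Group K] [Finite K] (hK : Nat.card K = 595) (P : Subgroup K)
    (hP : Nat.card P = 17) (hN : Nat.card (Subgroup.normalizer (P : Set K)) = 17) : False := by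
  classical
  have : Fact (Nat.Prime 5) := ⟨by norm_num⟩
  have : Fact (Nat.Prime 17) := ⟨by norm_num⟩
  obtain ⟨S⟩ : Nonempty (Sylow 5 K) := inferInstance
  have hSc : Nat.card ↥(S : Subgroup K) = 5 := by
    rw [S.card_eq_multiplicity, hK, show (595 : ℕ) = 5 ^ 1 * 119 by norm_num,
      Nat.factorization_mul (by norm_num) (by norm_num)]
    simp [Nat.factorization_eq_zero_of_not_dvd, Nat.Prime.factorization_self (show Nat.Prime 5 by norm_num)]
  have hcyc : IsCyclic (S : Subgroup K) := isCyclic_of_prime_card (p := 5) hSc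
  have hmin : (Nat.card K).minFac = 5 := by rw [hK]; norm_num
  have hNC := IsCyclic.normalizer_le_centralizer (P := S) hmin hcyc
  have hcomp := MonoidHom.ker_transferSylow_isComplement' S hNC
  set L := (MonoidHom.transferSylow S hNC).ker with hL
  have hLc : Nat.card L = 119 := by
    have h := hcomp.card_mul
    rw [hSc, hK] at h
    omega
  have hPL : P ≤ L := by
    intro x hx
    by_contra hxL
    have h1 : orderOf (QuotientGroup.mk' L x) ∣ 17 :=
      (orderOf_map_dvd _ x).trans (hP ▸ P.orderOf_dvd_natCard hx)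
    have h2 : orderOf (QuotientGroup.mk' L x) ∣ 5 := by
      have := orderOf_dvd_natCard (QuotientGroup.mk' L x)
      rwa [show Nat.card (K ⧸ L) = 5 by
        rw [show Nat.card (K ⧸ L) = L.index from rfl, hcomp.symm.index_eq_card, hSc]] at this
    have h3 := Nat.dvd_gcd h1 h2
    rw [show Nat.gcd 17 5 = 1 by norm_num, Nat.dvd_one, orderOf_eq_one_iff] at h3
    exact hxL ((QuotientGroup.eq_one_iff x).mp h3)
  let PL : Subgroup L := P.subgroupOf L
  have hPLc : Nat.card PL = 17 := (Nat.card_congr (Subgroup.subgroupOfEquivOfLe hPL).toEquiv).trans hP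
  let T : Sylow 17 L := Sylow.ofCard PL (by
    rw [hPLc, hLc, show (119 : ℕ) = 17 ^ 1 * 7 by norm_num, Nat.factorization_mul (by norm_num) (by norm_num)]
    simp [Nat.factorization_eq_zero_of_not_dvd, Nat.Prime.factorization_self (show Nat.Prime 17 by norm_num)])
  have hn : Nat.card (Sylow 17 L) = 1 := by
    have h1 : Nat.card (Sylow 17 L) ∣ 7 := by
      refine T.card_dvd_index.trans (dvd_of_eq ?_)
      have h := Subgroup.card_mul_index (T : Subgroup L)
      rw [show Nat.card ↥(T : Subgroup L) = 17 from hPLc, hLc] at h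
      omega
    have h2 := card_sylow_modEq_one 17 L
    rcases (Nat.dvd_prime (by norm_num : Nat.Prime 7)).mp h1 with h | h
    · exact h
    · rw [h] at h2; simp [Nat.ModEq] at h2
  have hnorm : PL.Normal := by
    have : Subsingleton (Sylow 17 L) := (Nat.card_eq_one_iff_unique.mp hn).1
    exact (T.normal_of_subsingleton : (T : Subgroup L).Normal)
  have hle : L ≤ Subgroup.normalizer (P : Set K) := (Subgroup.normal_subgroupOf_iff_le_normalizer hPL).mp hnorm
  have := Subgroup.card_le_of_le hle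
  omega

/-- No finite group has exactly 35 Sylow 17-subgroups. -/
theorem result {G : Type*} [Group G] [Finite G] : Nat.card (Sylow 17 G) ≠ 35 := by
  classical
  intro hcard
  have : Fact (Nat.Prime 17) := ⟨by norm_num⟩
  have := Fintype.ofFinite (Sylow 17 G)
  let φ : G →* Equiv.Perm (Sylow 17 G) := MulAction.toPermHom G (Sylow 17 G)
  obtain ⟨P⟩ : Nonempty (Sylow 17 G) := inferInstance
  obtain ⟨Q, hQ⟩ : ∃ Q : Sylow 17 G, Q ≠ P := by
    by_contra h
    push Not at h
    have : Subsingleton (Sylow 17 G) := ⟨fun a b => (h a).trans (h b).symm⟩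
    rw [Nat.card_of_subsingleton P] at hcard
    omega
  set D := (P : Subgroup G) ⊓ (Q : Subgroup G) with hD
  have hDall : ∀ R : Sylow 17 G, D ≤ R := fun R => by
    rcases eq_or_ne R P with rfl | hR
    · exact inf_le_left
    · exact (inf_const hcard P Q R hQ hR).le.trans inf_le_right
  have hDker : D ≤ φ.ker := fun g hg => Equiv.ext fun R =>
    (Sylow.smul_eq_iff_mem_normalizer.mpr (Subgroup.le_normalizer (hDall R hg)) : g • R = R)
  have hfix : ∀ g ∈ (P : Subgroup G), ∀ R : Sylow 17 G, R ≠ P → g • R = R → g ∈ D := by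
    intro g hg R hR h
    have h1 : g ∈ (P : Subgroup G) ⊓ Subgroup.normalizer ((R : Subgroup G) : Set G) :=
      ⟨hg, Sylow.smul_eq_iff_mem_normalizer.mp h⟩
    exact (inf_const hcard P R Q hR hQ).le ((P.2.inf_normalizer_sylow R).le h1)
  set PB := (P : Subgroup G).map φ with hPB
  have hPBc : Nat.card PB = 17 := by
    have hker : φ.ker.subgroupOf (P : Subgroup G) = D.subgroupOf (P : Subgroup G) := by
      refine le_antisymm (fun g hg => ?_) (Subgroup.comap_mono hDker)
      exact hfix g g.2 Q hQ (congrArg (fun f : Equiv.Perm (Sylow 17 G) => f Q) (show φ g = 1 from hg))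
    have h1 : Nat.card PB = (φ.comp (P : Subgroup G).subtype).ker.index := by
      rw [Subgroup.index_ker, MonoidHom.range_comp, Subgroup.range_subtype]
    rw [h1, ← MonoidHom.comap_ker]
    show (φ.ker.subgroupOf (P : Subgroup G)).index = 17
    rw [hker]
    have h2 := Subgroup.card_mul_index (D.subgroupOf (P : Subgroup G))
    rw [(sylow_inf_props hcard P).1 Q hQ, Nat.card_congr (Subgroup.subgroupOfEquivOfLe inf_le_left).toEquiv,
      Nat.mul_comm 17] at h2
    exact Nat.eq_of_mul_eq_mul_left Nat.card_pos h2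
  have hR17 : ¬ 17 ^ 2 ∣ Nat.card φ.range := by
    intro h
    have h1 : ((P : Subgroup G).map φ.rangeRestrict).index ∣ (P : Subgroup G).index :=
      Subgroup.index_map_dvd _ φ.rangeRestrict_surjective
    have h2 : Nat.card ((P : Subgroup G).map φ.rangeRestrict) = 17 := by
      refine (Subgroup.card_map_of_injective φ.range.subtype_injective).symm.trans ?_
      rw [Subgroup.map_map, φ.subtype_comp_rangeRestrict]
      exact hPBc
    rw [← Subgroup.card_mul_index ((P : Subgroup G).map φ.rangeRestrict), h2, pow_two] at h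
    exact P.not_dvd_index ((Nat.dvd_of_mul_dvd_mul_left (by norm_num) h).trans h1)
  -- the subgroup of even permutations
  set H := φ.range ⊓ alternatingGroup (Sylow 17 G) with hH
  have hPR : PB ≤ φ.range := Subgroup.map_le_range φ _
  have hodd : ∀ x : Equiv.Perm (Sylow 17 G), Odd (orderOf x) → Equiv.Perm.sign x = 1 := fun x hx => by
    rcases Int.units_eq_one_or (Equiv.Perm.sign x) with h | h
    · exact h
    · exfalso
      have h1 : Equiv.Perm.sign x ^ orderOf x = 1 := by rw [← map_pow, pow_orderOf_eq_one, map_one]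
      rw [h, hx.neg_one_pow] at h1
      exact absurd h1 (by decide)
  have hdv : ∀ x ∈ PB, orderOf x ∣ 17 := fun x hx => (PB.orderOf_dvd_natCard hx).trans hPBc.dvd
  have hPBo : ∀ x ∈ PB, x ≠ 1 → orderOf x = 17 := fun x hx hx1 =>
    ((Nat.dvd_prime (by norm_num)).mp (hdv x hx)).resolve_left (by simpa using hx1)
  have hPH : PB ≤ H := le_inf hPR fun x hx => by
    rw [Equiv.Perm.mem_alternatingGroup]
    rcases eq_or_ne x 1 with rfl | hx1
    · exact map_one _
    · exact hodd x (by rw [hPBo x hx hx1]; decide)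
  have hfixP : ∀ x ∈ PB, x P = P := by
    rintro _ ⟨g, hg, rfl⟩
    exact Sylow.smul_eq_iff_mem_normalizer.mpr (Subgroup.le_normalizer hg)
  have huniq : ∀ x ∈ PB, x ≠ 1 → ∀ R, x R = R → R = P := by
    rintro _ ⟨g, hg, rfl⟩ hx1 R hR
    by_contra hne
    exact hx1 (hDker (hfix g hg R hne hR))
  have hnormal : ∀ x ∈ φ.range, x P = P → x ∈ Subgroup.normalizer (PB : Set (Equiv.Perm (Sylow 17 G))) := by
    rintro _ ⟨g, rfl⟩ hx
    exact Subgroup.le_normalizer_map φ ⟨g, Sylow.smul_eq_iff_mem_normalizer.mp hx, rfl⟩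
  obtain ⟨x₀, hx₀, hx₀1⟩ : ∃ x ∈ PB, x ≠ 1 :=
    PB.ne_bot_iff_exists_ne_one.mp (fun e => by rw [e, Subgroup.card_bot] at hPBc; omega) |>.elim
      fun x hx => ⟨x, x.2, fun e => hx (Subtype.ext e)⟩
  -- centralizer of the cycle pair
  set C := H ⊓ Subgroup.centralizer (PB : Set (Equiv.Perm (Sylow 17 G))) with hC
  have hCfix : ∀ c ∈ C, c P = P := by
    intro c hc
    refine huniq x₀ hx₀ hx₀1 _ ?_
    have h1 := congrArg (fun f : Equiv.Perm (Sylow 17 G) => f P) (Subgroup.mem_centralizer_iff.mp hc.2 x₀ hx₀)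
    simp only [Equiv.Perm.mul_apply] at h1
    rw [h1, hfixP x₀ hx₀]
  have hPBcomm : IsMulCommutative PB := by
    have := isCyclic_of_prime_card (p := 17) hPBc
    infer_instance
  have hPC : PB ≤ C := le_inf hPH (Subgroup.le_centralizer PB)
  have hCc : Nat.card C = 17 := by
    obtain ⟨m, hm⟩ := hPBc ▸ Subgroup.card_dvd_of_le hPC
    by_contra hne
    obtain ⟨q, hq, hqm⟩ := Nat.exists_prime_and_dvd (n := m) (fun e => hne (by rw [hm, e, mul_one]))
    have := Fact.mk hq
    have hq17 : q ≠ 17 := fun e => hR17 (by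
      refine dvd_trans ?_ (Subgroup.card_dvd_of_le (inf_le_left.trans inf_le_left : C ≤ φ.range))
      rw [hm, pow_two]
      exact Nat.mul_dvd_mul_left 17 (e ▸ hqm))
    obtain ⟨y', hy'⟩ := exists_prime_orderOf_dvd_card' q (hm ▸ Dvd.dvd.mul_left hqm 17)
    set y : Equiv.Perm (Sylow 17 G) := (y' : Equiv.Perm (Sylow 17 G)) with hy
    have hyC : y ∈ C := y'.2
    have hyo : orderOf y = q := by rw [hy, Subgroup.orderOf_coe, hy']
    have hyx : ∀ R, y (x₀ R) = x₀ (y R) := fun R => by
      have h1 := congrArg (fun f : Equiv.Perm (Sylow 17 G) => f R) (Subgroup.mem_centralizer_iff.mp hyC.2 x₀ hx₀)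
      simpa only [Equiv.Perm.mul_apply] using h1.symm
    have hmem : ∀ R, x₀ R ∈ y.support ↔ R ∈ y.support := fun R => by
      simp only [Equiv.Perm.mem_support, ne_eq, hyx, EmbeddingLike.apply_eq_iff_eq]
    let f : Function.End {R // R ∈ y.support} := fun R => ⟨x₀ R, (hmem R).mpr R.2⟩
    have hfj : ∀ j : ℕ, ∀ R : {R // R ∈ y.support}, ((f ^ j) R : Sylow 17 G) = (x₀ ^ j) R := by
      intro j
      induction j with
      | zero => intro R; rfl
      | succ j ih =>
        intro R
        rw [pow_succ', pow_succ', Equiv.Perm.mul_apply, ← ih R]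
        rfl
    have hmod : Fintype.card {R // R ∈ y.support} ≡ Fintype.card f.fixedPoints [MOD 17] := by
      refine Equiv.Perm.card_fixedPoints_modEq (n := 1) (funext fun R => Subtype.ext ?_)
      have h17 := pow_orderOf_eq_one x₀
      rw [hPBo x₀ hx₀ hx₀1] at h17
      rw [hfj, pow_one, h17]
      rfl
    have hPs : P ∉ y.support := by simp [hCfix y hyC]
    have h0 : Fintype.card f.fixedPoints = 0 := Fintype.card_eq_zero_iff.mpr ⟨fun R => hPs (by
      have h1 : x₀ (R.1 : Sylow 17 G) = R.1 := congrArg Subtype.val R.2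
      exact huniq x₀ hx₀ hx₀1 _ h1 ▸ R.1.2)⟩
    rw [h0, Fintype.card_coe, Nat.modEq_zero_iff_dvd] at hmod
    obtain ⟨n, hn⟩ := Equiv.Perm.cycleType_prime_order (σ := y) (hyo.symm ▸ hq)
    rw [hyo] at hn
    have hsum : (n + 1) * q = y.support.card := by
      rw [← y.sum_cycleType, hn, Multiset.sum_replicate, smul_eq_mul]
    have hle : y.support.card < 35 := by
      rw [← hcard, Nat.card_eq_fintype_card, ← Finset.card_univ]
      exact Finset.card_lt_card (Finset.ssubset_univ_iff.mpr fun e => hPs (e ▸ Finset.mem_univ P))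
    obtain ⟨j, hj⟩ := hmod
    have hj2 : j = 1 ∨ j = 2 := by
      rcases Nat.lt_or_ge j 3 with h | h
      · interval_cases j
        · exfalso; nlinarith [hq.two_le]
        · exact Or.inl rfl
        · exact Or.inr rfl
      · omega
    have hdvd : q ∣ 17 * j := hj ▸ hsum ▸ Dvd.intro_left _ rfl
    have hqj : q ∣ j := (hq.dvd_mul.mp hdvd).resolve_left fun h =>
      hq17 ((Nat.prime_dvd_prime_iff_eq hq (by norm_num)).mp h)
    rcases hj2 with rfl | rfl
    · exact hq.not_dvd_one hqj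
    have hq2 : q = 2 := (Nat.prime_dvd_prime_iff_eq hq Nat.prime_two).mp hqj
    subst hq2
    have hsgn : Equiv.Perm.sign y = 1 := Equiv.Perm.mem_alternatingGroup.mp hyC.1.2
    rw [Equiv.Perm.sign_of_cycleType, hn, Multiset.sum_replicate, Multiset.card_replicate,
      show n + 1 = 17 by omega] at hsgn
    exact absurd hsgn (by decide)
  have hCPB : C = PB := (Subgroup.eq_of_le_of_card_ge hPC (by rw [hCc, hPBc])).symm
  -- a cyclic Sylow 2-subgroup
  obtain ⟨S⟩ : Nonempty (Sylow 2 H) := inferInstance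
  have hcycS : IsCyclic ↥(S : Subgroup H) := by
    let S' := (S : Subgroup H).map H.subtype
    have hS' : IsPGroup 2 S' := S.2.map _
    obtain ⟨R, hR⟩ := hS'.nonempty_fixed_point_of_prime_not_dvd_card (Sylow 17 G) (by rw [hcard]; decide)
    obtain ⟨g, hg⟩ := MulAction.exists_smul_eq G R P
    let c := φ g
    let S'' := S'.map (MulAut.conj c).toMonoidHom
    have hS''P : ∀ s ∈ S'', s ∈ H ∧ s P = P := by
      rintro _ ⟨s, hs, rfl⟩
      obtain ⟨s₀, hs₀, rfl⟩ := hs
      refine ⟨⟨φ.range.mul_mem (φ.range.mul_mem ⟨g, rfl⟩ s₀.2.1) (φ.range.inv_mem ⟨g, rfl⟩),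
        (inferInstance : (alternatingGroup (Sylow 17 G)).Normal).conj_mem _ s₀.2.2 c⟩, ?_⟩
      show (c * (s₀ : Equiv.Perm (Sylow 17 G)) * c⁻¹) P = P
      have hcR : c R = P := hg
      rw [Equiv.Perm.mul_apply, Equiv.Perm.mul_apply, ← hcR, Equiv.Perm.inv_def, Equiv.symm_apply_apply]
      exact congrArg c (hR ⟨_, ⟨s₀, hs₀, rfl⟩⟩)
    have hS''N : S'' ≤ Subgroup.normalizer (PB : Set (Equiv.Perm (Sylow 17 G))) := fun s hs =>
      hnormal s (hS''P s hs).1.1 (hS''P s hs).2
    let ψ : S'' →* MulAut PB := PB.normalizerMonoidHom.comp (Subgroup.inclusion hS''N)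
    have hψ : Function.Injective ψ := by
      rw [← MonoidHom.ker_eq_bot_iff, eq_bot_iff]
      intro s hs
      have hsc : (s : Equiv.Perm (Sylow 17 G)) ∈ Subgroup.centralizer (PB : Set (Equiv.Perm (Sylow 17 G))) := by
        have : Subgroup.inclusion hS''N s ∈ PB.normalizerMonoidHom.ker := hs
        rw [Subgroup.normalizerMonoidHom_ker] at this
        exact this
      have hsP : (s : Equiv.Perm (Sylow 17 G)) ∈ PB := hCPB ▸ ⟨(hS''P s s.2).1, hsc⟩
      have hp2 : IsPGroup 2 S'' := hS'.map _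
      obtain ⟨k, hk⟩ := IsPGroup.iff_card.mp hp2
      have h1 : orderOf (s : Equiv.Perm (Sylow 17 G)) ∣ Nat.gcd (2 ^ k) 17 :=
        Nat.dvd_gcd (hk ▸ S''.orderOf_dvd_natCard s.2) (hdv _ hsP)
      rw [(Nat.Coprime.pow_left k (by norm_num : Nat.Coprime 2 17)), Nat.dvd_one, orderOf_eq_one_iff] at h1
      exact Subtype.ext h1
    have hPBcyc := isCyclic_of_prime_card (p := 17) hPBc
    have : IsCyclic (MulAut PB) := by
      have : NeZero (Nat.card PB) := ⟨by rw [hPBc]; norm_num⟩
      rw [(IsCyclic.mulAutMulEquiv PB).isCyclic, hPBc]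
      exact ZMod.isCyclic_units_prime (by norm_num)
    have : IsCyclic S'' := isCyclic_of_injective ψ hψ
    exact isCyclic_of_surjective _ ((((S : Subgroup H).equivMapOfInjective _ H.subtype_injective).trans
      (S'.equivMapOfInjective (MulAut.conj c).toMonoidHom (MulAut.conj c).injective)).symm).surjective
  -- a normal subgroup of odd order with 2-power index
  obtain ⟨K, hKn, hKodd, k, hKidx⟩ : ∃ K : Subgroup H, K.Normal ∧ ¬ 2 ∣ Nat.card K ∧ ∃ k, K.index = 2 ^ k := by
    by_cases h2 : 2 ∣ Nat.card H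
    · have hmin : (Nat.card H).minFac = 2 := (Nat.minFac_eq_two_iff _).mpr h2
      have hNC := IsCyclic.normalizer_le_centralizer (P := S) hmin hcycS
      refine ⟨_, inferInstance, MonoidHom.not_dvd_card_ker_transferSylow S hNC, ?_⟩
      rw [(MonoidHom.ker_transferSylow_isComplement' S hNC).symm.index_eq_card]
      exact IsPGroup.iff_card.mp S.2
    · exact ⟨⊤, inferInstance, by rwa [Subgroup.card_top], 0, by simp⟩
  set K' := K.map H.subtype with hK'
  have hK'H : K' ≤ H := Subgroup.map_subtype_le K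
  have hK'odd : Odd (Nat.card K') := by
    rw [hK', Subgroup.card_map_of_injective H.subtype_injective]
    exact Nat.not_even_iff_odd.mp fun h => hKodd (even_iff_two_dvd.mp h)
  have hmemK : ∀ x ∈ H, orderOf x ∣ 17 → x ∈ K' := by
    intro x hx ho
    refine ⟨⟨x, hx⟩, ?_, rfl⟩
    refine (QuotientGroup.eq_one_iff _).mp (orderOf_eq_one_iff.mp (Nat.dvd_one.mp ?_))
    have h1 : orderOf (QuotientGroup.mk' K ⟨x, hx⟩) ∣ 17 :=
      (orderOf_map_dvd _ _).trans (by rwa [Subgroup.orderOf_mk])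
    have h2 : orderOf (QuotientGroup.mk' K ⟨x, hx⟩) ∣ 2 ^ k := hKidx ▸ orderOf_dvd_natCard _
    rw [← (Nat.Coprime.pow_left k (by norm_num : Nat.Coprime 2 17)).gcd_eq_one]
    exact Nat.dvd_gcd h2 h1
  have hPK : PB ≤ K' := fun x hx => hmemK x (hPH hx) (hdv x hx)
  let P₁ : Sylow 17 K' := IsPGroup.toSylow (P := PB.subgroupOf K')
    (IsPGroup.of_card (n := 1) (by rw [Nat.card_congr (Subgroup.subgroupOfEquivOfLe hPK).toEquiv, hPBc, pow_one])) (by
      intro hd
      apply hR17
      refine dvd_trans ?_ (Subgroup.card_dvd_of_le (hK'H.trans inf_le_left))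
      rw [← Subgroup.card_mul_index (PB.subgroupOf K'), Nat.card_congr (Subgroup.subgroupOfEquivOfLe hPK).toEquiv,
        hPBc, pow_two]
      exact Nat.mul_dvd_mul_left 17 hd)
  -- transitivity
  have htrans : ∀ R : Sylow 17 G, R ∈ MulAction.orbit ↥K' P := by
    intro R
    obtain ⟨g, hg⟩ := MulAction.exists_smul_eq G P R
    let c := φ g
    have hcP : c P = R := hg
    set PR := PB.map (MulAut.conj c).toMonoidHom with hPRdef
    have hPRK : PR ≤ K' := by
      rintro _ ⟨x, hx, rfl⟩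
      refine hmemK _ ⟨φ.range.mul_mem (φ.range.mul_mem ⟨g, rfl⟩ (hPR hx)) (φ.range.inv_mem ⟨g, rfl⟩),
        (inferInstance : (alternatingGroup (Sylow 17 G)).Normal).conj_mem _ (hPH hx).2 c⟩ ?_
      exact (MulEquiv.orderOf_eq (MulAut.conj c) x).dvd.trans (hdv x hx)
    have hPRc : Nat.card PR = 17 := by
      rw [hPRdef, Subgroup.card_map_of_injective (MulAut.conj c).injective, hPBc]
    let P₂ : Sylow 17 K' := Sylow.ofCard (PR.subgroupOf K') (by
      rw [← P₁.card_eq_multiplicity]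
      show _ = Nat.card (PB.subgroupOf K')
      rw [Nat.card_congr (Subgroup.subgroupOfEquivOfLe hPRK).toEquiv, hPRc,
        Nat.card_congr (Subgroup.subgroupOfEquivOfLe hPK).toEquiv, hPBc])
    obtain ⟨u, hu⟩ := MulAction.exists_smul_eq K' P₁ P₂
    refine ⟨u, ?_⟩
    show (u : Equiv.Perm (Sylow 17 G)) P = R
    have hx₀' : (MulAut.conj c x₀) ∈ PR := ⟨x₀, hx₀, rfl⟩
    have h1 : (⟨_, hPRK hx₀'⟩ : K') ∈ ((u • P₁ : Sylow 17 K') : Subgroup K') := by
      rw [hu]
      exact hx₀'
    rw [Sylow.coe_subgroup_smul] at h1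
    obtain ⟨w, hw, hwe⟩ := h1
    have hwe' : (u : Equiv.Perm (Sylow 17 G)) * w * (u : Equiv.Perm (Sylow 17 G))⁻¹ = c * x₀ * c⁻¹ :=
      congrArg Subtype.val hwe
    have hfixR : (c * x₀ * c⁻¹) ((u : Equiv.Perm (Sylow 17 G)) P) = (u : Equiv.Perm (Sylow 17 G)) P := by
      rw [← hwe', Equiv.Perm.mul_apply, Equiv.Perm.mul_apply, Equiv.Perm.inv_def, Equiv.symm_apply_apply, hfixP (w : Equiv.Perm (Sylow 17 G)) hw]
    rw [← hcP]
    have h2 := huniq x₀ hx₀ hx₀1 (c⁻¹ ((u : Equiv.Perm (Sylow 17 G)) P)) (by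
      have := congrArg (c⁻¹ : Equiv.Perm (Sylow 17 G)) hfixR
      simpa [Equiv.Perm.mul_apply] using this)
    exact Equiv.Perm.inv_eq_iff_eq.mp h2 |>.trans rfl
  -- the normalizer in the odd part
  set N := MulAction.stabilizer ↥K' P with hN
  have hNc : Nat.card N = 17 := by
    let ψ : N →* MulAut PB := PB.normalizerMonoidHom.comp
      ((K'.subtype.comp N.subtype).codRestrict _ fun x => hnormal _ (hK'H x.1.2).1 x.2)
    have hker : ψ.ker.map (K'.subtype.comp N.subtype) ≤ C := by
      rintro _ ⟨x, hx, rfl⟩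
      refine ⟨hK'H x.1.2, ?_⟩
      have : ((K'.subtype.comp N.subtype).codRestrict _ fun x => hnormal _ (hK'H x.1.2).1 x.2) x ∈
        PB.normalizerMonoidHom.ker := hx
      rw [Subgroup.normalizerMonoidHom_ker] at this
      exact this
    have hk17 : Nat.card ψ.ker ∣ 17 := by
      have h1 := Subgroup.card_dvd_of_le hker
      rw [Subgroup.card_map_of_injective (f := K'.subtype.comp N.subtype)
        (K'.subtype_injective.comp N.subtype_injective)] at h1
      exact h1.trans hCc.dvd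
    have hrange : Nat.card ψ.range = 1 := by
      have h1 : Nat.card ψ.range ∣ 16 := by
        refine (Subgroup.card_subgroup_dvd_card _).trans (dvd_of_eq ?_)
        have hPBcyc := isCyclic_of_prime_card (p := 17) hPBc
        rw [IsCyclic.card_mulAut, hPBc, Nat.totient_prime (by norm_num)]
      have h2 : Odd (Nat.card ψ.range) :=
        hK'odd.of_dvd_nat ((Subgroup.card_range_dvd ψ).trans (Subgroup.card_subgroup_dvd_card N))
      obtain ⟨i, hi, hi'⟩ := (Nat.dvd_prime_pow Nat.prime_two).mp (show Nat.card ψ.range ∣ 2 ^ 4 from h1)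
      rcases i with _ | i
      · simpa using hi'
      · rw [hi', pow_succ'] at h2
        exact absurd h2 (by simp)
    have hN17 : Nat.card N ∣ 17 := by
      rw [← ψ.ker.card_mul_index, Subgroup.index_ker, hrange, mul_one]
      exact hk17
    refine Nat.dvd_antisymm hN17 ?_
    have h1 : Nat.card (PB.subgroupOf K') ∣ Nat.card N := Subgroup.card_dvd_of_le fun x hx => hfixP _ hx
    exact (((Nat.card_congr (Subgroup.subgroupOfEquivOfLe hPK).toEquiv).trans hPBc).symm.dvd).trans h1
  have hKc : Nat.card K' = 595 := by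
    rw [← N.card_mul_index, hNc, Subgroup.index, ← Nat.card_congr (MulAction.orbitEquivQuotientStabilizer ↥K' P),
      Set.eq_univ_of_forall htrans, Nat.card_univ, hcard]
  refine not_card_595 hKc (PB.subgroupOf K') ?_ ?_
  · rw [Nat.card_congr (Subgroup.subgroupOfEquivOfLe hPK).toEquiv, hPBc]
  · have heq : Subgroup.normalizer ((PB.subgroupOf K' : Subgroup K') : Set K') = N := by
      refine le_antisymm (fun u hu => huniq x₀ hx₀ hx₀1 _ ?_) fun u hu => ?_
      · have h1 := (Subgroup.mem_normalizer_iff''.mp hu (⟨x₀, hPK hx₀⟩ : K')).mp hx₀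
        have h2 := hfixP _ h1
        change (u : Equiv.Perm (Sylow 17 G))⁻¹ (x₀ ((u : Equiv.Perm (Sylow 17 G)) P)) = P at h2
        exact Equiv.Perm.inv_eq_iff_eq.mp h2 |>.symm ▸ rfl
      · have h1 := hnormal _ (hK'H u.2).1 hu
        rw [Subgroup.mem_normalizer_iff] at h1 ⊢
        exact fun v => h1 v
    rw [heq, hNc]

end Cfsg.Agent.S4236
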