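import Cfsg.Statements.S4237
import Mathlib
import Cfsg.Agent.Lib.Counting.Kulakoff
-- import your own Cfsg.Agent.* helpers here

set_option autoImplicit false
open Cfsg

namespace Cfsg.Agent.S4237

namespace Aux

open scoped Pointwise

universe u

variable {G : Type u} [Group G] [Finite G] {p : ℕ} [hp : Fact p.Prime]

theorem modEq_small_orbits {P α : Type u} [Group P] [Finite P] [MulAction P α] [Finite α] (hP : IsPGroup p P)
    (hfix : ∀ x : α, Nat.card (MulAction.orbit P x) ≠ 1) :
    Nat.card α ≡ Nat.card {x : α // Nat.card (MulAction.orbit P x) = p} [MOD p ^ 2] := by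
  classical
  let e := MulAction.selfEquivSigmaOrbits P α
  let Ω := Quotient (MulAction.orbitRel P α)
  haveI : Finite Ω := Quotient.finite _
  haveI := Fintype.ofFinite Ω
  have horb : ∀ x : α, ∀ w : Ω, x ∈ MulAction.orbit P w.out →
      MulAction.orbit P x = MulAction.orbit P w.out := fun x w h => MulAction.orbit_eq_iff.mpr h
  have h2 : Nat.card {x : α // Nat.card (MulAction.orbit P x) = p} =
      ∑ w : Ω, if Nat.card (MulAction.orbit P w.out) = p then Nat.card (MulAction.orbit P w.out) else 0 := by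
    have e2 : {x : α // Nat.card (MulAction.orbit P x) = p} ≃
        Σ w : Ω, {x : MulAction.orbit P w.out // Nat.card (MulAction.orbit P w.out) = p} :=
      (Equiv.subtypeEquiv (q := fun s : Σ w : Ω, MulAction.orbit P w.out => Nat.card (MulAction.orbit P s.1.out) = p) e
        fun x => by
        show _ ↔ Nat.card (MulAction.orbit P (e x).1.out) = p
        rw [← horb _ _ (e x).2.2, show ((e x).2 : α) = x from ?_]
        exact e.symm_apply_apply x).trans
      { toFun := fun s => ⟨s.1.1, s.1.2, s.2⟩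
        invFun := fun s => ⟨⟨s.1, s.2.1⟩, s.2.2⟩
        left_inv := fun s => rfl
        right_inv := fun s => rfl }
    rw [Nat.card_congr e2, Nat.card_sigma]
    refine Finset.sum_congr rfl fun w _ => ?_
    split
    · rename_i h
      rw [Nat.card_congr (Equiv.subtypeUnivEquiv fun _ => h)]
    · rename_i h
      haveI : IsEmpty {x : MulAction.orbit P w.out // Nat.card (MulAction.orbit P w.out) = p} := ⟨fun x => h x.2⟩
      exact Nat.card_of_isEmpty
  rw [Nat.card_congr e, Nat.card_sigma, h2]
  refine (ZMod.natCast_eq_natCast_iff _ _ _).mp ?_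
  rw [Nat.cast_sum, Nat.cast_sum]
  refine Finset.sum_congr rfl fun w _ => ?_
  split
  · rfl
  · rename_i h
    obtain ⟨j, hj⟩ := hP.card_orbit w.out
    have hj2 : 2 ≤ j := by
      by_contra h'
      interval_cases j
      · exact hfix _ (by rw [hj, pow_zero])
      · exact h (by rw [hj, pow_one])
    rw [hj, Nat.cast_zero, ← Nat.sub_add_cancel hj2, pow_add, Nat.cast_mul, ZMod.natCast_self, mul_zero]

theorem normalizer_smul_eq {H : Subgroup G} {g : G} : MulAut.conj g • H = H ↔ g ∈ Subgroup.normalizer (H : Set G) := by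
  rw [Subgroup.mem_normalizer_iff]
  constructor
  · intro h x
    conv_rhs => rw [← h]
    rw [Subgroup.mem_pointwise_smul_iff_inv_smul_mem, ← map_inv, MulAut.smul_def, MulAut.conj_apply]
    simp [mul_assoc]
  · intro h
    ext x
    rw [Subgroup.mem_pointwise_smul_iff_inv_smul_mem, ← map_inv, MulAut.smul_def, MulAut.conj_apply]
    refine (h _).trans ?_
    simp [mul_assoc]

theorem card_smul_eq (g : G) (H : Subgroup G) : Nat.card (MulAut.conj g • H : Subgroup G) = Nat.card H :=
  (Nat.card_congr (Subgroup.equivSMul (MulAut.conj g) H).toEquiv).symm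

theorem smul_self {g : G} {H : Subgroup G} (hg : g ∈ H) : MulAut.conj g • H = H :=
  normalizer_smul_eq.mpr (Subgroup.le_normalizer hg)

/-- The subgroups with a given maximal subgroup of a Sylow subgroup in the normalizer. -/
theorem overMax (P : Sylow p G) {n a : ℕ} (hn : Nat.card (P : Subgroup G) = p ^ n) (ha : 1 ≤ a) (han : a + 1 ≤ n)
    (Q : Subgroup G) (hQP : Q ≤ (P : Subgroup G)) (hQ : Nat.card Q = p ^ (n - 1)) :
    Nat.card {H : Subgroup G // Nat.card H = p ^ a ∧ ¬ H ≤ (P : Subgroup G) ∧ Q ≤ Subgroup.normalizer (H : Set G)}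
      ≡ 0 [MOD p ^ 2] := by
  classical
  let S := {R : Subgroup G // Nat.card R = p ^ n ∧ Q ≤ R ∧ R ≠ (P : Subgroup G)}
  haveI : Fintype S := Fintype.ofFinite S
  have hQlt : Nat.card Q < p ^ n := by
    rw [hQ]; exact Nat.pow_lt_pow_right hp.out.one_lt (by omega)
  have hPQ : (P : Subgroup G) ≤ Subgroup.normalizer (Q : Set G) := by
    have hidx : (Q.subgroupOf P).index = p := by
      have h := (Q.subgroupOf P).card_mul_index
      rw [Nat.card_congr (Subgroup.subgroupOfEquivOfLe hQP).toEquiv, hQ, hn,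
        show p ^ n = p ^ (n - 1) * p by rw [← pow_succ, Nat.sub_add_cancel (show 1 ≤ n by omega)]] at h
      exact Nat.eq_of_mul_eq_mul_left (pow_pos hp.out.pos _) h
    haveI := CfsgLib.CyclicMax.normal_of_index_prime P.2 hidx
    exact (Subgroup.normal_subgroupOf_iff_le_normalizer hQP).mp inferInstance
  -- the fibre over a Sylow subgroup
  let F : Subgroup G → ℕ := fun R => Nat.card {H : Subgroup G //
    (Nat.card H = p ^ a ∧ ¬ H ≤ (P : Subgroup G) ∧ Q ≤ Subgroup.normalizer (H : Set G)) ∧ H ⊔ Q = R}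
  have hmem : ∀ H : Subgroup G, Nat.card H = p ^ a → ¬ H ≤ (P : Subgroup G) → Q ≤ Subgroup.normalizer (H : Set G) →
      Nat.card (H ⊔ Q : Subgroup G) = p ^ n ∧ H ⊔ Q ≠ (P : Subgroup G) := by
    intro H hH hHP hQH
    refine ⟨?_, fun h => hHP (le_sup_left.trans h.le)⟩
    have hp2 : IsPGroup p (H ⊔ Q : Subgroup G) :=
      IsPGroup.to_sup_of_normal_left' (IsPGroup.of_card hH) (IsPGroup.of_card hQ) hQH
    obtain ⟨j, hj⟩ := IsPGroup.iff_card.mp hp2
    obtain ⟨R, hR⟩ := hp2.exists_le_sylow
    have h1 := Subgroup.card_le_of_le hR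
    rw [R.card_eq_multiplicity, ← P.card_eq_multiplicity, hn, hj] at h1
    have h2 : j ≤ n := (Nat.pow_le_pow_iff_right hp.out.one_lt).mp h1
    have h3 : Nat.card Q < Nat.card (H ⊔ Q : Subgroup G) := by
      refine lt_of_le_of_ne (Subgroup.card_le_of_le le_sup_right) fun h => hHP ?_
      exact (le_sup_left.trans (Subgroup.eq_of_le_of_card_ge le_sup_right h.ge).ge).trans hQP
    rw [hQ, hj, Nat.pow_lt_pow_iff_right hp.out.one_lt] at h3
    rw [hj, show j = n by omega]
  have htot : Nat.card {H : Subgroup G // Nat.card H = p ^ a ∧ ¬ H ≤ (P : Subgroup G) ∧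
      Q ≤ Subgroup.normalizer (H : Set G)} = ∑ R : S, F R.1 := by
    rw [← Nat.card_sigma]
    exact Nat.card_congr
      { toFun := fun H => ⟨⟨H.1 ⊔ Q, (hmem H.1 H.2.1 H.2.2.1 H.2.2.2).1, le_sup_right,
          (hmem H.1 H.2.1 H.2.2.1 H.2.2.2).2⟩, ⟨H.1, H.2, rfl⟩⟩
        invFun := fun s => ⟨s.2.1, s.2.2.1⟩
        left_inv := fun H => rfl
        right_inv := fun s => Sigma.subtype_ext (Subtype.ext s.2.2.2) rfl }
  have hF : ∀ R : S, p ∣ F R.1 := by
    rintro ⟨R, hR, hQR, hRP⟩
    show p ∣ F R
    let X := {H : Subgroup G // Nat.card H = p ^ a ∧ H ≤ R}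
    let Y := {H : Subgroup G // Nat.card H = p ^ a ∧ H ≤ Q}
    have hnQ : R ≤ Subgroup.normalizer (Q : Set G) := by
      have hidx : (Q.subgroupOf R).index = p := by
        have h := (Q.subgroupOf R).card_mul_index
        rw [Nat.card_congr (Subgroup.subgroupOfEquivOfLe hQR).toEquiv, hQ, hR,
          show p ^ n = p ^ (n - 1) * p by rw [← pow_succ, Nat.sub_add_cancel (show 1 ≤ n by omega)]] at h
        exact Nat.eq_of_mul_eq_mul_left (pow_pos hp.out.pos _) h
      haveI := CfsgLib.CyclicMax.normal_of_index_prime (IsPGroup.of_card hR) hidx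
      exact (Subgroup.normal_subgroupOf_iff_le_normalizer hQR).mp inferInstance
    letI actX : MulAction R X :=
      { smul := fun g H => ⟨MulAut.conj (g : G) • H.1, by rw [card_smul_eq, H.2.1],
          (Subgroup.pointwise_smul_le_pointwise_smul_iff.mpr H.2.2).trans (smul_self g.2).le⟩
        one_smul := fun H => Subtype.ext (by
          show MulAut.conj ((1 : R) : G) • H.1 = H.1
          rw [OneMemClass.coe_one, map_one, one_smul])
        mul_smul := fun g h H => Subtype.ext (by
          show MulAut.conj ((g * h : R) : G) • H.1 = MulAut.conj (g : G) • MulAut.conj (h : G) • H.1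
          rw [Subgroup.coe_mul, map_mul, mul_smul]) }
    letI actY : MulAction R Y :=
      { smul := fun g H => ⟨MulAut.conj (g : G) • H.1, by rw [card_smul_eq, H.2.1],
          (Subgroup.pointwise_smul_le_pointwise_smul_iff.mpr H.2.2).trans
            (normalizer_smul_eq.mpr (hnQ g.2)).le⟩
        one_smul := fun H => Subtype.ext (by
          show MulAut.conj ((1 : R) : G) • H.1 = H.1
          rw [OneMemClass.coe_one, map_one, one_smul])
        mul_smul := fun g h H => Subtype.ext (by
          show MulAut.conj ((g * h : R) : G) • H.1 = MulAut.conj (g : G) • MulAut.conj (h : G) • H.1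
          rw [Subgroup.coe_mul, map_mul, mul_smul]) }
    have hX : Nat.card X ≡ 1 [MOD p] := by
      rw [← Nat.card_congr (Equiv.subtypeSubtypeEquivSubtypeInter _ _), ← CfsgLib.Kulakoff.card_subgroups_le]
      exact Cfsg.Agent.S3975.result p a hp.out (hR ▸ pow_dvd_pow p (by omega))
    have hY : Nat.card Y ≡ 1 [MOD p] := by
      rw [← Nat.card_congr (Equiv.subtypeSubtypeEquivSubtypeInter _ _), ← CfsgLib.Kulakoff.card_subgroups_le]
      exact Cfsg.Agent.S3975.result p a hp.out (hQ ▸ pow_dvd_pow p (by omega))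
    have hRp : IsPGroup p R := IsPGroup.of_card hR
    have hfX := hRp.card_modEq_card_fixedPoints X
    have hfY := hRp.card_modEq_card_fixedPoints Y
    have hsum : Nat.card (MulAction.fixedPoints R X) = F R + Nat.card (MulAction.fixedPoints R Y) := by
      haveI := Fintype.ofFinite (MulAction.fixedPoints R X)
      rw [← Nat.card_congr (Equiv.sumCompl fun H : MulAction.fixedPoints R X => ¬ H.1.1 ≤ Q), Nat.card_sum]
      have hnorm : ∀ H : X, H ∈ MulAction.fixedPoints R X ↔ R ≤ Subgroup.normalizer (H.1 : Set G) := fun H =>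
        ⟨fun h g hg => normalizer_smul_eq.mp (congrArg Subtype.val (h ⟨g, hg⟩)),
          fun h g => Subtype.ext (normalizer_smul_eq.mpr (h g.2))⟩
      congr 1
      · refine Nat.card_congr
          { toFun := fun H => ⟨H.1.1.1, ?_⟩
            invFun := fun H => ⟨⟨⟨H.1, H.2.1.1, le_sup_left.trans H.2.2.le⟩, (hnorm _).mpr ?_⟩, ?_⟩
            left_inv := fun H => rfl
            right_inv := fun H => rfl }
        · obtain ⟨⟨⟨H, hH, hHR⟩, hfix⟩, hHQ⟩ := H
          have hN := (hnorm _).mp hfix
          have hsup : H ⊔ Q = R := by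
            refine Subgroup.eq_of_le_of_card_ge (sup_le hHR hQR) ?_
            obtain ⟨j, hj, hj'⟩ := (Nat.dvd_prime_pow hp.out).mp
              (hR ▸ Subgroup.card_dvd_of_le (sup_le hHR hQR))
            have h3 : Nat.card Q < Nat.card (H ⊔ Q : Subgroup G) :=
              lt_of_le_of_ne (Subgroup.card_le_of_le le_sup_right) fun h =>
                hHQ (le_sup_left.trans (Subgroup.eq_of_le_of_card_ge le_sup_right h.ge).ge)
            rw [hQ, hj', Nat.pow_lt_pow_iff_right hp.out.one_lt] at h3
            rw [hR, hj', show j = n by omega]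
          refine ⟨⟨hH, fun hle => hRP ?_, hQR.trans hN⟩, hsup⟩
          refine Subgroup.eq_of_le_of_card_ge (hsup ▸ sup_le hle hQP) ?_
          rw [hn, hR]
        · refine le_of_eq_of_le H.2.2.symm ?_
          exact sup_le Subgroup.le_normalizer H.2.1.2.2
        · exact fun hle => H.2.1.2.1 (hle.trans hQP)
      · exact Nat.card_congr
          { toFun := fun H => ⟨⟨H.1.1.1, H.1.1.2.1, not_not.mp H.2⟩, fun g => Subtype.ext
              (normalizer_smul_eq.mpr ((hnorm _).mp H.1.2 g.2))⟩
            invFun := fun H => ⟨⟨⟨H.1.1, H.1.2.1, H.1.2.2.trans hQR⟩, (hnorm _).mpr fun g hg =>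
              normalizer_smul_eq.mp (congrArg Subtype.val (H.2 ⟨g, hg⟩))⟩, not_not.mpr H.1.2.2⟩
            left_inv := fun H => rfl
            right_inv := fun H => rfl }
    rw [hsum] at hfX
    have h0 : F R + Nat.card (MulAction.fixedPoints R Y) ≡ 0 + Nat.card (MulAction.fixedPoints R Y) [MOD p] := by
      rw [zero_add]
      exact ((hfX.symm.trans hX).trans hY.symm).trans hfY
    exact Nat.modEq_zero_iff_dvd.mp (Nat.ModEq.add_right_cancel' _ h0)
  have hFinv : ∀ (g : G), g ∈ (P : Subgroup G) → ∀ R : Subgroup G, F (MulAut.conj g • R) = F R := by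
    intro g hg R
    have hP := smul_self hg
    have hQg : MulAut.conj g • Q = Q := normalizer_smul_eq.mpr (hPQ hg)
    refine (Nat.card_congr (Equiv.subtypeEquiv (MulAction.toPerm (MulAut.conj g)) fun H => ?_)).symm
    show _ ↔ (Nat.card (MulAut.conj g • H : Subgroup G) = p ^ a ∧ ¬ MulAut.conj g • H ≤ (P : Subgroup G) ∧ _) ∧ _
    rw [card_smul_eq]
    refine and_congr (and_congr_right fun _ => and_congr (not_congr ?_) ?_) ?_
    · conv_rhs => rw [← hP]
      rw [Subgroup.pointwise_smul_le_pointwise_smul_iff]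
    · constructor
      · intro h q hq
        rw [← hQg] at hq
        obtain ⟨q, hq', rfl⟩ := hq
        refine normalizer_smul_eq.mp ?_
        show MulAut.conj (MulAut.conj g q) • MulAut.conj g • H = MulAut.conj g • H
        rw [smul_smul, ← map_mul, MulAut.conj_apply, inv_mul_cancel_right, map_mul, ← smul_smul,
          normalizer_smul_eq.mpr (h hq')]
      · intro h q hq
        have h1 : MulAut.conj g q ∈ Subgroup.normalizer ((MulAut.conj g • H : Subgroup G) : Set G) :=
          h (by rw [← hQg]; exact Subgroup.smul_mem_pointwise_smul q (MulAut.conj g) Q hq)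
        have h2 := normalizer_smul_eq.mpr h1
        rw [MulAut.conj_apply, smul_smul, ← map_mul, inv_mul_cancel_right, map_mul, ← smul_smul] at h2
        exact normalizer_smul_eq.mp (MulAction.injective (MulAut.conj g) h2)
    · show _ ↔ MulAut.conj g • H ⊔ Q = MulAut.conj g • R
      conv_rhs => rw [← hQg, ← Subgroup.smul_sup]
      exact (MulAction.injective (MulAut.conj g)).eq_iff.symm
  rw [htot]
  -- the Sylow subgroups with the same number
  rw [← Finset.sum_fiberwise_of_maps_to (g := fun R : S => F R.1) (t := Finset.univ.image fun R : S => F R.1)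
    fun R _ => Finset.mem_image_of_mem _ (Finset.mem_univ R)]
  refine Nat.modEq_zero_iff_dvd.mpr (Finset.dvd_sum fun v hv => ?_)
  obtain ⟨R₀, -, hR₀⟩ := Finset.mem_image.mp hv
  rw [Finset.sum_congr rfl fun R hR => (Finset.mem_filter.mp hR).2, Finset.sum_const, smul_eq_mul, pow_two]
  refine mul_dvd_mul ?_ (hR₀ ▸ hF R₀)
  let T := {R : S // F R.1 = v}
  letI actT : MulAction (P : Subgroup G) T :=
    { smul := fun g R => ⟨⟨MulAut.conj (g : G) • R.1.1, by rw [card_smul_eq, R.1.2.1],
        (normalizer_smul_eq.mpr (hPQ g.2)).ge.trans (Subgroup.pointwise_smul_le_pointwise_smul_iff.mpr R.1.2.2.1),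
        fun h => R.1.2.2.2 (MulAction.injective (MulAut.conj (g : G)) (h.trans (smul_self g.2).symm))⟩,
        (hFinv _ g.2 _).trans R.2⟩
      one_smul := fun R => Subtype.ext (Subtype.ext (by
        show MulAut.conj ((1 : (P : Subgroup G)) : G) • R.1.1 = R.1.1
        rw [OneMemClass.coe_one, map_one, one_smul]))
      mul_smul := fun g h R => Subtype.ext (Subtype.ext (by
        show MulAut.conj ((g * h : (P : Subgroup G)) : G) • R.1.1 = MulAut.conj (g : G) • MulAut.conj (h : G) • R.1.1
        rw [Subgroup.coe_mul, map_mul, mul_smul])) }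
  have hT := P.2.card_modEq_card_fixedPoints T
  have h0 : Nat.card (MulAction.fixedPoints (P : Subgroup G) T) = 0 := by
    rw [Nat.card_eq_zero]
    refine Or.inl ⟨fun R => R.1.1.2.2.2 ?_⟩
    have hle : (P : Subgroup G) ≤ Subgroup.normalizer (R.1.1.1 : Set G) := fun g hg =>
      normalizer_smul_eq.mp (congrArg (fun x : T => x.1.1) (R.2 ⟨g, hg⟩))
    have hsup := IsPGroup.to_sup_of_normal_left' (IsPGroup.of_card R.1.1.2.1) P.2 hle
    refine Subgroup.eq_of_le_of_card_ge (le_sup_left.trans (P.is_maximal' hsup le_sup_right).le) ?_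
    rw [hn, R.1.1.2.1]
  rw [h0] at hT
  rw [← Fintype.card_subtype, ← Nat.card_eq_fintype_card]
  exact Nat.modEq_zero_iff_dvd.mp hT

/-- The subgroups outside a Sylow subgroup. -/
theorem outside (P : Sylow p G) {n a : ℕ} (hn : Nat.card (P : Subgroup G) = p ^ n) (ha : 1 ≤ a) (han : a + 1 ≤ n) :
    Nat.card {H : Subgroup G // Nat.card H = p ^ a ∧ ¬ H ≤ (P : Subgroup G)} ≡ 0 [MOD p ^ 2] := by
  classical
  let Y := {H : Subgroup G // Nat.card H = p ^ a ∧ ¬ H ≤ (P : Subgroup G)}
  letI actY : MulAction (P : Subgroup G) Y :=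
    { smul := fun g H => ⟨MulAut.conj (g : G) • H.1, by rw [card_smul_eq, H.2.1], fun h => H.2.2
        (Subgroup.pointwise_smul_le_pointwise_smul_iff.mp (h.trans (smul_self g.2).ge))⟩
      one_smul := fun H => Subtype.ext (by
        show MulAut.conj ((1 : (P : Subgroup G)) : G) • H.1 = H.1
        rw [OneMemClass.coe_one, map_one, one_smul])
      mul_smul := fun g h H => Subtype.ext (by
        show MulAut.conj ((g * h : (P : Subgroup G)) : G) • H.1 = MulAut.conj (g : G) • MulAut.conj (h : G) • H.1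
        rw [Subgroup.coe_mul, map_mul, mul_smul]) }
  have hst : ∀ H : Y, (MulAction.stabilizer (P : Subgroup G) H).map (P : Subgroup G).subtype =
      (P : Subgroup G) ⊓ Subgroup.normalizer (H.1 : Set G) := fun H => by
    ext g
    constructor
    · rintro ⟨g, hg, rfl⟩
      exact ⟨g.2, normalizer_smul_eq.mp (congrArg Subtype.val hg)⟩
    · rintro ⟨hg, hg'⟩
      exact ⟨⟨g, hg⟩, Subtype.ext (normalizer_smul_eq.mpr hg'), rfl⟩
  have hc : ∀ H : Y, Nat.card (MulAction.orbit (P : Subgroup G) H) *
      Nat.card ((P : Subgroup G) ⊓ Subgroup.normalizer (H.1 : Set G) : Subgroup G) = p ^ n := fun H => by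
    rw [← hst, Subgroup.card_map_of_injective (P : Subgroup G).subtype_injective, Nat.card_coe_set_eq,
      ← MulAction.index_stabilizer, Subgroup.index_mul_card, hn]
  have hfix : ∀ H : Y, Nat.card (MulAction.orbit (P : Subgroup G) H) ≠ 1 := by
    intro H h
    have h1 := hc H
    rw [h, one_mul, ← hn] at h1
    have h2 : (P : Subgroup G) ≤ Subgroup.normalizer (H.1 : Set G) :=
      (Subgroup.eq_of_le_of_card_ge inf_le_left h1.ge).ge.trans inf_le_right
    have hsup := IsPGroup.to_sup_of_normal_left' (IsPGroup.of_card H.2.1) P.2 h2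
    exact H.2.2 (le_sup_left.trans (P.is_maximal' hsup le_sup_right).le)
  refine (modEq_small_orbits (P := (P : Subgroup G)) (α := Y) P.2 hfix).trans ?_
  let M := {Q : Subgroup G // Q ≤ (P : Subgroup G) ∧ Nat.card Q = p ^ (n - 1)}
  haveI : Fintype M := Fintype.ofFinite M
  have hcard : ∀ H : Y, Nat.card (MulAction.orbit (P : Subgroup G) H) = p ↔
      Nat.card ((P : Subgroup G) ⊓ Subgroup.normalizer (H.1 : Set G) : Subgroup G) = p ^ (n - 1) := fun H => by
    have h1 := hc H
    rw [show p ^ n = p * p ^ (n - 1) by rw [← pow_succ', Nat.sub_add_cancel (show 1 ≤ n by omega)]] at h1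
    constructor
    · intro h
      rw [h] at h1
      exact Nat.eq_of_mul_eq_mul_left hp.out.pos h1
    · intro h
      rw [h] at h1
      exact Nat.eq_of_mul_eq_mul_right (pow_pos hp.out.pos _) h1
  have key : Nat.card {H : Y // Nat.card (MulAction.orbit (P : Subgroup G) H) = p} = ∑ Q : M, Nat.card
      {H : Subgroup G // Nat.card H = p ^ a ∧ ¬ H ≤ (P : Subgroup G) ∧ Q.1 ≤ Subgroup.normalizer (H : Set G)} := by
    rw [← Nat.card_sigma]
    exact Nat.card_congr
      { toFun := fun H => ⟨⟨_, inf_le_left, (hcard H.1).mp H.2⟩, ⟨H.1.1, H.1.2.1, H.1.2.2, inf_le_right⟩⟩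
        invFun := fun s => ⟨⟨s.2.1, s.2.2.1, s.2.2.2.1⟩, (hcard _).mpr (by
          have hle : s.1.1 ≤ (P : Subgroup G) ⊓ Subgroup.normalizer (s.2.1 : Set G) := le_inf s.1.2.1 s.2.2.2.2
          obtain ⟨j, hj, hj'⟩ := (Nat.dvd_prime_pow hp.out).mp (hn ▸ Subgroup.card_dvd_of_le
            (inf_le_left : (P : Subgroup G) ⊓ Subgroup.normalizer (s.2.1 : Set G) ≤ _))
          have h1 := Subgroup.card_le_of_le hle
          rw [s.1.2.2, hj', Nat.pow_le_pow_iff_right hp.out.one_lt] at h1
          rcases (show j = n ∨ j = n - 1 by omega) with rfl | rfl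
          · exfalso
            refine hfix ⟨s.2.1, s.2.2.1, s.2.2.2.1⟩ ?_
            have h2 := hc ⟨s.2.1, s.2.2.1, s.2.2.2.1⟩
            rw [hj'] at h2
            exact Nat.eq_of_mul_eq_mul_right (pow_pos hp.out.pos _) (h2.trans (one_mul _).symm)
          · exact hj')⟩
        left_inv := fun H => rfl
        right_inv := fun s => by
          refine Sigma.subtype_ext (Subtype.ext ?_) rfl
          have hle : s.1.1 ≤ (P : Subgroup G) ⊓ Subgroup.normalizer (s.2.1 : Set G) := le_inf s.1.2.1 s.2.2.2.2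
          refine (Subgroup.eq_of_le_of_card_ge hle ?_).symm
          obtain ⟨j, hj, hj'⟩ := (Nat.dvd_prime_pow hp.out).mp (hn ▸ Subgroup.card_dvd_of_le
            (inf_le_left : (P : Subgroup G) ⊓ Subgroup.normalizer (s.2.1 : Set G) ≤ _))
          rw [hj', s.1.2.2]
          refine Nat.pow_le_pow_right hp.out.pos ?_
          by_contra hlt
          refine hfix ⟨s.2.1, s.2.2.1, s.2.2.2.1⟩ ?_
          have h2 := hc ⟨s.2.1, s.2.2.1, s.2.2.2.1⟩
          rw [hj', show j = n by omega] at h2
          exact Nat.eq_of_mul_eq_mul_right (pow_pos hp.out.pos _) (h2.trans (one_mul _).symm) }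
  rw [key]
  refine Nat.modEq_zero_iff_dvd.mpr (Finset.dvd_sum fun Q _ => Nat.modEq_zero_iff_dvd.mp ?_)
  exact overMax P hn ha han Q.1 Q.2.1 Q.2.2

end Aux

/-- Let G be a finite group, p a prime and a a natural number such that p^(a+1) divides the order of G. Then the number of subgroups of G of order p^a is congruent to 1 or to 1 + p modulo p². -/
theorem result {G : Type*} [Group G] [Finite G] (p a : ℕ) (hp : p.Prime) (hdvd : p ^ (a + 1) ∣ Nat.card G) :
    Nat.card {H : Subgroup G // Nat.card H = p ^ a} ≡ 1 [MOD p ^ 2] ∨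
      Nat.card {H : Subgroup G // Nat.card H = p ^ a} ≡ 1 + p [MOD p ^ 2] := by
  classical
  haveI : Fact p.Prime := ⟨hp⟩
  haveI : Fintype G := Fintype.ofFinite G
  rcases Nat.eq_zero_or_pos a with rfl | ha
  · left
    refine congrArg (· % p ^ 2) ?_
    rw [Nat.card_eq_one_iff_unique]
    refine ⟨⟨fun H K => Subtype.ext ?_⟩, ⟨⟨⊥, by simp⟩⟩⟩
    rw [Subgroup.card_eq_one.mp (H.2.trans (pow_zero p)), Subgroup.card_eq_one.mp (K.2.trans (pow_zero p))]
  rcases eq_or_ne p 2 with rfl | hodd
  · have h : Nat.card {H : Subgroup G // Nat.card H = 2 ^ a} ≡ 1 [MOD 2] :=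
      Cfsg.Agent.S3975.result 2 a hp ((pow_dvd_pow 2 (Nat.le_succ a)).trans hdvd)
    unfold Nat.ModEq at h ⊢
    omega
  obtain ⟨P⟩ : Nonempty (Sylow p G) := inferInstance
  obtain ⟨n, hn⟩ := IsPGroup.iff_card.mp P.2
  have han : a + 1 ≤ n := by
    obtain ⟨Q, hQ⟩ := Sylow.exists_subgroup_card_pow_prime p hdvd
    obtain ⟨R, hR⟩ := (IsPGroup.of_card hQ).exists_le_sylow
    have := Subgroup.card_le_of_le hR
    rw [hQ, R.card_eq_multiplicity, ← P.card_eq_multiplicity, hn] at this
    exact (Nat.pow_le_pow_iff_right hp.one_lt).mp this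
  have hin := CfsgLib.Kulakoff.main (p := p) n (P : Subgroup G) hn a ha han
  rw [CfsgLib.Kulakoff.card_subgroups_le] at hin
  have hsplit : Nat.card {H : Subgroup G // Nat.card H = p ^ a} =
      Nat.card {H : {H : Subgroup G // Nat.card H = p ^ a} // H.1 ≤ (P : Subgroup G)} +
      Nat.card {H : Subgroup G // Nat.card H = p ^ a ∧ ¬ H ≤ (P : Subgroup G)} := by
    haveI := Fintype.ofFinite {H : Subgroup G // Nat.card H = p ^ a}
    rw [← Nat.card_congr (Equiv.subtypeSubtypeEquivSubtypeInter (fun H : Subgroup G => Nat.card H = p ^ a)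
        fun H => ¬ H ≤ (P : Subgroup G)), ← Nat.card_sum,
      Nat.card_congr (Equiv.sumCompl fun H : {H : Subgroup G // Nat.card H = p ^ a} => H.1 ≤ (P : Subgroup G))]
  have hout := Aux.outside P hn ha han
  rw [hsplit]
  split at hin
  · right
    simpa using (hin.add hout)
  · left
    simpa using (hin.add hout)

end Cfsg.Agent.S4237
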