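import Cfsg.Statements.S4238
import Mathlib
import Cfsg.Agent.Lib.PComplement
import Cfsg.Agent.Lib.Coprime
import Cfsg.Agent.Lib.CoprimeGen
import Cfsg.Agent.Lib.Elementary
-- import your own Cfsg.Agent.* helpers here

set_option autoImplicit false
open Cfsg

namespace Cfsg.Agent.S4238

open scoped Pointwise commutatorElement

theorem section_facts {X : Type*} [Group X] [Finite X] {p q : ℕ} [Fact p.Prime] [Fact q.Prime]
    (hqp : q ≠ p) (V : Subgroup X) [V.Normal] (hVp : IsPGroup p V) (hVne : V ≠ ⊥) (b : X)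
    (hbq : orderOf b = q) (hgen : V ⊔ Subgroup.zpowers b = ⊤)
    (hfix : ∀ v ∈ V, b * v = v * b → v = 1) :
    Cfsg.pPrimeCore p X = ⊥ ∧ ∀ k : X, orderOf k ≠ Monoid.exponent X := by
  have hp : p.Prime := Fact.out
  have hq : q.Prime := Fact.out
  obtain ⟨e, he⟩ := hVp.exists_card_eq
  have hcard : Nat.card X = p ^ e * q := by
    have hc : V.IsComplement' (Subgroup.zpowers b) := by
      refine Subgroup.isComplement'_of_disjoint_and_mul_eq_univ ?_ ?_
      · refine Subgroup.disjoint_of_coprime_natCard ?_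
        rw [he, Nat.card_zpowers, hbq]
        exact ((Nat.coprime_primes hp hq).mpr (Ne.symm hqp)).pow_left e
      · rw [← Subgroup.normal_mul, hgen, Subgroup.coe_top]
    rw [← hc.card_mul, he, Nat.card_zpowers, hbq]
  have hnq : ∀ y : X, orderOf y = q → ∀ v ∈ V, y * v = v * y → v = 1 := by
    intro y hy v hv hc
    have hsyl : ∀ z : X, orderOf z = q →
        Nat.card (Subgroup.zpowers z) = q ^ (Nat.card X).factorization q := by
      intro z hz
      rw [Nat.card_zpowers, hz, hcard, Nat.factorization_mul (pow_ne_zero _ hp.ne_zero) hq.ne_zero,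
        Finsupp.add_apply, hp.factorization_pow, Finsupp.single_eq_of_ne hqp,
        hq.factorization_self, zero_add, pow_one]
    obtain ⟨x, hx⟩ := MulAction.exists_smul_eq X (Sylow.ofCard _ (hsyl y hy))
      (Sylow.ofCard _ (hsyl b hbq))
    have hb' : x * y * x⁻¹ ∈ Subgroup.zpowers b := by
      have h := congrArg (fun S : Sylow q X => x * y * x⁻¹ ∈ (S : Subgroup X)) hx
      simp only [Sylow.coe_subgroup_smul, Sylow.coe_ofCard, Subgroup.mem_pointwise_smul_iff_inv_smul_mem,
        MulAut.smul_def, MulAut.inv_def, MulAut.conj_symm_apply, eq_iff_iff] at h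
      exact h.mp (by simp [mul_assoc, Subgroup.mem_zpowers])
    have heq : Subgroup.zpowers (x * y * x⁻¹) = Subgroup.zpowers b := by
      refine Subgroup.eq_of_le_of_card_ge (Subgroup.zpowers_le.mpr hb') ?_
      rw [Nat.card_zpowers, Nat.card_zpowers, hbq, ← MulAut.conj_apply, MulEquiv.orderOf_eq, hy]
    have hcomm : Commute b (x * v * x⁻¹) := by
      obtain ⟨i, hi⟩ := (heq ▸ Subgroup.mem_zpowers b : b ∈ Subgroup.zpowers (x * y * x⁻¹))
      rw [← hi]
      exact ((show Commute y v from hc).map (MulAut.conj x).toMonoidHom).zpow_left i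
    have h2 := hfix _ ((inferInstance : V.Normal).conj_mem v hv x) hcomm.eq
    exact conj_eq_one_iff.mp h2
  constructor
  · by_contra hne
    obtain ⟨v, hv, hv1⟩ := (Subgroup.bot_or_exists_ne_one V).resolve_left hVne
    set M := Cfsg.pPrimeCore p X with hM
    obtain ⟨r, hr, hrd⟩ := Nat.exists_prime_and_dvd (fun h1 => hne (Subgroup.card_eq_one.mp h1))
    have : Fact r.Prime := ⟨hr⟩
    have hMc := CfsgLib.card_pPrimeCore_coprime (G := X) p
    have hrq : r = q := by
      rcases (Nat.Prime.dvd_mul hr).mp (hcard ▸ hrd.trans (Subgroup.card_subgroup_dvd_card M)) with h | h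
      · exact absurd ((Nat.prime_dvd_prime_iff_eq hr hp).mp (hr.dvd_of_dvd_pow h)) fun e =>
          hp.coprime_iff_not_dvd.mp hMc.symm (Nat.dvd_trans (dvd_of_eq e.symm) hrd)
      · exact (Nat.prime_dvd_prime_iff_eq hr hq).mp h
    obtain ⟨⟨y, hyM⟩, hy⟩ := exists_prime_orderOf_dvd_card' r hrd
    rw [Subgroup.orderOf_mk, hrq] at hy
    have hd : Disjoint M V := by
      refine Subgroup.disjoint_of_coprime_natCard ?_
      rw [he]; exact hMc.pow_right e
    exact hv1 (hnq y hy v hv
      (Subgroup.commute_of_normal_of_disjoint M V inferInstance inferInstance hd y v hyM hv).eq)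
  · intro k hk
    obtain ⟨v, hv, hv1⟩ := (Subgroup.bot_or_exists_ne_one V).resolve_left hVne
    obtain ⟨j, hj⟩ := IsPGroup.iff_orderOf.mp hVp ⟨v, hv⟩
    rw [Subgroup.orderOf_mk] at hj
    have hj0 : j ≠ 0 := fun h0 => hv1 (orderOf_eq_one_iff.mp (by rw [hj, h0, pow_zero]))
    have hpk : p ∣ orderOf k := hk ▸ ((dvd_pow_self p hj0).trans (hj ▸ Monoid.order_dvd_exponent v))
    have hqk : q ∣ orderOf k := hk ▸ hbq ▸ Monoid.order_dvd_exponent b
    have h1 := orderOf_pow_orderOf_div (orderOf_pos k).ne' hqk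
    have h2 := orderOf_pow_orderOf_div (orderOf_pos k).ne' hpk
    set w := k ^ (orderOf k / p)
    have hwV : w ∈ V := by
      rw [← QuotientGroup.eq_one_iff]
      refine orderOf_eq_one_iff.mp (Nat.eq_one_of_dvd_coprimes ((Nat.coprime_primes hp hq).mpr (Ne.symm hqp))
        (h2 ▸ orderOf_map_dvd (QuotientGroup.mk' V) w) ?_)
      refine orderOf_dvd_of_pow_eq_one ?_
      have hw : w ∈ V ⊔ Subgroup.zpowers b := hgen ▸ Subgroup.mem_top w
      obtain ⟨u, hu, _, ⟨i, rfl⟩, e'⟩ := Subgroup.mem_sup_of_normal_left.mp hw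
      rw [← e', QuotientGroup.mk_mul, (QuotientGroup.eq_one_iff u).mpr hu, one_mul,
        ← QuotientGroup.mk_pow, ← zpow_natCast, ← zpow_mul, mul_comm, zpow_mul, zpow_natCast, ← hbq,
        pow_orderOf_eq_one, one_zpow, QuotientGroup.mk_one]
    have := hnq _ h1 w hwV (Commute.pow_pow_self k _ _).eq
    rw [this, orderOf_one] at h2
    exact hp.ne_one h2.symm

/-- Let G be a finite group and p a prime. Then G has a normal p-complement if and only if every section K = H/N of G (N a normal subgroup of a subgroup H) whose largest normal subgroup of order prime to p is trivial contains an element whose order equals the exponent of K. -/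
theorem result {G : Type*} [Group G] [Finite G] (p : ℕ) [Fact p.Prime] :
    Cfsg.HasNormalPComplement p G ↔
      ∀ (H : Subgroup G) (N : Subgroup H) [N.Normal], Cfsg.pPrimeCore p (H ⧸ N) = ⊥ →
        ∃ k : H ⧸ N, orderOf k = Monoid.exponent (H ⧸ N) := by
  classical
  have hp : p.Prime := Fact.out
  constructor
  · intro hG H N _ hcore
    have h1 := CfsgLib.hasNormalPComplement_of_surjective (QuotientGroup.mk'_surjective N)
      (CfsgLib.hasNormalPComplement_subgroup hG H)
    have hp' : IsPGroup p (H ⧸ N) := by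
      intro x
      obtain ⟨k, hk⟩ := CfsgLib.isPGroup_quotient_of_hasNormalPComplement h1 (x : _ ⧸ Cfsg.pPrimeCore p (H ⧸ N))
      refine ⟨k, ?_⟩
      rw [← QuotientGroup.mk_pow, QuotientGroup.eq_one_iff, hcore] at hk
      exact Subgroup.mem_bot.mp hk
    obtain ⟨g, -, hg⟩ := Set.exists_max_image (Set.univ : Set (H ⧸ N)) orderOf (Set.toFinite _) ⟨1, trivial⟩
    refine ⟨g, dvd_antisymm (Monoid.order_dvd_exponent g) (Monoid.exponent_dvd_of_forall_pow_eq_one fun y => ?_)⟩
    rw [← orderOf_dvd_iff_pow_eq_one]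
    obtain ⟨i, hi⟩ := IsPGroup.iff_orderOf.mp hp' y
    obtain ⟨j, hj⟩ := IsPGroup.iff_orderOf.mp hp' g
    have := hg y trivial
    rw [hi, hj] at this ⊢
    exact pow_dvd_pow p ((Nat.pow_le_pow_iff_right hp.one_lt).mp this)
  · intro hsec
    refine CfsgLib.hasNormalPComplement_of_frobeniusCond ?_
    by_contra hcon
    simp only [CfsgLib.FrobeniusCond] at hcon
    push Not at hcon
    obtain ⟨Q₀, hQ₀, g₀, hg₀, hg₀p, hg₀C⟩ := hcon
    obtain ⟨g, ⟨hgN, hgp, hgC⟩, hmin⟩ := Set.exists_min_image
      {g : G | g ∈ Subgroup.normalizer (Q₀ : Set G) ∧ (orderOf g).Coprime p ∧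
        g ∉ Subgroup.centralizer (Q₀ : Set G)} orderOf (Set.toFinite _) ⟨g₀, hg₀, hg₀p, hg₀C⟩
    have hpow : ∀ j : ℕ, orderOf (g ^ j) < orderOf g → g ^ j ∈ Subgroup.centralizer (Q₀ : Set G) := by
      intro j hj
      by_contra hc
      exact absurd (hmin (g ^ j) ⟨Subgroup.pow_mem _ hgN j,
        hgp.coprime_dvd_left (orderOf_pow_dvd j), hc⟩) (not_le.mpr hj)
    have hg1 : orderOf g ≠ 1 := fun e => hgC (orderOf_eq_one_iff.mp e ▸ one_mem _)
    obtain ⟨q, hq, hqd⟩ := Nat.exists_prime_and_dvd hg1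
    have : Fact q.Prime := ⟨hq⟩
    have hqp : q ≠ p := fun e => hp.coprime_iff_not_dvd.mp hgp.symm (e ▸ hqd)
    set A := Subgroup.zpowers g with hA
    have hAN : A ≤ Subgroup.normalizer (Q₀ : Set G) := Subgroup.zpowers_le.mpr hgN
    obtain ⟨n₀, hn₀⟩ := hQ₀.exists_card_eq
    have hcop : (Nat.card A).Coprime (Nat.card Q₀) := by
      rw [Nat.card_zpowers, hn₀]; exact hgp.pow_right n₀
    have hAs : Group.IsSolvable A := by
      let : CommGroup A := IsCyclic.commGroup
      infer_instance
    -- the kernel of the section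
    set C := Q₀ ⊓ Subgroup.centralizer (A : Set G)
    set W := C ⊔ (frattini Q₀).map Q₀.subtype with hW
    have hWQ : W ≤ Q₀ := sup_le inf_le_left (Subgroup.map_subtype_le _)
    have hQW : Q₀ ≤ Subgroup.normalizer (W : Set G) := by
      intro x hx
      have key : ∀ y ∈ Q₀, ∀ z ∈ W, y * z * y⁻¹ ∈ W := by
        intro y hy z hz
        have h3 : ⁅(⟨y, hy⟩ : Q₀), ⟨z, hWQ hz⟩⁆ ∈ frattini Q₀ := by
          have := Fact.mk hp
          exact CfsgLib.commutator_le_frattini_pGroup hQ₀
            (Subgroup.commutator_mem_commutator (Subgroup.mem_top _) (Subgroup.mem_top _))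
        have h4 := W.mul_mem (Subgroup.mem_sup_right (Subgroup.mem_map_of_mem Q₀.subtype h3)) hz
        simpa [commutatorElement_def, mul_assoc] using h4
      rw [Subgroup.mem_normalizer_iff]
      intro z
      refine ⟨key x hx z, fun hz => ?_⟩
      simpa [mul_assoc] using key x⁻¹ (inv_mem hx) _ hz
    have hAW : A ≤ Subgroup.normalizer (W : Set G) := by
      refine le_trans (le_inf ?_ ?_) (Subgroup.normalizer_inf_normalizer_le_normalizer_sup _ _)
      · refine le_trans ?_ (Subgroup.inf_normalizer_le_normalizer_inf)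
        exact le_inf hAN ((Subgroup.le_centralizer_iff.mp le_rfl).trans
          (Subgroup.centralizer_le_normalizer _))
      · exact (CfsgLib.le_normalizer_map_characteristic hAN (frattini Q₀)).1
    set B := Subgroup.zpowers (g ^ q)
    set H := Q₀ ⊔ A
    have hBA : B ≤ A := Subgroup.zpowers_le.mpr (pow_mem (Subgroup.mem_zpowers g) q)
    have hBC : B ≤ Subgroup.centralizer (Q₀ : Set G) := Subgroup.zpowers_le.mpr (hpow q (by
      rw [orderOf_pow_of_dvd hq.ne_zero hqd]
      exact Nat.div_lt_self (orderOf_pos g) hq.one_lt))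
    have hWBH : W ⊔ B ≤ H := sup_le (hWQ.trans le_sup_left) (hBA.trans le_sup_right)
    have hnorm : H ≤ Subgroup.normalizer ((W ⊔ B : Subgroup G) : Set G) := by
      refine le_trans (le_inf (sup_le hQW hAW) (sup_le ?_ ?_))
        (Subgroup.normalizer_inf_normalizer_le_normalizer_sup _ _)
      · exact (Subgroup.le_centralizer_iff.mp hBC).trans (Subgroup.centralizer_le_normalizer _)
      · refine le_trans ?_ (Subgroup.centralizer_le_normalizer _)
        rw [Subgroup.le_centralizer_iff]
        exact hBA.trans (Subgroup.le_centralizer A)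
    set N := (W ⊔ B).subgroupOf H
    have hNn : N.Normal := (Subgroup.normal_subgroupOf_iff_le_normalizer hWBH).mpr hnorm
    set f := QuotientGroup.mk' N
    have hQH : Q₀ ≤ H := le_sup_left
    have hgH : g ∈ H := Subgroup.mem_sup_right (Subgroup.mem_zpowers g)
    set V := (Q₀.subgroupOf H).map f
    set b := f ⟨g, hgH⟩
    have hVn : V.Normal := by
      refine Subgroup.Normal.map ?_ f (QuotientGroup.mk'_surjective N)
      exact (Subgroup.normal_subgroupOf_iff_le_normalizer hQH).mpr (sup_le Subgroup.le_normalizer hAN)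
    have hVp : IsPGroup p V := (hQ₀.comap_subtype).map f
    have hgen : V ⊔ Subgroup.zpowers b = ⊤ := by
      have h1 : (⟨g, hgH⟩ : H) ∈ A.subgroupOf H := Subgroup.mem_zpowers g
      have h2 : A.subgroupOf H = Subgroup.zpowers (⟨g, hgH⟩ : H) := by
        apply Subgroup.map_injective H.subtype_injective
        rw [Subgroup.map_subgroupOf_eq_of_le le_sup_right, MonoidHom.map_zpowers]
        rfl
      rw [show Subgroup.zpowers b = (A.subgroupOf H).map f by rw [h2, MonoidHom.map_zpowers],
        ← Subgroup.map_sup, ← Subgroup.subgroupOf_sup hQH le_sup_right, Subgroup.subgroupOf_self,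
        Subgroup.map_top_of_surjective f (QuotientGroup.mk'_surjective N)]
    have hfix : ∀ v ∈ V, b * v = v * b → v = 1 := by
      rintro _ ⟨⟨k, hkH⟩, hk, rfl⟩ hc
      have h1 : ((⟨g, hgH⟩ : H) * ⟨k, hkH⟩ * ⟨g, hgH⟩⁻¹ * ⟨k, hkH⟩⁻¹) ∈ N := by
        rw [← QuotientGroup.eq_one_iff, ← QuotientGroup.mk'_apply]
        simp only [map_mul, map_inv]
        rw [mul_inv_eq_one, mul_inv_eq_iff_eq_mul]
        exact hc
      have hkQ : k ∈ Q₀ := hk
      -- a commutator of g and k lying in the kernel lies in W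
      have hcW : ∀ a ∈ A, a * k * a⁻¹ * k⁻¹ ∈ W := by
        have hg' : g * k * g⁻¹ * k⁻¹ ∈ W := by
          have hq0 : g * k * g⁻¹ * k⁻¹ ∈ Q₀ :=
            Q₀.mul_mem ((Subgroup.mem_normalizer_iff.mp hgN k).mp hkQ) (Q₀.inv_mem hkQ)
          obtain ⟨w, hw, z, hz, e⟩ := CfsgLib.mem_sup_of_le_normalizer (hBA.trans hAW)
            (show g * k * g⁻¹ * k⁻¹ ∈ W ⊔ B from h1)
          have hz1 : z = 1 := by
            have : z ∈ Q₀ := by
              have := Q₀.mul_mem (Q₀.inv_mem (hWQ hw)) (e ▸ hq0 : w * z ∈ Q₀)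
              simpa using this
            exact Subgroup.disjoint_def.mp (Subgroup.disjoint_of_coprime_natCard hcop) (hBA hz) this
          rw [← e, hz1, mul_one]; exact hw
        let D : Subgroup G :=
          { carrier := {a | a ∈ Subgroup.normalizer (W : Set G) ∧ a * k * a⁻¹ * k⁻¹ ∈ W}
            one_mem' := ⟨one_mem _, by simp⟩
            mul_mem' := fun {a c} ha hc => ⟨mul_mem ha.1 hc.1, by
              have h2 := (Subgroup.mem_normalizer_iff.mp ha.1 _).mp hc.2
              have h3 := W.mul_mem h2 ha.2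
              simpa [mul_assoc] using h3⟩
            inv_mem' := fun {a} ha => ⟨inv_mem ha.1, by
              have h2 := (Subgroup.mem_normalizer_iff''.mp ha.1 _).mp (W.inv_mem ha.2)
              simpa [mul_assoc] using h2⟩ }
        exact fun a ha => ((Subgroup.zpowers_le (H := D)).mpr ⟨hAW (Subgroup.mem_zpowers g), hg'⟩ ha).2
      obtain ⟨c, hc', hkc⟩ := CfsgLib.coprime_fixed_quotient hAN hcop (Or.inl hAs) hWQ hQW hAW hkQ hcW
      have hkW : k ∈ W := by
        have := W.mul_mem (Subgroup.mem_sup_left hc' : c ∈ W) (W.inv_mem hkc)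
        simpa [mul_assoc] using this
      exact (QuotientGroup.eq_one_iff _).mpr (Subgroup.mem_sup_left hkW)
    have hVne : V ≠ ⊥ := by
      intro e
      have h1 : Q₀.subgroupOf H ≤ N := by
        rwa [Subgroup.map_eq_bot_iff, QuotientGroup.ker_mk'] at e
      have h2 : Q₀ ≤ W := by
        intro z hz
        obtain ⟨w, hw, y, hy, e⟩ := CfsgLib.mem_sup_of_le_normalizer (hBA.trans hAW)
          (show z ∈ W ⊔ B from h1 (x := ⟨z, hQH hz⟩) hz)
        have : y ∈ Q₀ := by
          have := Q₀.mul_mem (Q₀.inv_mem (hWQ hw)) (e ▸ hz : w * y ∈ Q₀)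
          simpa using this
        rw [← e, Subgroup.disjoint_def.mp (Subgroup.disjoint_of_coprime_natCard hcop) (hBA hy) this,
          mul_one]
        exact hw
      have h3 : C.subgroupOf Q₀ ⊔ frattini Q₀ = ⊤ := by
        apply Subgroup.map_injective Q₀.subtype_injective
        rw [Subgroup.map_sup, Subgroup.map_subgroupOf_eq_of_le inf_le_left, ← hW,
          ← MonoidHom.range_eq_map, Subgroup.range_subtype]
        exact le_antisymm hWQ h2
      have h4 := Subgroup.subgroupOf_eq_top.mp (frattini_nongenerating h3)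
      exact hgC fun z hz => (Subgroup.mem_centralizer_iff.mp
        (Subgroup.mem_inf.mp (h4 hz)).2 g (Subgroup.mem_zpowers g)).symm
    have hbq : orderOf b = q := by
      refine orderOf_eq_prime ?_ ?_
      · rw [← map_pow]
        refine (QuotientGroup.eq_one_iff _).mpr ?_
        exact Subgroup.mem_sup_right (Subgroup.mem_zpowers (g ^ q))
      · intro e
        obtain ⟨v, hv, hv1⟩ := (Subgroup.bot_or_exists_ne_one V).resolve_left hVne
        exact hv1 (hfix v hv (by rw [e]; simp))
    obtain ⟨hcore, hexp⟩ := section_facts hqp V hVp hVne b hbq hgen hfix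
    obtain ⟨k, hk⟩ := hsec H N hcore
    exact hexp k hk

end Cfsg.Agent.S4238
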