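import Cfsg.Statements.S4242
import Mathlib
import Cfsg.Agent.Lib.PComplement
import Cfsg.Agent.Lib.Solvable.Schmidt
-- import your own Cfsg.Agent.* helpers here

set_option autoImplicit false
open Cfsg

namespace Cfsg.Agent.S4242

open scoped Pointwise

open Subgroup in
private theorem exists_coatom_ge {G : Type*} [Group G] [Finite G] {H : Subgroup G} (h : H ≠ ⊤) :
    ∃ M : Subgroup G, IsCoatom M ∧ H ≤ M :=
  (IsCoatomic.eq_top_or_exists_le_coatom H).resolve_left h

/-- all proper subgroups nilpotent, from the maximal ones -/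
private theorem nil_of_le {G : Type*} [Group G] [Finite G] {H M : Subgroup G} (hle : H ≤ M) (hM : Group.IsNilpotent M) :
    Group.IsNilpotent H := by
  have := hM
  exact (Group.isNilpotent_congr (Subgroup.subgroupOfEquivOfLe hle)).mp inferInstance

open Subgroup in
/-- the forward direction -/
private theorem forward {G : Type*} [Group G] [Finite G] {p : ℕ} [hp : Fact p.Prime] (hpG : p ∣ Nat.card G)
    (h : ∀ M : Subgroup G, IsCoatom M → p ∣ Nat.card M → Group.IsNilpotent M) (hG : ¬ Group.IsNilpotent G) :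
    Cfsg.IsMinimalNonNilpotent G ∨
      ∃ Z K : Subgroup G, Z.Normal ∧ K.Normal ∧ Z ⊓ K = ⊥ ∧ Z ⊔ K = ⊤ ∧ Nat.card Z = p ∧
        Cfsg.IsMinimalNonNilpotent K ∧ ¬ p ∣ Nat.card K := by
  classical
  have hsmall : ∀ H : Subgroup G, H ≠ ⊤ → p ∣ Nat.card H → Group.IsNilpotent H := by
    intro H hH hd
    obtain ⟨M, hM, hle⟩ := exists_coatom_ge hH
    exact nil_of_le hle (h M hM (hd.trans (card_dvd_of_le hle)))
  have hcomm : ∀ H : Subgroup G, H ≠ ⊤ → p ∣ Nat.card H → ∀ x ∈ H, ∀ y ∈ H,
      (orderOf x).Coprime (orderOf y) → x * y = y * x := fun H hH hd x hx y hy hc =>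
    CfsgLib.Schmidt.nilpotent_commute (hsmall H hH hd) hx hy hc
  by_cases hall : ∀ M : Subgroup G, IsCoatom M → Group.IsNilpotent M
  · refine Or.inl ⟨hG, fun H hH => ?_⟩
    obtain ⟨M, hM, hle⟩ := exists_coatom_ge hH
    exact nil_of_le hle (hall M hM)
  push Not at hall
  obtain ⟨M, hM, hMn⟩ := hall
  have hpM : ¬ p ∣ Nat.card M := fun hd => hMn (h M hM hd)
  obtain ⟨P⟩ := (inferInstance : Nonempty (Sylow p G))
  have hPM : ¬ (P : Subgroup G) ≤ M := fun hle => hpM
    ((P.dvd_card_of_dvd_card hpG).trans (card_dvd_of_le hle))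
  have hcopPM : ∀ H : Subgroup G, IsPGroup p H → (Nat.card H).Coprime (Nat.card M) := fun H hH => by
    obtain ⟨k, hk⟩ := hH.exists_card_eq
    rw [hk]; exact Nat.Coprime.pow_left k ((Nat.Prime.coprime_iff_not_dvd hp.out).mpr hpM)
  by_cases hPn : (P : Subgroup G).Normal
  · -- normal Sylow subgroup
    right
    have hsup : (P : Subgroup G) ⊔ M = ⊤ := hM.2 _ (lt_of_le_of_ne le_sup_right fun e => hPM (e ▸ le_sup_left))
    have hinf : (P : Subgroup G) ⊓ M = ⊥ := inf_eq_bot_of_coprime (hcopPM _ P.isPGroup')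
    have hcard : ∀ H : Subgroup G, H ≤ M → Nat.card ↥((P : Subgroup G) ⊔ H) = Nat.card (P : Subgroup G) * Nat.card H := by
      intro H hH
      rw [← SetLike.coe_sort_coe, Subgroup.normal_mul]
      refine (Nat.card_congr (Equiv.ofBijective (fun x : ↥(P : Subgroup G) × ↥H =>
        (⟨(x.1 : G) * x.2, Set.mul_mem_mul x.1.2 x.2.2⟩ : ↥(((P : Subgroup G) : Set G) * (H : Set G)))) ⟨?_, ?_⟩)).symm.trans
        (Nat.card_prod _ _)
      · exact fun x y he => Subgroup.mul_injective_of_disjoint (disjoint_iff.mpr (le_bot_iff.mp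
          ((inf_le_inf_left _ hH).trans hinf.le))) (congrArg Subtype.val he)
      · rintro ⟨_, a, ha, b, hb, rfl⟩; exact ⟨(⟨a, ha⟩, ⟨b, hb⟩), rfl⟩
    have hprop : ∀ H : Subgroup G, H < M → Group.IsNilpotent ↥((P : Subgroup G) ⊔ H) ∧
        ∀ x ∈ (P : Subgroup G), ∀ y ∈ H, x * y = y * x := by
      intro H hH
      have hne : (P : Subgroup G) ⊔ H ≠ ⊤ := by
        intro e
        have h1 := hcard M le_rfl
        have h2 := hcard H hH.le
        rw [e] at h2
        rw [hsup, h2] at h1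
        exact hH.ne (eq_of_le_of_card_ge hH.le (Nat.eq_of_mul_eq_mul_left Nat.card_pos h1).ge)
      have hd : p ∣ Nat.card ↥((P : Subgroup G) ⊔ H) := (P.dvd_card_of_dvd_card hpG).trans (card_dvd_of_le le_sup_left)
      exact ⟨hsmall _ hne hd, fun x hx y hy => hcomm _ hne hd x (mem_sup_left hx) y (mem_sup_right hy)
        (((hcopPM _ P.isPGroup').coprime_dvd_left (Subgroup.orderOf_dvd_natCard _ hx)).coprime_dvd_right
          (Subgroup.orderOf_dvd_natCard _ (hH.le hy)))⟩
    have hMs : Cfsg.IsMinimalNonNilpotent M := by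
      refine ⟨hMn, fun H hH => ?_⟩
      have hlt : H.map M.subtype < M := lt_of_le_of_ne (map_subtype_le H) fun e => hH (by
        apply map_injective M.subtype_injective
        rw [e, ← MonoidHom.range_eq_map, range_subtype])
      exact (Group.isNilpotent_congr (H.equivMapOfInjective _ M.subtype_injective)).mpr
        (nil_of_le le_sup_right (hprop _ hlt).1)
    have hcent : ∀ x ∈ (P : Subgroup G), ∀ y ∈ M, x * y = y * x := by
      intro x hx y hy
      refine (hprop (zpowers y) (lt_of_le_of_ne (zpowers_le.mpr hy) fun e => hMn ?_)).2 x hx y (mem_zpowers y)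
      letI := IsCyclic.commGroup (α := zpowers y)
      have hnz : Group.IsNilpotent (zpowers y) := inferInstance
      exact (Group.isNilpotent_congr (MulEquiv.subgroupCongr e)).mp hnz
    have hMnorm : M.Normal := by
      refine normalizer_eq_top_iff.mp (top_le_iff.mp (hsup ▸ sup_le (fun x hx => ?_) le_normalizer))
      exact centralizer_le_normalizer _ (mem_centralizer_iff.mpr fun y hy => (hcent x hx y hy).symm)
    refine ⟨P, M, hPn, hMnorm, hinf, hsup, ?_, hMs, hpM⟩
    obtain ⟨z, hz⟩ := exists_prime_orderOf_dvd_card' (G := (P : Subgroup G)) p (P.dvd_card_of_dvd_card hpG)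
    have hz' : orderOf (z : G) = p := by rw [Subgroup.orderOf_coe, hz]
    have htop : zpowers (z : G) ⊔ M = ⊤ := hM.2 _ (lt_of_le_of_ne le_sup_right fun e => hpM (by
      have hzM : (z : G) ∈ M := e.symm ▸ mem_sup_left (mem_zpowers _)
      rw [← hz']; exact Subgroup.orderOf_dvd_natCard _ hzM))
    have h1 := hcard M le_rfl
    rw [hsup] at h1
    have h2 : Nat.card ↥(zpowers (z : G) ⊔ M) ≤ p * Nat.card M := by
      rw [← SetLike.coe_sort_coe, Subgroup.mul_normal]
      have h4 := Nat.card_le_card_of_surjective (fun x : zpowers (z : G) × M =>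
        (⟨(x.1 : G) * x.2, Set.mul_mem_mul x.1.2 x.2.2⟩ : ↥((zpowers (z : G) : Set G) * (M : Set G))))
        (by rintro ⟨_, a, ha, b, hb, rfl⟩; exact ⟨(⟨a, ha⟩, ⟨b, hb⟩), rfl⟩)
      rwa [Nat.card_prod, Nat.card_zpowers, hz'] at h4
    rw [htop, h1] at h2
    exact le_antisymm (Nat.le_of_mul_le_mul_right h2 Nat.card_pos)
      (Nat.le_of_dvd Nat.card_pos (P.dvd_card_of_dvd_card hpG))
  -- Sylow subgroup not normal
  left
  have hOp : ∀ U : Subgroup G, U.Normal → IsPGroup p U → U = ⊥ := by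
    intro U hU hUp
    by_contra hU0
    apply hPn
    have hUP : U ≤ (P : Subgroup G) := by
      obtain ⟨Q, hQ⟩ := hUp.exists_le_sylow
      obtain ⟨g, rfl⟩ := MulAction.exists_smul_eq G P Q
      intro x hx
      have := hQ (hU.conj_mem x hx g)
      rw [Sylow.smul_def, Sylow.pointwise_smul_def, mem_pointwise_smul_iff_inv_smul_mem,
        MulAut.smul_def, ← map_inv, MulAut.conj_apply, inv_inv] at this
      simpa [mul_assoc] using this
    have htop : U ⊔ M = ⊤ := hM.2 _ (lt_of_le_of_ne le_sup_right fun e => hU0 ((inf_eq_left.mpr (e.symm ▸ le_sup_left)).symm.trans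
      (inf_eq_bot_of_coprime (hcopPM U hUp))))
    suffices (P : Subgroup G) ≤ U from (le_antisymm this hUP) ▸ hU
    intro x hx
    obtain ⟨a, ha, b, hb, rfl⟩ := mem_sup_of_normal_left.mp (htop ▸ mem_top x)
    have hbP : b ∈ (P : Subgroup G) := by simpa using mul_mem (inv_mem (hUP ha)) hx
    have hb1 : b = 1 := (Subgroup.eq_bot_iff_forall _).mp (inf_eq_bot_of_coprime (hcopPM _ P.isPGroup')) b ⟨hbP, hb⟩
    rw [hb1, mul_one]; exact ha
  have hpd : ∀ Q : Subgroup G, IsPGroup p Q → Q ≠ ⊥ → p ∣ Nat.card Q := fun Q hQ hQ0 => by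
    obtain ⟨k, hk⟩ := hQ.exists_card_eq
    rw [hk]
    exact dvd_pow_self p fun h0 => hQ0 (eq_bot_of_card_eq _ (by rw [hk, h0, pow_zero]))
  have hcompl : Cfsg.HasNormalPComplement p G := by
    refine CfsgLib.hasNormalPComplement_of_frobeniusCond fun Q hQ g hg hgp => ?_
    by_cases hQ0 : Q = ⊥
    · subst hQ0; exact mem_centralizer_iff.mpr fun y hy => by
        rw [mem_bot.mp hy]; simp
    have hne : normalizer (Q : Set G) ≠ ⊤ := fun e => hQ0 (hOp Q (normalizer_eq_top_iff.mp e) hQ)
    refine mem_centralizer_iff.mpr fun y hy => ?_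
    refine hcomm _ hne ((hpd Q hQ hQ0).trans (card_dvd_of_le le_normalizer)) y (le_normalizer hy) g hg ?_
    obtain ⟨k, hk⟩ := hQ ⟨y, hy⟩
    exact ((hgp.symm.pow_left k)).coprime_dvd_left (orderOf_dvd_of_pow_eq_one (congrArg Subtype.val hk))
  set N := Cfsg.pPrimeCore p G with hN
  have hNn : N.Normal := inferInstance
  have hNP := CfsgLib.pPrimeCore_isComplement'_sylow (CfsgLib.hasNormalPComplement_iff.mp hcompl) P
  have hNc : (Nat.card N).Coprime p := CfsgLib.card_pPrimeCore_coprime p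
  have hcenorder : ∀ H : Subgroup G, IsPGroup p H → ∀ x ∈ H, ∀ y ∈ N, (orderOf x).Coprime (orderOf y) := by
    intro H hH x hx y hy
    obtain ⟨k, hk⟩ := hH ⟨x, hx⟩
    exact ((hNc.symm.pow_left k).coprime_dvd_left (orderOf_dvd_of_pow_eq_one (congrArg Subtype.val hk))).coprime_dvd_right
      (Subgroup.orderOf_dvd_natCard _ hy)
  -- `P` has order `p`
  have hPcard : Nat.card (P : Subgroup G) = p := by
    have hntP : Nontrivial (P : Subgroup G) :=
      (nontrivial_iff_ne_bot _).mpr fun e => hPM (e ▸ bot_le)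
    have := P.isPGroup'.center_nontrivial
    obtain ⟨k, hk⟩ := (P.isPGroup'.to_subgroup (center (P : Subgroup G))).exists_card_eq
    obtain ⟨⟨z, hzc⟩, hz⟩ := exists_prime_orderOf_dvd_card' (G := center (P : Subgroup G)) p (by
      rw [hk]
      refine dvd_pow_self p fun h0 => ?_
      rw [h0, pow_zero] at hk
      exact (Finite.one_lt_card_iff_nontrivial.mpr this).ne' hk)
    rw [Subgroup.orderOf_mk] at hz
    have hz' : orderOf (z : G) = p := by rw [Subgroup.orderOf_coe, hz]
    by_contra hne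
    have htop : N ⊔ zpowers (z : G) ≠ ⊤ := by
      intro e
      apply hne
      have hzP : zpowers (z : G) ≤ (P : Subgroup G) := zpowers_le.mpr z.2
      suffices (P : Subgroup G) ≤ zpowers (z : G) by
        rw [le_antisymm this hzP, Nat.card_zpowers, hz']
      intro x hx
      obtain ⟨a, ha, b, hb, rfl⟩ := mem_sup_of_normal_left.mp (e ▸ mem_top x)
      have haP : a ∈ (P : Subgroup G) := by simpa using mul_mem hx (inv_mem (hzP hb))
      rw [(Subgroup.eq_bot_iff_forall _).mp hNP.disjoint.eq_bot a ⟨ha, haP⟩, one_mul]; exact hb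
    have hd : p ∣ Nat.card ↥(N ⊔ zpowers (z : G)) :=
      (dvd_of_eq (hz'.symm.trans (Nat.card_zpowers _).symm)).trans (card_dvd_of_le le_sup_right)
    have hzcen : (z : G) ∈ center G := by
      rw [mem_center_iff]
      intro x
      obtain ⟨⟨⟨a, ha⟩, ⟨b, hb⟩⟩, hab⟩ := hNP.2 x
      simp only at hab
      subst hab
      have h1 : a * (z : G) = (z : G) * a :=
        hcomm _ htop hd a (mem_sup_left ha) _ (mem_sup_right (mem_zpowers _))
          (hcenorder _ P.isPGroup' _ z.2 a ha).symm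
      have h2 : b * (z : G) = (z : G) * b := congrArg Subtype.val (mem_center_iff.mp hzc ⟨b, hb⟩)
      rw [mul_assoc, h2, ← mul_assoc, h1, mul_assoc]
    have hzn : (zpowers (z : G)).Normal := ⟨fun x hx g => by
      rw [mem_center_iff.mp (zpowers_le.mpr hzcen hx) g, mul_inv_cancel_right]; exact hx⟩
    have hbot := hOp _ hzn ((P.isPGroup').to_le (zpowers_le.mpr z.2))
    rw [zpowers_eq_bot] at hbot
    rw [hbot, orderOf_one] at hz'
    exact hp.out.one_lt.ne hz'
  -- for every prime divisor of `N`, an invariant Sylow subgroup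
  have hinv : ∀ q : ℕ, ∀ _ : Fact q.Prime, q ≠ p → ∃ Q : Sylow q G, (P : Subgroup G) ≤ normalizer ((Q : Subgroup G) : Set G) := by
    intro q _ hqp
    obtain ⟨Q⟩ := (inferInstance : Nonempty (Sylow q G))
    have hQN : (Q : Subgroup G) ≤ N := fun x hx => by
      obtain ⟨k, hk⟩ := Q.isPGroup' ⟨x, hx⟩
      exact CfsgLib.mem_pPrimeCore_of_hasNormalPComplement hcompl
        ((Nat.Coprime.pow_left k ((Nat.coprime_primes (Fact.out : q.Prime) hp.out).mpr hqp)).coprime_dvd_left
          (orderOf_dvd_of_pow_eq_one (congrArg Subtype.val hk)))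
    have hF : normalizer ((Q : Subgroup G) : Set G) ⊔ N = ⊤ := Sylow.normalizer_sup_eq_top' Q hQN
    have hd : p ∣ Nat.card (normalizer ((Q : Subgroup G) : Set G)) := by
      by_contra hnd
      have h1 : Nat.card ↥(normalizer ((Q : Subgroup G) : Set G) ⊔ N) ∣
          Nat.card (normalizer ((Q : Subgroup G) : Set G)) * Nat.card N := by
        exact CfsgLib.card_sup_dvd_mul _ N
      rw [hF, Subgroup.card_top] at h1
      rcases hp.out.dvd_mul.mp (hpG.trans h1) with h2 | h2
      · exact hnd h2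
      · exact hp.out.ne_one (Nat.eq_one_of_dvd_coprimes hNc h2 dvd_rfl)
    obtain ⟨x, hx⟩ := exists_prime_orderOf_dvd_card' p hd
    obtain ⟨P', hP'⟩ := (IsPGroup.of_card (G := zpowers (x : G)) (n := 1)
      (by rw [Nat.card_zpowers, Subgroup.orderOf_coe, hx, pow_one])).exists_le_sylow
    have hP'eq : zpowers (x : G) = (P' : Subgroup G) := eq_of_le_of_card_ge hP'
      ((P'.card_eq_multiplicity.trans (P.card_eq_multiplicity.symm.trans hPcard)).le.trans
        (le_of_eq ((Nat.card_zpowers _).trans ((Subgroup.orderOf_coe x).trans hx)).symm))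
    obtain ⟨g, rfl⟩ := MulAction.exists_smul_eq G P P'
    refine ⟨g⁻¹ • Q, fun y hy => ?_⟩
    have h1 : g * y * g⁻¹ ∈ normalizer ((Q : Subgroup G) : Set G) :=
      zpowers_le.mpr x.2 (hP'eq.ge ⟨y, hy, rfl⟩)
    rw [mem_normalizer_iff] at h1 ⊢
    intro w
    simp only [Sylow.smul_def, Sylow.pointwise_smul_def, mem_pointwise_smul_iff_inv_smul_mem, MulAut.smul_def,
      ← map_inv, MulAut.conj_apply, inv_inv]
    have h2 := h1 (g * w * g⁻¹)
    simpa [mul_assoc] using h2
  by_cases hex : ∃ (q : ℕ) (_ : Fact q.Prime), q ≠ p ∧ ∃ Q : Sylow q G,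
      (P : Subgroup G) ≤ normalizer ((Q : Subgroup G) : Set G) ∧ (Q : Subgroup G) ⊔ (P : Subgroup G) = ⊤
  · obtain ⟨q, _, hqp, Q, hPQ, htop⟩ := hex
    refine ⟨hG, fun H hH => ?_⟩
    by_cases hd : p ∣ Nat.card H
    · exact hsmall H hH hd
    have hQn : (Q : Subgroup G).Normal := normalizer_eq_top_iff.mp (top_le_iff.mp (htop ▸ sup_le le_normalizer hPQ))
    obtain ⟨k, hk⟩ := Q.isPGroup'.exists_card_eq
    have h1 : Nat.card H ∣ Nat.card (Q : Subgroup G) := by
      refine ((Nat.Prime.coprime_iff_not_dvd hp.out).mpr hd).symm.dvd_of_dvd_mul_right ?_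
      have := CfsgLib.card_sup_dvd_mul (P : Subgroup G) (Q : Subgroup G)
      rw [sup_comm, htop, Subgroup.card_top, hPcard, mul_comm] at this
      exact (card_subgroup_dvd_card H).trans this
    obtain ⟨i, -, hi⟩ := (Nat.dvd_prime_pow (Fact.out : q.Prime)).mp (hk ▸ h1)
    exact (IsPGroup.of_card hi).isNilpotent
  exfalso
  push Not at hex
  apply hPn
  -- otherwise `P` is central
  have hC : centralizer ((P : Subgroup G) : Set G) = ⊤ := by
    refine card_eq_iff_eq_top _ |>.mp (Nat.dvd_antisymm (card_subgroup_dvd_card _) ?_)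
    refine (Nat.factorization_le_iff_dvd (Nat.card_pos (α := G)).ne' Nat.card_pos.ne').mp fun q => ?_
    by_cases hqz : (Nat.card G).factorization q = 0
    · rw [hqz]; exact Nat.zero_le _
    · have : Fact q.Prime := ⟨Nat.prime_of_mem_primeFactors (Finsupp.mem_support_iff.mpr hqz)⟩
      refine (this.out.pow_dvd_iff_le_factorization Nat.card_pos.ne').mp ?_
      by_cases hqp : q = p
      · subst hqp
        rw [show q ^ (Nat.card G).factorization q = Nat.card (P : Subgroup G) from P.card_eq_multiplicity.symm]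
        have : IsCyclic (P : Subgroup G) := isCyclic_of_prime_card hPcard
        refine card_dvd_of_le fun x hx => mem_centralizer_iff.mpr fun y hy => ?_
        exact congrArg Subtype.val (IsCyclic.commGroup.mul_comm (⟨y, hy⟩ : (P : Subgroup G)) ⟨x, hx⟩)
      · obtain ⟨Q, hQ⟩ := hinv q this hqp
        rw [show q ^ (Nat.card G).factorization q = Nat.card (Q : Subgroup G) from Q.card_eq_multiplicity.symm]
        refine card_dvd_of_le fun x hx => mem_centralizer_iff.mpr fun y hy => ?_
        refine hcomm _ (hex q this hqp Q hQ) ((P.dvd_card_of_dvd_card hpG).trans (card_dvd_of_le le_sup_right))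
          y (mem_sup_right hy) x (mem_sup_left hx) ?_
        obtain ⟨k, hk⟩ := P.isPGroup' ⟨y, hy⟩
        obtain ⟨l, hl⟩ := Q.isPGroup' ⟨x, hx⟩
        exact (Nat.Coprime.pow k l ((Nat.coprime_primes hp.out this.out).mpr (Ne.symm hqp))).of_dvd
          (orderOf_dvd_of_pow_eq_one (congrArg Subtype.val hk)) (orderOf_dvd_of_pow_eq_one (congrArg Subtype.val hl))
  refine ⟨fun x hx g => ?_⟩
  have hg : g ∈ centralizer ((P : Subgroup G) : Set G) := hC ▸ mem_top g
  rw [← mem_centralizer_iff.mp hg x hx, mul_inv_cancel_right]; exact hx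

open Subgroup in
/-- the converse for `Z × K` -/
private theorem backward {G : Type*} [Group G] [Finite G] {p : ℕ} [hp : Fact p.Prime] {Z K : Subgroup G}
    (hZ : Z.Normal) (hK : K.Normal) (hi : Z ⊓ K = ⊥) (hs : Z ⊔ K = ⊤) (hZc : Nat.card Z = p)
    (hKm : Cfsg.IsMinimalNonNilpotent K) (hKp : ¬ p ∣ Nat.card K) (M : Subgroup G) (hM : IsCoatom M)
    (hd : p ∣ Nat.card M) : Group.IsNilpotent M := by
  have := hK; have := hZ
  have hmem : ∀ x : G, orderOf x = p → x ∈ Z := by
    intro x hx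
    have h1 : (x : G ⧸ Z) = 1 := by
      refine orderOf_eq_one_iff.mp (Nat.eq_one_of_dvd_coprimes ((Nat.Prime.coprime_iff_not_dvd hp.out).mpr hKp)
        (hx ▸ orderOf_map_dvd (QuotientGroup.mk' Z) x) ((_root_.orderOf_dvd_natCard _).trans (dvd_of_eq ?_)))
      rw [← index_eq_card]
      exact (IsComplement'.index_eq_card (isComplement'_of_disjoint_and_mul_eq_univ (disjoint_iff.mpr hi)
        (by rw [← Subgroup.normal_mul, hs, coe_top])).symm)
    exact (QuotientGroup.eq_one_iff x).mp h1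
  obtain ⟨x, hx⟩ := exists_prime_orderOf_dvd_card' p hd
  have hxZ := hmem x (by rw [Subgroup.orderOf_coe, hx])
  have hZM : Z ≤ M := by
    have e : zpowers (x : G) = Z := eq_of_le_of_card_ge (zpowers_le.mpr hxZ) (by
      rw [Nat.card_zpowers, Subgroup.orderOf_coe, hx, hZc])
    rw [← e]; exact zpowers_le.mpr x.2
  have hne : (M ⊓ K).subgroupOf K ≠ ⊤ := fun e =>
    hM.1 (top_le_iff.mp (hs ▸ sup_le hZM ((subgroupOf_eq_top.mp e).trans inf_le_left)))
  have hn : Group.IsNilpotent ↥(M ⊓ K) := (Group.isNilpotent_congr (subgroupOfEquivOfLe inf_le_right)).mp (hKm.2 _ hne)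
  have hcomm : ∀ a ∈ Z, ∀ b ∈ K, a * b = b * a := fun a ha b hb =>
    commute_of_normal_of_disjoint Z K hZ hK (disjoint_iff.mpr hi) a b ha hb
  let f : Z × ↥(M ⊓ K) →* M :=
    MonoidHom.mk' (fun u => ⟨(u.1 : G) * u.2, M.mul_mem (hZM u.1.2) u.2.2.1⟩) fun u v => Subtype.ext (by
      show (u.1 : G) * v.1 * (u.2 * v.2) = u.1 * u.2 * (v.1 * v.2)
      rw [mul_assoc, ← mul_assoc (v.1 : G), hcomm _ v.1.2 _ u.2.2.2]; group)
  have : IsCyclic Z := isCyclic_of_prime_card hZc
  haveI : Group.IsNilpotent Z := by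
    letI := IsCyclic.commGroup (α := Z)
    infer_instance
  refine Group.nilpotent_of_surjective f fun m => ?_
  obtain ⟨a, ha, b, hb, hab⟩ := mem_sup_of_normal_left.mp (hs ▸ mem_top (m : G))
  exact ⟨(⟨a, ha⟩, ⟨b, (show b ∈ M by simpa [← hab] using M.mul_mem (M.inv_mem (hZM ha)) m.2), hb⟩), Subtype.ext hab⟩

/-- Let G be a finite group and p a prime dividing its order. Every maximal subgroup of G of order divisible by p is nilpotent if and only if G is nilpotent, or G is a minimal non-nilpotent group, or G is the internal direct product of a normal subgroup of order p and a normal minimal non-nilpotent subgroup of order prime to p. -/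
theorem result {G : Type*} [Group G] [Finite G] (p : ℕ) (hp : p.Prime) (hpG : p ∣ Nat.card G) :
    (∀ M : Subgroup G, IsCoatom M → p ∣ Nat.card M → Group.IsNilpotent M) ↔
      (Group.IsNilpotent G ∨ Cfsg.IsMinimalNonNilpotent G ∨
        ∃ Z K : Subgroup G, Z.Normal ∧ K.Normal ∧ Z ⊓ K = ⊥ ∧ Z ⊔ K = ⊤ ∧ Nat.card Z = p ∧
          Cfsg.IsMinimalNonNilpotent K ∧ ¬ p ∣ Nat.card K) := by
  have : Fact p.Prime := ⟨hp⟩
  constructor
  · intro h
    by_cases hG : Group.IsNilpotent G
    · exact Or.inl hG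
    · exact Or.inr (forward hpG h hG)
  · rintro (hG | hG | ⟨Z, K, hZ, hK, hi, hs, hZc, hKm, hKp⟩) M hM hd
    · infer_instance
    · exact hG.2 M hM.1
    · exact backward hZ hK hi hs hZc hKm hKp M hM hd

end Cfsg.Agent.S4242
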