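import Cfsg.Statements.S4248
import Cfsg.Agent.Lib.Partition.Socle
import Cfsg.Agent.Lib.Partition.SimpleCase
import Cfsg.Agent.Lib.Partition.AlmostPSL
import Cfsg.Agent.Lib.Partition.AlmostSuzuki

set_option autoImplicit false
open Cfsg

namespace Cfsg.Agent.S4248

/-- Let G be a finite group admitting a nontrivial partition: a family of at least two nontrivial subgroups such that every non-identity element of G lies in exactly one member. Then G is isomorphic to the symmetric group of degree 4; or, for some prime p, the Hughes subgroup generated by the elements g with g^p ≠ 1 is proper (G a p-group or a group of Hughes–Thompson type); or G is a Frobenius group; or G is isomorphic to PSL(2, q) with q ≥ 4, to PGL(2, q) with q ≥ 5 odd, or to a Suzuki group. -/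
theorem result {G : Type*} [Group G] [Finite G] (S : Set (Subgroup G)) (hS2 : ∃ H ∈ S, ∃ K ∈ S, H ≠ K)
    (hS1 : ∀ H ∈ S, H ≠ ⊥) (hpart : ∀ g : G, g ≠ 1 → ∃! H : Subgroup G, H ∈ S ∧ g ∈ H) :
    Nonempty (G ≃* Equiv.Perm (Fin 4)) ∨
    (∃ p : ℕ, p.Prime ∧ Subgroup.closure {g : G | g ^ p ≠ 1} ≠ ⊤) ∨
    (∃ H : Subgroup G, Cfsg.IsFrobeniusComplement H) ∨
    (∃ (F : Type) (_ : Field F) (_ : Fintype F), 4 ≤ Fintype.card F ∧
        Nonempty (G ≃* Matrix.ProjectiveSpecialLinearGroup (Fin 2) F)) ∨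
    (∃ (F : Type) (_ : Field F) (_ : Fintype F), 5 ≤ Fintype.card F ∧ Odd (Fintype.card F) ∧
        Nonempty (G ≃* (GL (Fin 2) F ⧸ Subgroup.center (GL (Fin 2) F)))) ∨
    Cfsg.Lie.IsoSuzuki G := by
  obtain ⟨P⟩ := CfsgLib.Partition.exists_part S hS2 hS1 hpart
  haveI : Nontrivial G := by
    obtain ⟨H, hH, -, -, -⟩ := hS2
    obtain ⟨x, -, hx⟩ := H.bot_or_exists_ne_one.resolve_left (hS1 H hH)
    exact nontrivial_of_ne x 1 hx
  by_cases hH : ∃ p : ℕ, p.Prime ∧ Subgroup.closure {g : G | g ^ p ≠ 1} ≠ ⊤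
  · exact Or.inr (Or.inl hH)
  by_cases hF : ∃ H : Subgroup G, Cfsg.IsFrobeniusComplement H
  · exact Or.inr (Or.inr (Or.inl hF))
  push Not at hH hF
  by_cases hN : ∃ N : Subgroup G, N.Normal ∧ Group.IsSolvable N ∧ N ≠ ⊥
  · obtain ⟨N, hNn, hNs, hN0⟩ := hN
    exact Or.inl (CfsgLib.Partition.solvable_case P hF hH N hN0 hNs)
  push Not at hN
  obtain ⟨T, hTn, hTs, hna, hC, hT⟩ :=
    CfsgLib.Partition.exists_socle P hF (fun N hn hs => hN N hn hs)
  have hnil : ∀ a : G, a ≠ 1 → Group.IsNilpotent (P.comp a) := fun a ha => P.nilpotent hF ha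
  rcases CfsgLib.Partition.simple_case (P.restrict T hT) hna with ⟨F, iF, iFt, hF4, ⟨e⟩⟩ | hSz
  · rcases CfsgLib.Partition.almost_psl P hnil T hF4 e hC with h | h
    · exact Or.inr (Or.inr (Or.inr (Or.inl h)))
    · exact Or.inr (Or.inr (Or.inr (Or.inr (Or.inl h))))
  · exact Or.inr (Or.inr (Or.inr (Or.inr (Or.inr (CfsgLib.Partition.almost_suzuki P hnil T hSz hC)))))

end Cfsg.Agent.S4248
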