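import Cfsg.Statements.S4249
import Mathlib
import Cfsg.Agent.Lib.Frobenius.Splitting
import Cfsg.Agent.Lib.CoprimeGen
-- import your own Cfsg.Agent.* helpers here

set_option autoImplicit false
open Cfsg

namespace Cfsg.Agent.S4249

/-- Let G be a finite group and p a prime such that G is not a p-group, and suppose the Hughes subgroup H_p(G), generated by all elements g with g^p ≠ 1, is a proper subgroup. Then H_p(G) is nilpotent and has index p in G. -/
theorem result {G : Type*} [Group G] [Finite G] (p : ℕ) (hp : p.Prime) (hG : ¬ IsPGroup p G)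
    (hH : Subgroup.closure {g : G | g ^ p ≠ 1} ≠ ⊤) :
    Group.IsNilpotent (Subgroup.closure {g : G | g ^ p ≠ 1}) ∧ (Subgroup.closure {g : G | g ^ p ≠ 1}).index = p := by
  have := Fact.mk hp
  set T : Set G := {g : G | g ^ p ≠ 1} with hT
  set H := Subgroup.closure T with hHdef
  have hout : ∀ g, g ∉ H → g ^ p = 1 := fun g hg => by
    by_contra h
    exact hg (Subgroup.subset_closure h)
  have hHn : H.Normal := by
    refine ⟨fun x hx g => ?_⟩
    have hle : H ≤ H.comap (MulAut.conj g).toMonoidHom := by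
      rw [hHdef, Subgroup.closure_le]
      intro t ht
      refine Subgroup.subset_closure (show ((MulAut.conj g) t) ^ p ≠ 1 from fun he => ht ?_)
      rwa [← map_pow, map_eq_one_iff _ (MulAut.conj g).injective] at he
    exact hle hx
  refine ⟨CfsgLib.Frob.isNilpotent_of_pow_eq_one_outside hp H hH hout, ?_⟩
  obtain ⟨q, hq, hqp, hqG⟩ : ∃ q, q.Prime ∧ q ≠ p ∧ q ∣ Nat.card G := by
    by_contra hc
    push Not at hc
    refine hG (IsPGroup.of_card (n := (Nat.card G).primeFactorsList.length)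
      (Nat.eq_prime_pow_of_unique_prime_dvd Nat.card_pos.ne' fun {d} hd hdvd => ?_))
    by_contra hne
    exact hc d hd hne hdvd
  have := Fact.mk hq
  obtain ⟨Q⟩ : Nonempty (Sylow q G) := inferInstance
  have hqel : ∀ g ∈ (Q : Subgroup G), g ^ p = 1 → g = 1 := fun g hg he => by
    obtain ⟨k, hk⟩ := IsPGroup.iff_orderOf.mp Q.isPGroup' ⟨g, hg⟩
    rw [Subgroup.orderOf_mk] at hk
    have h1 : (p : ℕ).Coprime (q ^ k) := ((Nat.coprime_primes hp hq).mpr hqp.symm).pow_right k
    have h2 : orderOf g ∣ 1 := h1 ▸ Nat.dvd_gcd (orderOf_dvd_of_pow_eq_one he) (hk ▸ dvd_rfl)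
    exact orderOf_eq_one_iff.mp (Nat.dvd_one.mp h2)
  have hQH : (Q : Subgroup G) ≤ H := fun g hg => by
    by_contra hgH
    exact hgH (hqel g hg (hout g hgH) ▸ H.one_mem)
  have hFr := Sylow.normalizer_sup_eq_top' Q hQH
  set N := Subgroup.normalizer ((Q : Subgroup G) : Set G) with hN
  -- the quotient is a `p`-group, so a Sylow subgroup of `N` covers it
  obtain ⟨X'⟩ : Nonempty (Sylow p N) := inferInstance
  set X := (X' : Subgroup N).map N.subtype with hX
  have hXp : IsPGroup p X := X'.isPGroup'.map _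
  have hXN : X ≤ N := Subgroup.map_subtype_le _
  have hGH : IsPGroup p (G ⧸ H) := fun y => by
    obtain ⟨g, rfl⟩ := QuotientGroup.mk'_surjective H y
    refine ⟨1, ?_⟩
    rw [pow_one, ← map_pow]
    by_cases hg : g ∈ H
    · exact (QuotientGroup.eq_one_iff _).mpr (H.pow_mem hg p)
    · rw [hout g hg, map_one]
  have hcov : X.map (QuotientGroup.mk' H) = ⊤ := by
    have hsurj : Function.Surjective ((QuotientGroup.mk' H).comp N.subtype) := by
      intro y
      obtain ⟨g, rfl⟩ := QuotientGroup.mk'_surjective H y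
      obtain ⟨n, hn, h, hh, rfl⟩ := Subgroup.mem_sup_of_normal_right.mp (hFr.ge (Subgroup.mem_top g))
      refine ⟨⟨n, hn⟩, ?_⟩
      show QuotientGroup.mk' H n = _
      rw [map_mul, (QuotientGroup.eq_one_iff h).mpr hh |> fun e => show QuotientGroup.mk' H h = 1 from e, mul_one]
    have hS := ((X'.mapSurjective hsurj).is_maximal' (hGH.to_subgroup ⊤) le_top).symm
    rw [Sylow.coe_mapSurjective, ← Subgroup.map_map] at hS
    exact hS
  -- the image is `X / (X ∩ H)`
  have hidx : (H.subgroupOf X).index = H.index := by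
    have h1 : ((QuotientGroup.mk' H).comp X.subtype).ker = H.subgroupOf X := by
      rw [← MonoidHom.comap_ker, QuotientGroup.ker_mk']; rfl
    rw [← h1, Subgroup.index_ker, MonoidHom.range_comp, Subgroup.range_subtype, hcov,
      Subgroup.card_top, Subgroup.index_eq_card]
  have hne1 : H.index ≠ 1 := fun e => hH (Subgroup.index_eq_one.mp e)
  by_contra hcon
  have hlt : H.subgroupOf X ≠ ⊤ := fun e => hne1 (by rw [← hidx, e, Subgroup.index_top])
  obtain ⟨Y, hY, hXY⟩ := (eq_top_or_exists_le_coatom (H.subgroupOf X)).resolve_left hlt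
  obtain ⟨hYn, hYi⟩ := CfsgLib.index_coatom_pGroup hXp hY
  obtain ⟨y, hyY, hyH⟩ : ∃ y ∈ Y, y ∉ H.subgroupOf X := SetLike.exists_of_lt
    (lt_of_le_of_ne hXY fun e => hcon (by rw [← hidx, e, hYi]))
  obtain ⟨x, -, hxY⟩ := SetLike.exists_of_lt (lt_top_iff_ne_top.mpr hY.1)
  set Z := (Subgroup.center (Q : Subgroup G)).map (Q : Subgroup G).subtype with hZ
  have hZQ : Z ≤ (Q : Subgroup G) := Subgroup.map_subtype_le _
  have hZne : Z ≠ ⊥ := by
    rw [hZ, Ne, Subgroup.map_eq_bot_iff_of_injective _ (Q : Subgroup G).subtype_injective]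
    have : Nontrivial (Q : Subgroup G) := (Subgroup.nontrivial_iff_ne_bot _).mpr (Q.ne_bot_of_dvd_card hqG)
    exact ((Subgroup.nontrivial_iff_ne_bot _).mp Q.isPGroup'.center_nontrivial)
  have hNZ : N ≤ Subgroup.normalizer (Z : Set G) :=
    (CfsgLib.le_normalizer_map_characteristic (A := N) le_rfl (Subgroup.center (Q : Subgroup G))).1
  haveI : IsMulCommutative Z := ⟨⟨fun a b => by
    obtain ⟨a', ha', ea⟩ := a.2
    obtain ⟨b', hb', eb⟩ := b.2
    apply Subtype.ext
    show (a : G) * b = b * a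
    rw [← ea, ← eb, ← map_mul, ← map_mul, Subgroup.mem_center_iff.mp hb' a']⟩⟩
  set Yg := Y.map X.subtype with hYg
  have hYN : Yg ≤ Subgroup.normalizer (Z : Set G) := (Subgroup.map_subtype_le _).trans (hXN.trans hNZ)
  refine hZne (CfsgLib.Frob.eq_one_of_norm hp (S := Yg) (x := x) hYN (hNZ (hXN x.2)) ?_ ?_ ?_ ?_)
  · refine Subgroup.le_normalizer_map X.subtype ⟨x, ?_, rfl⟩
    rw [Subgroup.normalizer_eq_top]
    trivial
  · rintro _ ⟨k, hk, rfl⟩ z hz
    refine hout _ fun h => hxY ?_
    have h1 : ((k * x : X) : G) ∈ H := by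
      simpa [mul_assoc] using H.mul_mem (H.inv_mem (hQH (hZQ hz))) h
    have h2 := Y.mul_mem (Y.inv_mem hk) (hXY (Subgroup.mem_subgroupOf.mpr h1))
    simpa [mul_assoc] using h2
  · exact IsPGroup.coprime_card_of_ne p q hqp.symm Yg Z ((hXp.to_le (Subgroup.map_subtype_le _))) (Q.isPGroup'.to_le hZQ)
  · rw [Subgroup.eq_bot_iff_forall]
    rintro z ⟨hz, hzc⟩
    refine hqel z (hZQ hz) ?_
    have hy' : (y : G) ∈ Yg := ⟨y, hyY, rfl⟩
    have hzy : z * (y : G) ∉ H := fun h => hyH (by
      simpa [mul_assoc, Subgroup.mem_subgroupOf] using H.mul_mem (H.inv_mem (hQH (hZQ hz))) h)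
    have h1 := hout _ hzy
    rw [(show Commute z (y : G) from (Subgroup.mem_centralizer_iff.mp hzc _ hy').symm).mul_pow,
      hout (y : G) (fun h => hyH (Subgroup.mem_subgroupOf.mpr h)), mul_one] at h1
    exact h1

end Cfsg.Agent.S4249
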