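import Cfsg.Statements.S4251
import Mathlib
import Cfsg.Agent.Lib.StrongFusion.Family
import Cfsg.Agent.Lib.Transfer
-- import your own Cfsg.Agent.* helpers here

set_option autoImplicit false
open Cfsg

namespace Cfsg.Agent.S4251

/-- Let P be a Sylow p-subgroup of a finite group G. Call an intersection H = P ∩ Q with a Sylow p-subgroup Q tame when N_P(H) and N_Q(H) are Sylow p-subgroups of N_G(H). If N_G(H)/C_G(H) is a p-group for every nontrivial tame intersection H = P ∩ Q, then G has a normal p-complement. -/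
theorem result {G : Type*} [Group G] [Finite G] (p : ℕ) [Fact p.Prime] (P : Sylow p G)
    (h : ∀ Q : Sylow p G, (P : Subgroup G) ⊓ (Q : Subgroup G) ≠ ⊥ → (¬ p ∣ ((P : Subgroup G) ⊓ Subgroup.normalizer (((P : Subgroup G) ⊓ (Q : Subgroup G) : Subgroup G) : Set G)).relIndex (Subgroup.normalizer (((P : Subgroup G) ⊓ (Q : Subgroup G) : Subgroup G) : Set G)) ∧ ¬ p ∣ ((Q : Subgroup G) ⊓ Subgroup.normalizer (((P : Subgroup G) ⊓ (Q : Subgroup G) : Subgroup G) : Set G)).relIndex (Subgroup.normalizer (((P : Subgroup G) ⊓ (Q : Subgroup G) : Subgroup G) : Set G))) →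
      IsPGroup p (Subgroup.normalizer (((P : Subgroup G) ⊓ (Q : Subgroup G) : Subgroup G) : Set G) ⧸
        (Subgroup.centralizer (((P : Subgroup G) ⊓ (Q : Subgroup G) : Subgroup G) : Set G)).subgroupOf
          (Subgroup.normalizer (((P : Subgroup G) ⊓ (Q : Subgroup G) : Subgroup G) : Set G)))) :
    Cfsg.HasNormalPComplement p G := by
  classical
  apply CfsgLib.Transfer.hasNormalPComplement_of_control P
  intro a ha u hu
  rcases eq_or_ne a 1 with rfl | ha1
  · exact ⟨1, one_mem _, by simp⟩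
  obtain ⟨k, T, x, hprod, hstep, hin⟩ := CfsgLib.StrongFusion.exists_list_tame (g := u⁻¹) P
    (A := {a}) (by rintro _ rfl; exact ha) (by
      rintro _ ⟨_, rfl, rfl⟩
      show u⁻¹⁻¹ * _ * u⁻¹ ∈ (P : Subgroup G)
      rwa [inv_inv])
  let pre : ℕ → G := fun i => ((List.ofFn x).take i).prod
  have key : ∀ i, i ≤ k → ∃ c ∈ (P : Subgroup G), c * a * c⁻¹ = (pre i)⁻¹ * a * pre i := by
    intro i
    induction i with
    | zero => intro _; exact ⟨1, one_mem _, by simp [pre]⟩
    | succ i ih =>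
      intro hi
      obtain ⟨c, hc, hca⟩ := ih (by omega)
      have hpre : pre (i + 1) = pre i * x ⟨i, hi⟩ := by
        show ((List.ofFn x).take (i + 1)).prod = _
        rw [List.prod_take_succ _ i (by simpa using hi), List.getElem_ofFn]
      set y := x ⟨i, hi⟩
      set b := (pre i)⁻¹ * a * pre i with hb
      have hbT : b ∈ T ⟨i, hi⟩ := hin ⟨i, hi⟩ ⟨a, rfl, rfl⟩
      obtain ⟨hyN, hfP, Q, hPQ, hfQ, -⟩ := hstep ⟨i, hi⟩
      rw [← hPQ] at hyN hbT hfP hfQ
      set H := (P : Subgroup G) ⊓ (Q : Subgroup G)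
      set N := Subgroup.normalizer (H : Set G)
      set C := (Subgroup.centralizer (H : Set G)).subgroupOf N
      have hH : H ≠ ⊥ := fun e => by
        rw [e, Subgroup.mem_bot, hb] at hbT
        exact ha1 (conj_eq_one_iff.mp (show (pre i)⁻¹ * a * (pre i)⁻¹⁻¹ = 1 by rwa [inv_inv]))
      have hp : IsPGroup p (N ⧸ C) := h Q hH ⟨hfP, hfQ⟩
      set S := ((P : Subgroup G) ⊓ N).subgroupOf N
      -- `S` covers the quotient
      have hmap : S.map (QuotientGroup.mk' C) = ⊤ := by
        rw [← Subgroup.index_eq_one]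
        obtain ⟨j, hj⟩ := hp.exists_card_eq
        refine Nat.eq_one_of_dvd_coprimes (Nat.Coprime.pow_right j
          ((Nat.Prime.coprime_iff_not_dvd Fact.out).mpr (show ¬ p ∣ S.index from hfP)).symm)
          (Subgroup.index_map_dvd S (QuotientGroup.mk'_surjective C)) ?_
        rw [← hj]; exact Subgroup.index_dvd_card _
      obtain ⟨s, hs, hsy⟩ : QuotientGroup.mk' C ⟨y, hyN⟩ ∈ S.map (QuotientGroup.mk' C) := hmap ▸ Subgroup.mem_top _
      have hsy' : ((s : N) : N ⧸ C) = ((⟨y, hyN⟩ : N) : N ⧸ C) := hsy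
      have hyc : (s : G)⁻¹ * y ∈ Subgroup.centralizer (H : Set G) := Subgroup.mem_subgroupOf.mp ((QuotientGroup.eq (s := C) (a := (s : N)) (b := (⟨y, hyN⟩ : N))).mp hsy')
      refine ⟨(s : G)⁻¹ * c, mul_mem (inv_mem (Subgroup.mem_subgroupOf.mp hs).1) hc, ?_⟩
      have h1 : y⁻¹ * b * y = (s : G)⁻¹ * b * s := by
        have e : (((s : G)⁻¹ * y))⁻¹ * ((s : G)⁻¹ * b * s) * ((s : G)⁻¹ * y) = (s : G)⁻¹ * b * s := by
          have hm : (s : G)⁻¹ * b * s ∈ H := by
            simpa using (Subgroup.mem_normalizer_iff.mp (inv_mem s.2) b).mp hbT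
          rw [mul_assoc, Subgroup.mem_centralizer_iff.mp hyc _ hm, inv_mul_cancel_left]
        rw [← e]; group
      rw [hpre, show (pre i * y)⁻¹ * a * (pre i * y) = y⁻¹ * b * y by rw [hb]; group, h1, ← hca]
      group
  obtain ⟨c, hc, hca⟩ := key k le_rfl
  refine ⟨c, hc, ?_⟩
  have h2 : pre k = u⁻¹ := by
    show ((List.ofFn x).take k).prod = _
    rw [List.take_of_length_le (by simp), hprod]
  rw [hca, h2, inv_inv]

end Cfsg.Agent.S4251
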