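import Cfsg.Statements.S4252
import Mathlib
-- import your own Cfsg.Agent.* helpers here

set_option autoImplicit false
open Cfsg

namespace Cfsg.Agent.S4252

open scoped Pointwise

/-- Let a finite group G act on a finite set Ω with more than one point, transitively but not regularly, so that no non-identity element of G fixes two distinct points. Then the stabilizer H of any point is a Frobenius complement in G (nontrivial, proper, meeting its other conjugates trivially), and the Frobenius kernel of G with respect to H (the identity together with the elements lying in no conjugate of H) is exactly the set consisting of the identity and the elements fixing no point. -/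
theorem result {G Ω : Type*} [Group G] [Finite G] [Fintype Ω] [MulAction G Ω] (hΩ : 1 < Fintype.card Ω)
    (htrans : ∀ α β : Ω, ∃ g : G, g • α = β) (hnreg : ∃ g : G, g ≠ 1 ∧ ∃ α : Ω, g • α = α)
    (hfix : ∀ g : G, g ≠ 1 → ∀ α β : Ω, g • α = α → g • β = β → α = β) (α : Ω) :
    Cfsg.IsFrobeniusComplement (MulAction.stabilizer G α) ∧
      Cfsg.frobeniusKernel (MulAction.stabilizer G α) = {g : G | g = 1 ∨ ∀ ω : Ω, g • ω ≠ ω} := by
  have hmem : ∀ g x : G, x ∈ MulAut.conj g • MulAction.stabilizer G α ↔ x • (g • α) = g • α := fun g x => by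
    rw [Subgroup.mem_pointwise_smul_iff_inv_smul_mem, ← map_inv, MulAut.smul_def, MulAut.conj_apply, inv_inv,
      MulAction.mem_stabilizer_iff, mul_smul, mul_smul, inv_smul_eq_iff]
  refine ⟨⟨?_, ?_, fun g hg => ?_⟩, ?_⟩
  · obtain ⟨g, hg1, β, hβ⟩ := hnreg
    obtain ⟨c, rfl⟩ := htrans α β
    intro hbot
    have h1 : c⁻¹ * g * c ∈ MulAction.stabilizer G α := by
      rw [MulAction.mem_stabilizer_iff, mul_smul, mul_smul, inv_smul_eq_iff]
      exact hβ
    rw [hbot, Subgroup.mem_bot] at h1
    exact hg1 (by calc g = c * (c⁻¹ * g * c) * c⁻¹ := by group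
                   _ = 1 := by rw [h1]; group)
  · intro htop
    obtain ⟨β, hβ⟩ := Fintype.exists_ne_of_one_lt_card hΩ α
    obtain ⟨c, hc⟩ := htrans α β
    exact hβ (hc ▸ MulAction.mem_stabilizer_iff.mp (htop ▸ Subgroup.mem_top c))
  · rw [Subgroup.eq_bot_iff_forall]
    intro x hx
    rw [Subgroup.mem_inf, MulAction.mem_stabilizer_iff, hmem] at hx
    by_contra hx1
    exact hg (MulAction.mem_stabilizer_iff.mpr (hfix x hx1 _ _ hx.1 hx.2).symm)
  · ext x
    simp only [Cfsg.frobeniusKernel, Set.mem_setOf_eq, hmem]
    refine or_congr Iff.rfl ⟨fun h ω => ?_, fun h g => h _⟩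
    obtain ⟨c, rfl⟩ := htrans α ω
    exact h c

end Cfsg.Agent.S4252
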