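import Cfsg.Statements.S4253
-- import your own Cfsg.Agent.* helpers here

set_option autoImplicit false
open Cfsg

namespace Cfsg.Agent.S4253

open scoped Pointwise

/-- Let H be a Frobenius complement in a finite group G (a nontrivial proper subgroup meeting each conjugate gHg⁻¹ with g outside H trivially). Then in the action of G on the left cosets of H by left multiplication, no non-identity element of G fixes two distinct cosets. -/
theorem result {G : Type*} [Group G] [Finite G] (H : Subgroup G) (hH : Cfsg.IsFrobeniusComplement H)
    (g : G) (hg : g ≠ 1) (a b : G ⧸ H) (ha : g • a = a) (hb : g • b = b) : a = b := by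
  induction a using QuotientGroup.induction_on with
  | H x =>
    induction b using QuotientGroup.induction_on with
    | H y =>
      have h1 : x⁻¹ * g * x ∈ H := by
        have := QuotientGroup.eq.mp ha.symm
        simpa [mul_assoc] using this
      have h2 : y⁻¹ * g * y ∈ H := by
        have := QuotientGroup.eq.mp hb.symm
        simpa [mul_assoc] using this
      rw [QuotientGroup.eq]
      by_contra hne
      have hbot := hH.2.2 (x⁻¹ * y) hne
      have hmem : x⁻¹ * g * x ∈ H ⊓ (MulAut.conj (x⁻¹ * y) • H) := by
        refine Subgroup.mem_inf.mpr ⟨h1, ?_⟩
        rw [Subgroup.mem_pointwise_smul_iff_inv_smul_mem, ← map_inv, MulAut.smul_def,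
          MulAut.conj_apply]
        convert h2 using 1
        group
      rw [hbot, Subgroup.mem_bot] at hmem
      apply hg
      calc g = x * (x⁻¹ * g * x) * x⁻¹ := by group
        _ = 1 := by rw [hmem]; group

end Cfsg.Agent.S4253
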