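import Cfsg.Statements.S4255
import Mathlib
import Cfsg.Agent.Lib.CoprimeClassSizesDisc
-- import your own Cfsg.Agent.* helpers here

set_option autoImplicit false
open Cfsg

namespace Cfsg.Agent.S4255

/-- Let G be a finite group. Call a prime a vertex if it divides some conjugacy class size of G, and two distinct vertices adjacent if their product divides some class size. Suppose this graph is disconnected: the vertices split into two nonempty parts with no vertex of one part adjacent to a vertex of the other. Then G/Z(G) is a Frobenius group with abelian Frobenius complement and with a Frobenius kernel all of whose elements commute. -/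
theorem result {G : Type*} [Group G] [Finite G] (S : Set ℕ) (hS : ∃ p ∈ S, (p.Prime ∧ ∃ g : G, p ∣ (Subgroup.centralizer ({g} : Set G)).index)) (hS' : ∃ q ∉ S, (q.Prime ∧ ∃ g : G, q ∣ (Subgroup.centralizer ({g} : Set G)).index))
    (hdisc : ∀ p q : ℕ, (p.Prime ∧ ∃ g : G, p ∣ (Subgroup.centralizer ({g} : Set G)).index) → (q.Prime ∧ ∃ g : G, q ∣ (Subgroup.centralizer ({g} : Set G)).index) → p ∈ S → q ∉ S → ¬ (∃ g : G, p * q ∣ (Subgroup.centralizer ({g} : Set G)).index)) :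
    ∃ H : Subgroup (G ⧸ Subgroup.center G), Cfsg.IsFrobeniusComplement H ∧ IsMulCommutative H ∧
      ∀ x ∈ Cfsg.frobeniusKernel H, ∀ y ∈ Cfsg.frobeniusKernel H, x * y = y * x := by
  classical
  open CfsgLib.CopClass in
  have hsplit : ∀ T : Set ℕ, (∀ z : G, InS T (cs z) ∨ InS Tᶜ (cs z)) →
      (∀ p ∈ T, p.Prime → (∃ g : G, p ∣ cs g) → ∃ g : G, InS T (cs g) ∧ 1 < cs g) := by
    intro T hT p hpT hp ⟨g, hg⟩
    refine ⟨g, (hT g).resolve_right fun h => h p hp hg hpT, ?_⟩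
    exact lt_of_lt_of_le hp.one_lt (Nat.le_of_dvd (cs_pos g) hg)
  open CfsgLib.CopClass in
  have hS1 : ∀ z : G, InS S (cs z) ∨ InS Sᶜ (cs z) := by
    intro z
    by_contra hne
    simp only [not_or, InS, not_forall, Set.mem_compl_iff, not_not] at hne
    obtain ⟨⟨q, hq, hqz, hqS⟩, ⟨p, hp, hpz, hpS⟩⟩ := hne
    exact hdisc p q ⟨hp, z, hpz⟩ ⟨hq, z, hqz⟩ hpS hqS
      ⟨z, ((Nat.coprime_primes hp hq).mpr fun e => hqS (e ▸ hpS)).mul_dvd_of_dvd_of_dvd hpz hqz⟩
  open CfsgLib.CopClass in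
  have main : ∀ (T : Set ℕ) (a b : G), (∀ z : G, InS T (cs z) ∨ InS Tᶜ (cs z)) → InS T (cs a) → 1 < cs a →
      InS Tᶜ (cs b) → (∀ z : G, InS T (cs z) → cs z ≤ cs a) → (∀ z : G, InS Tᶜ (cs z) → cs z ≤ cs b) →
      cs a < cs b →
      ∃ H : Subgroup (G ⧸ Subgroup.center G), Cfsg.IsFrobeniusComplement H ∧ IsMulCommutative H ∧
        ∀ x ∈ Cfsg.frobeniusKernel H, ∀ y ∈ Cfsg.frobeniusKernel H, x * y = y * x := by
    intro T a b hT ha ha1 hb hamax hbmax hab
    have hd : Disc T a b (cs a) (cs b) := ⟨ha1, hab, ha, hb, hT, hamax,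
      fun z => (hT z).elim (fun h => (hamax z h).trans hab.le) (hbmax z), rfl, rfl⟩
    obtain ⟨hA, hB, hF, hK⟩ := hd.toHyp.frobenius
    refine ⟨_, hF, Subgroup.map_isMulCommutative _ _, ?_⟩
    rw [hK]
    rintro _ ⟨p, hp, rfl⟩ _ ⟨q, hq, rfl⟩
    rw [← map_mul, ← map_mul, show p * q = q * p from congrArg Subtype.val (hA.is_comm.comm ⟨p, hp⟩ ⟨q, hq⟩)]
  open CfsgLib.CopClass in
  obtain ⟨p, hpS, hp, hpg⟩ := hS
  open CfsgLib.CopClass in
  obtain ⟨q, hqS, hq, hqg⟩ := hS'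
  open CfsgLib.CopClass in
  have hS2 : ∀ z : G, InS Sᶜ (cs z) ∨ InS Sᶜᶜ (cs z) := fun z => by
    rw [compl_compl]; exact (hS1 z).symm
  open CfsgLib.CopClass in
  obtain ⟨a0, ha0, ha1⟩ := hsplit S hS1 p hpS hp hpg
  open CfsgLib.CopClass in
  obtain ⟨b0, hb0, hb1⟩ := hsplit Sᶜ hS2 q hqS hq hqg
  open CfsgLib.CopClass in
  obtain ⟨a, ha, hamax⟩ := Set.exists_max_image {z : G | InS S (cs z)} (fun z => cs z) (Set.toFinite _) ⟨a0, ha0⟩
  open CfsgLib.CopClass in
  obtain ⟨b, hb, hbmax⟩ := Set.exists_max_image {z : G | InS Sᶜ (cs z)} (fun z => cs z) (Set.toFinite _) ⟨b0, hb0⟩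
  open CfsgLib.CopClass in
  have ha' : 1 < cs a := lt_of_lt_of_le ha1 (hamax a0 ha0)
  open CfsgLib.CopClass in
  have hb' : 1 < cs b := lt_of_lt_of_le hb1 (hbmax b0 hb0)
  rcases lt_trichotomy (CfsgLib.CopClass.cs a) (CfsgLib.CopClass.cs b) with h | h | h
  · exact main S a b hS1 ha ha' hb hamax hbmax h
  · have := CfsgLib.CopClass.InS.coprime ha hb
    rw [h, Nat.coprime_self] at this
    omega
  · refine main Sᶜ b a hS2 hb hb' ?_ hbmax ?_ h
    · rw [compl_compl]; exact ha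
    · rw [compl_compl]; exact hamax

end Cfsg.Agent.S4255
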