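import Cfsg.Statements.S4257
import Mathlib
import Cfsg.Agent.Lib.CoprimeClassSizes
import Cfsg.Agent.Lib.JordanCover
import Cfsg.Agent.Lib.Blocks.Orth
-- import your own Cfsg.Agent.* helpers here

set_option autoImplicit false
open Cfsg

namespace Cfsg.Agent.S4257

namespace Aux

open Subgroup CfsgLib.CopClass

universe u
variable {G : Type u} [Group G] [Finite G]

theorem sylow_le_cz {p : ℕ} [hp : Fact p.Prime] {x : G} (h : ¬ p ∣ cs x) {u : G} (hu : ∃ k, orderOf u = p ^ k)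
    (hux : u ∈ cz x) : ∃ Q : Sylow p G, (Q : Subgroup G) ≤ cz x ∧ u ∈ Q := by
  have hU : IsPGroup p (zpowers (⟨u, hux⟩ : cz x)) := by
    obtain ⟨k, hk⟩ := hu
    exact IsPGroup.of_card (by rw [Nat.card_zpowers, ← Subgroup.orderOf_coe, hk])
  obtain ⟨R, hR⟩ := hU.exists_le_sylow
  have hmap : IsPGroup p ((R : Subgroup (cz x)).map (cz x).subtype) := R.2.map _
  obtain ⟨Q, hQ⟩ := hmap.exists_le_sylow
  have hcard : Nat.card (Q : Subgroup G) ≤ Nat.card ((R : Subgroup (cz x)).map (cz x).subtype) := by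
    rw [Subgroup.card_map_of_injective (cz x).subtype_injective, Sylow.card_eq_multiplicity, Sylow.card_eq_multiplicity,
      ← (cz x).card_mul_index, Nat.factorization_mul Nat.card_pos.ne' index_ne_zero_of_finite, Finsupp.add_apply,
      Nat.factorization_eq_zero_of_not_dvd h, add_zero]
  have he := eq_of_le_of_card_ge hQ hcard
  refine ⟨Q, ?_, ?_⟩
  · rw [← he]; exact Subgroup.map_subtype_le _
  · show u ∈ (Q : Subgroup G)
    rw [← he]; exact ⟨⟨u, hux⟩, hR (mem_zpowers _), rfl⟩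

theorem mem_of_parts {K : Subgroup G} {y w : G} (hc : Commute y w) (hco : (orderOf y).Coprime (orderOf w))
    (h : y * w ∈ K) : y ∈ K := by
  obtain ⟨j, hj⟩ := exists_pow_eq_self_of_coprime hco.symm
  rw [← hj]
  refine pow_mem ?_ j
  have := pow_mem h (orderOf w)
  rwa [hc.mul_pow, pow_orderOf_eq_one, mul_one] at this

/-- Two classes have a common prime or are joined. -/
def Adj (G : Type u) [Group G] (t w : ℕ) : Prop := ∃ g : G, t ∣ cs g ∧ w ∣ cs g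

/-- A walk of length three. -/
def W3 (G : Type u) [Group G] (t w : ℕ) : Prop := ∃ r s : ℕ, r.Prime ∧ s.Prime ∧ Adj G t r ∧ Adj G r s ∧ Adj G s w

theorem core {p r s t v : ℕ} [hp : Fact p.Prime] (hr : r.Prime) (hs : s.Prime) (ht : t.Prime) {a b d : G}
    (hpa : p ∣ cs a) (hra : r ∣ cs a) (hrb : r ∣ cs b) (hsb : s ∣ cs b) (hst : Adj G s t) (hvd : v ∣ cs d) (htd : t ∣ cs d)
    (hno : ¬ W3 G p v) (hN : cs (a * d) = cs d) (hco : (cs a).Coprime (cs d)) : False := by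
  classical
  obtain ⟨-, hdvd⟩ := kk_translate hco hN
  set N := kk a with hNdef
  have hcN : (Nat.card N).Coprime (cs a) := hco.symm.coprime_dvd_left hdvd
  obtain ⟨z, hz, k, hk, hak⟩ := exists_center_mul hcN
  haveI := kk_normal a
  set K := centralizer (N : Set G) with hK
  haveI : K.Normal := Subgroup.normal_centralizer
  have hNE : ∀ x : G, (cs x).Coprime (cs a) ∨ (cs x).Coprime (cs d) := by
    intro x
    by_contra h
    push Not at h
    obtain ⟨w, hw, hwx, hwa⟩ := Nat.Prime.not_coprime_iff_dvd.mp h.1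
    obtain ⟨w', hw', hwx', hwd⟩ := Nat.Prime.not_coprime_iff_dvd.mp h.2
    exact hno ⟨w, w', hw, hw', ⟨a, hpa, hwa⟩, ⟨x, hwx, hwx'⟩, ⟨d, hwd, hvd⟩⟩
  have hKa : K ≤ cz a := by
    intro x hx
    rw [mem_cz, hak, ← mul_assoc, mem_center_iff.mp hz x, mul_assoc, ← hx k hk, mul_assoc]
  have hout : ∀ x : G, x ∉ K → (cs x).Coprime (cs a) := by
    intro x hx
    rcases hNE x with h | h
    · exact h
    · refine absurd (show x ∈ K from fun n hn => mem_cz.mp (le_cz_of_coprime ((h.coprime_dvd_right hdvd).symm) hn)) hx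
  have haK : cz a ≤ K := by
    intro x hx
    by_contra hxK
    have hall : ∀ g : G, Commute x (g * a * g⁻¹) := by
      intro g
      obtain ⟨c, hc, e, he, rfl⟩ := exists_eq_mul (hout x hxK).symm g
      have e1 : e * c * a * (e * c)⁻¹ = e * a * e⁻¹ := by
        calc e * c * a * (e * c)⁻¹ = e * (c * a * c⁻¹) * e⁻¹ := by group
          _ = _ := by rw [mem_cz_iff_conj.mp hc]
      rw [e1]
      have h1 : Commute e x := mem_cz.mp he
      have h2 : Commute x a := mem_cz.mp hx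
      exact (h1.symm.mul_right h2).mul_right h1.symm.inv_right
    have hle : N ≤ cz x := by
      refine (closure_le _).mpr ?_
      rintro _ ⟨g, rfl⟩
      refine mem_cz.mpr ?_
      exact ((show Commute x a from mem_cz.mp hx).inv_right.mul_right (hall g)).eq.symm
    exact hxK fun n hn => mem_cz.mp (hle hn)
  have hbK : b ∈ K := by
    rcases hNE b with h | h
    · exact absurd (Nat.eq_one_of_dvd_coprimes h hrb hra) hr.one_lt.ne'
    · exact fun n hn => mem_cz.mp (le_cz_of_coprime ((h.coprime_dvd_right hdvd).symm) hn)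
  have hpb : ¬ p ∣ cs b := fun h => hno ⟨s, t, hs, ht, ⟨b, h, hsb⟩, hst, ⟨d, htd, hvd⟩⟩
  have hidx : K.index = cs a := by rw [← le_antisymm haK hKa]
  obtain ⟨b₀, b₁, hb01, hbc, hb₀, hb₁, -, -⟩ := CfsgLib.Blocks.exists_pPart hp.out b
  obtain ⟨P, hPb, hb₀P⟩ := sylow_le_cz hpb hb₀ (mem_cz.mpr (by rw [← hb01]; exact ((Commute.refl b₀).mul_right hbc).eq))
  have hPK : ¬ (P : Subgroup G) ≤ K := fun h => P.not_dvd_index ((hidx.symm ▸ hpa : p ∣ K.index).trans (index_dvd_of_le h))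
  obtain ⟨y₀, hy₀, hy₀K⟩ := SetLike.not_le_iff_exists.mp hPK
  have hout' : ∀ x : G, x ∉ K → ¬ p ∣ cs x := fun x hx h =>
    hp.out.one_lt.ne' (Nat.eq_one_of_dvd_coprimes (hout x hx) h hpa)
  obtain ⟨j, hj⟩ := IsPGroup.iff_orderOf.mp P.2 ⟨y₀, hy₀⟩
  rw [Subgroup.orderOf_mk] at hj
  obtain ⟨Q, hQ, -⟩ := sylow_le_cz (hout' y₀ hy₀K) ⟨j, hj⟩ (mem_cz.mpr rfl)
  obtain ⟨g, hg⟩ := MulAction.exists_smul_eq G Q P
  set y := g * y₀ * g⁻¹ with hy
  have hyK : y ∉ K := fun h => hy₀K (by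
    have := (inferInstance : K.Normal).conj_mem _ h g⁻¹
    simpa [hy, mul_assoc] using this)
  have hPy : (P : Subgroup G) ≤ cz y := by
    rw [← hg, Sylow.coe_subgroup_smul]
    rintro _ ⟨c, hc, rfl⟩
    refine mem_cz.mpr ?_
    show g * c * g⁻¹ * (g * y₀ * g⁻¹) = g * y₀ * g⁻¹ * (g * c * g⁻¹)
    calc g * c * g⁻¹ * (g * y₀ * g⁻¹) = g * (c * y₀) * g⁻¹ := by group
      _ = g * (y₀ * c) * g⁻¹ := by rw [mem_cz.mp (hQ hc)]
      _ = _ := by group
  have hyp : ∃ k, orderOf y = p ^ k := ⟨j, by rw [hy, ← hj]; exact (MulAut.conj g).orderOf_eq y₀⟩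
  have hyP : y ∈ (P : Subgroup G) := by
    obtain ⟨k, hk⟩ := hyp
    have hU : IsPGroup p (zpowers y) := IsPGroup.of_card (by rw [Nat.card_zpowers, hk])
    have hPU : IsPGroup p ((P : Subgroup G) ⊔ zpowers y : Subgroup G) :=
      P.2.to_sup_of_normal_right' hU (fun x hx => by
        refine mem_normalizer_iff.mpr fun c => ?_
        have hx' := mem_cz.mp (hPy hx)
        have hfix : ∀ i : ℤ, x * y ^ i * x⁻¹ = y ^ i := fun i =>
          mul_inv_eq_iff_eq_mul.mpr ((show Commute x y from hx').zpow_right i).eq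
        constructor
        · rintro ⟨i, rfl⟩
          exact ⟨i, (hfix i).symm⟩
        · rintro ⟨i, hi⟩
          refine ⟨i, ?_⟩
          have h2 : x * c * x⁻¹ = x * y ^ i * x⁻¹ := by rw [hfix i]; exact hi.symm
          exact (mul_left_cancel (mul_right_cancel h2)).symm)
    have he := P.3 hPU le_sup_left
    show y ∈ (P : Subgroup G)
    rw [← he]
    exact mem_sup_right (mem_zpowers y)
  -- the centraliser of such an element centralises the centre of its Sylow subgroup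
  have hcent : ∀ y' : G, y' ∉ K → (∃ k, orderOf y' = p ^ k) → (P : Subgroup G) ≤ cz y' →
      ∀ u : G, (P : Subgroup G) ≤ cz u → u ∈ (P : Subgroup G) → ∀ x ∈ cz y', x * u = u * x := by
    intro y' hy'K hy'p hP' u hu huP
    have hcover : (cz u).subgroupOf (cz y') = ⊤ := by
      refine CfsgLib.eq_top_of_conj_cover _ fun x => ?_
      obtain ⟨f, w, hfw, hfc, hf, hw, hfz, hwz⟩ := CfsgLib.Blocks.exists_pPart hp.out (x : G)
      have hfC : f ∈ cz y' := zpowers_le.mpr x.2 hfz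
      have hwC : w ∈ cz y' := zpowers_le.mpr x.2 hwz
      have hyw : Commute y' w := (mem_cz.mp hwC).symm
      have hco' : (orderOf y').Coprime (orderOf w) := by
        obtain ⟨k, hk⟩ := hy'p
        rw [hk]; exact Nat.Coprime.pow_left _ (hp.out.coprime_iff_not_dvd.mpr hw)
      have hcz : cz (y' * w) = cz y' ⊓ cz w := inf_cz_eq hyw hco'
      obtain ⟨Q, hQ, hfQ⟩ := sylow_le_cz (hout' _ fun h => hy'K (mem_of_parts hyw hco' h)) hf
        (hcz.ge ⟨hfC, mem_cz.mpr hfc.eq⟩)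
      have hQz : (Q : Subgroup G) ≤ cz y' := hQ.trans (hcz.le.trans inf_le_left)
      obtain ⟨c, hc⟩ := MulAction.exists_smul_eq (cz y') (Q.subtype hQz) (P.subtype hP')
      refine ⟨c, ?_⟩
      rw [mem_subgroupOf]
      show (c : G) * (x : G) * (c : G)⁻¹ ∈ cz u
      have hfP : (c : G) * f * (c : G)⁻¹ ∈ (P : Subgroup G) := by
        have h1 : c * ⟨f, hQz hfQ⟩ * c⁻¹ ∈ ((c • Q.subtype hQz : Sylow p (cz y')) : Subgroup (cz y')) := by
          rw [Sylow.coe_subgroup_smul]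
          exact ⟨⟨f, hQz hfQ⟩, by rw [Sylow.coe_subtype]; exact hfQ, rfl⟩
        rw [hc, Sylow.coe_subtype] at h1
        exact h1
      have hu' : (c : G)⁻¹ * u * c ∈ (Q : Subgroup G) := by
        have h1 : (⟨u, hP' huP⟩ : cz y') ∈ ((c • Q.subtype hQz : Sylow p (cz y')) : Subgroup (cz y')) := by
          rw [hc, Sylow.coe_subtype]; exact huP
        rw [Sylow.coe_subgroup_smul] at h1
        obtain ⟨q, hq, hqu⟩ := h1
        have hqu' : (c : G) * (q : G) * (c : G)⁻¹ = u := congrArg Subtype.val hqu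
        rw [← hqu']
        rw [Sylow.coe_subtype] at hq
        have hq' : (q : G) ∈ (Q : Subgroup G) := hq
        simpa [mul_assoc] using hq'
      have hwu : Commute w ((c : G)⁻¹ * u * c) := (mem_cz.mp (hcz.le (hQ hu')).2).symm
      rw [← hfw, show (c : G) * (f * w) * (c : G)⁻¹ = ((c : G) * f * (c : G)⁻¹) * ((c : G) * w * (c : G)⁻¹) by group]
      refine mul_mem (hu hfP) (mem_cz.mpr ?_)
      calc (c : G) * w * (c : G)⁻¹ * u = (c : G) * (w * ((c : G)⁻¹ * u * c)) * (c : G)⁻¹ := by group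
        _ = _ := by rw [hwu.eq]; group
    exact fun x hx => mem_cz.mp (subgroupOf_eq_top.mp hcover hx)
  have hPb₀ : (P : Subgroup G) ≤ cz b₀ := by
    intro x hx
    have h1 := hPb hx
    rw [← hb01, inf_cz_eq hbc (by
      obtain ⟨k, hk⟩ := hb₀
      rw [hk]; exact Nat.Coprime.pow_left _ (hp.out.coprime_iff_not_dvd.mpr hb₁))] at h1
    exact h1.1
  have hcop₀ : (orderOf b₀).Coprime (orderOf b₁) := by
    obtain ⟨k, hk⟩ := hb₀
    rw [hk]; exact Nat.Coprime.pow_left _ (hp.out.coprime_iff_not_dvd.mpr hb₁)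
  have hb₀K : b₀ ∈ K := mem_of_parts hbc hcop₀ (hb01.symm ▸ hbK)
  set y' := y * b₀ with hy'
  have hy'K : y' ∉ K := fun h => hyK (by
    have := mul_mem h (inv_mem hb₀K); rwa [hy', mul_inv_cancel_right] at this)
  have hy'P : y' ∈ (P : Subgroup G) := mul_mem hyP hb₀P
  have hy'p : ∃ k, orderOf y' = p ^ k := by
    obtain ⟨k, hk⟩ := IsPGroup.iff_orderOf.mp P.2 ⟨y', hy'P⟩
    exact ⟨k, by rwa [Subgroup.orderOf_mk] at hk⟩
  have hPy' : (P : Subgroup G) ≤ cz y' := (le_inf hPy hPb₀).trans (cs_mul_inf_le y b₀)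
  have hy'b₁ : Commute y' b₁ := by
    have h1 : Commute y b := mem_cz.mp (hPb hyP)
    have h2 : Commute y b₀ := mem_cz.mp (hPb₀ hyP)
    have h3 : Commute y b₁ := by
      have := h2.inv_right.mul_right h1
      rwa [← hb01, inv_mul_cancel_left] at this
    exact h3.mul_left hbc
  have hco₁ : (orderOf y').Coprime (orderOf b₁) := by
    obtain ⟨k, hk⟩ := hy'p
    rw [hk]; exact Nat.Coprime.pow_left _ (hp.out.coprime_iff_not_dvd.mpr hb₁)
  have hle : cz (y' * b₁) ≤ cz b := by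
    rw [inf_cz_eq hy'b₁ hco₁, ← hb01, inf_cz_eq hbc hcop₀]
    exact fun x hx => ⟨mem_cz.mpr (hcent y' hy'K hy'p hPy' b₀ hPb₀ hb₀P x hx.1), hx.2⟩
  have hnot : y' * b₁ ∉ K := fun h => hy'K (mem_of_parts hy'b₁ hco₁ h)
  exact hr.one_lt.ne' (Nat.eq_one_of_dvd_coprimes (hout _ hnot) (hrb.trans (index_dvd_of_le hle)) hra)

theorem walk (p v r s t : ℕ) (hp : p.Prime) (hr : r.Prime) (hs : s.Prime) (ht : t.Prime) (hv : v.Prime)
    (h1 : Adj G p r) (h2 : Adj G r s) (h3 : Adj G s t) (h4 : Adj G t v) : W3 G p v := by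
  by_contra hno
  haveI := Fact.mk hp
  haveI := Fact.mk hv
  obtain ⟨a, hpa, hra⟩ := h1
  obtain ⟨b, hrb, hsb⟩ := h2
  obtain ⟨c, hsc, htc⟩ := h3
  obtain ⟨d, htd, hvd⟩ := h4
  have hco : (cs a).Coprime (cs d) := Nat.coprime_of_dvd fun w hw h h' =>
    hno ⟨w, w, hw, hw, ⟨a, hpa, h⟩, ⟨a, h, h⟩, ⟨d, h', hvd⟩⟩
  have hor : (cs (a * d)).Coprime (cs a) ∨ (cs (a * d)).Coprime (cs d) := by
    by_contra h
    push Not at h
    obtain ⟨w, hw, hwx, hwa⟩ := Nat.Prime.not_coprime_iff_dvd.mp h.1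
    obtain ⟨w', hw', hwx', hwd⟩ := Nat.Prime.not_coprime_iff_dvd.mp h.2
    exact hno ⟨w, w', hw, hw', ⟨a, hpa, hwa⟩, ⟨a * d, hwx, hwx'⟩, ⟨d, hwd, hvd⟩⟩
  rcases hor with h | h
  · exact core hr hs ht hpa hra hrb hsb ⟨c, hsc, htc⟩ hvd htd hno
      (le_antisymm (Nat.le_of_dvd (cs_pos d) (h.dvd_of_dvd_mul_left (cs_mul_dvd hco))) (cs_mul_ge hco)) hco
  · refine core (p := v) (r := t) (s := s) (t := r) (v := p) ht hs hr hvd htd htc hsc ⟨b, hsb, hrb⟩ hpa hra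
      (fun ⟨x, y, hx, hy, ⟨g1, k1, l1⟩, ⟨g2, k2, l2⟩, ⟨g3, k3, l3⟩⟩ =>
        hno ⟨y, x, hy, hx, ⟨g3, l3, k3⟩, ⟨g2, l2, k2⟩, ⟨g1, l1, k1⟩⟩) ?_ hco.symm
    rw [cs_mul_comm]
    exact le_antisymm (Nat.le_of_dvd (cs_pos a) (h.dvd_of_dvd_mul_right (cs_mul_dvd hco))) (cs_mul_ge' hco)

theorem goal
    (hconn : ∀ S : Set ℕ, (∃ p ∈ S, (p.Prime ∧ ∃ g : G, p ∣ cs g)) → (∃ q ∉ S, (q.Prime ∧ ∃ g : G, q ∣ cs g)) →
      ∃ p q : ℕ, (p.Prime ∧ ∃ g : G, p ∣ cs g) ∧ (q.Prime ∧ ∃ g : G, q ∣ cs g) ∧ p ∈ S ∧ q ∉ S ∧ (∃ g : G, p * q ∣ cs g))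
    (p q : ℕ) (hp : (p.Prime ∧ ∃ g : G, p ∣ cs g)) (hq : (q.Prime ∧ ∃ g : G, q ∣ cs g)) (hpq : p ≠ q) :
    (∃ g : G, p * q ∣ cs g) ∨ (∃ r : ℕ, (r.Prime ∧ ∃ g : G, r ∣ cs g) ∧ r ≠ p ∧ r ≠ q ∧ (∃ g : G, p * r ∣ cs g) ∧ (∃ g : G, r * q ∣ cs g)) ∨
      (∃ r s : ℕ, (r.Prime ∧ ∃ g : G, r ∣ cs g) ∧ (s.Prime ∧ ∃ g : G, s ∣ cs g) ∧ r ≠ p ∧ s ≠ q ∧ r ≠ s ∧ r ≠ q ∧ s ≠ p ∧
        (∃ g : G, p * r ∣ cs g) ∧ (∃ g : G, r * s ∣ cs g) ∧ (∃ g : G, s * q ∣ cs g)) := by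
  obtain ⟨hpp, g₀, hg₀⟩ := hp
  have hW : W3 G p q := by
    by_contra hno
    obtain ⟨u, v, ⟨hup, -⟩, ⟨hvp, -⟩, huS, hvS, g, hg⟩ := hconn {v | v.Prime ∧ W3 G p v}
      ⟨p, ⟨hpp, p, p, hpp, hpp, ⟨g₀, hg₀, hg₀⟩, ⟨g₀, hg₀, hg₀⟩, ⟨g₀, hg₀, hg₀⟩⟩, hpp, g₀, hg₀⟩
      ⟨q, fun h => hno h.2, hq⟩
    obtain ⟨-, r, s, hr, hs, a1, a2, a3⟩ := huS
    exact hvS ⟨hvp, walk p v r s u hpp hr hs hup hvp a1 a2 a3
      ⟨g, dvd_of_mul_right_dvd hg, dvd_of_mul_left_dvd hg⟩⟩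
  have hE : ∀ a b : ℕ, a.Prime → b.Prime → a ≠ b → Adj G a b → ∃ g : G, a * b ∣ cs g :=
    fun a b ha hb hab ⟨g, h1, h2⟩ => ⟨g, ((Nat.coprime_primes ha hb).mpr hab).mul_dvd_of_dvd_of_dvd h1 h2⟩
  obtain ⟨r, s, hr, hs, a1, a2, a3⟩ := hW
  have hrV : ∃ g : G, r ∣ cs g := a1.imp fun g hg => hg.2
  have hsV : ∃ g : G, s ∣ cs g := a2.imp fun g hg => hg.2
  by_cases hd : Adj G p q
  · exact Or.inl (hE p q hpp hq.1 hpq hd)
  have hrq : r ≠ q := fun e => hd (e ▸ a1)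
  have hsp : s ≠ p := fun e => hd (e ▸ a3)
  rcases eq_or_ne r p with rfl | hrp
  · rcases eq_or_ne s q with rfl | hsq
    · exact absurd a2 hd
    · exact Or.inr (Or.inl ⟨s, ⟨hs, hsV⟩, hsp, hsq, hE r s hr hs hsp.symm a2, hE s q hs hq.1 hsq a3⟩)
  rcases eq_or_ne s q with rfl | hsq
  · exact Or.inr (Or.inl ⟨r, ⟨hr, hrV⟩, hrp, hrq, hE p r hpp hr hrp.symm a1, hE r s hr hs hrq a2⟩)
  rcases eq_or_ne r s with rfl | hrs
  · exact Or.inr (Or.inl ⟨r, ⟨hr, hrV⟩, hrp, hrq, hE p r hpp hr hrp.symm a1, hE r q hr hq.1 hrq a3⟩)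
  exact Or.inr (Or.inr ⟨r, s, ⟨hr, hrV⟩, ⟨hs, hsV⟩, hrp, hsq, hrs, hrq, hsp, hE p r hpp hr hrp.symm a1,
    hE r s hr hs hrs a2, hE s q hs hq.1 hsq a3⟩)

end Aux

/-- Let G be a finite group. Call a prime a vertex if it divides some conjugacy class size of G, and two distinct vertices adjacent if their product divides some class size. If this graph is connected, then its diameter is at most 3: any two distinct vertices p and q are adjacent, or joined through one or two intermediate vertices. -/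
theorem result {G : Type*} [Group G] [Finite G]
    (hconn : ∀ S : Set ℕ, (∃ p ∈ S, (p.Prime ∧ ∃ g : G, p ∣ (Subgroup.centralizer ({g} : Set G)).index)) → (∃ q ∉ S, (q.Prime ∧ ∃ g : G, q ∣ (Subgroup.centralizer ({g} : Set G)).index)) →
      ∃ p q : ℕ, (p.Prime ∧ ∃ g : G, p ∣ (Subgroup.centralizer ({g} : Set G)).index) ∧ (q.Prime ∧ ∃ g : G, q ∣ (Subgroup.centralizer ({g} : Set G)).index) ∧ p ∈ S ∧ q ∉ S ∧ (∃ g : G, p * q ∣ (Subgroup.centralizer ({g} : Set G)).index))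
    (p q : ℕ) (hp : (p.Prime ∧ ∃ g : G, p ∣ (Subgroup.centralizer ({g} : Set G)).index)) (hq : (q.Prime ∧ ∃ g : G, q ∣ (Subgroup.centralizer ({g} : Set G)).index)) (hpq : p ≠ q) :
    (∃ g : G, p * q ∣ (Subgroup.centralizer ({g} : Set G)).index) ∨ (∃ r : ℕ, (r.Prime ∧ ∃ g : G, r ∣ (Subgroup.centralizer ({g} : Set G)).index) ∧ r ≠ p ∧ r ≠ q ∧ (∃ g : G, p * r ∣ (Subgroup.centralizer ({g} : Set G)).index) ∧ (∃ g : G, r * q ∣ (Subgroup.centralizer ({g} : Set G)).index)) ∨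
      (∃ r s : ℕ, (r.Prime ∧ ∃ g : G, r ∣ (Subgroup.centralizer ({g} : Set G)).index) ∧ (s.Prime ∧ ∃ g : G, s ∣ (Subgroup.centralizer ({g} : Set G)).index) ∧ r ≠ p ∧ s ≠ q ∧ r ≠ s ∧ r ≠ q ∧ s ≠ p ∧
        (∃ g : G, p * r ∣ (Subgroup.centralizer ({g} : Set G)).index) ∧ (∃ g : G, r * s ∣ (Subgroup.centralizer ({g} : Set G)).index) ∧ (∃ g : G, s * q ∣ (Subgroup.centralizer ({g} : Set G)).index)) := by
  exact Aux.goal hconn p q hp hq hpq

end Cfsg.Agent.S4257
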