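import Cfsg.Statements.S4261
import Mathlib
import Cfsg.Agent.Lib.Elementary
import Cfsg.Agent.Lib.PRegularClass
-- import your own Cfsg.Agent.* helpers here

set_option autoImplicit false
open Cfsg

namespace Cfsg.Agent.S4261

/-- Let M be a maximal subgroup of a finite solvable group G such that x^[G : M] lies in M for every x in G. Then M is normal in G. -/
theorem result {G : Type*} [Group G] [Finite G] (hG : Group.IsSolvable G) (M : Subgroup G) (hM : IsCoatom M)
    (hexp : ∀ x : G, x ^ M.index ∈ M) : M.Normal := by
  induction hn : Nat.card G using Nat.strong_induction_on generalizing G with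
  | h n ih =>
    subst hn
    rcases subsingleton_or_nontrivial G with hG' | hG'
    · exact absurd (Subsingleton.elim M ⊤) hM.1
    obtain ⟨T, hTn, -, hT0, hmin⟩ := CfsgLib.exists_minimal_normal (N := (⊤ : Subgroup G)) top_ne_bot
    by_cases hTM : T ≤ M
    · have hlt : Nat.card (G ⧸ T) < Nat.card G := CfsgLib.card_quotient_lt_of_ne_bot hT0
      have hker : (QuotientGroup.mk' T).ker ≤ M := by rwa [QuotientGroup.ker_mk']
      have hcm : (M.map (QuotientGroup.mk' T)).comap (QuotientGroup.mk' T) = M :=
        Subgroup.comap_map_eq_self hker
      have hidx : (M.map (QuotientGroup.mk' T)).index = M.index := by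
        rw [← Subgroup.index_comap_of_surjective _ (QuotientGroup.mk'_surjective T), hcm]
      have hMc : IsCoatom (M.map (QuotientGroup.mk' T)) := by
        refine ⟨fun htop => hM.1 ?_, fun L hL => ?_⟩
        · rw [← hcm, htop, Subgroup.comap_top]
        · have h2 : M < L.comap (QuotientGroup.mk' T) := by
            refine lt_of_le_of_ne (hcm.symm.trans_le (Subgroup.comap_mono hL.le)) fun he => hL.ne ?_
            apply Subgroup.comap_injective (QuotientGroup.mk'_surjective T)
            rw [hcm, ← he]
          apply Subgroup.comap_injective (QuotientGroup.mk'_surjective T)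
          rw [hM.2 _ h2, Subgroup.comap_top]
      have h1 := ih _ hlt (QuotientGroup.mk' T |> fun f => (Group.isSolvable_of_surjective (QuotientGroup.mk'_surjective T))) _ hMc (fun x => by
        obtain ⟨y, rfl⟩ := QuotientGroup.mk'_surjective T x
        rw [hidx, ← map_pow]
        exact Subgroup.mem_map_of_mem _ (hexp y)) rfl
      rw [← hcm]
      exact h1.comap _
    · haveI := hG
      obtain ⟨-, r, hr, hTe⟩ := CfsgLib.minimal_normal_elementary (N := T) hT0 inferInstance hmin
      have hTp : IsPGroup r T := fun y => ⟨1, Subtype.ext (by simpa using hTe y y.2)⟩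
      have := Fact.mk hr
      have htop : T ⊔ M = ⊤ := hM.2 _ (lt_of_le_of_ne le_sup_right fun he => hTM (he ▸ le_sup_left))
      have hidx : M.index = M.relIndex T := by
        rw [← CfsgLib.relIndex_sup_normal_eq M T, sup_comm, htop, Subgroup.relIndex_top_right]
      obtain ⟨k, hk⟩ : ∃ k, M.index = r ^ k := by
        rw [hidx]
        exact hTp.index (M.subgroupOf T)
      set R := Subgroup.closure {x : G | (orderOf x).Coprime r} with hR
      have hRM : R ≤ M := (Subgroup.closure_le _).mpr fun x hx => by
        obtain ⟨j, hj⟩ := exists_pow_eq_self_of_coprime (x := x) (n := M.index) (by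
          rw [hk]; exact (Nat.Coprime.pow_right k hx).symm)
        rw [← hj]
        exact pow_mem (hexp x) j
      have hRn : R.Normal := by
        refine ⟨fun y hy g => ?_⟩
        have hle : R ≤ R.comap (MulAut.conj g).toMonoidHom := (Subgroup.closure_le _).mpr fun z hz =>
          Subgroup.mem_comap.mpr (Subgroup.subset_closure (by
            show (orderOf ((MulAut.conj g).toMonoidHom z)).Coprime r
            rw [orderOf_injective (MulAut.conj g).toMonoidHom (MulAut.conj g).injective z]
            exact hz))
        exact Subgroup.mem_comap.mp (hle hy)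
      have hQ : IsPGroup r (G ⧸ R) := fun x => by
        obtain ⟨g, rfl⟩ := QuotientGroup.mk'_surjective R x
        refine ⟨(orderOf g).factorization r, ?_⟩
        rw [← map_pow]
        refine (QuotientGroup.eq_one_iff _).mpr (Subgroup.subset_closure ?_)
        show (orderOf (g ^ (r ^ _))).Coprime r
        rw [orderOf_pow_of_dvd (pow_ne_zero _ hr.ne_zero) (Nat.ordProj_dvd _ r)]
        exact (Nat.coprime_ordCompl hr (orderOf_pos g).ne').symm
      have hker : (QuotientGroup.mk' R).ker ≤ M := by rwa [QuotientGroup.ker_mk']
      have hcm : (M.map (QuotientGroup.mk' R)).comap (QuotientGroup.mk' R) = M :=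
        Subgroup.comap_map_eq_self hker
      have := hQ.isNilpotent
      have hMc : IsCoatom (M.map (QuotientGroup.mk' R)) := by
        refine ⟨fun htop => hM.1 ?_, fun L hL => ?_⟩
        · rw [← hcm, htop, Subgroup.comap_top]
        · have h2 : M < L.comap (QuotientGroup.mk' R) := by
            refine lt_of_le_of_ne (hcm.symm.trans_le (Subgroup.comap_mono hL.le)) fun he => hL.ne ?_
            apply Subgroup.comap_injective (QuotientGroup.mk'_surjective R)
            rw [hcm, ← he]
          apply Subgroup.comap_injective (QuotientGroup.mk'_surjective R)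
          rw [hM.2 _ h2, Subgroup.comap_top]
      rw [← hcm]
      exact (Subgroup.NormalizerCondition.normal_of_coatom _
        Group.normalizerCondition_of_isNilpotent hMc).comap _

end Cfsg.Agent.S4261
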