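import Cfsg.Statements.S4262
import Mathlib
import Cfsg.Agent.Lib.Frobenius.Splitting
import Cfsg.Agent.Lib.Coprime
-- import your own Cfsg.Agent.* helpers here

set_option autoImplicit false
open Cfsg

namespace Cfsg.Agent.S4262

open scoped Pointwise commutatorElement

section

universe u
variable {G : Type u} [Group G]

theorem solvable_of_normal_coatom {M : Subgroup G} [M.Normal] (hM : IsCoatom M) (hs : Group.IsSolvable M) :
    Group.IsSolvable G := by
  obtain ⟨g, -, hg⟩ := SetLike.exists_of_lt (lt_top_iff_ne_top.mpr hM.1)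
  have hsup : M ⊔ Subgroup.zpowers g = ⊤ := hM.2 _ (lt_of_le_of_ne le_sup_left fun e =>
    hg (e ▸ Subgroup.mem_sup_right (Subgroup.mem_zpowers g)))
  set π := QuotientGroup.mk' M
  have hgen : ∀ y : G ⧸ M, y ∈ Subgroup.zpowers (π g) := fun y => by
    have h1 : (Subgroup.zpowers g).map π = ⊤ := by
      have h2 := congrArg (Subgroup.map π) hsup
      rwa [Subgroup.map_sup, QuotientGroup.map_mk'_self, bot_sup_eq,
        Subgroup.map_top_of_surjective π (QuotientGroup.mk'_surjective M)] at h2
    rw [MonoidHom.map_zpowers] at h1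
    exact h1 ▸ Subgroup.mem_top y
  have : IsCyclic (G ⧸ M) := ⟨π g, hgen⟩
  have : Group.IsSolvable (G ⧸ M) :=
    Group.isSolvable_of_comm fun a b => (IsCyclic.commGroup (α := G ⧸ M)).mul_comm a b
  exact (Group.isSolvable_iff_subgroup_quotient M).mpr ⟨hs, inferInstance⟩

variable [Finite G]

/-- Split an element into commuting `p`- and `p'`-parts. -/
theorem split (p : ℕ) [hp : Fact p.Prime] (x : G) : ∃ a b : G, a * b = x ∧ a ∈ Subgroup.zpowers x ∧
    b ∈ Subgroup.zpowers x ∧ (∃ k : ℕ, orderOf a = p ^ k) ∧ (orderOf b).Coprime p := by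
  obtain ⟨k, m, hm, hkm⟩ :=
    Nat.exists_eq_pow_mul_and_not_dvd (orderOf_pos x).ne' p hp.out.ne_one
  have hcop : Nat.Coprime (p ^ k) m := (hp.out.coprime_iff_not_dvd.2 hm).pow_left k
  have hbz := Nat.gcd_eq_gcd_ab (p ^ k) m
  rw [hcop] at hbz
  set a := Nat.gcdA (p ^ k) m
  set b := Nat.gcdB (p ^ k) m
  refine ⟨x ^ ((m : ℤ) * b), x ^ (((p ^ k : ℕ) : ℤ) * a), ?_, ⟨_, rfl⟩, ⟨_, rfl⟩, ?_, ?_⟩
  · rw [← _root_.zpow_add, add_comm, ← hbz]; simp
  · have h : (x ^ ((m : ℤ) * b)) ^ p ^ k = 1 := by
      rw [← zpow_natCast, ← _root_.zpow_mul, ← orderOf_dvd_iff_zpow_eq_one, hkm]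
      exact ⟨b, by push_cast; ring⟩
    obtain ⟨e, -, he⟩ := (Nat.dvd_prime_pow hp.out).1 (orderOf_dvd_of_pow_eq_one h)
    exact ⟨e, he⟩
  · have h : (x ^ (((p ^ k : ℕ) : ℤ) * a)) ^ m = 1 := by
      rw [← zpow_natCast, ← _root_.zpow_mul, ← orderOf_dvd_iff_zpow_eq_one, hkm]
      exact ⟨a, by push_cast; ring⟩
    exact (hp.out.coprime_iff_not_dvd.2 fun hd => hm (hd.trans (orderOf_dvd_of_pow_eq_one h))).symm

theorem center_le_zj (T : Subgroup G) {x : G} (hx : x ∈ T) (hc : ∀ y ∈ T, y * x = x * y) :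
    x ∈ CfsgLib.ZJ.zj 0 T := by
  obtain ⟨A, hA⟩ := CfsgLib.ZJ.goodMax_nonempty 0 T
  have hgood : CfsgLib.ZJ.IsGood 0 (Subgroup.closure ((A : Set G) ∪ {x})) := by
    refine CfsgLib.ZJ.isGood_closure ?_ fun _ _ => pow_zero _
    rintro a (ha | rfl) b (hb | rfl)
    · exact hA.2.1.1 a ha b hb
    · exact hc a (hA.1 ha)
    · exact (hc b (hA.1 hb)).symm
    · rfl
  have hle : A ≤ Subgroup.closure ((A : Set G) ∪ {x}) := fun a ha => Subgroup.subset_closure (Or.inl ha)
  have hT : Subgroup.closure ((A : Set G) ∪ {x}) ≤ T := (Subgroup.closure_le T).mpr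
    (Set.union_subset hA.1 (Set.singleton_subset_iff.mpr hx))
  have he := Subgroup.eq_of_le_of_card_ge hle (hA.2.2 _ hT hgood)
  have hxA : x ∈ A := he ▸ Subgroup.subset_closure (Or.inr rfl)
  exact ⟨CfsgLib.ZJ.le_thompsonJ hA hxA, fun y hy => hc y (CfsgLib.ZJ.thompsonJ_le 0 T hy)⟩

variable (h : ∀ g : G, g ∉ Subgroup.center G → IsCoatom (Subgroup.centralizer ({g} : Set G)))
include h

theorem pPrime_central {p : ℕ} [Fact p.Prime] {u v : G} (hu : u ∉ Subgroup.center G) (huo : ∃ k : ℕ, orderOf u = p ^ k)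
    (hv : v ∈ Subgroup.centralizer ({u} : Set G)) (hvo : (orderOf v).Coprime p) :
    Subgroup.centralizer ({u} : Set G) ≤ Subgroup.centralizer ({v} : Set G) := by
  obtain ⟨k, hk⟩ := huo
  have hc : Commute u v := (Subgroup.mem_centralizer_singleton_iff.mp hv).symm
  obtain ⟨c, hc1, hc2⟩ := Nat.chineseRemainder (show (orderOf u).Coprime (orderOf v) by
    rw [hk]; exact (hvo.pow_right k).symm) 1 0
  have hu' : (u * v) ^ c = u := by
    rw [hc.mul_pow, pow_eq_pow_iff_modEq.mpr hc1, pow_eq_pow_iff_modEq.mpr hc2]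
    simp
  have hle : Subgroup.centralizer ({u * v} : Set G) ≤ Subgroup.centralizer ({u} : Set G) := fun g hg => by
    rw [Subgroup.mem_centralizer_singleton_iff] at hg ⊢
    rw [← hu']
    exact ((show Commute g (u * v) from hg).pow_right c).eq
  have huv : u * v ∉ Subgroup.center G := fun hz => hu (hu' ▸ (Subgroup.center G).pow_mem hz c)
  have heq : Subgroup.centralizer ({u} : Set G) ≤ Subgroup.centralizer ({u * v} : Set G) := by
    by_contra hne
    exact (h u hu).1 ((h _ huv).2 _ (lt_of_le_not_ge hle hne))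
  intro g hg
  have h1 := Subgroup.mem_centralizer_singleton_iff.mp (heq hg)
  have h2 := Subgroup.mem_centralizer_singleton_iff.mp hg
  rw [Subgroup.mem_centralizer_singleton_iff]
  exact mul_left_cancel (a := u) (by
    calc u * (g * v) = (g * u) * v := by rw [h2]; group
      _ = g * (u * v) := by group
      _ = u * v * g := h1
      _ = u * (v * g) := by group)

theorem centralizer_nilpotent {p : ℕ} [Fact p.Prime] {u : G} (hu : u ∉ Subgroup.center G)
    (huo : ∃ k : ℕ, orderOf u = p ^ k) : Group.IsNilpotent (Subgroup.centralizer ({u} : Set G)) := by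
  set M := Subgroup.centralizer ({u} : Set G)
  have hq : IsPGroup p (M ⧸ Subgroup.center M) := fun y => by
    obtain ⟨m, rfl⟩ := QuotientGroup.mk'_surjective _ y
    obtain ⟨a, b, hab, ha, hb, ⟨k, hk⟩, hbo⟩ := split p (m : G)
    have hbM : b ∈ M := Subgroup.zpowers_le.mpr m.2 hb
    have haM : a ∈ M := Subgroup.zpowers_le.mpr m.2 ha
    have hbc : (⟨b, hbM⟩ : M) ∈ Subgroup.center M := by
      rw [Subgroup.mem_center_iff]
      intro g
      exact Subtype.ext (Subgroup.mem_centralizer_singleton_iff.mp (pPrime_central h hu huo hbM hbo g.2))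
    refine ⟨k, ?_⟩
    rw [show m = (⟨a, haM⟩ : M) * ⟨b, hbM⟩ from Subtype.ext hab.symm, map_mul,
      show QuotientGroup.mk' (Subgroup.center M) ⟨b, hbM⟩ = 1 from (QuotientGroup.eq_one_iff _).mpr hbc,
      mul_one, ← map_pow, show (⟨a, haM⟩ : M) ^ p ^ k = 1 from Subtype.ext (by
        rw [Subgroup.coe_pow, Subgroup.coe_one, ← hk]; exact pow_orderOf_eq_one a), map_one]
  exact Group.of_quotient_center_nilpotent hq.isNilpotent

/-- If a normal subgroup contains `u` and some non-central `p'`-element centralises `u`, then `C(u)` is normal. -/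
theorem normal_of_witness {p : ℕ} [Fact p.Prime] {u : G} (hu : u ∉ Subgroup.center G)
    (huo : ∃ k : ℕ, orderOf u = p ^ k) {W : Subgroup G} [W.Normal] (huW : u ∈ W)
    (hWM : W ≤ Subgroup.centralizer ({u} : Set G)) {v : G} (hv : v ∈ Subgroup.centralizer ({u} : Set G))
    (hvo : (orderOf v).Coprime p) (hvc : v ∉ Subgroup.center G) :
    (Subgroup.centralizer ({u} : Set G)).Normal := by
  set M := Subgroup.centralizer ({u} : Set G)
  set C := Subgroup.centralizer (W : Set G)
  have hCM : C ≤ M := Subgroup.centralizer_le (by simpa using huW)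
  set S : Set G := {y | y ∈ C ∧ (orderOf y).Coprime p}
  have hMS : M ≤ Subgroup.centralizer S := fun g hg => by
    rw [Subgroup.mem_centralizer_iff]
    rintro y ⟨hy, hyo⟩
    exact (Subgroup.mem_centralizer_singleton_iff.mp (pPrime_central h hu huo (hCM hy) hyo hg)).symm
  have hvS : v ∈ S := ⟨Subgroup.mem_centralizer_iff.mpr fun w hw =>
    Subgroup.mem_centralizer_singleton_iff.mp (pPrime_central h hu huo hv hvo (hWM hw)), hvo⟩
  have hSv : Subgroup.centralizer S ≤ M := by
    have hMv := pPrime_central h hu huo hv hvo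
    have h1 : Subgroup.centralizer S ≤ Subgroup.centralizer ({v} : Set G) := Subgroup.centralizer_le (by simpa using hvS)
    by_contra hne
    exact (h v hvc).1 ((h u hu).2 _ (lt_of_le_not_ge hMv fun hle => hne (h1.trans hle)))
  rw [show M = Subgroup.centralizer S from le_antisymm hMS hSv]
  have hCn : C.Normal := inferInstance
  refine ⟨fun x hx g => ?_⟩
  rw [Subgroup.mem_centralizer_iff] at hx ⊢
  rintro y ⟨hy, hyo⟩
  have h1 := hx (g⁻¹ * y * g) ⟨by simpa using hCn.conj_mem y hy g⁻¹, by
    have e : orderOf (g⁻¹ * y * g) = orderOf y := by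
      rw [show g⁻¹ * y * g = MulAut.conj g⁻¹ y by simp, MulEquiv.orderOf_eq]
    rwa [e]⟩
  calc y * (g * x * g⁻¹) = g * ((g⁻¹ * y * g) * x) * g⁻¹ := by group
    _ = g * (x * (g⁻¹ * y * g)) * g⁻¹ := by rw [h1]
    _ = g * x * g⁻¹ * y := by group

theorem odd_step {p : ℕ} [Fact p.Prime] (hp2 : p ≠ 2) :
    Group.IsSolvable G ∨ Cfsg.HasNormalPComplement p G := by
  have hp : p.Prime := Fact.out
  obtain ⟨P⟩ : Nonempty (Sylow p G) := inferInstance
  by_cases hPZ : (P : Subgroup G) ≤ Subgroup.center G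
  · right
    exact CfsgLib.hasNormalPComplement_of_normalizer_le_centralizer P fun g _ =>
      Subgroup.mem_centralizer_iff.mpr fun x hx => (Subgroup.mem_center_iff.mp (hPZ hx) g).symm
  have hpo : ∀ (R : Subgroup G), IsPGroup p R → ∀ x ∈ R, ∃ k : ℕ, orderOf x = p ^ k := fun R hR x hx => by
    obtain ⟨k, hk⟩ := IsPGroup.iff_orderOf.mp hR ⟨x, hx⟩
    exact ⟨k, by rwa [Subgroup.orderOf_mk] at hk⟩
  obtain ⟨u, huP, huZ⟩ := SetLike.not_le_iff_exists.mp hPZ
  set M := Subgroup.centralizer ({u} : Set G) with hM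
  have huo := hpo _ P.isPGroup' u huP
  have hnil := centralizer_nilpotent h huZ huo
  have hMs : Group.IsSolvable M := inferInstance
  obtain ⟨P₁⟩ : Nonempty (Sylow p M) := inferInstance
  set R := (P₁ : Subgroup M).map M.subtype with hR
  have hRM : R ≤ M := Subgroup.map_subtype_le _
  have hRp : IsPGroup p R := P₁.isPGroup'.map _
  have hRn : M ≤ Subgroup.normalizer (R : Set G) := by
    intro m hm
    exact Subgroup.le_normalizer_map M.subtype ⟨⟨m, hm⟩, by rw [Subgroup.normalizer_eq_top]; trivial, rfl⟩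
  have hmem : ∀ x ∈ M, (∃ k : ℕ, orderOf x = p ^ k) → x ∈ R := fun x hx ⟨k, hk⟩ => by
    have h1 : IsPGroup p (Subgroup.zpowers (⟨x, hx⟩ : M)) :=
      IsPGroup.of_card (n := k) (by rw [Nat.card_zpowers, Subgroup.orderOf_mk, hk])
    obtain ⟨T, hT⟩ := h1.exists_le_sylow
    obtain ⟨g, hg⟩ := MulAction.exists_smul_eq M P₁ T
    rw [← hg, Sylow.smul_eq_of_normal] at hT
    exact ⟨_, hT (Subgroup.mem_zpowers _), rfl⟩
  have huR : u ∈ R := hmem u (Subgroup.mem_centralizer_singleton_iff.mpr rfl) huo
  obtain ⟨T, hT⟩ := hRp.exists_le_sylow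
  by_cases hTR : (T : Subgroup G) ≤ R
  · -- `C(u)` contains a Sylow subgroup
    have hTeq : (T : Subgroup G) = R := le_antisymm hTR hT
    set W := CfsgLib.ZJ.zj 0 (T : Subgroup G) with hW
    have hWM : W ≤ M := (CfsgLib.ZJ.zj_le 0 _).trans (hTR.trans hRM)
    have hMN : M ≤ Subgroup.normalizer (W : Set G) := by
      refine le_trans ?_ (CfsgLib.ZJ.normalizer_le_normalizer_zj 0 _)
      rw [hTeq]; exact hRn
    by_cases hN : Subgroup.normalizer (W : Set G) = ⊤
    swap
    · right
      refine CfsgLib.ZJ.hasNormalPComplement_of_normalizer_zj hp2 (Or.inl rfl) T ?_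
      have e : Subgroup.normalizer (W : Set G) = M := by
        by_contra hne
        exact hN ((h u huZ).2 _ (lt_of_le_of_ne hMN (Ne.symm hne)))
      rw [← hW, e]
      exact CfsgLib.Frob.hasNormalPComplement_of_nilpotent hnil
    left
    by_cases hv : ∃ v ∈ M, (orderOf v).Coprime p ∧ v ∉ Subgroup.center G
    · obtain ⟨v, hvM, hvo, hvc⟩ := hv
      have hWn : W.Normal := Subgroup.normalizer_eq_top_iff.mp hN
      -- `u` is in `W`
      have huW : u ∈ W := by
        have huT : u ∈ (T : Subgroup G) := hT huR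
        refine center_le_zj _ huT ?_
        intro y hy
        exact Subgroup.mem_centralizer_singleton_iff.mp (hRM (hTR hy))
      have := normal_of_witness h huZ huo huW hWM hvM hvo hvc
      exact solvable_of_normal_coatom (h u huZ) hMs
    push Not at hv
    set O := Cfsg.pCore p G
    have hOT : O ≤ (T : Subgroup G) := CfsgLib.pCore_le_sylow T
    have hMeq : M = R ⊔ Subgroup.center G := by
      refine le_antisymm (fun x hx => ?_) (sup_le hRM (fun z hz =>
        Subgroup.mem_centralizer_singleton_iff.mpr (Subgroup.mem_center_iff.mp hz u).symm))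
      obtain ⟨a, b, hab, ha, hb, hak, hbo⟩ := split p x
      rw [← hab]
      exact Subgroup.mul_mem_sup (hmem a (Subgroup.zpowers_le.mpr hx ha) hak)
        (hv b (Subgroup.zpowers_le.mpr hx hb) hbo)
    by_cases hRO : R ≤ O
    · have hRn' : M.Normal := by
        rw [hMeq, show R = O from le_antisymm hRO (hTeq ▸ hOT)]
        infer_instance
      exact solvable_of_normal_coatom (h u huZ) hMs
    set π := QuotientGroup.mk' O with hπ
    have hsurj := QuotientGroup.mk'_surjective O
    set Mb := M.map π with hMb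
    have hOM : O ≤ M := hOT.trans (hTR.trans hRM)
    have hcoatom : ∀ X : Subgroup (G ⧸ O), Mb ≤ X → X = Mb ∨ X = ⊤ := fun X hX => by
      have h1 : M ≤ X.comap π := fun m hm => hX (Subgroup.mem_map_of_mem π hm)
      rcases (h u huZ).le_iff.mp h1 with h2 | h2
      · right
        rw [← Subgroup.map_comap_eq_self_of_surjective hsurj X, h2, Subgroup.map_top_of_surjective π hsurj]
      · left
        rw [← Subgroup.map_comap_eq_self_of_surjective hsurj X, h2]
    have hMbne : Mb ≠ ⊤ := fun e => (h u huZ).1 (by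
      have h2 := congrArg (Subgroup.comap π) e
      rwa [Subgroup.comap_map_eq, QuotientGroup.ker_mk', sup_eq_left.mpr hOM, Subgroup.comap_top] at h2)
    let Tb : Sylow p (G ⧸ O) := T.mapSurjective hsurj
    have hTb : (Tb : Subgroup (G ⧸ O)) = R.map π := by rw [Sylow.coe_mapSurjective, hTeq]
    have hTbne : (Tb : Subgroup (G ⧸ O)) ≠ ⊥ := fun e => hRO (by
      rwa [hTb, Subgroup.map_eq_bot_iff, QuotientGroup.ker_mk'] at e)
    have hMb' : Mb = R.map π ⊔ (Subgroup.center G).map π := by rw [hMb, hMeq, Subgroup.map_sup]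
    have hZc : (Subgroup.center G).map π ≤ Subgroup.center (G ⧸ O) := by
      rintro _ ⟨z, hz, rfl⟩
      rw [Subgroup.mem_center_iff]
      intro y
      obtain ⟨g, rfl⟩ := hsurj y
      rw [← map_mul, ← map_mul, Subgroup.mem_center_iff.mp hz g]
    set Wb := CfsgLib.ZJ.zj 0 (Tb : Subgroup (G ⧸ O)) with hWb
    have hMbn : Mb ≤ Subgroup.normalizer (Wb : Set (G ⧸ O)) := by
      rw [hMb']
      refine sup_le ?_ ((hZc.trans (Subgroup.center_le_normalizer _)))
      rw [← hTb]
      exact Subgroup.le_normalizer.trans (CfsgLib.ZJ.normalizer_le_normalizer_zj 0 _)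
    have hNW : Subgroup.normalizer (Wb : Set (G ⧸ O)) ≠ ⊤ := fun e => by
      have : Wb.Normal := Subgroup.normalizer_eq_top_iff.mp e
      refine CfsgLib.ZJ.zj_ne_bot (Or.inl rfl) Tb.isPGroup' hTbne ?_
      rw [← hWb, eq_bot_iff, ← CfsgLib.ZJ.pCore_quotient_pCore_eq_bot (G := G) (p := p)]
      exact CfsgLib.le_pCore (Tb.isPGroup'.to_le (CfsgLib.ZJ.zj_le 0 _))
    have e : Subgroup.normalizer (Wb : Set (G ⧸ O)) = Mb := (hcoatom _ hMbn).resolve_right hNW
    have hnilb : Group.IsNilpotent Mb := Group.nilpotent_of_surjective _ (π.subgroupMap_surjective M)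
    have hcomp : Cfsg.HasNormalPComplement p (G ⧸ O) := by
      refine CfsgLib.ZJ.hasNormalPComplement_of_normalizer_zj hp2 (Or.inl rfl) Tb ?_
      rw [← hWb, e]
      exact CfsgLib.Frob.hasNormalPComplement_of_nilpotent hnilb
    set K := Cfsg.pPrimeCore p (G ⧸ O) with hK
    have hKT : K ⊔ (Tb : Subgroup (G ⧸ O)) = ⊤ :=
      (CfsgLib.pPrimeCore_isComplement'_sylow (CfsgLib.hasNormalPComplement_iff.mp hcomp) Tb).sup_eq_top
    have hcop : (Nat.card (Tb : Subgroup (G ⧸ O))).Coprime (Nat.card K) := by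
      obtain ⟨k, hk⟩ := Tb.isPGroup'.exists_card_eq
      rw [hk]
      exact ((CfsgLib.card_pPrimeCore_coprime (G := G ⧸ O) p).pow_right k).symm
    have hTn : Group.IsNilpotent (Tb : Subgroup (G ⧸ O)) := Tb.isPGroup'.isNilpotent
    obtain ⟨q, hq, S, hS, hSn, hSM⟩ : ∃ (q : ℕ) (_ : Fact q.Prime) (S : Subgroup (G ⧸ O)),
        IsPGroup q S ∧ (Tb : Subgroup (G ⧸ O)) ≤ Subgroup.normalizer (S : Set (G ⧸ O)) ∧ ¬ S ≤ Mb := by
      by_contra hc
      push Not at hc
      refine hMbne (top_le_iff.mp (hKT.ge.trans (sup_le ?_ (hTb.le.trans (hMb' ▸ le_sup_left)))))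
      have key : Mb.subgroupOf K = ⊤ := by
        refine Subgroup.eq_top_of_card_eq _ (Nat.dvd_antisymm (Subgroup.card_subgroup_dvd_card _) ?_)
        rw [← Nat.factorization_le_iff_dvd Nat.card_pos.ne' Nat.card_pos.ne', Finsupp.le_def]
        intro r
        by_cases hr : r.Prime
        swap
        · rw [Nat.factorization_eq_zero_of_not_prime _ hr]; exact Nat.zero_le _
        have := Fact.mk hr
        obtain ⟨S, hS⟩ := CfsgLib.coprime_exists_invariant_sylow (A := (Tb : Subgroup (G ⧸ O))) (K := K)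
          (by rw [Subgroup.normalizer_eq_top]; exact le_top) hcop (Or.inl inferInstance) r
        have h1 := hc r this ((S : Subgroup K).map K.subtype) (S.isPGroup'.map _) hS
        have h2 : (S : Subgroup K) ≤ Mb.subgroupOf K := fun x hx => h1 ⟨x, hx, rfl⟩
        have h3 := Subgroup.card_dvd_of_le h2
        rw [S.card_eq_multiplicity] at h3
        exact (hr.pow_dvd_iff_le_factorization Nat.card_pos.ne').mp h3
      exact Subgroup.subgroupOf_eq_top.mp key
    have hX : S ⊔ Mb = ⊤ := (hcoatom _ le_sup_right).resolve_left fun e => hSM (e ▸ le_sup_left)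
    set N := S ⊔ (Subgroup.center G).map π with hN'
    have hSN : (Tb : Subgroup (G ⧸ O)) ≤ Subgroup.normalizer (N : Set (G ⧸ O)) :=
      (le_inf hSn (le_trans le_top (Subgroup.normalizer_eq_top_iff.mpr
        (Subgroup.Normal.map inferInstance π hsurj)).ge)).trans
        (Subgroup.normalizer_inf_normalizer_le_normalizer_sup _ _)
    have hNn : N.Normal := by
      refine Subgroup.normalizer_eq_top_iff.mp (top_le_iff.mp (hX.ge.trans (sup_le ?_ ?_)))
      · exact le_sup_left.trans Subgroup.le_normalizer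
      · rw [hMb', ← hTb]
        exact sup_le hSN (le_sup_right.trans Subgroup.le_normalizer)
    have hNT : N ⊔ (Tb : Subgroup (G ⧸ O)) = ⊤ := top_le_iff.mp (hX.ge.trans (by
      rw [hMb', ← hTb]
      exact sup_le (le_sup_left.trans le_sup_left) (sup_le le_sup_right (le_sup_right.trans le_sup_left))))
    have : Group.IsNilpotent S := hS.isNilpotent
    have hcomm : ∀ (a : S) (b : (Subgroup.center G).map π),
        Commute (S.subtype a) (((Subgroup.center G).map π).subtype b) := fun a b =>
      Subgroup.mem_center_iff.mp (hZc b.2) a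
    have : IsMulCommutative ((Subgroup.center G).map π) :=
      ⟨⟨fun a b => Subtype.ext (Subgroup.mem_center_iff.mp (hZc b.2) a)⟩⟩
    have hNs : Group.IsSolvable N := by
      have : Group.IsSolvable ((Subgroup.center G).map π) :=
        Group.isSolvable_of_comm fun a b => mul_comm' a b
      have e : (MonoidHom.noncommCoprod S.subtype ((Subgroup.center G).map π).subtype hcomm).range = N := by
        rw [MonoidHom.noncommCoprod_range, Subgroup.range_subtype, Subgroup.range_subtype]
      rw [← e]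
      exact Group.isSolvable_of_surjective (MonoidHom.rangeRestrict_surjective _)
    have hTq : Function.Surjective ((QuotientGroup.mk' N).comp (Tb : Subgroup (G ⧸ O)).subtype) := by
      rw [← MonoidHom.range_eq_top, MonoidHom.range_comp, Subgroup.range_subtype]
      have h2 := congrArg (Subgroup.map (QuotientGroup.mk' N)) hNT
      rwa [Subgroup.map_sup, QuotientGroup.map_mk'_self, bot_sup_eq,
        Subgroup.map_top_of_surjective _ (QuotientGroup.mk'_surjective N)] at h2
    have : Group.IsSolvable ((G ⧸ O) ⧸ N) := Group.isSolvable_of_surjective hTq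
    have : Group.IsSolvable (G ⧸ O) := (Group.isSolvable_iff_subgroup_quotient N).mpr ⟨hNs, inferInstance⟩
    have : Group.IsNilpotent O := (T.isPGroup'.to_le hOT).isNilpotent
    exact (Group.isSolvable_iff_subgroup_quotient O).mpr ⟨inferInstance, inferInstance⟩
  · -- `C(u)` has no Sylow subgroup of `G`; it is normal
    left
    have hlt : R.subgroupOf T < ⊤ := lt_top_iff_ne_top.mpr fun e => hTR (Subgroup.subgroupOf_eq_top.mp e)
    have : Group.IsNilpotent (T : Subgroup G) := T.isPGroup'.isNilpotent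
    obtain ⟨⟨t, htT⟩, ht, htR⟩ := SetLike.exists_of_lt
      (Group.normalizerCondition_of_isNilpotent (G := (T : Subgroup G)) _ hlt)
    have htN : t ∈ Subgroup.normalizer (R : Set G) := by
      rw [← Subgroup.subgroupOf_normalizer_eq hT] at ht
      exact ht
    have htM : t ∉ M := fun hm => htR (hmem t hm (hpo _ T.isPGroup' t htT))
    have hRtop : Subgroup.normalizer (R : Set G) = ⊤ :=
      (h u huZ).2 _ (lt_of_le_of_ne hRn fun e => htM (e.ge htN))
    have hRnor : R.Normal := Subgroup.normalizer_eq_top_iff.mp hRtop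
    by_cases hv : ∃ v ∈ M, (orderOf v).Coprime p ∧ v ∉ Subgroup.center G
    · obtain ⟨v, hvM, hvo, hvc⟩ := hv
      have := normal_of_witness h huZ huo huR hRM hvM hvo hvc
      exact solvable_of_normal_coatom (h u huZ) hMs
    push Not at hv
    have hMeq : M = R ⊔ Subgroup.center G := by
      refine le_antisymm (fun x hx => ?_) (sup_le hRM (fun z hz =>
        Subgroup.mem_centralizer_singleton_iff.mpr (Subgroup.mem_center_iff.mp hz u).symm))
      obtain ⟨a, b, hab, ha, hb, hak, hbo⟩ := split p x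
      rw [← hab]
      exact Subgroup.mul_mem_sup (hmem a (Subgroup.zpowers_le.mpr hx ha) hak)
        (hv b (Subgroup.zpowers_le.mpr hx hb) hbo)
    have : M.Normal := by rw [hMeq]; infer_instance
    exact solvable_of_normal_coatom (h u huZ) hMs

end

/-- Let G be a finite group in which the centralizer of every non-central element is a maximal subgroup of G. Then G is solvable. -/
theorem result {G : Type*} [Group G] [Finite G]
    (h : ∀ g : G, g ∉ Subgroup.center G → IsCoatom (Subgroup.centralizer ({g} : Set G))) :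
    Group.IsSolvable G := by
  by_contra hns
  have hcomp : ∀ p : ℕ, [Fact p.Prime] → p ≠ 2 → Cfsg.HasNormalPComplement p G := fun p _ hp =>
    (odd_step h hp).resolve_left hns
  obtain ⟨n, hn⟩ : ∃ n, ∀ m, Nat.card (derivedSeries G n) ≤ Nat.card (derivedSeries G m) :=
    ⟨_, fun m => Function.argmin_le (fun i => Nat.card (derivedSeries G i)) m⟩
  set R := derivedSeries G n with hR
  have hRle : ∀ m, R ≤ derivedSeries G m := fun m => by
    rcases le_total m n with h1 | h1
    · exact derivedSeries_antitone G h1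
    · exact (Subgroup.eq_of_le_of_card_ge (derivedSeries_antitone G h1) (hn m)).ge
  have h2 : IsPGroup 2 R := by
    refine IsPGroup.of_card (n := (Nat.card R).primeFactorsList.length)
      (Nat.eq_prime_pow_of_unique_prime_dvd Nat.card_pos.ne' fun {d} hd hdvd => ?_)
    by_contra hd2
    have := Fact.mk hd
    obtain ⟨P⟩ : Nonempty (Sylow d G) := inferInstance
    set K := Cfsg.pPrimeCore d G
    have hK := CfsgLib.hasNormalPComplement_iff.mp (hcomp d hd2)
    have hsurj : Function.Surjective ((QuotientGroup.mk' K).comp (P : Subgroup G).subtype) := by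
      rw [← MonoidHom.range_eq_top, MonoidHom.range_comp, Subgroup.range_subtype]
      have h2 := congrArg (Subgroup.map (QuotientGroup.mk' K))
        (CfsgLib.pPrimeCore_isComplement'_sylow hK P).sup_eq_top
      rwa [Subgroup.map_sup, QuotientGroup.map_mk'_self, bot_sup_eq,
        Subgroup.map_top_of_surjective _ (QuotientGroup.mk'_surjective K)] at h2
    have : Group.IsNilpotent (P : Subgroup G) := P.isPGroup'.isNilpotent
    have hs : Group.IsSolvable (G ⧸ K) := Group.isSolvable_of_surjective hsurj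
    obtain ⟨m, hm⟩ := hs.solvable
    rw [← map_derivedSeries_eq (QuotientGroup.mk'_surjective K), Subgroup.map_eq_bot_iff,
      QuotientGroup.ker_mk'] at hm
    have h3 := hdvd.trans (Subgroup.card_dvd_of_le ((hRle m).trans hm))
    exact hd.coprime_iff_not_dvd.mp (CfsgLib.card_pPrimeCore_coprime (G := G) d).symm h3
  have : Group.IsNilpotent R := h2.isNilpotent
  have : R.Normal := derivedSeries_normal G n
  have : Group.IsSolvable (G ⧸ R) := ⟨n, by
    rw [← map_derivedSeries_eq (QuotientGroup.mk'_surjective R), Subgroup.map_eq_bot_iff, QuotientGroup.ker_mk']⟩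
  exact hns ((Group.isSolvable_iff_subgroup_quotient R).mpr ⟨inferInstance, inferInstance⟩)

end Cfsg.Agent.S4262
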