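import Cfsg.Statements.S4263
import Cfsg.Agent.Lib.Basic

set_option autoImplicit false
open Cfsg

namespace Cfsg.Agent.S4263

/-- In a finite nilpotent group `x ^ [G : K]` lies in `K`. -/
theorem pow_index_mem_nilpotent {N : Type*} [Group N] [Finite N] [Group.IsNilpotent N]
    (K : Subgroup N) (x : N) : x ^ K.index ∈ K := by
  induction K using WellFoundedGT.induction generalizing x with
  | _ K ih =>
    by_cases hK : K = ⊤
    · simp [hK]
    have hlt : K < Subgroup.normalizer (K : Set N) :=
      Group.normalizerCondition_of_isNilpotent (G := N) K (lt_top_iff_ne_top.mpr hK)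
    have hy := ih _ hlt x
    have hd : K.relIndex (Subgroup.normalizer (K : Set N)) * (Subgroup.normalizer (K : Set N)).index = K.index :=
      Subgroup.relIndex_mul_index Subgroup.le_normalizer
    rw [← hd, mul_comm, pow_mul]
    have hn : (K.subgroupOf (Subgroup.normalizer (K : Set N))).Normal := Subgroup.normal_in_normalizer
    exact (K.subgroupOf (Subgroup.normalizer (K : Set N))).pow_index_mem ⟨_, hy⟩

/-- Let G be a finite group. An element x lies in the Fitting subgroup F(G) if and only if, for every subgroup H of G, the power x^[G : H] lies in H. -/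
theorem result {G : Type*} [Group G] [Finite G] (x : G) :
    x ∈ Cfsg.fittingSubgroup G ↔ ∀ H : Subgroup G, x ^ H.index ∈ H := by
  constructor
  · intro hx H
    have := CfsgLib.isNilpotent_fittingSubgroup (G := G)
    have h1 := pow_index_mem_nilpotent (H.subgroupOf (fittingSubgroup G)) ⟨x, hx⟩
    have h2 : (H.subgroupOf (fittingSubgroup G)).index ∣ H.index := by
      change H.relIndex (fittingSubgroup G) ∣ H.index
      rw [← Subgroup.relIndex_mul_index (le_sup_left : H ≤ H ⊔ fittingSubgroup G)]
      refine Dvd.dvd.mul_right ?_ _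
      set F := fittingSubgroup G
      have h3 : F.relIndex (H ⊔ F) = F.relIndex H := Subgroup.relIndex_sup_right _ _
      have a1 := Subgroup.relIndex_mul_relIndex (H ⊓ F) H (H ⊔ F) inf_le_left le_sup_left
      have a2 := Subgroup.relIndex_mul_relIndex (H ⊓ F) F (H ⊔ F) inf_le_right le_sup_right
      rw [Subgroup.inf_relIndex_left] at a1
      rw [Subgroup.inf_relIndex_right, h3, ← a1, mul_comm (H.relIndex F)] at a2
      have h4 : H.relIndex F = H.relIndex (H ⊔ F) :=
        Nat.eq_of_mul_eq_mul_left (Nat.pos_of_ne_zero Subgroup.index_ne_zero_of_finite) a2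
      rw [h4]
    obtain ⟨c, hc⟩ := h2
    rw [hc, pow_mul]
    exact pow_mem h1 c
  · intro h
    by_contra hxF
    set y : G ⧸ fittingSubgroup G := QuotientGroup.mk x
    have hy : orderOf y ≠ 1 := by
      intro hy
      exact hxF ((QuotientGroup.eq_one_iff x).mp (orderOf_eq_one_iff.mp hy))
    obtain ⟨p, hp, hpd⟩ := Nat.exists_prime_and_dvd hy
    have := Fact.mk hp
    have hkey : x ^ ordCompl[p] (orderOf x) ∈ pCore p G := by
      set b := ordCompl[p] (orderOf x) with hb
      have hmem : ∀ P : Sylow p G, x ^ b ∈ (P : Subgroup G) := by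
        intro P
        have h1 : x ^ Nat.gcd (P : Subgroup G).index (orderOf x) ∈ (P : Subgroup G) := by
          have hz := Nat.gcd_eq_gcd_ab (P : Subgroup G).index (orderOf x)
          rw [← zpow_natCast, hz, zpow_add, zpow_mul, zpow_mul, zpow_natCast, zpow_natCast,
            pow_orderOf_eq_one, one_zpow, mul_one]
          exact zpow_mem (h P) _
        have h2 : Nat.gcd (P : Subgroup G).index (orderOf x) ∣ b := by
          apply Nat.Coprime.dvd_of_dvd_mul_left (k := (Nat.gcd (P : Subgroup G).index (orderOf x)))  (m := ordProj[p] (orderOf x)) (n := b) ?_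
          · rw [hb, Nat.ordProj_mul_ordCompl_eq_self]
            exact Nat.gcd_dvd_right _ _
          · apply Nat.Coprime.pow_right
            exact (Nat.Coprime.coprime_dvd_left (Nat.gcd_dvd_left _ _)
              ((hp.coprime_iff_not_dvd.mpr P.not_dvd_index).symm))
        obtain ⟨c, hc⟩ := h2
        rw [hc, pow_mul]
        exact pow_mem h1 c
      set D : Subgroup G := ⨅ P : Sylow p G, (P : Subgroup G) with hD
      obtain ⟨P₀⟩ : Nonempty (Sylow p G) := inferInstance
      have hDn : D.Normal := by
        constructor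
        intro n hn g
        rw [hD, Subgroup.mem_iInf] at hn ⊢
        intro P
        have := hn (g⁻¹ • P)
        rw [Sylow.coe_subgroup_smul, Subgroup.mem_pointwise_smul_iff_inv_smul_mem] at this
        simpa [MulAut.smul_def, mul_assoc] using this
      exact CfsgLib.le_pCore (P₀.isPGroup'.to_le (iInf_le _ P₀)) (Subgroup.mem_iInf.mpr hmem)
    have hdvd : orderOf y ∣ ordCompl[p] (orderOf x) := by
      rw [orderOf_dvd_iff_pow_eq_one]
      exact (QuotientGroup.eq_one_iff _).mpr (CfsgLib.pCore_le_fittingSubgroup hp hkey)
    exact Nat.not_dvd_ordCompl hp (orderOf_pos x).ne' (hpd.trans hdvd)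

end Cfsg.Agent.S4263
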