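import Cfsg.Statements.S4265
import Cfsg.Agent.Lib.SolvClass.Main
import Cfsg.Agent.Lib.SolvClass.Irreducible

set_option autoImplicit false
open Cfsg

namespace Cfsg.Agent.S4265

/-- Let G be a finite solvable subgroup of GL_r(ℂ), r ≥ 1, with Fitting subgroup F(G) normal in G. Then for every subgroup H of G the quotient H/(H ∩ F(G)) has at most 3^{r−1} conjugacy classes. -/
theorem result (r : ℕ) (hr : 1 ≤ r) (G : Subgroup (GL (Fin r) ℂ)) [Finite ↥G] (hsolv : Group.IsSolvable ↥G) [hF : (Cfsg.fittingSubgroup ↥G).Normal] (H : Subgroup ↥G) : Nat.card (ConjClasses (↥H ⧸ (Cfsg.fittingSubgroup ↥G).subgroupOf H)) ≤ 3 ^ (r - 1) := by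
  haveI := hsolv
  let ρ : ↥G →* ((Fin r → ℂ) ≃ₗ[ℂ] (Fin r → ℂ)) :=
    ((LinearMap.GeneralLinearGroup.generalLinearEquiv ℂ (Fin r → ℂ)).toMonoidHom.comp
      (Matrix.GeneralLinearGroup.toLin (n := Fin r) (R := ℂ)).toMonoidHom).comp G.subtype
  have hρ : Function.Injective ρ :=
    (((LinearMap.GeneralLinearGroup.generalLinearEquiv ℂ (Fin r → ℂ)).injective).comp
      ((Matrix.GeneralLinearGroup.toLin (n := Fin r) (R := ℂ)).injective)).comp G.subtype_injective
  have h := CfsgLib.SolvClass.fitting_quotient_bound (fun N => CfsgLib.SolvClass.irreducibleBound N) r ↥G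
    (Fin r → ℂ) ρ hρ (Module.finrank_fin_fun ℂ) hr
  let j := QuotientGroup.map ((Cfsg.fittingSubgroup ↥G).subgroupOf H) (Cfsg.fittingSubgroup ↥G) H.subtype le_rfl
  have hj : Function.Injective j := (injective_iff_map_eq_one _).mpr fun x => QuotientGroup.induction_on x
    fun y hy => (QuotientGroup.eq_one_iff y).mpr ((QuotientGroup.eq_one_iff (y : ↥G)).mp hy :)
  exact (CfsgLib.SolvClass.card_conjClasses_congr_le (Subgroup.topEquiv (G := ↥H ⧸ _)).toMonoidHom
    (MulEquiv.surjective _)).trans ((h.of_injective j hj) ⊤)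

end Cfsg.Agent.S4265
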