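import Cfsg.Statements.S4269
import Mathlib
import Cfsg.Agent.Lib.Coprime
-- import your own Cfsg.Agent.* helpers here

set_option autoImplicit false
open Cfsg

namespace Cfsg.Agent.S4269

open scoped commutatorElement

/-- Let G be a finite group, V an abelian normal subgroup and H a subgroup with HV = G. Then H is pronormal in G (H and gHg⁻¹ are conjugate inside the subgroup they generate, for every g) if and only if every H-invariant subgroup U of V satisfies U = N_U(H)·[H, U], that is, U is the join of U ∩ N_G(H) and the commutator subgroup [H, U]. -/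
theorem result {G : Type*} [Group G] [Finite G]
    (V : Subgroup G) [V.Normal] (hV : IsMulCommutative ↥V) (H : Subgroup G) (hHV : H ⊔ V = ⊤) :
    Cfsg.IsPronormal H ↔
      ∀ U : Subgroup G, U ≤ V → (∀ h ∈ H, U.map (MulAut.conj h).toMonoidHom = U) →
        U = (U ⊓ Subgroup.normalizer (H : Set G)) ⊔ ⁅H, U⁆ := by
  classical
  have hmap : ∀ (g : G) (x : G), x ∈ H.map (MulAut.conj g).toMonoidHom ↔ g⁻¹ * x * g ∈ H := by
    intro g x
    constructor
    · rintro ⟨k, hk, rfl⟩
      simpa [mul_assoc] using hk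
    · exact fun h => ⟨_, h, by simp [mul_assoc]⟩
  constructor
  · intro hpro U hUV hUH
    have hHU : H ≤ Subgroup.normalizer (U : Set G) := by
      intro h hh
      rw [Subgroup.mem_normalizer_iff]
      intro z
      constructor
      · intro hz
        rw [← hUH h hh]
        exact ⟨z, hz, rfl⟩
      · intro hz
        rw [← hUH h hh] at hz
        obtain ⟨w, hw, e⟩ := hz
        have : w = z := (MulAut.conj h).injective e
        rwa [← this]
    have hC : ⁅H, U⁆ ≤ U := by
      rw [Subgroup.commutator_comm]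
      exact CfsgLib.commutator_le_of_le_normalizer hHU
    refine le_antisymm (fun u hu => ?_) (sup_le inf_le_left hC)
    obtain ⟨x, hx, he⟩ := hpro u
    have hle : H ⊔ H.map (MulAut.conj u).toMonoidHom ≤ H ⊔ ⁅H, U⁆ := by
      refine sup_le le_sup_left fun z hz => ?_
      rw [hmap] at hz
      have h1 := Subgroup.commutator_mem_commutator (H.inv_mem hz) hu
      have h2 := mul_mem (Subgroup.mem_sup_left hz : u⁻¹ * z * u ∈ H ⊔ ⁅H, U⁆)
        (Subgroup.mem_sup_right h1)
      simpa [commutatorElement_def, mul_assoc] using h2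
    obtain ⟨c, hc, h, hh, rfl⟩ := CfsgLib.mem_sup_of_le_normalizer
      (CfsgLib.left_le_normalizer_commutator U H) (sup_comm H ⁅H, U⁆ ▸ hle hx)
    have hcU : c ∈ U := hC hc
    have hn : c⁻¹ * u ∈ Subgroup.normalizer (H : Set G) := by
      rw [Subgroup.mem_normalizer_iff]
      intro z
      have key : ∀ w, u⁻¹ * w * u ∈ H ↔ (c * h)⁻¹ * w * (c * h) ∈ H := fun w => by
        rw [← hmap, ← hmap, he]
      have h1 := key (u * z * u⁻¹)
      rw [show u⁻¹ * (u * z * u⁻¹) * u = z by group] at h1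
      rw [h1, show (c * h)⁻¹ * (u * z * u⁻¹) * (c * h)
        = h⁻¹ * (c⁻¹ * u * z * (c⁻¹ * u)⁻¹) * h by group]
      refine ⟨fun hz => ?_, fun hz => H.mul_mem (H.mul_mem (H.inv_mem hh) hz) hh⟩
      have h2 := H.mul_mem (H.mul_mem hh hz) (H.inv_mem hh)
      simpa [mul_assoc] using h2
    have hcomm : u = (c⁻¹ * u) * c := by
      have hVc := (Subgroup.le_centralizer_iff_isMulCommutative.mpr hV) (hUV hcU)
      rw [mul_assoc, ← Subgroup.mem_centralizer_iff.mp hVc u (hUV hu) |>.symm]
      group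
    rw [hcomm]
    exact Subgroup.mul_mem_sup (Subgroup.mem_inf.mpr ⟨U.mul_mem (U.inv_mem hcU) hu, hn⟩) hc
  · intro hcond g
    obtain ⟨v, hv, k₀, hk₀, rfl⟩ := Subgroup.mem_sup_of_normal_left.mp
      (show g ∈ V ⊔ H by rw [sup_comm, hHV]; exact Subgroup.mem_top g)
    have hVcomm : ∀ a ∈ V, ∀ b ∈ V, a * b = b * a := fun a ha b hb =>
      (Subgroup.mem_centralizer_iff.mp ((Subgroup.le_centralizer_iff_isMulCommutative.mpr hV) hb) a ha)
    set J := H ⊔ H.map (MulAut.conj (v * k₀)).toMonoidHom with hJ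
    have hHv : H.map (MulAut.conj (v * k₀)).toMonoidHom = H.map (MulAut.conj v).toMonoidHom := by
      ext z
      rw [hmap, hmap, show (v * k₀)⁻¹ * z * (v * k₀) = k₀⁻¹ * (v⁻¹ * z * v) * k₀ by group]
      refine ⟨fun hz => ?_, fun hz => H.mul_mem (H.mul_mem (H.inv_mem hk₀) hz) hk₀⟩
      have h2 := H.mul_mem (H.mul_mem hk₀ hz) (H.inv_mem hk₀)
      simpa [mul_assoc] using h2
    have hJv : ∀ h ∈ H, h * v * h⁻¹ * v⁻¹ ∈ J := by
      intro h hh
      have h1 : v * h⁻¹ * v⁻¹ ∈ H.map (MulAut.conj (v * k₀)).toMonoidHom := by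
        rw [hHv, hmap]; simpa [mul_assoc] using hh
      have := mul_mem (Subgroup.mem_sup_left hh : h ∈ J) (Subgroup.mem_sup_right h1)
      simp only [mul_assoc] at this ⊢
      exact this
    set U := Subgroup.closure {x : G | ∃ k ∈ H, k * v * k⁻¹ = x}
    have hUV : U ≤ V := (Subgroup.closure_le V).mpr (by
      rintro _ ⟨k, -, rfl⟩
      exact (inferInstance : V.Normal).conj_mem v hv k)
    have hinv : ∀ h ∈ H, U.map (MulAut.conj h).toMonoidHom = U := by
      intro h hh
      rw [MonoidHom.map_closure]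
      congr 1
      ext z
      constructor
      · rintro ⟨_, ⟨k, hk, rfl⟩, rfl⟩
        exact ⟨h * k, H.mul_mem hh hk, by simp [mul_assoc]⟩
      · rintro ⟨k, hk, rfl⟩
        exact ⟨(h⁻¹ * k) * v * (h⁻¹ * k)⁻¹, ⟨_, H.mul_mem (H.inv_mem hh) hk, rfl⟩, by simp [mul_assoc]⟩
    have hUJ : ∀ u ∈ U, ∀ h ∈ H, h * u * h⁻¹ * u⁻¹ ∈ J := by
      intro u hu
      induction hu using Subgroup.closure_induction with
      | mem x hx =>
        obtain ⟨k, hk, rfl⟩ := hx
        intro h hh
        have := mul_mem (mul_mem (Subgroup.mem_sup_left hk : k ∈ J)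
          (hJv _ (H.mul_mem (H.mul_mem (H.inv_mem hk) hh) hk))) (inv_mem (Subgroup.mem_sup_left hk))
        simp only [mul_inv_rev, inv_inv, mul_assoc, mul_inv_cancel_left] at this ⊢
        exact this
      | one => intro h hh; simp
      | mul a b ha hb iha ihb =>
        intro h hh
        have e : h * (a * b) * h⁻¹ * (a * b)⁻¹ =
            h * a * h⁻¹ * ((h * b * h⁻¹ * b⁻¹) * a⁻¹) := by group
        have hbV : h * b * h⁻¹ * b⁻¹ ∈ V :=
          V.mul_mem ((inferInstance : V.Normal).conj_mem b (hUV hb) h) (V.inv_mem (hUV hb))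
        rw [e, hVcomm _ hbV _ (V.inv_mem (hUV ha)), ← mul_assoc]
        exact mul_mem (iha h hh) (ihb h hh)
      | inv a ha iha =>
        intro h hh
        have e : h * a⁻¹ * h⁻¹ * (a⁻¹)⁻¹ = (h * a * h⁻¹)⁻¹ * a := by group
        have haV := (inferInstance : V.Normal).conj_mem a (hUV ha) h
        rw [e, show (h * a * h⁻¹)⁻¹ * a = a * (h * a * h⁻¹)⁻¹ from
          (hVcomm _ (hUV ha) _ (V.inv_mem haV)).symm]
        simpa [mul_assoc] using inv_mem (iha h hh)
    have hCJ : ⁅H, U⁆ ≤ J := by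
      rw [Subgroup.commutator_le]
      intro h hh u hu
      rw [commutatorElement_def]
      exact hUJ u hu h hh
    have hnorm : H ≤ Subgroup.normalizer (U : Set G) := by
      intro h hh
      rw [Subgroup.mem_normalizer_iff]
      intro z
      conv_rhs => rw [← hinv h hh]
      constructor
      · exact fun hz => ⟨z, hz, rfl⟩
      · rintro ⟨w, hw, e⟩
        have : w = z := (MulAut.conj h).injective e
        rwa [← this]
    have hC : ⁅H, U⁆ ≤ U := by
      rw [Subgroup.commutator_comm]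
      exact CfsgLib.commutator_le_of_le_normalizer hnorm
    have hvU : v ∈ U := Subgroup.subset_closure ⟨1, H.one_mem, by simp⟩
    have hle : U ⊓ Subgroup.normalizer (H : Set G) ≤ Subgroup.centralizer ((⁅H, U⁆ : Subgroup G) : Set G) := fun n hn =>
      Subgroup.mem_centralizer_iff.mpr fun c hc => hVcomm c (hUV (hC hc)) n (hUV (Subgroup.mem_inf.mp hn).1)
    rw [hcond U hUV hinv] at hvU
    obtain ⟨c, hc, n, hn, rfl⟩ := CfsgLib.mem_sup_of_le_normalizer
      (hle.trans (Subgroup.centralizer_le_normalizer _)) (sup_comm _ ⁅H, U⁆ ▸ hvU)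
    refine ⟨c, hCJ hc, ?_⟩
    rw [hHv]
    ext z
    rw [hmap, hmap]
    have := Subgroup.mem_normalizer_iff.mp (inv_mem (Subgroup.mem_inf.mp hn).2) (c⁻¹ * z * c)
    rw [show (c * n)⁻¹ * z * (c * n) = n⁻¹ * (c⁻¹ * z * c) * n⁻¹⁻¹ by group]
    exact this.symm

end Cfsg.Agent.S4269
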