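import Cfsg.Statements.S4271
import Mathlib
import Cfsg.Agent.Lib.PronormalSylow
-- import your own Cfsg.Agent.* helpers here

set_option autoImplicit false
open Cfsg

namespace Cfsg.Agent.S4271

/-- Let p be a prime and G a finite group with a normal subgroup A such that every subgroup of A containing a Sylow p-subgroup of A is pronormal in A, and the Sylow p-subgroups of G/A are self-normalizing. Let T be a Sylow p-subgroup of A. Then every subgroup of G containing a Sylow p-subgroup of G is pronormal in G if and only if every subgroup of N_G(T)/T containing a Sylow p-subgroup of N_G(T)/T is pronormal in N_G(T)/T. (Pronormal: H and gHg⁻¹ are conjugate inside the subgroup they generate, for every g.) -/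
theorem result {G : Type*} [Group G] [Finite G] {p : ℕ} [Fact p.Prime]
    (A : Subgroup G) [A.Normal] (hA : (∀ K : Subgroup ↥A, (∃ P : Sylow p ↥A, (P : Subgroup ↥A) ≤ K) → Cfsg.IsPronormal K))
    (hQ : ∀ P : Sylow p (G ⧸ A), Subgroup.normalizer ((P : Subgroup (G ⧸ A)) : Set (G ⧸ A)) = P)
    (T : Subgroup G) (hT : ∃ P : Sylow p ↥A, (P : Subgroup ↥A).map A.subtype = T) [(T.subgroupOf (Subgroup.normalizer (T : Set G))).Normal] :
    (∀ K : Subgroup G, (∃ P : Sylow p G, (P : Subgroup G) ≤ K) → Cfsg.IsPronormal K) ↔ (∀ K : Subgroup (↥(Subgroup.normalizer (T : Set G)) ⧸ T.subgroupOf (Subgroup.normalizer (T : Set G))), (∃ P : Sylow p (↥(Subgroup.normalizer (T : Set G)) ⧸ T.subgroupOf (Subgroup.normalizer (T : Set G))), (P : Subgroup (↥(Subgroup.normalizer (T : Set G)) ⧸ T.subgroupOf (Subgroup.normalizer (T : Set G)))) ≤ K) → Cfsg.IsPronormal K) := by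
  classical
  constructor
  · intro hG
    obtain ⟨P0, hP0⟩ := CfsgLib.PronSyl.exists_sylow_le_normalizer A T hT
    exact fun K hK => CfsgLib.PronSyl.quotient_pronormal hG _ P0 hP0 _ K hK
  · intro hN K hK
    have key : ∀ (L : Subgroup (G ⧸ A)) (P : Sylow p (G ⧸ A)), (P : Subgroup (G ⧸ A)) ≤ L →
        ∀ g : G ⧸ A, ∀ S : Subgroup (G ⧸ A), (P : Subgroup (G ⧸ A)) ≤ S →
          CfsgLib.PronSyl.cj g (P : Subgroup (G ⧸ A)) ≤ S → L ≤ L ⊔ S →
          ∃ x ∈ S, x⁻¹ * g ∈ L := by
      intro L P hPL g S hPS hgS _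
      have hgS' : ((g • P : Sylow p (G ⧸ A)) : Subgroup (G ⧸ A)) ≤ S := by
        rw [Sylow.coe_subgroup_smul, Subgroup.pointwise_smul_def]; exact hgS
      obtain ⟨s, hs⟩ := MulAction.exists_smul_eq S (P.subtype hPS) ((g • P).subtype hgS')
      refine ⟨s, s.2, hPL ?_⟩
      rw [Sylow.smul_subtype] at hs
      have h2 : (s : G ⧸ A) • P = g • P := Sylow.subtype_injective hs
      rw [← hQ P]
      refine Sylow.smul_eq_iff_mem_normalizer.mp ?_
      rw [mul_smul, ← h2, inv_smul_smul]
    have hpr : ∀ L : Subgroup (G ⧸ A), (∃ P : Sylow p (G ⧸ A), (P : Subgroup (G ⧸ A)) ≤ L) →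
        Cfsg.IsPronormal L := by
      rintro L ⟨P, hPL⟩ g
      obtain ⟨x, hx, hxg⟩ := key L P hPL g _ (hPL.trans le_sup_left)
        ((Subgroup.map_mono hPL).trans le_sup_right) le_sup_left
      refine ⟨x, hx, ?_⟩
      change CfsgLib.PronSyl.cj g L = CfsgLib.PronSyl.cj x L
      conv_lhs => rw [show g = x * (x⁻¹ * g) by group, CfsgLib.PronSyl.cj_mul,
        CfsgLib.PronSyl.cj_eq_self hxg]
    refine CfsgLib.PronSyl.criterion A hA hpr T hT hN ?_ K hK
    rintro L ⟨P, hPL⟩ g hg
    obtain ⟨l, hl, hlg⟩ := key (L.map (QuotientGroup.mk' A))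
      (P.mapSurjective (QuotientGroup.mk'_surjective _))
      (by rw [Sylow.coe_mapSurjective]; exact Subgroup.map_mono hPL) g (L.map (QuotientGroup.mk' A))
      (by rw [Sylow.coe_mapSurjective]; exact Subgroup.map_mono hPL)
      (by
        refine le_trans (Subgroup.map_mono ?_) (CfsgLib.PronSyl.cj_eq_iff.mpr hg).le
        rw [Sylow.coe_mapSurjective]; exact Subgroup.map_mono hPL) le_sup_left
    have : g ∈ L.map (QuotientGroup.mk' A) := by
      have := mul_mem hl hlg
      rwa [mul_inv_cancel_left] at this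
    exact Subgroup.map_mono Subgroup.le_normalizer this

end Cfsg.Agent.S4271
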