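import Cfsg.Statements.S4275
import Mathlib
-- import your own Cfsg.Agent.* helpers here

set_option autoImplicit false
open Cfsg

namespace Cfsg.Agent.S4275

/-- Let G be a transitive group of permutations of a finite set Ω, let o ∈ Ω, and let α be an automorphism of G. Then α is induced by conjugation by a permutation of Ω normalizing G if and only if the image under α of the stabilizer of o fixes some point of Ω. -/
theorem result {Ω : Type*} [Fintype Ω] (G : Subgroup (Equiv.Perm Ω)) (htr : MulAction.IsPretransitive G Ω) (o : Ω) (α : G ≃* G) : (∃ σ : Equiv.Perm Ω, σ ∈ Subgroup.normalizer (G : Set (Equiv.Perm Ω)) ∧ ∀ g : G, ((α g : G) : Equiv.Perm Ω) = σ * (g : Equiv.Perm Ω) * σ⁻¹) ↔ ∃ ω : Ω, ∀ g ∈ (MulAction.stabilizer G o).map α.toMonoidHom, g • ω = ω := by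
  classical
  have hβ : ∀ g : G, ∀ ω : Ω, g • ω = (g : Equiv.Perm Ω) ω := fun _ _ => rfl
  constructor
  · rintro ⟨σ, -, hσ⟩
    refine ⟨σ o, ?_⟩
    rintro _ ⟨h, hh, rfl⟩
    have hho : (h : Equiv.Perm Ω) o = o := hh
    rw [hβ]
    show ((α h : G) : Equiv.Perm Ω) (σ o) = σ o
    rw [hσ h, Equiv.Perm.mul_apply, Equiv.Perm.mul_apply, Equiv.Perm.inv_def, Equiv.symm_apply_apply, hho]
  · rintro ⟨ω, hω⟩
    have hstab : (MulAction.stabilizer G o).map α.toMonoidHom = MulAction.stabilizer G ω := by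
      refine Subgroup.eq_of_le_of_card_ge (fun g hg => hω g hg) (le_of_eq ?_)
      rw [Subgroup.card_map_of_injective (f := α.toMonoidHom) α.injective]
      obtain ⟨c, hc⟩ := htr.exists_smul_eq o ω
      exact (Nat.card_congr (MulAction.stabilizerEquivStabilizerOfOrbitRel ⟨c, hc⟩).toEquiv)
    let gg : Ω → G := fun x => Classical.choose (htr.exists_smul_eq o x)
    have hgg : ∀ x, gg x • o = x := fun x => Classical.choose_spec (htr.exists_smul_eq o x)
    let f : Ω → Ω := fun x => α (gg x) • ω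
    have hkey : ∀ g : G, f (g • o) = α g • ω := by
      intro g
      have h1 : g⁻¹ * gg (g • o) ∈ MulAction.stabilizer G o := by
        rw [MulAction.mem_stabilizer_iff, mul_smul, hgg, inv_smul_smul]
      have h2 := hω _ ⟨_, h1, rfl⟩
      show α (gg (g • o)) • ω = α g • ω
      rw [MulEquiv.coe_toMonoidHom, map_mul, map_inv, mul_smul, inv_smul_eq_iff] at h2
      exact h2
    have hinj : Function.Injective f := by
      intro x y hxy
      have h1 : (α ((gg y)⁻¹ * gg x)) ∈ MulAction.stabilizer G ω := by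
        rw [MulAction.mem_stabilizer_iff, map_mul, map_inv, mul_smul, inv_smul_eq_iff]
        exact hxy
      rw [← hstab] at h1
      obtain ⟨h, hh, hh'⟩ := h1
      have h2 : h = (gg y)⁻¹ * gg x := α.injective hh'
      subst h2
      have h3 := MulAction.mem_stabilizer_iff.mp hh
      rw [mul_smul, inv_smul_eq_iff, hgg, hgg] at h3
      exact h3
    let σ : Equiv.Perm Ω := Equiv.ofBijective f ⟨hinj, Finite.injective_iff_surjective.mp hinj⟩
    have hσ : ∀ g : G, ((α g : G) : Equiv.Perm Ω) = σ * (g : Equiv.Perm Ω) * σ⁻¹ := by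
      intro g
      rw [eq_mul_inv_iff_mul_eq]
      refine Equiv.ext fun x => ?_
      rw [Equiv.Perm.mul_apply, Equiv.Perm.mul_apply, ← hβ, ← hβ]
      show α g • f x = f (g • x)
      conv_lhs => rw [← hgg x, hkey]
      conv_rhs => rw [← hgg x, ← mul_smul, hkey, map_mul, mul_smul]
    refine ⟨σ, Subgroup.mem_normalizer_iff.mpr fun z => ⟨fun hz => ?_, fun hz => ?_⟩, hσ⟩
    · rw [← hσ ⟨z, hz⟩]
      exact (α ⟨z, hz⟩).2
    · have h1 := hσ (α.symm ⟨_, hz⟩)
      rw [MulEquiv.apply_symm_apply] at h1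
      have h2 : z = ((α.symm ⟨_, hz⟩ : G) : Equiv.Perm Ω) := mul_left_cancel (mul_right_cancel h1)
      rw [h2]
      exact (α.symm ⟨_, hz⟩).2

end Cfsg.Agent.S4275
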