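import Cfsg.Statements.S4276
import Mathlib
import Cfsg.Agent.S4275
import Cfsg.Agent.Lib.OddAutDesign
-- import your own Cfsg.Agent.* helpers here

set_option autoImplicit false
open Cfsg

namespace Cfsg.Agent.S4276

/-- Let G be a doubly transitive group of permutations of a finite set Ω of size n, let o ∈ Ω, and let α be an automorphism of G of odd order. Suppose that the image under α of the stabilizer of o has an orbit on Ω whose length k is coprime to n. Then α is induced by conjugation by a permutation of Ω normalizing G, and k = 1 or k = n − 1. -/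
theorem result {Ω : Type*} [Fintype Ω] (G : Subgroup (Equiv.Perm Ω)) (h2 : MulAction.IsMultiplyPretransitive G Ω 2) (o : Ω) (α : MulAut G) (hα : Odd (orderOf α)) (ω : Ω) (hk : (Nat.card (MulAction.orbit ((MulAction.stabilizer G o).map α.toMonoidHom) ω)).Coprime (Fintype.card Ω)) : (∃ σ : Equiv.Perm Ω, σ ∈ Subgroup.normalizer (G : Set (Equiv.Perm Ω)) ∧ ∀ g : G, ((α g : G) : Equiv.Perm Ω) = σ * (g : Equiv.Perm Ω) * σ⁻¹) ∧ (Nat.card (MulAction.orbit ((MulAction.stabilizer G o).map α.toMonoidHom) ω) = 1 ∨ Nat.card (MulAction.orbit ((MulAction.stabilizer G o).map α.toMonoidHom) ω) = Fintype.card Ω - 1) := by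
  classical
  have htr : MulAction.IsPretransitive G Ω := by
    haveI := h2
    exact MulAction.isPretransitive_of_is_two_pretransitive
  set K := (MulAction.stabilizer G o).map α.toMonoidHom
  set Δ := MulAction.orbit K ω with hΔ
  have hcases := CfsgLib.OddAutDesign.card_orbit G h2 o α hα ω hk
  refine ⟨(Cfsg.Agent.S4275.result G htr o α).mpr ?_, hcases.imp id (fun h => Nat.eq_sub_of_add_eq h)⟩
  rcases hcases with h1 | h1
  · refine ⟨ω, fun g hg => ?_⟩
    haveI := (Nat.card_eq_one_iff_unique.mp h1).1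
    exact congrArg Subtype.val (Subsingleton.elim (⟨g • ω, ⟨⟨g, hg⟩, rfl⟩⟩ : Δ) ⟨ω, MulAction.mem_orbit_self ω⟩)
  · -- the single point outside the orbit
    have hc : (Δᶜ : Set Ω).ncard = 1 := by
      rw [Set.ncard_compl, ← Nat.card_coe_set_eq, Nat.card_eq_fintype_card (α := Ω), ← h1, Nat.add_sub_cancel_left]
    obtain ⟨w, hw⟩ := Set.ncard_eq_one.mp hc
    refine ⟨w, fun g hg => ?_⟩
    have hwΔ : w ∉ Δ := by
      have : w ∈ (Δᶜ : Set Ω) := hw ▸ Set.mem_singleton w
      exact this
    have h2' : g • w ∈ (Δᶜ : Set Ω) := by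
      rintro ⟨d, hd⟩
      refine hwΔ ⟨⟨g, hg⟩⁻¹ * d, ?_⟩
      show ((⟨g, hg⟩ : K)⁻¹ * d) • ω = w
      rw [mul_smul, inv_smul_eq_iff]; exact hd
    rw [hw] at h2'
    exact h2'

end Cfsg.Agent.S4276
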