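import Cfsg.Statements.S4277
import Mathlib

namespace Cfsg.Agent.S4277

open scoped BigOperators commutatorElement

section

variable {G : Type*} [Group G] {Ω : Type*} [MulAction G Ω]

/-- Invariance of a kernel on pairs of points under the action twisted by `α` on the right. -/
def TwInv (α : MulAut G) (K : Ω → Ω → ℕ) : Prop := ∀ g a b, K (g • a) (α g • b) = K a b

variable [Fintype Ω]

/-- Product of kernels. -/
def kmul (K L : Ω → Ω → ℕ) : Ω → Ω → ℕ := fun a c => ∑ b, K a b * L b c

theorem twInv_kmul {α β : MulAut G} {K L : Ω → Ω → ℕ} (hK : TwInv α K) (hL : TwInv β L) :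
    TwInv (β * α) (kmul K L) := by
  intro g a c
  unfold kmul
  refine (Fintype.sum_equiv (MulAction.toPerm (α g)) _ _ ?_).symm
  intro b
  simp only [MulAction.toPerm_apply, MulAut.mul_apply]
  rw [hK, hL]

variable {a₀ : Ω} {τ : G} (hbij : Function.Bijective (fun u : Subgroup.zpowers τ => (u : G) • a₀))
  (hprime : (Fintype.card Ω).Prime)

theorem shift {α : MulAut G} {K : Ω → Ω → ℕ} (hK : TwInv α K) (hα : α τ = τ)
    (u : Subgroup.zpowers τ) (a b : Ω) : K ((u : G) • a) ((u : G) • b) = K a b := by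
  obtain ⟨k, hk⟩ := u.2
  have : α (u : G) = u := by
    simp only at hk
    rw [← hk, map_zpow, hα]
  have h := hK u a b
  rwa [this] at h

include hbij in
theorem kmul_comm {α β : MulAut G} {K L : Ω → Ω → ℕ} (hK : TwInv α K) (hL : TwInv β L)
    (hα : α τ = τ) (hβ : β τ = τ) : kmul K L = kmul L K := by
  funext a c
  obtain ⟨u, hu⟩ := hbij.2 a
  obtain ⟨v, hv⟩ := hbij.2 c
  simp only at hu hv
  let e : Subgroup.zpowers τ ≃ Ω := Equiv.ofBijective _ hbij
  haveI : Fintype (Subgroup.zpowers τ) := Fintype.ofEquiv Ω e.symm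
  unfold kmul
  rw [← e.sum_comp, ← e.sum_comp]
  refine Fintype.sum_equiv ((Equiv.inv _).trans (Equiv.mulLeft (u * v))) _ _ ?_
  intro w
  show K a ((w : G) • a₀) * L ((w : G) • a₀) c
    = L a (((u * v * w⁻¹ : Subgroup.zpowers τ) : G) • a₀) * K (((u * v * w⁻¹ : Subgroup.zpowers τ) : G) • a₀) c
  have hcomm : ∀ x y : Subgroup.zpowers τ, x * y = y * x := fun x y => by
    obtain ⟨i, hi⟩ := x.2; obtain ⟨j, hj⟩ := y.2
    apply Subtype.ext
    simp only [Subgroup.coe_mul, ← hi, ← hj]
    rw [← zpow_add, ← zpow_add, add_comm]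
  have norm : ∀ (γ : MulAut G) (M : Ω → Ω → ℕ), TwInv γ M → γ τ = τ →
      ∀ x y : Subgroup.zpowers τ, M ((x : G) • a₀) ((y : G) • a₀)
        = M a₀ (((x⁻¹ * y : Subgroup.zpowers τ) : G) • a₀) := by
    intro γ M hM hγ x y
    have h := shift hM hγ x a₀ (((x⁻¹ * y : Subgroup.zpowers τ) : G) • a₀)
    rw [← h, ← mul_smul]
    congr 2
    simp
  rw [← hu, ← hv, norm α K hK hα, norm β L hL hβ, norm β L hL hβ, norm α K hK hα]
  rw [mul_comm]
  congr 3
  · simp only [mul_inv_rev, inv_inv, mul_assoc, inv_mul_cancel_left]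
    rw [hcomm (w⁻¹) v]
  · simp only [mul_inv_rev, inv_inv, mul_assoc]
    rw [hcomm u⁻¹ w, hcomm u⁻¹ v]
    simp

include hbij in
theorem const_row {α : MulAut G} {K : Ω → Ω → ℕ} (hK : TwInv α K) (hα : α τ = τ) (b : Ω) :
    ∑ c, K b c = ∑ c, K a₀ c := by
  obtain ⟨u, hu⟩ := hbij.2 b
  simp only at hu
  refine (Fintype.sum_equiv (MulAction.toPerm (u : G)) _ _ ?_).symm
  intro c
  rw [MulAction.toPerm_apply, ← hu, shift hK hα]

include hbij hprime in
theorem eq_of_common {γ₁ γ₂ : MulAut G} [FaithfulSMul G Ω] {M : Ω → Ω → ℕ}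
    (h1 : TwInv γ₁ M) (h2 : TwInv γ₂ M) (hγ : γ₁ τ = τ)
    (hnc : ∃ c, M a₀ c ≠ M a₀ a₀) : γ₁ = γ₂ := by
  apply MulEquiv.ext
  intro g
  apply eq_of_smul_eq_smul (α := Ω)
  intro b
  by_contra hne
  obtain ⟨v₁, hv₁⟩ := hbij.2 (γ₁ g • b)
  obtain ⟨v₂, hv₂⟩ := hbij.2 (γ₂ g • b)
  simp only at hv₁ hv₂
  have key : ∀ x, M x (γ₁ g • b) = M x (γ₂ g • b) := by
    intro x
    have e1 := h1 g (g⁻¹ • x) b
    have e2 := h2 g (g⁻¹ • x) b
    rw [smul_inv_smul] at e1 e2
    rw [e1, e2]
  set w := v₂ * v₁⁻¹ with hw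
  have hper : ∀ y : Subgroup.zpowers τ,
      M a₀ ((y : G) • a₀) = M a₀ (((w * y : Subgroup.zpowers τ) : G) • a₀) := by
    intro y
    have e1 := shift h1 hγ (v₁ * y⁻¹) a₀ ((y : G) • a₀)
    have e2 := shift h1 hγ (v₁ * y⁻¹) a₀ (((w * y : Subgroup.zpowers τ) : G) • a₀)
    rw [← e1, ← e2, ← mul_smul, ← mul_smul, ← Subgroup.coe_mul, ← Subgroup.coe_mul]
    have hc : ∀ x y : Subgroup.zpowers τ, x * y = y * x := fun x y => by
      obtain ⟨i, hi⟩ := x.2; obtain ⟨j, hj⟩ := y.2
      apply Subtype.ext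
      simp only [Subgroup.coe_mul, ← hi, ← hj]
      rw [← zpow_add, ← zpow_add, add_comm]
    have a1 : v₁ * y⁻¹ * y = v₁ := by simp
    have a2 : v₁ * y⁻¹ * (w * y) = v₂ := by
      rw [hc w y, hw, ← mul_assoc, mul_assoc v₁ y⁻¹ y]
      simp [hc v₂]
    rw [a1, a2, hv₁, hv₂]
    exact key _
  have hwne : w ≠ 1 := by
    intro h
    rw [hw, mul_inv_eq_one] at h
    exact hne (by rw [← hv₁, ← hv₂, h])
  have hcard : Nat.card (Subgroup.zpowers τ) = Fintype.card Ω := by
    rw [Nat.card_eq_of_bijective _ hbij, Nat.card_eq_fintype_card]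
  haveI : Fact (Fintype.card Ω).Prime := ⟨hprime⟩
  obtain ⟨c, hc⟩ := hnc
  obtain ⟨y, hy⟩ := hbij.2 c
  simp only at hy
  have hymem : y ∈ Subgroup.zpowers w := mem_zpowers_of_prime_card hcard hwne
  haveI : Finite (Subgroup.zpowers τ) := Finite.of_injective _ hbij.1
  rw [← mem_powers_iff_mem_zpowers] at hymem
  obtain ⟨k, hk⟩ := hymem
  have hiter : ∀ j : ℕ, M a₀ (((w ^ j : Subgroup.zpowers τ) : G) • a₀) = M a₀ a₀ := by
    intro j
    induction j with
    | zero => simp
    | succ j ih =>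
      rw [pow_succ', ← hper, ih]
  apply hc
  rw [← hy, ← hk]
  exact hiter k

end

theorem not_sq_dvd_factorial {p : ℕ} (hp : p.Prime) : ¬ p * p ∣ p.factorial := by
  intro h
  have : p.factorial = p * (p - 1).factorial := (Nat.mul_factorial_pred hp.ne_zero).symm
  rw [this] at h
  have h2 := Nat.dvd_of_mul_dvd_mul_left hp.pos h
  rw [Nat.Prime.dvd_factorial hp] at h2
  have := hp.pos
  omega

/-- A case of the Schreier conjecture: if a finite simple group G has a subgroup of prime index, then the outer automorphism group of G is solvable. -/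
theorem result {G : Type*} [Group G] [Finite G] [IsSimpleGroup G] (H : Subgroup G) (hH : H.index.Prime) : Group.IsSolvable (Cfsg.Out G) := by
  classical
  set p := H.index with hp
  haveI : Fact p.Prime := ⟨hH⟩
  haveI : Fintype (G ⧸ H) := Fintype.ofFinite _
  have hcardΩ : Fintype.card (G ⧸ H) = p := by rw [← Nat.card_eq_fintype_card]; rfl
  haveI hfaith : FaithfulSMul G (G ⧸ H) := by
    have hker : (MulAction.toPermHom G (G ⧸ H)).ker = ⊥ := by
      rcases (MulAction.toPermHom G (G ⧸ H)).normal_ker.eq_bot_or_eq_top with h | h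
      · exact h
      · exfalso
        rw [← Subgroup.normalCore_eq_ker] at h
        have : H = ⊤ := top_le_iff.mp (h ▸ H.normalCore_le)
        exact hH.ne_one (by rw [hp, this, Subgroup.index_top])
    constructor
    intro g₁ g₂ h
    exact (MonoidHom.ker_eq_bot_iff _).mp hker (Equiv.ext h)
  have hdvd : Nat.card G ∣ p.factorial := by
    have h := Subgroup.card_dvd_of_injective (MulAction.toPermHom G (G ⧸ H))
      (fun a b h => eq_of_smul_eq_smul (α := G ⧸ H) (fun x => Equiv.congr_fun h x))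
    rwa [Nat.card_perm, show Nat.card (G ⧸ H) = p from rfl] at h
  have hsq : ¬ p * p ∣ Nat.card G := fun h => not_sq_dvd_factorial hH (h.trans hdvd)
  have hHp : ¬ p ∣ Nat.card H := fun h => hsq (by
    rw [← Subgroup.card_mul_index H, ← hp]; exact Nat.mul_dvd_mul_right h p)
  have hpG : p ∣ Nat.card G := ⟨Nat.card H, by rw [mul_comm, hp, Subgroup.card_mul_index]⟩
  obtain ⟨τ, hτ⟩ := exists_prime_orderOf_dvd_card' p hpG
  set a₀ : G ⧸ H := ((1 : G) : G ⧸ H) with ha₀
  have hstab : MulAction.stabilizer G a₀ = H := MulAction.stabilizer_quotient H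
  have hbij : Function.Bijective (fun u : Subgroup.zpowers τ => (u : G) • a₀) := by
    haveI := Fintype.ofFinite (Subgroup.zpowers τ)
    rw [Fintype.bijective_iff_injective_and_card]
    refine ⟨?_, ?_⟩
    · intro u v h
      simp only at h
      have hm : ((u⁻¹ * v : Subgroup.zpowers τ) : G) ∈ H := by
        rw [← hstab, MulAction.mem_stabilizer_iff, Subgroup.coe_mul, mul_smul, ← h, ← mul_smul]
        simp
      have h1 : orderOf ((u⁻¹ * v : Subgroup.zpowers τ) : G) ∣ Nat.card H :=
        Subgroup.orderOf_dvd_natCard _ hm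
      have h2 : orderOf ((u⁻¹ * v : Subgroup.zpowers τ) : G) ∣ p := by
        rw [Subgroup.orderOf_coe, ← show Nat.card (Subgroup.zpowers τ) = p by rw [Nat.card_zpowers, hτ]]
        exact orderOf_dvd_natCard _
      rcases (Nat.dvd_prime hH).mp h2 with h3 | h3
      · rw [orderOf_eq_one_iff] at h3
        exact inv_mul_eq_one.mp (Subtype.ext h3)
      · exact absurd (h3 ▸ h1) hHp
    · rw [← Nat.card_eq_fintype_card, Nat.card_zpowers, hτ, hcardΩ]
  have hprime : (Fintype.card (G ⧸ H)).Prime := hcardΩ.symm ▸ hH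
  -- indicator kernel of an orbit
  let ker : MulAut G → (G ⧸ H) → (G ⧸ H) → ℕ := fun α a b =>
    if ∃ g : G, g • a₀ = a ∧ α g • a₀ = b then 1 else 0
  have hkerInv : ∀ α, TwInv α (ker α) := by
    intro α g a b
    have : (∃ x : G, x • a₀ = g • a ∧ α x • a₀ = α g • b) ↔
        ∃ x : G, x • a₀ = a ∧ α x • a₀ = b := by
      constructor
      · rintro ⟨x, hx, hy⟩
        refine ⟨g⁻¹ * x, ?_, ?_⟩
        · rw [mul_smul, hx, inv_smul_smul]
        · rw [map_mul, map_inv, mul_smul, hy, inv_smul_smul]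
      · rintro ⟨x, hx, hy⟩
        refine ⟨g * x, ?_, ?_⟩
        · rw [mul_smul, hx]
        · rw [map_mul, mul_smul, hy]
    simp only [ker, this]
  have hrow : ∀ α, 0 < ∑ c, ker α a₀ c ∧ ∑ c, ker α a₀ c < p := by
    intro α
    constructor
    · refine lt_of_lt_of_le (b := ker α a₀ a₀) ?_ (Finset.single_le_sum (fun _ _ => Nat.zero_le _)
        (Finset.mem_univ a₀))
      have : ∃ g : G, g • a₀ = a₀ ∧ α g • a₀ = a₀ := ⟨1, by simp, by simp⟩
      simp [ker, this]
    · by_contra hge
      have hle : ∀ c ∈ (Finset.univ : Finset (G ⧸ H)), ker α a₀ c ≤ 1 := by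
        intro c _; simp only [ker]; split <;> simp
      have heq : ∀ c, ker α a₀ c = 1 := by
        intro c
        by_contra hc
        have hlt : ∑ c, ker α a₀ c < ∑ _c : G ⧸ H, 1 :=
          Finset.sum_lt_sum hle ⟨c, Finset.mem_univ _, by have := hle c (Finset.mem_univ _); omega⟩
        simp only [Finset.sum_const, Finset.card_univ, smul_eq_mul, mul_one, hcardΩ] at hlt
        omega
      let φ : H →* G := α.toMonoidHom.comp H.subtype
      letI : MulAction H (G ⧸ H) := MulAction.compHom _ φ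
      have horb : MulAction.orbit H a₀ = Set.univ := by
        ext c
        simp only [Set.mem_univ, iff_true]
        have := heq c
        simp only [ker] at this
        split at this
        · rename_i hex
          obtain ⟨g, hg, hgc⟩ := hex
          exact ⟨⟨g, hstab ▸ hg⟩, hgc⟩
        · simp at this
      have hd : Nat.card (MulAction.orbit H a₀) ∣ Nat.card H := by
        rw [Nat.card_congr (MulAction.orbitEquivQuotientStabilizer H a₀)]
        exact Subgroup.card_quotient_dvd_card _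
      rw [horb, Nat.card_univ, Nat.card_eq_fintype_card, hcardΩ] at hd
      exact hHp hd
  -- commutativity of the centraliser of τ
  have hΓ : ∀ α β : MulAut G, α τ = τ → β τ = τ → α * β = β * α := by
    intro α β hα hβ
    have hM := twInv_kmul (hkerInv β) (hkerInv α)
    have hM' := twInv_kmul (hkerInv α) (hkerInv β)
    rw [kmul_comm hbij (hkerInv α) (hkerInv β) hα hβ] at hM'
    refine eq_of_common hbij hprime hM hM' (by rw [MulAut.mul_apply, hβ, hα]) ?_
    by_contra hcon
    push Not at hcon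
    have hsum : ∑ c, kmul (ker β) (ker α) a₀ c
        = (∑ c, ker β a₀ c) * (∑ c, ker α a₀ c) := by
      unfold kmul
      rw [Finset.sum_comm, Finset.sum_mul]
      refine Finset.sum_congr rfl fun b _ => ?_
      rw [← Finset.mul_sum, const_row hbij (hkerInv α) hα b]
    simp only [hcon, Finset.sum_const, Finset.card_univ, smul_eq_mul, hcardΩ] at hsum
    rcases (Nat.Prime.dvd_mul hH).mp ⟨_, hsum.symm⟩ with h | h
    · exact absurd (Nat.le_of_dvd (hrow β).1 h) (not_le.mpr (hrow β).2)
    · exact absurd (Nat.le_of_dvd (hrow α).1 h) (not_le.mpr (hrow α).2)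
  -- stabiliser of the Sylow subgroup
  let S : Subgroup (MulAut G) :=
    { carrier := {α | (Subgroup.zpowers τ).map α.toMonoidHom = Subgroup.zpowers τ}
      one_mem' := by ext x; simp
      mul_mem' := by
        intro a b ha hb
        simp only [Set.mem_ofPred_eq] at ha hb ⊢
        have : (a * b).toMonoidHom = a.toMonoidHom.comp b.toMonoidHom := rfl
        rw [this, ← Subgroup.map_map, hb, ha]
      inv_mem' := by
        intro a ha
        simp only [Set.mem_ofPred_eq] at ha ⊢
        conv_lhs => rw [← ha]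
        rw [Subgroup.map_map]
        have : (a⁻¹).toMonoidHom.comp a.toMonoidHom = MonoidHom.id G := by
          ext x; exact a.symm_apply_apply x
        rw [this, Subgroup.map_id] }
  have hexp : ∀ α ∈ S, ∃ k : ℤ, α τ = τ ^ k := by
    intro α hα
    have : α τ ∈ (Subgroup.zpowers τ).map α.toMonoidHom := ⟨τ, Subgroup.mem_zpowers τ, rfl⟩
    rw [show (Subgroup.zpowers τ).map α.toMonoidHom = _ from hα] at this
    obtain ⟨k, hk⟩ := this
    exact ⟨k, hk.symm⟩
  have hSsol : Group.IsSolvable S := by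
    let Γ : Subgroup S :=
      { carrier := {α | (α : MulAut G) τ = τ}
        one_mem' := by simp
        mul_mem' := by
          intro a b ha hb
          simp only [Set.mem_ofPred_eq, Subgroup.coe_mul, MulAut.mul_apply] at ha hb ⊢
          rw [hb, ha]
        inv_mem' := by
          intro a ha
          simp only [Set.mem_ofPred_eq, InvMemClass.coe_inv] at ha ⊢
          conv_lhs => rw [← ha]
          exact MulEquiv.symm_apply_apply _ τ }
    have hcomm : commutator S ≤ Γ := by
      rw [commutator_def, Subgroup.commutator_le]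
      intro a _ b _
      show ((⁅a, b⁆ : S) : MulAut G) τ = τ
      have hab : ((a : MulAut G) * b) τ = ((b : MulAut G) * a) τ := by
        obtain ⟨i, hi⟩ := hexp a a.2
        obtain ⟨j, hj⟩ := hexp b b.2
        rw [MulAut.mul_apply, MulAut.mul_apply, hj, hi, map_zpow, map_zpow, hi, hj,
          ← zpow_mul, ← zpow_mul, mul_comm]
      have e : ((⁅a, b⁆ : S) : MulAut G) = ((a : MulAut G) * b) * ((b : MulAut G) * a)⁻¹ := by
        simp only [commutatorElement_def, Subgroup.coe_mul, InvMemClass.coe_inv]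
        group
      rw [e, MulAut.mul_apply]
      obtain ⟨k, hk⟩ := hexp _ (S.inv_mem (S.mul_mem b.2 a.2))
      rw [hk, map_zpow, hab, ← map_zpow, ← hk]
      exact MulEquiv.apply_symm_apply _ τ
    refine Group.isSolvable_def S |>.mpr ⟨2, ?_⟩
    rw [derivedSeries_succ, derivedSeries_one, Subgroup.commutator_eq_bot_iff_le_centralizer]
    intro x hx
    rw [Subgroup.mem_centralizer_iff]
    intro y hy
    exact Subtype.ext (hΓ _ _ (hcomm hy) (hcomm hx))
  have hsurj : Function.Surjective ((QuotientGroup.mk' (Cfsg.Inn G)).comp S.subtype) := by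
    intro o
    obtain ⟨α, rfl⟩ := QuotientGroup.mk'_surjective _ o
    have hP : ∀ Q : Subgroup G, Nat.card Q = p → ∃ Q' : Sylow p G, (Q' : Subgroup G) = Q := by
      intro Q hQ
      obtain ⟨Q', hQ'⟩ := (IsPGroup.of_card (n := 1) (by rw [hQ, pow_one]) : IsPGroup p Q).exists_le_sylow
      refine ⟨Q', (Subgroup.eq_of_le_of_card_ge hQ' ?_).symm⟩
      obtain ⟨n, hn⟩ := Q'.2.exists_card_eq
      have hd := Subgroup.card_subgroup_dvd_card (Q' : Subgroup G)
      rw [hn] at hd
      rw [hQ, hn]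
      rcases n with _ | _ | n
      · simpa using hH.one_le
      · simp
      · exact absurd ((Dvd.intro (p ^ n) (by ring)).trans hd) hsq
    have hcP : Nat.card (Subgroup.zpowers τ) = p := by rw [Nat.card_zpowers, hτ]
    obtain ⟨Q₁, hQ₁⟩ := hP _ hcP
    obtain ⟨Q₂, hQ₂⟩ := hP ((Subgroup.zpowers τ).map α.toMonoidHom)
      (by rw [Subgroup.card_map_of_injective α.injective, hcP])
    obtain ⟨g, hg⟩ := MulAction.exists_smul_eq G Q₂ Q₁
    refine ⟨⟨MulAut.conj g * α, ?_⟩, ?_⟩
    · show (Subgroup.zpowers τ).map (MulAut.conj g * α).toMonoidHom = Subgroup.zpowers τ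
      have e : (MulAut.conj g * α).toMonoidHom = (MulAut.conj g).toMonoidHom.comp α.toMonoidHom := rfl
      rw [e, ← Subgroup.map_map, ← hQ₂]
      have := congrArg (fun Q : Sylow p G => (Q : Subgroup G)) hg
      simp only [Sylow.coe_subgroup_smul] at this
      rw [hQ₁] at this
      exact this
    · show QuotientGroup.mk' (Cfsg.Inn G) (MulAut.conj g * α) = _
      rw [map_mul]
      have : QuotientGroup.mk' (Cfsg.Inn G) (MulAut.conj g) = 1 :=
        (QuotientGroup.eq_one_iff _).mpr ⟨g, rfl⟩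
      rw [this, one_mul]
  haveI := hSsol
  exact Group.isSolvable_of_surjective hsurj

end Cfsg.Agent.S4277
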