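import Cfsg.Statements.S4278
import Cfsg.Agent.Lib.G2Odd.Main
import Cfsg.Agent.Lib.Chev.Inst

set_option autoImplicit false
open Cfsg

namespace Cfsg.Agent.S4278

/-- In the Chevalley group of type G₂ over a finite field of odd order, any two involutions are conjugate. -/
theorem result {F : Type*} [Field F] [Fintype F] (hF : Odd (Fintype.card F)) (s t : ↥(Cfsg.Lie.chevG2.group F)) (hs : orderOf s = 2) (ht : orderOf t = 2) : IsConj s t := by
  obtain ⟨Φ⟩ : Nonempty (CfsgLib.Chev.Chev Cfsg.Lie.chevG2) := ⟨CfsgLib.Chev.chevG2⟩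
  exact (CfsgLib.G2Odd.isConj_zG Φ hF s hs).symm.trans (CfsgLib.G2Odd.isConj_zG Φ hF t ht)

end Cfsg.Agent.S4278
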