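import Cfsg.Statements.S4280
import Cfsg.Agent.Lib.InvTorus.MainF4

set_option autoImplicit false
open Cfsg

namespace Cfsg.Agent.S4280

/-- In the Chevalley group of type F₄ over a finite field of odd order q there are exactly two conjugacy classes of involutions; the centralizer of an involution in one class has order q¹⁶(q² − 1)(q⁴ − 1)(q⁶ − 1)(q⁸ − 1), and in the other class q¹⁰(q² − 1)²(q⁴ − 1)(q⁶ − 1). -/
theorem result {F : Type*} [Field F] [Fintype F] (hF : Odd (Fintype.card F)) : ∃ s t : ↥(Cfsg.Lie.chevF4.group F), orderOf s = 2 ∧ orderOf t = 2 ∧ ¬ IsConj s t ∧ (∀ u : ↥(Cfsg.Lie.chevF4.group F), orderOf u = 2 → IsConj u s ∨ IsConj u t) ∧ Nat.card (Subgroup.centralizer ({s} : Set ↥(Cfsg.Lie.chevF4.group F))) = Fintype.card F ^ 16 * (Fintype.card F ^ 2 - 1) * (Fintype.card F ^ 4 - 1) * (Fintype.card F ^ 6 - 1) * (Fintype.card F ^ 8 - 1) ∧ Nat.card (Subgroup.centralizer ({t} : Set ↥(Cfsg.Lie.chevF4.group F)))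 = Fintype.card F ^ 10 * (Fintype.card F ^ 2 - 1) ^ 2 * (Fintype.card F ^ 4 - 1) * (Fintype.card F ^ 6 - 1) := by
  have Φ := CfsgLib.Chev.chevF4
  obtain ⟨s, t, hs, ht, hne, hall, h1, h2⟩ := CfsgLib.InvTorus.involution_classes Φ
    CfsgLib.InvTorus.F4.cert1 CfsgLib.InvTorus.F4.cert2 (CfsgLib.InvTorus.F4.good Φ) hF
    CfsgLib.InvTorus.F4.cover (by decide +kernel)
    (CfsgLib.InvTorus.F4.weyl_le Φ _ (by decide +kernel)) (CfsgLib.InvTorus.F4.weyl_le Φ _ (by decide +kernel))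
    (CfsgLib.InvTorus.F4.card_diag Φ F)
  refine ⟨s, t, hs, ht, hne, hall, h1.trans ?_, h2.trans ?_⟩
  · simp [CfsgLib.InvTorus.F4.cert1, CfsgLib.InvTorus.F4.base1, mul_assoc]
  · simp [CfsgLib.InvTorus.F4.cert2, CfsgLib.InvTorus.F4.base2, mul_assoc]
    ring

end Cfsg.Agent.S4280
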