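import Cfsg.Statements.S4282
import Mathlib
import Cfsg.Agent.Lib.HallHigmanB.Main
-- import your own Cfsg.Agent.* helpers here

set_option autoImplicit false
open Cfsg

namespace Cfsg.Agent.S4282

/-- A critical case behind the Hall–Higman theorem. Let p ≠ q be primes and G a finite group generated by a normal q-subgroup Q and a cyclic p-subgroup generated by x, such that the centralizer of every non-identity element of that cyclic subgroup is its product with the centre of G. Let K be an algebraically closed field of characteristic p and ρ a faithful representation of G on a nonzero finite-dimensional K-space whose restriction to Q is irreducible. If s is the least exponent with (ρ(x) − 1)^s = 0, then |⟨x⟩| − 1 ≤ s ≤ |⟨x⟩|; and if s = |⟨x⟩| − 1 then |⟨x⟩| − 1 is a power of q and Q is non-abelian. -/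
theorem result {G : Type*} [Group G] [Finite G] (p q : ℕ) [Fact p.Prime] [Fact q.Prime] (hpq : p ≠ q) (Q : Subgroup G) [Q.Normal] (hQ : IsPGroup q Q) (x : G) (hx : IsPGroup p (Subgroup.zpowers x)) (hgen : Q ⊔ Subgroup.zpowers x = ⊤) (hC : ∀ y ∈ Subgroup.zpowers x, y ≠ 1 → Subgroup.centralizer ({y} : Set G) = Subgroup.zpowers x ⊔ Subgroup.center G) {K : Type*} [Field K] [IsAlgClosed K] [CharP K p] {V : Type*} [AddCommGroup V] [Module K V] [FiniteDimensional K V] [Nontrivial V] (ρ : Representation K G V) (hfaith : Function.Injective ρ) (hirr : ∀ W : Submodule K V, (∀ g ∈ Q, Submodule.map (ρ g) W ≤ W) → W = ⊥ ∨ W = ⊤) (s : ℕ) (hs : (ρ x - 1) ^ s = 0) (hmin : ∀ k < s, (ρ x - 1) ^ k ≠ 0) : Nat.card (Subgroup.zpowers x) - 1 ≤ s ∧ s ≤ Nat.card (Subgroup.zpowers x) ∧ (s = Nat.card (Subgroup.zpowers x) - 1 → (∃ b : ℕ, Nat.card (Subgroup.zpowers x) - 1 = q ^ b) ∧ ¬ IsMulCommutative Q) := by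
  classical
  have hp := (Fact.out : p.Prime)
  obtain ⟨n, hn⟩ := IsPGroup.iff_card.mp hx
  rw [hn]
  have hxo : orderOf x = p ^ n := by rw [← Nat.card_zpowers, hn]
  haveI : CharP (Module.End K V) p := charP_of_injective_algebraMap (algebraMap K (Module.End K V)).injective p
  rcases Nat.eq_zero_or_pos n with rfl | hn1
  · rw [pow_zero] at hxo ⊢
    have hx1 : ρ x = 1 := by rw [orderOf_eq_one_iff.mp hxo, map_one]
    rw [hx1, sub_self] at hs hmin
    have hs0 : s ≠ 0 := fun h => by rw [h, pow_zero] at hs; exact one_ne_zero hs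
    have hs1 : s ≤ 1 := by
      by_contra h
      exact hmin 1 (by omega) (pow_one 0)
    exact ⟨by omega, hs1, fun h => by omega⟩
  have hpn : (ρ x - 1) ^ p ^ n = 0 := by
    rw [sub_pow_char_pow_of_commute _ _ (Commute.one_right _), one_pow, ← map_pow, ← hxo, pow_orderOf_eq_one,
      map_one, sub_self]
  have hsle : s ≤ p ^ n := le_of_not_gt fun h => hmin _ h hpn
  have hlt : p ^ (n - 1) < p ^ n := Nat.pow_lt_pow_right hp.one_lt (by omega)
  have hx1 : x ^ p ^ (n - 1) ≠ 1 := fun h => by
    have := Nat.le_of_dvd (pow_pos hp.pos _) (hxo ▸ orderOf_dvd_of_pow_eq_one h)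
    omega
  have hCy := hC _ (Subgroup.pow_mem _ (Subgroup.mem_zpowers x) _) hx1
  have hcomm : ∀ u, Commute (x ^ p ^ (n - 1)) u → Commute x u := fun u hu => by
    have h1 : u ∈ Subgroup.zpowers x ⊔ Subgroup.center G := hCy ▸ Subgroup.mem_centralizer_singleton_iff.mpr hu.eq.symm
    have h2 : Subgroup.zpowers x ⊔ Subgroup.center G ≤ Subgroup.centralizer {x} := sup_le
      (Subgroup.zpowers_le.mpr (Subgroup.mem_centralizer_singleton_iff.mpr rfl)) (Subgroup.center_le_centralizer _)
    exact (Subgroup.mem_centralizer_singleton_iff.mp (h2 h1)).symm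
  have hxQ : x ∈ Subgroup.normalizer (Q : Set G) := by rw [Subgroup.normalizer_eq_top]; exact Subgroup.mem_top x
  have hyQ : x ^ p ^ (n - 1) ∉ Subgroup.centralizer (Q : Set G) := fun h => by
    obtain ⟨μ, hμ⟩ := Module.End.exists_eigenvalue (ρ x)
    have hcx : ∀ g ∈ Q, ρ g * ρ x = ρ x * ρ g := fun g hg => by
      rw [← map_mul, ← map_mul,
        (hcomm g (show Commute (x ^ p ^ (n - 1)) g from (Subgroup.mem_centralizer_iff.mp h g hg).symm)).eq]
    rcases hirr (Module.End.eigenspace (ρ x) μ) (fun g hg => by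
        rintro _ ⟨v, hv, rfl⟩
        rw [SetLike.mem_coe, Module.End.mem_eigenspace_iff] at hv
        rw [Module.End.mem_eigenspace_iff, ← Module.End.mul_apply, ← hcx g hg, Module.End.mul_apply, hv, map_smul]) with h0 | h0
    · exact hμ h0
    · have hx' : ρ x = μ • 1 := LinearMap.ext fun v => by
        rw [LinearMap.smul_apply, Module.End.one_apply]
        exact Module.End.mem_eigenspace_iff.mp (h0.symm ▸ Submodule.mem_top)
      have hμ1 : μ = 1 := by
        have h3 : ρ (x ^ p ^ n) = 1 := by rw [← hxo, pow_orderOf_eq_one, map_one]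
        rw [map_pow, hx', smul_pow, one_pow] at h3
        obtain ⟨v, hv⟩ := exists_ne (0 : V)
        have h4 : μ ^ p ^ n = 1 := smul_left_injective K hv (by
          simpa using congrArg (fun f : Module.End K V => f v) h3)
        have h5 : (μ - 1) ^ p ^ n = 0 := by rw [sub_pow_char_pow, one_pow, h4, sub_self]
        exact sub_eq_zero.mp ((pow_eq_zero_iff (pow_pos hp.pos n).ne').mp h5)
      have : x = 1 := hfaith (by rw [hx', hμ1, one_smul, map_one])
      exact hx1 (by rw [this, one_pow])
  rcases CfsgLib.HallHigmanB.bound_of_invariant hpq ρ hfaith Q hQ hxQ hn1 hxo hyQ s hs with h | ⟨hnc, k, b, -, -, hb2, hb3, hk0⟩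
  · exact ⟨by omega, hsle, fun h' => by omega⟩
  · obtain rfl := hk0 fun u _ hu => hcomm u hu
    rw [Nat.sub_zero] at hb2
    rw [pow_zero, one_mul] at hb3
    exact ⟨by omega, hsle, fun _ => ⟨⟨b, by omega⟩, hnc⟩⟩

end Cfsg.Agent.S4282
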