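import Cfsg.Statements.S4283
import Mathlib
import Cfsg.Agent.Lib.Frobenius.More
-- import your own Cfsg.Agent.* helpers here

set_option autoImplicit false
open Cfsg

namespace Cfsg.Agent.S4283

open scoped Pointwise

/-- Let G be a finite group with centre Z and let K, H be abelian subgroups of G containing Z such that G/Z is a Frobenius group with complement H/Z and kernel K/Z. Then the conjugacy class sizes of G are exactly 1, [G : K] and [G : H], and these two indices are coprime. (This is the converse half of the characterization of finite groups whose conjugacy class sizes are exactly 1, m and n with m and n coprime.) -/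
theorem result {G : Type*} [Group G] [Finite G] (K H : Subgroup G) (hZK : Subgroup.center G ≤ K) (hZH : Subgroup.center G ≤ H) (hK : IsMulCommutative K) (hH : IsMulCommutative H) (hFrob : Cfsg.IsFrobeniusComplement (H.map (QuotientGroup.mk' (Subgroup.center G)))) (hker : Cfsg.frobeniusKernel (H.map (QuotientGroup.mk' (Subgroup.center G))) = (K.map (QuotientGroup.mk' (Subgroup.center G)) : Set (G ⧸ Subgroup.center G))) : Set.range (fun x : G => (Subgroup.centralizer ({x} : Set G)).index) = ({1, K.index, H.index} : Set ℕ) ∧ K.index.Coprime H.index := by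
  classical
  set Z := Subgroup.center G with hZ
  let π := QuotientGroup.mk' Z
  have hsur : Function.Surjective π := QuotientGroup.mk'_surjective Z
  set Kb := K.map π with hKb
  set Hb := H.map π with hHb
  have hKc : Kb.comap π = K := Subgroup.comap_map_eq_self (by rw [QuotientGroup.ker_mk']; exact hZK)
  have hHc : Hb.comap π = H := Subgroup.comap_map_eq_self (by rw [QuotientGroup.ker_mk']; exact hZH)
  obtain ⟨hKn, hc⟩ := CfsgLib.Frob.isComplement_of_eq_kernel hFrob hker.symm
  have hker' : (Kb : Set (G ⧸ Z)) = Cfsg.frobeniusKernel Hb := hker.symm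
  have hKne := CfsgLib.Frob.kernel_ne_bot hFrob hc
  have hmemc : ∀ u g : G ⧸ Z, u ∈ MulAut.conj g • Hb ↔ g⁻¹ * u * g ∈ Hb := fun u g => by
    rw [Subgroup.mem_pointwise_smul_iff_inv_smul_mem, MulAut.smul_def, MulAut.inv_def, MulAut.conj_symm_apply]
  -- conjugates of nontrivial elements of the complement have index `H.index`
  have hH' : ∀ x : G, ∀ g : G, g⁻¹ * x * g ∈ H → x ∉ Z →
      (Subgroup.centralizer ({x} : Set G)).index = H.index := by
    intro x g hxg hxZ
    have hne : π (g⁻¹ * x * g) ≠ 1 := by
      intro e
      apply hxZ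
      have := (QuotientGroup.eq_one_iff _).mp e
      have h2 := Subgroup.Normal.conj_mem (inferInstance : Z.Normal) _ this g
      simpa [mul_assoc] using h2
    have hcent : Subgroup.centralizer ({g⁻¹ * x * g} : Set G) = H := by
      refine le_antisymm (fun c hc' => ?_) (fun c hc' => Subgroup.mem_centralizer_singleton_iff.mpr
        (congrArg Subtype.val (hH.is_comm.comm ⟨c, hc'⟩ ⟨_, hxg⟩)))
      rw [← hHc]
      refine CfsgLib.Frob.frob_centralizer_le hFrob (Subgroup.mem_map_of_mem π hxg) hne ?_
      rw [← map_mul, ← map_mul, Subgroup.mem_centralizer_singleton_iff.mp hc']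
    have hmap : Subgroup.centralizer ({x} : Set G) = H.map (MulAut.conj g).toMonoidHom := by
      rw [← hcent]
      ext c
      rw [Subgroup.mem_map_equiv, MulAut.conj_symm_apply, Subgroup.mem_centralizer_singleton_iff,
        Subgroup.mem_centralizer_singleton_iff]
      constructor
      · intro h
        calc g⁻¹ * c * g * (g⁻¹ * x * g) = g⁻¹ * (c * x) * g := by group
          _ = g⁻¹ * x * g * (g⁻¹ * c * g) := by rw [h]; group
      · intro h
        have h2 := congrArg (fun t => g * t * g⁻¹) h
        simpa [mul_assoc] using h2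
    rw [hmap]; exact Subgroup.index_map_equiv H (MulAut.conj g)
  have hK' : ∀ x : G, x ∈ K → x ∉ Z → (Subgroup.centralizer ({x} : Set G)).index = K.index := by
    intro x hx hxZ
    have hne : π x ≠ 1 := fun e => hxZ ((QuotientGroup.eq_one_iff _).mp e)
    congr 1
    refine le_antisymm (fun c hc' => ?_) (fun c hc' => Subgroup.mem_centralizer_singleton_iff.mpr
      (congrArg Subtype.val (hK.is_comm.comm ⟨c, hc'⟩ ⟨x, hx⟩)))
    rw [← hKc, Subgroup.mem_comap, ← SetLike.mem_coe, hker']
    by_contra hno
    simp only [Cfsg.frobeniusKernel, Set.mem_ofPred_eq, not_or, not_forall, not_not] at hno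
    obtain ⟨hc1, g, hg⟩ := hno
    rw [hmemc] at hg
    have hxk : π x ∈ Cfsg.frobeniusKernel Hb := by rw [← hker']; exact Subgroup.mem_map_of_mem π hx
    rcases hxk with h | h
    · exact hne h
    refine h g ((hmemc _ _).mpr (CfsgLib.Frob.frob_centralizer_le hFrob hg ?_ ?_))
    · intro e
      apply hc1
      simpa [mul_assoc] using congrArg (fun t => g * t * g⁻¹) e
    · have he : π c * π x = π x * π c := by
        rw [← map_mul, ← map_mul, Subgroup.mem_centralizer_singleton_iff.mp hc']
      calc g⁻¹ * π x * g * (g⁻¹ * π c * g) = g⁻¹ * (π x * π c) * g := by group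
        _ = g⁻¹ * π c * g * (g⁻¹ * π x * g) := by rw [← he]; group
  have hKi : K.index = Kb.index := by
    rw [← hKc, Subgroup.index_comap_of_surjective _ hsur]
  have hHi : H.index = Hb.index := by
    rw [← hHc, Subgroup.index_comap_of_surjective _ hsur]
  refine ⟨?_, ?_⟩
  · ext n
    simp only [Set.mem_range, Set.mem_insert_iff, Set.mem_singleton_iff]
    constructor
    · rintro ⟨x, rfl⟩
      by_cases hxZ : x ∈ Z
      · left
        rw [Subgroup.index_eq_one, eq_top_iff]
        intro c _
        exact Subgroup.mem_centralizer_singleton_iff.mpr (Subgroup.mem_center_iff.mp hxZ c)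
      by_cases hxK : x ∈ K
      · exact Or.inr (Or.inl (hK' x hxK hxZ))
      right; right
      have hno : π x ∉ Cfsg.frobeniusKernel Hb := by
        rw [← hker', SetLike.mem_coe, ← Subgroup.mem_comap, hKc]; exact hxK
      simp only [Cfsg.frobeniusKernel, Set.mem_ofPred_eq, not_or, not_forall, not_not] at hno
      obtain ⟨-, g, hg⟩ := hno
      obtain ⟨g, rfl⟩ := hsur g
      refine hH' x g ?_ hxZ
      rw [← hHc, Subgroup.mem_comap, map_mul, map_mul, map_inv]
      exact (hmemc _ _).mp hg
    · rintro (rfl | rfl | rfl)
      · refine ⟨1, ?_⟩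
        rw [Subgroup.index_eq_one, eq_top_iff]
        intro c _
        exact Subgroup.mem_centralizer_singleton_iff.mpr (by simp)
      · obtain ⟨u, hu, hu1⟩ := (Subgroup.bot_or_exists_ne_one Kb).resolve_left hKne
        obtain ⟨x, hx, rfl⟩ := hu
        exact ⟨x, hK' x hx fun hz => hu1 ((QuotientGroup.eq_one_iff _).mpr hz)⟩
      · obtain ⟨u, hu, hu1⟩ := (Subgroup.bot_or_exists_ne_one Hb).resolve_left hFrob.1
        obtain ⟨x, hx, rfl⟩ := hu
        exact ⟨x, hH' x 1 (by simpa using hx) fun hz => hu1 ((QuotientGroup.eq_one_iff _).mpr hz)⟩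
  · rw [hKi, hHi, hc.symm.index_eq_card]
    exact CfsgLib.Frob.coprime_index hFrob

end Cfsg.Agent.S4283
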