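import Cfsg.Statements.S4291
import Mathlib
import Cfsg.Agent.S3358
import Cfsg.Agent.Lib.ZassenhausFC.SixTypes
-- import your own Cfsg.Agent.* helpers here

set_option autoImplicit false
open Cfsg

namespace Cfsg.Agent.S4291

/-- Let G be a finite group that occurs as a Frobenius complement. Then G has exactly one normal subgroup N such that every Sylow subgroup of N is cyclic and the quotient of G by N is trivial or isomorphic to one of the following five groups: the Klein four-group, the alternating group of degree 4, the symmetric group of degree 4, the alternating group of degree 5, the symmetric group of degree 5. (The quotient is described by a surjective homomorphism with kernel N; the Klein four-group is written as the dihedral group of order 4.) -/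
theorem result {G : Type*} [Group G] [Finite G]
    (hFC : (∃ (L : Type) (_ : Group L) (_ : Finite L) (H : Subgroup L), Cfsg.IsFrobeniusComplement H ∧ Nonempty (G ≃* H))) :
    ∃! N : Subgroup G, N.Normal ∧ (∀ (p : ℕ) [Fact p.Prime] (P : Sylow p N), IsCyclic P) ∧
      (N = ⊤ ∨
        (∃ f : G →* DihedralGroup 2, Function.Surjective f ∧ f.ker = N) ∨
        (∃ f : G →* alternatingGroup (Fin 4), Function.Surjective f ∧ f.ker = N) ∨
        (∃ f : G →* Equiv.Perm (Fin 4), Function.Surjective f ∧ f.ker = N) ∨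
        (∃ f : G →* alternatingGroup (Fin 5), Function.Surjective f ∧ f.ker = N) ∨
        (∃ f : G →* Equiv.Perm (Fin 5), Function.Surjective f ∧ f.ker = N)) := by
  classical
  have hG := CfsgLib.ZasFC.hasFunctional_of_hFC hFC
  have hconv : ∀ N : Subgroup G, (∀ (p : ℕ) [Fact p.Prime] (P : Sylow p N), IsCyclic P) ↔ IsZGroup N := fun N =>
    ⟨fun h => ⟨fun p hp P => @h p ⟨hp⟩ P⟩, fun h p hp P => h.1 p hp.out P⟩
  suffices h : ∃ N : Subgroup G, N.Normal ∧ IsZGroup N ∧ CfsgLib.ZasFC.HasType N by
    obtain ⟨N, hN, hZ, hT⟩ := h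
    refine ⟨N, ⟨hN, (hconv N).mpr hZ, hT⟩, fun M ⟨hM, hMZ, hMT⟩ => ?_⟩
    haveI := hN; haveI := hZ; haveI := hM; haveI := (hconv M).mp hMZ
    exact CfsgLib.ZasFC.type_unique hG hMT hT
  by_cases hZ : IsZGroup G
  · exact ⟨⊤, inferInstance, inferInstance, Or.inl rfl⟩
  by_cases hsol : Group.IsSolvable G
  · obtain ⟨G₀, hn, ⟨f, hf⟩, hcyc, -⟩ := Cfsg.Agent.S3358.result hsol hFC
    haveI : IsZGroup f.ker := hf.symm ▸ (hconv G₀).mp hcyc
    exact CfsgLib.ZasFC.exists_type_solvable hG f hZ
  · obtain ⟨f, M, hker, hmap, ⟨e⟩, hMn, hMC, hcop, hMZ, hjoin, hdisj⟩ := CfsgLib.ZasFC.main hG hsol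
    refine ⟨f.ker, inferInstance, CfsgLib.ZasFC.isZGroup_ker hG f M hker hMC e hcop hjoin, ?_⟩
    have hle : alternatingGroup (Fin 5) ≤ f.range := hmap ▸ Subgroup.map_le_range f _
    have hd : f.range.index ∣ 2 := alternatingGroup.index_eq_two (α := Fin 5) ▸ Subgroup.index_dvd_of_le hle
    rcases (Nat.dvd_prime Nat.prime_two).mp hd with h | h
    · exact Or.inr (Or.inr (Or.inr (Or.inr (Or.inr ⟨f, MonoidHom.range_eq_top.mp (Subgroup.index_eq_one.mp h), rfl⟩))))
    · have hr := Equiv.Perm.eq_alternatingGroup_of_index_eq_two h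
      refine Or.inr (Or.inr (Or.inr (Or.inr (Or.inl
        ⟨f.codRestrict (alternatingGroup (Fin 5)) (fun g => hr ▸ ⟨g, rfl⟩), ?_, by rw [MonoidHom.ker_codRestrict]⟩))))
      rintro ⟨y, hy⟩
      obtain ⟨g, rfl⟩ : y ∈ f.range := hr.symm ▸ hy
      exact ⟨g, rfl⟩

end Cfsg.Agent.S4291
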