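import Cfsg.Statements.S4292
import Cfsg.Agent.Lib.Frobenius.FpfCriterion
-- import your own Cfsg.Agent.* helpers here

set_option autoImplicit false
open Cfsg

namespace Cfsg.Agent.S4292

theorem key {X : Type*} [Group X] [Fintype X] {L : Type} [Group L] [Finite L] {H : Subgroup L}
    (hH : Cfsg.IsFrobeniusComplement H) (j : X →* L) (hj : Function.Injective j) (hjH : ∀ x, j x ∈ H) :
    CfsgLib.FpfCriterion.Good ℤ X := by
  classical
  obtain ⟨p, hp, hpd, hg⟩ := CfsgLib.FpfCriterion.good_of_embedding hH j hj hjH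
  haveI := Fact.mk hp
  exact CfsgLib.FpfCriterion.good_int hpd hg

/-- Let A and B be nontrivial finite groups. Then the direct product A × B occurs as a Frobenius complement if and only if A and B both occur as Frobenius complements and the orders of A and B are coprime. -/
theorem result {A B : Type*} [Group A] [Finite A] [Nontrivial A] [Group B] [Finite B] [Nontrivial B] :
    (∃ (L : Type) (_ : Group L) (_ : Finite L) (H : Subgroup L), Cfsg.IsFrobeniusComplement H ∧ Nonempty ((A × B) ≃* H)) ↔
    ((∃ (L : Type) (_ : Group L) (_ : Finite L) (H : Subgroup L), Cfsg.IsFrobeniusComplement H ∧ Nonempty (A ≃* H)) ∧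
     (∃ (L : Type) (_ : Group L) (_ : Finite L) (H : Subgroup L), Cfsg.IsFrobeniusComplement H ∧ Nonempty (B ≃* H)) ∧
     (Nat.card A).Coprime (Nat.card B)) := by
  classical
  haveI := Fintype.ofFinite A
  haveI := Fintype.ofFinite B
  constructor
  · rintro ⟨L, iG, iF, H, hH, ⟨e⟩⟩
    let j : A × B →* L := H.subtype.comp e.toMonoidHom
    have hj : Function.Injective j := H.subtype_injective.comp e.injective
    have hjH : ∀ x, j x ∈ H := fun x => (e x).2
    obtain ⟨K, -, hKn, hc⟩ := CfsgLib.Frob.exists_kernel hH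
    obtain ⟨V, hVc, hV, hnorm, hVfpf⟩ := CfsgLib.Frob.exists_abelian_module hc
      (CfsgLib.Frob.kernel_ne_bot hH hc) hH.1 fun h hh h1 => CfsgLib.Frob.fpf_of_frob hc.disjoint hH hh h1
    have hcop : (Nat.card A).Coprime (Nat.card B) := Nat.coprime_of_dvd fun p hp ha hb => by
      haveI := Fact.mk hp
      obtain ⟨a, ha'⟩ := exists_prime_orderOf_dvd_card' (G := A) p ha
      obtain ⟨b, hb'⟩ := exists_prime_orderOf_dvd_card' (G := B) p hb
      have hab := CfsgLib.Frob.no_elementary_fpf hV hp hnorm hVfpf (hjH (a, 1)) (hjH (1, b))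
        (by rw [orderOf_injective j hj, Prod.orderOf, orderOf_one, Nat.lcm_one_right, ha'])
        (by rw [orderOf_injective j hj, Prod.orderOf, orderOf_one, Nat.lcm_one_left, hb'])
        (by rw [← map_mul, ← map_mul]; simp)
      obtain ⟨i, hi⟩ := hab
      have h1 : ((a, 1) : A × B) ^ i = (1, b) := hj (by rw [map_zpow]; exact hi)
      have h2 := congrArg Prod.snd h1
      simp at h2
      rw [← h2, orderOf_one] at hb'
      exact hp.ne_one hb'.symm
    obtain ⟨q, hq, hqp⟩ := Nat.exists_infinite_primes (Nat.card A + Nat.card B + 1)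
    haveI := Fact.mk hqp
    exact ⟨CfsgLib.FpfCriterion.frob_of_good (fun hd => by have := Nat.le_of_dvd Fintype.card_pos hd; rw [Fintype.card_eq_nat_card] at this; omega)
        (CfsgLib.FpfCriterion.good_zmod (key hH (j.comp (MonoidHom.inl A B))
          (hj.comp fun x y h => (Prod.ext_iff.mp h).1) fun _ => hjH _) q),
      CfsgLib.FpfCriterion.frob_of_good (fun hd => by have := Nat.le_of_dvd Fintype.card_pos hd; rw [Fintype.card_eq_nat_card] at this; omega)
        (CfsgLib.FpfCriterion.good_zmod (key hH (j.comp (MonoidHom.inr A B))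
          (hj.comp fun x y h => (Prod.ext_iff.mp h).2) fun _ => hjH _) q), hcop⟩
  · rintro ⟨⟨L₁, i₁, f₁, H₁, hH₁, ⟨e₁⟩⟩, ⟨L₂, i₂, f₂, H₂, hH₂, ⟨e₂⟩⟩, hcop⟩
    obtain ⟨q, hq, hqp⟩ := Nat.exists_infinite_primes (Nat.card (A × B) + 1)
    haveI := Fact.mk hqp
    exact CfsgLib.FpfCriterion.frob_of_good (fun hd => by have := Nat.le_of_dvd Fintype.card_pos hd; rw [Fintype.card_eq_nat_card] at this; omega)
      (CfsgLib.FpfCriterion.good_prod hcop
        (CfsgLib.FpfCriterion.good_zmod (key (X := A) hH₁ (H₁.subtype.comp e₁.toMonoidHom)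
          (H₁.subtype_injective.comp e₁.injective) fun x => (e₁ x).2) q)
        (CfsgLib.FpfCriterion.good_zmod (key (X := B) hH₂ (H₂.subtype.comp e₂.toMonoidHom)
          (H₂.subtype_injective.comp e₂.injective) fun x => (e₂ x).2) q))

end Cfsg.Agent.S4292
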