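import Cfsg.Statements.S4293
import Mathlib
-- import your own Cfsg.Agent.* helpers here

set_option autoImplicit false
open Cfsg

namespace Cfsg.Agent.S4293

open scoped Pointwise

/-- A nontrivial finite subgroup of the multiplicative group of a division ring occurs as a Frobenius complement of some finite Frobenius group. -/
theorem result {D : Type*} [DivisionRing D] (H : Subgroup Dˣ) [Finite H] (hH : H ≠ ⊥) :
    ∃ (L : Type) (_ : Group L) (_ : Finite L) (C : Subgroup L), Cfsg.IsFrobeniusComplement C ∧ Nonempty (H ≃* C) := by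
  classical
  set M := AddSubgroup.closure (((↑) : Dˣ → D) '' (H : Set Dˣ)) with hM
  have hfin : (((↑) : Dˣ → D) '' (H : Set Dˣ)).Finite := (Set.toFinite _).image _
  have hfg : AddGroup.FG M := by
    rw [AddGroup.fg_iff_addSubgroup_fg]
    exact (AddSubgroup.fg_iff M).mpr ⟨_, hM.symm, hfin⟩
  have hmul : ∀ h ∈ H, ∀ m ∈ M, (h : D) * m ∈ M := by
    intro h hh m hm
    induction hm using AddSubgroup.closure_induction with
    | mem x hx =>
      obtain ⟨k, hk, rfl⟩ := hx
      exact AddSubgroup.subset_closure ⟨h * k, H.mul_mem hh hk, Units.val_mul h k⟩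
    | zero => rw [mul_zero]; exact zero_mem _
    | add x y _ _ hx hy => rw [mul_add]; exact add_mem hx hy
    | neg x _ hx => rw [mul_neg]; exact neg_mem hx
  have hone : (1 : D) ∈ M := AddSubgroup.subset_closure ⟨1, H.one_mem, Units.val_one⟩
  -- a prime coprime to `|H|` with `q M ≠ M`
  obtain ⟨q, hq, hqH, hqM⟩ : ∃ q : ℕ, q.Prime ∧ ¬ q ∣ Nat.card H ∧
      (nsmulAddMonoidHom q : M →+ M).range ≠ ⊤ := by
    by_cases htor : ∃ n : ℕ, n ≠ 0 ∧ (n : D) = 0
    · obtain ⟨n, hn0, hn⟩ := htor
      obtain ⟨q, hqc⟩ := CharP.exists D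
      have hqp : q.Prime := by
        rcases CharP.char_is_prime_or_zero D q with h | h
        · exact h
        · subst h
          exact absurd ((CharP.cast_eq_zero_iff D 0 n).mp hn) (fun h => hn0 (zero_dvd_iff.mp h))
      have := Fact.mk hqp
      refine ⟨q, hqp, fun hd => ?_, fun htop => ?_⟩
      · obtain ⟨⟨u, hu⟩, huo⟩ := exists_prime_orderOf_dvd_card' (G := H) q hd
        rw [Subgroup.orderOf_mk] at huo
        have h1 : ((u : D) - 1) ^ q = 0 := by
          rw [sub_pow_char_of_commute q (Commute.one_right _), one_pow, ← Units.val_pow_eq_pow_val,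
            ← huo, pow_orderOf_eq_one, Units.val_one, sub_self]
        have h2 : u = 1 := Units.ext (sub_eq_zero.mp (eq_zero_of_pow_eq_zero h1))
        rw [h2, orderOf_one] at huo
        exact hqp.ne_one huo.symm
      · obtain ⟨w, hw⟩ : (⟨1, hone⟩ : M) ∈ (nsmulAddMonoidHom q : M →+ M).range := htop ▸ AddSubgroup.mem_top _
        have h1 : q • (w : D) = 1 := congrArg Subtype.val hw
        rw [nsmul_eq_mul, CharP.cast_eq_zero, zero_mul] at h1
        exact zero_ne_one h1
    · push Not at htor
      obtain ⟨q, hqge, hqp⟩ := Nat.exists_infinite_primes (Nat.card H + 1)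
      refine ⟨q, hqp, fun hd => by have := Nat.le_of_dvd Nat.card_pos hd; omega, fun htop => ?_⟩
      have : AddGroup.FG M := hfg
      have : Module.Finite ℤ M := Module.Finite.iff_addGroup_fg.mpr hfg
      have : IsAddTorsionFree M := by
        have : CharZero D := charZero_of_inj_zero fun n hn => by
          by_contra h0; exact htor n h0 hn
        constructor
        intro n hn a b hab
        have h1 : (n : D) * a = (n : D) * b := by
          have := congrArg Subtype.val hab
          simpa [nsmul_eq_mul] using this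
        exact Subtype.ext (mul_left_cancel₀ (Nat.cast_ne_zero.mpr hn) h1)
      have : Module.Free ℤ M := Module.free_of_finite_type_torsion_free'
      have : Nontrivial M := ⟨⟨⟨1, hone⟩, 0, fun e => one_ne_zero (congrArg Subtype.val e)⟩⟩
      let bs := Module.Free.chooseBasis ℤ M
      obtain ⟨i⟩ : Nonempty (Module.Free.ChooseBasisIndex ℤ M) := bs.index_nonempty
      obtain ⟨w, hw⟩ : bs i ∈ (nsmulAddMonoidHom q : M →+ M).range := htop ▸ AddSubgroup.mem_top _
      have h1 := congrArg (fun v => bs.repr v i) hw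
      simp at h1
      exact hqp.ne_one (by exact_mod_cast Int.eq_one_of_dvd_one (Int.natCast_nonneg q) ⟨_, h1.symm⟩)
  set S := (nsmulAddMonoidHom q : M →+ M).range with hS
  -- the action
  let act : H → (M ⧸ S) →+ (M ⧸ S) := fun h => QuotientAddGroup.map S S
    { toFun := fun m => ⟨(h : Dˣ) * (m : D), hmul h h.2 m m.2⟩
      map_zero' := Subtype.ext (mul_zero _)
      map_add' := fun a b => Subtype.ext (mul_add _ _ _) }
    (by
      rintro _ ⟨w, rfl⟩
      exact ⟨⟨(h : Dˣ) * (w : D), hmul h h.2 w w.2⟩, Subtype.ext (mul_smul_comm q _ _).symm⟩)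
  have hact : ∀ (h : H) (m : M), act h (QuotientAddGroup.mk m) =
      QuotientAddGroup.mk ⟨(h : Dˣ) * (m : D), hmul h h.2 m m.2⟩ := fun _ _ => rfl
  have hact1 : ∀ x, act 1 x = x := fun x => by
    obtain ⟨m, rfl⟩ := QuotientAddGroup.mk_surjective x
    rw [hact]; congr 1; exact Subtype.ext (by simp)
  have hactm : ∀ (h k : H) x, act (h * k) x = act h (act k x) := fun h k x => by
    obtain ⟨m, rfl⟩ := QuotientAddGroup.mk_surjective x
    rw [hact, hact, hact]; congr 1; exact Subtype.ext (by simp [mul_assoc])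
  have hfpf : ∀ (h : H) x, h ≠ 1 → act h x = x → x = 0 := by
    intro h x hh hx
    have hiter : ∀ i : ℕ, act (h ^ i) x = x := by
      intro i
      induction i with
      | zero => rw [pow_zero]; exact hact1 x
      | succ i ih => rw [pow_succ, hactm, hx, ih]
    obtain ⟨m, rfl⟩ := QuotientAddGroup.mk_surjective x
    set k := orderOf h with hk
    have hsum : ∑ i ∈ Finset.range k, ((h : Dˣ) : D) ^ i = 0 := by
      have h1 : (∑ i ∈ Finset.range k, ((h : Dˣ) : D) ^ i) * (((h : Dˣ) : D) - 1) = 0 := by
        rw [geom_sum_mul, ← Units.val_pow_eq_pow_val, ← Subgroup.coe_pow, hk, pow_orderOf_eq_one]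
        simp
      refine (mul_eq_zero.mp h1).resolve_right fun e => hh ?_
      exact Subtype.ext (Units.ext (by simpa using sub_eq_zero.mp e))
    have h2 : (∑ i ∈ Finset.range k, act (h ^ i) (QuotientAddGroup.mk m)) = (0 : M ⧸ S) := by
      simp only [hact]
      rw [← QuotientAddGroup.mk_sum]
      refine (congrArg _ ?_).trans (QuotientAddGroup.mk_zero S)
      apply Subtype.ext
      rw [AddSubmonoidClass.coe_finsetSum]
      simp only [AddSubgroup.coe_zero]
      rw [← Finset.sum_mul]
      simp only [Subgroup.coe_pow, Units.val_pow_eq_pow_val]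
      rw [hsum, zero_mul]
    simp only [hiter, Finset.sum_const, Finset.card_range] at h2
    have hqm : q • (QuotientAddGroup.mk m : M ⧸ S) = 0 := by
      rw [← QuotientAddGroup.mk_nsmul]
      exact (QuotientAddGroup.eq_zero_iff _).mpr ⟨m, rfl⟩
    have h3 : addOrderOf (QuotientAddGroup.mk m : M ⧸ S) = 1 :=
      Nat.eq_one_of_dvd_coprimes
        ((hq.coprime_iff_not_dvd.mpr fun hd => hqH (hd.trans (orderOf_dvd_natCard h))))
        (addOrderOf_dvd_of_nsmul_eq_zero hqm) (addOrderOf_dvd_of_nsmul_eq_zero h2)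
    exact AddMonoid.addOrderOf_eq_one_iff.mp h3
  have : AddGroup.FG M := hfg
  have hQfin : Finite (M ⧸ S) := by
    have : AddGroup.FG (M ⧸ S) := AddGroup.fg_of_surjective (f := QuotientAddGroup.mk' S) (QuotientAddGroup.mk'_surjective S)
    refine AddCommGroup.finite_of_fg_torsion _ fun x => ?_
    refine isOfFinAddOrder_iff_nsmul_eq_zero.mpr ⟨q, hq.pos, ?_⟩
    obtain ⟨m, rfl⟩ := QuotientAddGroup.mk_surjective x
    rw [← QuotientAddGroup.mk_nsmul]
    exact (QuotientAddGroup.eq_zero_iff _).mpr ⟨m, rfl⟩
  have hQne : Nontrivial (M ⧸ S) := by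
    obtain ⟨m, -, hm⟩ := SetLike.exists_of_lt (lt_top_iff_ne_top.mpr hqM)
    exact ⟨⟨QuotientAddGroup.mk m, 0, fun e => hm ((QuotientAddGroup.eq_zero_iff _).mp e)⟩⟩
  let φ : H →* MulAut (Multiplicative (M ⧸ S)) :=
    { toFun := fun h =>
        { toFun := fun x => Multiplicative.ofAdd (act h (Multiplicative.toAdd x))
          invFun := fun x => Multiplicative.ofAdd (act h⁻¹ (Multiplicative.toAdd x))
          left_inv := fun x => by
            show Multiplicative.ofAdd (act h⁻¹ (act h (Multiplicative.toAdd x))) = x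
            rw [← hactm, inv_mul_cancel, hact1, ofAdd_toAdd]
          right_inv := fun x => by
            show Multiplicative.ofAdd (act h (act h⁻¹ (Multiplicative.toAdd x))) = x
            rw [← hactm, mul_inv_cancel, hact1, ofAdd_toAdd]
          map_mul' := fun x y => by simp }
      map_one' := MulEquiv.ext fun x => congrArg Multiplicative.ofAdd (hact1 _)
      map_mul' := fun a b => MulEquiv.ext fun x => congrArg Multiplicative.ofAdd (hactm a b _) }
  let L := SemidirectProduct (Multiplicative (M ⧸ S)) H φ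
  have : Finite L := Finite.of_equiv _ SemidirectProduct.equivProd.symm
  let E : L ≃* Shrink.{0} L := (Shrink.mulEquiv).symm
  have : Finite (Shrink.{0} L) := Finite.of_equiv _ E.toEquiv
  let C : Subgroup (Shrink.{0} L) := ((SemidirectProduct.inr : H →* L).range).map E.toMonoidHom
  have eH : H ≃* C := (MonoidHom.ofInjective SemidirectProduct.inr_injective).trans
    (Subgroup.equivMapOfInjective _ E.toMonoidHom E.injective)
  refine ⟨Shrink.{0} L, inferInstance, inferInstance, C, ⟨?_, ?_, ?_⟩, ⟨eH⟩⟩
  · intro hbot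
    refine hH (Subgroup.card_eq_one.mp ?_)
    rw [Nat.card_congr eH.toEquiv, hbot, Subgroup.card_bot]
  · intro htop
    obtain ⟨x, hx0⟩ := exists_ne (0 : M ⧸ S)
    obtain ⟨y, ⟨k, rfl⟩, hy⟩ : E (SemidirectProduct.inl (Multiplicative.ofAdd x)) ∈ C := htop ▸ Subgroup.mem_top _
    have h1 := congrArg SemidirectProduct.left (E.injective hy)
    rw [SemidirectProduct.left_inr, SemidirectProduct.left_inl] at h1
    exact hx0 (congrArg Multiplicative.toAdd h1).symm
  · intro g hg
    obtain ⟨g, rfl⟩ := E.surjective g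
    rw [Subgroup.eq_bot_iff_forall]
    intro z hz
    rw [Subgroup.mem_inf, Subgroup.mem_pointwise_smul_iff_inv_smul_mem, ← map_inv, MulAut.smul_def,
      MulAut.conj_apply, inv_inv] at hz
    obtain ⟨⟨_, ⟨k, rfl⟩, rfl⟩, _, ⟨k', rfl⟩, hk'⟩ := hz
    have hk'' : g * SemidirectProduct.inr k' = SemidirectProduct.inr k * g := by
      apply E.injective
      rw [map_mul, map_mul]
      have : E (SemidirectProduct.inr k') = (E g)⁻¹ * E (SemidirectProduct.inr k) * E g := hk'
      rw [this, ← mul_assoc, ← mul_assoc, mul_inv_cancel, one_mul]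
    have hl := congrArg SemidirectProduct.left hk''
    replace hl : g.left * (φ g.right) 1 = 1 * (φ k) g.left := hl
    rw [map_one, mul_one, one_mul] at hl
    have hv : g.left ≠ 1 := fun h0 => hg ⟨g, ⟨g.right, by ext <;> simp [h0]⟩, rfl⟩
    have hk1 : k = 1 := by
      by_contra hk0
      exact hv (Multiplicative.toAdd.injective (hfpf k _ hk0 (congrArg Multiplicative.toAdd hl).symm))
    rw [hk1, map_one]
    exact map_one E

end Cfsg.Agent.S4293
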