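import Cfsg.Statements.S4294
import Cfsg.Agent.Lib.Zassenhaus.Corollaries
import Cfsg.Agent.Lib.DivRing.Quat

set_option autoImplicit false
open Cfsg CfsgLib.DivRingFin

namespace Cfsg.Agent.S4294

abbrev SL5 := Matrix.SpecialLinearGroup (Fin 2) (ZMod 5)

def zS : SL5 := ⟨!![1, 1; 0, 1], by decide⟩
def wS : SL5 := ⟨!![1, 0; 4, 1], by decide⟩
def jS : SL5 := ⟨!![2, 0; 0, 3], by decide⟩

theorem zS_pow : zS ^ 5 = 1 ∧ zS ≠ 1 ∧ zS ^ 3 ≠ 1 ∧ zS ^ 4 ≠ zS := by decide +kernel
theorem jS_facts : jS * zS = zS ^ 4 * jS ∧ jS * jS = -1 ∧ (-1 : SL5) * -1 = 1 ∧ (-1 : SL5) ≠ 1 := by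
  decide +kernel
theorem wS_facts : jS * wS * jS⁻¹ = wS⁻¹ ∧ (zS * wS) ^ 3 = -1 ∧ wS ^ 5 = 1 ∧ jS * wS ≠ wS * jS := by
  decide +kernel
theorem jS_word : jS = zS ^ 2 * wS ^ 3 * zS ^ 2 * (zS ^ 4 * wS ^ 4 * zS ^ 4) := by decide +kernel
theorem five_conj : ∀ x : SL5, x ^ 5 = 1 → x ≠ 1 → ∃ y, y * x = zS * y ∨ y * x = zS ^ 2 * y := by
  decide +kernel
theorem inverter : ∀ x : SL5, x * zS = zS ^ 4 * x → ∃ a : Fin 5, zS ^ (2 * a.val) * x = jS ∨
    zS ^ (2 * a.val) * x = jS⁻¹ := by
  decide +kernel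
theorem cent_zS : ∀ x : SL5, x * zS = zS * x → x ^ 10 = 1 := by decide +kernel
theorem rigid : ∀ x : SL5, x ^ 5 = 1 → jS * x * jS⁻¹ = x⁻¹ → (zS * x) ^ 3 = -1 → x = wS := by
  decide +kernel

theorem pow_semi {M : Type*} [Monoid M] {g z : M} (h : g * z = z ^ 2 * g) (n : ℕ) :
    g ^ n * z = z ^ (2 ^ n) * g ^ n := by
  induction n with
  | zero => simp
  | succ n ih =>
    have hk : ∀ k : ℕ, g * z ^ k = z ^ (2 * k) * g := fun k => by
      induction k with
      | zero => simp
      | succ k ihk => rw [pow_succ, ← mul_assoc, ihk, mul_assoc, h, ← mul_assoc, ← pow_add, Nat.mul_succ]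
    rw [pow_succ', mul_assoc, ih, ← mul_assoc, hk, mul_assoc, ← pow_succ', ← pow_succ']

theorem iso_of_zass {D : Type*} [DivisionRing D] [CharZero D] (H : Subgroup Dˣ) [Finite H]
    (hns : ¬ Group.IsSolvable H) : Nonempty (H ≃* SL5) := by
  classical
  obtain ⟨I, M, hIn, hMn, ⟨e⟩, hIM, hcomm, hidx, -, hcop⟩ :=
    CfsgLib.Zassenhaus.zass_of_divisionRing H.subtype H.subtype_injective hns
  haveI := hIn
  let f : H →* D := (Units.coeHom D).comp H.subtype
  have hf : Function.Injective f := fun a b h => Subtype.ext (Units.ext h)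
  let ι : SL5 →* H := I.subtype.comp e.symm.toMonoidHom
  have hι : Function.Injective ι := fun a b h => e.symm.injective (Subtype.ext h)
  have hιmem : ∀ a, ι a ∈ I := fun a => (e.symm a).2
  have hιsur : ∀ x ∈ I, ∃ a, ι a = x := fun x hx => ⟨e ⟨x, hx⟩, by simp [ι]⟩
  have hsign : ∀ a : H, a * a = 1 → f a = 1 ∨ f a = -1 := fun a ha =>
    mul_self_eq_one_iff.mp (by rw [← map_mul, ha, map_one])
  have hneg : f (ι (-1)) = -1 := by
    refine (hsign _ (by rw [← map_mul, jS_facts.2.2.1, map_one])).resolve_left fun h => jS_facts.2.2.2 ?_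
    exact hι (hf (by rw [h, map_one, map_one]))
  have hcen : ∀ g : H, Commute g (ι (-1)) := fun g => hf (by
    rw [map_mul, map_mul, hneg]; simp)
  set z := ι zS with hz
  set j := ι jS with hj
  set w := ι wS with hw
  have hz5 : f z ^ 5 = 1 := by rw [← map_pow, hz, ← map_pow, zS_pow.1, map_one, map_one]
  have hz1 : f z ≠ 1 := fun h => zS_pow.2.1 (hι (hf (by rw [h, map_one, map_one])))
  have hjj : f j * f j = -1 := by rw [← map_mul, hj, ← map_mul, jS_facts.2.1, hneg]
  have hjz : f j * f z = f z ^ 4 * f j := by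
    rw [← map_mul, ← map_pow, ← map_mul, hj, hz, ← map_mul, ← map_pow, ← map_mul, jS_facts.1]
  -- the complement is trivial
  have hM : M = ⊥ := by
    by_contra hM
    have h1 : Nat.card M ≠ 1 := fun h => hM (Subgroup.card_eq_one.mp h)
    obtain ⟨p, hp, hpM⟩ := Nat.exists_prime_and_dvd h1
    haveI := Fact.mk hp
    have hp30 : Nat.Coprime p 30 := hcop.coprime_dvd_left hpM
    have hp7 : 7 ≤ p := by
      by_contra h
      have := hp.two_le
      interval_cases p <;> revert hp hp30 <;> norm_num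
    obtain ⟨c, hc⟩ := exists_prime_orderOf_dvd_card' p hpM
    have hcp : f (c : H) ^ p = 1 := by
      rw [← map_pow, ← hc, ← Subgroup.orderOf_coe, pow_orderOf_eq_one, map_one]
    have hc1 : f (c : H) ≠ 1 := fun h => by
      have h' : (c : H) = 1 := hf (by rw [h, map_one])
      rw [← Subgroup.orderOf_coe, h', orderOf_one] at hc
      exact hp.ne_one hc.symm
    exact no_coprime_root hz5 hz1 hjz hjj hp7 hcp hc1
      ((Commute.symm (hcomm z (hιmem _) c c.2)).map f) ((Commute.symm (hcomm j (hιmem _) c c.2)).map f)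
  subst hM
  rw [sup_bot_eq] at hidx
  rcases hidx with hidx | hidx
  · exact ⟨((MulEquiv.subgroupCongr (Subgroup.index_eq_one.mp hidx)).trans Subgroup.topEquiv).symm.trans e⟩
  exfalso
  have hcard : Nat.card H = 240 := by
    rw [← I.card_mul_index, hidx, Nat.card_congr e.toEquiv, Nat.card_eq_fintype_card,
      show Fintype.card SL5 = 120 from by decide +kernel]
  obtain ⟨n₀, hn₀⟩ : ∃ n : H, n ∉ I := by
    by_contra h
    simp only [not_exists, not_not] at h
    rw [Subgroup.index_eq_one.mpr ((Subgroup.eq_top_iff' I).mpr h)] at hidx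
    omega
  have hodd : ∀ (g : H) (k : ℕ), g ∉ I → k % 2 = 1 → g ^ k ∉ I := by
    intro g k hg hk hm
    obtain ⟨m, rfl⟩ : ∃ m, k = 2 * m + 1 := ⟨k / 2, by omega⟩
    rw [pow_succ, pow_mul, I.mul_mem_cancel_left (pow_mem (Subgroup.sq_mem_of_index_two hidx g) _)] at hm
    exact hg hm
  obtain ⟨x₀, hx₀⟩ := hιsur _ (hIn.conj_mem z (hιmem _) n₀)
  have hx5 : x₀ ^ 5 = 1 := hι (by
    rw [map_pow, hx₀, conj_pow, hz, ← map_pow, zS_pow.1, map_one, mul_one, mul_inv_cancel])
  have hx1 : x₀ ≠ 1 := fun h => by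
    rw [h, map_one] at hx₀
    exact zS_pow.2.1 (hι (by rw [map_one]; exact conj_eq_one_iff.mp hx₀.symm))
  obtain ⟨y, hy⟩ := five_conj x₀ hx5 hx1
  set n₁ := ι y * n₀ with hn1
  have hn₁ : n₁ ∉ I := fun h => hn₀ ((I.mul_mem_cancel_left (hιmem _)).mp h)
  have h240 : ∀ g : H, g ^ 240 = 1 := fun g => hcard ▸ pow_card_eq_one'
  have hzmove : n₁ * z = z * n₁ ∨ n₁ * z = z ^ 2 * n₁ := by
    have e0 : n₁ * z = ι y * ι x₀ * n₀ := by rw [hx₀, hn1]; simp [mul_assoc]
    rcases hy with h | h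
    · exact Or.inl (by rw [e0, ← map_mul, h, map_mul, hn1, hz, mul_assoc])
    · exact Or.inr (by rw [e0, ← map_mul, h, map_mul, map_pow, hn1, hz, mul_assoc])
  set g := n₁ ^ 45 with hg
  have hgI : g ∉ I := hodd n₁ 45 hn₁ rfl
  have hg16 : g ^ 16 = 1 := by
    rw [hg, ← pow_mul, show 45 * 16 = 240 * 3 from rfl, pow_mul, h240, one_pow]
  rcases hzmove with hcase | hcase
  · -- an element outside centralising the whole of the subgroup
    have hgz : Commute g z := Commute.pow_left hcase 45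
    obtain ⟨x, hx⟩ := hιsur _ (hIn.conj_mem j (hιmem _) g)
    have hxz : x * zS = zS ^ 4 * x := hι (by
      rw [map_mul, map_mul, map_pow, hx, ← hz]
      calc g * j * g⁻¹ * z = g * (j * z) * g⁻¹ := by rw [mul_assoc, hgz.inv_left.eq]; group
        _ = g * (z ^ 4 * j) * g⁻¹ := by rw [hj, hz, ← map_pow, ← map_mul, ← map_mul, jS_facts.1]
        _ = z ^ 4 * (g * j * g⁻¹) := by rw [← mul_assoc g, (hgz.pow_right 4).eq]; group)
    obtain ⟨a, ha⟩ := inverter x hxz
    set g₃ := z ^ a.val * g with hg3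
    have hg3z : Commute g₃ z := ((Commute.refl z).pow_left _).mul_left hgz
    have hg3j : g₃ * j = j * g₃ ∨ g₃ * j = j⁻¹ * g₃ := by
      have hk : ∀ k : ℕ, x * zS ^ (4 * k) = zS ^ k * x := fun k => by
        have h4 : x * zS ^ 4 = zS * x := by
          have h5 : x * zS ^ 4 = (zS ^ 4) ^ 4 * x := SemiconjBy.pow_right hxz 4
          rw [h5, ← pow_mul, show 4 * 4 = 5 * 3 + 1 from rfl, pow_add, pow_mul, zS_pow.1, one_pow, one_mul,
            pow_one]
        rw [pow_mul]
        exact (SemiconjBy.pow_right h4 k)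
      have hinv : (z ^ a.val)⁻¹ = z ^ (4 * a.val) := by
        refine inv_eq_of_mul_eq_one_right ?_
        rw [← pow_add, show a.val + 4 * a.val = 5 * a.val by omega, pow_mul, hz, ← map_pow ι zS 5, zS_pow.1,
          map_one, one_pow]
      have e1 : g₃ * j * g₃⁻¹ = ι (zS ^ (2 * a.val) * x) := by
        rw [hg3, _root_.mul_inv_rev, show z ^ a.val * g * j * (g⁻¹ * (z ^ a.val)⁻¹) =
            z ^ a.val * (g * j * g⁻¹) * (z ^ a.val)⁻¹ by group, hinv, ← hx, hz, ← map_pow, ← map_pow, ← map_mul,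
          ← map_mul, mul_assoc, hk, ← mul_assoc, ← pow_add, two_mul]
      rcases ha with h | h
      · exact Or.inl (by rw [h, ← hj] at e1; exact mul_inv_eq_iff_eq_mul.mp e1)
      · exact Or.inr (by rw [h, map_inv, ← hj] at e1; exact mul_inv_eq_iff_eq_mul.mp e1)
    set g₄ := g₃ ^ 5 with hg4
    have hg4z : Commute g₄ z := hg3z.pow_left 5
    have hg4j : g₄ * j = j * g₄ ∨ g₄ * j = j⁻¹ * g₄ := by
      rcases hg3j with h | h
      · exact Or.inl ((Commute.pow_left h 5).eq)
      · right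
        have h1 : SemiconjBy g₃ j j⁻¹ := h
        have h2 : SemiconjBy g₃ j⁻¹ j := by simpa using h1.inv_right
        have h3 : SemiconjBy (g₃ * (g₃ * (g₃ * (g₃ * g₃)))) j j⁻¹ :=
          h1.mul_left (h2.mul_left (h1.mul_left (h2.mul_left h1)))
        rw [show g₄ = g₃ * (g₃ * (g₃ * (g₃ * g₃))) by rw [hg4, pow_succ, pow_succ, pow_succ, pow_succ, pow_one]; simp only [mul_assoc]]
        exact h3
    have hg4I : g₄ ∉ I := hodd _ 5 (fun h => hgI ((I.mul_mem_cancel_left (pow_mem (hιmem _) _)).mp h)) rfl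
    have hg416 : g₄ ^ 16 = 1 := by
      rw [hg4, ← pow_mul, hg3, (hgz.symm.pow_left a.val).mul_pow, show 5 * 16 = 16 * 5 from rfl, pow_mul g,
        hg16, one_pow, mul_one, ← pow_mul, show a.val * (16 * 5) = 5 * (a.val * 16) by omega, pow_mul, hz,
        ← map_pow ι zS 5, zS_pow.1, map_one, one_pow]
    obtain ⟨v, hv⟩ := hιsur _ (hIn.conj_mem w (hιmem _) g₄)
    have hv5 : v ^ 5 = 1 := hι (by
      rw [map_pow, hv, conj_pow, hw, ← map_pow, wS_facts.2.2.1, map_one, mul_one, mul_inv_cancel])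
    have hvj : jS * v * jS⁻¹ = v⁻¹ := by
      have e0 : j * w * j⁻¹ = w⁻¹ := by rw [hj, hw, ← map_inv, ← map_mul, ← map_mul, wS_facts.1, map_inv]
      have e1 : g₄ * j * g₄⁻¹ * ι v * (g₄ * j * g₄⁻¹)⁻¹ = (ι v)⁻¹ := by
        rw [hv, show (g₄ * w * g₄⁻¹)⁻¹ = g₄ * w⁻¹ * g₄⁻¹ by group, ← e0]; group
      refine hι ?_
      rw [map_mul, map_mul, map_inv, map_inv, ← hj]
      rcases hg4j with h | h
      · rwa [mul_inv_eq_iff_eq_mul.mpr h] at e1
      · rw [mul_inv_eq_iff_eq_mul.mpr h, inv_inv] at e1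
        have e2 := congrArg (fun t => j * t⁻¹ * j⁻¹) e1
        simp only [inv_inv] at e2
        rw [← e2]; group
    have hvz : (zS * v) ^ 3 = -1 := hι (by
      rw [map_pow, map_mul, hv, ← hz, show z * (g₄ * w * g₄⁻¹) = g₄ * (z * w) * g₄⁻¹ by
        rw [← mul_assoc, ← mul_assoc, hg4z.symm.eq]; group, conj_pow, hz, hw, ← map_mul, ← map_pow,
        wS_facts.2.1, (hcen g₄).eq, mul_inv_cancel_right])
    have hgw : Commute g₄ w := by
      rw [rigid v hv5 hvj hvz, ← hw] at hv
      exact (mul_inv_eq_iff_eq_mul.mp hv.symm)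
    have hgj : Commute g₄ j := by
      rw [hj, jS_word]
      simp only [map_mul, map_pow, ← hz, ← hw]
      exact (((hg4z.pow_right 2).mul_right (hgw.pow_right 3)).mul_right (hg4z.pow_right 2)).mul_right
        (((hg4z.pow_right 4).mul_right (hgw.pow_right 4)).mul_right (hg4z.pow_right 4))
    -- a power squaring to minus one
    obtain ⟨k, hk⟩ : ∃ k : ℕ, orderOf g₄ = 2 ^ k := by
      obtain ⟨k, -, hk⟩ := (Nat.dvd_prime_pow Nat.prime_two).mp (orderOf_dvd_of_pow_eq_one (n := 2 ^ 4) hg416)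
      exact ⟨k, hk⟩
    have hpm : ∀ t : H, t * t = 1 → t ∈ I := fun t ht => by
      rcases hsign t ht with h | h
      · rw [hf (h.trans (map_one f).symm)]; exact I.one_mem
      · rw [hf (h.trans hneg.symm)]; exact hιmem _
    have hk2 : 2 ≤ k := by
      by_contra h
      refine hg4I (hpm _ ?_)
      rw [← pow_two, ← orderOf_dvd_iff_pow_eq_one, hk]
      exact pow_dvd_pow 2 (show k ≤ 1 by omega)
    set r := g₄ ^ (2 ^ (k - 2)) with hr
    have hro : orderOf r = 4 := by
      rw [hr, orderOf_pow' _ (by positivity), hk, Nat.gcd_eq_right (pow_dvd_pow 2 (by omega)),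
        Nat.pow_div (by omega) two_pos, show k - (k - 2) = 2 by omega]
      norm_num
    have hr2 : f (r * r) = -1 := by
      refine (hsign _ ?_).resolve_left fun h => ?_
      · rw [show r * r * (r * r) = r ^ 4 by simp only [pow_succ, pow_zero, one_mul, mul_assoc], ← hro, pow_orderOf_eq_one]
      · have h2 : r ^ 2 = 1 := by rw [pow_two]; exact hf (h.trans (map_one f).symm)
        have := Nat.le_of_dvd two_pos (orderOf_dvd_of_pow_eq_one h2)
        omega
    have hrj : Commute r j := hgj.pow_left _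
    have hrw : Commute r w := hgw.pow_left _
    refine wS_facts.2.2.2 (hι (hf ?_))
    rw [map_mul, map_mul, map_mul, map_mul, ← hw, ← hj]
    rcases (hrj.map f).mul_self_eq_mul_self_iff.mp
        (by rw [← map_mul, hr2, hjj] : f r * f r = f j * f j) with h | h
    · rw [← h]; exact (hrw.map f).eq
    · rw [show f j = -f r by rw [h, neg_neg]]; exact (hrw.map f).neg_left.eq
  · -- an element outside raising the element of order five to its square
    have hgz : g * z = z ^ 2 * g := by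
      rw [hg, pow_semi hcase]
      congr 1
      rw [show 2 ^ 45 = 5 * ((2 ^ 45) / 5) + 2 from by norm_num, pow_add, pow_mul, hz, ← map_pow ι zS 5,
        zS_pow.1, map_one, one_pow, one_mul]
    have hg2 : g ^ 2 ∈ I := Subgroup.sq_mem_of_index_two hidx g
    obtain ⟨x, hx⟩ := hιsur _ (pow_mem hg2 2)
    have hxz : x * zS = zS * x := hι (by
      rw [map_mul, map_mul, hx, ← hz, ← pow_mul, pow_semi hgz]
      congr 1
      rw [show 2 ^ (2 * 2) = 5 * 3 + 1 from rfl, pow_add, pow_mul, hz, ← map_pow ι zS 5, zS_pow.1, map_one,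
        one_pow, one_mul, pow_one])
    have hg8 : g ^ 4 * g ^ 4 = 1 := by
      have h10 := congrArg ι (cent_zS x hxz)
      rw [map_pow, hx, map_one, ← pow_mul, ← pow_mul, show 2 * 2 * 10 = 16 * 2 + 8 from rfl, pow_add, pow_mul,
        hg16, one_pow, one_mul] at h10
      rw [← pow_add]; exact h10
    have hg4 : f (g ^ 4) = -1 := by
      refine (hsign _ hg8).resolve_left fun h => ?_
      have h4 : g ^ 4 = 1 := hf (h.trans (map_one f).symm)
      have hc : Commute (g ^ 2) z := by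
        refine Commute.of_map hf ?_
        rcases hsign (g ^ 2) (by rw [← pow_add]; exact h4) with h' | h'
        · rw [h']; exact Commute.one_left _
        · rw [h']; exact (Commute.one_left _).neg_left
      have e1 := pow_semi hgz 2
      rw [hc.eq] at e1
      exact zS_pow.2.2.2 (hι (by rw [map_pow, ← hz]; exact (mul_right_cancel e1).symm))
    exact no_outer hz5 hz1 (g := f g) (by rw [← map_mul, hgz, map_mul, map_pow]) (by rw [← map_pow, hg4])

/-- A finite non-solvable subgroup of the multiplicative group of a division ring is isomorphic to the binary icosahedral group SL(2,5). -/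
theorem result {D : Type*} [DivisionRing D] (H : Subgroup Dˣ) [Finite H] (hH : ¬ Group.IsSolvable H) :
    Nonempty (H ≃* Matrix.SpecialLinearGroup (Fin 2) (ZMod 5)) := by
  classical
  obtain ⟨p, hp⟩ := CharP.exists D
  rcases CharP.char_is_prime_or_zero D p with hpp | rfl
  · haveI := Fact.mk hpp
    refine (hH (Group.isSolvable_of_comm fun a b => H.subtype_injective (Units.ext ?_))).elim
    rw [map_mul, map_mul, Units.val_mul, Units.val_mul]
    exact CfsgLib.Zassenhaus.comm_of_charP H.subtype a b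
  haveI : CharZero D := CharP.charP_to_charZero D
  exact iso_of_zass H hH

end Cfsg.Agent.S4294
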