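import Cfsg.Statements.S4296
import Mathlib
import Cfsg.Agent.Lib.Frobenius.Construct
import Cfsg.Agent.Lib.Frobenius.Quaternion
import Cfsg.Agent.S0068
import Cfsg.Agent.Lib.Frobenius.Complement
-- import your own Cfsg.Agent.* helpers here

set_option autoImplicit false
open Cfsg

namespace Cfsg.Agent.S4296

theorem isSquare_kernel {L : Type*} [Group L] [Finite L] {K H : Subgroup L} [hKn : K.Normal]
    (hc : Subgroup.IsComplement' K H) (hF : Cfsg.IsFrobeniusComplement H) {n : ℕ} (hn : 0 < n)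
    (f : QuaternionGroup (2 ^ n) →* L) (hf : Function.Injective f) (hfH : ∀ q, f q ∈ H) :
    Odd (Nat.card K) ∧ IsSquare (Nat.card K) := by
  have hK := CfsgLib.Frob.kernel_ne_bot hF hc
  have hfpf : ∀ h ∈ H, h ≠ 1 → K ⊓ Subgroup.centralizer {h} = ⊥ :=
    fun h hh h1 => CfsgLib.Frob.fpf_of_frob hc.disjoint hF hh h1
  have : NeZero (2 ^ n) := ⟨by positivity⟩
  have h2 : 2 ∣ Nat.card H := by
    have h1 : orderOf (f (.xa 0)) = 4 := by rw [orderOf_injective f hf, QuaternionGroup.orderOf_xa]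
    have := Subgroup.orderOf_dvd_natCard H (hfH (.xa 0))
    rw [h1] at this
    exact (Dvd.intro 2 rfl).trans this
  obtain ⟨⟨s, hs, hso, huniq, hsinv⟩, hcomm⟩ := Cfsg.Agent.S0068.result K H hc hK hfpf h2
  have hodd : Odd (Nat.card K) := by
    rw [Nat.odd_iff]
    by_contra hev
    have hd : 2 ∣ Nat.card K := by omega
    have hcp : (Nat.card K).Coprime (Nat.card H) := by
      rw [← hc.index_eq_card]; exact (CfsgLib.Frob.coprime_index hF).symm
    exact absurd (hcp ▸ Nat.dvd_gcd hd h2) (by norm_num)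
  refine ⟨hodd, ?_⟩
  letI : CommGroup K := { (inferInstance : Group K) with mul_comm := hcomm.is_comm.comm }
  set m := 2 ^ (n - 1) with hm
  have hm2 : 2 * m = 2 ^ n := by rw [hm, ← pow_succ', Nat.sub_add_cancel hn]
  set u := f (.a (m : ZMod (2 * 2 ^ n))) with hu
  set v := f (.xa 0) with hv
  have hu2 : u ^ 2 = f (.a ((2 ^ n : ℕ) : ZMod (2 * 2 ^ n))) := by
    rw [hu, ← map_pow, sq, QuaternionGroup.a_mul_a, ← Nat.cast_add, ← two_mul, hm2]
  have hv2 : v ^ 2 = f (.a ((2 ^ n : ℕ) : ZMod (2 * 2 ^ n))) := by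
    rw [hv, ← map_pow, QuaternionGroup.xa_sq]
  have hvu : v * u * v⁻¹ = u⁻¹ := by
    rw [hu, hv, ← map_inv, ← map_mul, ← map_mul, ← map_inv]
    congr 1
    rw [mul_inv_eq_iff_eq_mul, QuaternionGroup.xa_mul_a]
    have : (QuaternionGroup.a (m : ZMod (2 * 2 ^ n)))⁻¹ = QuaternionGroup.a (-(m : ZMod (2 * 2 ^ n))) := rfl
    rw [this, QuaternionGroup.a_mul_xa, sub_neg_eq_add]
  have hso' : f (.a ((2 ^ n : ℕ) : ZMod (2 * 2 ^ n))) = s := by
    refine huniq _ (hfH _) ?_
    rw [← hv2, hv, ← map_pow, orderOf_injective f hf, orderOf_pow, QuaternionGroup.orderOf_xa]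
    rfl
  have hsK : ∀ w : L, w ^ 2 = s → ∀ x : K, (MulAut.conjNormal w : MulAut K) ((MulAut.conjNormal w : MulAut K) x) = x⁻¹ := by
    intro w hw x
    apply Subtype.ext
    rw [MulAut.conjNormal_apply, MulAut.conjNormal_apply, Subgroup.coe_inv, ← hsinv x x.2, ← hw]
    simp [pow_two, mul_assoc]
  refine CfsgLib.Frob.isSquare_card_of_anticommuting hodd (MulAut.conjNormal u) (MulAut.conjNormal v)
    (hsK u (hu2.trans hso')) (hsK v (hv2.trans hso')) fun x => ?_
  -- `u v = v u s`
  have e : u * v = v * u * s := by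
    have h1 : v * u = u⁻¹ * v := mul_inv_eq_iff_eq_mul.mp hvu
    have h2' : v * s = s * v := by rw [← hso', ← hv2]; group
    calc u * v = u * u * (u⁻¹ * v) := by group
      _ = s * (v * u) := by rw [← h1, ← pow_two, hu2, hso']
      _ = v * (s * u) := by rw [← mul_assoc, ← h2', mul_assoc]
      _ = v * u * s := by
        have h3 : s * u = u * s := by rw [← hso', ← hu2]; group
        rw [h3, mul_assoc]
  apply Subtype.ext
  rw [Subgroup.coe_inv, MulAut.conjNormal_apply, MulAut.conjNormal_apply, MulAut.conjNormal_apply,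
    MulAut.conjNormal_apply]
  calc u * (v * (x : L) * v⁻¹) * u⁻¹ = (u * v) * (x : L) * (u * v)⁻¹ := by group
    _ = v * u * (s * (x : L) * s⁻¹) * (v * u)⁻¹ := by rw [e]; group
    _ = (v * (u * (x : L) * u⁻¹) * v⁻¹)⁻¹ := by rw [hsinv x x.2]; group

/-- Let H be a Frobenius complement in a finite group, and suppose some Sylow subgroup of H is not cyclic. Then the number of elements of the Frobenius kernel (the identity together with the elements lying in no conjugate of H) is an odd perfect square. -/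
theorem result {L : Type*} [Group L] [Finite L] (H : Subgroup L) (hF : Cfsg.IsFrobeniusComplement H)
    (hZ : ∃ (p : ℕ) (_ : Fact p.Prime) (P : Sylow p H), ¬ IsCyclic P) :
    Odd (Nat.card (Cfsg.frobeniusKernel H)) ∧ IsSquare (Nat.card (Cfsg.frobeniusKernel H)) := by
  obtain ⟨p, hp, P, hP⟩ := hZ
  obtain ⟨K, hK, hKn, hc⟩ := CfsgLib.Frob.exists_kernel hF
  have hcard : Nat.card (Cfsg.frobeniusKernel H) = Nat.card K := by rw [← hK]; rfl
  rw [hcard]
  obtain ⟨V, hVc, hV, hn, hf⟩ := CfsgLib.Frob.exists_abelian_module hc (CfsgLib.Frob.kernel_ne_bot hF hc) hF.1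
    (fun h hh h1 => CfsgLib.Frob.fpf_of_frob hc.disjoint hF hh h1)
  rcases CfsgLib.Frob.sylow_cyclic_or_quaternion hV hn hf P with h | ⟨n, ⟨e⟩⟩
  · exact absurd h hP
  rcases Nat.eq_zero_or_pos n with rfl | hpos
  · have : IsCyclic (QuaternionGroup (2 ^ 0)) := QuaternionGroup.quaternionGroup_one_isCyclic
    exact absurd (isCyclic_of_surjective e.symm e.symm.surjective) hP
  exact @isSquare_kernel _ _ _ K H hKn hc hF n hpos
    ((H.subtype.comp (P : Subgroup H).subtype).comp e.symm.toMonoidHom)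
    (H.subtype_injective.comp ((P : Subgroup H).subtype_injective.comp e.symm.injective))
    (fun q => ((e.symm q : (P : Subgroup H)) : H).2)

end Cfsg.Agent.S4296
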