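import Cfsg.Statements.S4295
import Mathlib
import Cfsg.Agent.Lib.Frobenius.Construct
import Cfsg.Agent.Lib.Frobenius.Quaternion
import Cfsg.Agent.S4296
-- import your own Cfsg.Agent.* helpers here

set_option autoImplicit false
open Cfsg

namespace Cfsg.Agent.S4295

/-- For a natural number m the following are equivalent: (a) some finite group has a Frobenius complement isomorphic to the quaternion group of order 8 whose Frobenius kernel (the identity together with the elements lying in no conjugate of the complement) has exactly m elements; (b) m is an odd perfect square greater than 1. -/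
theorem result (m : ℕ) :
    (∃ (L : Type) (_ : Group L) (_ : Finite L) (H : Subgroup L), Cfsg.IsFrobeniusComplement H ∧
        Nonempty (H ≃* QuaternionGroup 2) ∧ Nat.card (Cfsg.frobeniusKernel H) = m) ↔
    (Odd m ∧ IsSquare m ∧ 1 < m) := by
  constructor
  · rintro ⟨L, _, _, H, hF, ⟨e⟩, hm⟩
    obtain ⟨K, hK, hKn, hc⟩ := CfsgLib.Frob.exists_kernel hF
    have hcard : Nat.card K = m := by rw [← hm, ← hK]; rfl
    obtain ⟨h1, h2⟩ := @Cfsg.Agent.S4296.isSquare_kernel _ _ _ K H hKn hc hF 1 Nat.one_pos
      (H.subtype.comp e.symm.toMonoidHom) (H.subtype_injective.comp e.symm.injective) (fun q => (e.symm q).2)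
    refine ⟨hcard ▸ h1, hcard ▸ h2, ?_⟩
    rw [← hcard]
    exact (Subgroup.one_lt_card_iff_ne_bot K).mpr (CfsgLib.Frob.kernel_ne_bot hF hc)
  · rintro ⟨hodd, ⟨k, rfl⟩, hlt⟩
    have hk : Odd k := Nat.Odd.of_mul_left hodd
    have hk1 : 1 < k := by nlinarith
    have := Fact.mk hk1
    have : NeZero k := ⟨by omega⟩
    obtain ⟨a, b, hab⟩ := CfsgLib.Frob.exists_sq_add_sq hk
    have hab' : ((a : ZMod k)) ^ 2 + (b : ZMod k) ^ 2 + 1 = 0 := by
      have := (ZMod.natCast_eq_zero_iff _ k).mpr hab
      simpa using this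
    let I : Matrix.SpecialLinearGroup (Fin 2) (ZMod k) := ⟨!![0, -1; 1, 0], by rw [Matrix.det_fin_two_of]; ring⟩
    let J : Matrix.SpecialLinearGroup (Fin 2) (ZMod k) := ⟨!![(a : ZMod k), (b : ZMod k); (b : ZMod k), -(a : ZMod k)], by
      rw [Matrix.det_fin_two_of]; linear_combination -hab'⟩
    have hI2 : I ^ 2 = -1 := by
      apply Matrix.SpecialLinearGroup.ext; intro i j
      rw [Matrix.SpecialLinearGroup.coe_pow, Matrix.SpecialLinearGroup.coe_neg]
      fin_cases i <;> fin_cases j <;> simp [I, pow_two, Matrix.mul_apply, Fin.sum_univ_two]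
    have hJ2 : J ^ 2 = -1 := by
      apply Matrix.SpecialLinearGroup.ext; intro i j
      rw [Matrix.SpecialLinearGroup.coe_pow, Matrix.SpecialLinearGroup.coe_neg]
      fin_cases i <;> fin_cases j <;> simp [J, pow_two, Matrix.mul_apply, Fin.sum_univ_two] <;>
        first | ring1 | linear_combination hab'
    have hJI : J * I * J⁻¹ = I⁻¹ := by
      apply Matrix.SpecialLinearGroup.ext; intro i j
      rw [Matrix.SpecialLinearGroup.coe_mul, Matrix.SpecialLinearGroup.coe_mul, Matrix.SpecialLinearGroup.coe_inv,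
        Matrix.SpecialLinearGroup.coe_inv]
      fin_cases i <;> fin_cases j <;> simp [I, J, Matrix.adjugate_fin_two_of, Matrix.mul_apply, Fin.sum_univ_two] <;>
        first | ring1 | linear_combination hab' | linear_combination -hab'
    obtain ⟨ρ, hρa, hρx⟩ := CfsgLib.Frob.exists_quat_hom (n := 2) I J
      (by rw [show 2 * 2 = 2 + 2 from rfl, pow_add, hI2]; simp) (by rw [hJ2, hI2]) hJI
    have hz : ρ (.a 2) = -1 := by
      have : (QuaternionGroup.a 2 : QuaternionGroup 2) = .a 1 * .a 1 := by decide
      rw [this, map_mul, hρa, ← sq, hI2]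
    have hall : ∀ q : QuaternionGroup 2, q ≠ 1 → q = .a 2 ∨ q * q = .a 2 := by decide
    let φ : QuaternionGroup 2 →* MulAut (Multiplicative (Fin 2 → ZMod k)) :=
      (CfsgLib.Frob.mulVecAut (R := ZMod k) (n := 2)).comp ρ
    obtain ⟨L, i1, i2, C, hC, ⟨e⟩, hcard⟩ := CfsgLib.Frob.exists_frob_of_aut φ fun h hh v hv => by
      have hneg : φ (.a 2) v = v := by
        rcases hall h hh with e | e
        · rwa [← e]
        · rw [← e, map_mul, MulAut.mul_apply, hv, hv]
      have h1 : ((-1 : Matrix.SpecialLinearGroup (Fin 2) (ZMod k)) : Matrix (Fin 2) (Fin 2) (ZMod k)).mulVec v.toAdd = v.toAdd := by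
        have := congrArg Multiplicative.toAdd hneg
        rw [← hz]; exact this
      rw [Matrix.SpecialLinearGroup.coe_neg, Matrix.neg_mulVec, Matrix.SpecialLinearGroup.coe_one, Matrix.one_mulVec] at h1
      apply Multiplicative.toAdd.injective
      funext i
      have h3 : (2 : ZMod k) * v.toAdd i = 0 := by
        have := congrFun h1 i
        simp only [Pi.neg_apply] at this
        linear_combination -this
      have hu : IsUnit ((2 : ℕ) : ZMod k) := by
        rw [ZMod.isUnit_iff_coprime, Nat.coprime_two_left]; exact hk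
      exact (hu.mul_right_eq_zero).mp (by simpa using h3)
    refine ⟨L, i1, i2, C, hC, ⟨e.symm⟩, ?_⟩
    rw [hcard, Nat.card_congr Multiplicative.toAdd, Nat.card_pi]
    simp [sq]

end Cfsg.Agent.S4295
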