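import Cfsg.Statements.S4297
import Mathlib
import Cfsg.Agent.Lib.Frobenius.Construct
import Cfsg.Agent.Lib.Frobenius.Quaternion
-- import your own Cfsg.Agent.* helpers here

set_option autoImplicit false
open Cfsg

namespace Cfsg.Agent.S4297

/-- For every n ≥ 2 the dicyclic group of order 4n (generated by an element a of order 2n and an element x with x² = aⁿ and x a x⁻¹ = a⁻¹) occurs as a Frobenius complement of some finite Frobenius group. -/
theorem result (n : ℕ) (hn : 2 ≤ n) :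
    ∃ (L : Type) (_ : Group L) (_ : Finite L) (H : Subgroup L), Cfsg.IsFrobeniusComplement H ∧ Nonempty (H ≃* QuaternionGroup n) := by
  obtain ⟨p, hp, hpp, hpm⟩ := Nat.forall_exists_prime_gt_and_modEq (4 * n) (q := 2 * n) (a := 1) (by omega) (Nat.coprime_one_left _)
  have := Fact.mk hpp
  have hdvd : 2 * n ∣ p - 1 := (Nat.modEq_iff_dvd' hpp.one_le).mp hpm.symm
  obtain ⟨g, hg⟩ := IsCyclic.exists_generator (α := (ZMod p)ˣ)
  have hgo : orderOf g = p - 1 := by
    rw [orderOf_eq_card_of_forall_mem_zpowers hg, Nat.card_eq_fintype_card, ZMod.card_units]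
  obtain ⟨m, hm⟩ := hdvd
  have hz : orderOf (g ^ m) = 2 * n := by
    rw [orderOf_pow' _ (by rintro rfl; omega), hgo, hm, Nat.gcd_mul_left_left]
    exact Nat.mul_div_cancel _ (Nat.pos_of_ne_zero (by rintro rfl; omega))
  obtain ⟨ρ, hρ⟩ := CfsgLib.Frob.exists_quaternion_hom (by omega : 0 < n) (g ^ m) hz
  have : NeZero n := ⟨by omega⟩
  obtain ⟨L, i1, i2, C, hC, ⟨e⟩, -⟩ := CfsgLib.Frob.exists_frob_of_sl2 (p := p) ρ hρ (by
    rw [Nat.card_eq_fintype_card, QuaternionGroup.card]
    exact fun h => by have := Nat.le_of_dvd (by omega) h; omega)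
  exact ⟨L, i1, i2, C, hC, ⟨e.symm⟩⟩

end Cfsg.Agent.S4297
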