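import Cfsg.Statements.S4298
import Mathlib
import Cfsg.Agent.Lib.Frobenius.Construct
import Cfsg.Agent.Lib.Frobenius.Quaternion
import Cfsg.Agent.Lib.SLCard
-- import your own Cfsg.Agent.* helpers here

set_option autoImplicit false
open Cfsg

namespace Cfsg.Agent.S4298

/-- Packed table of the embedding. -/
def tab : ℕ := 0xef0000000000000230006a000000000000000000b7000001ab000000aa0000000001e80000000001a20000000001f8000000000148000000000000000002550000025d00000000000000d7021d000000000000003100000000016a00000000012400000000007e000000000000000001d7003d0111000000000000005e0135017e000000000000000000000000000000000000000000000000000000000000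

theorem tab_ok : CfsgLib.Frob.okN 3 5 tab = true := by decide +kernel

/-- The group SL(2,3) of order 24 (the binary tetrahedral group) occurs as a Frobenius complement of some finite Frobenius group. -/
theorem result :
    ∃ (L : Type) (_ : Group L) (_ : Finite L) (H : Subgroup L), Cfsg.IsFrobeniusComplement H ∧ Nonempty (H ≃* Matrix.SpecialLinearGroup (Fin 2) (ZMod 3)) := by
  have := Fact.mk (show Nat.Prime 3 by norm_num)
  have := Fact.mk (show Nat.Prime 5 by norm_num)
  obtain ⟨ρ, hρ⟩ := CfsgLib.Frob.exists_hom_of_table (p := 3) (q := 5) tab tab_ok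
  have hdvd : Nat.card (Matrix.SpecialLinearGroup (Fin 2) (ZMod 3)) = 24 := by
    rw [CfsgLib.SLCard.card_SL_two, ZMod.card]; norm_num
  have : Nontrivial (Matrix.SpecialLinearGroup (Fin 2) (ZMod 3)) :=
    Finite.one_lt_card_iff_nontrivial.mp (by omega)
  obtain ⟨L, i1, i2, C, hC, ⟨e⟩, -⟩ := CfsgLib.Frob.exists_frob_of_sl2 (p := 5) ρ hρ (by rw [hdvd]; norm_num)
  exact ⟨L, i1, i2, C, hC, ⟨e.symm⟩⟩

end Cfsg.Agent.S4298
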