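import Cfsg.Statements.S4299
import Mathlib
-- import your own Cfsg.Agent.* helpers here

set_option autoImplicit false
open Cfsg

namespace Cfsg.Agent.S4299

open scoped Pointwise

/-- Every nontrivial finite cyclic group occurs as a Frobenius complement of some finite Frobenius group. -/
theorem result {C : Type*} [Group C] [Finite C] [IsCyclic C] [Nontrivial C] :
    ∃ (L : Type) (_ : Group L) (_ : Finite L) (H : Subgroup L), Cfsg.IsFrobeniusComplement H ∧ Nonempty (C ≃* H) := by
  set n := Nat.card C with hn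
  have hn1 : 1 < n := Finite.one_lt_card
  obtain ⟨q, hq, -, hqn⟩ := Nat.exists_prime_gt_modEq_one (k := n) 1 (by omega)
  have := Fact.mk hq
  obtain ⟨u, hu⟩ := (inferInstance : IsCyclic (ZMod q)ˣ).exists_ofOrder_eq_natCard
  have hcard : Nat.card (ZMod q)ˣ = q - 1 := by
    rw [Nat.card_eq_fintype_card, ZMod.card_units]
  have hdvd : n ∣ q - 1 := (Nat.modEq_iff_dvd' hq.one_le).mp hqn.symm
  obtain ⟨m, hm⟩ := hdvd
  have hm0 : m ≠ 0 := fun h0 => by have := hq.two_le; simp [h0] at hm; omega
  set K := Subgroup.zpowers (u ^ m) with hK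
  have hKcard : Nat.card K = n := by
    rw [hK, Nat.card_zpowers, orderOf_pow_of_dvd hm0 (by rw [hu, hcard, hm]; exact dvd_mul_left m n), hu,
      hcard, hm, Nat.mul_div_cancel _ (Nat.pos_of_ne_zero hm0)]
  let f : K → MulAut (Multiplicative (ZMod q)) := fun k =>
    { toFun := fun x => Multiplicative.ofAdd (((k : (ZMod q)ˣ) : ZMod q) * Multiplicative.toAdd x)
      invFun := fun x => Multiplicative.ofAdd ((((k : (ZMod q)ˣ)⁻¹ : (ZMod q)ˣ) : ZMod q) * Multiplicative.toAdd x)
      left_inv := fun x => by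
        show Multiplicative.ofAdd ((((k : (ZMod q)ˣ)⁻¹ : (ZMod q)ˣ) : ZMod q) *
          (((k : (ZMod q)ˣ) : ZMod q) * Multiplicative.toAdd x)) = x
        rw [← mul_assoc, Units.inv_mul, one_mul, ofAdd_toAdd]
      right_inv := fun x => by
        show Multiplicative.ofAdd (((k : (ZMod q)ˣ) : ZMod q) *
          ((((k : (ZMod q)ˣ)⁻¹ : (ZMod q)ˣ) : ZMod q) * Multiplicative.toAdd x)) = x
        rw [← mul_assoc, Units.mul_inv, one_mul, ofAdd_toAdd]
      map_mul' := fun x y => by simp [mul_add] }
  have hf : ∀ (k : K) (x : Multiplicative (ZMod q)), f k x =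
      Multiplicative.ofAdd (((k : (ZMod q)ˣ) : ZMod q) * Multiplicative.toAdd x) := fun _ _ => rfl
  let φ : K →* MulAut (Multiplicative (ZMod q)) :=
    { toFun := f
      map_one' := MulEquiv.ext fun x => by simp [hf]
      map_mul' := fun a b => MulEquiv.ext fun x => by simp [hf, mul_assoc] }
  let L := SemidirectProduct (Multiplicative (ZMod q)) K φ
  let H : Subgroup L := (SemidirectProduct.inr : K →* L).range
  have : Finite L := Finite.of_equiv _ SemidirectProduct.equivProd.symm
  have e : K ≃* H := MonoidHom.ofInjective SemidirectProduct.inr_injective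
  have hCK : Nonempty (C ≃* K) := ⟨mulEquivOfCyclicCardEq (hn ▸ hKcard.symm)⟩
  obtain ⟨eCK⟩ := hCK
  refine ⟨L, inferInstance, inferInstance, H, ⟨?_, ?_, ?_⟩, ⟨eCK.trans e⟩⟩
  · intro hbot
    have h1 : Nat.card H = 1 := by rw [hbot]; exact Subgroup.card_bot
    rw [← Nat.card_congr e.toEquiv, hKcard] at h1
    omega
  · intro htop
    have : (SemidirectProduct.inl (Multiplicative.ofAdd (1 : ZMod q)) : L) ∈ H := htop ▸ Subgroup.mem_top _
    obtain ⟨k, hk⟩ := this
    have h1 := congrArg SemidirectProduct.left hk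
    simp at h1
    exact one_ne_zero (congrArg Multiplicative.toAdd h1).symm
  · intro g hg
    rw [Subgroup.eq_bot_iff_forall]
    intro x hx
    rw [Subgroup.mem_inf, Subgroup.mem_pointwise_smul_iff_inv_smul_mem, ← map_inv, MulAut.smul_def,
      MulAut.conj_apply, inv_inv] at hx
    obtain ⟨⟨k, rfl⟩, k', hk'⟩ := hx
    have hv : g.left ≠ 1 := fun h0 => hg ⟨g.right, by ext <;> simp [h0]⟩
    have hl := congrArg SemidirectProduct.left (show g * SemidirectProduct.inr k' = SemidirectProduct.inr k * g by
      rw [hk']; group)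
    replace hl : g.left * (φ g.right) 1 = 1 * (φ k) g.left := hl
    rw [map_one, mul_one, one_mul] at hl
    have h2 : Multiplicative.toAdd g.left = ((k : (ZMod q)ˣ) : ZMod q) * Multiplicative.toAdd g.left := by
      exact congrArg Multiplicative.toAdd hl
    have hv' : Multiplicative.toAdd g.left ≠ 0 := fun h0 => hv (by simpa using h0)
    have hk1 : (((k : (ZMod q)ˣ)) : ZMod q) = 1 := (mul_eq_right₀ hv').mp h2.symm
    have : k = 1 := by ext; simpa using hk1
    rw [this, map_one]

end Cfsg.Agent.S4299
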