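import Cfsg.Statements.S4300
import Mathlib
-- import your own Cfsg.Agent.* helpers here

set_option autoImplicit false
open Cfsg

namespace Cfsg.Agent.S4300

/-- Let G act faithfully and primitively on a set X, and suppose the stabilizer of some point is a simple group. Then either G is simple, or G has a normal subgroup, neither trivial nor the whole group, that acts regularly on X (transitively with trivial point stabilizers). -/
theorem result {G : Type*} [Group G] {X : Type*} [MulAction G X] [FaithfulSMul G X]
    (hprim : MulAction.IsPreprimitive G X) (x : X) (hsimple : IsSimpleGroup (MulAction.stabilizer G x)) :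
    IsSimpleGroup G ∨ ∃ N : Subgroup G, N.Normal ∧ N ≠ ⊥ ∧ N ≠ ⊤ ∧
      MulAction.IsPretransitive N X ∧ ∀ y : X, MulAction.stabilizer N y = ⊥ := by
  classical
  by_cases hG : IsSimpleGroup G
  · exact Or.inl hG
  right
  have hnt : Nontrivial G := by
    obtain ⟨a, b, hab⟩ := hsimple.exists_pair_ne
    exact ⟨a, b, fun e => hab (Subtype.ext e)⟩
  obtain ⟨N, hN, hb, ht⟩ : ∃ N : Subgroup G, N.Normal ∧ N ≠ ⊥ ∧ N ≠ ⊤ := by
    by_contra hcon
    push Not at hcon
    exact hG ⟨fun N hN => or_iff_not_imp_left.mpr (hcon N hN)⟩
  have hfix : MulAction.fixedPoints N X ≠ Set.univ := by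
    intro e
    apply hb
    rw [Subgroup.eq_bot_iff_forall]
    intro n hn
    apply eq_of_smul_eq_smul (α := X)
    intro a
    have ha : a ∈ MulAction.fixedPoints N X := e ▸ Set.mem_univ a
    rw [one_smul]
    exact ha ⟨n, hn⟩
  have htr : MulAction.IsPretransitive N X :=
    MulAction.IsQuasiPreprimitive.isPretransitive_of_normal hfix
  refine ⟨N, hN, hb, ht, htr, ?_⟩
  have hx : MulAction.stabilizer N x = ⊥ := by
    have hnS : (N.subgroupOf (MulAction.stabilizer G x)).Normal := inferInstance
    rcases hsimple.eq_bot_or_eq_top_of_normal _ hnS with h | h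
    · rw [Subgroup.eq_bot_iff_forall]
      intro n hn
      have h1 : (⟨(n : G), hn⟩ : MulAction.stabilizer G x) ∈ N.subgroupOf _ := n.2
      rw [h, Subgroup.mem_bot] at h1
      exact Subtype.ext (congrArg (fun t : MulAction.stabilizer G x => (t : G)) h1)
    · exfalso
      apply ht
      rw [eq_top_iff]
      intro g _
      obtain ⟨n, hn⟩ := MulAction.exists_smul_eq N x (g • x)
      have hs : (n : G)⁻¹ * g ∈ MulAction.stabilizer G x := by
        rw [MulAction.mem_stabilizer_iff, mul_smul, ← hn]
        exact inv_smul_smul (n : G) x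
      have := Subgroup.subgroupOf_eq_top.mp h hs
      simpa using mul_mem n.2 this
  intro y
  obtain ⟨n, rfl⟩ := MulAction.exists_smul_eq N x y
  rw [MulAction.stabilizer_smul_eq_stabilizer_map_conj, hx, Subgroup.map_bot]

end Cfsg.Agent.S4300
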