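import Cfsg.Statements.S4301
import Mathlib
-- import your own Cfsg.Agent.* helpers here

set_option autoImplicit false
open Cfsg

namespace Cfsg.Agent.S4301

/-- One-point extension of a multiply transitive group. Let X be a set and G a group of permutations of Option X (the set X with one extra point ∗ = none) all of whose elements fix ∗, such that G is k-transitive on the points of X for some k ≥ 2, X having at least k points. Suppose a permutation h of Option X and an element g of G satisfy: h interchanges ∗ with a point x of X and fixes a point y of X; g interchanges x and y; (g h)³ and h² lie in G; and for every f in G fixing x, the product h f h lies in G and fixes x. Then an element of the group generated by G and h fixes ∗ exactly when it lies in G, and that group acts (k+1)-transitively on Option X. -/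
theorem result {X : Type*} (G : Subgroup (Equiv.Perm (Option X))) (hfix : ∀ f ∈ G, f none = none)
    (k : ℕ) (hk : 2 ≤ k) (hkX : Nonempty (Fin k ↪ X))
    (htrans : ∀ a b : Fin k ↪ X, ∃ f ∈ G, ∀ i, f (some (a i)) = some (b i))
    (h g : Equiv.Perm (Option X)) (hg : g ∈ G) (x y : X)
    (h1 : h none = some x) (h2 : h (some x) = none) (h3 : h (some y) = some y)
    (h4 : g (some x) = some y) (h5 : g (some y) = some x)
    (h6 : (g * h) ^ 3 ∈ G) (h7 : h ^ 2 ∈ G)
    (h8 : ∀ f ∈ G, f (some x) = some x → h * f * h ∈ G ∧ (h * f * h) (some x) = some x) :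
    (∀ f ∈ Subgroup.closure ((G : Set (Equiv.Perm (Option X))) ∪ {h}), f none = none ↔ f ∈ G) ∧
      MulAction.IsMultiplyPretransitive (Subgroup.closure ((G : Set (Equiv.Perm (Option X))) ∪ {h})) (Option X) (k + 1) := by
  classical
  set Γ := Subgroup.closure ((G : Set (Equiv.Perm (Option X))) ∪ {h}) with hΓ
  have hG2 : ∀ a b : X, ∃ f ∈ G, f (some a) = some b := by
    intro a b
    have ext : ∀ c : X, ∃ e : Fin k ↪ X, e ⟨0, by omega⟩ = c := by
      intro c
      obtain ⟨e⟩ := hkX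
      exact ⟨e.trans (Equiv.swap (e ⟨0, by omega⟩) c).toEmbedding, by simp⟩
    obtain ⟨ea, hea⟩ := ext a
    obtain ⟨eb, heb⟩ := ext b
    obtain ⟨f, hf, hfe⟩ := htrans ea eb
    exact ⟨f, hf, by rw [← hea, ← heb]; exact hfe _⟩
  have hG2' : ∀ c : X, c ≠ x → ∃ f ∈ G, f (some x) = some x ∧ f (some y) = some c := by
    intro c hc
    have hxy : x ≠ y := by
      rintro rfl
      rw [h2] at h3; cases h3
    have ext : ∀ d : X, d ≠ x → ∃ e : Fin k ↪ X, e ⟨0, by omega⟩ = x ∧ e ⟨1, by omega⟩ = d := by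
      intro d hd
      obtain ⟨e⟩ := hkX
      let e1 : Fin k ↪ X := e.trans (Equiv.swap (e ⟨0, by omega⟩) x).toEmbedding
      have he1 : e1 ⟨0, by omega⟩ = x := by simp [e1]
      refine ⟨e1.trans (Equiv.swap (e1 ⟨1, by omega⟩) d).toEmbedding, ?_, by simp⟩
      show Equiv.swap (e1 ⟨1, by omega⟩) d (e1 ⟨0, by omega⟩) = x
      rw [he1, Equiv.swap_apply_of_ne_of_ne ?_ hd.symm]
      rw [← he1]
      intro e'
      have := congrArg Fin.val (e1.injective e')
      simp at this
    obtain ⟨ea, hea, hea'⟩ := ext y hxy.symm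
    obtain ⟨eb, heb, heb'⟩ := ext c hc
    obtain ⟨f, hf, hfe⟩ := htrans ea eb
    refine ⟨f, hf, ?_, ?_⟩
    · have := hfe ⟨0, by omega⟩; rwa [hea, heb] at this
    · have := hfe ⟨1, by omega⟩; rwa [hea', heb'] at this
  have hsplit : ∀ f ∈ G, f (some x) = some x ∨ ∃ a ∈ G, a (some x) = some x ∧ ∃ b ∈ G, b (some x) = some x ∧ f = a * g * b := by
    intro f hf
    by_cases hfx : f (some x) = some x
    · exact Or.inl hfx
    right
    cases hv : f (some x) with
    | none =>
      have := f.injective (hv.trans (hfix f hf).symm)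
      cases this
    | some c =>
      obtain ⟨a, ha, hax, hay⟩ := hG2' c (fun e => hfx (e ▸ hv))
      refine ⟨a, ha, hax, g⁻¹ * a⁻¹ * f, mul_mem (mul_mem (inv_mem hg) (inv_mem ha)) hf, ?_, by group⟩
      show g⁻¹ (a⁻¹ (f (some x))) = some x
      rw [hv, Equiv.Perm.inv_eq_iff_eq, Equiv.Perm.inv_eq_iff_eq, h4]
      exact hay.symm
  have hinv : h⁻¹ = h * (h ^ 2)⁻¹ := by rw [pow_two]; group
  have hhgh : h * g * h = g⁻¹ * ((g * h) ^ 3 * (h ^ 2)⁻¹) * h * g⁻¹ := by
    have hc : (h ^ 2)⁻¹ * h = h * (h ^ 2)⁻¹ := ((Commute.refl h).pow_left 2).inv_left.eq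
    have e : g⁻¹ * ((g * h) ^ 3 * (h ^ 2)⁻¹) * h * g⁻¹ = g⁻¹ * (g * h) ^ 3 * (h * (h ^ 2)⁻¹) * g⁻¹ := by
      rw [← hc]; group
    rw [e, pow_succ, pow_two, pow_two]; group
  -- the double coset decomposition
  let S : Set (Equiv.Perm (Option X)) := {f | f ∈ G ∨ ∃ a ∈ G, ∃ b ∈ G, f = a * h * b}
  have hhGh : ∀ f ∈ G, h * f * h ∈ S := by
    intro f hf
    rcases hsplit f hf with hfx | ⟨a, ha, hax, b, hb, hbx, rfl⟩
    · exact Or.inl (h8 f hf hfx).1
    have ha' : h * a * h⁻¹ ∈ G := by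
      rw [hinv, ← mul_assoc (h * a)]; exact mul_mem (h8 a ha hax).1 (inv_mem h7)
    have hb' : h⁻¹ * b * h ∈ G := by
      have e : h⁻¹ * b * h = (h ^ 2)⁻¹ * (h * b * h) := by rw [pow_two]; group
      rw [e]; exact mul_mem (inv_mem h7) (h8 b hb hbx).1
    refine Or.inr ⟨h * a * h⁻¹ * (g⁻¹ * ((g * h) ^ 3 * (h ^ 2)⁻¹)),
      mul_mem ha' (mul_mem (inv_mem hg) (mul_mem h6 (inv_mem h7))), g⁻¹ * (h⁻¹ * b * h), mul_mem (inv_mem hg) hb', ?_⟩
    calc h * (a * g * b) * h = (h * a * h⁻¹) * (h * g * h) * (h⁻¹ * b * h) := by group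
      _ = _ := by rw [hhgh]; group
  have hmul : ∀ u ∈ S, ∀ v ∈ S, u * v ∈ S := by
    rintro u (hu | ⟨a, ha, b, hb, rfl⟩) v (hv | ⟨c, hc, d, hd, rfl⟩)
    · exact Or.inl (mul_mem hu hv)
    · exact Or.inr ⟨u * c, mul_mem hu hc, d, hd, by group⟩
    · exact Or.inr ⟨a, ha, b * v, mul_mem hb hv, by group⟩
    · have e : a * h * b * (c * h * d) = a * (h * (b * c) * h) * d := by group
      rw [e]
      rcases hhGh _ (mul_mem hb hc) with h' | ⟨s, hs, t, ht, hst⟩
      · exact Or.inl (mul_mem (mul_mem ha h') hd)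
      · exact Or.inr ⟨a * s, mul_mem ha hs, t * d, mul_mem ht hd, by rw [hst]; group⟩
  have hΓS : ∀ f ∈ Γ, f ∈ S := by
    intro f hf
    induction hf using Subgroup.closure_induction with
    | mem f hf =>
      rcases hf with hf | rfl
      · exact Or.inl hf
      · exact Or.inr ⟨1, one_mem G, 1, one_mem G, by group⟩
    | one => exact Or.inl (one_mem G)
    | mul u v _ _ hu hv => exact hmul u hu v hv
    | inv u _ hu =>
      rcases hu with hu | ⟨a, ha, b, hb, rfl⟩
      · exact Or.inl (inv_mem hu)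
      · refine Or.inr ⟨b⁻¹, inv_mem hb, (h ^ 2)⁻¹ * a⁻¹, mul_mem (inv_mem h7) (inv_mem ha), ?_⟩
        rw [mul_inv_rev, mul_inv_rev, hinv]; group
  have hGΓ : ∀ f ∈ G, f ∈ Γ := fun f hf => Subgroup.subset_closure (Or.inl hf)
  have hhΓ : h ∈ Γ := Subgroup.subset_closure (Or.inr rfl)
  refine ⟨fun f hf => ⟨fun hfn => ?_, hfix f⟩, ?_⟩
  · rcases hΓS f hf with hfG | ⟨a, ha, b, hb, rfl⟩
    · exact hfG
    exfalso
    simp only [Equiv.Perm.mul_apply, hfix b hb, h1] at hfn
    exact Option.noConfusion rfl (heq_of_eq (a.injective (hfn.trans (hfix a ha).symm)))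
  -- transitivity
  have h0 : ∀ o : Option X, ∃ f ∈ Γ, f o = none := by
    rintro (_ | c)
    · exact ⟨1, one_mem _, rfl⟩
    · obtain ⟨f, hf, hfc⟩ := hG2 c x
      exact ⟨h * f, mul_mem hhΓ (hGΓ f hf), by rw [Equiv.Perm.mul_apply, hfc, h2]⟩
  rw [MulAction.isMultiplyPretransitive_iff]
  -- move the first point to `none`
  have key : ∀ u : Fin (k + 1) ↪ Option X, ∃ f ∈ Γ, ∃ e : Fin k ↪ X, f (u 0) = none ∧ ∀ i, f (u i.succ) = some (e i) := by
    intro u
    obtain ⟨f, hf, hfu⟩ := h0 (u 0)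
    have hs : ∀ i : Fin k, ∃ c, f (u i.succ) = some c := by
      intro i
      cases hv : f (u i.succ) with
      | none => exact absurd (u.injective (f.injective (hv.trans hfu.symm))) (Fin.succ_ne_zero i)
      | some c => exact ⟨c, rfl⟩
    choose e he using hs
    refine ⟨f, hf, ⟨e, fun i j hij => ?_⟩, hfu, he⟩
    exact Fin.succ_injective _ (u.injective (f.injective ((he i).trans ((congrArg some hij).trans (he j).symm))))
  intro u v
  obtain ⟨f, hf, e, hf0, hfs⟩ := key u
  obtain ⟨f', hf', e', hf0', hfs'⟩ := key v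
  obtain ⟨t, ht, hte⟩ := htrans e e'
  refine ⟨⟨f'⁻¹ * t * f, mul_mem (mul_mem (inv_mem hf') (hGΓ t ht)) hf⟩, ?_⟩
  ext1 i
  show (f'⁻¹ * t * f) (u i) = v i
  rw [Equiv.Perm.mul_apply, Equiv.Perm.mul_apply, Equiv.Perm.inv_eq_iff_eq]
  refine Fin.cases ?_ (fun j => ?_) i
  · rw [hf0, hfix t ht, hf0']
  · rw [hfs, hte, hfs']

end Cfsg.Agent.S4301
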