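import Cfsg.Statements.S4302
import Mathlib
import Cfsg.Agent.Lib.PLocal.Offender.AbelianBound
import Cfsg.Agent.Lib.PLocal.Offender.Application
import Cfsg.Agent.Lib.PSolvable
import Cfsg.Agent.Lib.PLocal.SolvableSeparable
import Cfsg.Agent.S0617
-- import your own Cfsg.Agent.* helpers here

set_option autoImplicit false
open Cfsg

namespace Cfsg.Agent.S4302

namespace Aux

open Cfsg CfsgLib CfsgLib.Offender
open scoped commutatorElement Pointwise

universe u

variable {X : Type u} [Group X] [Finite X]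

/-- `A` is an abelian subgroup of `S` of largest order. -/
def MaxIn (S A : Subgroup X) : Prop :=
  A ≤ S ∧ (∀ a ∈ A, ∀ b ∈ A, a * b = b * a) ∧
    ∀ B : Subgroup X, B ≤ S → (∀ a ∈ B, ∀ b ∈ B, a * b = b * a) → Nat.card B ≤ Nat.card A

theorem le_thompsonA {S A : Subgroup X} (h : MaxIn S A) : A ≤ thompsonSubgroupAOf S := by
  intro a ha
  refine ⟨⟨a, h.1 ha⟩, le_sSup (show A.subgroupOf S ∈ maxAbelianSubgroups ↥S from ⟨?_, fun B hB => ?_⟩) ha, rfl⟩
  · exact ⟨⟨fun x y => Subtype.ext (Subtype.ext (h.2.1 _ x.2 _ y.2))⟩⟩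
  · rw [Nat.card_congr (Subgroup.subgroupOfEquivOfLe h.1).toEquiv,
      ← Subgroup.card_map_of_injective S.subtype_injective (K := B)]
    refine h.2.2 _ (Subgroup.map_subtype_le B) ?_
    rintro _ ⟨x, hx, rfl⟩ _ ⟨y, hy, rfl⟩
    rw [← map_mul, ← map_mul]
    exact congrArg _ (congrArg Subtype.val (hB.is_comm.comm ⟨x, hx⟩ ⟨y, hy⟩))

theorem thompsonA_le_iff {S M : Subgroup X} :
    thompsonSubgroupAOf S ≤ M ↔ ∀ A, MaxIn S A → A ≤ M := by
  refine ⟨fun h A hA => (le_thompsonA hA).trans h, fun h => ?_⟩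
  rw [thompsonSubgroupAOf, Subgroup.map_le_iff_le_comap, thompsonSubgroupA, sSup_le_iff]
  intro A hA
  rw [← Subgroup.map_le_iff_le_comap]
  refine h _ ⟨Subgroup.map_subtype_le A, ?_, fun B hBS hB => ?_⟩
  · rintro _ ⟨x, hx, rfl⟩ _ ⟨y, hy, rfl⟩
    rw [← map_mul, ← map_mul]
    exact congrArg _ (congrArg Subtype.val (hA.1.is_comm.comm ⟨x, hx⟩ ⟨y, hy⟩))
  · rw [Subgroup.card_map_of_injective S.subtype_injective, ← Nat.card_congr (Subgroup.subgroupOfEquivOfLe hBS).toEquiv]
    exact hA.2 _ ⟨⟨fun x y => Subtype.ext (Subtype.ext (hB _ x.2 _ y.2))⟩⟩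

theorem maxIn_conj {S A : Subgroup X} (h : MaxIn S A) (g : X) :
    MaxIn (S.map (MulAut.conj g).toMonoidHom) (A.map (MulAut.conj g).toMonoidHom) := by
  refine ⟨Subgroup.map_mono h.1, ?_, fun B hBS hB => ?_⟩
  · rintro _ ⟨x, hx, rfl⟩ _ ⟨y, hy, rfl⟩
    rw [← map_mul, ← map_mul, h.2.1 x hx y hy]
  · rw [Subgroup.card_map_of_injective (MulAut.conj g).injective,
      ← Subgroup.card_map_of_injective (f := (MulAut.conj g⁻¹).toMonoidHom) (MulAut.conj g⁻¹).injective (K := B)]
    refine h.2.2 _ ?_ ?_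
    · rintro _ ⟨b, hb, rfl⟩
      obtain ⟨s, hs, rfl⟩ := hBS hb
      simpa [mul_assoc] using hs
    · rintro _ ⟨x, hx, rfl⟩ _ ⟨y, hy, rfl⟩
      rw [← map_mul, ← map_mul, hB x hx y hy]

/-- An element of odd order fixing the involutions of an abelian normal `2`-subgroup fixes it. -/
theorem odd_fix {W : Subgroup X} [hWn : W.Normal] (hWc : ∀ a ∈ W, ∀ b ∈ W, a * b = b * a) {h : X}
    (hodd : Odd (orderOf h)) (hfix : ∀ w ∈ W, w ^ 2 = 1 → h * w * h⁻¹ = w) :
    ∀ n : ℕ, ∀ w ∈ W, w ^ 2 ^ n = 1 → h * w * h⁻¹ = w := by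
  intro n
  induction n with
  | zero => intro w _ hw; simp at hw; simp [hw]
  | succ n ih =>
    intro w hw hpow
    have hw2 : h * w ^ 2 * h⁻¹ = w ^ 2 := ih (w ^ 2) (pow_mem hw 2) (by rw [← pow_mul, ← pow_succ', hpow])
    set d := h * w * h⁻¹ * w⁻¹ with hd
    have hdW : d ∈ W := mul_mem (hWn.conj_mem w hw h) (inv_mem hw)
    have hd2 : d ^ 2 = 1 := by
      rw [hd, (show Commute (h * w * h⁻¹) w⁻¹ from hWc _ (hWn.conj_mem w hw h) _ (inv_mem hw)).mul_pow,
        conj_pow, hw2, inv_pow, mul_inv_cancel]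
    have e := CfsgLib.AbelianOffender.conj_pow_eq (g := h) (v := w) (d := d) (by rw [hd]; group)
      (hfix d hdW hd2) (orderOf h)
    rw [pow_orderOf_eq_one, one_mul, inv_one, mul_one] at e
    obtain ⟨k, hk⟩ := hodd
    rw [hk, pow_succ, pow_mul, hd2, one_pow, one_mul] at e
    have hd1 : d = 1 := mul_eq_right.1 e.symm
    rwa [hd, mul_inv_eq_one] at hd1

theorem sl_two_two_iso : Nonempty (Matrix.SpecialLinearGroup (Fin 2) (ZMod 2) ≃* Equiv.Perm (Fin 3)) := by
  let V0 := {v : Fin 2 → ZMod 2 // v ≠ 0}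
  let f : Matrix.SpecialLinearGroup (Fin 2) (ZMod 2) →* Equiv.Perm V0 :=
    { toFun := fun M =>
        { toFun := fun v => ⟨M.1.mulVec v.1, fun e => v.2 (by
            have h1 := congrArg (M⁻¹).1.mulVec e
            rwa [Matrix.mulVec_mulVec, ← Matrix.SpecialLinearGroup.coe_mul, inv_mul_cancel,
              Matrix.SpecialLinearGroup.coe_one, Matrix.one_mulVec, Matrix.mulVec_zero] at h1)⟩
          invFun := fun v => ⟨(M⁻¹).1.mulVec v.1, fun e => v.2 (by
            have h1 := congrArg M.1.mulVec e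
            rwa [Matrix.mulVec_mulVec, ← Matrix.SpecialLinearGroup.coe_mul, mul_inv_cancel,
              Matrix.SpecialLinearGroup.coe_one, Matrix.one_mulVec, Matrix.mulVec_zero] at h1)⟩
          left_inv := fun v => Subtype.ext (by
            show (M⁻¹).1.mulVec (M.1.mulVec v.1) = v.1
            rw [Matrix.mulVec_mulVec, ← Matrix.SpecialLinearGroup.coe_mul, inv_mul_cancel,
              Matrix.SpecialLinearGroup.coe_one, Matrix.one_mulVec])
          right_inv := fun v => Subtype.ext (by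
            show M.1.mulVec ((M⁻¹).1.mulVec v.1) = v.1
            rw [Matrix.mulVec_mulVec, ← Matrix.SpecialLinearGroup.coe_mul, mul_inv_cancel,
              Matrix.SpecialLinearGroup.coe_one, Matrix.one_mulVec]) }
      map_one' := by ext v; simp
      map_mul' := fun M N => Equiv.ext fun v => Subtype.ext (by
        show (M * N).1.mulVec v.1 = M.1.mulVec (N.1.mulVec v.1)
        rw [Matrix.mulVec_mulVec, Matrix.SpecialLinearGroup.coe_mul]) }
  have hinj : Function.Injective f := by
    intro M N h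
    apply Subtype.ext
    refine Matrix.ext_of_mulVec_single fun j => ?_
    exact congrArg Subtype.val (Equiv.ext_iff.1 h ⟨Pi.single j 1, by simp⟩)
  have hV0 : Fintype.card V0 = 3 := by decide +kernel
  have hcard : Fintype.card (Matrix.SpecialLinearGroup (Fin 2) (ZMod 2)) = 6 := by decide +kernel
  have hbij : Function.Bijective f :=
    (Fintype.bijective_iff_injective_and_card f).2 ⟨hinj, by rw [hcard, Fintype.card_perm, hV0]; rfl⟩
  exact ⟨(MulEquiv.ofBijective f hbij).trans (Fintype.equivFinOfCardEq hV0).permCongrHom⟩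

/-- A group with independent pairwise centralising subgroups of type `S₃` generating it. -/
theorem product_iso {G : Type*} [Group G] {ι : Type*} [Finite ι] (E : ι → Subgroup G) {H : Subgroup G}
    (hn : ∀ i, H ≤ Subgroup.normalizer (E i : Set G)) (hind : iSupIndep E) (hsup : ⨆ i, E i = H)
    (hiso : ∀ i, Nonempty (↥(E i) ≃* Equiv.Perm (Fin 3))) :
    Nonempty (↥H ≃* (Fin (Nat.card ι) → Equiv.Perm (Fin 3))) := by
  classical
  haveI := Fintype.ofFinite ι
  have hle : ∀ i, E i ≤ H := fun i => hsup ▸ le_iSup E i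
  have hcomm : Pairwise fun i j : ι => ∀ x y : G, x ∈ E i → y ∈ E j → Commute x y := by
    intro i j hij x y hx hy
    rw [← commutatorElement_eq_one_iff_commute, ← Subgroup.mem_bot,
      ← disjoint_iff.1 (hind.pairwiseDisjoint hij), commutatorElement_def]
    refine Subgroup.mem_inf.2 ⟨?_, ?_⟩
    · have h1 := (Subgroup.mem_normalizer_iff.1 (hn i (hle j hy)) x⁻¹).1 (inv_mem hx)
      rw [show x * y * x⁻¹ * y⁻¹ = x * (y * x⁻¹ * y⁻¹) by group]
      exact mul_mem hx h1
    · exact mul_mem ((Subgroup.mem_normalizer_iff.1 (hn j (hle i hx)) y).1 hy) (inv_mem hy)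
  have hinj : Function.Injective (Subgroup.noncommPiCoprod hcomm) :=
    Subgroup.injective_noncommPiCoprod_of_iSupIndep hind
  have hr : (Subgroup.noncommPiCoprod hcomm).range = H := by rw [Subgroup.noncommPiCoprod_range, hsup]
  let e₁ : (∀ i, ↥(E i)) ≃* ↥H := (MonoidHom.ofInjective hinj).trans (MulEquiv.subgroupCongr hr)
  let e₂ : (∀ i, ↥(E i)) ≃* (ι → Equiv.Perm (Fin 3)) := MulEquiv.piCongrRight fun i => (hiso i).some
  let e₃ : (ι → Equiv.Perm (Fin 3)) ≃* (Fin (Nat.card ι) → Equiv.Perm (Fin 3)) :=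
    { Equiv.arrowCongr (Finite.equivFin ι) (Equiv.refl (Equiv.Perm (Fin 3))) with map_mul' := fun _ _ => rfl }
  exact ⟨e₁.symm.trans (e₂.trans e₃)⟩

theorem main [Group.IsSolvable X] (hF : fittingSubgroup X = pCore 2 X) (T : Sylow 2 X) :
    ((Subgroup.centralizer (((T : Subgroup X) ⊓ Subgroup.centralizer ((T : Subgroup X) : Set X) : Subgroup X) : Set X)).normalCore
        ⊔ Subgroup.normalClosure (thompsonSubgroupAOf (T : Subgroup X) : Set X)
        ⊔ Subgroup.normalizer (thompsonSubgroupAOf (T : Subgroup X) : Set X) = ⊤) ∧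
    (Subgroup.normalClosure (thompsonSubgroupAOf (T : Subgroup X) : Set X)
        ≤ (Subgroup.centralizer (((T : Subgroup X) ⊓ Subgroup.centralizer ((T : Subgroup X) : Set X) : Subgroup X) : Set X)).normalCore
      ∨ ∃ n : ℕ, 1 ≤ n ∧
        Nonempty (↥(Subgroup.normalClosure (thompsonSubgroupAOf (T : Subgroup X) : Set X)) ⧸
            ((Subgroup.centralizer (((T : Subgroup X) ⊓ Subgroup.centralizer ((T : Subgroup X) : Set X) : Subgroup X) : Set X)).normalCore).subgroupOf
              (Subgroup.normalClosure (thompsonSubgroupAOf (T : Subgroup X) : Set X))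
          ≃* (Fin n → Equiv.Perm (Fin 3)))) := by
  haveI : Fact (Nat.Prime 2) := ⟨Nat.prime_two⟩
  set J := thompsonSubgroupAOf (T : Subgroup X) with hJ
  set Y := Subgroup.normalClosure (J : Set X) with hY
  set Z := (T : Subgroup X) ⊓ Subgroup.centralizer ((T : Subgroup X) : Set X) with hZ
  constructor
  · -- Frattini
    have hJY : J ≤ Y := Subgroup.subset_normalClosure
    obtain ⟨P, hP⟩ := CfsgLib.PLocal.exists_sylow_inf T Y
    have hFr := Sylow.normalizer_sup_eq_top P
    rw [eq_top_iff, ← hFr]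
    refine sup_le (le_trans (fun g hg => ?_) le_sup_right) ((le_sup_right.trans le_sup_left))
    rw [hP] at hg
    have hmove : ∀ g ∈ Subgroup.normalizer (((T : Subgroup X) ⊓ Y : Subgroup X) : Set X),
        J ≤ J.comap (MulAut.conj g).toMonoidHom := by
      intro g hg
      rw [hJ, thompsonA_le_iff]
      intro A hA
      rw [← Subgroup.map_le_iff_le_comap]
      have hAP : A ≤ (T : Subgroup X) ⊓ Y := le_inf hA.1 ((le_thompsonA hA).trans hJY)
      have h1 : A.map (MulAut.conj g).toMonoidHom ≤ (T : Subgroup X) := by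
        rintro _ ⟨a, ha, rfl⟩
        exact ((Subgroup.mem_normalizer_iff.1 hg a).1 (hAP ha)).1
      refine le_thompsonA ⟨h1, ?_, fun B hBS hB => ?_⟩
      · rintro _ ⟨x, hx, rfl⟩ _ ⟨y, hy, rfl⟩
        rw [← map_mul, ← map_mul, hA.2.1 x hx y hy]
      · rw [Subgroup.card_map_of_injective (MulAut.conj g).injective]
        exact hA.2.2 B hBS hB
    refine Subgroup.mem_normalizer_iff.2 fun x => ⟨fun hx => hmove g hg hx, fun hx => ?_⟩
    have := hmove g⁻¹ (inv_mem hg) hx
    simpa [mul_assoc] using this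
  -- the centre of `T` generates an abelian normal `2`-subgroup
  set W := Subgroup.normalClosure (Z : Set X) with hW
  set O := pCore 2 X with hO
  have hCO : Subgroup.centralizer (O : Set X) ≤ O := hF ▸ centralizer_fitting_le
  have hZle : Z ≤ O ⊓ Subgroup.centralizer (O : Set X) := by
    have h1 : Z ≤ Subgroup.centralizer (O : Set X) :=
      inf_le_right.trans (Subgroup.centralizer_le (pCore_le_sylow T))
    exact le_inf (h1.trans hCO) h1
  haveI : O.Normal := inferInstance
  have hWle : W ≤ O ⊓ Subgroup.centralizer (O : Set X) := Subgroup.normalClosure_le_normal hZle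
  have hWc : ∀ a ∈ W, ∀ b ∈ W, a * b = b * a := fun a ha b hb => (hWle hb).2 a (hWle ha).1
  have hWp : IsPGroup 2 W := (isPGroup_pCore 2).to_le (hWle.trans inf_le_left)
  set C := (Subgroup.centralizer (Z : Set X)).normalCore with hC
  have hCW : C = Subgroup.centralizer (W : Set X) := by
    refine le_antisymm ?_ ?_
    · rw [Subgroup.le_centralizer_iff]
      refine Subgroup.normalClosure_le_normal (SetLike.coe_subset_coe.2 ?_)
      rw [Subgroup.le_centralizer_iff]
      exact Subgroup.normalCore_le _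
    · exact Subgroup.normal_le_normalCore.2 (Subgroup.centralizer_le Subgroup.subset_normalClosure)
  -- its involutions
  let U : Subgroup X :=
    { carrier := {w | w ∈ W ∧ w ^ 2 = 1}
      one_mem' := ⟨one_mem W, one_pow 2⟩
      mul_mem' := fun {a b} ha hb =>
        ⟨mul_mem ha.1 hb.1, by rw [(show Commute a b from hWc a ha.1 b hb.1).mul_pow, ha.2, hb.2, one_mul]⟩
      inv_mem' := fun {a} ha => ⟨inv_mem ha.1, by rw [inv_pow, ha.2, inv_one]⟩ }
  haveI : U.Normal := ⟨fun w hw g => ⟨(inferInstance : W.Normal).conj_mem w hw.1 g, by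
    rw [conj_pow, hw.2, mul_one, mul_inv_cancel]⟩⟩
  have hUW : U ≤ W := fun w hw => hw.1
  have hUe : IsElementaryAbelian 2 U :=
    ⟨⟨⟨fun a b => Subtype.ext (hWc a (hUW a.2) b (hUW b.2))⟩⟩, fun a ha => ha.2⟩
  -- `O₂(X / C) = 1`
  have hkill : ∀ M : Subgroup X, M.Normal → (∀ m ∈ M, ∃ k : ℕ, m ^ 2 ^ k ∈ C) → M ≤ C := by
    intro M hM hMk
    haveI := hM
    haveI : C.Normal := Subgroup.normalCore_normal _
    set q := QuotientGroup.mk' C with hq
    have hp : IsPGroup 2 (M.map q) := by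
      rintro ⟨_, m, hm, rfl⟩
      obtain ⟨k, hk⟩ := hMk m hm
      refine ⟨k, Subtype.ext ?_⟩
      rw [SubgroupClass.coe_pow, ← map_pow]
      exact (QuotientGroup.eq_one_iff _).2 hk
    haveI : (M.map q).Normal := hM.map q (QuotientGroup.mk'_surjective C)
    have hle : M.map q ≤ (T : Subgroup X).map q :=
      (le_pCore hp).trans (pCore_le_sylow (T.mapSurjective (QuotientGroup.mk'_surjective C)))
    refine Subgroup.normal_le_normalCore.2 fun m hm z hz => ?_
    obtain ⟨s, hs, hsm⟩ := hle ⟨m, hm, rfl⟩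
    have hd : s⁻¹ * m ∈ Subgroup.centralizer (Z : Set X) :=
      Subgroup.normalCore_le _ (QuotientGroup.eq.1 hsm)
    have h1 : z * s = s * z := (hz.2 s hs).symm
    have h2 : z * (s⁻¹ * m) = s⁻¹ * m * z := hd z hz
    calc z * m = z * s * (s⁻¹ * m) := by group
      _ = s * (z * (s⁻¹ * m)) := by rw [h1]; group
      _ = m * z := by rw [h2]; group
  have hCU : Subgroup.centralizer (U : Set X) = C := by
    refine le_antisymm (hkill _ inferInstance fun m hm => ?_) (hCW ▸ Subgroup.centralizer_le hUW)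
    obtain ⟨k, r, hr, hkr⟩ := Nat.exists_eq_two_pow_mul_odd (orderOf_pos m).ne'
    refine ⟨k, ?_⟩
    rw [hCW]
    intro w hw
    have hodd : Odd (orderOf (m ^ 2 ^ k)) := by
      rw [orderOf_pow' _ (by positivity), hkr, Nat.gcd_mul_right_left, Nat.mul_div_cancel_left _ (by positivity)]
      exact hr
    obtain ⟨n, hn⟩ := hWp ⟨w, hw⟩
    have h1 := odd_fix hWc hodd (fun u hu hu2 => by
      rw [← (pow_mem hm _ : m ^ 2 ^ k ∈ Subgroup.centralizer (U : Set X)) u ⟨hu, hu2⟩, mul_inv_cancel_right])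
      n w hw (by simpa using congrArg Subtype.val hn)
    exact (mul_inv_eq_iff_eq_mul.1 h1).symm
  by_cases hYC : Y ≤ C
  · exact Or.inl hYC
  right
  have hsep : IsPSolvable 2 X := CfsgLib.PLocal.isPSolvable_of_isSolvable _ X rfl inferInstance
  have hOU : pCore 2 (X ⧸ Subgroup.centralizer (U : Set X)) = ⊥ := by
    set q := QuotientGroup.mk' (Subgroup.centralizer (U : Set X)) with hq
    rw [← Subgroup.map_comap_eq_self_of_surjective (QuotientGroup.mk'_surjective _) (pCore 2 _),
      Subgroup.map_eq_bot_iff, QuotientGroup.ker_mk']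
    refine (hkill _ inferInstance fun m hm => ?_).trans hCU.ge
    obtain ⟨k, hk⟩ := isPGroup_pCore 2 (⟨q m, hm⟩ : pCore 2 (X ⧸ Subgroup.centralizer (U : Set X)))
    refine ⟨k, ?_⟩
    rw [← hCU, ← QuotientGroup.eq_one_iff]
    exact (map_pow q m _).trans (congrArg Subtype.val hk)
  -- images of abelian subgroups of largest order are best offenders
  have hbest : ∀ S : Sylow 2 X, ∀ A, MaxIn (S : Subgroup X) A →
      IsBestOffenderOn 2 (splitV U) (A.map (toSplit U)) := by
    intro S A hA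
    have hWS : W ≤ (S : Subgroup X) := (hWle.trans inf_le_left).trans (pCore_le_sylow S)
    set A₁ := A ⊓ C with hA₁
    have hA₁W : ∀ a ∈ A₁, ∀ w ∈ W, a * w = w * a := fun a ha w hw => ((hCW.le ha.2) w hw).symm
    have hsup : ∀ x ∈ A₁ ⊔ W, ∀ y ∈ A₁ ⊔ W, x * y = y * x := by
      have hle : A₁ ⊔ W ≤ Subgroup.centralizer ((A₁ ⊔ W : Subgroup X) : Set X) := by
        refine sup_le ?_ ?_ <;> rw [Subgroup.le_centralizer_iff] <;> refine sup_le ?_ ?_
        · exact fun x hx y hy => hA.2.1 y hy.1 x hx.1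
        · exact fun x hx y hy => hA₁W y hy x hx
        · exact fun x hx y hy => (hA₁W x hx y hy).symm
        · exact fun x hx y hy => hWc y hy x hx
      exact fun x hx y hy => hle hy x hx
    have h1 : Nat.card ↥(A₁ ⊔ W) ≤ Nat.card A := hA.2.2 _ (sup_le (inf_le_left.trans hA.1) hWS) hsup
    have h2 : Nat.card ↥(A₁ ⊓ W) ≤ Nat.card ↥(W ⊓ Subgroup.centralizer (A : Set X)) :=
      Subgroup.card_le_of_le fun x hx => ⟨hx.2, fun a ha => hA.2.1 a ha x hx.1.1⟩
    have h3 := CfsgLib.Products.card_mul_card_le A₁ W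
    have h4 := CfsgLib.Products.card_mul_card_le U (W ⊓ Subgroup.centralizer (A : Set X))
    have h5 : U ⊓ (W ⊓ Subgroup.centralizer (A : Set X)) = U ⊓ Subgroup.centralizer (A : Set X) := by
      rw [← inf_assoc, inf_eq_left.2 hUW]
    rw [h5] at h4
    have h6 : Nat.card ↥(U ⊔ W ⊓ Subgroup.centralizer (A : Set X)) ≤ Nat.card W :=
      Subgroup.card_le_of_le (sup_le hUW inf_le_left)
    have h7 : Nat.card A₁ * Nat.card U ≤ Nat.card A * Nat.card ↥(U ⊓ Subgroup.centralizer (A : Set X)) := by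
      refine Nat.le_of_mul_le_mul_left ?_ (Nat.card_pos (α := W))
      calc Nat.card W * (Nat.card A₁ * Nat.card U) = Nat.card A₁ * Nat.card W * Nat.card U := by ring
        _ ≤ Nat.card A * Nat.card ↥(W ⊓ Subgroup.centralizer (A : Set X)) * Nat.card U :=
            Nat.mul_le_mul_right _ (h3.trans (Nat.mul_le_mul h1 h2))
        _ = Nat.card A * (Nat.card U * Nat.card ↥(W ⊓ Subgroup.centralizer (A : Set X))) := by ring
        _ ≤ Nat.card A * (Nat.card W * Nat.card ↥(U ⊓ Subgroup.centralizer (A : Set X))) :=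
            Nat.mul_le_mul_left _ (h4.trans (Nat.mul_le_mul_right _ h6))
        _ = _ := by ring
    have h8 : Nat.card U ≤ Nat.card (A.map (toSplit U)) * Nat.card ↥(U ⊓ Subgroup.centralizer (A : Set X)) := by
      refine Nat.le_of_mul_le_mul_left ?_ (Nat.card_pos (α := A₁))
      refine h7.trans (le_of_eq ?_)
      rw [← card_map_split (V := U) A, show A ⊓ Subgroup.centralizer (U : Set X) = A₁ by rw [hA₁, hCU]]
      ring
    have S₀ := setup_split hUe hsep hOU ⊤
    have hAc : ∀ a ∈ A.map (toSplit U), ∀ b ∈ A.map (toSplit U), a * b = b * a := by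
      rintro _ ⟨x, hx, rfl⟩ _ ⟨y, hy, rfl⟩
      rw [← map_mul, ← map_mul, hA.2.1 x hx y hy]
    have hbig : Nat.card (splitV U) ≤ Nat.card (A.map (toSplit U)) *
        Nat.card ↥(splitV U ⊓ Subgroup.centralizer ((A.map (toSplit U) : Subgroup (Split U)) : Set (Split U))) := by
      rw [card_fixed_map, card_splitV]; exact h8
    obtain ⟨he, heq⟩ := elem_of_abelian_offender S₀ _ _ rfl ((S.isPGroup'.to_le hA.1).map _) hAc
      (Subgroup.map_mono le_top) hbig
    exact best_of_card_eq S₀ he (Subgroup.map_mono le_top) heq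
  haveI : Y.Normal := Subgroup.normalClosure_normal
  set H := Y.map (toSplit U) with hH
  have hS3 : H = ⨆ A : {A : Subgroup (Split U) // A ≤ H ∧ IsBestOffenderOn 2 (splitV U) A}, (A : Subgroup (Split U)) := by
    refine le_antisymm ?_ (iSup_le fun A => A.2.1)
    set R := ⨆ A : {A : Subgroup (Split U) // A ≤ H ∧ IsBestOffenderOn 2 (splitV U) A}, (A : Subgroup (Split U))
    rw [hH, Subgroup.map_le_iff_le_comap, hY, Subgroup.normalClosure, Subgroup.closure_le]
    intro y hy
    obtain ⟨x, hx, hc⟩ := Group.mem_conjugatesOfSet_iff.1 hy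
    obtain ⟨g, rfl⟩ := isConj_iff.1 hc
    have hle : J ≤ (R.comap (toSplit U)).comap (MulAut.conj g).toMonoidHom := by
      rw [hJ, thompsonA_le_iff]
      intro A hA
      rw [← Subgroup.map_le_iff_le_comap, ← Subgroup.map_le_iff_le_comap]
      have hA' := maxIn_conj hA g
      have hb := hbest (g • T) _ hA'
      refine le_iSup_of_le (ι := {A : Subgroup (Split U) // A ≤ H ∧ IsBestOffenderOn 2 (splitV U) A})
        ⟨_, ?_, hb⟩ le_rfl
      refine Subgroup.map_mono ?_
      rintro _ ⟨a, ha, rfl⟩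
      exact ‹Y.Normal›.conj_mem a (Subgroup.subset_normalClosure (le_thompsonA hA ha)) g
    exact hle hx
  have hH1 : H ≠ ⊥ := fun e => hYC (by
    rw [← hCU, ← toSplit_ker]
    exact (Subgroup.map_eq_bot_iff Y).1 e)
  obtain ⟨-, hE, hind, hsup, -, -⟩ := Cfsg.Agent.S0617.result (splitV U) H (splitV_elem hUe) (normalizer_splitV Y)
    (faith_split Y) (core_hyp hsep hOU Y) hS3 hH1
  obtain ⟨e⟩ := product_iso _ (fun E => (hE E).1) hind hsup fun E =>
    ⟨(hE E).2.1.some.trans sl_two_two_iso.some⟩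
  refine ⟨_, ?_, ⟨MulEquiv.trans ?_ e⟩⟩
  · rw [Nat.one_le_iff_ne_zero, Ne, Finite.card_eq_zero_iff]
    intro hemp
    exact hH1 (hsup ▸ iSup_of_empty _)
  · let f : ↥Y →* Split U := (toSplit U).comp Y.subtype
    have hk : f.ker = C.subgroupOf Y := by
      rw [← MonoidHom.comap_ker, toSplit_ker, hCU]; rfl
    have hr : f.range = H := by rw [MonoidHom.range_comp, Subgroup.range_subtype]
    exact (QuotientGroup.quotientMulEquivOfEq hk.symm).trans
      ((QuotientGroup.quotientKerEquivRange f).trans (MulEquiv.subgroupCongr hr))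

end Aux

/-- Let `X` be a finite solvable group whose Fitting subgroup is a 2-group (equivalently `F(X) = O₂(X)`), `T` a Sylow 2-subgroup of `X`, `J(T)` the subgroup generated by the abelian subgroups of `T` of largest order, `C` the largest normal subgroup of `X` centralizing the centre `Z(T)`, and `Y` the normal closure of `J(T)` in `X`. Then `X = C · Y · N_X(J(T))`, and either `Y ≤ C`, or `CY/C` is isomorphic to a direct product of at least one copy of the symmetric group of degree 3. -/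
theorem result {X : Type*} [Group X] [Finite X]
    [Group.IsSolvable X] (hF : Cfsg.fittingSubgroup X = Cfsg.pCore 2 X) (T : Sylow 2 X) :
    ((Subgroup.centralizer (((T : Subgroup X) ⊓ Subgroup.centralizer ((T : Subgroup X) : Set X) : Subgroup X) : Set X)).normalCore
        ⊔ Subgroup.normalClosure (Cfsg.thompsonSubgroupAOf (T : Subgroup X) : Set X)
        ⊔ Subgroup.normalizer (Cfsg.thompsonSubgroupAOf (T : Subgroup X) : Set X) = ⊤) ∧
    (Subgroup.normalClosure (Cfsg.thompsonSubgroupAOf (T : Subgroup X) : Set X)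
        ≤ (Subgroup.centralizer (((T : Subgroup X) ⊓ Subgroup.centralizer ((T : Subgroup X) : Set X) : Subgroup X) : Set X)).normalCore
      ∨ ∃ n : ℕ, 1 ≤ n ∧
        Nonempty (↥(Subgroup.normalClosure (Cfsg.thompsonSubgroupAOf (T : Subgroup X) : Set X)) ⧸
            ((Subgroup.centralizer (((T : Subgroup X) ⊓ Subgroup.centralizer ((T : Subgroup X) : Set X) : Subgroup X) : Set X)).normalCore).subgroupOf
              (Subgroup.normalClosure (Cfsg.thompsonSubgroupAOf (T : Subgroup X) : Set X))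
          ≃* (Fin n → Equiv.Perm (Fin 3)))) := by
  exact Aux.main hF T

end Cfsg.Agent.S4302
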