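import Cfsg.Statements.S4304
import Cfsg.Agent.Lib.SylowExtra
import Mathlib
-- import your own Cfsg.Agent.* helpers here

set_option autoImplicit false
open Cfsg

namespace Cfsg.Agent.S4304

open Subgroup CfsgLib MulAction

/-- A normal subgroup of index prime to `p` has the same Sylow `p`-subgroups. -/
theorem card_sylow_normal_eq {G : Type*} [Group G] [Finite G] {p : ℕ} [hp : Fact p.Prime]
    (M : Subgroup G) [M.Normal] (h : ¬ p ∣ M.index) :
    Nat.card (Sylow p M) = Nat.card (Sylow p G) := by
  obtain ⟨Q, hQ⟩ := exists_sylow_le_of_not_dvd_index M h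
  have hle : ∀ P : Sylow p G, (P : Subgroup G) ≤ M := by
    intro P
    obtain ⟨g, rfl⟩ := MulAction.exists_smul_eq G Q P
    rw [Sylow.coe_subgroup_smul]
    intro x hx
    obtain ⟨y, hy, rfl⟩ := Subgroup.mem_map.mp hx
    exact Subgroup.Normal.conj_mem inferInstance y (hQ hy) g
  refine (Nat.card_eq_of_bijective (fun P : Sylow p G => sylowInfNormal P M) ⟨?_, ?_⟩).symm
  · intro P P' hPP
    have h1 := congrArg (fun S : Sylow p M => ((S : Subgroup M).map M.subtype)) hPP
    simp only [coe_sylowInfNormal, Subgroup.map_subgroupOf_eq_of_le (hle _)] at h1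
    exact Sylow.ext h1
  · intro S
    obtain ⟨P, hP⟩ := (S.2.map M.subtype).exists_le_sylow
    refine ⟨P, Sylow.ext (S.3 (sylowInfNormal P M).2 fun x hx => ?_)⟩
    rw [coe_sylowInfNormal, Subgroup.mem_subgroupOf]
    exact hP ⟨x, hx, rfl⟩

theorem dvd315 {G : Type*} [Group G] [Finite G] [Fact (Nat.Prime 7)] (hd : Nat.card G ∣ 315) :
    Nat.card (Sylow 7 G) ≠ 15 := by
  intro h15
  have : Fact (Nat.Prime 5) := ⟨by norm_num⟩
  have h5 : 5 ∣ Nat.card G := by
    obtain ⟨P⟩ : Nonempty (Sylow 7 G) := inferInstance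
    refine (show 5 ∣ 15 by norm_num).trans (h15 ▸ ?_)
    rw [P.card_eq_index_normalizer]
    exact Subgroup.index_dvd_card _
  obtain ⟨S⟩ : Nonempty (Sylow 5 G) := inferInstance
  have hS : Nat.card S = 5 := by
    obtain ⟨b, hb⟩ := S.2.exists_card_eq
    have hdd : 5 ^ b ∣ 315 := hb ▸ (Subgroup.card_subgroup_dvd_card _).trans hd
    rcases Nat.lt_or_ge b 2 with hb2 | hb2
    · interval_cases b
      · have := S.dvd_card_of_dvd_card h5
        rw [hb] at this
        norm_num at this
      · simpa using hb
    · exfalso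
      have := (pow_dvd_pow 5 hb2).trans hdd
      norm_num at this
  have hcyc : IsCyclic (S : Subgroup G) := isCyclic_of_prime_card (p := 5) hS
  have hle : Subgroup.normalizer ((S : Subgroup G) : Set G) ≤
      Subgroup.centralizer ((S : Subgroup G) : Set G) := by
    have key := Subgroup.card_dvd_of_injective _
      (QuotientGroup.kerLift_injective (S : Subgroup G).normalizerMonoidHom)
    rw [Subgroup.normalizerMonoidHom_ker, ← Subgroup.index, ← Subgroup.relIndex, hcyc.card_mulAut,
      hS, Nat.totient_prime (by norm_num)] at key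
    refine Subgroup.relIndex_eq_one.mp (Nat.eq_one_of_dvd_coprimes
      (by norm_num : Nat.Coprime 315 4) ?_ key)
    exact ((Subgroup.relIndex_dvd_card _ _).trans (Subgroup.card_subgroup_dvd_card _)).trans hd
  set M := (MonoidHom.transferSylow S hle).ker with hM
  have hc : M.IsComplement' (S : Subgroup G) := MonoidHom.ker_transferSylow_isComplement' S hle
  have hMidx : M.index = 5 := by rw [hc.symm.index_eq_card, hS]
  have hMcard : Nat.card M ∣ 63 := by
    have := M.card_mul_index
    rw [hMidx] at this
    rw [← this] at hd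
    exact Nat.dvd_of_mul_dvd_mul_right (by norm_num : 0 < 5) (by simpa using hd)
  have hn := card_sylow_normal_eq (p := 7) M (by rw [hMidx]; norm_num)
  obtain ⟨P⟩ : Nonempty (Sylow 7 M) := inferInstance
  have h1 : Nat.card (Sylow 7 M) ∣ 63 := by
    rw [P.card_eq_index_normalizer]
    exact (Subgroup.index_dvd_card _).trans hMcard
  rw [hn, h15] at h1
  norm_num at h1

theorem dvd630 {G : Type*} [Group G] [Finite G] [Fact (Nat.Prime 7)] (hd : Nat.card G ∣ 630) :
    Nat.card (Sylow 7 G) ≠ 15 := by
  intro h15
  have : Fact (Nat.Prime 2) := ⟨Nat.prime_two⟩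
  by_cases h2 : 2 ∣ Nat.card G
  · obtain ⟨S⟩ : Nonempty (Sylow 2 G) := inferInstance
    have hS : Nat.card S = 2 := by
      obtain ⟨b, hb⟩ := S.2.exists_card_eq
      have hdd : 2 ^ b ∣ 630 := hb ▸ (Subgroup.card_subgroup_dvd_card _).trans hd
      rcases Nat.lt_or_ge b 2 with hb2 | hb2
      · interval_cases b
        · have := S.dvd_card_of_dvd_card h2
          rw [hb] at this
          norm_num at this
        · simpa using hb
      · exfalso
        have := (pow_dvd_pow 2 hb2).trans hdd
        norm_num at this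
    have hcyc : IsCyclic (S : Subgroup G) := isCyclic_of_prime_card (p := 2) hS
    have hc := hcyc.isComplement' ((Nat.minFac_eq_two_iff _).mpr h2)
    set M := (MonoidHom.transferSylow S
      (hcyc.normalizer_le_centralizer ((Nat.minFac_eq_two_iff _).mpr h2))).ker with hM
    have hMidx : M.index = 2 := by rw [hc.symm.index_eq_card, hS]
    have hMcard : Nat.card M ∣ 315 := by
      have := M.card_mul_index
      rw [hMidx] at this
      rw [← this] at hd
      exact Nat.dvd_of_mul_dvd_mul_right (by norm_num : 0 < 2) (by simpa using hd)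
    have hn := card_sylow_normal_eq (p := 7) M (by rw [hMidx]; norm_num)
    exact dvd315 hMcard (hn.trans h15)
  · refine dvd315 ?_ h15
    exact (Nat.prime_two.coprime_iff_not_dvd.mpr h2).symm.dvd_of_dvd_mul_left
      (show Nat.card G ∣ 2 * 315 by simpa using hd)

/-- There is no permutation group of degree 15 consisting of even permutations whose action is
that on its Sylow 7-subgroups. -/
theorem key {Ω : Type*} [Fintype Ω] [DecidableEq Ω] [Fact (Nat.Prime 7)]
    (R : Subgroup (Equiv.Perm Ω)) (h15 : Fintype.card Ω = 15) (ψ : Ω → Sylow 7 R)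
    (hinj : Function.Injective ψ) (hsurj : Function.Surjective ψ)
    (heq : ∀ (r : R) (ω : Ω), ψ (r • ω) = r • ψ ω)
    (heven : ∀ r : R, Equiv.Perm.sign (r : Equiv.Perm Ω) = 1) : False := by
  classical
  have := Fintype.ofFinite R
  have hn15 : Nat.card (Sylow 7 R) = 15 := by
    rw [← Nat.card_eq_of_bijective ψ ⟨hinj, hsurj⟩, Nat.card_eq_fintype_card, h15]
  have hN : ∀ (r : R) (ω : Ω), r • ω = ω ↔ r ∈ Subgroup.normalizer (((ψ ω : Subgroup R)) : Set R) := by
    intro r ω
    refine Iff.trans ?_ (Sylow.smul_eq_iff_mem_normalizer (g := r) (P := ψ ω))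
    exact ⟨fun h => by rw [← heq, h], fun h => hinj (by rw [heq, h])⟩
  have hfixmem : ∀ (ω a : Ω) (x : R), x ∈ (ψ ω : Subgroup R) →
      (x • a = a ↔ x ∈ (ψ a : Subgroup R)) := by
    intro ω a x hx
    rw [hN]
    refine ⟨fun h => ?_, fun h => Subgroup.le_normalizer h⟩
    have : x ∈ (ψ ω : Subgroup R) ⊓ Subgroup.normalizer (((ψ a : Subgroup R)) : Set R) := ⟨hx, h⟩
    exact (((ψ ω).2.inf_normalizer_sylow (ψ a)).le this).2
  have honly : ∀ ω a : Ω, (∀ x ∈ (ψ ω : Subgroup R), x • a = a) → a = ω := fun ω a h =>
    hinj (Sylow.ext ((ψ ω).3 (ψ a).2 fun x hx => (hfixmem ω a x hx).mp (h x hx)))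
  have hext : ∀ x : R, (∀ a : Ω, x • a = a) → x = 1 := fun x h =>
    Subtype.ext (Equiv.ext fun a => h a)
  let f : R → ℕ := fun x => (Finset.univ.filter fun a : Ω => x • a = a).card
  have hcnt : ∀ (ω : Ω) (x : R), x ∈ (ψ ω : Subgroup R) → x ≠ 1 → f x = 1 ∨ f x = 8 := by
    intro ω x hx hx1
    have hz : IsPGroup 7 (Subgroup.zpowers x) :=
      (ψ ω).2.to_le (by rwa [Subgroup.zpowers_le])
    have hmod := hz.card_modEq_card_fixedPoints Ω
    have hfix : Nat.card (fixedPoints (Subgroup.zpowers x) Ω) = f x := by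
      rw [Nat.card_eq_fintype_card]
      refine Fintype.card_of_subtype _ fun a => ?_
      rw [Finset.mem_filter]
      refine ⟨fun h g => ?_, fun h => ⟨Finset.mem_univ _, h ⟨x, Subgroup.mem_zpowers x⟩⟩⟩
      obtain ⟨g, i, rfl⟩ := g
      show (x ^ i) • a = a
      exact mem_stabilizer_iff.mp (zpow_mem (mem_stabilizer_iff.mpr h.2) i)
    rw [hfix, Nat.card_eq_fintype_card, h15] at hmod
    have hpos : 0 < f x := Finset.card_pos.mpr ⟨ω, by
      simp only [Finset.mem_filter, Finset.mem_univ, true_and]
      exact (hfixmem ω ω x hx).mpr hx⟩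
    have hlt : f x < 15 := by
      rw [← h15, ← Finset.card_univ]
      refine Finset.card_lt_card ((Finset.ssubset_univ_iff).mpr fun h => hx1 (hext x fun a => ?_))
      have : a ∈ Finset.univ.filter fun a : Ω => x • a = a := by rw [h]; exact Finset.mem_univ a
      exact (Finset.mem_filter.mp this).2
    unfold Nat.ModEq at hmod
    omega
  obtain ⟨ω₀⟩ : Nonempty Ω := Fintype.card_pos_iff.mp (by omega)
  obtain ⟨n, hn⟩ := (ψ ω₀).2.exists_card_eq
  have hcardS : ∀ ω, Nat.card (ψ ω) = 7 ^ n := fun ω => by
    rw [← hn]; exact Nat.card_congr ((ψ ω).equiv (ψ ω₀)).toEquiv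
  have horb : ∀ (ω a : Ω), Nat.card (orbit (ψ ω) a) ∣ 7 ^ n := by
    intro ω a
    rw [← hcardS ω]
    exact ⟨Nat.card (stabilizer (ψ ω) a), by
      rw [Nat.card_eq_fintype_card, Nat.card_eq_fintype_card, Nat.card_eq_fintype_card,
        MulAction.card_orbit_mul_card_stabilizer_eq_card_group]⟩
  have horb7 : ∀ (ω a : Ω), a ≠ ω → Nat.card (orbit (ψ ω) a) = 7 := by
    intro ω a ha
    obtain ⟨i, -, hi⟩ := (Nat.dvd_prime_pow Fact.out).mp (horb ω a)
    have hle : Nat.card (orbit (ψ ω) a) ≤ 15 := by
      rw [← h15, ← Nat.card_eq_fintype_card]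
      exact Finite.card_subtype_le _
    rcases Nat.lt_or_ge i 2 with h | h
    · interval_cases i
      · exfalso
        rw [pow_zero] at hi
        refine ha (honly ω a fun x hx => ?_)
        have := (Nat.card_eq_one_iff_unique.mp hi).1
        exact congrArg Subtype.val (Subsingleton.elim
          (⟨(⟨x, hx⟩ : ψ ω) • a, mem_orbit a _⟩ : orbit (ψ ω) a) ⟨a, mem_orbit_self a⟩)
      · simpa using hi
    · exfalso
      have := Nat.pow_le_pow_right (show 1 ≤ 7 by norm_num) h
      omega
  have hn1 : 1 ≤ n := by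
    obtain ⟨a, ha⟩ := Fintype.exists_ne_of_one_lt_card (by omega) ω₀
    have := horb7 ω₀ a ha
    by_contra hlt
    have h0 : n = 0 := by omega
    have := horb ω₀ a
    rw [‹Nat.card (orbit (ψ ω₀) a) = 7›, h0] at this
    norm_num at this
  have hn2 : n ≤ 2 := by
    have hd : 7 ^ n ∣ Nat.card (Equiv.Perm Ω) := by
      rw [← hn]
      exact ((Subgroup.card_subgroup_dvd_card _).trans (Subgroup.card_subgroup_dvd_card _))
    rw [Nat.card_eq_fintype_card, Fintype.card_perm, h15] at hd
    by_contra hlt
    have := (pow_dvd_pow 7 (by omega : 3 ≤ n)).trans hd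
    norm_num [Nat.factorial] at this
  rcases (show n = 1 ∨ n = 2 by omega) with rfl | rfl
  · -- Sylow subgroups of order 7
    set P := ψ ω₀ with hP
    have hPcard : Nat.card (P : Subgroup R) = 7 := by simpa using hn
    set C := Subgroup.centralizer ((P : Subgroup R) : Set R) with hC
    have hPC : (P : Subgroup R) ≤ C := by
      intro x hx y hy
      have := (isCyclic_of_prime_card (p := 7) hPcard).commGroup
      exact congrArg Subtype.val ((isCyclic_of_prime_card (p := 7) hPcard).commGroup.mul_comm ⟨y, hy⟩ ⟨x, hx⟩)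
    have hCfix : ∀ c ∈ C, c • ω₀ = ω₀ := fun c hc =>
      (hN c ω₀).mpr (Subgroup.centralizer_le_normalizer _ hc)
    -- `C` acts semiregularly off `ω₀`
    have hfree : ∀ c ∈ C, ∀ a, a ≠ ω₀ → c • a = a → c = 1 := by
      intro c hc a ha hca
      have hprop : ∀ (d : R), d ∈ C → ∀ b : Ω, d • b = b → ∀ z ∈ orbit P b, d • z = z := by
        rintro d hd b hdb _ ⟨⟨g, hg⟩, rfl⟩
        show d • (g • b) = g • b
        rw [← mul_smul, (hd g hg).symm, mul_smul, hdb]
      set F := Finset.univ.filter fun b : Ω => c • b = b with hF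
      have hsub : insert ω₀ (orbit P a).toFinset ⊆ F := by
        intro z hz
        simp only [Finset.mem_insert, Set.mem_toFinset] at hz
        simp only [hF, Finset.mem_filter, Finset.mem_univ, true_and]
        rcases hz with rfl | hz
        · exact hCfix c hc
        · exact hprop c hc a hca z hz
      have h8 : 8 ≤ F.card := by
        refine le_trans ?_ (Finset.card_le_card hsub)
        rw [Finset.card_insert_of_notMem, Set.toFinset_card, ← Nat.card_eq_fintype_card, horb7 ω₀ a ha]
        rw [Set.mem_toFinset]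
        rintro ⟨⟨g, hg⟩, hga⟩
        apply ha
        have : g⁻¹ • ω₀ = ω₀ := (hfixmem ω₀ ω₀ _ (inv_mem hg)).mpr (inv_mem hg)
        have e : g • a = ω₀ := hga
        rw [← this, ← e, inv_smul_smul]
      have hc7 : c ^ 7 = 1 := by
        refine hext _ fun b => ?_
        by_cases hb : c • b = b
        · exact mem_stabilizer_iff.mp (pow_mem (mem_stabilizer_iff.mpr hb) 7)
        have hbne : b ≠ ω₀ := fun e => hb (e ▸ hCfix c hc)
        have hout : (orbit P b).toFinset ⊆ Fᶜ := by
          intro z hz
          rw [Set.mem_toFinset] at hz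
          simp only [hF, Finset.mem_compl, Finset.mem_filter, Finset.mem_univ, true_and]
          intro hcz
          refine hb (hprop c hc z hcz b ?_)
          rw [orbit_eq_iff.mpr hz]
          exact mem_orbit_self b
        have hFc : Fᶜ.card ≤ 7 := by rw [Finset.card_compl, h15]; omega
        have heqc : (orbit P b).toFinset = Fᶜ := Finset.eq_of_subset_of_card_le hout (by
          rw [Set.toFinset_card, ← Nat.card_eq_fintype_card, horb7 ω₀ b hbne]; exact hFc)
        have hcb : c • b ∈ Fᶜ := by
          simp only [hF, Finset.mem_compl, Finset.mem_filter, Finset.mem_univ, true_and]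
          exact fun h => hb (smul_left_cancel c h)
        rw [← heqc, Set.mem_toFinset] at hcb
        obtain ⟨⟨g, hg⟩, hgb⟩ := hcb
        have hgb' : (g⁻¹ * c) • b = b := by
          have e : g • b = c • b := hgb
          rw [mul_smul, ← e, inv_smul_smul]
        have hcom : Commute g⁻¹ c := (Commute.inv_left (hc g hg : g * c = c * g))
        have hg7 : g ^ 7 = 1 := by
          rw [← orderOf_dvd_iff_pow_eq_one, ← hPcard]
          exact Subgroup.orderOf_dvd_natCard _ hg
        have h7 : (g⁻¹ * c) ^ 7 • b = b :=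
          mem_stabilizer_iff.mp (pow_mem (mem_stabilizer_iff.mpr hgb') 7)
        rwa [hcom.mul_pow, inv_pow, hg7, inv_one, one_mul] at h7
      have hcP : c ∈ (P : Subgroup R) := by
        refine mem_sylow_of_mem_centralizer P ⟨1, by simpa using hc7⟩ fun y hy => ?_
        exact (hc y hy).symm
      by_contra hc1
      rcases hcnt ω₀ c hcP hc1 with h | h
      · change F.card = 1 at h; omega
      · exact ha (honly ω₀ a fun x hx => by
          have hz : Subgroup.zpowers c = (P : Subgroup R) :=
            Subgroup.eq_of_le_of_card_ge (by rwa [Subgroup.zpowers_le]) (by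
              rw [hPcard, Nat.card_zpowers, orderOf_eq_prime hc7 hc1])
          rw [← hz] at hx
          obtain ⟨i, rfl⟩ := hx
          exact mem_stabilizer_iff.mp (zpow_mem (mem_stabilizer_iff.mpr hca) i))
    have hCcard : Nat.card C = 7 := by
      obtain ⟨a, ha⟩ := Fintype.exists_ne_of_one_lt_card (by omega) ω₀
      have hle : Nat.card C ≤ Nat.card {b : Ω // b ≠ ω₀} := by
        refine Nat.card_le_card_of_injective (fun c : C => ⟨(c : R) • a, fun h => ha ?_⟩) ?_
        · rw [← hCfix _ c.2] at h
          exact smul_left_cancel _ h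
        · intro c d hcd
          have h' : (c : R) • a = (d : R) • a := congrArg Subtype.val hcd
          have := hfree _ (mul_mem (inv_mem d.2) c.2) a ha (by rw [mul_smul, h', inv_smul_smul])
          exact Subtype.ext (inv_mul_eq_one.mp this).symm
      have h14 : Nat.card {b : Ω // b ≠ ω₀} = 14 := by
        rw [Nat.card_eq_fintype_card, Fintype.card_subtype_compl, Fintype.card_subtype_eq, h15]
      obtain ⟨e, he⟩ := hPcard ▸ Subgroup.card_dvd_of_le hPC
      have hpos : 0 < Nat.card C := Nat.card_pos
      rcases (show e = 1 ∨ e = 2 by omega) with rfl | rfl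
      · simpa using he
      · exfalso
        have : Fact (Nat.Prime 2) := ⟨Nat.prime_two⟩
        obtain ⟨⟨c, hc⟩, hc2⟩ := exists_prime_orderOf_dvd_card' (G := C) 2 (by rw [he]; norm_num)
        rw [Subgroup.orderOf_mk] at hc2
        have hfp : Fintype.card (Function.fixedPoints (c : Equiv.Perm Ω)) = 1 := by
          rw [Fintype.card_eq_one_iff]
          refine ⟨⟨ω₀, hCfix c hc⟩, fun ⟨b, hb⟩ => Subtype.ext ?_⟩
          by_contra hb'
          have := hfree c hc b hb' hb
          rw [this, orderOf_one] at hc2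
          omega
        have hsq : (c : Equiv.Perm Ω) ^ 2 = 1 := by
          rw [← hc2, ← Subgroup.coe_pow, pow_orderOf_eq_one, Subgroup.coe_one]
        have hs := Equiv.Perm.sign_of_pow_two_eq_one hsq
        rw [heven, hfp, h15] at hs
        norm_num at hs
    have hNcard : Nat.card (Subgroup.normalizer ((P : Subgroup R) : Set R)) ∣ 42 := by
      set N := Subgroup.normalizer ((P : Subgroup R) : Set R)
      have key := Subgroup.card_dvd_of_injective _
        (QuotientGroup.kerLift_injective (P : Subgroup R).normalizerMonoidHom)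
      rw [Subgroup.normalizerMonoidHom_ker, ← Subgroup.index,
        (isCyclic_of_prime_card (p := 7) hPcard).card_mulAut, hPcard, Nat.totient_prime (by norm_num)] at key
      have h1 := (C.subgroupOf N).card_mul_index
      rw [Nat.card_congr (Subgroup.subgroupOfEquivOfLe
        (show C ≤ N from Subgroup.centralizer_le_normalizer _)).toEquiv, hCcard] at h1
      rw [← h1]
      exact Nat.mul_dvd_mul_left 7 key
    refine dvd630 ?_ hn15
    have h1 := Subgroup.card_mul_index (Subgroup.normalizer ((P : Subgroup R) : Set R))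
    have h2 : (Subgroup.normalizer ((P : Subgroup R) : Set R)).index = 15 :=
      P.card_eq_index_normalizer.symm.trans hn15
    rw [h2] at h1
    rw [← h1]
    exact (Nat.mul_dvd_mul_right hNcard 15).trans (by norm_num)
  · -- Sylow subgroups of order 49
    let A : Ω → Finset R := fun ω => Finset.univ.filter fun x => x ∈ (ψ ω : Subgroup R) ∧ f x = 8
    have hA : ∀ ω, (A ω).card = 12 := by
      intro ω
      set Q := ψ ω with hQ
      have := Fintype.ofFinite Q
      have hB := MulAction.sum_card_fixedBy_eq_card_orbits_mul_card_group Q Ω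
      have hQcard : Fintype.card Q = 49 := by
        rw [← Nat.card_eq_fintype_card, hcardS]; norm_num
      have hr : Fintype.card (Quotient (orbitRel Q Ω)) = 3 := by
        have h1 := Fintype.card_congr (selfEquivSigmaOrbits Q Ω)
        rw [h15, Fintype.card_sigma] at h1
        let q₀ : Quotient (orbitRel Q Ω) := Quotient.mk'' ω
        have hq : ∀ q : Quotient (orbitRel Q Ω), q ≠ q₀ → Fintype.card (orbit Q q.out) = 7 := by
          intro q hq
          rw [← Nat.card_eq_fintype_card]
          refine horb7 ω _ fun e => hq ?_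
          rw [← Quotient.out_eq' q, e]
        have hq0 : Fintype.card (orbit Q q₀.out) = 1 := by
          have hout : q₀.out ∈ orbit Q ω := Quotient.mk_out' (s₁ := orbitRel Q Ω) ω
          have : q₀.out = ω := by
            obtain ⟨⟨g, hg⟩, hgo⟩ := hout
            rw [← hgo]
            exact (hfixmem ω ω g hg).mpr hg
          rw [Fintype.card_eq_one_iff]
          refine ⟨⟨q₀.out, mem_orbit_self _⟩, ?_⟩
          rintro ⟨z, ⟨g, hg⟩, rfl⟩
          refine Subtype.ext ?_
          show g • q₀.out = q₀.out
          rw [this]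
          exact (hfixmem ω ω g hg).mpr hg
        rw [← Finset.add_sum_erase _ _ (Finset.mem_univ q₀),
          Finset.sum_congr rfl (fun q hq' => hq q (Finset.ne_of_mem_erase hq')), hq0,
          Finset.sum_const, Finset.card_erase_of_mem (Finset.mem_univ q₀), Finset.card_univ,
          smul_eq_mul] at h1
        omega
      rw [hr, hQcard] at hB
      have hfx : ∀ x : Q, Fintype.card (fixedBy Ω x) = f (x : R) := by
        intro x
        refine Fintype.card_of_subtype _ fun a => ?_
        simp only [Finset.mem_filter, Finset.mem_univ, true_and]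
        exact Iff.rfl
      simp only [hfx] at hB
      rw [← Finset.sum_subtype (Finset.univ.filter fun x : R => x ∈ (Q : Subgroup R))
        (fun x => by simp) f] at hB
      set s := Finset.univ.filter fun x : R => x ∈ (Q : Subgroup R) with hs
      have hscard : s.card = 49 := by
        rw [hs, ← Fintype.card_subtype]; exact hQcard
      have h1s : (1 : R) ∈ s := by simp [hs, one_mem]
      rw [← Finset.add_sum_erase _ _ h1s, ← Finset.sum_filter_add_sum_filter_not _ (fun x => f x = 8)] at hB
      have hf1 : f 1 = 15 := by simp [f, h15]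
      have e8 : ∀ x ∈ (s.erase 1).filter (fun x => f x = 8), f x = 8 := fun x hx =>
        (Finset.mem_filter.mp hx).2
      have e1 : ∀ x ∈ (s.erase 1).filter (fun x => ¬ f x = 8), f x = 1 := by
        intro x hx
        simp only [hs, Finset.mem_filter, Finset.mem_erase, Finset.mem_univ, true_and] at hx
        exact (hcnt ω x hx.1.2 hx.1.1).resolve_right hx.2
      rw [Finset.sum_congr rfl e8, Finset.sum_congr rfl e1, Finset.sum_const, Finset.sum_const,
        smul_eq_mul, smul_eq_mul, hf1] at hB
      have hsplit := Finset.card_filter_add_card_filter_not (s := s.erase 1) (fun x => f x = 8)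
      rw [Finset.card_erase_of_mem h1s, hscard] at hsplit
      have hAeq : A ω = (s.erase 1).filter (fun x => f x = 8) := by
        ext x
        simp only [A, hs, Finset.mem_filter, Finset.mem_erase, Finset.mem_univ, true_and]
        exact ⟨fun h => ⟨⟨fun e => by rw [e, hf1] at h; omega, h.1⟩, h.2⟩, fun h => ⟨h.1.2, h.2⟩⟩
      rw [hAeq]
      omega
    have hcount : ∑ ω, (A ω).card = ∑ x : R, (Finset.univ.filter fun ω => x ∈ A ω).card := by
      have e : ∀ ω, (A ω).card = ∑ x : R, if x ∈ A ω then 1 else 0 := fun ω => by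
        rw [← Finset.card_filter]
        congr 1
        ext x
        simp
      rw [Finset.sum_congr rfl (fun ω _ => e ω), Finset.sum_comm]
      exact Finset.sum_congr rfl fun x _ => (Finset.card_filter _ _).symm
    have h8 : 8 ∣ ∑ x : R, (Finset.univ.filter fun ω => x ∈ A ω).card := by
      refine Finset.dvd_sum fun x _ => ?_
      by_cases hx : ∃ ω, x ∈ A ω
      · obtain ⟨ω, hω⟩ := hx
        simp only [A, Finset.mem_filter, Finset.mem_univ, true_and] at hω ⊢
        refine dvd_of_eq ?_
        rw [← hω.2]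
        simp only [f]
        congr 1
        ext a
        simp only [Finset.mem_filter, Finset.mem_univ, true_and]
        exact ⟨fun h => ⟨(hfixmem ω a x hω.1).mp h, by first | trivial | exact hω.2⟩, fun h => (hfixmem ω a x hω.1).mpr h.1⟩
      · push Not at hx
        rw [Finset.filter_false_of_mem (fun ω _ => hx ω), Finset.card_empty]
        exact dvd_zero _
    rw [← hcount, Finset.sum_congr rfl (fun ω _ => hA ω), Finset.sum_const, Finset.card_univ, h15,
      smul_eq_mul] at h8
    norm_num at h8

/-- No finite group has exactly 15 Sylow 7-subgroups. -/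
theorem result {G : Type*} [Group G] [Finite G] : Nat.card (Sylow 7 G) ≠ 15 := by
  classical
  have : Fact (Nat.Prime 7) := ⟨by norm_num⟩
  intro h15
  have := Fintype.ofFinite (Sylow 7 G)
  let F : G →* Equiv.Perm (Sylow 7 G) := MulAction.toPermHom G (Sylow 7 G)
  let H : Subgroup G := (Equiv.Perm.sign.comp F).ker
  have hH7 : ¬ 7 ∣ H.index := by
    intro hd
    have hdd : H.index ∣ Nat.card ℤˣ := by
      rw [Subgroup.index_ker]
      exact Subgroup.card_subgroup_dvd_card _
    have h2 : Nat.card ℤˣ = 2 := by rw [Nat.card_eq_fintype_card]; rfl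
    rw [h2] at hdd
    have := Nat.le_of_dvd (by norm_num) (hd.trans hdd)
    omega
  obtain ⟨Q0, hQ0⟩ := exists_sylow_le_of_not_dvd_index H hH7
  have hle : ∀ P : Sylow 7 G, (P : Subgroup G) ≤ H := by
    intro P
    obtain ⟨g, rfl⟩ := MulAction.exists_smul_eq G Q0 P
    rw [Sylow.coe_subgroup_smul]
    intro x hx
    obtain ⟨y, hy, rfl⟩ := Subgroup.mem_map.mp hx
    exact (MonoidHom.normal_ker _).conj_mem y (hQ0 hy) g
  let φ : H →* Equiv.Perm (Sylow 7 G) := F.comp H.subtype
  let ψ : Sylow 7 G → Sylow 7 φ.range := fun P =>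
    (sylowInfNormal P H).mapSurjective φ.rangeRestrict_surjective
  have hmem : ∀ (P : Sylow 7 G) (r : φ.range), r ∈ (ψ P : Subgroup φ.range) ↔
      ∃ x : H, (x : G) ∈ (P : Subgroup G) ∧ φ.rangeRestrict x = r := fun P r => Iff.rfl
  have hinj : Function.Injective ψ := by
    intro P P' hPP
    refine Sylow.ext ?_
    have hle' : (P' : Subgroup G) ≤ Subgroup.normalizer ((P : Subgroup G) : Set G) := by
      intro q hq
      have : φ.rangeRestrict ⟨q, hle P' hq⟩ ∈ (ψ P : Subgroup φ.range) := by
        rw [hPP]; exact (hmem _ _).mpr ⟨⟨q, hle P' hq⟩, hq, rfl⟩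
      obtain ⟨x, hx, hxq⟩ := (hmem _ _).mp this
      have h1 : F (x : G) = F q := congrArg Subtype.val hxq
      have h2 : (x : G) • P = q • P := congrArg (fun σ : Equiv.Perm (Sylow 7 G) => σ P) h1
      rw [Sylow.smul_eq_iff_mem_normalizer.mpr (Subgroup.le_normalizer hx)] at h2
      exact Sylow.smul_eq_iff_mem_normalizer.mp h2.symm
    have h3 : (P' : Subgroup G) ⊓ Subgroup.normalizer ((P : Subgroup G) : Set G) = (P' : Subgroup G) ⊓ P :=
      P'.2.inf_normalizer_sylow P
    rw [inf_eq_left.mpr hle'] at h3
    exact P'.3 P.2 (inf_eq_left.mp h3.symm)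
  have heq : ∀ (r : φ.range) (P : Sylow 7 G), ψ (r • P) = r • ψ P := by
    intro r P
    obtain ⟨x, rfl⟩ := φ.rangeRestrict_surjective r
    have e : φ.rangeRestrict x • P = (x : G) • P := rfl
    rw [e]
    refine Sylow.ext ?_
    rw [Sylow.coe_subgroup_smul, Subgroup.pointwise_smul_def]
    ext s
    constructor
    · intro hs
      obtain ⟨y, hy, rfl⟩ := (hmem _ _).mp hs
      rw [Sylow.coe_subgroup_smul] at hy
      obtain ⟨z, hz, hzy⟩ := Subgroup.mem_map.mp hy
      refine ⟨φ.rangeRestrict ⟨z, hle P hz⟩, (hmem _ _).mpr ⟨⟨z, hle P hz⟩, hz, rfl⟩, ?_⟩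
      have hy' : y = x * ⟨z, hle P hz⟩ * x⁻¹ := Subtype.ext hzy.symm
      rw [hy', map_mul, map_mul, map_inv]
      rfl
    · rintro ⟨t, ht, rfl⟩
      obtain ⟨y, hy, rfl⟩ := (hmem _ _).mp ht
      refine (hmem _ _).mpr ⟨x * y * x⁻¹, ?_, ?_⟩
      · rw [Sylow.coe_subgroup_smul]
        exact Subgroup.mem_map.mpr ⟨(y : G), hy, rfl⟩
      · rw [map_mul, map_mul, map_inv]
        rfl
  have hsurj : Function.Surjective ψ := by
    refine (hinj.bijective_of_nat_card_le ?_).2
    rw [← card_sylow_normal_eq H hH7]
    exact Nat.card_le_card_of_surjective _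
      (Sylow.mapSurjective_surjective φ.rangeRestrict_surjective 7)
  refine key φ.range ?_ ψ hinj hsurj heq ?_
  · rw [← Nat.card_eq_fintype_card, h15]
  · rintro ⟨_, x, rfl⟩
    exact x.2

end Cfsg.Agent.S4304
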