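import Cfsg.Statements.S4306
import Mathlib
import Cfsg.Agent.S0033
import Cfsg.Agent.Lib.FittingHeight.Reduction
import Cfsg.Agent.Lib.FittingHeight.FrobeniusCore
import Cfsg.Agent.Lib.Solvable.Schmidt
-- import your own Cfsg.Agent.* helpers here

set_option autoImplicit false
open Cfsg

namespace Cfsg.Agent.S4306

open CfsgLib.FittingHeight
open scoped IsMulCommutative

/-- A non-abelian group of order `l * m`, `m < l`, has a normal element of order `l`. -/
theorem exists_pq {A : Type*} [Group A] [Finite A] {l m : ℕ} (hl : l.Prime) (hm : m.Prime) (hlm : m < l)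
    (hA : Nat.card A = l * m) (hAna : ¬ IsMulCommutative A) :
    ∃ σ : A, orderOf σ = l ∧ (∀ a, a * σ * a⁻¹ ∈ Subgroup.zpowers σ) ∧ (∀ a, a ∉ Subgroup.zpowers σ → orderOf a = m) ∧
      ∀ a, a ∉ Subgroup.zpowers σ → a * σ ≠ σ * a := by
  classical
  have := Fact.mk hl
  have hndvd : ¬ l ∣ m := fun h => by
    have := Nat.le_of_dvd hm.pos h; omega
  obtain ⟨P⟩ : Nonempty (Sylow l A) := inferInstance
  have hPc : Nat.card P = l := by
    rw [P.card_eq_multiplicity, hA, Nat.factorization_mul hl.ne_zero hm.ne_zero, Finsupp.add_apply,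
      hl.factorization_self, Nat.factorization_eq_zero_of_not_dvd hndvd, add_zero, pow_one]
  have hidx : (P : Subgroup A).index = m := by
    have h1 := (P : Subgroup A).card_mul_index
    rw [hPc, hA] at h1
    exact Nat.eq_of_mul_eq_mul_left hl.pos h1
  have hone : Nat.card (Sylow l A) = 1 := by
    have h1 : Nat.card (Sylow l A) ∣ m := hidx ▸ P.card_dvd_index
    have h2 := card_sylow_modEq_one l A
    rcases (Nat.dvd_prime hm).mp h1 with h | h
    · exact h
    · rw [h, Nat.ModEq, Nat.mod_eq_of_lt hlm, Nat.mod_eq_of_lt hl.one_lt] at h2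
      exact absurd h2 hm.one_lt.ne'
  have hn : (P : Subgroup A).Normal := by
    have : Subsingleton (Sylow l A) := (Nat.card_eq_one_iff_unique.mp hone).1
    exact P.normal_of_subsingleton
  obtain ⟨σ, hσ⟩ := exists_prime_orderOf_dvd_card' (G := A) l (hA ▸ dvd_mul_right l m)
  have hmemP : ∀ x : A, orderOf x = l → x ∈ (P : Subgroup A) := fun x hx => by
    have : Subsingleton (Sylow l A) := (Nat.card_eq_one_iff_unique.mp hone).1
    obtain ⟨Q, hQ⟩ := (IsPGroup.of_card (n := 1) (p := l) (by rw [Nat.card_zpowers, hx, pow_one])).exists_le_sylow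
      (P := Subgroup.zpowers x)
    exact Subsingleton.elim Q P ▸ hQ (Subgroup.mem_zpowers x)
  have hPσ : Subgroup.zpowers σ = P := Subgroup.eq_of_le_of_card_ge (Subgroup.zpowers_le.mpr (hmemP σ hσ))
    (by rw [Nat.card_zpowers, hσ, hPc])
  have hout : ∀ a, a ∉ Subgroup.zpowers σ → orderOf a = m := by
    intro a ha
    have hd : orderOf a ∣ l * m := hA ▸ orderOf_dvd_natCard a
    rcases (Nat.dvd_mul.mp hd) with ⟨u, v, hu, hv, huv⟩
    rcases (Nat.dvd_prime hl).mp hu with rfl | rfl <;> rcases (Nat.dvd_prime hm).mp hv with rfl | rfl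
    · rw [one_mul] at huv
      exact absurd (orderOf_eq_one_iff.mp huv.symm ▸ Subgroup.one_mem _) ha
    · rw [one_mul] at huv; exact huv.symm
    · rw [mul_one] at huv
      exact absurd (hPσ ▸ hmemP a huv.symm) ha
    · have : IsCyclic A := isCyclic_of_orderOf_eq_card a (huv.symm.trans hA.symm)
      exact absurd ⟨⟨fun x y => IsCyclic.commGroup.mul_comm x y⟩⟩ hAna
  refine ⟨σ, hσ, fun a => ?_, hout, fun a ha hc => hAna ?_⟩
  · rw [hPσ]
    exact hn.conj_mem σ (hmemP σ hσ) a
  · have hord : orderOf (a * σ) = m * l := by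
      rw [(show Commute a σ from hc).orderOf_mul_eq_mul_orderOf_of_coprime (by
        rw [hout a ha, hσ]; exact (Nat.coprime_primes hm hl).mpr hlm.ne), hout a ha, hσ]
    have : IsCyclic A := isCyclic_of_orderOf_eq_card (a * σ) (by rw [hord, hA, mul_comm])
    exact ⟨⟨fun x y => IsCyclic.commGroup.mul_comm x y⟩⟩

universe u v

/-- The reduction for the operator group of order `pq`. -/
theorem heightTwo_pq {G : Type u} {A : Type v} [Group G] [Finite G] [Group.IsSolvable G] [Group A] [Finite A]
    [MulDistribMulAction A G] {p q : ℕ} (hp : p.Prime) (hq : q.Prime) (hlt : p < q) (hA : Nat.card A = q * p)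
    (hAna : ¬ IsMulCommutative A) (hcop : (Nat.card G).Coprime (q * p))
    (hfpf : ∀ g : G, (∀ a : A, a • g = g) → g = 1) :
    ∃ F : Subgroup G, ∃ hF : F.Normal, Group.IsNilpotent ↥F ∧ Group.IsNilpotent (G ⧸ F) := by
  classical
  obtain ⟨σ, hσ, hnorm, hout, hfree⟩ := exists_pq hq hp hlt hA hAna
  have hσn : (Subgroup.zpowers σ).Normal := ⟨fun x hx a => by
    obtain ⟨i, rfl⟩ := Subgroup.mem_zpowers_iff.mp hx
    rw [← conj_zpow]
    exact zpow_mem (hnorm a) i⟩
  have : Group.IsSolvable A := by
    have := Fact.mk hp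
    have hidx : Nat.card (A ⧸ Subgroup.zpowers σ) = p := by
      have h1 := (Subgroup.zpowers σ).card_eq_card_quotient_mul_card_subgroup
      rw [Nat.card_zpowers, hσ, hA, mul_comm q p] at h1
      exact (Nat.eq_of_mul_eq_mul_right hq.pos h1).symm
    have := isCyclic_of_prime_card hidx
    refine Group.isSolvable_of_ker_le_range (Subgroup.zpowers σ).subtype (QuotientGroup.mk' (Subgroup.zpowers σ)) ?_
    rw [QuotientGroup.ker_mk', Subgroup.range_subtype]
  let φ : A →* MulAut G := MulDistribMulAction.toMulAut A G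
  let Γ := G ⋊[φ] A
  have : Finite Γ := Finite.of_equiv _ SemidirectProduct.equivProd.symm
  let ι : A →* Γ := SemidirectProduct.inr
  let G' : Subgroup Γ := (SemidirectProduct.inl : G →* Γ).range
  have hGn : G'.Normal := by
    rw [show G' = (SemidirectProduct.rightHom : Γ →* A).ker from SemidirectProduct.range_inl_eq_ker_rightHom]
    infer_instance
  have hGA : G' ⊔ ι.range = ⊤ := by
    rw [eq_top_iff]
    intro x _
    rw [← SemidirectProduct.inl_left_mul_inr_right x]
    exact mul_mem (Subgroup.mem_sup_left ⟨_, rfl⟩) (Subgroup.mem_sup_right ⟨_, rfl⟩)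
  have hGc : Nat.card G' = Nat.card G :=
    (Nat.card_congr (MonoidHom.ofInjective SemidirectProduct.inl_injective).toEquiv).symm
  have hGs : Group.IsSolvable G' :=
    Group.isSolvable_of_surjective (f := (SemidirectProduct.inl : G →* Γ).rangeRestrict) (MonoidHom.rangeRestrict_surjective _)
  have hfpf' : ∀ g ∈ G', (∀ a, ι a * g = g * ι a) → g = 1 := by
    rintro _ ⟨g, rfl⟩ h
    rw [hfpf g fun a => ?_, map_one]
    have h1 := congrArg (fun x : G ⋊[φ] A => x.left) (h a)
    change (SemidirectProduct.inr a * SemidirectProduct.inl g : G ⋊[φ] A).left =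
      (SemidirectProduct.inl g * SemidirectProduct.inr a : G ⋊[φ] A).left at h1
    simpa [φ] using h1
  have key := heightTwo_of_config A (fun Γ _ _ ι G V Q S r hι hGn hGs hcop hfpf hc => ?_)
    (Nat.card Γ) Γ ι G' rfl SemidirectProduct.inr_injective hGn hGA hGs (by rw [hGc, hA]; exact hcop.symm) hfpf'
  · obtain ⟨k, m, hkm⟩ := key
    set H := (⊤ : Subgroup G).lowerCentralSeries k with hH
    have hmap : G'.lowerCentralSeries k = H.map (SemidirectProduct.inl : G →* Γ) := by
      rw [hH, Subgroup.map_lowerCentralSeries, ← MonoidHom.range_eq_map]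
    rw [hmap, ← Subgroup.map_lowerCentralSeries, Subgroup.map_eq_bot_iff] at hkm
    have hbot : H.lowerCentralSeries m = ⊥ := le_bot_iff.mp (hkm.trans_eq
      ((MonoidHom.ker_eq_bot_iff _).mpr SemidirectProduct.inl_injective))
    have hHn : H.Normal := normal_lcs ⊤ k
    refine ⟨H, hHn, (Subgroup.isNilpotent_iff_lowerCentralSeries H).mpr ⟨m, hbot⟩, ?_⟩
    rw [Subgroup.nilpotent_iff_lowerCentralSeries]
    refine ⟨k, ?_⟩
    rw [← Subgroup.map_top_of_surjective _ (QuotientGroup.mk'_surjective H), ← Subgroup.map_lowerCentralSeries,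
      Subgroup.map_eq_bot_iff, QuotientGroup.ker_mk']
  · set A' := ι.range with hA'
    have hA'c : Nat.card A' = p * q := by
      rw [← Nat.card_congr (MonoidHom.ofInjective hι).toEquiv, hA, mul_comm]
    have hzmem : ∀ a, ι a ∈ Subgroup.zpowers (ι σ) ↔ a ∈ Subgroup.zpowers σ := fun a => by
      rw [← MonoidHom.map_zpowers, Subgroup.mem_map_iff_mem hι]
    have hPQ : PQGroup A' (ι σ) p q :=
      { pPrime := hp, qPrime := hq, ne := hlt.ne, card := hA'c, mem := ⟨σ, rfl⟩
        order := by rw [orderOf_injective ι hι, hσ]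
        norm := by
          rintro _ ⟨a, rfl⟩
          rw [← map_inv, ← map_mul, ← map_mul, hzmem]
          exact hnorm a
        out := by
          rintro _ ⟨a, rfl⟩ ha
          rw [orderOf_injective ι hι]
          exact hout a fun h => ha ((hzmem a).mpr h)
        free := by
          rintro _ ⟨a, rfl⟩ ha he
          rw [← map_mul, ← map_mul] at he
          exact hfree a (fun h => ha ((hzmem a).mpr h)) (hι he) }
    have hfpf2 : ∀ g ∈ G, (∀ a ∈ A', a * g = g * a) → g = 1 := fun g hg h => hfpf g hg fun a => h _ ⟨a, rfl⟩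
    have hcopA : ∀ K ≤ G, (Nat.card A').Coprime (Nat.card K) := fun K hK => by
      rw [← Nat.card_congr (MonoidHom.ofInjective hι).toEquiv]
      exact hcop.coprime_dvd_right (Subgroup.card_dvd_of_le hK)
    -- the centraliser of `σ` is nilpotent
    obtain ⟨τ, hτ, hτ'⟩ : ∃ τ ∈ A', τ ∉ Subgroup.zpowers (ι σ) := by
      refine SetLike.not_le_iff_exists.mp fun h => ?_
      have h1 := Subgroup.card_le_of_le h
      rw [Nat.card_zpowers, hPQ.order, hA'c] at h1
      have h2 := Nat.mul_le_mul_right q hp.two_le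
      have := hq.pos
      omega
    set Kσ := G ⊓ Subgroup.centralizer (Subgroup.zpowers (ι σ) : Set Γ) with hKσ
    have hnil : Group.IsNilpotent Kσ := by
      have hAG : A' ≤ Subgroup.normalizer (G : Set Γ) := fun a _ => by
        rw [Subgroup.normalizer_eq_top_iff.mpr hGn]; trivial
      have hn := inf_centralizer_normalized hAG hPQ.normalizes
      let ψ : Kσ ≃* Kσ :=
        { toFun := fun x => ⟨τ * x * τ⁻¹, conj_mem (hn hτ) x.2⟩
          invFun := fun x => ⟨τ⁻¹ * x * τ, conj_mem_inv (hn hτ) x.2⟩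
          left_inv := fun x => Subtype.ext (by simp [mul_assoc])
          right_inv := fun x => Subtype.ext (by simp [mul_assoc])
          map_mul' := fun x y => Subtype.ext (by simp [mul_assoc]) }
      have hfix : ∀ x : Kσ, ψ x = x → x = 1 := fun x hx => Subtype.ext (hfpf2 x x.2.1
        (hPQ.fixed hτ hτ' (Subgroup.mem_centralizer_iff.mp x.2.2 _ (Subgroup.mem_zpowers _))
          (mul_inv_eq_iff_eq_mul.mp (congrArg Subtype.val hx))))
      by_cases hψ1 : ψ = 1
      · have : Subsingleton Kσ := ⟨fun x y => by rw [hfix x (by rw [hψ1]; rfl), hfix y (by rw [hψ1]; rfl)]⟩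
        infer_instance
      · have := Fact.mk hp
        have hpow : ∀ (n : ℕ) (x : Kσ), (((ψ : MulAut Kσ) ^ n) x : Γ) = τ ^ n * x * (τ ^ n)⁻¹ := by
          intro n x
          induction n with
          | zero => simp
          | succ n ih =>
            rw [pow_succ', MulAut.mul_apply]
            show τ * (((ψ : MulAut Kσ) ^ n) x : Γ) * τ⁻¹ = _
            rw [ih, pow_succ']; group
        have hord : orderOf (ψ : MulAut Kσ) = p :=
          orderOf_eq_prime (MulEquiv.ext fun x => Subtype.ext (by
            rw [hpow, ← hPQ.out τ hτ hτ', pow_orderOf_eq_one]; simp)) hψ1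
        exact Cfsg.Agent.S0033.result ψ hfix p hp hord
    have hKmem : ∀ x ∈ G, ι σ * x = x * ι σ → x ∈ Kσ := fun x hx h => ⟨hx, Subgroup.mem_centralizer_iff.mpr fun a ha => by
      obtain ⟨i, rfl⟩ := Subgroup.mem_zpowers_iff.mp ha
      exact ((show Commute (ι σ) x from h).zpow_left i).eq⟩
    have hcomm : ∀ x ∈ G, ι σ * x = x * ι σ → ∀ y ∈ G, ι σ * y = y * ι σ → (orderOf x).Coprime (orderOf y) →
        x * y = y * x := fun x hx hax y hy hay hco =>
      CfsgLib.Schmidt.nilpotent_commute hnil (hKmem x hx hax) (hKmem y hy hay) hco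
    -- the module
    have hV := hc.vNormal
    have : IsMulCommutative V := ⟨⟨fun x y => Subtype.ext (hc.vComm x x.2 y y.2)⟩⟩
    letI : DistribMulAction Γ (Additive V) :=
      { smul := fun g v => Additive.ofMul (MulAut.conjNormal g v.toMul)
        one_smul := fun v => by
          show Additive.ofMul ((MulAut.conjNormal (1 : Γ) : MulAut V) v.toMul) = v
          rw [map_one]; rfl
        mul_smul := fun g h v => by
          show Additive.ofMul ((MulAut.conjNormal (g * h) : MulAut V) v.toMul) = _
          rw [map_mul]; rfl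
        smul_zero := fun g => congrArg Additive.ofMul (map_one _)
        smul_add := fun g v w => congrArg Additive.ofMul (map_mul _ _ _) }
    have hval : ∀ (g : Γ) (v : Additive V), (((g • v : Additive V).toMul : V) : Γ) = g * (v.toMul : V) * g⁻¹ :=
      fun g v => MulAut.conjNormal_apply g _
    have hfixv : ∀ (g : Γ) (v : Additive V), g • v = v ↔ g * ((v.toMul : V) : Γ) = ((v.toMul : V) : Γ) * g := by
      intro g v
      rw [← mul_inv_eq_iff_eq_mul, ← hval g v]
      exact ⟨fun h => by rw [h], fun h => Additive.toMul.injective (Subtype.ext h)⟩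
    obtain ⟨t, ht, hVt⟩ := hc.vElem
    have := Fact.mk ht
    have hV1 : V ≠ ⊥ := fun h => by
      refine hc.notCent fun s _ => Subgroup.mem_centralizer_iff.mpr fun x hx => ?_
      rw [hc.faithful x hx fun y hy => by rw [Subgroup.mem_bot.mp (h ▸ hy : y ∈ (⊥ : Subgroup Γ))]; simp]
      simp
    have htV : t ∣ Nat.card V := by
      obtain ⟨y, hy, hy1⟩ : ∃ y ∈ V, y ≠ 1 := by
        by_contra h
        push Not at h
        exact hV1 ((Subgroup.eq_bot_iff_forall V).mpr h)
      exact orderOf_eq_prime (hVt y hy) hy1 ▸ V.orderOf_dvd_natCard hy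
    exact frobenius_core (M := Additive V) (t := t) hPQ hc.rprime
      (fun m => Additive.toMul.injective (Subtype.ext (by simpa using hVt _ (m.toMul : V).2))) hc.qGroup
      (Group.isSolvable_of_isSolvable_injective (f := Subgroup.inclusion hc.sle) (Subgroup.inclusion_injective _))
      (fun h => ht.one_lt.ne' (Nat.eq_one_of_dvd_coprimes hc.qCoprimeV h htV))
      (fun h => ht.one_lt.ne' (Nat.eq_one_of_dvd_coprimes (hcopA V hc.vle) h htV))
      hc.sCoprimeQ (hcopA Q hc.qle) (hcopA S hc.sle) hc.sQ hc.aQ hc.aS hc.notCent hc.sMin hc.qMin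
      (fun x hx h => hc.faithful x hx fun y hy => (hfixv x (Additive.ofMul ⟨y, hy⟩)).mp (h _))
      (fun s hs h => hfpf2 s (hc.sle hs) h)
      (fun v h => Additive.toMul.injective (Subtype.ext (hfpf2 _ (hc.vle (v.toMul : V).2) fun a ha => (hfixv a v).mp (h a ha))))
      (fun x hx hax v hv => (hfixv x v).mpr
        (hcomm x (hc.qle hx) hax _ (hc.vle (v.toMul : V).2) ((hfixv _ v).mp hv)
          ((hc.qCoprimeV.coprime_dvd_left (Q.orderOf_dvd_natCard hx)).coprime_dvd_right (V.orderOf_dvd_natCard (v.toMul : V).2))))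
      (fun s hs has x hx hax => hcomm s (hc.sle hs) has x (hc.qle hx) hax
        ((hc.sCoprimeQ.coprime_dvd_left (S.orderOf_dvd_natCard hs)).coprime_dvd_right (Q.orderOf_dvd_natCard hx)))

/-- Let `A` be a non-abelian group of order `pq` with `p, q` distinct primes, acting by automorphisms on a finite solvable group `G` of order prime to `pq`, so that only the identity of `G` is fixed by all of `A`. Then `G` has Fitting height at most 2: there is a normal nilpotent subgroup `F` of `G` with `G/F` nilpotent. -/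
theorem result {G A : Type*} [Group G] [Finite G]
    [Group.IsSolvable G] [Group A] [Finite A] [MulDistribMulAction A G] (p q : ℕ) (hp : p.Prime) (hq : q.Prime) (hpq : p ≠ q)
    (hA : Nat.card A = p * q) (hAna : ¬ IsMulCommutative A) (hcop : (Nat.card G).Coprime (p * q))
    (hfpf : ∀ g : G, (∀ a : A, a • g = g) → g = 1) :
    ∃ F : Subgroup G, ∃ hF : F.Normal, Group.IsNilpotent ↥F ∧ Group.IsNilpotent (G ⧸ F) := by
  rcases lt_or_gt_of_ne hpq with h | h
  · exact heightTwo_pq hp hq h (by rw [hA, mul_comm]) hAna (by rwa [mul_comm]) hfpf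
  · exact heightTwo_pq hq hp h hA hAna hcop hfpf

end Cfsg.Agent.S4306
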