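import Cfsg.Statements.S4305
import Mathlib
import Cfsg.Agent.S4306
import Cfsg.Agent.Lib.Elementary
import Cfsg.Agent.Lib.FittingHeight.Reduction
import Cfsg.Agent.Lib.FittingHeight.DerivedCore
-- import your own Cfsg.Agent.* helpers here

set_option autoImplicit false
open Cfsg

namespace Cfsg.Agent.S4305

open CfsgLib.FittingHeight
open scoped commutatorElement IsMulCommutative

universe u

/-- The derived subgroup is nilpotent, in a semidirect product. -/
theorem derived_nilpotent : ∀ (n : ℕ) (Γ : Type u) [Group Γ] [Finite Γ] (ι : Equiv.Perm (Fin 3) →* Γ) (G : Subgroup Γ),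
    Nat.card Γ = n → Function.Injective ι → G.Normal → G ⊔ ι.range = ⊤ → Group.IsSolvable G →
      (Nat.card (Equiv.Perm (Fin 3))).Coprime (Nat.card G) → (∀ g ∈ G, (∀ a, ι a * g = g * ι a) → g = 1) →
      ∃ m : ℕ, (⁅G, G⁆ : Subgroup Γ).lowerCentralSeries m = ⊥ := by
  intro n
  induction n using Nat.strong_induction_on with
  | _ n ih =>
    intro Γ _ _ ι G hn hι hGn hGA hGs hcop hfpf
    classical
    have hA₀ : Nat.card (Equiv.Perm (Fin 3)) = 3 * 2 := by
      rw [Nat.card_perm, Nat.card_eq_fintype_card, Fintype.card_fin]; decide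
    have hA₀na : ¬ IsMulCommutative (Equiv.Perm (Fin 3)) := fun h =>
      absurd (mul_comm' (Equiv.swap (0 : Fin 3) 1) (Equiv.swap 1 2)) (by decide)
    set A := ι.range with hA
    have hAc : Nat.card A = Nat.card (Equiv.Perm (Fin 3)) :=
      (Nat.card_congr (MonoidHom.ofInjective hι).toEquiv).symm
    rcases eq_or_ne G ⊥ with rfl | hG0
    · exact ⟨0, by rw [Subgroup.lowerCentralSeries_zero, Subgroup.commutator_bot_left]⟩
    -- quotients by minimal normal subgroups inside `G`
    have hquot : ∀ V : Subgroup Γ, V.Normal → V ≠ ⊥ → V ≤ G →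
        ∃ m : ℕ, (⁅G, G⁆ : Subgroup Γ).lowerCentralSeries m ≤ V := by
      intro V hV hV0 hVG
      set f := QuotientGroup.mk' V with hf
      have hlt : Nat.card (Γ ⧸ V) < n := by
        rw [← hn, ← V.card_mul_index, ← Subgroup.index_eq_card]
        have := (Subgroup.one_lt_card_iff_ne_bot V).mpr hV0
        have hi : 0 < V.index := Nat.pos_of_ne_zero Subgroup.index_ne_zero_of_finite
        exact lt_mul_of_one_lt_left hi this
      have hι' : Function.Injective (f.comp ι) := by
        intro a b h
        have h1 : (ι a)⁻¹ * ι b ∈ V := QuotientGroup.eq.mp h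
        have h2 : (ι a)⁻¹ * ι b ∈ A := A.mul_mem (A.inv_mem ⟨a, rfl⟩) ⟨b, rfl⟩
        have := Subgroup.disjoint_def.mp (Subgroup.disjoint_of_coprime_natCard (hAc ▸ hcop)) h2 (hVG h1)
        exact hι (inv_mul_eq_one.mp this)
      obtain ⟨m, hm⟩ := ih _ hlt (Γ ⧸ V) (f.comp ι) (G.map f) rfl hι'
        (hGn.map f (QuotientGroup.mk'_surjective V))
        (by rw [MonoidHom.range_comp, ← Subgroup.map_sup, hGA, Subgroup.map_top_of_surjective _ (QuotientGroup.mk'_surjective V)])
        (Group.isSolvable_of_surjective (f := f.subgroupMap G) (f.subgroupMap_surjective G))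
        (hcop.coprime_dvd_right (Subgroup.card_map_dvd G f)) (by
          rintro _ ⟨g, hg, rfl⟩ hfix
          obtain ⟨c, hc, hcN⟩ := CfsgLib.coprime_fixed_quotient (A := A) (K := G) (N := V)
            (fun a _ => by rw [Subgroup.normalizer_eq_top_iff.mpr hGn]; trivial) (hAc ▸ hcop) (Or.inr hGs) hVG
            (fun a _ => by rw [Subgroup.normalizer_eq_top_iff.mpr hV]; trivial)
            (fun a _ => by rw [Subgroup.normalizer_eq_top_iff.mpr hV]; trivial) hg (by
              rintro _ ⟨a, rfl⟩
              rw [← QuotientGroup.eq_one_iff, ← QuotientGroup.mk'_apply, ← hf, map_mul, map_mul, map_mul, map_inv, map_inv,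
                show f (ι a) * f g = f g * f (ι a) from hfix a]
              group)
          have hc1 : c = 1 := hfpf c hc.1 fun a => Subgroup.mem_centralizer_iff.mp hc.2 _ ⟨a, rfl⟩
          rw [hc1, mul_one] at hcN
          exact (QuotientGroup.eq_one_iff g).mpr (inv_mem_iff.mp hcN))
      refine ⟨m, ?_⟩
      rw [← QuotientGroup.ker_mk' V, ← hf, ← Subgroup.map_eq_bot_iff, Subgroup.map_lowerCentralSeries,
        Subgroup.map_commutator]
      exact hm
    obtain ⟨V, hV, hV0, hVG, hVmin⟩ := exists_min_le hG0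
    obtain ⟨m₁, hm₁⟩ := hquot V hV hV0 hVG
    by_cases huniq : ∀ W : Subgroup Γ, W.Normal → W ≠ ⊥ → W ≤ G → V ≤ W
    swap
    · push Not at huniq
      obtain ⟨W, hW, hW0, hWG, hVW⟩ := huniq
      obtain ⟨m₂, hm₂⟩ := hquot W hW hW0 hWG
      refine ⟨max m₁ m₂, eq_bot_iff.mpr fun x hx => ?_⟩
      have h1 : x ∈ V ⊓ W :=
        ⟨hm₁ (Subgroup.lowerCentralSeries_antitone _ (le_max_left _ _) hx),
          hm₂ (Subgroup.lowerCentralSeries_antitone _ (le_max_right _ _) hx)⟩
      by_cases h0 : V ⊓ W = ⊥
      · exact h0 ▸ h1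
      · exact absurd ((hVmin _ (Subgroup.normal_inf_normal V W) inf_le_left h0).ge.trans inf_le_right) hVW
    have hVs : Group.IsSolvable V :=
      Group.isSolvable_of_isSolvable_injective (f := Subgroup.inclusion hVG) (Subgroup.inclusion_injective _)
    obtain ⟨hVab, t, ht, hVexp⟩ := CfsgLib.minimal_normal_elementary (N := V) hV0 hVs
      fun M hM hMV => (em (M = ⊥)).imp id (hVmin M hM hMV)
    have := Fact.mk ht
    have hVt : IsPGroup t V := fun x => ⟨1, Subtype.ext (by simpa using hVexp x x.2)⟩
    have hnotl : ∀ (l : ℕ), l.Prime → l ≠ t → ∀ X : Subgroup Γ, X.Normal → X ≤ G → IsPGroup l X → X = ⊥ := by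
      intro l hl hlt X hX hXG hXl
      by_contra hX0
      have := Fact.mk hl
      exact hV0 (disjoint_self.mp ((IsPGroup.disjoint_of_ne l t hlt _ _ hXl hVt).mono_left (huniq X hX hX0 hXG)))
    -- a nilpotent normal subgroup with nilpotent quotient
    letI : MulDistribMulAction (Equiv.Perm (Fin 3)) G :=
      { smul := fun a g => ⟨ι a * g * (ι a)⁻¹, hGn.conj_mem g g.2 _⟩
        one_smul := fun g => Subtype.ext (by show ι 1 * (g : Γ) * (ι 1)⁻¹ = g; simp)
        mul_smul := fun a b g => Subtype.ext (by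
          show ι (a * b) * (g : Γ) * (ι (a * b))⁻¹ = ι a * (ι b * g * (ι b)⁻¹) * (ι a)⁻¹
          rw [map_mul]; group)
        smul_one := fun a => Subtype.ext (by show ι a * (1 : Γ) * (ι a)⁻¹ = 1; simp)
        smul_mul := fun a g h => Subtype.ext (by
          show ι a * ((g : Γ) * h) * (ι a)⁻¹ = (ι a * g * (ι a)⁻¹) * (ι a * h * (ι a)⁻¹)
          group) }
    obtain ⟨F, hF, hFnil, hGF⟩ := Cfsg.Agent.S4306.result (G := G) (A := Equiv.Perm (Fin 3)) 3 2 Nat.prime_three
      Nat.prime_two (by norm_num) hA₀ hA₀na (hA₀ ▸ hcop.symm) fun g hg => Subtype.ext (hfpf g g.2 fun a =>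
        mul_inv_eq_iff_eq_mul.mp (congrArg Subtype.val (hg a)))
    obtain ⟨k, hk⟩ := (Subgroup.nilpotent_iff_lowerCentralSeries).mp hGF
    set Nn := (⊤ : Subgroup G).lowerCentralSeries k with hNn
    have hNF : Nn ≤ F := by
      rw [← QuotientGroup.ker_mk' F, ← Subgroup.map_eq_bot_iff, hNn, Subgroup.map_lowerCentralSeries,
        Subgroup.map_top_of_surjective _ (QuotientGroup.mk'_surjective F)]
      exact hk
    have hNnn : Nn.Normal := normal_lcs ⊤ k
    have hGN : Group.IsNilpotent (G ⧸ Nn) := by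
      rw [Subgroup.nilpotent_iff_lowerCentralSeries]
      refine ⟨k, ?_⟩
      rw [← Subgroup.map_top_of_surjective _ (QuotientGroup.mk'_surjective Nn), ← Subgroup.map_lowerCentralSeries,
        Subgroup.map_eq_bot_iff, QuotientGroup.ker_mk']
    have hNnil : Group.IsNilpotent Nn := by
      have := hFnil
      exact Group.nilpotent_of_mulEquiv (Subgroup.subgroupOfEquivOfLe hNF)
    set N := Nn.map G.subtype with hN
    have hNeq : N = G.lowerCentralSeries k := Subgroup.top_subtype_lowerCentralSeries G k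
    have hNΓ : N.Normal := hNeq ▸ normal_lcs G k
    have hNt : IsPGroup t Nn := by
      obtain ⟨j, hj⟩ : ∃ j, Nat.card Nn = t ^ j := by
        refine ⟨_, Nat.eq_prime_pow_of_unique_prime_dvd Nat.card_pos.ne' fun {l} hl hld => ?_⟩
        by_contra hlt
        have := Fact.mk hl
        obtain ⟨P⟩ : Nonempty (Sylow l Nn) := inferInstance
        have hPn : (P : Subgroup Nn).Normal :=
          Sylow.normal_of_normalizerCondition Group.normalizerCondition_of_isNilpotent P
        have := P.characteristic_of_normal hPn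
        have hP0 := P.ne_bot_of_dvd_card hld
        set e := Subgroup.equivMapOfInjective Nn G.subtype G.subtype_injective
        have hPc : ((P : Subgroup Nn).map e.toMonoidHom).Characteristic := by
          rw [Subgroup.characteristic_iff_map_eq]
          intro φ
          have h := Subgroup.characteristic_iff_map_eq.mp this ((e.trans φ).trans e.symm)
          rw [Subgroup.map_map]
          conv_rhs => rw [← h]
          rw [Subgroup.map_map]
          congr 1
          ext x
          simp
        have hX := (CfsgLib.le_normalizer_map_characteristic (A := ⊤) (K := N)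
          (by rw [Subgroup.normalizer_eq_top_iff.mpr hNΓ]) ((P : Subgroup Nn).map e.toMonoidHom)).1
        have hXn : (((P : Subgroup Nn).map e.toMonoidHom).map N.subtype).Normal :=
          Subgroup.normalizer_eq_top_iff.mp (top_unique hX)
        have h0 := hnotl l hl hlt _ hXn ((Subgroup.map_subtype_le _).trans (Subgroup.map_subtype_le _))
          ((P.isPGroup'.map _).map _)
        rw [Subgroup.map_eq_bot_iff_of_injective _ N.subtype_injective,
          Subgroup.map_eq_bot_iff_of_injective _ e.injective] at h0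
        exact hP0 h0
      exact IsPGroup.of_card hj
    -- the Sylow `t`-subgroup
    obtain ⟨P⟩ : Nonempty (Sylow t G) := inferInstance
    have hNP : Nn ≤ P := hNt.le_sylow_of_normal P
    have hPn : (P : Subgroup G).Normal := by
      have hn1 := Sylow.normal_of_normalizerCondition Group.normalizerCondition_of_isNilpotent
        (P.mapSurjective (f := QuotientGroup.mk' Nn) (QuotientGroup.mk'_surjective Nn))
      have := hn1.comap (QuotientGroup.mk' Nn)
      rwa [Sylow.coe_mapSurjective, Subgroup.comap_map_eq, QuotientGroup.ker_mk', sup_eq_left.mpr hNP] at this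
    set T := (P : Subgroup G).map G.subtype with hT
    have hTΓ : T.Normal := by
      have := P.characteristic_of_normal hPn
      exact Subgroup.normalizer_eq_top_iff.mp (top_unique (CfsgLib.le_normalizer_map_characteristic (A := ⊤) (K := G)
        (by rw [Subgroup.normalizer_eq_top_iff.mpr hGn]) (P : Subgroup G)).1)
    have hTG : T ≤ G := Subgroup.map_subtype_le _
    have hTt : IsPGroup t T := P.isPGroup'.map _
    have hcopA : ∀ H ≤ G, (Nat.card A).Coprime (Nat.card H) := fun H hH =>
      hAc ▸ hcop.coprime_dvd_right (Subgroup.card_dvd_of_le hH)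
    have hAG : A ≤ Subgroup.normalizer (G : Set Γ) := fun a _ => by
      rw [Subgroup.normalizer_eq_top_iff.mpr hGn]; trivial
    -- some invariant Sylow subgroup for another prime is not abelian
    by_cases habel : ∀ (l : ℕ) [Fact l.Prime], l ≠ t → ∀ R : Sylow l G,
        A ≤ Subgroup.normalizer ((R : Subgroup G).map G.subtype : Set Γ) →
        ∀ x ∈ (R : Subgroup G), ∀ y ∈ (R : Subgroup G), x * y = y * x
    · have hGP : Group.IsNilpotent (G ⧸ (P : Subgroup G)) :=
        Group.nilpotent_of_surjective (QuotientGroup.map Nn (P : Subgroup G) (MonoidHom.id G) hNP) fun y => by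
          obtain ⟨x, rfl⟩ := QuotientGroup.mk'_surjective _ y
          exact ⟨QuotientGroup.mk x, rfl⟩
      have hsyl : ∀ (l : ℕ) [Fact l.Prime] (S : Sylow l (G ⧸ (P : Subgroup G))),
          ∀ a ∈ (S : Subgroup (G ⧸ (P : Subgroup G))), ∀ b ∈ (S : Subgroup (G ⧸ (P : Subgroup G))), a * b = b * a := by
        intro l _ S a ha b hb
        by_cases hlt : l = t
        · subst hlt
          have hnd : ¬ l ∣ Nat.card (G ⧸ (P : Subgroup G)) := P.not_dvd_index
          have hS : (S : Subgroup (G ⧸ (P : Subgroup G))) = ⊥ := by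
            obtain ⟨j, hj⟩ := IsPGroup.iff_card.mp S.isPGroup'
            refine Subgroup.card_eq_one.mp ?_
            rcases Nat.eq_zero_or_pos j with rfl | hj0
            · simpa using hj
            · exact absurd ((hj ▸ dvd_pow_self l hj0.ne').trans (Subgroup.card_subgroup_dvd_card _)) hnd
          rw [hS, Subgroup.mem_bot] at ha
          rw [ha, one_mul, mul_one]
        · obtain ⟨R, hR⟩ := CfsgLib.coprime_exists_invariant_sylow (A := A) (K := G) hAG (hcopA G le_rfl) (Or.inr hGs) l
          have hSn : (S : Subgroup (G ⧸ (P : Subgroup G))).Normal :=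
            Sylow.normal_of_normalizerCondition Group.normalizerCondition_of_isNilpotent S
          have := S.unique_of_normal hSn
          have hS : S = R.mapSurjective (f := QuotientGroup.mk' (P : Subgroup G)) (QuotientGroup.mk'_surjective _) :=
            Subsingleton.elim _ _
          rw [hS, Sylow.coe_mapSurjective] at ha hb
          obtain ⟨x, hx, rfl⟩ := ha
          obtain ⟨y, hy, rfl⟩ := hb
          rw [← map_mul, ← map_mul, habel l hlt R hR x hx y hy]
      have hcommQ : ∀ a b : G ⧸ (P : Subgroup G), a * b = b * a := by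
        let e := Sylow.directProductOfNormal (G := G ⧸ (P : Subgroup G)) fun {p} _ S =>
          Sylow.normal_of_normalizerCondition Group.normalizerCondition_of_isNilpotent S
        intro a b
        obtain ⟨a, rfl⟩ := e.surjective a
        obtain ⟨b, rfl⟩ := e.surjective b
        rw [← map_mul, ← map_mul]
        congr 1
        funext l S
        have := Fact.mk (Nat.prime_of_mem_primeFactors l.2)
        exact Subtype.ext (hsyl _ S _ (a l S).2 _ (b l S).2)
      have hle : (⁅G, G⁆ : Subgroup Γ) ≤ T := by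
        rw [Subgroup.commutator_le]
        intro x hx y hy
        refine ⟨⁅(⟨x, hx⟩ : G), (⟨y, hy⟩ : G)⁆, ?_, rfl⟩
        show _ ∈ (P : Subgroup G)
        rw [← QuotientGroup.eq_one_iff, ← QuotientGroup.mk'_apply, map_commutatorElement,
          commutatorElement_eq_one_iff_mul_comm]
        exact hcommQ _ _
      obtain ⟨j, hj⟩ := (Subgroup.isNilpotent_iff_lowerCentralSeries T).mp hTt.isNilpotent
      exact ⟨j, le_bot_iff.mp ((Subgroup.lowerCentralSeries_mono j hle).trans hj.le)⟩
    exfalso
    push Not at habel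
    obtain ⟨l, hlF, hlt, R₀, hRA, x₀, hx₀, y₀, hy₀, hxy₀⟩ := habel
    have hl : l.Prime := hlF.out
    set R := (R₀ : Subgroup G).map G.subtype with hR
    have hRG : R ≤ G := Subgroup.map_subtype_le _
    have hRl : IsPGroup l R := R₀.isPGroup'.map _
    have hRn : ((R₀ : Subgroup G) ⊔ Nn).Normal := by
      have hn1 := Sylow.normal_of_normalizerCondition Group.normalizerCondition_of_isNilpotent
        (R₀.mapSurjective (f := QuotientGroup.mk' Nn) (QuotientGroup.mk'_surjective Nn))
      have := hn1.comap (QuotientGroup.mk' Nn)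
      rwa [Sylow.coe_mapSurjective, Subgroup.comap_map_eq, QuotientGroup.ker_mk'] at this
    -- `R` acts faithfully on `T`
    have hfaith : R ⊓ Subgroup.centralizer (T : Set Γ) = ⊥ := by
      set C := G ⊓ Subgroup.centralizer (T : Set Γ) with hC
      have hCR : ∀ x ∈ C, (∃ j, x ^ l ^ j = 1) → x ∈ R := by
        intro x hx ⟨j, hj⟩
        let x' : G := ⟨x, hx.1⟩
        have hxl : IsPGroup l (Subgroup.zpowers x') := by
          obtain ⟨i, -, hi⟩ := (Nat.dvd_prime_pow hl).mp (orderOf_dvd_of_pow_eq_one (show x' ^ l ^ j = 1 from Subtype.ext hj))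
          exact IsPGroup.of_card (n := i) (by rw [Nat.card_zpowers, hi])
        obtain ⟨S', hS'⟩ := hxl.exists_le_sylow
        obtain ⟨g, rfl⟩ := MulAction.exists_smul_eq G R₀ S'
        have hx1 : x' ∈ ((g • R₀ : Sylow l G) : Subgroup G) := hS' (Subgroup.mem_zpowers x')
        rw [Sylow.coe_subgroup_smul] at hx1
        obtain ⟨y, hy, hyx⟩ := hx1
        have h2 : x' ∈ (R₀ : Subgroup G) ⊔ Nn := hyx ▸ hRn.conj_mem y (Subgroup.mem_sup_left hy) g
        obtain ⟨r, hr, u, hu, hru⟩ := Subgroup.mem_sup_of_normal_right.mp h2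
        have huT : (u : Γ) ∈ T := ⟨u, hNP hu, rfl⟩
        have hru' : (r : Γ) * u = x := congrArg Subtype.val hru
        have hcomm : Commute (r : Γ) u := by
          have h3 : (u : Γ) * x = x * u := Subgroup.mem_centralizer_iff.mp hx.2 u huT
          rw [← hru'] at h3
          show (r : Γ) * u = u * r
          exact (mul_right_cancel (show (u : Γ) * r * u = r * u * u by rw [mul_assoc]; exact h3)).symm
        obtain ⟨i, hi⟩ := hRl ⟨r, ⟨r, hr, rfl⟩⟩
        have hi' : (r : Γ) ^ l ^ i = 1 := congrArg Subtype.val hi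
        obtain ⟨i', hi''⟩ := hTt ⟨u, huT⟩
        have hu1 : (u : Γ) ^ t ^ i' = 1 := congrArg Subtype.val hi''
        have h4 : (u : Γ) ^ l ^ (i + j) = 1 := by
          have e1 : x ^ l ^ (i + j) = 1 := by rw [pow_add, mul_comm, pow_mul, hj, one_pow]
          rw [← hru', hcomm.mul_pow, pow_add, pow_mul (r : Γ), hi', one_pow, one_mul, ← pow_add] at e1
          exact e1
        have h5 := pow_gcd_eq_one.mpr ⟨h4, hu1⟩
        rw [show Nat.gcd (l ^ (i + j)) (t ^ i') = 1 from ((Nat.coprime_primes hl ht).mpr hlt).pow _ _, pow_one] at h5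
        rw [← hru', h5, mul_one]
        exact ⟨r, hr, rfl⟩
      refine hnotl l hl hlt _ ⟨fun x hx g => ?_⟩ (inf_le_left.trans hRG) (hRl.to_le inf_le_left)
      obtain ⟨j, hj⟩ := hRl ⟨x, hx.1⟩
      have hj' : x ^ l ^ j = 1 := congrArg Subtype.val hj
      have hgC : g * x * g⁻¹ ∈ C := ⟨hGn.conj_mem x (hRG hx.1) g,
        (inferInstance : (Subgroup.centralizer (T : Set Γ)).Normal).conj_mem x hx.2 g⟩
      exact ⟨hCR _ hgC ⟨j, by rw [conj_pow, hj', mul_one, mul_inv_cancel]⟩, hgC.2⟩
    -- `T` is elementary abelian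
    set c := ⁅(x₀ : Γ), (y₀ : Γ)⁆ with hc
    have hcR : c ∈ R := ⟨⁅x₀, y₀⁆, (R₀ : Subgroup G).mul_mem ((R₀ : Subgroup G).mul_mem ((R₀ : Subgroup G).mul_mem hx₀ hy₀)
      ((R₀ : Subgroup G).inv_mem hx₀)) ((R₀ : Subgroup G).inv_mem hy₀), rfl⟩
    have hc1 : c ≠ 1 := fun h => hxy₀ (commutatorElement_eq_one_iff_mul_comm.mp (Subtype.ext h))
    set D := (⁅G, G⁆ : Subgroup Γ) with hD
    have hDn : D.Normal := by rw [hD]; infer_instance
    have hcD : c ∈ D := Subgroup.commutator_mem_commutator x₀.2 y₀.2
    set Z₀ := Subgroup.zpowers c with hZ₀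
    have hZT : Z₀ ≤ Subgroup.normalizer (T : Set Γ) := fun a _ => by
      rw [Subgroup.normalizer_eq_top_iff.mpr hTΓ]; trivial
    have hTR : (Nat.card Z₀).Coprime (Nat.card T) := by
      obtain ⟨i, hi⟩ := IsPGroup.iff_card.mp (hRl.to_le (Subgroup.zpowers_le.mpr hcR))
      obtain ⟨j, hj⟩ := IsPGroup.iff_card.mp hTt
      rw [hi, hj]
      exact ((Nat.coprime_primes hl ht).mpr hlt).pow _ _
    have hTV : (⁅T, Z₀⁆ : Subgroup Γ) ≤ V := by
      have hstep : ∀ j, (⁅T, Z₀⁆ : Subgroup Γ) ≤ D.lowerCentralSeries j := by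
        intro j
        induction j with
        | zero =>
          rw [Subgroup.lowerCentralSeries_zero]
          exact (Subgroup.commutator_mono le_rfl (Subgroup.zpowers_le.mpr hcD)).trans (Subgroup.commutator_le_right T D)
        | succ j ihj =>
          rw [Subgroup.lowerCentralSeries_succ, ← CfsgLib.coprime_commutator_commutator hZT hTR (Or.inl inferInstance)]
          exact Subgroup.commutator_mono ihj (Subgroup.zpowers_le.mpr hcD)
      exact (hstep m₁).trans hm₁
    have hTab : (∀ x ∈ T, ∀ y ∈ T, x * y = y * x) ∧ ∀ x ∈ T, x ^ t = 1 := by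
      set Φ := (frattini T).map T.subtype with hΦ
      have hΦn : Φ.Normal := Subgroup.normalizer_eq_top_iff.mp (top_unique (CfsgLib.le_normalizer_map_characteristic (A := ⊤) (K := T)
        (by rw [Subgroup.normalizer_eq_top_iff.mpr hTΓ]) (frattini T)).1)
      have hΦ0 : Φ = ⊥ := by
        by_contra hΦ0
        have hVΦ := huniq Φ hΦn hΦ0 ((Subgroup.map_subtype_le _).trans hTG)
        have hcent := CfsgLib.centralize_of_trivial_mod_frattini hZT
          (hTR.coprime_dvd_right (Subgroup.card_subgroup_dvd_card _)) fun a ha u hu => hVΦ (hTV (by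
            have h := inv_mem (Subgroup.commutator_mem_commutator hu ha)
            simpa [commutatorElement_def, mul_assoc] using h))
        exact hc1 (Subgroup.mem_bot.mp (hfaith ▸ (⟨hcR, hcent (Subgroup.mem_zpowers c)⟩ :
          c ∈ R ⊓ Subgroup.centralizer (T : Set Γ))))
      rw [hΦ, Subgroup.map_eq_bot_iff_of_injective _ T.subtype_injective] at hΦ0
      refine ⟨fun x hx y hy => ?_, fun x hx => ?_⟩
      · have h1 := CfsgLib.commutator_le_frattini_pGroup hTt (Subgroup.commutator_mem_commutator
          (Subgroup.mem_top (⟨x, hx⟩ : T)) (Subgroup.mem_top (⟨y, hy⟩ : T)))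
        rw [hΦ0, Subgroup.mem_bot, commutatorElement_eq_one_iff_mul_comm] at h1
        exact congrArg Subtype.val h1
      · have h1 := CfsgLib.pow_mem_frattini_pGroup hTt (⟨x, hx⟩ : T)
        rw [hΦ0, Subgroup.mem_bot] at h1
        simpa using congrArg Subtype.val h1
    -- the operators
    obtain ⟨σ, hσ, hnorm, hout, hfree⟩ := Cfsg.Agent.S4306.exists_pq Nat.prime_three Nat.prime_two (by norm_num) hA₀ hA₀na
    have hzmem : ∀ a, ι a ∈ Subgroup.zpowers (ι σ) ↔ a ∈ Subgroup.zpowers σ := fun a => by
      rw [← MonoidHom.map_zpowers, Subgroup.mem_map_iff_mem hι]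
    have hPQ : PQGroup A (ι σ) 2 3 :=
      { pPrime := Nat.prime_two, qPrime := Nat.prime_three, ne := by norm_num
        card := by rw [hAc, hA₀], mem := ⟨σ, rfl⟩
        order := by rw [orderOf_injective ι hι, hσ]
        norm := by
          rintro _ ⟨a, rfl⟩
          rw [← map_inv, ← map_mul, ← map_mul, hzmem]
          exact hnorm a
        out := by
          rintro _ ⟨a, rfl⟩ ha
          rw [orderOf_injective ι hι]
          exact hout a fun h => ha ((hzmem a).mpr h)
        free := by
          rintro _ ⟨a, rfl⟩ ha he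
          rw [← map_mul, ← map_mul] at he
          exact hfree a (fun h => ha ((hzmem a).mpr h)) (hι he) }
    have hfpf2 : ∀ g ∈ G, (∀ a ∈ A, a * g = g * a) → g = 1 := fun g hg h => hfpf g hg fun a => h _ ⟨a, rfl⟩
    obtain ⟨τ, hτ, hτ'⟩ : ∃ τ ∈ A, τ ∉ Subgroup.zpowers (ι σ) := by
      refine SetLike.not_le_iff_exists.mp fun h => ?_
      have h1 := Subgroup.card_le_of_le h
      rw [Nat.card_zpowers, hPQ.order, hAc, hA₀] at h1
      omega
    -- the centraliser of `σ` is abelian
    have hcent : ∀ x ∈ G, ι σ * x = x * ι σ → ∀ y ∈ G, ι σ * y = y * ι σ → x * y = y * x := by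
      set Kσ := G ⊓ Subgroup.centralizer (Subgroup.zpowers (ι σ) : Set Γ) with hKσ
      have hn := inf_centralizer_normalized hAG hPQ.normalizes
      let ψ : Kσ →* Kσ :=
        { toFun := fun x => ⟨τ * x * τ⁻¹, conj_mem (hn hτ) x.2⟩
          map_one' := Subtype.ext (by simp)
          map_mul' := fun x y => Subtype.ext (by simp [mul_assoc]) }
      have hψ : MonoidHom.FixedPointFree ψ := fun x hx => Subtype.ext (hfpf2 x x.2.1
        (hPQ.fixed hτ hτ' (Subgroup.mem_centralizer_iff.mp x.2.2 _ (Subgroup.mem_zpowers _))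
          (mul_inv_eq_iff_eq_mul.mp (congrArg Subtype.val hx))))
      have hinv : Function.Involutive ψ := fun x => Subtype.ext (by
        have h2 : τ * τ = 1 := by rw [← pow_two, ← hPQ.out τ hτ hτ', pow_orderOf_eq_one]
        show τ * (τ * (x : Γ) * τ⁻¹) * τ⁻¹ = x
        calc τ * (τ * (x : Γ) * τ⁻¹) * τ⁻¹ = (τ * τ) * x * (τ * τ)⁻¹ := by group
          _ = _ := by rw [h2]; simp)
      have hmem : ∀ x ∈ G, ι σ * x = x * ι σ → x ∈ Kσ := fun x hx h => ⟨hx, Subgroup.mem_centralizer_iff.mpr fun a ha => by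
        obtain ⟨i, rfl⟩ := Subgroup.mem_zpowers_iff.mp ha
        exact ((show Commute (ι σ) x from h).zpow_left i).eq⟩
      intro x hx hxσ y hy hyσ
      exact congrArg Subtype.val (hψ.commute_all_of_involutive hinv ⟨x, hmem x hx hxσ⟩ ⟨y, hmem y hy hyσ⟩).eq
    -- the module
    have : IsMulCommutative T := ⟨⟨fun x y => Subtype.ext (hTab.1 x x.2 y y.2)⟩⟩
    letI : DistribMulAction Γ (Additive T) :=
      { smul := fun g v => Additive.ofMul (MulAut.conjNormal g v.toMul)
        one_smul := fun v => by
          show Additive.ofMul ((MulAut.conjNormal (1 : Γ) : MulAut T) v.toMul) = v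
          rw [map_one]; rfl
        mul_smul := fun g h v => by
          show Additive.ofMul ((MulAut.conjNormal (g * h) : MulAut T) v.toMul) = _
          rw [map_mul]; rfl
        smul_zero := fun g => congrArg Additive.ofMul (map_one _)
        smul_add := fun g v w => congrArg Additive.ofMul (map_mul _ _ _) }
    have hval : ∀ (g : Γ) (v : Additive T), (((g • v : Additive T).toMul : T) : Γ) = g * (v.toMul : T) * g⁻¹ :=
      fun g v => MulAut.conjNormal_apply g _
    have hfixv : ∀ (g : Γ) (v : Additive T), g • v = v ↔ g * ((v.toMul : T) : Γ) = ((v.toMul : T) : Γ) * g := by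
      intro g v
      rw [← mul_inv_eq_iff_eq_mul, ← hval g v]
      exact ⟨fun h => by rw [h], fun h => Additive.toMul.injective (Subtype.ext h)⟩
    have hlR : l ∣ Nat.card R := by
      obtain ⟨i, hi⟩ := IsPGroup.iff_card.mp hRl
      rw [hi]
      refine dvd_pow_self l fun h0 => hc1 ?_
      rw [h0, pow_zero, Subgroup.card_eq_one] at hi
      exact Subgroup.mem_bot.mp (hi ▸ hcR)
    have hl5 : 5 ≤ l := by
      have h6 : l.Coprime 6 := by
        have h := (hcopA R hRG).symm.coprime_dvd_left hlR
        rwa [hAc, hA₀] at h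
      have := hl.two_le
      by_contra h
      rcases (show l = 2 ∨ l = 3 ∨ l = 4 by omega) with e | e | e
      · norm_num [e] at h6
      · norm_num [e] at h6
      · norm_num [e] at hl
    have hTne : t ∣ Nat.card T := by
      obtain ⟨i, hi⟩ := IsPGroup.iff_card.mp hTt
      rw [hi]
      refine dvd_pow_self t fun h0 => hV0 ?_
      rw [h0, pow_zero, Subgroup.card_eq_one] at hi
      have hVT : V ≤ T := fun v hv => ⟨⟨v, hVG hv⟩,
        (hVt.of_equiv (Subgroup.subgroupOfEquivOfLe hVG).symm).le_sylow_of_normal P hv, rfl⟩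
      exact le_bot_iff.mp (hVT.trans hi.le)
    have hRt : ¬ t ∣ Nat.card R := fun h => by
      obtain ⟨i, hi⟩ := IsPGroup.iff_card.mp hRl
      rw [hi] at h
      exact hlt ((Nat.prime_dvd_prime_iff_eq ht hl).mp (ht.dvd_of_dvd_pow h)).symm
    refine hxy₀ (Subtype.ext (derived_core (M := Additive T) (t := t) hPQ hl hl5
      (fun m => Additive.toMul.injective (Subtype.ext (by simpa using hTab.2 _ (m.toMul : T).2))) hRl hRt
      (fun h => ht.one_lt.ne' (Nat.eq_one_of_dvd_coprimes (hcopA T hTG) h hTne)) hRA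
      (fun x hx h => Subgroup.mem_bot.mp (hfaith ▸ (⟨hx, Subgroup.mem_centralizer_iff.mpr fun y hy =>
        ((hfixv x (Additive.ofMul ⟨y, hy⟩)).mp (h _)).symm⟩ : x ∈ R ⊓ Subgroup.centralizer (T : Set Γ))))
      (fun v h => Additive.toMul.injective (Subtype.ext (hfpf2 _ (hTG (v.toMul : T).2) fun a ha => (hfixv a v).mp (h a ha))))
      (fun x hx hxσ v hv => (hfixv x v).mpr (hcent x (hRG hx) hxσ _ (hTG (v.toMul : T).2) ((hfixv _ v).mp hv)))
      (fun x hx hxσ y hy hyσ => hcent x (hRG hx) hxσ y (hRG hy) hyσ) x₀ ⟨x₀, hx₀, rfl⟩ y₀ ⟨y₀, hy₀, rfl⟩))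

/-- Let the symmetric group of degree 3 act by automorphisms on a finite solvable group `G` of order prime to 6, so that only the identity of `G` is fixed by all of it. Then the derived subgroup of `G` is nilpotent. -/
theorem result {G : Type*} [Group G] [Finite G] [Group.IsSolvable G]
    [MulDistribMulAction (Equiv.Perm (Fin 3)) G] (hcop : (Nat.card G).Coprime 6)
    (hfpf : ∀ g : G, (∀ a : Equiv.Perm (Fin 3), a • g = g) → g = 1) :
    Group.IsNilpotent ↥(commutator G) := by
  classical
  let φ : Equiv.Perm (Fin 3) →* MulAut G := MulDistribMulAction.toMulAut (Equiv.Perm (Fin 3)) G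
  let Γ := G ⋊[φ] Equiv.Perm (Fin 3)
  have : Finite Γ := Finite.of_equiv _ SemidirectProduct.equivProd.symm
  let ι : Equiv.Perm (Fin 3) →* Γ := SemidirectProduct.inr
  let G' : Subgroup Γ := (SemidirectProduct.inl : G →* Γ).range
  have hGn : G'.Normal := by
    rw [show G' = (SemidirectProduct.rightHom : Γ →* _).ker from SemidirectProduct.range_inl_eq_ker_rightHom]
    infer_instance
  have hGA : G' ⊔ ι.range = ⊤ := by
    rw [eq_top_iff]
    intro x _
    rw [← SemidirectProduct.inl_left_mul_inr_right x]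
    exact mul_mem (Subgroup.mem_sup_left ⟨_, rfl⟩) (Subgroup.mem_sup_right ⟨_, rfl⟩)
  have hGc : Nat.card G' = Nat.card G :=
    (Nat.card_congr (MonoidHom.ofInjective SemidirectProduct.inl_injective).toEquiv).symm
  have hGs : Group.IsSolvable G' :=
    Group.isSolvable_of_surjective (f := (SemidirectProduct.inl : G →* Γ).rangeRestrict) (MonoidHom.rangeRestrict_surjective _)
  have hA₀ : Nat.card (Equiv.Perm (Fin 3)) = 6 := by
    rw [Nat.card_perm, Nat.card_eq_fintype_card, Fintype.card_fin]; decide
  have hfpf' : ∀ g ∈ G', (∀ a, ι a * g = g * ι a) → g = 1 := by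
    rintro _ ⟨g, rfl⟩ h
    rw [hfpf g fun a => ?_, map_one]
    have h1 := congrArg (fun x : G ⋊[φ] Equiv.Perm (Fin 3) => x.left) (h a)
    change (SemidirectProduct.inr a * SemidirectProduct.inl g : G ⋊[φ] Equiv.Perm (Fin 3)).left =
      (SemidirectProduct.inl g * SemidirectProduct.inr a : G ⋊[φ] Equiv.Perm (Fin 3)).left at h1
    simpa [φ] using h1
  obtain ⟨m, hm⟩ := derived_nilpotent (Nat.card Γ) Γ ι G' rfl SemidirectProduct.inr_injective hGn hGA hGs
    (by rw [hGc, hA₀]; exact hcop.symm) hfpf'
  have hmap : (⁅G', G'⁆ : Subgroup Γ) = (commutator G).map (SemidirectProduct.inl : G →* Γ) := by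
    rw [commutator_def, Subgroup.map_commutator, ← MonoidHom.range_eq_map]
  rw [hmap, ← Subgroup.map_lowerCentralSeries, Subgroup.map_eq_bot_iff] at hm
  exact (Subgroup.isNilpotent_iff_lowerCentralSeries _).mpr ⟨m, le_bot_iff.mp (hm.trans_eq
    ((MonoidHom.ker_eq_bot_iff _).mpr SemidirectProduct.inl_injective))⟩

end Cfsg.Agent.S4305
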