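import Cfsg.Statements.S4314
import Mathlib
-- import your own Cfsg.Agent.* helpers here

set_option autoImplicit false
open Cfsg

namespace Cfsg.Agent.S4314

open Subgroup

universe u

variable {G : Type u} [Group G] [Finite G]

theorem normalizer_eq_of_prime_index {C : Subgroup G} (hC : C.index.Prime) (hn : ¬ C.Normal) :
    normalizer (C : Set G) = C := by
  refine le_antisymm ?_ Subgroup.le_normalizer
  have h := Subgroup.relIndex_mul_index (Subgroup.le_normalizer : C ≤ normalizer (C : Set G))
  rcases (Nat.dvd_prime hC).mp (Dvd.intro_left _ h) with e | e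
  · exact absurd (Subgroup.normalizer_eq_top_iff.mp (Subgroup.index_eq_one.mp e)) hn
  · rw [e] at h
    exact Subgroup.relIndex_eq_one.mp (Nat.eq_of_mul_eq_mul_right hC.pos (h.trans (one_mul _).symm))

/-- Let `G` be a finite group every conjugacy class of which has size 1 or a prime. Then either `G` is nilpotent of class at most 2, or `G/Z(G)` is a non-abelian group of order `pq` for distinct primes `p, q` (a Frobenius group of order `pq`). -/
theorem result {G : Type*} [Group G] [Finite G]
    (h : ∀ x : G, (Subgroup.centralizer ({x} : Set G)).index = 1 ∨ ((Subgroup.centralizer ({x} : Set G)).index).Prime) :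
    Subgroup.upperCentralSeries G 2 = ⊤ ∨
      ∃ p q : ℕ, p.Prime ∧ q.Prime ∧ p ≠ q ∧ Nat.card (G ⧸ Subgroup.center G) = p * q ∧ ¬ IsMulCommutative (G ⧸ Subgroup.center G) := by
  classical
  by_cases hall : ∀ x : G, (centralizer ({x} : Set G)).Normal
  · left
    have hcomm : ∀ a b : G, a * b * a⁻¹ * b⁻¹ ∈ center G := by
      intro a b
      rw [Subgroup.mem_center_iff]
      intro x
      have := hall x
      set C := centralizer ({x} : Set G) with hC
      have hmem : a * b * a⁻¹ * b⁻¹ ∈ C := by
        have hcyc : ∀ u v : G ⧸ C, u * v = v * u := by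
          rcases h x with e | e
          · have hs : Subsingleton (G ⧸ C) := by
              rw [← Finite.card_le_one_iff_subsingleton, ← Subgroup.index_eq_card, e]
            exact fun u v => Subsingleton.elim _ _
          · have := Fact.mk e
            have : IsCyclic (G ⧸ C) := isCyclic_of_prime_card (p := C.index) (Subgroup.index_eq_card C).symm
            exact fun u v => IsCyclic.commGroup.mul_comm u v
        rw [← QuotientGroup.eq_one_iff, QuotientGroup.mk_mul, QuotientGroup.mk_mul, QuotientGroup.mk_mul,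
          QuotientGroup.mk_inv, QuotientGroup.mk_inv, hcyc (a : G ⧸ C) b, mul_inv_cancel_right, mul_inv_cancel]
      exact (Subgroup.mem_centralizer_singleton_iff.mp hmem).symm
    rw [eq_top_iff]
    intro a _
    rw [Subgroup.mem_upperCentralSeries_succ_iff]
    intro b
    rw [Subgroup.upperCentralSeries_one]
    exact hcomm a b
  · right
    push Not at hall
    obtain ⟨x, hxn⟩ := hall
    set C := centralizer ({x} : Set G) with hC
    have hCp : C.index.Prime := by
      rcases h x with e | e
      · exact absurd (by rw [hC, Subgroup.index_eq_one.mp e]; infer_instance : C.Normal) hxn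
      · exact e
    obtain ⟨p, hpdef⟩ : ∃ p : ℕ, C.index = p := ⟨_, rfl⟩
    have hp : p.Prime := hpdef ▸ hCp
    have := Fact.mk hp
    set D := C.normalCore with hD
    have hDC : D ≤ C := C.normalCore_le
    have hNC := normalizer_eq_of_prime_index hCp hxn
    -- a `p`-element moving all cosets
    have hpD : p ∣ D.index := hpdef ▸ Subgroup.index_dvd_of_le hDC
    obtain ⟨ub, hub⟩ := exists_prime_orderOf_dvd_card' (G := G ⧸ D) p (by rwa [← Subgroup.index_eq_card])
    obtain ⟨u, rfl⟩ := QuotientGroup.mk'_surjective D ub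
    have huC : u ∉ C := by
      intro hu
      have h1 : orderOf (QuotientGroup.mk' D u) ∣ Nat.card (C.map (QuotientGroup.mk' D)) :=
        Subgroup.orderOf_dvd_natCard _ (Subgroup.mem_map_of_mem _ hu)
      rw [hub] at h1
      have h2 : Nat.card (C.map (QuotientGroup.mk' D)) * C.index = D.index := by
        have h5 : (C.map (QuotientGroup.mk' D)).index = C.index := by
          rw [← Subgroup.index_comap_of_surjective _ (QuotientGroup.mk'_surjective D),
            Subgroup.comap_map_eq_self (by rw [QuotientGroup.ker_mk']; exact hDC)]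
        rw [← h5, Subgroup.card_mul_index, Subgroup.index_eq_card]
      have h3 : D.index ∣ p.factorial := by
        rw [hD, Subgroup.normalCore_eq_ker, Subgroup.index_ker]
        refine (Subgroup.card_subgroup_dvd_card _).trans ?_
        rw [Nat.card_perm, ← Subgroup.index_eq_card, hpdef]
      rw [← h2, hpdef, ← Nat.mul_factorial_pred hp.pos.ne', mul_comm] at h3
      have h4 := h1.trans (Nat.dvd_of_mul_dvd_mul_left hp.pos h3)
      have := hp.dvd_factorial.mp h4
      have := hp.two_le
      omega
    have hmk : ∀ g : G, g ∈ C → (((g : G) : G ⧸ C)) = ((1 : G) : G ⧸ C) := fun g hg =>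
      QuotientGroup.eq.mpr (by rw [mul_one]; exact C.inv_mem hg)
    -- the cosets `u ^ i C`
    have hcov : ∀ g : G, ∃ i : ℕ, g⁻¹ * u ^ i ∈ C := by
      intro g
      have hperiod : ∀ i j : ℕ, i < j → j < p → (u ^ i)⁻¹ * u ^ j ∉ C := by
        intro i j hij hj hmem
        rw [show (u ^ i)⁻¹ * u ^ j = u ^ (j - i) by
          conv_lhs => rw [show j = i + (j - i) by omega, pow_add, inv_mul_cancel_left]] at hmem
        refine huC ?_
        have hup : u ^ p ∈ C := hDC (by
          rw [← QuotientGroup.eq_one_iff, QuotientGroup.mk_pow, ← QuotientGroup.mk'_apply, ← hub, pow_orderOf_eq_one])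
        have hcop : Nat.gcd (j - i) p = 1 :=
          Nat.Coprime.symm ((Nat.Prime.coprime_iff_not_dvd hp).mpr fun hd =>
            absurd (Nat.le_of_dvd (by omega) hd) (by omega))
        have hb := Nat.gcd_eq_gcd_ab (j - i) p
        rw [hcop] at hb
        rw [show u = (u ^ (j - i)) ^ (Nat.gcdA (j - i) p) * (u ^ p) ^ (Nat.gcdB (j - i) p) by
          rw [← zpow_natCast, ← zpow_mul, ← zpow_natCast, ← zpow_mul, ← zpow_add]
          conv_lhs => rw [← zpow_one u]
          congr 1]
        exact C.mul_mem (C.zpow_mem hmem _) (C.zpow_mem hup _)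
      have hinj : Function.Injective (fun i : Fin p => ((u ^ (i : ℕ) : G) : G ⧸ C)) := by
        intro i j e
        have e' := QuotientGroup.eq.mp e
        rcases lt_trichotomy (i : ℕ) (j : ℕ) with hl | hl | hl
        · exact absurd e' (hperiod _ _ hl j.2)
        · exact Fin.ext hl
        · exact absurd (by simpa using C.inv_mem e') (hperiod _ _ hl i.2)
      have hbij := (Nat.bijective_iff_injective_and_card _).mpr
        ⟨hinj, by rw [Nat.card_fin, ← Subgroup.index_eq_card, hpdef]⟩
      obtain ⟨i, hi⟩ := hbij.2 (g : G ⧸ C)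
      exact ⟨i, QuotientGroup.eq.mp hi.symm⟩
    have hfix : ∀ g ∈ C, u⁻¹ * g⁻¹ * u * g ∈ D → g ∈ D := by
      intro g hg hgu
      show g ∈ C.normalCore
      intro k
      obtain ⟨i, hi⟩ := hcov k⁻¹
      rw [inv_inv] at hi
      have hgu' : ∀ n : ℕ, (u ^ n)⁻¹ * g⁻¹ * u ^ n * g ∈ D := by
        intro n
        induction n with
        | zero => simp
        | succ n ih =>
          have h1 := (C.normalCore_normal).conj_mem _ ih u⁻¹
          rw [inv_inv] at h1
          have h2 := D.mul_mem h1 ((C.normalCore_normal).conj_mem _ hgu 1)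
          have e : (u ^ (n + 1))⁻¹ * g⁻¹ * u ^ (n + 1) * g =
              u⁻¹ * ((u ^ n)⁻¹ * g⁻¹ * u ^ n * g) * u * (1 * (u⁻¹ * g⁻¹ * u * g) * 1⁻¹) := by
            rw [pow_succ]; group
          rw [e]; exact h2
      -- `k g k⁻¹ = (k uⁱ) (u⁻ⁱ g uⁱ) (k uⁱ)⁻¹`
      rw [show k * g * k⁻¹ = (k * u ^ i) * ((u ^ i)⁻¹ * g * u ^ i) * (k * u ^ i)⁻¹ by group]
      refine C.mul_mem (C.mul_mem hi ?_) (C.inv_mem hi)
      have h3 : ((u ^ i)⁻¹ * g⁻¹ * u ^ i * g) * g⁻¹ ∈ C := C.mul_mem (hDC (hgu' i)) (C.inv_mem hg)
      rw [mul_inv_cancel_right] at h3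
      simpa [mul_assoc] using C.inv_mem h3
    -- the centraliser of an element acting as `u`
    have hcent : ∀ w : G, w⁻¹ * u ∈ D → ∀ g ∈ centralizer ({w} : Set G) ⊓ C, g ∈ D := by
      rintro w hw g ⟨hgw, hgC⟩
      refine hfix g hgC ?_
      have e : g * w = w * g := Subgroup.mem_centralizer_singleton_iff.mp hgw
      have e2 : u⁻¹ * g⁻¹ * u * g = (w⁻¹ * u)⁻¹ * (g⁻¹ * (w⁻¹ * u) * g⁻¹⁻¹) := by
        have hw' : w⁻¹ * g⁻¹ * w = g⁻¹ := by rw [mul_assoc, (show Commute g w from e).inv_left.eq, inv_mul_cancel_left]
        rw [inv_inv]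
        calc u⁻¹ * g⁻¹ * u * g = (w⁻¹ * u)⁻¹ * (w⁻¹ * g⁻¹ * w) * (w⁻¹ * u) * g := by group
          _ = (w⁻¹ * u)⁻¹ * g⁻¹ * (w⁻¹ * u) * g := by rw [hw']
          _ = _ := by group
      rw [e2]
      exact D.mul_mem (D.inv_mem hw) ((C.normalCore_normal).conj_mem _ hw g⁻¹)
    have hrelC : ∀ K : Subgroup G, u ∈ K → C.relIndex K = p := by
      intro K hu
      have h1 : Nat.card (K ⧸ C.subgroupOf K) = Nat.card (G ⧸ C) := by
        refine Nat.card_congr (Equiv.ofBijective (Quotient.map' (fun k : K => (k : G)) ?_) ⟨?_, ?_⟩)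
        · intro a b hab
          rw [QuotientGroup.leftRel_apply] at hab ⊢
          exact hab
        · intro a b
          induction a using QuotientGroup.induction_on with
          | H a =>
            induction b using QuotientGroup.induction_on with
            | H b =>
              intro e
              exact QuotientGroup.eq.mpr (Subgroup.mem_subgroupOf.mpr (QuotientGroup.eq.mp e : (a : G)⁻¹ * b ∈ C))
        · intro q
          induction q using QuotientGroup.induction_on with
          | H g =>
            obtain ⟨i, hi⟩ := hcov g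
            exact ⟨((⟨u ^ i, K.pow_mem hu i⟩ : K) : K ⧸ C.subgroupOf K), (QuotientGroup.eq.mpr hi).symm⟩
      rw [Subgroup.relIndex, Subgroup.index_eq_card, h1, ← Subgroup.index_eq_card, hpdef]
    have hinfidx : ∀ K : Subgroup G, u ∈ K → (K ⊓ C).index = K.index * p := by
      intro K hu
      rw [← Subgroup.relIndex_mul_index (inf_le_left : K ⊓ C ≤ K), Subgroup.inf_relIndex_left, hrelC K hu, mul_comm]
    have huu : u ∈ centralizer ({u} : Set G) := Subgroup.mem_centralizer_singleton_iff.mpr rfl
    have hJD : centralizer ({u} : Set G) ⊓ C ≤ D := fun g hg => hcent u (by rw [inv_mul_cancel]; exact D.one_mem) g hg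
    -- the order of `G / D`
    have hur : (centralizer ({u} : Set G)).index.Prime := by
      rcases h u with e | e
      · exfalso
        have h1 := hinfidx _ huu
        rw [Subgroup.index_eq_one.mp e, top_inf_eq, Subgroup.index_top] at h1
        rw [Subgroup.index_eq_one.mp e, top_inf_eq] at hJD
        exact hxn ((le_antisymm hDC hJD : D = C) ▸ C.normalCore_normal)
      · exact e
    obtain ⟨r, hrdef⟩ : ∃ r : ℕ, (centralizer ({u} : Set G)).index = r := ⟨_, rfl⟩
    have hr : r.Prime := hrdef ▸ hur
    have hDidx : D.index = p * r ∧ D = centralizer ({u} : Set G) ⊓ C := by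
      have h1 := hinfidx _ huu
      rw [hrdef] at h1
      have h2 := Subgroup.relIndex_mul_index hDC
      rw [hpdef] at h2
      have h3 : D.index ∣ r * p := h1 ▸ Subgroup.index_dvd_of_le hJD
      rw [← h2] at h3
      rcases (Nat.dvd_prime hr).mp (Nat.dvd_of_mul_dvd_mul_right hp.pos h3) with e | e
      · exact absurd ((le_antisymm hDC (Subgroup.relIndex_eq_one.mp e) : D = C) ▸ C.normalCore_normal) hxn
      · refine ⟨by rw [← h2, e, mul_comm], (le_antisymm hJD ?_).symm⟩
        have h4 := Subgroup.relIndex_mul_index hJD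
        rw [← h2, e, h1] at h4
        exact Subgroup.relIndex_eq_one.mp (Nat.eq_of_mul_eq_mul_right (Nat.mul_pos hr.pos hp.pos) (h4.trans (one_mul _).symm))
    have hDu : ∀ d ∈ D, u * d = d * u := fun d hd =>
      (Subgroup.mem_centralizer_singleton_iff.mp ((hDidx.2 ▸ hd : d ∈ centralizer ({u} : Set G) ⊓ C)).1).symm
    -- an element of `C` outside `D`
    obtain ⟨v, hvC, hvD⟩ := SetLike.not_le_iff_exists.mp
      (fun hle : C ≤ D => hxn ((le_antisymm hDC hle : D = C) ▸ C.normalCore_normal))
    have hCv : centralizer ({v} : Set G) ≤ C := by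
      intro g hg
      have e := Subgroup.mem_centralizer_singleton_iff.mp hg
      by_contra hgC
      -- `v` lies in two different conjugates
      set C' := C.map (MulAut.conj g).toMonoidHom with hC'
      have hvC' : v ∈ C' := ⟨v, hvC, show g * v * g⁻¹ = v by rw [e, mul_inv_cancel_right]⟩
      have hne : C' ≠ C := fun e' => hgC (hNC.le (Subgroup.mem_normalizer_iff_map_conj_eq.mpr e'))
      have hDC' : D ≤ C' := fun d hd =>
        ⟨g⁻¹ * d * g⁻¹⁻¹, hDC ((C.normalCore_normal).conj_mem d hd g⁻¹), show g * (g⁻¹ * d * g⁻¹⁻¹) * g⁻¹ = d by group⟩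
      have hcard : Nat.card C' = Nat.card C := Subgroup.card_map_of_injective (MulAut.conj g).injective
      have hDle : D ≤ C ⊓ C' := le_inf hDC hDC'
      have h2 := Subgroup.relIndex_mul_relIndex D (C ⊓ C') C hDle inf_le_left
      have hDCr : D.relIndex C = r := by
        have h3 := Subgroup.relIndex_mul_index hDC
        rw [hpdef, hDidx.1, mul_comm p r] at h3
        exact Nat.eq_of_mul_eq_mul_right hp.pos h3
      rw [hDCr] at h2
      rcases (Nat.dvd_prime hr).mp (Dvd.intro _ h2) with e' | e'
      · exact hvD (Subgroup.relIndex_eq_one.mp e' ⟨hvC, hvC'⟩)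
      · rw [e', Nat.mul_eq_left hr.pos.ne'] at h2
        exact hne (Subgroup.eq_of_le_of_card_ge ((Subgroup.relIndex_eq_one.mp h2).trans inf_le_right) hcard.le).symm
    have hCveq : centralizer ({v} : Set G) = C := by
      rcases h v with e | e
      · rw [Subgroup.index_eq_one.mp e] at hCv
        exact absurd (hCv (Subgroup.mem_top u)) huC
      · have h1 := Subgroup.relIndex_mul_index hCv
        rcases (Nat.dvd_prime e).mp (Dvd.intro_left _ h1) with e' | e'
        · exact absurd e' hCp.ne_one
        · rw [e', Nat.mul_eq_right e.ne_zero] at h1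
          exact le_antisymm hCv (Subgroup.relIndex_eq_one.mp h1)
    have hDv : ∀ d ∈ D, v * d = d * v := fun d hd =>
      (Subgroup.mem_centralizer_singleton_iff.mp (hCveq.ge (hDC hd))).symm
    -- `C` is generated by `D` and `v`, and `G` by `C` and `u`
    have hgenC : C ≤ D ⊔ zpowers v := by
      have hle : D ⊔ zpowers v ≤ C := sup_le hDC (Subgroup.zpowers_le.mpr hvC)
      have h1 := Subgroup.relIndex_mul_relIndex D (D ⊔ zpowers v) C le_sup_left hle
      have h3 := Subgroup.relIndex_mul_index hDC
      rw [hpdef, hDidx.1, mul_comm p r] at h3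
      rw [Nat.eq_of_mul_eq_mul_right hp.pos h3] at h1
      rcases (Nat.dvd_prime hr).mp (Dvd.intro _ h1) with e' | e'
      · exact absurd (Subgroup.relIndex_eq_one.mp e' (Subgroup.mem_sup_right (mem_zpowers v))) hvD
      · rw [e', Nat.mul_eq_left hr.pos.ne'] at h1
        exact Subgroup.relIndex_eq_one.mp h1
    have hgen : ∀ (K : Subgroup G), C ≤ K → u ∈ K → K = ⊤ := by
      intro K hK hu
      have h1 := Subgroup.relIndex_mul_index hK
      rw [hrelC K hu, hpdef, Nat.mul_eq_left hp.pos.ne'] at h1
      exact Subgroup.index_eq_one.mp h1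
    have hDZ : D ≤ center G := by
      intro d hd
      by_contra hdZ
      obtain ⟨K, hK⟩ : ∃ K : Subgroup G, K = centralizer ({u * d} : Set G) := ⟨_, rfl⟩
      have hdu := hDu d hd
      have huK : u ∈ K := by
        rw [hK, Subgroup.mem_centralizer_singleton_iff]
        calc u * (u * d) = u * (d * u) := by rw [hdu]
          _ = u * d * u := by group
      have hwu : (u * d)⁻¹ * u ∈ D := by
        rw [mul_inv_rev, mul_assoc, inv_mul_cancel, mul_one]; exact D.inv_mem hd
      have hKD : K ⊓ C ≤ D := fun g hg => hcent (u * d) hwu g (hK ▸ hg)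
      have hle : K ⊓ C ≤ D ⊓ centralizer ({d} : Set G) := by
        intro g hg
        refine ⟨hKD hg, Subgroup.mem_centralizer_singleton_iff.mpr ?_⟩
        have e1 : g * (u * d) = (u * d) * g := Subgroup.mem_centralizer_singleton_iff.mp (hK ▸ hg.1)
        have e2 := hDu g (hKD hg)
        refine mul_left_cancel (a := u) ?_
        rw [← mul_assoc, e2, mul_assoc, e1]
        group
      have hproper : (D ⊓ centralizer ({d} : Set G)).relIndex D ≠ 1 := fun e => by
        refine hdZ (Subgroup.mem_center_iff.mpr fun g => ?_)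
        have htop : centralizer ({d} : Set G) = ⊤ := hgen _ (hgenC.trans (sup_le
          ((Subgroup.relIndex_eq_one.mp e).trans inf_le_right)
          (Subgroup.zpowers_le.mpr (Subgroup.mem_centralizer_singleton_iff.mpr (hDv d hd)))))
          (Subgroup.mem_centralizer_singleton_iff.mpr hdu)
        exact Subgroup.mem_centralizer_singleton_iff.mp (htop ▸ Subgroup.mem_top g : g ∈ centralizer ({d} : Set G))
      have h1 := hinfidx K huK
      have h2 := Subgroup.index_dvd_of_le hle
      rw [h1] at h2
      have h3 := Subgroup.relIndex_mul_index (inf_le_left : D ⊓ centralizer ({d} : Set G) ≤ D)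
      rw [hDidx.1] at h3
      rw [← h3, ← mul_assoc, mul_right_comm] at h2
      have h4 := Nat.dvd_of_mul_dvd_mul_right hp.pos h2
      rcases (hK ▸ h (u * d) : K.index = 1 ∨ K.index.Prime) with e | e
      · rw [e, Nat.dvd_one] at h4
        exact hr.ne_one (Nat.eq_one_of_mul_eq_one_left h4)
      · rcases (Nat.dvd_prime e).mp h4 with e' | e'
        · exact hr.ne_one (Nat.eq_one_of_mul_eq_one_left e')
        · rw [← e'] at e
          exact Nat.not_prime_mul hproper hr.ne_one e
    have hZD : center G ≤ D := by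
      intro z hz k
      rw [Subgroup.mem_center_iff.mp hz k, mul_inv_cancel_right]
      exact Subgroup.mem_centralizer_singleton_iff.mpr (Subgroup.mem_center_iff.mp hz x).symm
    have hDeq : center G = D := le_antisymm hZD hDZ
    refine ⟨p, r, hp, hr, ?_, ?_, fun hc => hxn ?_⟩
    · intro e
      have h1 : D.index ∣ p.factorial := by
        rw [hD, Subgroup.normalCore_eq_ker, Subgroup.index_ker]
        refine (Subgroup.card_subgroup_dvd_card _).trans ?_
        rw [Nat.card_perm, ← Subgroup.index_eq_card, hpdef]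
      rw [hDidx.1, ← e, ← Nat.mul_factorial_pred hp.pos.ne'] at h1
      have := hp.dvd_factorial.mp (Nat.dvd_of_mul_dvd_mul_left hp.pos h1)
      have := hp.two_le
      omega
    · rw [← Subgroup.index_eq_card, hDeq, hDidx.1]
    · refine ⟨fun c hcC g => ?_⟩
      have h1 := hc.is_comm.comm (QuotientGroup.mk c : G ⧸ center G) (QuotientGroup.mk g)
      have h2 : c⁻¹ * (g * c * g⁻¹) ∈ center G := by
        rw [← QuotientGroup.eq_one_iff, QuotientGroup.mk_mul, QuotientGroup.mk_mul, QuotientGroup.mk_mul,
          QuotientGroup.mk_inv, QuotientGroup.mk_inv, ← h1, mul_inv_cancel_right, inv_mul_cancel]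
      have h3 := C.mul_mem hcC (hDC (hDeq ▸ h2))
      rwa [mul_inv_cancel_left] at h3

end Cfsg.Agent.S4314
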