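import Cfsg.Statements.S4316
import Cfsg.Agent.Lib.DerivedBound.Main

set_option autoImplicit false
universe u
open Cfsg

namespace Cfsg.Agent.S4316

/-- There is a function `f` of two natural-number arguments with the following property. Let `q` be a prime and `A` an elementary abelian group of order `q³` acting by automorphisms on a finite group `G` of order prime to `q`, and suppose that for every non-identity `a ∈ A` the derived subgroup of the fixed-point subgroup `C_G(a)` has order at most `m`. Then the derived subgroup of `G` has order at most `f(q, m)`. -/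
theorem result :
    ∃ f : ℕ → ℕ → ℕ, ∀ (q m : ℕ) (A G : Type u) [Group A] [Finite A] [Group G] [Finite G] [MulDistribMulAction A G],
      q.Prime → Nat.card A = q ^ 3 → (∀ a b : A, a * b = b * a) → (∀ a : A, a ^ q = 1) → ¬ q ∣ Nat.card G →
      (∀ a : A, a ≠ 1 → Nat.card ↥(commutator ↥(FixedPoints.subgroup (Subgroup.zpowers a) G)) ≤ m) →
      Nat.card ↥(commutator G) ≤ f q m := by
  refine ⟨CfsgLib.DerivedBound.bound, ?_⟩
  intro q m A G _ _ _ _ _ hq hA hcomm hexp hcop hm
  let φ : A →* MulAut G := MulDistribMulAction.toMulAut A G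
  haveI : Finite (G ⋊[φ] A) := Finite.of_equiv _ SemidirectProduct.equivProd.symm
  let X : Subgroup (G ⋊[φ] A) := (SemidirectProduct.inl : G →* G ⋊[φ] A).range
  let A' : Subgroup (G ⋊[φ] A) := (SemidirectProduct.inr : A →* G ⋊[φ] A).range
  have hcardX : Nat.card ↥X = Nat.card G :=
    (Nat.card_congr (MonoidHom.ofInjective SemidirectProduct.inl_injective).toEquiv).symm
  have hcardA : Nat.card ↥A' = q ^ 3 := by
    rw [← hA]
    exact (Nat.card_congr (MonoidHom.ofInjective SemidirectProduct.inr_injective).toEquiv).symm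
  have hact : CfsgLib.CentClass.Act q A' X :=
    { prime := hq
      comm := by rintro _ ⟨a, rfl⟩ _ ⟨b, rfl⟩; rw [← map_mul, ← map_mul, hcomm]
      exp := by rintro _ ⟨a, rfl⟩; rw [← map_pow, hexp, map_one]
      normal := by
        show (SemidirectProduct.inl : G →* G ⋊[φ] A).range.Normal
        rw [SemidirectProduct.range_inl_eq_ker_rightHom]
        exact MonoidHom.normal_ker _
      cop := by rw [hcardX]; exact hcop }
  have hXA : X ⊔ A' = ⊤ := eq_top_iff.mpr fun x _ => by
    rw [← SemidirectProduct.inl_left_mul_inr_right x]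
    exact Subgroup.mul_mem_sup ⟨_, rfl⟩ ⟨_, rfl⟩
  have hfix : ∀ a : A, X ⊓ CfsgLib.CentClass.C (Subgroup.zpowers (SemidirectProduct.inr a : G ⋊[φ] A)) =
      (FixedPoints.subgroup (Subgroup.zpowers a) G).map SemidirectProduct.inl := by
    intro a
    ext y
    rw [Subgroup.mem_inf, CfsgLib.CentClass.C, Subgroup.zpowers_eq_closure, Subgroup.centralizer_closure,
      Subgroup.mem_centralizer_singleton_iff]
    constructor
    · rintro ⟨⟨x, rfl⟩, hy⟩
      refine ⟨x, ?_, rfl⟩
      have h2 := SemidirectProduct.inl_aut (φ := φ) a x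
      rw [map_inv, ← hy, mul_inv_cancel_right] at h2
      have hax : a • x = x := SemidirectProduct.inl_injective h2
      rintro ⟨b, hb⟩
      obtain ⟨k, rfl⟩ := Subgroup.mem_zpowers_iff.mp hb
      exact (MulAction.mem_stabilizer_iff.mp (Subgroup.zpow_mem (MulAction.stabilizer A x) hax k) :)
    · rintro ⟨x, hx, rfl⟩
      refine ⟨⟨x, rfl⟩, ?_⟩
      have h2 := SemidirectProduct.inl_aut (φ := φ) a x
      rw [show φ a x = x from hx ⟨a, Subgroup.mem_zpowers a⟩, map_inv, eq_mul_inv_iff_mul_eq] at h2
      exact h2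
  have hm' : ∀ a ∈ A', a ≠ 1 → Nat.card ↥⁅X ⊓ CfsgLib.CentClass.C (Subgroup.zpowers a),
      X ⊓ CfsgLib.CentClass.C (Subgroup.zpowers a)⁆ ≤ m := by
    rintro _ ⟨a, rfl⟩ ha
    rw [hfix, ← Subgroup.map_commutator, Subgroup.card_map_of_injective SemidirectProduct.inl_injective,
      ← Subgroup.map_subtype_commutator, Subgroup.card_map_of_injective (Subgroup.subtype_injective _)]
    exact hm a fun e => ha (by rw [e, map_one])
  refine le_trans (le_of_eq ?_) (CfsgLib.DerivedBound.card_derived_le hact hcardA hXA hm')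
  rw [show X = (⊤ : Subgroup G).map SemidirectProduct.inl from MonoidHom.range_eq_map _,
    ← Subgroup.map_commutator, Subgroup.card_map_of_injective SemidirectProduct.inl_injective]
  rfl

end Cfsg.Agent.S4316
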