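import Cfsg.Statements.S4320
import Mathlib
-- import your own Cfsg.Agent.* helpers here

set_option autoImplicit false
open Cfsg

namespace Cfsg.Agent.S4320

/-! The principal ideal theorem by the determinant trick. -/

universe u

open scoped commutatorElement

variable {G : Type u} [Group G]

/-- The quotient by the derived subgroup. -/
abbrev Qt (G : Type u) [Group G] := Abelianization G

/-- The abelianised derived subgroup, written additively. -/
abbrev Ab (G : Type u) [Group G] := Additive (Abelianization ↥(commutator G))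

noncomputable def sec (q : Qt G) : G :=
  haveI := Classical.decEq (Qt G)
  if q = 1 then 1 else Quotient.out q

theorem of_sec (q : Qt G) : Abelianization.of (sec q) = q := by
  unfold sec
  split_ifs with h
  · rw [map_one, h]
  · exact Quotient.out_eq q

theorem sec_one : sec (1 : Qt G) = 1 := by simp [sec]

theorem mem_of_of_eq_one {g : G} (h : Abelianization.of g = 1) : g ∈ commutator G :=
  (QuotientGroup.eq_one_iff g).mp h

theorem of_of_mem {g : G} (h : g ∈ commutator G) : Abelianization.of g = 1 :=
  (QuotientGroup.eq_one_iff g).mpr h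

noncomputable def toAb (x : ↥(commutator G)) : Ab G := Additive.ofMul (Abelianization.of x)

theorem toAb_mul (x y : ↥(commutator G)) : toAb (x * y) = toAb x + toAb y := by
  simp [toAb]

theorem toAb_one : toAb (1 : ↥(commutator G)) = 0 := by simp [toAb]

/-- Conjugation on the abelianised derived subgroup. -/
noncomputable def cj (g : G) : Ab G →+ Ab G :=
  MonoidHom.toAdditive (Abelianization.map (MulAut.conjNormal (H := commutator G) g).toMonoidHom)

theorem cj_toAb (g : G) (x : ↥(commutator G)) : cj g (toAb x) = toAb (MulAut.conjNormal g x) := rfl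

theorem cj_mul (g h : G) (a : Ab G) : cj (g * h) a = cj g (cj h a) := by
  obtain ⟨x, hx⟩ := QuotientGroup.mk_surjective (Additive.toMul a)
  have hax : a = toAb x := (congrArg Additive.ofMul hx).symm
  rw [hax, cj_toAb, cj_toAb, cj_toAb, map_mul, MulAut.mul_apply]

theorem cj_of_mem {g : G} (hg : g ∈ commutator G) (a : Ab G) : cj g a = a := by
  obtain ⟨x, hx⟩ := QuotientGroup.mk_surjective (Additive.toMul a)
  have hax : a = toAb x := (congrArg Additive.ofMul hx).symm
  rw [hax, cj_toAb]
  have : MulAut.conjNormal g x = (⟨g, hg⟩ : ↥(commutator G)) * x * (⟨g, hg⟩ : ↥(commutator G))⁻¹ :=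
    Subtype.ext (MulAut.conjNormal_apply g x)
  rw [this, toAb_mul, toAb_mul]
  simp [toAb]

theorem cj_one (a : Ab G) : cj (1 : G) a = a := cj_of_mem (one_mem _) a

theorem mem_corr (g : G) : g * (sec (Abelianization.of g))⁻¹ ∈ commutator G :=
  mem_of_of_eq_one (by rw [map_mul, map_inv, of_sec, mul_inv_cancel])

/-- The derived part of an element. -/
noncomputable def al (g : G) : Ab G := toAb ⟨g * (sec (Abelianization.of g))⁻¹, mem_corr g⟩

theorem al_sec (q : Qt G) : al (sec q) = 0 := by
  have : (⟨sec q * (sec (Abelianization.of (sec q)))⁻¹, mem_corr _⟩ : ↥(commutator G)) = 1 :=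
    Subtype.ext (by simp [of_sec])
  rw [al, this, toAb_one]

theorem al_mem_mul (x : ↥(commutator G)) (g : G) : al ((x : G) * g) = toAb x + al g := by
  rw [al, al, ← toAb_mul]
  congr 1
  refine Subtype.ext ?_
  show (x : G) * g * _ = (x : G) * (g * _)
  rw [map_mul, of_of_mem x.2, one_mul, mul_assoc]

theorem al_mem {g : G} (hg : g ∈ commutator G) : al g = toAb ⟨g, hg⟩ := by
  have h1 : al ((1 : G)) = 0 := by rw [← sec_one (G := G), al_sec]
  have h2 := al_mem_mul ⟨g, hg⟩ 1
  rwa [mul_one, h1, add_zero] at h2

/-- The cocycle. -/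
noncomputable def cz (q r : Qt G) : Ab G := al (sec q * sec r)

theorem al_sec_mul (q : Qt G) (h : G) :
    al (sec q * h) = cj (sec q) (al h) + cz q (Abelianization.of h) := by
  set x : ↥(commutator G) := ⟨h * (sec (Abelianization.of h))⁻¹, mem_corr h⟩ with hx
  have e : sec q * h = ((MulAut.conjNormal (sec q) x : ↥(commutator G)) : G) * (sec q * sec (Abelianization.of h)) := by
    rw [MulAut.conjNormal_apply]
    show sec q * h = sec q * (h * (sec (Abelianization.of h))⁻¹) * (sec q)⁻¹ * (sec q * sec (Abelianization.of h))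
    group
  rw [e, al_mem_mul, ← cj_toAb]
  rfl

theorem al_mul (g h : G) : al (g * h) = al g + al (sec (Abelianization.of g) * h) := by
  have e : g * h = ((⟨g * (sec (Abelianization.of g))⁻¹, mem_corr g⟩ : ↥(commutator G)) : G) * (sec (Abelianization.of g) * h) := by
    show g * h = g * (sec (Abelianization.of g))⁻¹ * (sec (Abelianization.of g) * h)
    group
  conv_lhs => rw [e]
  rw [al_mem_mul]
  rfl

/-- The integral group ring of the quotient. -/
abbrev GR (G : Type u) [Group G] := MonoidAlgebra ℤ (Qt G)

/-- The augmentation. -/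
noncomputable def aug : GR G →ₐ[ℤ] ℤ := MonoidAlgebra.lift ℤ ℤ (Qt G) 1

theorem aug_single (q : Qt G) (k : ℤ) : aug (MonoidAlgebra.single q k) = k := by
  simp [aug, MonoidAlgebra.lift_single]

/-- The augmentation ideal. -/
noncomputable def augI : Ideal (GR G) := RingHom.ker (aug (G := G)).toRingHom

theorem mem_augI {f : GR G} : f ∈ augI (G := G) ↔ aug f = 0 := RingHom.mem_ker

/-- The linearised cocycle. -/
noncomputable def lz (q : Qt G) : GR G →+ Ab G :=
  (Finsupp.liftAddHom fun r => zmultiplesHom (Ab G) (cz q r)).comp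
    (MonoidAlgebra.coeffAddEquiv (R := ℤ) (M := Qt G)).toAddMonoidHom

theorem lz_single (q r : Qt G) (k : ℤ) : lz q (MonoidAlgebra.single r k) = k • cz q r := by
  show Finsupp.liftAddHom (fun r => zmultiplesHom (Ab G) (cz q r)) (MonoidAlgebra.single r k).coeff = _
  rw [MonoidAlgebra.coeff_single, Finsupp.liftAddHom_apply_single, zmultiplesHom_apply]

theorem lz_cocycle (p q : Qt G) (f : GR G) :
    cj (sec p) (lz q f) + lz p (MonoidAlgebra.single q 1 * f) = lz (p * q) f + aug f • cz p q := by
  induction f using MonoidAlgebra.induction_linear with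
  | zero => simp
  | add f g hf hg =>
    rw [map_add, map_add, mul_add, map_add, map_add, map_add, add_smul, add_add_add_comm, hf, hg, add_add_add_comm]
  | single r k =>
    rw [lz_single, MonoidAlgebra.single_mul_single, one_mul, lz_single, lz_single, aug_single, map_zsmul, ← smul_add, ← smul_add]
    congr 1
    -- evaluate the derived part of a triple product in two ways
    have h1 : al (sec p * (sec q * sec r)) = cj (sec p) (cz q r) + cz p (q * r) := by
      rw [al_sec_mul, map_mul, of_sec, of_sec]
      rfl
    have h2 : al (sec p * sec q * sec r) = cz p q + cz (p * q) r := by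
      rw [al_mul, map_mul, of_sec, of_sec]
      rfl
    rw [← h1, ← mul_assoc, h2, add_comm]

/-- The module. -/
abbrev Md (G : Type u) [Group G] := Ab G × ↥(augI (G := G))

/-- The action of the quotient. -/
noncomputable def act (q : Qt G) : Md G →+ Md G where
  toFun m := (cj (sec q) m.1 + lz q (m.2 : GR G), ⟨MonoidAlgebra.single q 1 * (m.2 : GR G), Ideal.mul_mem_left _ _ m.2.2⟩)
  map_zero' := by
    refine Prod.ext ?_ (Subtype.ext ?_)
    · simp
    · simp
  map_add' m m' := by
    refine Prod.ext ?_ (Subtype.ext ?_)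
    · show cj (sec q) (m.1 + m'.1) + lz q ((m.2 : GR G) + m'.2) = _
      rw [map_add, map_add, add_add_add_comm]
      rfl
    · exact mul_add _ _ _

/-- The representation of the quotient. -/
noncomputable def actHom : Qt G →* AddMonoid.End (Md G) where
  toFun := act
  map_one' := by
    refine AddMonoidHom.ext fun m => Prod.ext ?_ (Subtype.ext ?_)
    · show cj (sec 1) m.1 + lz 1 (m.2 : GR G) = m.1
      rw [sec_one, cj_one]
      have h : lz (1 : Qt G) = 0 := by
        refine AddMonoidHom.ext fun f => ?_
        induction f using MonoidAlgebra.induction_linear with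
        | zero => simp
        | add f g hf hg => rw [map_add, map_add, hf, hg]
        | single r k => rw [lz_single, AddMonoidHom.zero_apply, cz, sec_one, one_mul, al_sec, smul_zero]
      rw [h, AddMonoidHom.zero_apply, add_zero]
    · show MonoidAlgebra.single (1 : Qt G) (1 : ℤ) * (m.2 : GR G) = m.2
      rw [← MonoidAlgebra.one_def, one_mul]
  map_mul' p q := by
    refine AddMonoidHom.ext fun m => Prod.ext ?_ (Subtype.ext ?_)
    · show cj (sec (p * q)) m.1 + lz (p * q) (m.2 : GR G) =
        cj (sec p) (cj (sec q) m.1 + lz q (m.2 : GR G)) + lz p (MonoidAlgebra.single q 1 * (m.2 : GR G))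
      rw [map_add, add_assoc, lz_cocycle, mem_augI.mp m.2.2, zero_smul, add_zero, ← cj_mul]
      congr 1
      have hx : sec p * sec q * (sec (p * q))⁻¹ ∈ commutator G :=
        mem_of_of_eq_one (by rw [map_mul, map_mul, map_inv, of_sec, of_sec, of_sec, mul_inv_cancel])
      conv_rhs => rw [← inv_mul_cancel_right (sec p * sec q) (sec (p * q)), cj_mul, cj_of_mem hx]
    · show MonoidAlgebra.single (p * q) (1 : ℤ) * (m.2 : GR G) = MonoidAlgebra.single p 1 * (MonoidAlgebra.single q 1 * (m.2 : GR G))
      rw [← mul_assoc, MonoidAlgebra.single_mul_single, one_mul]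

noncomputable instance instAlgEndMd : Algebra ℤ (AddMonoid.End (Md G)) := Ring.toIntAlgebra (AddMonoid.End (Md G))

noncomputable instance instModuleMd : Module (GR G) (Md G) :=
  Module.compHom (Md G) (MonoidAlgebra.lift ℤ (AddMonoid.End (Md G)) (Qt G) actHom).toRingHom

theorem single_act (q : Qt G) (m : Md G) : (MonoidAlgebra.single q (1 : ℤ) : GR G) • m = act q m := by
  show (MonoidAlgebra.lift ℤ (AddMonoid.End (Md G)) (Qt G) actHom (MonoidAlgebra.single q 1)) m = _
  rw [MonoidAlgebra.lift_single]
  simp
  rfl

theorem smul_snd (r : GR G) (m : Md G) : ((r • m).2 : GR G) = r * (m.2 : GR G) := by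
  induction r using MonoidAlgebra.induction_linear with
  | zero => simp
  | add r r' h h' => rw [add_smul, Prod.snd_add, Submodule.coe_add, h, h', add_mul]
  | single q k =>
    have e : (MonoidAlgebra.single q k : GR G) = k • MonoidAlgebra.single q 1 := by simp
    rw [e, smul_assoc, single_act, Prod.smul_snd, AddSubgroupClass.coe_zsmul, smul_mul_assoc]
    rfl

/-- The derivation. -/
noncomputable def der (g : G) : Md G :=
  (al g, ⟨MonoidAlgebra.single (Abelianization.of g) 1 - 1, mem_augI.mpr (by rw [map_sub, aug_single, map_one, sub_self])⟩)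

theorem lz_one (q : Qt G) : lz q 1 = 0 := by
  rw [MonoidAlgebra.one_def, lz_single, cz, sec_one, mul_one, al_sec, smul_zero]

theorem act_der (q : Qt G) (h : G) :
    (act q (der h)).1 = al (sec q * h) := by
  show cj (sec q) (al h) + lz q (MonoidAlgebra.single (Abelianization.of h) 1 - 1) = _
  rw [map_sub, lz_single, one_smul, lz_one, sub_zero, al_sec_mul]

theorem der_mul (g h : G) : der (g * h) = der g + (MonoidAlgebra.single (Abelianization.of g) (1 : ℤ) : GR G) • der h := by
  rw [single_act]
  refine Prod.ext ?_ (Subtype.ext ?_)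
  · rw [Prod.fst_add, act_der]
    exact al_mul g h
  · show MonoidAlgebra.single (Abelianization.of (g * h)) (1 : ℤ) - 1 =
      (MonoidAlgebra.single (Abelianization.of g) 1 - 1) + MonoidAlgebra.single (Abelianization.of g) 1 * (MonoidAlgebra.single (Abelianization.of h) 1 - 1)
    rw [map_mul, mul_sub, mul_one, MonoidAlgebra.single_mul_single, one_mul]
    abel

theorem der_one : der (1 : G) = 0 := by
  have h := der_mul (1 : G) 1
  rw [mul_one, map_one, ← MonoidAlgebra.one_def, one_smul] at h
  exact left_eq_add.mp h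

theorem norm_eq_det [Finite G] :
    ∃ D : GR G, (∀ g : G, D • der g = 0) ∧ ∀ q : Qt G, MonoidAlgebra.single q (1 : ℤ) * D = D ∧ aug D = (Nat.card (Qt G) : ℤ) := by
  classical
  obtain ⟨ι, _, n, hn, ⟨e⟩⟩ := CommGroup.equiv_prod_multiplicative_zmod_of_finite (Qt G)
  have := Fintype.ofFinite ↥(commutator G)
  let gi : ι → G := fun i => sec (e.symm (Pi.mulSingle i (Multiplicative.ofAdd 1)))
  let v : ι ⊕ ↥(commutator G) → Md G := Sum.elim (fun i => der (gi i)) (fun x => der (x : G))
  let μ : ι ⊕ ↥(commutator G) → ℕ := Sum.elim n (fun _ => 1)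
  set S := Submodule.span (GR G) (Set.range v) with hS
  -- every derivative lies in the span
  let K : Subgroup G :=
    { carrier := {g | der g ∈ S}
      one_mem' := by show der (1 : G) ∈ S; rw [der_one]; exact S.zero_mem
      mul_mem' := fun {a b} ha hb => by show der (a * b) ∈ S; rw [der_mul]; exact S.add_mem ha (S.smul_mem _ hb)
      inv_mem' := fun {a} ha => by
        have h := der_mul a⁻¹ a
        rw [inv_mul_cancel, der_one] at h
        show der a⁻¹ ∈ S
        rw [eq_neg_of_add_eq_zero_left h.symm]
        exact S.neg_mem (S.smul_mem _ ha) }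
  have hK : K = ⊤ := by
    have hmap : K.map (Abelianization.of : G →* Qt G) = ⊤ := by
      rw [eq_top_iff]
      intro q _
      have hsingle : ∀ i, e.symm (Pi.mulSingle i (Multiplicative.ofAdd 1)) ∈ K.map (Abelianization.of : G →* Qt G) := fun i =>
        ⟨gi i, Submodule.subset_span ⟨Sum.inl i, rfl⟩, of_sec _⟩
      have hq : e q ∈ (K.map (Abelianization.of : G →* Qt G)).map e.toMonoidHom := by
        rw [← Finset.univ_prod_mulSingle (e q)]
        refine Subgroup.prod_mem _ fun i _ => ?_
        obtain ⟨k, hk⟩ := ZMod.intCast_surjective ((e q) i).toAdd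
        have h1 : (e q) i = (Multiplicative.ofAdd (1 : ZMod (n i))) ^ k := by
          rw [← ofAdd_zsmul, zsmul_one, hk]
          rfl
        rw [h1, Pi.mulSingle_zpow]
        refine Subgroup.zpow_mem _ ?_ k
        exact ⟨_, hsingle i, e.apply_symm_apply _⟩
      obtain ⟨w, hw, hwq⟩ := hq
      exact e.injective hwq ▸ hw
    rw [eq_top_iff]
    intro g _
    obtain ⟨w, hw, hwg⟩ : Abelianization.of g ∈ K.map (Abelianization.of : G →* Qt G) := hmap ▸ Subgroup.mem_top _
    have hx : w⁻¹ * g ∈ commutator G := mem_of_of_eq_one (by rw [map_mul, map_inv, hwg, inv_mul_cancel])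
    rw [← mul_inv_cancel_left w g]
    exact K.mul_mem hw (Submodule.subset_span ⟨Sum.inr ⟨_, hx⟩, rfl⟩)
  have hder : ∀ g, der g ∈ S := fun g => hK.ge (Subgroup.mem_top g)
  -- derivatives of the derived subgroup
  let L : Subgroup G :=
    { carrier := {g | g ∈ commutator G ∧ der g ∈ augI (G := G) • S}
      one_mem' := ⟨one_mem _, by rw [der_one]; exact zero_mem _⟩
      mul_mem' := fun {a b} ha hb => ⟨mul_mem ha.1 hb.1, by
        rw [der_mul, of_of_mem ha.1, ← MonoidAlgebra.one_def, one_smul]; exact add_mem ha.2 hb.2⟩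
      inv_mem' := fun {a} ha => ⟨inv_mem ha.1, by
        have h := der_mul a⁻¹ a
        rw [inv_mul_cancel, der_one, of_of_mem (inv_mem ha.1), ← MonoidAlgebra.one_def, one_smul] at h
        rw [eq_neg_of_add_eq_zero_left h.symm]
        exact neg_mem ha.2⟩ }
  have haug1 : ∀ q : Qt G, MonoidAlgebra.single q (1 : ℤ) - 1 ∈ augI (G := G) := fun q =>
    mem_augI.mpr (by rw [map_sub, aug_single, map_one, sub_self])
  have hL : commutator G ≤ L := by
    rw [commutator_def, Subgroup.commutator_le]
    intro g _ h _
    have hmem : ⁅g, h⁆ ∈ commutator G := Subgroup.commutator_mem_commutator (Subgroup.mem_top g) (Subgroup.mem_top h)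
    refine ⟨hmem, ?_⟩
    have h1 := der_mul ⁅g, h⁆ (h * g)
    rw [show ⁅g, h⁆ * (h * g) = g * h by rw [commutatorElement_def]; group, der_mul, of_of_mem hmem,
      ← MonoidAlgebra.one_def, one_smul, der_mul] at h1
    have h2 : der ⁅g, h⁆ = ((MonoidAlgebra.single (Abelianization.of g) (1 : ℤ) : GR G) - 1) • der h -
        ((MonoidAlgebra.single (Abelianization.of h) (1 : ℤ) : GR G) - 1) • der g := by
      rw [sub_smul, sub_smul, one_smul, one_smul, eq_sub_iff_add_eq.mpr h1.symm]
      abel
    rw [h2]
    exact sub_mem (Submodule.smul_mem_smul (haug1 _) (hder h)) (Submodule.smul_mem_smul (haug1 _) (hder g))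
  -- powers of the chosen generators
  have hrel : ∀ k, (μ k : GR G) • v k ∈ augI (G := G) • Submodule.span (GR G) (Set.range v) := by
    rintro (i | x)
    · set q := e.symm (Pi.mulSingle i (Multiplicative.ofAdd 1)) with hq
      have hpow : ∀ j : ℕ, der (gi i ^ j) = (∑ t ∈ Finset.range j, (MonoidAlgebra.single q (1 : ℤ) : GR G) ^ t) • der (gi i) := by
        intro j
        induction j with
        | zero => rw [pow_zero, der_one, Finset.range_zero, Finset.sum_empty, zero_smul]
        | succ j ih =>
          rw [pow_succ', der_mul, ih, show Abelianization.of (gi i) = q from of_sec q, smul_smul]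
          rw [Finset.mul_sum, Finset.sum_range_succ', pow_zero, add_smul, one_smul, add_comm]
          simp only [pow_succ']
      have hmem : gi i ^ n i ∈ commutator G := by
        refine mem_of_of_eq_one ?_
        rw [map_pow, show Abelianization.of (gi i) = q from of_sec q, hq, ← map_pow, ← Pi.mulSingle_pow, ← ofAdd_nsmul]
        simp
      have h1 := (hL hmem).2
      rw [hpow] at h1
      set Nn := (∑ t ∈ Finset.range (n i), (MonoidAlgebra.single q (1 : ℤ) : GR G) ^ t) with hNn
      have h2 : Nn - (n i : GR G) ∈ augI (G := G) := mem_augI.mpr (by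
        rw [map_sub, hNn, map_sum, map_natCast]
        simp [aug_single])
      have h3 := sub_mem h1 (Submodule.smul_mem_smul h2 (hder (gi i)))
      rw [← sub_smul, sub_sub_cancel] at h3
      exact h3
    · show ((1 : ℕ) : GR G) • der (x : G) ∈ _
      rw [Nat.cast_one, one_smul]
      exact (hL x.2).2
  have hc : ∀ k, ∃ c : ι ⊕ ↥(commutator G) → GR G, (∀ j, c j ∈ augI (G := G)) ∧ ∑ j, c j • v j = (μ k : GR G) • v k := by
    intro k
    obtain ⟨a, ha, hsum⟩ := (Submodule.mem_ideal_smul_span_iff_exists_sum _ v _).mp (hrel k)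
    refine ⟨fun j => a j, ha, ?_⟩
    rw [← hsum, Finsupp.sum_fintype]
    intro j
    exact zero_smul _ _
  choose c hcI hcs using hc
  let P : Matrix (ι ⊕ ↥(commutator G)) (ι ⊕ ↥(commutator G)) (GR G) :=
    fun k j => (if k = j then (μ k : GR G) else 0) - c k j
  have hP : ∀ k, ∑ j, P k j • v j = 0 := fun k => by
    simp only [P, sub_smul, Finset.sum_sub_distrib, hcs, ite_smul, zero_smul]
    simp
  have hann : ∀ k, P.det • v k = 0 := by
    intro k
    calc P.det • v k = ∑ j, ((P.det • (1 : Matrix (ι ⊕ ↥(commutator G)) (ι ⊕ ↥(commutator G)) (GR G))) k j) • v j := by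
          simp [Matrix.one_apply, ite_smul]
      _ = ∑ j, (∑ l, P.adjugate k l * P l j) • v j := by
          rw [← Matrix.adjugate_mul]; rfl
      _ = ∑ l, P.adjugate k l • ∑ j, P l j • v j := by
          simp only [Finset.sum_smul, Finset.smul_sum, mul_smul]
          exact Finset.sum_comm
      _ = 0 := by simp [hP]
  refine ⟨P.det, fun g => ?_, fun q => ⟨?_, ?_⟩⟩
  · have hle : S ≤ LinearMap.ker (LinearMap.lsmul (GR G) (Md G) P.det) := by
      rw [hS, Submodule.span_le]
      rintro _ ⟨k, rfl⟩
      exact hann k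
    exact hle (hder g)
  · have hle : S ≤ LinearMap.ker (LinearMap.lsmul (GR G) (Md G) P.det) := by
      rw [hS, Submodule.span_le]
      rintro _ ⟨k, rfl⟩
      exact hann k
    have h0 : P.det • der (sec q) = 0 := hle (hder (sec q))
    have h1 := congrArg (fun m : Md G => (m.2 : GR G)) h0
    simp only [smul_snd] at h1
    have h2 : P.det * (MonoidAlgebra.single (Abelianization.of (sec q)) (1 : ℤ) - 1) = 0 := h1
    rw [of_sec, mul_sub, mul_one, sub_eq_zero, mul_comm] at h2
    exact h2
  · have hmap : P.map (aug (G := G)) = Matrix.diagonal fun k => (μ k : ℤ) := by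
      ext k j
      rw [Matrix.map_apply, Matrix.diagonal_apply]
      simp only [P, map_sub, mem_augI.mp (hcI k j), sub_zero]
      split_ifs <;> simp
    rw [AlgHom.map_det, AlgHom.mapMatrix_apply, hmap, Matrix.det_diagonal, Fintype.prod_sum_type, Nat.card_congr e.toEquiv, Nat.card_pi]
    simp [μ, Nat.card_congr Multiplicative.toAdd, Nat.card_zmod]

theorem sum_al_eq_zero [Finite G] [Fintype (Qt G)] (g : G) : ∑ q : Qt G, al (sec q * g) = 0 := by
  classical
  obtain ⟨D, hD, hD'⟩ := norm_eq_det (G := G)
  have hconst : ∀ q, D.coeff q = D.coeff 1 := by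
    intro q
    have h := congrArg (fun x : GR G => x.coeff q) (hD' q).1
    simp only [MonoidAlgebra.coeff_single_mul_apply, inv_mul_cancel, one_mul] at h
    exact h.symm
  have hD1 : D = D.coeff 1 • ∑ q : Qt G, (MonoidAlgebra.single q (1 : ℤ) : GR G) := by
    refine MonoidAlgebra.coeff_injective (Finsupp.ext fun q => ?_)
    rw [MonoidAlgebra.coeff_smul_apply, MonoidAlgebra.coeff_sum, Finsupp.finsetSum_apply]
    simp [MonoidAlgebra.coeff_single, Finsupp.single_apply, hconst q]
  have hk : D.coeff 1 = 1 := by
    have h := (hD' 1).2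
    rw [hD1, map_zsmul, map_sum] at h
    simp only [aug_single, Finset.sum_const, Finset.card_univ, nsmul_one, smul_eq_mul, ← Nat.card_eq_fintype_card] at h
    exact mul_right_cancel₀ (Nat.cast_ne_zero.mpr Nat.card_pos.ne') (h.trans (one_mul _).symm)
  have h0 := hD g
  rw [hD1, hk, one_smul, Finset.sum_smul] at h0
  have h1 := congrArg Prod.fst h0
  rw [Prod.fst_sum] at h1
  simpa only [single_act, act_der, Prod.fst_zero] using h1

/-- The Principal Ideal Theorem of class field theory in its group-theoretic form: for every finite group `G`, the transfer homomorphism from `G` into the abelianization `G'/G''` of its derived subgroup `G'` is the trivial homomorphism. -/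
theorem result {G : Type*} [Group G] [Finite G] :
    MonoidHom.transfer (Abelianization.of : ↥(commutator G) →* Abelianization ↥(commutator G)) =
      (1 : G →* Abelianization ↥(commutator G)) := by
  classical
  let _ : Fintype (Qt G) := Subgroup.fintypeQuotientOfFiniteIndex
  refine MonoidHom.ext fun g => ?_
  let f : G ⧸ commutator G → G := fun q => (sec ((q : Qt G)⁻¹))⁻¹
  have hf : ∀ q, (f q : G ⧸ commutator G) = q := fun q => by
    show Abelianization.of ((sec ((q : Qt G)⁻¹))⁻¹) = (q : Qt G)
    rw [map_inv, of_sec]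
    exact inv_inv (q : Qt G)
  let T : (commutator G).LeftTransversal := ⟨Set.range f, Subgroup.isComplement_range_left hf⟩
  rw [MonoidHom.transfer_def _ T g, MonoidHom.one_apply]
  refine Additive.ofMul.injective ?_
  rw [Subgroup.leftTransversals.diff, ofMul_prod, ofMul_one, ← sum_al_eq_zero g]
  refine Fintype.sum_equiv (Equiv.inv (Qt G)) _ (fun q => al (sec q * g)) fun (q : G ⧸ commutator G) => ?_
  show toAb _ = _
  rw [al]
  congr 1
  refine Subtype.ext ?_
  show ((T.2.leftQuotientEquiv q : G))⁻¹ * ((g • T).2.leftQuotientEquiv q : G) = _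
  rw [Subgroup.smul_apply_eq_smul_apply_inv_smul]
  rw [Subgroup.IsComplement.leftQuotientEquiv_apply hf, Subgroup.IsComplement.leftQuotientEquiv_apply hf]
  show ((sec ((q : Qt G)⁻¹))⁻¹)⁻¹ * (g * (sec (((g⁻¹ • q : G ⧸ commutator G) : Qt G)⁻¹))⁻¹) = _
  rw [inv_inv, ← mul_assoc]
  congr 3
  induction q using QuotientGroup.induction_on with
  | H a =>
    show (Abelianization.of (g⁻¹ * a))⁻¹ = Abelianization.of (sec ((Abelianization.of a)⁻¹) * g)
    rw [map_mul, map_mul, map_inv, of_sec, mul_inv_rev, inv_inv]

end Cfsg.Agent.S4320
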