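import Cfsg.Statements.S4321
import Mathlib
import Cfsg.Agent.Lib.CoprimeClassSizes
import Cfsg.Agent.Lib.JordanCover
import Cfsg.Agent.Lib.Blocks.Orth
import Cfsg.Agent.Lib.CoprimeGen
import Cfsg.Agent.Lib.Elementary
-- import your own Cfsg.Agent.* helpers here

set_option autoImplicit false
open Cfsg

namespace Cfsg.Agent.S4321

namespace Aux

open Subgroup CfsgLib.CopClass
open scoped commutatorElement

universe u
variable {G : Type u} [Group G] [Finite G] {p : ℕ} [hp : Fact p.Prime]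

theorem conj_order {g a : G} : orderOf (g * a * g⁻¹) = orderOf a :=
  (MulAut.conj g).orderOf_eq a

theorem sylow_unique_of_le {P Q : Sylow p G} (h : (P : Subgroup G) ≤ Q) : P = Q :=
  (Sylow.ext (P.3 Q.2 h)).symm

theorem sylow_le_cz {x : G} (h : ¬ p ∣ cs x) {u : G} (hu : ∃ k, orderOf u = p ^ k) (hux : u ∈ cz x) :
    ∃ Q : Sylow p G, (Q : Subgroup G) ≤ cz x ∧ u ∈ Q := by
  have hU : IsPGroup p (zpowers (⟨u, hux⟩ : cz x)) := by
    obtain ⟨k, hk⟩ := hu
    exact IsPGroup.of_card (by rw [Nat.card_zpowers, ← Subgroup.orderOf_coe, hk])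
  obtain ⟨R, hR⟩ := hU.exists_le_sylow
  have hmap : IsPGroup p ((R : Subgroup (cz x)).map (cz x).subtype) := R.2.map _
  obtain ⟨Q, hQ⟩ := hmap.exists_le_sylow
  have hcard : Nat.card (Q : Subgroup G) ≤ Nat.card ((R : Subgroup (cz x)).map (cz x).subtype) := by
    rw [Subgroup.card_map_of_injective (cz x).subtype_injective, Sylow.card_eq_multiplicity, Sylow.card_eq_multiplicity,
      ← (cz x).card_mul_index, Nat.factorization_mul Nat.card_pos.ne' index_ne_zero_of_finite, Finsupp.add_apply,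
      Nat.factorization_eq_zero_of_not_dvd h, add_zero]
  have he := eq_of_le_of_card_ge hQ hcard
  refine ⟨Q, ?_, ?_⟩
  · rw [← he]; exact Subgroup.map_subtype_le _
  · show u ∈ (Q : Subgroup G)
    rw [← he]; exact ⟨⟨u, hux⟩, hR (mem_zpowers _), rfl⟩

theorem order_p_mul {a b : G} (ha : orderOf a = p) (hb : orderOf b = p) (hab : Commute a b) (h1 : a * b ≠ 1) :
    orderOf (a * b) = p :=
  orderOf_eq_prime (by
    rw [hab.mul_pow, orderOf_dvd_iff_pow_eq_one.mp ha.dvd, orderOf_dvd_iff_pow_eq_one.mp hb.dvd, one_mul]) h1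

theorem translate {a b : G} (hab : (cs a).Coprime (cs b)) (ha : orderOf a = p) (hn : 1 < cs a)
    (hd : (cs (a * b)).Coprime (cs a)) : p ∣ cs b := by
  have h1 : cs (a * b) ∣ cs b := hd.dvd_of_dvd_mul_left (cs_mul_dvd hab)
  have h2 : cs (a * b) = cs b := le_antisymm (Nat.le_of_dvd (cs_pos b) h1) (cs_mul_ge hab)
  obtain ⟨-, hdvd⟩ := kk_translate hab h2
  have hco : (Nat.card (kk a)).Coprime (cs a) := hab.symm.coprime_dvd_left hdvd
  obtain ⟨g, hg⟩ : ∃ g : G, g * a * g⁻¹ ≠ a := by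
    by_contra h
    push Not at h
    have : cs a = 1 := cs_one_iff.mpr (mem_center_iff.mpr fun g => by
      have h2 := h g
      rwa [mul_inv_eq_iff_eq_mul] at h2)
    omega
  have hk := gen_mem_kk a g
  have hc1 : Commute (a⁻¹ * (g * a * g⁻¹)) a := by
    have := (kk_abelian hco).1 1 hk
    rw [one_mul, inv_one, mul_one] at this
    exact mem_cz.mp this
  have hc2 : Commute a⁻¹ (g * a * g⁻¹) := by
    have := (hc1.inv_right).symm.mul_right (Commute.refl a⁻¹).inv_right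
    have e : Commute a⁻¹ (a * (a⁻¹ * (g * a * g⁻¹))) :=
      ((Commute.refl a).inv_left).mul_right (hc1.inv_right).symm
    rwa [mul_inv_cancel_left] at e
  have ho : orderOf (a⁻¹ * (g * a * g⁻¹)) = p :=
    order_p_mul (by rw [orderOf_inv, ha]) (by rw [conj_order, ha]) hc2
      (fun e => hg (by rwa [inv_mul_eq_one, eq_comm] at e))
  exact ho ▸ ((Subgroup.orderOf_dvd_natCard _ hk).trans hdvd)

theorem main (z y : G) (hz : orderOf z = p) (hy : orderOf y = p) (hn : 1 < cs z) (hm : 1 < cs y)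
    (hpn : ¬ p ∣ cs z) (hco : (cs z).Coprime (cs y))
    (hNE : ∀ x : G, p ∣ orderOf x → (cs x).Coprime (cs z) ∨ (cs x).Coprime (cs y)) : False := by
  classical
  have hzp : ∃ k, orderOf z = p ^ k := ⟨1, by rw [hz, pow_one]⟩
  obtain ⟨P, hPz, hzP⟩ := sylow_le_cz hpn hzp (mem_cz.mpr rfl)
  have hyP : IsPGroup p (zpowers y) := IsPGroup.of_card (n := 1) (by rw [Nat.card_zpowers, hy, pow_one])
  obtain ⟨R, hR⟩ := hyP.exists_le_sylow
  obtain ⟨g, hg⟩ := MulAction.exists_smul_eq G R P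
  set y' := g * y * g⁻¹ with hy'
  have hy'P : y' ∈ (P : Subgroup G) := by
    rw [← hg, Sylow.coe_subgroup_smul]
    exact ⟨y, hR (mem_zpowers y), rfl⟩
  have hcy : cs y' = cs y := cs_conj g y
  have hoy : orderOf y' = p := by rw [hy', conj_order, hy]
  have hcomm : Commute y' z := mem_cz.mp (hPz hy'P)
  have hco' : (cs y').Coprime (cs z) := by rw [hcy]; exact hco.symm
  have hne : y' * z ≠ 1 := fun e => by
    have e2 : cz y' = cz z := by
      rw [eq_inv_of_mul_eq_one_left e]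
      ext x
      rw [mem_cz, mem_cz]
      exact Commute.inv_right_iff
    have h1 : cs y' = cs z := congrArg Subgroup.index e2
    rw [hcy] at h1
    rw [← h1, Nat.coprime_self] at hco
    omega
  have ho : p ∣ orderOf (y' * z) := (order_p_mul hoy hz hcomm hne).symm.dvd
  have hd : (cs (y' * z)).Coprime (cs z) := by
    rcases hNE _ ho with h | h
    · exact h
    · exact absurd (translate hco' hoy (hcy.symm ▸ hm) (by rwa [hcy])) hpn
  have hpm : p ∣ cs y' :=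
    translate hco'.symm hz hn (by rwa [hcomm.eq] at hd)
  -- elements having the primes of both
  have hnox : ∀ x : G, p ∣ orderOf x → cs z ∣ cs x → ¬ p ∣ cs x := by
    intro x hx hzx hpx
    rcases hNE x hx with h | h
    · have := h.symm.eq_one_of_dvd hzx
      omega
    · exact hp.out.one_lt.ne' (Nat.eq_one_of_dvd_coprimes h hpx (hcy ▸ hpm))
  have hcop : ∀ v : G, v ∈ (P : Subgroup G) → p ∣ cs v → (cs v).Coprime (cs z) := by
    intro v hv hpv
    have hv1 : v ≠ 1 := fun e => by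
      rw [e, cs_one_iff.mpr (one_mem _)] at hpv
      exact hp.out.not_dvd_one hpv
    have hov : p ∣ orderOf v := by
      obtain ⟨k, hk⟩ := IsPGroup.iff_orderOf.mp P.2 ⟨v, hv⟩
      rw [Subgroup.orderOf_mk] at hk
      rcases Nat.eq_zero_or_pos k with rfl | hk0
      · exact absurd (orderOf_eq_one_iff.mp (hk.trans (pow_zero p))) hv1
      · rw [hk]; exact dvd_pow_self p hk0.ne'
    rcases hNE v hov with h | h
    · exact h
    · exact absurd (Nat.eq_one_of_dvd_coprimes h hpv (hcy ▸ hpm)) hp.out.one_lt.ne'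
  -- the centraliser of z
  set C := centralizer ((P : Subgroup G) : Set G) with hC
  have hCn : C ≤ normalizer ((P : Subgroup G) : Set G) := centralizer_le_normalizer _
  set A := (P : Subgroup G) ⊔ (C ⊓ cz z) with hA
  have hcover : (A.subgroupOf (cz z)) = ⊤ := by
    refine CfsgLib.eq_top_of_conj_cover _ fun g => ?_
    obtain ⟨u, w, huw, hcomm', hu, hw, huz, hwz⟩ := CfsgLib.Blocks.exists_pPart hp.out (g : G)
    have huC : u ∈ cz z := zpowers_le.mpr g.2 huz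
    have hwC : w ∈ cz z := zpowers_le.mpr g.2 hwz
    have hzw : Commute z w := (mem_cz.mp hwC).symm
    have hcop' : (orderOf z).Coprime (orderOf w) := by rw [hz]; exact hp.out.coprime_iff_not_dvd.mpr hw
    have hcz : cz (z * w) = cz z ⊓ cz w := inf_cz_eq hzw hcop'
    have hox : p ∣ orderOf (z * w) := by
      rw [hzw.orderOf_mul_eq_mul_orderOf_of_coprime hcop', hz]
      exact dvd_mul_right p _
    have hnp := hnox _ hox (index_dvd_of_le (hcz.le.trans inf_le_left))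
    obtain ⟨Q, hQ, huQ⟩ := sylow_le_cz hnp hu
      (hcz.ge ⟨huC, mem_cz.mpr hcomm'.eq⟩)
    have hQz : (Q : Subgroup G) ≤ cz z := hQ.trans (hcz.le.trans inf_le_left)
    obtain ⟨d, hd⟩ := MulAction.exists_smul_eq (cz z) (Q.subtype hQz) (P.subtype hPz)
    have hmem : ∀ a ∈ (Q : Subgroup G), (d : G) * a * (d : G)⁻¹ ∈ (P : Subgroup G) := by
      intro a ha
      have h1 : d * ⟨a, hQz ha⟩ * d⁻¹ ∈ ((d • Q.subtype hQz : Sylow p (cz z)) : Subgroup (cz z)) := by
        rw [Sylow.coe_subgroup_smul]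
        exact ⟨⟨a, hQz ha⟩, by rw [Sylow.coe_subtype]; exact ha, rfl⟩
      rw [hd, Sylow.coe_subtype] at h1
      exact h1
    refine ⟨d, ?_⟩
    rw [mem_subgroupOf]
    show (d : G) * (g : G) * (d : G)⁻¹ ∈ A
    rw [← huw, show (d : G) * (u * w) * (d : G)⁻¹ = ((d : G) * u * (d : G)⁻¹) * ((d : G) * w * (d : G)⁻¹) by group]
    refine Subgroup.mul_mem_sup (hmem u huQ) (Subgroup.mem_inf.mpr ⟨?_, mul_mem (mul_mem d.2 hwC) (inv_mem d.2)⟩)
    intro a ha
    have hle : (P : Subgroup G).map (MulAut.conj (d : G)⁻¹).toMonoidHom ≤ (Q : Subgroup G) := by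
      have hcard : Nat.card (Q : Subgroup G) = Nat.card (P : Subgroup G) := by
        rw [Sylow.card_eq_multiplicity, Sylow.card_eq_multiplicity]
      have h2 : (Q : Subgroup G).map (MulAut.conj (d : G)).toMonoidHom = (P : Subgroup G) :=
        eq_of_le_of_card_ge (by rintro _ ⟨b, hb, rfl⟩; exact hmem b hb)
          (by rw [Subgroup.card_map_of_injective (MulAut.conj (d : G)).injective, hcard])
      rintro _ ⟨b, hb, rfl⟩
      obtain ⟨c, hc, rfl⟩ := h2.ge hb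
      simp [mul_assoc]
      exact hc
    have hb : w * ((d : G)⁻¹ * a * (d : G)) = ((d : G)⁻¹ * a * (d : G)) * w := by
      have h3 := (hcz.le (hQ (hle ⟨a, ha, rfl⟩))).2
      have h4 := mem_cz.mp h3
      simp only [MulEquiv.coe_toMonoidHom, MulAut.conj_apply, inv_inv] at h4
      exact h4.symm
    calc a * ((d : G) * w * (d : G)⁻¹) = (d : G) * (((d : G)⁻¹ * a * (d : G)) * w) * (d : G)⁻¹ := by group
      _ = _ := by rw [← hb]; group
  have hAle : cz z ≤ A := subgroupOf_eq_top.mp hcover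
  have hzN : cz z ≤ normalizer ((P : Subgroup G) : Set G) :=
    hAle.trans (sup_le le_normalizer (inf_le_left.trans hCn))
  -- elements of P with class size divisible by p lie in all Sylow subgroups
  have hall : ∀ v ∈ (P : Subgroup G), p ∣ cs v → ∀ R : Sylow p G, v ∈ R := by
    intro v hv hpv R
    obtain ⟨c, rfl⟩ := MulAction.exists_smul_eq G P R
    obtain ⟨a, ha, b, hb, rfl⟩ := exists_eq_mul (hcop v hv hpv).symm c
    show v ∈ ((b * a) • P : Sylow p G).toSubgroup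
    rw [Sylow.coe_subgroup_smul]
    refine ⟨a⁻¹ * (b⁻¹ * v * b) * a, ?_, by show (b * a) * _ * (b * a)⁻¹ = v; group⟩
    have hb' : b⁻¹ * v * b = v := by rw [mul_assoc, ← mem_cz.mp hb, inv_mul_cancel_left]
    rw [hb']
    exact (mem_normalizer_iff''.mp (hzN ha) v).mp hv
  -- the Sylow subgroup is normal
  have huniq : ∀ R : Sylow p G, R = P := by
    intro R
    by_contra hR
    have hnot : ¬ (P : Subgroup G) ≤ R := fun h => hR (sylow_unique_of_le h).symm
    obtain ⟨v₀, hv₀, hv₀R⟩ := SetLike.not_le_iff_exists.mp hnot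
    set O : Subgroup G := ⨅ R : Sylow p G, (R : Subgroup G) with hO
    have hv₀O : v₀ ∉ O := fun h => hv₀R (Subgroup.mem_iInf.mp h R)
    have hyO : y' ∈ O := Subgroup.mem_iInf.mpr (hall y' hy'P hpm)
    have hout : ∀ v ∈ (P : Subgroup G), v ∉ O → v * y' = y' * v := by
      intro v hv hvO
      have hpv : ¬ p ∣ cs v := fun h => hvO (Subgroup.mem_iInf.mpr (hall v hv h))
      obtain ⟨k, hk⟩ := IsPGroup.iff_orderOf.mp P.2 ⟨v, hv⟩
      rw [Subgroup.orderOf_mk] at hk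
      obtain ⟨Q, hQ, -⟩ := sylow_le_cz hpv ⟨k, hk⟩ (mem_cz.mpr rfl)
      exact (mem_cz.mp (hQ (Subgroup.mem_iInf.mp hyO Q))).symm
    have hPy : (P : Subgroup G) ≤ cz y' := by
      intro v hv
      refine mem_cz.mpr ?_
      by_cases hvO : v ∈ O
      · have h1 : Commute v₀ y' := hout v₀ hv₀ hv₀O
        have h2 : Commute (v * v₀) y' := hout _ (mul_mem hv hv₀) fun h => hv₀O (by
          have := mul_mem (inv_mem hvO) h; rwa [inv_mul_cancel_left] at this)
        have h3 := h2.mul_left h1.inv_left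
        rwa [mul_inv_cancel_right] at h3
      · exact hout v hv hvO
    exact P.not_dvd_index (hpm.trans (index_dvd_of_le hPy))
  have hPn : ∀ g : G, g ∈ normalizer ((P : Subgroup G) : Set G) := fun g =>
    Sylow.smul_eq_iff_mem_normalizer.mp (huniq (g • P))
  have hyZ : ∃ v₁ ∈ (P : Subgroup G), ¬ v₁ * y' = y' * v₁ := by
    by_contra h
    push Not at h
    exact P.not_dvd_index (hpm.trans (index_dvd_of_le fun v hv => mem_cz.mpr (h v hv)))
  -- elements of order prime to p centralise P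
  set W := (frattini (P : Subgroup G)).map (P : Subgroup G).subtype with hW
  have hWcomm : ∀ a ∈ (P : Subgroup G), ∀ b ∈ (P : Subgroup G), a * b * a⁻¹ * b⁻¹ ∈ W := fun a ha b hb =>
    ⟨⁅(⟨a, ha⟩ : (P : Subgroup G)), ⟨b, hb⟩⁆, CfsgLib.commutator_le_frattini_pGroup P.2
      (commutator_mem_commutator (mem_top _) (mem_top _)), by simp [commutatorElement_def]⟩
  have hWn : ∀ a ∈ (P : Subgroup G), ∀ w ∈ W, a * w * a⁻¹ ∈ W := by
    rintro a ha _ ⟨w, hw, rfl⟩
    exact ⟨⟨a, ha⟩ * w * ⟨a, ha⟩⁻¹, (inferInstance : (frattini (P : Subgroup G)).Normal).conj_mem w hw _, by simp⟩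
  have hfix : ∀ h : G, ∀ v ∈ (P : Subgroup G), h * v * h⁻¹ * v⁻¹ ∈ W := by
    intro h
    have hbig : ∀ v ∈ (P : Subgroup G), (¬ ∀ u ∈ (P : Subgroup G), u * v = v * u) → h * v * h⁻¹ * v⁻¹ ∈ W := by
      intro v hv hvc
      have hpv : p ∣ cs v := by
        by_contra hpv
        obtain ⟨k, hk⟩ := IsPGroup.iff_orderOf.mp P.2 ⟨v, hv⟩
        rw [Subgroup.orderOf_mk] at hk
        obtain ⟨Q, hQ, -⟩ := sylow_le_cz hpv ⟨k, hk⟩ (mem_cz.mpr rfl)
        exact hvc fun u hu => mem_cz.mp (hQ (by rw [huniq Q]; exact hu))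
      obtain ⟨b, hb, c, hc, rfl⟩ := exists_eq_mul (hcop v hv hpv) h
      obtain ⟨a, ha, d, hd, rfl⟩ : ∃ a ∈ (P : Subgroup G), ∃ d ∈ C, a * d = c := by
        have h1 := hAle hc
        rw [hA] at h1
        obtain ⟨a, ha, d, hd, e⟩ := CfsgLib.mem_sup_of_le_normalizer
          (inf_le_left.trans hCn : C ⊓ cz z ≤ normalizer ((P : Subgroup G) : Set G)) h1
        exact ⟨a, ha, d, hd.1, e⟩
      have e : a * d * b * v * (a * d * b)⁻¹ = a * v * a⁻¹ := by
        calc a * d * b * v * (a * d * b)⁻¹ = a * d * (b * v * b⁻¹) * (a * d)⁻¹ := by group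
          _ = a * (d * v * d⁻¹) * a⁻¹ := by rw [mem_cz_iff_conj.mp hb]; group
          _ = _ := by rw [← hd v hv, mul_inv_cancel_right]
      rw [e]
      exact hWcomm a ha v hv
    intro v hv
    by_cases hvc : ∀ u ∈ (P : Subgroup G), u * v = v * u
    · obtain ⟨v₁, hv₁, hv₁y⟩ := hyZ
      have hn1 : ¬ ∀ u ∈ (P : Subgroup G), u * v₁ = v₁ * u := fun hh => hv₁y (hh y' hy'P).symm
      have hn2 : ¬ ∀ u ∈ (P : Subgroup G), u * (v * v₁) = v * v₁ * u := fun hh => hv₁y (by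
        have h1 : Commute y' (v * v₁) := hh y' hy'P
        have h2 : Commute y' v := hvc y' hy'P
        have h3 := h2.inv_right.mul_right h1
        rw [inv_mul_cancel_left] at h3
        exact h3.symm)
      have h1 := hbig v₁ hv₁ hn1
      have h2 := hbig _ (mul_mem hv hv₁) hn2
      have hhv : h * v * h⁻¹ ∈ (P : Subgroup G) := (mem_normalizer_iff.mp (hPn h) v).mp hv
      have h3 := hWn _ hhv _ h1
      have h4 := mul_mem (inv_mem h3) h2
      have e : (h * v * h⁻¹ * (h * v₁ * h⁻¹ * v₁⁻¹) * (h * v * h⁻¹)⁻¹)⁻¹ *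
          (h * (v * v₁) * h⁻¹ * (v * v₁)⁻¹) = h * v * h⁻¹ * v⁻¹ := by group
      rwa [e] at h4
    · exact hbig v hv hvc
  have hcent : ∀ h : G, ¬ p ∣ orderOf h → h ∈ C := fun h hh => by
    refine CfsgLib.centralize_of_trivial_mod_frattini (A := zpowers h) (zpowers_le.mpr (hPn h)) ?_
      (fun a _ v hv => hfix a v hv) (mem_zpowers h)
    rw [Nat.card_zpowers]
    obtain ⟨k, hk⟩ := IsPGroup.iff_card.mp (P.2.to_subgroup (frattini (P : Subgroup G)))
    rw [hk]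
    exact Nat.Coprime.pow_right _ (hp.out.coprime_iff_not_dvd.mpr hh).symm
  have htop : cz z = ⊤ := by
    refine eq_top_iff.mpr fun g _ => ?_
    obtain ⟨u, w, huw, -, hu, hw, -, -⟩ := CfsgLib.Blocks.exists_pPart hp.out g
    rw [← huw]
    refine mul_mem (hPz ?_) (mem_cz.mpr ?_)
    · obtain ⟨k, hk⟩ := hu
      have hU : IsPGroup p (zpowers u) := IsPGroup.of_card (by rw [Nat.card_zpowers, hk])
      obtain ⟨Q, hQ⟩ := hU.exists_le_sylow
      rw [← huniq Q]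
      exact hQ (mem_zpowers u)
    · exact (hcent w hw z hzP).symm
  rw [cs, show centralizer ({z} : Set G) = ⊤ from htop, index_top] at hn
  omega

theorem goal (hZ : ¬ p ∣ Nat.card (center G)) (r s : ℕ)
    (hr : r.Prime ∧ ∃ x : G, p ∣ orderOf x ∧ r ∣ cs x) (hs : s.Prime ∧ ∃ x : G, p ∣ orderOf x ∧ s ∣ cs x) (hrs : r ≠ s) :
    (∃ x : G, p ∣ orderOf x ∧ r * s ∣ cs x) ∨ (∃ t : ℕ, (t.Prime ∧ ∃ x : G, p ∣ orderOf x ∧ t ∣ cs x) ∧ t ≠ r ∧ t ≠ s ∧
        (∃ x : G, p ∣ orderOf x ∧ r * t ∣ cs x) ∧ (∃ x : G, p ∣ orderOf x ∧ t * s ∣ cs x)) ∨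
      (∃ t u : ℕ, (t.Prime ∧ ∃ x : G, p ∣ orderOf x ∧ t ∣ cs x) ∧ (u.Prime ∧ ∃ x : G, p ∣ orderOf x ∧ u ∣ cs x) ∧
        t ≠ r ∧ u ≠ s ∧ t ≠ u ∧ (∃ x : G, p ∣ orderOf x ∧ r * t ∣ cs x) ∧ (∃ x : G, p ∣ orderOf x ∧ t * u ∣ cs x) ∧
        (∃ x : G, p ∣ orderOf x ∧ u * s ∣ cs x)) := by
  obtain ⟨hrp, x₁, hx₁, hrx⟩ := hr
  obtain ⟨hsp, x₂, hx₂, hsx⟩ := hs
  have hpow : ∀ x : G, p ∣ orderOf x → ∃ y : G, orderOf y = p ∧ cs y ∣ cs x ∧ 1 < cs y := by
    intro x hx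
    have hy : orderOf (x ^ (orderOf x / p)) = p := orderOf_pow_orderOf_div (orderOf_pos x).ne' hx
    refine ⟨_, hy, index_dvd_of_le fun g hg => mem_cz.mpr ((show Commute g x from mem_cz.mp hg).pow_right _).eq, ?_⟩
    have h1 : cs (x ^ (orderOf x / p)) ≠ 1 := fun e => hZ (hy ▸ Subgroup.orderOf_dvd_natCard _ (cs_one_iff.mp e))
    have := cs_pos (x ^ (orderOf x / p))
    omega
  obtain ⟨y₁, hy₁, hd₁, hm₁⟩ := hpow x₁ hx₁
  obtain ⟨y₂, hy₂, hd₂, hm₂⟩ := hpow x₂ hx₂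
  have hpair : ∀ a b : ℕ, ∀ x : G, a.Prime → b.Prime → a ≠ b → a ∣ cs x → b ∣ cs x → a * b ∣ cs x :=
    fun a b x ha hb hab hax hbx => ((Nat.coprime_primes ha hb).mpr hab).mul_dvd_of_dvd_of_dvd hax hbx
  obtain ⟨t, u, htp, hup, ht, hu, hlink⟩ : ∃ t u : ℕ, t.Prime ∧ u.Prime ∧ t ∣ cs y₁ ∧ u ∣ cs y₂ ∧
      (t = u ∨ ∃ x : G, p ∣ orderOf x ∧ t ∣ cs x ∧ u ∣ cs x) := by
    by_contra hcon
    have hco : (cs y₁).Coprime (cs y₂) := Nat.coprime_of_dvd fun k hk h1 h2 => hcon ⟨k, k, hk, hk, h1, h2, Or.inl rfl⟩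
    have hNE : ∀ x : G, p ∣ orderOf x → (cs x).Coprime (cs y₁) ∨ (cs x).Coprime (cs y₂) := by
      intro x hx
      by_contra h
      push Not at h
      obtain ⟨t, ht, htx, ht1⟩ := Nat.Prime.not_coprime_iff_dvd.mp h.1
      obtain ⟨u, hu, hux, hu2⟩ := Nat.Prime.not_coprime_iff_dvd.mp h.2
      exact hcon ⟨t, u, ht, hu, ht1, hu2, Or.inr ⟨x, hx, htx, hux⟩⟩
    by_cases hp1 : p ∣ cs y₁
    · have hp2 : ¬ p ∣ cs y₂ := fun h => hp.out.not_dvd_one (hco ▸ Nat.dvd_gcd hp1 h)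
      exact main y₂ y₁ hy₂ hy₁ hm₂ hm₁ hp2 hco.symm fun x hx => (hNE x hx).symm
    · exact main y₁ y₂ hy₁ hy₂ hm₁ hm₂ hp1 hco hNE
  have htx : t ∣ cs x₁ := ht.trans hd₁
  have hux : u ∣ cs x₂ := hu.trans hd₂
  by_cases hdir : ∃ x : G, p ∣ orderOf x ∧ r * s ∣ cs x
  · exact Or.inl hdir
  by_cases hts : t = s
  · exact absurd ⟨x₁, hx₁, hpair r s x₁ hrp hsp hrs hrx (hts ▸ htx)⟩ hdir
  by_cases hur : u = r
  · exact absurd ⟨x₂, hx₂, hpair r s x₂ hrp hsp hrs (hur ▸ hux) hsx⟩ hdir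
  rcases eq_or_ne t u with rfl | htu
  · exact Or.inr (Or.inl ⟨t, ⟨htp, x₁, hx₁, htx⟩, hur, hts,
      ⟨x₁, hx₁, hpair r t x₁ hrp htp (Ne.symm hur) hrx htx⟩, ⟨x₂, hx₂, hpair t s x₂ htp hsp hts hux hsx⟩⟩)
  obtain ⟨x, hx, hxt, hxu⟩ := hlink.resolve_left htu
  rcases eq_or_ne t r with rfl | htr
  · rcases eq_or_ne u s with rfl | hus
    · exact absurd ⟨x, hx, hpair t u x htp hup htu hxt hxu⟩ hdir
    · exact Or.inr (Or.inl ⟨u, ⟨hup, x₂, hx₂, hux⟩, hur, hus, ⟨x, hx, hpair t u x htp hup htu hxt hxu⟩,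
        ⟨x₂, hx₂, hpair u s x₂ hup hsp hus hux hsx⟩⟩)
  rcases eq_or_ne u s with rfl | hus
  · exact Or.inr (Or.inl ⟨t, ⟨htp, x₁, hx₁, htx⟩, htr, hts, ⟨x₁, hx₁, hpair r t x₁ hrp htp htr.symm hrx htx⟩,
      ⟨x, hx, hpair t u x htp hup htu hxt hxu⟩⟩)
  exact Or.inr (Or.inr ⟨t, u, ⟨htp, x₁, hx₁, htx⟩, ⟨hup, x₂, hx₂, hux⟩, htr, hus, htu,
    ⟨x₁, hx₁, hpair r t x₁ hrp htp htr.symm hrx htx⟩, ⟨x, hx, hpair t u x htp hup htu hxt hxu⟩,
    ⟨x₂, hx₂, hpair u s x₂ hup hsp hus hux hsx⟩⟩)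

end Aux

/-- Let `G` be a finite group and `p` a prime not dividing the order of the centre of `G`. Consider the primes dividing the size of some conjugacy class of a `p`-singular element (an element of order divisible by `p`), two of them adjacent when their product divides such a class size. Then any two distinct such primes are joined by a path with at most 3 edges (the graph is connected of diameter at most 3). -/
theorem result {G : Type*} [Group G] [Finite G] (p : ℕ) [Fact p.Prime]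
    (hZ : ¬ p ∣ Nat.card ↥(Subgroup.center G)) (r s : ℕ) (hr : (r.Prime ∧ ∃ x : G, p ∣ orderOf x ∧ r ∣ (Subgroup.centralizer ({x} : Set G)).index)) (hs : (s.Prime ∧ ∃ x : G, p ∣ orderOf x ∧ s ∣ (Subgroup.centralizer ({x} : Set G)).index)) (hrs : r ≠ s) :
    (∃ x : G, p ∣ orderOf x ∧ r * s ∣ (Subgroup.centralizer ({x} : Set G)).index) ∨ (∃ t : ℕ, (t.Prime ∧ ∃ x : G, p ∣ orderOf x ∧ t ∣ (Subgroup.centralizer ({x} : Set G)).index) ∧ t ≠ r ∧ t ≠ s ∧ (∃ x : G, p ∣ orderOf x ∧ r * t ∣ (Subgroup.centralizer ({x} : Set G)).index) ∧ (∃ x : G, p ∣ orderOf x ∧ t * s ∣ (Subgroup.centralizer ({x} : Set G)).index)) ∨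
      (∃ t u : ℕ, (t.Prime ∧ ∃ x : G, p ∣ orderOf x ∧ t ∣ (Subgroup.centralizer ({x} : Set G)).index) ∧ (u.Prime ∧ ∃ x : G, p ∣ orderOf x ∧ u ∣ (Subgroup.centralizer ({x} : Set G)).index) ∧ t ≠ r ∧ u ≠ s ∧ t ≠ u ∧ (∃ x : G, p ∣ orderOf x ∧ r * t ∣ (Subgroup.centralizer ({x} : Set G)).index) ∧ (∃ x : G, p ∣ orderOf x ∧ t * u ∣ (Subgroup.centralizer ({x} : Set G)).index) ∧ (∃ x : G, p ∣ orderOf x ∧ u * s ∣ (Subgroup.centralizer ({x} : Set G)).index)) := by
  exact Aux.goal hZ r s hr hs hrs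

end Cfsg.Agent.S4321
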