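import Cfsg.Statements.S4325
import Mathlib
-- import your own Cfsg.Agent.* helpers here

set_option autoImplicit false
open Cfsg

namespace Cfsg.Agent.S4325

/-- Let r be a prime and m a natural number with m + 1 < r, and let π be a set of primes containing every prime below r but not r itself. Then in the symmetric group of degree r any m transpositions generate a π-subgroup, while O_π of the symmetric group is trivial. (So no bound on the number of conjugates that works for all π exists in the π-radical analogue of the Baer–Suzuki Theorem.) -/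
theorem result (r m : ℕ) (hr : r.Prime)
    (hm : m + 1 < r) (π : Set ℕ) (hπ : ∀ q : ℕ, q.Prime → q < r → q ∈ π) (hrπ : r ∉ π)
    (t : Fin m → Equiv.Perm (Fin r)) (ht : ∀ i, (t i).IsSwap) :
    Cfsg.IsPiSubgroup π (Subgroup.closure (Set.range t)) ∧ Cfsg.piCore π (Equiv.Perm (Fin r)) = ⊥ := by
  classical
  have := Fact.mk hr
  have := hr.two_le
  have hrcard : ∀ q, q.Prime → q ∣ Nat.card (Equiv.Perm (Fin r)) → q ≤ r := by
    intro q hq hd
    rw [Nat.card_eq_fintype_card, Fintype.card_perm, Fintype.card_fin] at hd
    exact (Nat.Prime.dvd_factorial hq).mp hd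
  refine ⟨fun q hq hd => hπ q hq (lt_of_le_of_ne (hrcard q hq (hd.trans (Subgroup.card_subgroup_dvd_card _))) fun e => ?_), ?_⟩
  · subst e
    obtain ⟨g, hg⟩ := exists_prime_orderOf_dvd_card' q hd
    have hgo : orderOf (g : Equiv.Perm (Fin q)) = q := by rw [Subgroup.orderOf_coe, hg]
    have hcyc : (g : Equiv.Perm (Fin q)).IsCycle :=
      Equiv.Perm.isCycle_of_prime_order'' (by rwa [Fintype.card_fin]) (by rwa [Fintype.card_fin])
    have hsupp : (g : Equiv.Perm (Fin q)).support = Finset.univ := by
      rw [← Finset.card_eq_iff_eq_univ, ← hcyc.orderOf, hgo, Fintype.card_fin]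
    choose a b hab htab using ht
    -- functions compatible with all the transpositions
    let φ : Multiplicative (Fin q → ZMod 2) →* Multiplicative (Fin m → ZMod 2) := AddMonoidHom.toMultiplicative
      { toFun := fun f i => f (a i) - f (b i)
        map_zero' := funext fun i => by simp
        map_add' := fun f g => funext fun i => by simp [add_sub_add_comm] }
    have hker : ∀ f : Multiplicative (Fin q → ZMod 2), f ∈ φ.ker → ∀ x y, f.toAdd x = f.toAdd y := by
      intro f hf
      have hf' : ∀ i, f.toAdd (a i) = f.toAdd (b i) := fun i =>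
        sub_eq_zero.mp (congrFun (congrArg Multiplicative.toAdd (MonoidHom.mem_ker.mp hf)) i)
      have hinv : ∀ σ ∈ Subgroup.closure (Set.range t), ∀ x, f.toAdd (σ x) = f.toAdd x := by
        intro σ hσ
        induction hσ using Subgroup.closure_induction with
        | mem σ hσ =>
          obtain ⟨i, rfl⟩ := hσ
          intro x
          rw [htab i]
          by_cases h1 : x = a i
          · rw [h1, Equiv.swap_apply_left, hf']
          by_cases h2 : x = b i
          · rw [h2, Equiv.swap_apply_right, hf']
          rw [Equiv.swap_apply_of_ne_of_ne h1 h2]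
        | one => simp
        | mul σ τ _ _ h1 h2 => intro x; rw [Equiv.Perm.mul_apply, h1, h2]
        | inv σ _ h1 => intro x; rw [← h1 (σ⁻¹ x)]; simp
      intro x y
      obtain ⟨i, hi⟩ := hcyc.sameCycle (Equiv.Perm.mem_support.mp (hsupp ▸ Finset.mem_univ x))
        (Equiv.Perm.mem_support.mp (hsupp ▸ Finset.mem_univ y))
      rw [← hi]
      exact (hinv _ (Subgroup.zpow_mem _ g.2 i) x).symm
    have hk : Nat.card φ.ker ≤ 2 := by
      refine le_trans (Nat.card_le_card_of_injective (fun f : φ.ker => f.1.toAdd ⟨0, hq.pos⟩) fun f f' h => ?_)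
        (by simp)
      refine Subtype.ext (Multiplicative.toAdd.injective (funext fun x => ?_))
      rw [hker _ f.2 x ⟨0, hq.pos⟩, hker _ f'.2 x ⟨0, hq.pos⟩]
      exact h
    have hi : φ.ker.index ≤ 2 ^ m := by
      rw [Subgroup.index_ker]
      refine (Subgroup.card_le_card_group _).trans (le_of_eq ?_)
      rw [Nat.card_congr Multiplicative.toAdd, Nat.card_fun, Nat.card_zmod, Nat.card_fin]
    have h1 := φ.ker.card_mul_index
    rw [Nat.card_congr Multiplicative.toAdd, Nat.card_fun, Nat.card_zmod, Nat.card_fin] at h1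
    have h2 : 2 ^ q ≤ 2 ^ (m + 1) := by
      rw [← h1, pow_succ']
      exact Nat.mul_le_mul hk hi
    have := (Nat.pow_le_pow_iff_right (le_refl 2)).mp h2
    omega
  · -- a nontrivial normal subgroup has order divisible by r
    rw [piCore, sSup_eq_bot]
    rintro N ⟨hN, hNπ⟩
    by_contra hNb
    refine hrπ (hNπ r hr ?_)
    set a : Fin r := ⟨0, hr.pos⟩
    set S := MulAction.stabilizer (Equiv.Perm (Fin r)) a
    have hSi : S.index = r := by
      rw [MulAction.index_stabilizer_of_transitive, Nat.card_fin]
    have hdvd : (S ⊔ N).index ∣ r := (Subgroup.index_dvd_of_le (le_sup_left : S ≤ S ⊔ N)).trans hSi.dvd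
    rcases hr.eq_one_or_self_of_dvd _ hdvd with h | h
    · have htop : S ⊔ N = ⊤ := Subgroup.index_eq_one.mp h
      have a1 := Subgroup.relIndex_mul_relIndex (S ⊓ N) S (S ⊔ N) inf_le_left le_sup_left
      have a2 := Subgroup.relIndex_mul_relIndex (S ⊓ N) N (S ⊔ N) inf_le_right le_sup_right
      rw [Subgroup.inf_relIndex_left, htop, Subgroup.relIndex_top_right, hSi] at a1
      rw [Subgroup.inf_relIndex_right, Subgroup.relIndex_sup_right, htop, ← a1, mul_comm _ r] at a2
      have hnz : N.relIndex S ≠ 0 := Subgroup.index_ne_zero_of_finite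
      have hSN : S.relIndex N = r := Nat.eq_of_mul_eq_mul_right (Nat.pos_of_ne_zero hnz) a2
      have := (S.subgroupOf N).index_dvd_card
      rwa [show (S.subgroupOf N).index = r from hSN] at this
    · refine absurd ((Subgroup.eq_bot_iff_forall _).mpr fun x hx => ?_) hNb
      have hle : S ⊔ N = S := by
        refine (Subgroup.eq_of_le_of_card_ge le_sup_left (le_of_eq ?_)).symm
        have e1 := S.card_mul_index
        have e2 := (S ⊔ N).card_mul_index
        rw [hSi] at e1
        rw [h] at e2
        exact Nat.eq_of_mul_eq_mul_right hr.pos (e2.trans e1.symm)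
      refine Equiv.ext fun y => ?_
      obtain ⟨σ, hσ⟩ := MulAction.exists_smul_eq (Equiv.Perm (Fin r)) a y
      have h1 : σ⁻¹ * x * σ ∈ N := by
        have := hN.conj_mem x hx σ⁻¹
        rwa [inv_inv] at this
      have h2 : (σ⁻¹ * x * σ) • a = a := (hle ▸ Subgroup.mem_sup_right h1 : _ ∈ S)
      rw [mul_smul, mul_smul, hσ, inv_smul_eq_iff, hσ] at h2
      exact h2

end Cfsg.Agent.S4325
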