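import Cfsg.Statements.S4326
import Mathlib
-- import your own Cfsg.Agent.* helpers here

set_option autoImplicit false
open Pointwise
open Cfsg

namespace Cfsg.Agent.S4326

open scoped Pointwise

/-- Let G be a finite group, p a prime, x an automorphism of G of p-power order and M the subgroup of fixed points of x. Suppose that p divides the index of M and that either M is self-normalizing or M has trivial center. Then some conjugate of M is mapped onto itself by x but is not fixed elementwise by x. -/
theorem result {G : Type*} [Group G] [Finite G]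
    (p : ℕ) [Fact p.Prime] (x : MulAut G) (hx : ∃ k : ℕ, orderOf x = p ^ k) (M : Subgroup G)
    (hM : ∀ g : G, g ∈ M ↔ x g = g) (hp : p ∣ M.index)
    (hself : Subgroup.normalizer (M : Set G) = M ∨ Subgroup.center M = ⊥) :
    ∃ g : G, (∀ y ∈ MulAut.conj g • M, x y ∈ MulAut.conj g • M) ∧ ∃ y ∈ MulAut.conj g • M, x y ≠ y := by
  classical
  have hppg : IsPGroup p (Subgroup.zpowers x) := by
    obtain ⟨k, hk⟩ := hx
    exact IsPGroup.of_card (by rw [Nat.card_zpowers, hk])
  have hMinv : ∀ (s : Subgroup.zpowers x) (m : G), m ∈ M → (s : MulAut G) m = m := by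
    rintro ⟨s, hs⟩ m hm
    obtain ⟨i, rfl⟩ := Subgroup.mem_zpowers_iff.mp hs
    have : x ∈ MulAction.stabilizer (MulAut G) m := (hM m).mp hm
    exact (zpow_mem this i : x ^ i ∈ MulAction.stabilizer (MulAut G) m)
  let act : MulAction (Subgroup.zpowers x) (G ⧸ M) :=
    { smul := fun s => Quotient.map' (fun g => (s : MulAut G) g) (by
        intro a b h
        rw [QuotientGroup.leftRel_apply] at h ⊢
        have e : ((s : MulAut G) a)⁻¹ * (s : MulAut G) b = a⁻¹ * b := by
          rw [← map_inv, ← map_mul]; exact hMinv s _ h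
        rw [e]; exact h)
      one_smul := fun q => Quotient.inductionOn' q fun _ => rfl
      mul_smul := fun _ _ q => Quotient.inductionOn' q fun _ => rfl }
  have h1 : ((1 : G) : G ⧸ M) ∈ MulAction.fixedPoints (Subgroup.zpowers x) (G ⧸ M) := fun s => by
    show ((((s : MulAut G) 1 : G)) : G ⧸ M) = _
    rw [map_one]
  obtain ⟨q, hq, hne⟩ := hppg.exists_fixed_point_of_prime_dvd_card_of_fixed_point (G ⧸ M)
    (Subgroup.index_eq_card M ▸ hp) h1
  obtain ⟨g, rfl⟩ := QuotientGroup.mk_surjective q
  have hgM : g ∉ M := fun h => hne (QuotientGroup.eq.mpr (by simpa using h))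
  have hc : g⁻¹ * x g ∈ M := by
    have h := hq ⟨x, Subgroup.mem_zpowers x⟩
    exact QuotientGroup.eq.mp h.symm
  have hconj : ∀ y, y ∈ MulAut.conj g • M ↔ g⁻¹ * y * g ∈ M := fun y => by
    rw [Subgroup.mem_pointwise_smul_iff_inv_smul_mem, MulAut.smul_def, MulAut.inv_def, MulAut.conj_symm_apply]
  refine ⟨g, fun y hy => ?_, ?_⟩
  · rw [hconj] at hy ⊢
    have h := (hM _).mp hy
    rw [map_mul, map_mul, map_inv] at h
    have e : g⁻¹ * x y * g = (g⁻¹ * x g) * (g⁻¹ * y * g) * (g⁻¹ * x g)⁻¹ := by
      rw [← h]; group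
    rw [e]; exact mul_mem (mul_mem hc hy) (inv_mem hc)
  · by_contra hall
    push Not at hall
    rcases hself with hs | hz
    · apply hgM
      rw [← hs]
      have hle : ∀ m ∈ M, g * m * g⁻¹ ∈ M := fun m hm => (hM _).mpr (hall _ ((hconj _).mpr (by simpa [mul_assoc] using hm)))
      have heq : M.map (MulAut.conj g).toMonoidHom = M := Subgroup.eq_of_le_of_card_ge
        (by rintro _ ⟨m, hm, rfl⟩; exact hle m hm)
        (Subgroup.card_map_of_injective (MulAut.conj g).injective).ge
      rw [Subgroup.mem_normalizer_iff]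
      refine fun m => ⟨hle m, fun h => ?_⟩
      rw [← heq, Subgroup.mem_map_equiv, MulAut.conj_symm_apply] at h
      simpa [mul_assoc] using h
    · apply hgM
      rw [hM]
      have : (⟨g⁻¹ * x g, hc⟩ : M) ∈ Subgroup.center M := by
        rw [Subgroup.mem_center_iff]
        intro m
        apply Subtype.ext
        have h1 := hall (g * m * g⁻¹) ((hconj _).mpr (by simp [mul_assoc]))
        rw [map_mul, map_mul, map_inv, (hM m).mp m.2] at h1
        show (m : G) * (g⁻¹ * x g) = g⁻¹ * x g * m
        calc (m : G) * (g⁻¹ * x g) = g⁻¹ * (g * m * g⁻¹) * x g := by group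
          _ = g⁻¹ * (x g * m * (x g)⁻¹) * x g := by rw [h1]
          _ = g⁻¹ * x g * m := by group
      rw [hz, Subgroup.mem_bot] at this
      have := congrArg Subtype.val this
      exact (inv_mul_eq_one.mp this).symm

end Cfsg.Agent.S4326
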