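import Cfsg.Statements.S4330
import Mathlib
import Cfsg.Agent.Lib.PGroup.AvoidFixed
import Cfsg.Agent.Lib.Components
-- import your own Cfsg.Agent.* helpers here

set_option autoImplicit false
open Pointwise
open Cfsg

namespace Cfsg.Agent.S4330

universe u

open scoped Pointwise commutatorElement

theorem key : ∀ n : ℕ, ∀ (G : Type u) [Group G] [Finite G], Nat.card G ≤ n → Group.IsSolvable G →
    ∀ (p : ℕ) [Fact p.Prime], p ≠ 2 → ∀ A : Subgroup G, IsPGroup p A →
      (∀ c : G, ∃ g : G, IsConj c g ∧ (A.subgroupOf (A ⊔ MulAut.conj g • A)).IsSubnormal) →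
      A ≤ Cfsg.pCore p G := by
  intro n
  induction n with
  | zero =>
    intro G _ _ hn
    exact absurd hn (Nat.not_le.mpr Nat.card_pos)
  | succ n ih =>
    intro G _ _ hn hG p _ hp2 A hA h
    classical
    have hp := (Fact.out : p.Prime)
    haveI := hG
    by_cases hA1 : A = ⊥
    · rw [hA1]; exact bot_le
    -- a nontrivial normal abelian subgroup, a `p`-group or of order prime to `p`
    obtain ⟨V, hVn, hVab, hVne, hVp⟩ : ∃ V : Subgroup G, V.Normal ∧ (∀ x ∈ V, ∀ y ∈ V, Commute x y) ∧ V ≠ ⊥ ∧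
        (IsPGroup p V ∨ ¬ p ∣ Nat.card V) := by
      obtain ⟨m, hm⟩ := Group.IsSolvable.solvable (G := G)
      have hex : ∃ i, derivedSeries G i = ⊥ := ⟨m, hm⟩
      have h0 : Nat.find hex ≠ 0 := by
        intro h0
        have := Nat.find_spec hex
        rw [h0, derivedSeries_zero] at this
        exact hA1 (eq_bot_iff.mpr (this ▸ le_top))
      obtain ⟨i, hi⟩ := Nat.exists_eq_succ_of_ne_zero h0
      have hne : derivedSeries G i ≠ ⊥ := Nat.find_min hex (by omega)
      have hb : derivedSeries G (i + 1) = ⊥ := by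
        have := Nat.find_spec hex
        rwa [hi] at this
      set D := derivedSeries G i with hD
      have hab : ∀ x ∈ D, ∀ y ∈ D, Commute x y := fun x hx y hy => by
        refine commutatorElement_eq_one_iff_commute.mp ?_
        have h1 : ⁅x, y⁆ ∈ derivedSeries G (i + 1) := by
          rw [derivedSeries_succ]
          exact Subgroup.commutator_mem_commutator hx hy
        rwa [hb, Subgroup.mem_bot] at h1
      by_cases hpD : p ∣ Nat.card D
      · let S : Subgroup G :=
          { carrier := {x | x ∈ D ∧ ∃ k : ℕ, x ^ p ^ k = 1}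
            one_mem' := ⟨one_mem D, 0, one_pow _⟩
            mul_mem' := fun {x y} hx hy => by
              obtain ⟨⟨hx1, a, ha⟩, hy1, b, hb⟩ := hx, hy
              refine ⟨mul_mem hx1 hy1, a + b, ?_⟩
              rw [(hab x hx1 y hy1).mul_pow, pow_add, pow_mul, ha, one_pow, one_mul, mul_comm, pow_mul, hb, one_pow]
            inv_mem' := fun {x} hx => ⟨inv_mem hx.1, hx.2.imp fun k hk => by rw [inv_pow, hk, inv_one]⟩ }
        refine ⟨S, ⟨fun x hx g => ⟨(derivedSeries_normal G i).conj_mem x hx.1 g, hx.2.imp fun k hk => ?_⟩⟩,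
          fun x hx y hy => hab x hx.1 y hy.1, fun hS => ?_, Or.inl fun x => ?_⟩
        · rw [conj_pow, hk, mul_one, mul_inv_cancel]
        · obtain ⟨x, hx⟩ := exists_prime_orderOf_dvd_card' p hpD
          have hxS : (x : G) ∈ S := ⟨x.2, 1, by
            rw [pow_one, ← Subgroup.coe_pow, ← hx, pow_orderOf_eq_one, OneMemClass.coe_one]⟩
          rw [hS, Subgroup.mem_bot, OneMemClass.coe_eq_one] at hxS
          rw [hxS, orderOf_one] at hx
          exact hp.ne_one hx.symm
        · obtain ⟨-, k, hk⟩ := x.2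
          exact ⟨k, Subtype.ext hk⟩
      · exact ⟨D, derivedSeries_normal G i, hab, hne, Or.inr hpD⟩
    haveI := hVn
    set π := QuotientGroup.mk' V with hπ
    have hπs : Function.Surjective π := QuotientGroup.mk'_surjective V
    -- the quotient
    have hcard : Nat.card (G ⧸ V) ≤ n := by
      have h1 := Subgroup.card_eq_card_quotient_mul_card_subgroup V
      have h2 : 1 < Nat.card V := Subgroup.one_lt_card_iff_ne_bot V |>.mpr hVne
      have h3 : 0 < Nat.card (G ⧸ V) := Nat.card_pos
      nlinarith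
    have hquot : A.map π ≤ Cfsg.pCore p (G ⧸ V) := by
      refine ih (G ⧸ V) hcard inferInstance p hp2 _ (hA.map π) fun c => ?_
      obtain ⟨c, rfl⟩ := hπs c
      obtain ⟨g, hcg, hsn⟩ := h c
      refine ⟨π g, π.map_isConj hcg, ?_⟩
      set K := A ⊔ MulAut.conj g • A with hK
      have hKmap : K.map π = A.map π ⊔ MulAut.conj (π g) • A.map π := by
        rw [hK, Subgroup.map_sup]
        congr 1
        ext x
        simp only [Subgroup.mem_map, Subgroup.mem_smul_pointwise_iff_exists, MulAut.smul_def, MulAut.conj_apply]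
        constructor
        · rintro ⟨_, ⟨a, ha, rfl⟩, rfl⟩
          exact ⟨π a, ⟨a, ha, rfl⟩, by simp⟩
        · rintro ⟨_, ⟨a, ha, rfl⟩, rfl⟩
          exact ⟨g * a * g⁻¹, ⟨a, ha, rfl⟩, by simp⟩
      rw [← hKmap]
      let f : K →* K.map π := π.subgroupMap K
      have hf : Function.Surjective f := π.subgroupMap_surjective K
      have e : (A.subgroupOf K).map f = (A.map π).subgroupOf (K.map π) := by
        ext x
        simp only [Subgroup.mem_map, Subgroup.mem_subgroupOf]
        constructor
        · rintro ⟨a, ha, rfl⟩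
          exact ⟨a, ha, rfl⟩
        · rintro ⟨a, ha, hax⟩
          exact ⟨⟨a, Subgroup.mem_sup_left ha⟩, ha, Subtype.ext hax⟩
      exact e ▸ hsn.map hf
    rcases hVp with hVp | hVp
    · -- pull back
      set Q := Cfsg.pCore p (G ⧸ V)
      haveI : (Q.comap π).Normal := (show (Cfsg.pCore p (G ⧸ V)).Normal from inferInstance).comap π
      refine le_trans ?_ (CfsgLib.le_pCore (N := Q.comap π) ?_)
      · exact Subgroup.map_le_iff_le_comap.mp hquot
      · exact (CfsgLib.isPGroup_pCore p).comap_of_ker_isPGroup π (by rw [hπ, QuotientGroup.ker_mk']; exact hVp)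
    -- the coprime case
    set D := (Cfsg.pCore p (G ⧸ V)).comap π with hD
    haveI hDn : D.Normal := (show (Cfsg.pCore p (G ⧸ V)).Normal from inferInstance).comap π
    have hAD : A ≤ D := Subgroup.map_le_iff_le_comap.mp hquot
    obtain ⟨P₀, hP₀⟩ := (hA.comap_subtype (K := D)).exists_le_sylow
    set P := (P₀ : Subgroup D).map D.subtype with hPdef
    have hPp : IsPGroup p P := P₀.2.map _
    have hAP : A ≤ P := fun a ha => ⟨⟨a, hAD ha⟩, hP₀ ha, rfl⟩
    have hfra : Subgroup.normalizer (P : Set G) ⊔ D = ⊤ := Sylow.normalizer_sup_eq_top P₀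
    have hDVP : D ≤ V ⊔ P := by
      intro d hd
      have hidx : (P₀ : Subgroup D).map (π.subgroupMap D) = ⊤ := by
        have hs := π.subgroupMap_surjective D
        have hpg : IsPGroup p (D.map π) := (CfsgLib.isPGroup_pCore p).to_le (Subgroup.map_comap_le _ _)
        have h1 : ¬ p ∣ ((P₀ : Subgroup D).map (π.subgroupMap D)).index := fun hd' =>
          P₀.not_dvd_index (hd'.trans (Subgroup.index_map_dvd (P₀ : Subgroup D) hs))
        obtain ⟨k, hk⟩ := hpg.index ((P₀ : Subgroup D).map (π.subgroupMap D))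
        rcases Nat.eq_zero_or_pos k with rfl | hk0
        · exact Subgroup.index_eq_one.mp (by rw [hk, pow_zero])
        · exact absurd (hk ▸ dvd_pow_self p hk0.ne') h1
      obtain ⟨y, hy, hyd⟩ : π.subgroupMap D ⟨d, hd⟩ ∈ (P₀ : Subgroup D).map (π.subgroupMap D) :=
        hidx ▸ Subgroup.mem_top _
      have hyd' : π (y : G) = π d := congrArg Subtype.val hyd
      have hv : d * (y : G)⁻¹ ∈ V := by
        rw [← QuotientGroup.eq_one_iff]
        show π (d * (y : G)⁻¹) = 1
        rw [map_mul, map_inv, hyd', mul_inv_cancel]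
      have := mul_mem (Subgroup.mem_sup_left hv : d * (y : G)⁻¹ ∈ V ⊔ P)
        (Subgroup.mem_sup_right ⟨y, hy, rfl⟩ : D.subtype y ∈ V ⊔ P)
      simpa using this
    have hdec : ∀ g : G, ∃ m ∈ Subgroup.normalizer (P : Set G), ∃ v ∈ V, g = m * v := by
      intro g
      have hsup : Subgroup.normalizer (P : Set G) ⊔ V = ⊤ := by
        refine top_le_iff.mp ?_
        rw [← hfra]
        exact sup_le le_sup_left (hDVP.trans (sup_le le_sup_right (Subgroup.le_normalizer.trans le_sup_left)))
      obtain ⟨m, hm, v, hv, hmv⟩ := Subgroup.mem_sup_of_normal_right.mp (hsup ▸ Subgroup.mem_top g)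
      exact ⟨m, hm, v, hv, hmv.symm⟩
    by_cases hcen : ∀ x ∈ A, ∀ v ∈ V, Commute x v
    · -- the centraliser of `V` in `P`
      let C : Subgroup G := P ⊓ Subgroup.centralizer (V : Set G)
      have hCn : C.Normal := by
        refine ⟨fun x hx g => ?_⟩
        obtain ⟨m, hm, v, hv, rfl⟩ := hdec g
        have h1 : v * x * v⁻¹ = x := by
          rw [Subgroup.mem_centralizer_iff.mp hx.2 v hv, mul_inv_cancel_right]
        rw [show m * v * x * (m * v)⁻¹ = m * (v * x * v⁻¹) * m⁻¹ by group, h1]
        refine ⟨(Subgroup.mem_normalizer_iff.mp hm x).mp hx.1, Subgroup.mem_centralizer_iff.mpr fun w hw => ?_⟩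
        have h2 : m⁻¹ * w * m ∈ V := by simpa using hVn.conj_mem w hw m⁻¹
        have h3 := (show Commute (m⁻¹ * w * m) x from Subgroup.mem_centralizer_iff.mp hx.2 _ h2).map
          (MulAut.conj m).toMonoidHom
        simpa [MulAut.conj_apply, mul_assoc] using h3.eq
      haveI := hCn
      exact le_trans (fun a ha => Subgroup.mem_inf.mpr ⟨hAP ha, Subgroup.mem_centralizer_iff.mpr fun v hv => (hcen a ha v hv).eq.symm⟩)
        (CfsgLib.le_pCore (N := C) (hPp.to_le inf_le_left))
    exfalso
    push Not at hcen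
    obtain ⟨x, hx, v₀, hv₀, hxv⟩ := hcen
    -- a power acting with order `p`
    obtain ⟨a, haA, hmoves, hap⟩ : ∃ a ∈ A, (∃ v ∈ V, ¬ Commute a v) ∧ ∀ v ∈ V, Commute (a ^ p) v := by
      obtain ⟨k₀, hk₀⟩ := hA ⟨x, hx⟩
      have hx0 : x ^ p ^ k₀ = 1 := congrArg Subtype.val hk₀
      have hex : ∃ k, ∀ v ∈ V, Commute (x ^ p ^ k) v := ⟨k₀, fun v _ => by rw [hx0]; exact Commute.one_left v⟩
      have h0 : Nat.find hex ≠ 0 := by
        intro h0
        have := Nat.find_spec hex v₀ hv₀
        rw [h0, pow_zero, pow_one] at this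
        exact hxv this
      obtain ⟨k, hk⟩ := Nat.exists_eq_succ_of_ne_zero h0
      refine ⟨x ^ p ^ k, pow_mem hx _, ?_, fun v hv => ?_⟩
      · have := Nat.find_min hex (show k < Nat.find hex by omega)
        push Not at this
        exact this
      · have := Nat.find_spec hex v hv
        rwa [hk, pow_succ, pow_mul] at this
    letI : CommGroup V := { (inferInstance : Group V) with mul_comm := fun u w => Subtype.ext (hVab u u.2 w w.2) }
    let N := Subgroup.normalizer (P : Set G)
    let act : N → V →* V := fun m =>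
      MonoidHom.mk' (fun w => ⟨(m : G) * w * (m : G)⁻¹, hVn.conj_mem w w.2 m⟩) fun u w => Subtype.ext (by
        simp [mul_assoc])
    letI : DistribMulAction N (Additive V) :=
      { smul := fun m w => Additive.ofMul (act m w.toMul)
        one_smul := fun w => congrArg Additive.ofMul (Subtype.ext (by simp [act] : ((act 1 w.toMul : V) : G) = w.toMul))
        mul_smul := fun m m' w => congrArg Additive.ofMul (Subtype.ext (by
          simp [act, mul_assoc] : ((act (m * m') w.toMul : V) : G) = ((act m (act m' w.toMul) : V) : G)))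
        smul_zero := fun m => congrArg Additive.ofMul (map_one (act m))
        smul_add := fun m u w => congrArg Additive.ofMul (map_mul (act m) u.toMul w.toMul) }
    have hsmul : ∀ (m : N) (w : Additive V), (((m • w).toMul : V) : G) = (m : G) * (w.toMul : G) * (m : G)⁻¹ :=
      fun _ _ => rfl
    have hfixiff : ∀ (m : N) (w : Additive V), m • w = w ↔ Commute (m : G) (w.toMul : G) := fun m w => by
      refine ⟨fun e => ?_, fun e => Additive.toMul.injective (Subtype.ext (by rw [hsmul, e.eq, mul_inv_cancel_right]))⟩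
      have e' := congrArg (fun t : Additive V => ((t.toMul : V) : G)) e
      rw [hsmul, mul_inv_eq_iff_eq_mul] at e'
      exact e'
    have hPN : P ≤ N := Subgroup.le_normalizer
    haveI hPn : (P.subgroupOf N).Normal := Subgroup.normal_subgroupOf_iff_le_normalizer hPN |>.mpr le_rfl
    obtain ⟨w, hw⟩ := CfsgLib.Avoid.stmt (p := p) hp2 (Nat.card (Additive V)) (Additive V) le_rfl
      (fun hd => hVp (by rwa [Nat.card_congr Additive.toMul] at hd)) N (P.subgroupOf N) hPn
      (IsPGroup.comap_subtype hPp) ⟨a, hPN (hAP haA)⟩ (Subgroup.mem_subgroupOf.mpr (hAP haA))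
      (fun w => (hfixiff _ w).mpr (hap _ w.toMul.2))
      (by
        obtain ⟨v, hv, hav⟩ := hmoves
        exact ⟨Additive.ofMul ⟨v, hv⟩, fun e => hav ((hfixiff _ _).mp e)⟩)
    obtain ⟨g, hcg, hsn⟩ := h (w.toMul : G)
    obtain ⟨y, hy⟩ := isConj_iff.mp hcg
    obtain ⟨m, hm, v, hv, rfl⟩ := hdec y
    have hgm : g = m * (w.toMul : G) * m⁻¹ := by
      rw [← hy, show m * v * (w.toMul : G) * (m * v)⁻¹ = m * (v * (w.toMul : G) * v⁻¹) * m⁻¹ by group,
        (hVab v hv _ w.toMul.2).eq, mul_inv_cancel_right]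
    have hgV : g ∈ V := hgm ▸ hVn.conj_mem _ w.toMul.2 m
    set K := A ⊔ MulAut.conj g • A with hK
    have hKAV : K ≤ A ⊔ V := by
      refine sup_le le_sup_left ?_
      intro t ht
      rw [Subgroup.mem_smul_pointwise_iff_exists] at ht
      obtain ⟨b, hb, rfl⟩ := ht
      rw [MulAut.smul_def, MulAut.conj_apply]
      exact mul_mem (mul_mem (Subgroup.mem_sup_right hgV) (Subgroup.mem_sup_left hb))
        (inv_mem (Subgroup.mem_sup_right hgV))
    have hAK : A ≤ K := le_sup_left
    set Q := (Cfsg.pCore p K).map K.subtype with hQ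
    have hQp : IsPGroup p Q := (CfsgLib.isPGroup_pCore p).map _
    have hAQ : A ≤ Q := fun t ht => ⟨⟨t, hAK ht⟩,
      CfsgLib.isSubnormal_isPGroup_le_pCore hsn (IsPGroup.comap_subtype hA) ht, rfl⟩
    have htriv : ∀ t ∈ V, ∀ H : Subgroup G, IsPGroup p H → t ∈ H → t = 1 := by
      intro t ht H hH htH
      obtain ⟨k, hk⟩ := hH ⟨t, htH⟩
      have hk' : t ^ p ^ k = 1 := congrArg Subtype.val hk
      exact orderOf_eq_one_iff.mp (Nat.eq_one_of_dvd_coprimes
        ((hp.coprime_iff_not_dvd.mpr hVp).pow_left k) (orderOf_dvd_of_pow_eq_one hk')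
        (Subgroup.orderOf_dvd_natCard V ht))
    have hQA : Q = A := by
      refine le_antisymm (fun t ht => ?_) hAQ
      have htK : t ∈ K := by
        obtain ⟨t', -, rfl⟩ := ht
        exact t'.2
      obtain ⟨b, hb, u, hu, rfl⟩ := Subgroup.mem_sup_of_normal_right.mp (hKAV htK)
      have huQ : u ∈ Q := by
        have := mul_mem (inv_mem (hAQ hb)) ht
        rwa [inv_mul_cancel_left] at this
      rwa [htriv u hu Q hQp huQ, mul_one]
    set a' := g * a * g⁻¹ with ha'
    have ha'K : a' ∈ K := Subgroup.mem_sup_right (Subgroup.mem_smul_pointwise_iff_exists _ _ _ |>.mpr ⟨a, haA, rfl⟩)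
    set δ := a⁻¹ * a' with hδ
    have hδV : δ ∈ V := by
      rw [hδ, ha', show a⁻¹ * (g * a * g⁻¹) = a⁻¹ * g * a⁻¹⁻¹ * g⁻¹ by group]
      exact mul_mem (hVn.conj_mem g hgV a⁻¹) (inv_mem hgV)
    have hnorm : ∀ b ∈ A, δ * b * δ⁻¹ ∈ A := by
      intro b hb
      have hδK : δ ∈ K := mul_mem (inv_mem (hAK haA)) ha'K
      rw [← hQA] at hb ⊢
      obtain ⟨b', hb', rfl⟩ := hb
      exact ⟨⟨δ, hδK⟩ * b' * ⟨δ, hδK⟩⁻¹, (show (Cfsg.pCore p K).Normal from inferInstance).conj_mem b' hb' _, rfl⟩
    have hδa : Commute δ a := by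
      refine commutatorElement_eq_one_iff_commute.mp (htriv _ ?_ A hA ?_)
      · rw [commutatorElement_def, mul_assoc, mul_assoc]
        exact mul_mem hδV (by rw [← mul_assoc]; exact hVn.conj_mem _ (inv_mem hδV) a)
      · exact mul_mem (hnorm a haA) (inv_mem haA)
    have hδ1 : δ = 1 := by
      refine orderOf_eq_one_iff.mp (Nat.eq_one_of_dvd_coprimes ?_ (Subgroup.orderOf_dvd_natCard V hδV)
        (orderOf_dvd_of_pow_eq_one (n := orderOf a) ?_))
      · obtain ⟨k, hk⟩ := hA ⟨a, haA⟩
        have hk' : a ^ p ^ k = 1 := congrArg Subtype.val hk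
        exact (((hp.coprime_iff_not_dvd.mpr hVp).pow_left k).symm).coprime_dvd_right (orderOf_dvd_of_pow_eq_one hk')
      · have h1 : a' = a * δ := by rw [hδ]; group
        have h2 : a' ^ orderOf a = 1 := by rw [ha', conj_pow, pow_orderOf_eq_one, mul_one, mul_inv_cancel]
        rwa [h1, hδa.symm.mul_pow, pow_orderOf_eq_one, one_mul] at h2
    have hag : Commute a g := by
      have e : a' = a := by
        rw [hδ, inv_mul_eq_one] at hδ1
        exact hδ1.symm
      rw [ha', mul_inv_eq_iff_eq_mul] at e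
      exact (show Commute g a from e).symm
    refine hw (⟨m, hm⟩⁻¹) ((hfixiff _ _).mpr ?_)
    show Commute (m⁻¹ * a * m⁻¹⁻¹) (w.toMul : G)
    have h2 := hag.map (MulAut.conj m⁻¹).toMonoidHom
    rw [hgm] at h2
    simpa [MulAut.conj_apply, mul_assoc] using h2

/-- Let G be a finite solvable group, p an odd prime and A a p-subgroup of G such that every conjugacy class of G contains an element g for which A is subnormal in the subgroup generated by A and its conjugate by g. Then A is contained in O_p(G). (The hypothesis that p is odd is needed.) -/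
theorem result {G : Type*} [Group G] [Finite G]
    (hG : Group.IsSolvable G) (p : ℕ) [Fact p.Prime] (hp : p ≠ 2) (A : Subgroup G) (hA : IsPGroup p A)
    (h : ∀ c : G, ∃ g : G, IsConj c g ∧ (A.subgroupOf (A ⊔ MulAut.conj g • A)).IsSubnormal) :
    A ≤ Cfsg.pCore p G := by
  exact key (Nat.card G) G le_rfl hG p hp A hA h

end Cfsg.Agent.S4330
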