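import Cfsg.Statements.S4331
import Mathlib
import Cfsg.Agent.Lib.Subnormal
import Cfsg.Agent.Lib.Basic
-- import your own Cfsg.Agent.* helpers here

set_option autoImplicit false
open Cfsg

namespace Cfsg.Agent.S4331

open Subgroup CfsgLib
open scoped commutatorElement

/-- The plane over the field with three elements. -/
abbrev V := ZMod 3 × ZMod 3

/-- Multiplication of the field with nine elements. -/
def cmul (z w : V) : V := (z.1 * w.1 - z.2 * w.2, z.1 * w.2 + z.2 * w.1)

/-- The field automorphism. -/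
def sig (e : Bool) (v : V) : V := if e then (v.1, -v.2) else v

/-- The inverse in the field. -/
def cinv (z : V) : V := cmul (z.1 ^ 2 + z.2 ^ 2, 0) (z.1, -z.2)

theorem cmul_ne : ∀ z w : V, z ≠ 0 → w ≠ 0 → cmul z w ≠ 0 := by decide
theorem sig_ne : ∀ (e : Bool) (z : V), z ≠ 0 → sig e z ≠ 0 := by decide
theorem cinv_ne : ∀ z : V, z ≠ 0 → cinv z ≠ 0 := by decide
theorem cinv_mul : ∀ z : V, z ≠ 0 → cmul (cinv z) z = (1, 0) := by decide

/-- The group of semilinear affine maps. -/
@[ext]
structure E where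
  w : V
  z : V
  e : Bool
  hz : z ≠ 0

instance : Mul E := ⟨fun g h =>
  ⟨g.w + cmul g.z (sig g.e h.w), cmul g.z (sig g.e h.z), xor g.e h.e, cmul_ne _ _ g.hz (sig_ne _ _ h.hz)⟩⟩
instance : One E := ⟨⟨0, (1, 0), false, by decide⟩⟩
instance : Inv E := ⟨fun g =>
  ⟨-sig g.e (cmul (cinv g.z) g.w), sig g.e (cinv g.z), g.e, sig_ne _ _ (cinv_ne _ g.hz)⟩⟩

theorem mul_w (g h : E) : (g * h).w = g.w + cmul g.z (sig g.e h.w) := rfl
theorem mul_z (g h : E) : (g * h).z = cmul g.z (sig g.e h.z) := rfl
theorem mul_e (g h : E) : (g * h).e = xor g.e h.e := rfl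
theorem one_w : (1 : E).w = 0 := rfl
theorem one_z : (1 : E).z = (1, 0) := rfl
theorem one_e : (1 : E).e = false := rfl
theorem inv_w (g : E) : g⁻¹.w = -sig g.e (cmul (cinv g.z) g.w) := rfl
theorem inv_z (g : E) : g⁻¹.z = sig g.e (cinv g.z) := rfl
theorem inv_e (g : E) : g⁻¹.e = g.e := rfl

theorem sig_sig : ∀ (e : Bool) (v : V), sig e (sig e v) = v := by decide
theorem sig_neg : ∀ (e : Bool) (v : V), sig e (-v) = -sig e v := by decide
theorem cmul_one : ∀ v : V, cmul (1, 0) v = v := by decide

instance : Group E := Group.ofLeftAxioms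
  (fun a b c => by
    ext1
    · simp only [mul_w, mul_z, mul_e]
      cases a.e <;> cases b.e <;>
        simp only [sig, cmul, Bool.xor_false, Bool.xor_true, Bool.false_xor, Bool.true_xor, Bool.not_true,
          Bool.not_false, if_true, if_false, Bool.false_eq_true, ↓reduceIte, Prod.fst_add, Prod.snd_add] <;>
        ext <;> simp only [Prod.fst_add, Prod.snd_add] <;> ring
    · simp only [mul_z, mul_e]
      cases a.e <;> cases b.e <;>
        simp only [sig, cmul, Bool.xor_false, Bool.xor_true, Bool.false_xor, Bool.true_xor, Bool.not_true,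
          Bool.not_false, if_true, if_false, Bool.false_eq_true, ↓reduceIte] <;>
        ext <;> simp only <;> ring
    · simp only [mul_e, Bool.xor_assoc])
  (fun a => by
    ext1
    · rw [mul_w, one_w, one_z, one_e, zero_add, cmul_one]; rfl
    · rw [mul_z, one_z, one_e, cmul_one]; rfl
    · rw [mul_e, one_e, Bool.false_xor])
  (fun a => by
    have h : ∀ (e : Bool) (z w : V), z ≠ 0 →
        -sig e (cmul (cinv z) w) + cmul (sig e (cinv z)) (sig e w) = 0 ∧ cmul (sig e (cinv z)) (sig e z) = (1, 0) := by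
      decide
    ext1
    · rw [mul_w, inv_w, inv_z, inv_e, one_w]; exact (h a.e a.z a.w a.hz).1
    · rw [mul_z, inv_z, inv_e, one_z]; exact (h a.e a.z a.w a.hz).2
    · rw [mul_e, inv_e, one_e, Bool.xor_self])

instance : Finite E := Finite.of_injective (fun g : E => (g.w, g.z, g.e)) (fun a b h => by
  simp only [Prod.mk.injEq] at h
  exact E.ext h.1 h.2.1 h.2.2)

theorem solvable : Group.IsSolvable E := by
  let H1 : Subgroup E :=
    { carrier := {g | g.e = false}
      one_mem' := rfl
      mul_mem' := fun {a b} ha hb => by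
        show (a * b).e = false
        rw [mul_e, show a.e = false from ha, show b.e = false from hb]; rfl
      inv_mem' := fun {a} ha => ha }
  let H2 : Subgroup E :=
    { carrier := {g | g.e = false ∧ g.z = (1, 0)}
      one_mem' := ⟨rfl, rfl⟩
      mul_mem' := fun {a b} ha hb => by
        refine ⟨?_, ?_⟩
        · rw [mul_e, ha.1, hb.1]; rfl
        · rw [mul_z, ha.1, ha.2, hb.2]; decide
      inv_mem' := fun {a} ha => by
        refine ⟨ha.1, ?_⟩
        rw [inv_z, ha.1, ha.2]; decide }
  have hz : ∀ a b : V, a ≠ 0 → b ≠ 0 → cmul (cmul (cmul a b) (cinv a)) (cinv b) = (1, 0) := by decide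
  refine ⟨⟨3, ?_⟩⟩
  have d1 : derivedSeries E 1 ≤ H1 := by
    rw [derivedSeries_succ, Subgroup.commutator_le]
    intro a _ b _
    show (⁅a, b⁆).e = false
    rw [commutatorElement_def]
    simp only [mul_e, inv_e]
    cases a.e <;> cases b.e <;> rfl
  have d2 : derivedSeries E 2 ≤ H2 := by
    rw [derivedSeries_succ, Subgroup.commutator_le]
    intro a ha b hb
    have ha' : a.e = false := d1 ha
    have hb' : b.e = false := d1 hb
    rw [commutatorElement_def]
    refine ⟨by simp [mul_e, inv_e, ha', hb'], ?_⟩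
    simp only [mul_z, mul_e, inv_z, inv_e, ha', hb', Bool.xor_false]
    simp only [sig, Bool.false_eq_true, ↓reduceIte]
    exact hz _ _ a.hz b.hz
  rw [derivedSeries_succ, eq_bot_iff, Subgroup.commutator_le]
  intro a ha b hb
  obtain ⟨ha1, ha2⟩ := d2 ha
  obtain ⟨hb1, hb2⟩ := d2 hb
  rw [Subgroup.mem_bot, commutatorElement_eq_one_iff_mul_comm]
  ext1
  · rw [mul_w, mul_w, ha1, ha2, hb1, hb2]
    simp only [cmul_one]
    exact add_comm _ _
  · rw [mul_z, mul_z, ha1, ha2, hb1, hb2]
  · rw [mul_e, mul_e, ha1, hb1]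

/-- The involution. -/
def a₀ : E := ⟨0, (1, 0), true, by decide⟩

theorem caseA : ∀ (e : Bool) (z w : V), z ≠ 0 →
    ∃ v : V, cmul z (sig e (v + w - cmul z (sig e v))) = v + w - cmul z (sig e v) := by decide

set_option maxRecDepth 8000 in
theorem caseB : ∀ (e : Bool) (z c : V), z ≠ 0 → c ≠ 0 → cmul z (sig e c) = c →
    ∃ u : V, u ≠ 0 ∧ cmul (cmul u (cinv (u.1, -u.2))) (sig true c) = c ∧
      cmul (cmul u (cinv (u.1, -u.2))) (sig true z) = cmul z (sig e (cmul u (cinv (u.1, -u.2)))) := by decide

/-- There is a finite solvable group G with a subgroup A of order 2 such that every conjugacy class of G contains an element g for which A is subnormal in the subgroup generated by A and g, and yet A is not contained in O_2(G). (So the corresponding criteria for odd primes fail at the prime 2, even for solvable groups.) -/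
theorem result :
    ∃ (G : Type) (_ : Group G) (_ : Finite G) (A : Subgroup G), Group.IsSolvable G ∧ Nat.card A = 2 ∧
      (∀ c : G, ∃ g : G, IsConj c g ∧ (A.subgroupOf (A ⊔ Subgroup.zpowers g)).IsSubnormal) ∧
      ¬ A ≤ Cfsg.pCore 2 G := by
  classical
  have ha2 : a₀ ^ 2 = 1 := by rw [pow_two]; ext1 <;> decide
  have ha1 : a₀ ≠ 1 := fun h => absurd (congrArg E.e h) (by decide)
  have := Fact.mk Nat.prime_two
  refine ⟨E, inferInstance, inferInstance, zpowers a₀, solvable, ?_, ?_, ?_⟩
  · rw [Nat.card_zpowers]; exact orderOf_eq_prime ha2 ha1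
  · intro c
    obtain ⟨v, hv⟩ := caseA c.e c.z c.w c.hz
    -- the conjugate of `c` by the translation `v`
    let t : E := ⟨v, (1, 0), false, by decide⟩
    set d := t * c * t⁻¹ with hd
    have hde : d.e = c.e := by rw [hd, mul_e, mul_e, inv_e]; simp [t]
    have hdz : d.z = c.z := by
      have h : ∀ (e : Bool) (z : V), cmul (cmul (1, 0) z) (sig e (sig false (cinv (1, 0)))) = z := by decide
      rw [hd, mul_z, mul_z, mul_e, inv_z]
      simp only [t, Bool.false_xor]
      exact h _ _
    have hdw : d.w = v + c.w - cmul c.z (sig c.e v) := by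
      have h : ∀ (e : Bool) (z v w : V), (v + cmul (1, 0) w) +
          cmul (cmul (1, 0) z) (sig e (-sig false (cmul (cinv (1, 0)) v))) = v + w - cmul z (sig e v) := by decide
      rw [hd, mul_w, mul_w, mul_z, mul_e, inv_w]
      simp only [t, Bool.false_xor]
      exact h _ _ _ _
    have hcd : IsConj c d := isConj_iff.mpr ⟨t, rfl⟩
    rw [← hdw, ← hdz, ← hde] at hv
    let K : Subgroup E :=
      { carrier := {g | g.w = 0}
        one_mem' := rfl
        mul_mem' := fun {a b} ha hb => by
          have h : ∀ (e : Bool) (z : V), (0 : V) + cmul z (sig e 0) = 0 := by decide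
          show (a * b).w = 0
          rw [mul_w, show a.w = 0 from ha, show b.w = 0 from hb]
          exact h _ _
        inv_mem' := fun {a} ha => by
          have h : ∀ (e : Bool) (z : V), -sig e (cmul z 0) = 0 := by decide
          show a⁻¹.w = 0
          rw [inv_w, show a.w = 0 from ha]
          exact h _ _ }
    have hK : IsPGroup 2 K := by
      intro g
      refine ⟨4, Subtype.ext ?_⟩
      rw [SubgroupClass.coe_pow]
      have h : ∀ (e : Bool) (z : V), z ≠ 0 →
          let q := cmul z (sig e z)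
          cmul (cmul q q) (cmul q q) = (1, 0) := by decide
      have h2 : ((g : E) * g).e = false := by rw [mul_e, Bool.xor_self]
      have h3 : ∀ x : E, x ∈ K → x.e = false → (x * x).z = cmul x.z x.z ∧ (x * x).e = false ∧ (x * x) ∈ K := by
        intro x hx he
        refine ⟨?_, by rw [mul_e, he]; rfl, K.mul_mem hx hx⟩
        rw [mul_z, he]; rfl
      obtain ⟨e1, f1, k1⟩ := h3 _ (K.mul_mem g.2 g.2) h2
      obtain ⟨e2, f2, k2⟩ := h3 _ k1 f1
      obtain ⟨e3, f3, k3⟩ := h3 _ k2 f2
      rw [show (g : E) ^ 2 ^ 4 =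
        ((((g : E) * g) * ((g : E) * g)) * (((g : E) * g) * ((g : E) * g))) *
          ((((g : E) * g) * ((g : E) * g)) * (((g : E) * g) * ((g : E) * g))) by
        simp only [← pow_two, ← pow_mul]; norm_num]
      rw [OneMemClass.coe_one]
      refine E.ext k3 ?_ f3
      rw [e3, e2, e1, mul_z, one_z]
      have := h (g : E).e (g : E).z (g : E).hz
      have h1 : cmul (1, 0) (1, 0) = ((1 : ZMod 3), (0 : ZMod 3)) := by decide
      dsimp only at this
      rw [this, h1]
    haveI : Group.IsNilpotent K := hK.isNilpotent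
    by_cases hw : d.w = 0
    · -- inside the 2-group fixing the origin
      refine ⟨d, hcd, ?_⟩
      have hle : zpowers a₀ ⊔ zpowers d ≤ K :=
        sup_le (Subgroup.zpowers_le.mpr rfl) (Subgroup.zpowers_le.mpr hw)
      haveI : Group.IsNilpotent ↥(zpowers a₀ ⊔ zpowers d) :=
        (hK.to_le hle).isNilpotent
      exact isSubnormal_of_nilpotent _
    · obtain ⟨u, hu, hu1, hu2⟩ := caseB d.e d.z d.w d.hz hw hv
      let h₀ : E := ⟨0, u, false, hu⟩
      set b := h₀ * a₀ * h₀⁻¹ with hb
      have hbe : b.e = true := by rw [hb, mul_e, mul_e, inv_e]; rfl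
      have hbw : b.w = 0 := K.mul_mem (K.mul_mem (show h₀ ∈ K from rfl) (show a₀ ∈ K from rfl)) (K.inv_mem (show h₀ ∈ K from rfl))
      have hbz : b.z = cmul u (cinv (u.1, -u.2)) := by
        have h : ∀ u : V, u ≠ 0 →
            cmul (cmul u (sig false (1, 0))) (sig true (sig false (cinv u))) = cmul u (cinv (u.1, -u.2)) := by decide
        rw [hb, mul_z, mul_z, mul_e, inv_z]
        exact h u hu
      have hbd : b * d = d * b := by
        ext1
        · have h0 : ∀ (e : Bool) (z : V), cmul z (sig e 0) = 0 := by decide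
          rw [mul_w b d, mul_w d b, hbe, hbw, hbz, h0, hu1, zero_add, add_zero]
        · rw [mul_z b d, mul_z d b, hbe, hbz]; exact hu2
        · rw [mul_e b d, mul_e d b, Bool.xor_comm]
      refine ⟨h₀⁻¹ * d * h₀, hcd.trans (isConj_iff.mpr ⟨h₀⁻¹, by group⟩), ?_⟩
      have hc : h₀⁻¹ * d * h₀ ∈ normalizer (zpowers a₀ : Set E) := by
        have e1 : (h₀⁻¹ * d * h₀) * a₀ = a₀ * (h₀⁻¹ * d * h₀) := by
          calc (h₀⁻¹ * d * h₀) * a₀ = h₀⁻¹ * (d * b) * h₀ := by rw [hb]; group
            _ = h₀⁻¹ * (b * d) * h₀ := by rw [hbd]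
            _ = _ := by rw [hb]; group
        rw [Subgroup.mem_normalizer_iff_map_conj_eq, MonoidHom.map_zpowers]
        show zpowers ((h₀⁻¹ * d * h₀) * a₀ * (h₀⁻¹ * d * h₀)⁻¹) = zpowers a₀
        rw [e1, mul_inv_cancel_right]
      exact ((Subgroup.normal_subgroupOf_iff_le_normalizer le_sup_left).mpr
        (sup_le Subgroup.le_normalizer (Subgroup.zpowers_le.mpr hc))).isSubnormal
  · intro hle
    have haO : a₀ ∈ pCore 2 E := hle (mem_zpowers a₀)
    let t : E := ⟨(0, 1), (1, 0), false, by decide⟩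
    set x := t * a₀ * t⁻¹ * a₀⁻¹ with hx
    have hxO : x ∈ pCore 2 E := Subgroup.mul_mem _ ((pCore_normal 2 E).conj_mem _ haO t) (Subgroup.inv_mem _ haO)
    obtain ⟨k, hk⟩ := isPGroup_pCore (G := E) 2 ⟨x, hxO⟩
    have hk' : x ^ 2 ^ k = 1 := congrArg Subtype.val hk
    have hx3 : orderOf x = 3 := by
      have := Fact.mk Nat.prime_three
      refine orderOf_eq_prime ?_ ?_
      · rw [hx, pow_succ, pow_two]; ext1 <;> decide
      · intro h; exact absurd (congrArg E.w h) (by rw [hx]; decide)
    have := orderOf_dvd_of_pow_eq_one hk'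
    rw [hx3] at this
    exact absurd (Nat.prime_three.dvd_of_dvd_pow this) (by norm_num)

end Cfsg.Agent.S4331
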