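import Cfsg.Statements.S4332
import Mathlib
import Cfsg.Agent.Lib.Basic
-- import your own Cfsg.Agent.* helpers here

set_option autoImplicit false
open Pointwise
open Cfsg

namespace Cfsg.Agent.S4332

open scoped Pointwise

open Equiv

theorem exists_three (c : Perm (Fin 8)) : ∃ a b d : Fin 8, a ≠ b ∧ a ≠ d ∧ b ≠ d ∧
    ((c a = a ∧ c b = b ∧ c d = d) ∨ (c a = b ∧ c b = d ∧ c d = a) ∨
      (∀ x ∈ ({a, b, d} : Finset (Fin 8)), c x ∉ ({a, b, d} : Finset (Fin 8)))) := by
  classical
  set F := Finset.univ.filter fun x => c x = x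
  by_cases hF : 3 ≤ F.card
  · obtain ⟨T, hTF, hT⟩ := Finset.exists_subset_card_eq hF
    obtain ⟨a, b, d, hab, had, hbd, rfl⟩ := Finset.card_eq_three.mp hT
    refine ⟨a, b, d, hab, had, hbd, Or.inl ⟨?_, ?_, ?_⟩⟩ <;>
      exact (Finset.mem_filter.mp (hTF (by simp))).2
  by_cases h3 : ∃ a, c a ≠ a ∧ c (c (c a)) = a
  · obtain ⟨a, h1, h2⟩ := h3
    refine ⟨a, c a, c (c a), Ne.symm h1, ?_, fun e => h1 (c.injective e).symm, Or.inr (Or.inl ⟨rfl, rfl, h2⟩)⟩
    intro e
    rw [← e] at h2
    exact h1 h2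
  push Not at h3
  set M := Finset.univ.filter fun x => c x ≠ x
  have hM : 6 ≤ M.card := by
    have := Finset.card_filter_add_card_filter_not (s := (Finset.univ : Finset (Fin 8))) (fun x => c x = x)
    simp only [Finset.card_univ, Fintype.card_fin] at this
    change F.card + M.card = 8 at this
    omega
  have hsix : ∀ s : Finset (Fin 8), s.card < 6 → ∃ x, c x ≠ x ∧ x ∉ s := by
    intro s hs
    obtain ⟨x, hx, hxs⟩ := Finset.exists_mem_notMem_of_card_lt_card (lt_of_lt_of_le hs hM)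
    exact ⟨x, (Finset.mem_filter.mp hx).2, hxs⟩
  by_cases h2 : ∃ a, c a ≠ a ∧ c (c a) ≠ a
  · obtain ⟨a, h1, h12⟩ := h2
    obtain ⟨d, hd1, hd⟩ := hsix {a, c a, c.symm a, c (c a), c (c (c a))}
      (lt_of_le_of_lt Finset.card_le_five (by norm_num))
    simp only [Finset.mem_insert, Finset.mem_singleton, not_or] at hd
    obtain ⟨hda, hdca, hdcia, hd2, hd3⟩ := hd
    refine ⟨a, c (c a), d, Ne.symm h12, Ne.symm hda, Ne.symm hd2, Or.inr (Or.inr ?_)⟩
    have h3' := h3 a h1
    simp only [Finset.mem_insert, Finset.mem_singleton, not_or]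
    rintro x (rfl | rfl | rfl)
    · exact ⟨h1, fun e => h1 (c.injective e).symm, Ne.symm hdca⟩
    · exact ⟨h3', fun e => h1 (c.injective (c.injective e)), Ne.symm hd3⟩
    · exact ⟨fun e => hdcia (by rw [← e, c.symm_apply_apply]), fun e => hdca (c.injective e), hd1⟩
  · push Not at h2
    obtain ⟨a, ha, -⟩ := hsix ∅ (by simp)
    obtain ⟨b, hb, hb'⟩ := hsix {a, c a} (lt_of_le_of_lt Finset.card_le_two (by norm_num))
    obtain ⟨d, hd, hd'⟩ := hsix {a, c a, b, c b} (lt_of_le_of_lt Finset.card_le_four (by norm_num))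
    simp only [Finset.mem_insert, Finset.mem_singleton, not_or] at hb' hd'
    obtain ⟨hba, hbca⟩ := hb'
    obtain ⟨hda, hdca, hdb, hdcb⟩ := hd'
    refine ⟨a, b, d, Ne.symm hba, Ne.symm hda, Ne.symm hdb, Or.inr (Or.inr ?_)⟩
    simp only [Finset.mem_insert, Finset.mem_singleton, not_or]
    rintro x (rfl | rfl | rfl)
    · exact ⟨ha, Ne.symm hbca, Ne.symm hdca⟩
    · exact ⟨fun e => hbca (by rw [← e, h2 x hb]), hb, Ne.symm hdcb⟩
    · exact ⟨fun e => hdca (by rw [← e, h2 x hd]), fun e => hdcb (by rw [← e, h2 x hd]), hd⟩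

theorem conj_swap (c : Perm (Fin 8)) (a b : Fin 8) : c * swap a b * c⁻¹ = swap (c a) (c b) := by
  rw [Equiv.swap_apply_apply]

theorem swap_comm_disjoint {x y u v : Fin 8} (h1 : x ≠ u) (h2 : x ≠ v) (h3 : y ≠ u) (h4 : y ≠ v) :
    Commute (swap x y) (swap u v) := by
  refine Perm.Disjoint.commute fun z => ?_
  by_cases h : z = x ∨ z = y
  · right; rcases h with rfl | rfl
    · exact swap_apply_of_ne_of_ne h1 h2
    · exact swap_apply_of_ne_of_ne h3 h4
  · left
    push Not at h
    exact swap_apply_of_ne_of_ne h.1 h.2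

theorem exists_three_cycle (c : Perm (Fin 8)) :
    ∃ τ : Perm (Fin 8), τ.IsThreeCycle ∧ Commute (c * τ * c⁻¹) τ := by
  obtain ⟨a, b, d, hab, had, hbd, h⟩ := exists_three c
  refine ⟨swap a b * swap a d, Perm.isThreeCycle_swap_mul_swap_same hab had hbd, ?_⟩
  have e : c * (swap a b * swap a d) * c⁻¹ = swap (c a) (c b) * swap (c a) (c d) := by
    rw [← conj_swap, ← conj_swap]; group
  rw [e]
  rcases h with ⟨ha, hb, hd⟩ | ⟨ha, hb, hd⟩ | h
  · rw [ha, hb, hd]
  · rw [ha, hb, hd]
    have : swap b d * swap b a = swap a b * swap a d := by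
      ext z
      simp only [Perm.mul_apply, swap_apply_def]
      split_ifs <;> simp_all
    rw [this]
  · simp only [Finset.mem_insert, Finset.mem_singleton, not_or] at h
    obtain ⟨a1, a2, a3⟩ := h a (Or.inl rfl)
    obtain ⟨b1, b2, b3⟩ := h b (Or.inr (Or.inl rfl))
    obtain ⟨d1, d2, d3⟩ := h d (Or.inr (Or.inr rfl))
    exact ((swap_comm_disjoint a1 a2 b1 b2).mul_right (swap_comm_disjoint a1 a3 b1 b3)).mul_left
      ((swap_comm_disjoint a1 a2 d1 d2).mul_right (swap_comm_disjoint a1 a3 d1 d3))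

/-- In the symmetric group of degree 8, let A be the subgroup generated by a 3-cycle. Then every conjugacy class contains an element g for which A is subnormal in the subgroup generated by A and its conjugate by g, although O_3 of the symmetric group of degree 8 is trivial. -/
theorem result
    (σ : Equiv.Perm (Fin 8)) (hσ : σ.IsThreeCycle) :
    (∀ c : Equiv.Perm (Fin 8), ∃ g : Equiv.Perm (Fin 8), IsConj c g ∧
      ((Subgroup.zpowers σ).subgroupOf (Subgroup.zpowers σ ⊔ MulAut.conj g • Subgroup.zpowers σ)).IsSubnormal) ∧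
    Cfsg.pCore 3 (Equiv.Perm (Fin 8)) = ⊥ := by
  classical
  constructor
  · intro c
    obtain ⟨τ, hτ, hcomm⟩ := exists_three_cycle c
    obtain ⟨h, hh⟩ := isConj_iff.mp ((Equiv.Perm.isConj_iff_cycleType_eq).mpr (hτ.trans hσ.symm))
    refine ⟨h * c * h⁻¹, isConj_iff.mpr ⟨h, rfl⟩, ?_⟩
    refine Subgroup.Normal.isSubnormal ?_
    refine (Subgroup.normal_subgroupOf_iff_le_normalizer le_sup_left).mpr
      (sup_le Subgroup.le_normalizer ?_)
    intro z hz
    refine Subgroup.centralizer_le_normalizer _ ?_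
    rw [Subgroup.mem_pointwise_smul_iff_inv_smul_mem, MulAut.smul_def, MulAut.inv_def,
      MulAut.conj_symm_apply] at hz
    obtain ⟨i, hi⟩ := hz
    rw [Subgroup.mem_centralizer_iff]
    rintro _ ⟨j, rfl⟩
    have hz' : z = (h * c * h⁻¹ * σ * (h * c * h⁻¹)⁻¹) ^ i := by
      rw [conj_zpow, show σ ^ i = _ from hi]; group
    have hc2 : Commute (h * c * h⁻¹ * σ * (h * c * h⁻¹)⁻¹) σ := by
      rw [← hh]
      have := hcomm.map (MulAut.conj h).toMonoidHom
      simpa [mul_assoc] using this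
    rw [hz']
    exact ((hc2.zpow_zpow i j).eq).symm
  · by_contra hne
    set N := Cfsg.pCore 3 (Equiv.Perm (Fin 8))
    have hNp : IsPGroup 3 N := CfsgLib.isPGroup_pCore 3
    have : IsSimpleGroup (alternatingGroup (Fin 8)) := alternatingGroup.isSimpleGroup (by simp)
    rcases (inferInstance : (N.subgroupOf (alternatingGroup (Fin 8))).Normal).eq_bot_or_eq_top with e | e
    · have hd : N ⊓ alternatingGroup (Fin 8) = ⊥ := by
        rw [Subgroup.subgroupOf_eq_bot, disjoint_iff] at e; exact e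
      have h2 : Nat.card N ∣ 2 := by
        have h1 : (alternatingGroup (Fin 8)).relIndex N ∣ (alternatingGroup (Fin 8)).index :=
          Subgroup.relIndex_dvd_index_of_normal _ N
        rw [alternatingGroup.index_eq_two, ← Subgroup.inf_relIndex_right, inf_comm, hd,
          Subgroup.relIndex_bot_left] at h1
        exact h1
      have : Fact (Nat.Prime 3) := ⟨by norm_num⟩
      obtain ⟨k, hk⟩ := hNp.exists_card_eq
      rcases Nat.eq_zero_or_pos k with h0 | h0
      · exact hne (Subgroup.card_eq_one.mp (by rw [hk, h0, pow_zero]))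
      · exact absurd ((dvd_pow_self 3 h0.ne').trans (hk ▸ h2)) (by norm_num)
    · have hle : alternatingGroup (Fin 8) ≤ N := Subgroup.subgroupOf_eq_top.mp e
      have : Fact (Nat.Prime 3) := ⟨by norm_num⟩
      obtain ⟨k, hk⟩ := (hNp.to_le hle).exists_card_eq
      rw [nat_card_alternatingGroup, Nat.card_eq_fintype_card, Fintype.card_fin,
        show Nat.factorial 8 / 2 = 20160 by decide] at hk
      have h2 : 2 ∣ 3 ^ k := hk ▸ by norm_num
      exact absurd ((Nat.prime_two.dvd_of_dvd_pow h2)) (by norm_num)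

end Cfsg.Agent.S4332
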