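import Cfsg.Statements.S4333
import Mathlib
import Cfsg.Agent.Lib.Subnormal
-- import your own Cfsg.Agent.* helpers here

set_option autoImplicit false
open Pointwise
open Cfsg

namespace Cfsg.Agent.S4333

open scoped Pointwise

/-- Let A be a subgroup of a finite group G. If A is subnormal in the subgroup generated by A and its conjugate by g⁻¹ a g, for every a ∈ A and every g ∈ G, then A is subnormal in G. (A sharpening of Wielandt's subnormality criterion: only conjugates of A by conjugates of elements of A are needed.) -/
theorem result {G : Type*} [Group G] [Finite G]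
    (A : Subgroup G)
    (h : ∀ a ∈ A, ∀ g : G, (A.subgroupOf (A ⊔ MulAut.conj (g⁻¹ * a * g) • A)).IsSubnormal) :
    A.IsSubnormal := by
  induction hn : Nat.card G using Nat.strong_induction_on generalizing G with
  | h n ih =>
    subst hn
    by_contra hA
    have hsub : ∀ H : Subgroup G, H ≠ ⊤ → A ≤ H → (A.subgroupOf H).IsSubnormal := by
      intro H hH hAH
      refine ih _ ?_ (A.subgroupOf H) (fun a ha g => ?_) rfl
      · rcases lt_or_eq_of_le (Subgroup.card_le_card_group H) with h1 | h1
        · exact h1
        · exact absurd (Subgroup.eq_top_of_card_eq H h1) hH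
      set t := g⁻¹ * a * g with ht
      have heq : A.subgroupOf H ⊔ MulAut.conj t • A.subgroupOf H =
          (A ⊔ MulAut.conj (t : G) • A).subgroupOf H := by
        have hc : MulAut.conj (t : G) • A ≤ H := fun y hy => by
          have h1 := H.mul_mem (H.mul_mem t.2 (hAH (CfsgLib.mem_conj_smul_iff.mp hy))) (H.inv_mem t.2)
          simpa [mul_assoc] using h1
        rw [Subgroup.subgroupOf_sup hAH hc]
        congr 1
        ext z
        rw [CfsgLib.mem_conj_smul_iff, Subgroup.mem_subgroupOf, Subgroup.mem_subgroupOf, CfsgLib.mem_conj_smul_iff]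
        simp
      rw [heq]
      let f : (A ⊔ MulAut.conj (t : G) • A).subgroupOf H →* (A ⊔ MulAut.conj (t : G) • A : Subgroup G) :=
        MonoidHom.mk' (fun z => ⟨((z : H) : G), z.2⟩) (fun a b => rfl)
      have h2 := h a (Subgroup.mem_subgroupOf.mp ha) g
      rw [show (g : G)⁻¹ * a * g = (t : G) from rfl] at h2
      exact h2.comap f
    obtain ⟨M, ⟨hM, hAM⟩, huniq⟩ := CfsgLib.zipper A hsub hA
    have hle : ∀ a ∈ A, ∀ g : G, MulAut.conj (g⁻¹ * a * g) • A ≤ M := by
      intro a ha g
      set t := g⁻¹ * a * g with ht
      rcases eq_top_or_exists_le_coatom (A ⊔ MulAut.conj t • A) with e | ⟨K, hK, hle⟩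
      · exfalso
        have h2 := (h a ha g).map (f := (A ⊔ MulAut.conj t • A).subtype) (fun y => ⟨⟨y, e ▸ Subgroup.mem_top y⟩, rfl⟩)
        rw [Subgroup.map_subgroupOf_eq_of_le le_sup_left] at h2
        exact hA h2
      · rw [huniq K ⟨hK, le_sup_left.trans hle⟩] at hle
        exact le_sup_right.trans hle
    have hnorm : ∀ a ∈ A, ∀ g : G, g⁻¹ * a * g ∈ Subgroup.normalizer (M : Set G) := by
      intro a ha g
      set t := g⁻¹ * a * g with ht
      have h1 := hle a⁻¹ (inv_mem ha) g
      rw [show g⁻¹ * a⁻¹ * g = t⁻¹ by rw [ht]; group] at h1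
      have h2 : A ≤ MulAut.conj t • M := by
        intro x hx
        rw [CfsgLib.mem_conj_smul_iff]
        exact h1 (CfsgLib.mem_conj_smul_iff.mpr (by simpa [mul_assoc] using hx))
      have h3 : IsCoatom (MulAut.conj t • M) := by
        rw [Subgroup.pointwise_smul_def]
        exact (OrderIso.isCoatom_iff (MulAut.conj t).mapSubgroup M).mpr hM
      have h4 := huniq _ ⟨h3, h2⟩
      rw [Subgroup.mem_normalizer_iff]
      intro z
      conv_rhs => rw [← h4, CfsgLib.mem_conj_smul_iff]
      simp [mul_assoc]
    set C := Subgroup.normalClosure (A : Set G) with hC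
    have hCM : C ≤ M := by
      rcases hM.le_iff.mp (Subgroup.le_normalizer (H := M)) with htop | heq
      · have : M.Normal := Subgroup.normalizer_eq_top_iff.mp htop
        exact Subgroup.normalClosure_le_normal hAM
      · rw [hC, Subgroup.normalClosure, Subgroup.closure_le]
        intro y hy
        obtain ⟨a, ha, hc⟩ := Group.mem_conjugatesOfSet_iff.mp hy
        obtain ⟨g, rfl⟩ := isConj_iff.mp hc
        have := hnorm a ha g⁻¹
        rw [inv_inv, heq] at this
        exact this
    exact hA (Subgroup.IsSubnormal.trans Subgroup.le_normalClosure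
      (hsub C (fun e => hM.1 (top_le_iff.mp (e ▸ hCM))) Subgroup.le_normalClosure)
      (inferInstance : C.Normal).isSubnormal)

end Cfsg.Agent.S4333
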