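import Cfsg.Statements.S4334
import Mathlib
import Cfsg.Agent.S0581
import Cfsg.Agent.Lib.TIHall.Basic
import Cfsg.Agent.Lib.PComplement
import Cfsg.Agent.Lib.Coprime
import Cfsg.Agent.Lib.Frobenius.Splitting
-- import your own Cfsg.Agent.* helpers here

set_option autoImplicit false
open Cfsg

namespace Cfsg.Agent.S4334

open Subgroup CfsgLib
open scoped Pointwise

universe u

/-- A subgroup containing a Sylow subgroup of every prime is the whole of the subgroup containing it. -/
theorem eq_top_of_sylow {G : Type u} [Group G] [Finite G] (C : Subgroup G)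
    (h : ∀ r : ℕ, r.Prime → ¬ r ∣ C.index) : C = ⊤ := by
  by_contra hne
  obtain ⟨r, hr, hrd⟩ := Nat.exists_prime_and_dvd (n := C.index) (fun e => hne (Subgroup.index_eq_one.mp e))
  exact h r hr hrd

/-- A `p`-element normalising `U` centralises it when the centralizer of `U` has index prime to `p`. -/
theorem centralizes_of_index {G : Type u} [Group G] [Finite G] {p : ℕ} [hp : Fact p.Prime] (U : Subgroup G)
    (hU : ¬ p ∣ (centralizer (U : Set G)).relIndex (normalizer (U : Set G))) {x : G}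
    (hx : x ∈ normalizer (U : Set G)) (hxp : ∃ k : ℕ, x ^ p ^ k = 1) : x ∈ centralizer (U : Set G) := by
  set N := normalizer (U : Set G)
  haveI : ((centralizer (U : Set G)).subgroupOf N).Normal := by
    rw [← Subgroup.normalizerMonoidHom_ker]; infer_instance
  have h1 : (QuotientGroup.mk' ((centralizer (U : Set G)).subgroupOf N)) ⟨x, hx⟩ = 1 := by
    obtain ⟨k, hk⟩ := hxp
    refine orderOf_eq_one_iff.mp (Nat.eq_one_of_dvd_coprimes ?_ (orderOf_dvd_natCard _)
      (orderOf_dvd_of_pow_eq_one (show _ ^ p ^ k = 1 by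
        rw [← map_pow, show (⟨x, hx⟩ : N) ^ p ^ k = 1 from Subtype.ext (by rw [SubgroupClass.coe_pow]; exact hk), map_one])))
    exact (((Nat.Prime.coprime_iff_not_dvd hp.out).mpr hU).symm).pow_right k
  exact Subgroup.mem_subgroupOf.mp ((QuotientGroup.eq_one_iff (⟨x, hx⟩ : N)).mp h1)

/-- Let σ and τ be disjoint sets of primes with union π. Suppose a finite group G has a Hall π-subgroup H which is the direct product of a nilpotent σ-subgroup and a τ-subgroup (two elementwise-commuting subgroups generating H), and that the maximal τ-subgroups of G are pairwise conjugate. Then the maximal π-subgroups of G are pairwise conjugate. -/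
theorem result {G : Type*} [Group G] [Finite G]
    (σ τ π : Set ℕ) (hπ : π = σ ∪ τ) (hd : Disjoint σ τ) (H Hs Ht : Subgroup G) (hH : Cfsg.IsPiHall π H)
    (hs : Cfsg.IsPiSubgroup σ Hs) (ht : Cfsg.IsPiSubgroup τ Ht) (hsn : Group.IsNilpotent Hs)
    (hjoin : Hs ⊔ Ht = H) (hcomm : ∀ a ∈ Hs, ∀ b ∈ Ht, a * b = b * a) (hD : Cfsg.IsDPiGroup τ G) :
    Cfsg.IsDPiGroup π G := by
  classical
  obtain ⟨hHπ, hHidx⟩ := hH
  have hHsH : Hs ≤ H := hjoin ▸ le_sup_left
  have hHtH : Ht ≤ H := hjoin ▸ le_sup_right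
  have hcop : (Nat.card Hs).Coprime (Nat.card Ht) := by
    refine Nat.coprime_of_dvd fun r hr h1 h2 => Set.disjoint_left.mp hd (hs r hr h1) (ht r hr h2)
  have hcard : Nat.card H ∣ Nat.card Hs * Nat.card Ht := by
    rw [← hjoin]
    refine TIHall.card_sup_dvd_of_le_normalizer fun a ha => ?_
    rw [Subgroup.mem_normalizer_iff]
    intro c
    constructor
    · intro hc; rwa [hcomm a ha c hc, mul_inv_cancel_right]
    · intro hc
      have e := hcomm a ha _ hc
      have : a * c * a⁻¹ = c := mul_left_cancel (a := a) (by rw [e]; group)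
      rwa [this] at hc
  have hHall : ∀ (X Y : Subgroup G) (ρ : Set ℕ), X ≤ H → Nat.card H ∣ Nat.card X * Nat.card Y →
      (∀ r, r.Prime → r ∈ ρ → r ∈ π) → (∀ r, r.Prime → r ∣ Nat.card Y → r ∉ ρ) →
      ∀ r, r.Prime → r ∈ ρ → ¬ r ∣ X.index := by
    intro X Y ρ hXH hdv hρ hY r hr hrρ hdvd
    rw [← Subgroup.relIndex_mul_index hXH] at hdvd
    rcases hr.dvd_mul.mp hdvd with e | e
    · refine hY r hr (e.trans ?_) hrρ
      have h1 := Subgroup.relIndex_mul_relIndex (⊥ : Subgroup G) X H bot_le hXH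
      rw [Subgroup.relIndex_bot_left, Subgroup.relIndex_bot_left] at h1
      rw [← h1] at hdv
      exact Nat.dvd_of_mul_dvd_mul_left Nat.card_pos hdv
    · exact hHidx r hr (hρ r hr hrρ) e
  have hsidx := hHall Hs Ht σ hHsH hcard (fun r _ h => hπ ▸ Or.inl h)
    (fun r hr h1 h2 => Set.disjoint_left.mp hd h2 (ht r hr h1))
  have htidx := hHall Ht Hs τ hHtH (by rwa [mul_comm]) (fun r _ h => hπ ▸ Or.inr h)
    (fun r hr h1 h2 => Set.disjoint_left.mp hd (hs r hr h1) h2)
  have hprimes : ∀ r, r.Prime → r ∈ π → r ∣ Nat.card G → r ∣ Nat.card Hs ∨ r ∣ Nat.card Ht := by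
    intro r hr hrπ hrG
    have h1 := H.card_mul_index
    rw [← h1] at hrG
    rcases hr.dvd_mul.mp hrG with e | e
    · exact hr.dvd_mul.mp (e.trans hcard)
    · exact absurd e (hHidx r hr hrπ)
  have hsHall : (Nat.card Hs).Coprime Hs.index :=
    Nat.coprime_of_dvd fun r hr h1 h2 => hsidx r hr (hs r hr h1) h2
  -- `τ`-subgroups are dominated by `Ht`
  have hdomt : ∀ R : Subgroup G, IsPiSubgroup τ R → ∃ g : G, R ≤ Ht.map (MulAut.conj g).toMonoidHom := by
    intro R hR
    obtain ⟨M, hRM, hM⟩ := (Set.toFinite {X : Subgroup G | IsPiSubgroup τ X}).exists_le_maximal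
      (show R ∈ {X : Subgroup G | IsPiSubgroup τ X} from hR)
    have hMax : Maximal (IsPiSubgroup τ) Ht := by
      refine ⟨ht, fun X hX hle => ?_⟩
      refine (Subgroup.relIndex_eq_one.mp ?_ : X ≤ Ht)
      by_contra h1
      obtain ⟨r, hr, hrd⟩ := Nat.exists_prime_and_dvd h1
      have hrX : r ∣ Nat.card X := hrd.trans (Subgroup.relIndex_dvd_card _ _)
      exact htidx r hr (hX r hr hrX) (hrd.trans (Subgroup.relIndex_dvd_index_of_le hle))
    obtain ⟨g, hg⟩ := hD Ht M hMax hM
    exact ⟨g, hg ▸ hRM⟩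
  have hdoms : ∀ R : Subgroup G, (∀ r, r.Prime → r ∣ Nat.card R → r ∈ σ) → ∃ g : G, R ≤ MulAut.conj g • Hs := by
    intro R hR
    refine S0581.result Hs R hsn hsHall fun r hr hrR => ?_
    rcases hprimes r hr (hπ ▸ Or.inl (hR r hr hrR)) (hrR.trans (Subgroup.card_subgroup_dvd_card R)) with e | e
    · exact e
    · exact absurd (ht r hr e) (Set.disjoint_left.mp hd (hR r hr hrR))
  have hcentG : ∀ (g : G) (X U : Subgroup G) (r : ℕ), ¬ r ∣ X.index →
      U ≤ Ht.map (MulAut.conj g).toMonoidHom ∨ U ≤ Hs.map (MulAut.conj g).toMonoidHom →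
      X.map (MulAut.conj g).toMonoidHom ≤ centralizer (U : Set G) → ¬ r ∣ (centralizer (U : Set G)).index := by
    intro g X U r hr _ hle h
    exact hr (by
      rw [← Subgroup.index_map_equiv X (MulAut.conj g)]
      exact h.trans (Subgroup.index_dvd_of_le hle))
  -- a `p`-element normalising an `r`-subgroup centralises it, if one of `p`, `r` lies in `σ`
  have key : ∀ (r s : ℕ), r.Prime → s.Prime → r ≠ s → r ∈ π → s ∈ π → (r ∈ σ ∨ s ∈ σ) →
      ∀ U : Subgroup G, IsPGroup r U → ¬ s ∣ (centralizer (U : Set G)).index := by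
    intro r s hr hs' hne hrπ hsπ hor U hU
    by_cases hsG : s ∣ Nat.card G
    swap
    · exact fun h => hsG (h.trans (Subgroup.index_dvd_card _))
    have := Fact.mk hr
    have hUσ : ∀ q, q.Prime → q ∣ Nat.card U → q = r := by
      intro q hq hqd
      obtain ⟨k, hk⟩ := hU.exists_card_eq
      exact (Nat.prime_dvd_prime_iff_eq hq hr).mp (hq.dvd_of_dvd_pow (hk ▸ hqd))
    by_cases hrσ : r ∈ σ
    · obtain ⟨g, hg⟩ := hdoms U (fun q hq hqd => hUσ q hq hqd ▸ hrσ)
      have hg' : U ≤ Hs.map (MulAut.conj g).toMonoidHom := hg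
      by_cases hsσ : s ∈ σ
      · -- the `s`-part of the nilpotent group `Hs`
        have := Fact.mk hs'
        obtain ⟨S⟩ : Nonempty (Sylow s Hs) := inferInstance
        refine hcentG g ((S : Subgroup Hs).map Hs.subtype) U s ?_ (Or.inr hg') ?_
        · rw [Subgroup.index_map_subtype]
          exact fun h => (hs'.dvd_mul.mp h).elim S.not_dvd_index (hsidx s hs' hsσ)
        · rintro _ ⟨_, ⟨a, ha, rfl⟩, rfl⟩
          refine Subgroup.mem_centralizer_iff.mpr fun u hu => ?_
          obtain ⟨b, hb, rfl⟩ := hg' hu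
          have hab : (orderOf (⟨b, hb⟩ : Hs)).Coprime (orderOf a) := by
            obtain ⟨i, hi⟩ := hU ⟨_, hu⟩
            obtain ⟨j, hj⟩ := S.2 ⟨a, ha⟩
            have hi' : (MulAut.conj g).toMonoidHom b ^ r ^ i = 1 := congrArg Subtype.val hi
            rw [← map_pow, ← map_one (MulAut.conj g).toMonoidHom] at hi'
            have h1 : orderOf (⟨b, hb⟩ : Hs) ∣ r ^ i :=
              orderOf_dvd_of_pow_eq_one (Subtype.ext ((MulAut.conj g).injective hi'))
            have h2 : orderOf a ∣ s ^ j := orderOf_dvd_of_pow_eq_one (congrArg Subtype.val hj)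
            exact (((Nat.coprime_primes hr hs').mpr hne).pow i j).coprime_dvd_left h1 |>.coprime_dvd_right h2
          have e : (⟨b, hb⟩ : Hs) * a = a * ⟨b, hb⟩ :=
            Frob.commute_of_nilpotent_coprime hab
          rw [← map_mul, ← map_mul]
          exact congrArg (MulAut.conj g).toMonoidHom (congrArg Subtype.val e)
      · have hsτ : s ∈ τ := (hπ ▸ hsπ : s ∈ σ ∪ τ).resolve_left hsσ
        refine hcentG g Ht U s (htidx s hs' hsτ) (Or.inr hg') ?_
        rintro _ ⟨a, ha, rfl⟩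
        refine Subgroup.mem_centralizer_iff.mpr fun u hu => ?_
        obtain ⟨b, hb, rfl⟩ := hg' hu
        rw [← map_mul, ← map_mul, hcomm b hb a ha]
    · have hsσ : s ∈ σ := hor.resolve_left hrσ
      have hrτ : r ∈ τ := (hπ ▸ hrπ : r ∈ σ ∪ τ).resolve_left hrσ
      obtain ⟨g, hg⟩ := hdomt U (fun q hq hqd => hUσ q hq hqd ▸ hrτ)
      refine hcentG g Hs U s (hsidx s hs' hsσ) (Or.inl hg) ?_
      rintro _ ⟨a, ha, rfl⟩
      refine Subgroup.mem_centralizer_iff.mpr fun u hu => ?_
      obtain ⟨b, hb, rfl⟩ := hg hu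
      rw [← map_mul, ← map_mul, hcomm a ha b hb]
  have act : ∀ (r s : ℕ), r.Prime → s.Prime → r ≠ s → r ∈ π → s ∈ π → (r ∈ σ ∨ s ∈ σ) →
      ∀ U : Subgroup G, IsPGroup r U → ∀ x ∈ normalizer (U : Set G), (∃ k : ℕ, x ^ s ^ k = 1) →
      x ∈ centralizer (U : Set G) := by
    intro r s hr hs' hne hrπ hsπ hor U hU x hx hxs
    have := Fact.mk hs'
    refine centralizes_of_index U (fun h => key r s hr hs' hne hrπ hsπ hor U hU (h.trans ?_)) hx hxs
    exact Subgroup.relIndex_dvd_index_of_le (Subgroup.centralizer_le_normalizer _)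
  -- every `π`-subgroup is contained in a conjugate of `H`
  suffices hdom : ∀ K : Subgroup G, IsPiSubgroup π K → ∃ g : G, K ≤ H.map (MulAut.conj g).toMonoidHom by
    intro A B hA hB
    have hconjπ : ∀ g : G, IsPiSubgroup π (H.map (MulAut.conj g).toMonoidHom) := fun g r hr hrd =>
      hHπ r hr (by rwa [Subgroup.card_map_of_injective (MulAut.conj g).injective] at hrd)
    obtain ⟨a, ha⟩ := hdom A hA.1
    obtain ⟨b, hb⟩ := hdom B hB.1
    have ea := le_antisymm ha (hA.2 (hconjπ a) ha)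
    have eb := le_antisymm hb (hB.2 (hconjπ b) hb)
    refine ⟨b * a⁻¹, ?_⟩
    rw [ea, eb, Subgroup.map_map]
    congr 1
    ext v
    simp [mul_assoc]
  intro K hK
  -- for `p ∈ σ`, `p`-elements commute with `p'`-elements in `K`
  have hcommK : ∀ p ∈ σ, p.Prime → ∀ x ∈ K, ∀ y ∈ K, (∃ k : ℕ, x ^ p ^ k = 1) → (orderOf y).Coprime p → x * y = y * x := by
    intro p hpσ hp x hx y hy hxp hyp
    have := Fact.mk hp
    have hpπ : p ∈ π := hπ ▸ Or.inl hpσ
    have hKc : HasNormalPComplement p K := by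
      refine hasNormalPComplement_of_frobeniusCond fun Q hQ g hg hgp => ?_
      set C := centralizer (Q : Set K)
      suffices hle : zpowers g ≤ C from hle (mem_zpowers g)
      by_contra hnle
      have hne1 : (C.subgroupOf (zpowers g)).index ≠ 1 := fun e =>
        hnle (Subgroup.subgroupOf_eq_top.mp (Subgroup.index_eq_one.mp e))
      obtain ⟨r, hr, hrd⟩ := Nat.exists_prime_and_dvd hne1
      have := Fact.mk hr
      obtain ⟨R⟩ : Nonempty (Sylow r (zpowers g)) := inferInstance
      have hrg : r ∣ orderOf g := by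
        rw [← Nat.card_zpowers]; exact hrd.trans (Subgroup.index_dvd_card _)
      have hne : p ≠ r := fun e => hp.ne_one (Nat.eq_one_of_dvd_coprimes hgp (e ▸ hrg) dvd_rfl)
      have hrπ : r ∈ π := hK r hr (hrg.trans (orderOf_dvd_natCard g))
      refine R.not_dvd_index (hrd.trans (Subgroup.index_dvd_of_le fun z hz => ?_))
      rw [Subgroup.mem_subgroupOf, Subgroup.mem_centralizer_iff]
      intro q hq
      obtain ⟨k, hk⟩ := R.2 ⟨z, hz⟩
      have hzN : ((z : K) : G) ∈ normalizer ((Q.map K.subtype : Subgroup G) : Set G) :=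
        Subgroup.le_normalizer_map K.subtype ⟨z, (Subgroup.zpowers_le.mpr hg) z.2, rfl⟩
      have hc := act p r hp hr hne hpπ hrπ (Or.inl hpσ) (Q.map K.subtype) (hQ.map _) _ hzN
        ⟨k, congrArg (fun v : zpowers g => ((v : K) : G)) (congrArg Subtype.val hk)⟩
      exact Subtype.ext (Subgroup.mem_centralizer_iff.mp hc _ ⟨q, hq, rfl⟩)
    set N := pPrimeCore p K with hN
    have hxN : zpowers (⟨x, hx⟩ : K) ≤ normalizer (N : Set K) := by rw [Subgroup.normalizer_eq_top N]; exact le_top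
    have hyN : (⟨y, hy⟩ : K) ∈ N := mem_pPrimeCore_of_hasNormalPComplement hKc (by rwa [Subgroup.orderOf_mk])
    have hcopN : (Nat.card (zpowers (⟨x, hx⟩ : K))).Coprime (Nat.card N) := by
      obtain ⟨k, hk⟩ := hxp
      rw [Nat.card_zpowers, Subgroup.orderOf_mk]
      exact Nat.Coprime.coprime_dvd_left (orderOf_dvd_of_pow_eq_one hk) ((card_pPrimeCore_coprime p).symm.pow_left k)
    suffices htop : (centralizer ({(⟨x, hx⟩ : K)} : Set K)).subgroupOf N = ⊤ by
      have h1 := Subgroup.subgroupOf_eq_top.mp htop hyN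
      exact (congrArg Subtype.val (Subgroup.mem_centralizer_singleton_iff.mp h1)).symm
    refine eq_top_of_sylow _ fun r hr hrd => ?_
    have := Fact.mk hr
    have hrN : r ∣ Nat.card N := hrd.trans (Subgroup.index_dvd_card _)
    have hne : r ≠ p := fun e => hp.ne_one (Nat.eq_one_of_dvd_coprimes (card_pPrimeCore_coprime p) (e ▸ hrN) dvd_rfl)
    have hrπ : r ∈ π := hK r hr (hrN.trans (Subgroup.card_subgroup_dvd_card N))
    obtain ⟨R, hR⟩ := coprime_exists_invariant_sylow hxN hcopN (Or.inl inferInstance) r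
    refine R.not_dvd_index (hrd.trans (Subgroup.index_dvd_of_le fun z hz => ?_))
    rw [Subgroup.mem_subgroupOf, Subgroup.mem_centralizer_singleton_iff]
    have hxn : x ∈ normalizer ((((R : Subgroup N).map N.subtype).map K.subtype : Subgroup G) : Set G) :=
      Subgroup.le_normalizer_map K.subtype ⟨⟨x, hx⟩, hR (mem_zpowers _), rfl⟩
    have hc := act r p hr hp hne hrπ hpπ (Or.inr hpσ) _ ((R.2.map _).map _) x hxn hxp
    exact Subtype.ext (Subgroup.mem_centralizer_iff.mp hc _ ⟨_, ⟨z, hz, rfl⟩, rfl⟩)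
  -- the normal Hall `τ`-subgroup of `K`
  set Kt : Subgroup K := ⨅ p ∈ {p : ℕ | p.Prime ∧ p ∈ σ}, pPrimeCore p K with hKt
  have hKtn : Kt.Normal := Subgroup.normal_iInf_normal fun p => Subgroup.normal_iInf_normal fun _ => inferInstance
  have hKtτ : ∀ r, r.Prime → r ∣ Nat.card Kt → r ∈ τ := by
    intro r hr hrd
    refine (hπ ▸ hK r hr (hrd.trans (Subgroup.card_subgroup_dvd_card _)) : r ∈ σ ∪ τ).resolve_left fun hrσ => ?_
    have hle : Kt ≤ pPrimeCore r K := iInf₂_le r ⟨hr, hrσ⟩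
    exact hr.ne_one (Nat.eq_one_of_dvd_coprimes ((card_pPrimeCore_coprime r).coprime_dvd_left (Subgroup.card_dvd_of_le hle)) hrd dvd_rfl)
  have hKtidx : ∀ r, r.Prime → r ∈ τ → ¬ r ∣ Kt.index := by
    intro r hr hrτ hrd
    have := Fact.mk hr
    obtain ⟨R⟩ : Nonempty (Sylow r K) := inferInstance
    refine R.not_dvd_index (hrd.trans (Subgroup.index_dvd_of_le ?_))
    rw [hKt]
    refine le_iInf₂ fun p hp z hz => ?_
    obtain ⟨hp', hpσ⟩ := hp
    have := Fact.mk hp'
    have hne : r ≠ p := fun e => Set.disjoint_left.mp hd hpσ (e ▸ hrτ)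
    -- `z` is a `p'`-element
    obtain ⟨k, hk⟩ := R.2 ⟨z, hz⟩
    have hzc : (orderOf z).Coprime p := Nat.Coprime.coprime_dvd_left
      (orderOf_dvd_of_pow_eq_one (congrArg Subtype.val hk)) (((Nat.coprime_primes hr hp').mpr hne).pow_left k)
    have hKc : HasNormalPComplement p K := by
      refine hasNormalPComplement_of_frobeniusCond fun Q hQ g hg hgp => ?_
      refine Subgroup.mem_centralizer_iff.mpr fun q hq => Subtype.ext ?_
      obtain ⟨j, hj⟩ := hQ ⟨q, hq⟩
      exact hcommK p hpσ hp' q q.2 g g.2 ⟨j, congrArg (fun v : Q => ((v : K) : G)) hj⟩ (by rwa [Subgroup.orderOf_coe])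
    exact mem_pPrimeCore_of_hasNormalPComplement hKc hzc
  have hKtcop : (Nat.card Kt).Coprime Kt.index :=
    Nat.coprime_of_dvd fun r hr h1 h2 => hKtidx r hr (hKtτ r hr h1) h2
  obtain ⟨Ks, hKs⟩ := Subgroup.exists_right_complement'_of_coprime hKtcop
  have hKsσ : ∀ r, r.Prime → r ∣ Nat.card Ks → r ∈ σ := by
    intro r hr hrd
    have hrπ := hK r hr (hrd.trans (Subgroup.card_subgroup_dvd_card _))
    refine (hπ ▸ hrπ : r ∈ σ ∪ τ).resolve_right fun hrτ => hKtidx r hr hrτ ?_
    rwa [hKs.symm.index_eq_card]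
  obtain ⟨g₁, hg₁⟩ := hdomt (Kt.map K.subtype) (fun r hr hrd =>
    hKtτ r hr (by rwa [Subgroup.card_map_of_injective K.subtype_injective] at hrd))
  set g := MulAut.conj g₁⁻¹ with hgdef
  set T := (Kt.map K.subtype).map g.toMonoidHom with hT
  set S := (Ks.map K.subtype).map g.toMonoidHom with hS
  have hTle : T ≤ Ht := by
    rw [hT, Subgroup.map_le_iff_le_comap]
    intro a ha
    obtain ⟨b, hb, rfl⟩ := hg₁ ha
    rw [Subgroup.mem_comap]
    simpa [hgdef, MulAut.conj_inv_apply, mul_assoc] using hb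
  set C := centralizer (T : Set G) with hC
  have hSC : S ≤ C := by
    rintro _ ⟨_, ⟨a, ha, rfl⟩, rfl⟩
    refine Subgroup.mem_centralizer_iff.mpr ?_
    rintro _ ⟨_, ⟨b, hb, rfl⟩, rfl⟩
    suffices he : b * a = a * b by rw [← map_mul, ← map_mul, ← map_mul, ← map_mul, he]
    refine Subtype.ext ?_
    show (b : G) * (a : G) = (a : G) * (b : G)
    set Cb := (centralizer ({b} : Set K)).subgroupOf Ks with hCb
    have htop : Cb = ⊤ := by
      refine eq_top_of_sylow _ fun r hr hrd => ?_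
      have := Fact.mk hr
      have hrσ := hKsσ r hr (hrd.trans (Subgroup.index_dvd_card _))
      obtain ⟨R⟩ : Nonempty (Sylow r Ks) := inferInstance
      refine R.not_dvd_index (hrd.trans (Subgroup.index_dvd_of_le fun z hz => ?_))
      rw [hCb, Subgroup.mem_subgroupOf, Subgroup.mem_centralizer_singleton_iff]
      refine Subtype.ext ?_
      obtain ⟨j, hj⟩ := R.2 ⟨z, hz⟩
      refine hcommK r hrσ hr _ (z : K).2 _ b.2 ⟨j, congrArg (fun v : Ks => ((v : K) : G)) (congrArg Subtype.val hj)⟩ ?_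
      show (orderOf ((b : K) : G)).Coprime r
      rw [Subgroup.orderOf_coe]
      refine Nat.Coprime.coprime_dvd_left (Subgroup.orderOf_dvd_natCard _ hb) ?_
      exact ((Nat.Prime.coprime_iff_not_dvd hr).mpr fun h => Set.disjoint_left.mp hd hrσ (hKtτ r hr h)).symm
    have := Subgroup.mem_subgroupOf.mp (htop ▸ Subgroup.mem_top (⟨a, ha⟩ : Ks) : (⟨a, ha⟩ : Ks) ∈ Cb)
    exact congrArg Subtype.val (Subgroup.mem_centralizer_singleton_iff.mp this).symm
  have hHsC : Hs ≤ C := fun a ha => Subgroup.mem_centralizer_iff.mpr fun b hb => (hcomm a ha b (hTle hb)).symm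
  haveI : Group.IsNilpotent (Hs.subgroupOf C) :=
    Group.nilpotent_of_mulEquiv (Subgroup.subgroupOfEquivOfLe hHsC).symm
  obtain ⟨c, hc⟩ := S0581.result (Hs.subgroupOf C) (S.subgroupOf C) inferInstance (by
      rw [Nat.card_congr (Subgroup.subgroupOfEquivOfLe hHsC).toEquiv]
      exact hsHall.coprime_dvd_right (Subgroup.relIndex_dvd_index_of_le hHsC))
    (fun r hr hrd => by
      rw [Nat.card_congr (Subgroup.subgroupOfEquivOfLe hHsC).toEquiv]
      rw [Nat.card_congr (Subgroup.subgroupOfEquivOfLe hSC).toEquiv, hS,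
        Subgroup.card_map_of_injective g.injective, Subgroup.card_map_of_injective K.subtype_injective] at hrd
      have hrσ := hKsσ r hr hrd
      rcases hprimes r hr (hπ ▸ Or.inl hrσ) ((hrd.trans (Subgroup.card_subgroup_dvd_card _)).trans
        (Subgroup.card_subgroup_dvd_card K)) with e | e
      · exact e
      · exact absurd (ht r hr e) (Set.disjoint_left.mp hd hrσ))
  refine ⟨g₁ * c, ?_⟩
  have hS' : ∀ a ∈ S, (c : G)⁻¹ * a * c ∈ H := by
    intro a ha
    have := hc (show (⟨a, hSC ha⟩ : C) ∈ S.subgroupOf C from ha)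
    rw [Subgroup.mem_pointwise_smul_iff_inv_smul_mem, Subgroup.mem_subgroupOf] at this
    exact hHsH (by simpa [MulAut.conj_inv_apply, mul_assoc] using this)
  have hT' : ∀ a ∈ T, (c : G)⁻¹ * a * c ∈ H := by
    intro a ha
    rw [show (c : G)⁻¹ * a * c = a by
      rw [mul_assoc, Subgroup.mem_centralizer_iff.mp c.2 a ha, inv_mul_cancel_left]]
    exact hHtH (hTle ha)
  intro k hk
  obtain ⟨⟨a, b⟩, hab⟩ := hKs.2 ⟨k, hk⟩
  refine ⟨((c : G)⁻¹ * g (a : K) * c) * ((c : G)⁻¹ * g (b : K) * c),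
    H.mul_mem (hT' _ ⟨_, ⟨_, a.2, rfl⟩, rfl⟩) (hS' _ ⟨_, ⟨_, b.2, rfl⟩, rfl⟩), ?_⟩
  have e : ((a : K) : G) * ((b : K) : G) = k := congrArg Subtype.val hab
  rw [← e]
  simp [hgdef, mul_assoc]

end Cfsg.Agent.S4334
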