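import Cfsg.Statements.S4337
import Mathlib
import Cfsg.Agent.Lib.CharTheory.Burnside
-- import your own Cfsg.Agent.* helpers here

set_option autoImplicit false
open Cfsg

namespace Cfsg.Agent.S4337


theorem solvable_of_support {n : ℕ} (S : Finset (Fin n)) (hS : S.card ≤ 4) (T : Set (Equiv.Perm (Fin n)))
    (hT : ∀ t ∈ T, ∀ x, x ∉ S → t x = x) : Group.IsSolvable (Subgroup.closure T) := by
  classical
  set f : Equiv.Perm {x // x ∈ S} →* Equiv.Perm (Fin n) := Equiv.Perm.ofSubtype
  have hle : Subgroup.closure T ≤ f.range := by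
    rw [Subgroup.closure_le]
    intro t ht
    have hiff : ∀ x, t x ∈ S ↔ x ∈ S := by
      intro x
      refine ⟨fun hx => ?_, fun hx => ?_⟩
      · by_contra h
        exact h ((hT t ht x h) ▸ hx)
      · by_contra h
        exact h (by rwa [t.injective (hT t ht _ h)])
    refine ⟨t.subtypePerm hiff, ?_⟩
    exact Equiv.Perm.ofSubtype_subtypePerm hiff fun x hx => by
      by_contra h
      exact hx (hT t ht x h)
  have hd : Nat.card (Subgroup.closure T) ∣ 24 := by
    refine (Subgroup.card_dvd_of_le hle).trans ((Subgroup.card_range_dvd f).trans ?_)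
    rw [Nat.card_eq_fintype_card, Fintype.card_perm, Fintype.card_coe]
    exact (Nat.factorial_dvd_factorial hS).trans (by decide)
  have hmem : Nat.card (Subgroup.closure T) ∈ Nat.divisors 24 := Nat.mem_divisors.mpr ⟨hd, by norm_num⟩
  have key : ∀ m ∈ Nat.divisors 24, ∃ a ∈ Finset.range 4, ∃ b ∈ Finset.range 2, m = 2 ^ a * 3 ^ b := by decide
  obtain ⟨a, -, b, -, hab⟩ := key _ hmem
  exact CfsgLib.CharTheory.isSolvable_of_card_two_primes Nat.prime_two Nat.prime_three hab

theorem solvable_commuting {n : ℕ} {a b c : Equiv.Perm (Fin n)} (hab : Commute a b) (hac : Commute a c)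
    (S : Finset (Fin n)) (hS : S.card ≤ 4) (hT : ∀ t ∈ ({b, c} : Set (Equiv.Perm (Fin n))), ∀ x, x ∉ S → t x = x) :
    Group.IsSolvable (Subgroup.closure ({a, b, c} : Set (Equiv.Perm (Fin n)))) := by
  set K := Subgroup.closure ({b, c} : Set (Equiv.Perm (Fin n)))
  have := solvable_of_support S hS _ hT
  have hK : K ≤ Subgroup.centralizer ({a} : Set (Equiv.Perm (Fin n))) := by
    rw [Subgroup.closure_le]
    rintro t (rfl | rfl)
    · exact Subgroup.mem_centralizer_singleton_iff.mpr hab.eq.symm
    · exact Subgroup.mem_centralizer_singleton_iff.mpr hac.eq.symm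
  let φ := MonoidHom.noncommCoprod (Subgroup.zpowers a).subtype K.subtype (fun x y => by
    obtain ⟨i, hi⟩ := Subgroup.mem_zpowers_iff.mp x.2
    show Commute (x : Equiv.Perm (Fin n)) (y : Equiv.Perm (Fin n))
    rw [← hi]
    exact Commute.zpow_left (Subgroup.mem_centralizer_singleton_iff.mp (hK y.2)).symm i)
  have : Group.IsSolvable (Subgroup.zpowers a × K) := inferInstance
  have : Group.IsSolvable φ.range := Group.isSolvable_of_surjective φ.rangeRestrict_surjective
  have hle : Subgroup.closure ({a, b, c} : Set (Equiv.Perm (Fin n))) ≤ φ.range := by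
    rw [Subgroup.closure_le]
    rintro t (rfl | ht)
    · exact ⟨(⟨t, Subgroup.mem_zpowers t⟩, 1), by simp [φ]⟩
    · exact ⟨(1, ⟨t, Subgroup.subset_closure ht⟩), by simp [φ]⟩
  exact Group.isSolvable_of_isSolvable_injective (f := Subgroup.inclusion hle) (Subgroup.inclusion_injective _)

/-- In a finite symmetric group, any three transpositions generate a solvable subgroup. -/
theorem result (n : ℕ) (a b c : Equiv.Perm (Fin n))
    (ha : a.IsSwap) (hb : b.IsSwap) (hc : c.IsSwap) :
    Group.IsSolvable (Subgroup.closure ({a, b, c} : Set (Equiv.Perm (Fin n)))) := by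
  classical
  obtain ⟨a1, a2, ha12, rfl⟩ := ha
  obtain ⟨b1, b2, hb12, rfl⟩ := hb
  obtain ⟨c1, c2, hc12, rfl⟩ := hc
  set A : Finset (Fin n) := {a1, a2} with hA
  set B : Finset (Fin n) := {b1, b2} with hB
  set C : Finset (Fin n) := {c1, c2} with hC
  have hfix : ∀ (u v x : Fin n) (S : Finset (Fin n)), ({u, v} : Finset (Fin n)) ⊆ S → x ∉ S → Equiv.swap u v x = x := by
    intro u v x S hS hx
    refine Equiv.swap_apply_of_ne_of_ne (fun e => hx (hS (by simp [e]))) (fun e => hx (hS (by simp [e])))
  have hcomm : ∀ (u v s t : Fin n), Disjoint ({u, v} : Finset (Fin n)) {s, t} →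
      Commute (Equiv.swap u v) (Equiv.swap s t) := by
    intro u v s t hd
    refine Equiv.Perm.Disjoint.commute fun x => ?_
    by_cases hx : x ∈ ({u, v} : Finset (Fin n))
    · exact Or.inr (hfix s t x _ (Finset.Subset.refl _) (Finset.disjoint_left.mp hd hx))
    · exact Or.inl (hfix u v x _ (Finset.Subset.refl _) hx)
  have hcardA : A.card ≤ 2 := Finset.card_le_two
  have hcardB : B.card ≤ 2 := Finset.card_le_two
  have hcardC : C.card ≤ 2 := Finset.card_le_two
  have hunion : ∀ X Y : Finset (Fin n), X.card ≤ 2 → Y.card ≤ 2 → (X ∪ Y).card ≤ 4 := fun X Y hX hY => by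
    have := Finset.card_union_le X Y; omega
  by_cases hall : ∃ S : Finset (Fin n), S.card ≤ 4 ∧ A ⊆ S ∧ B ⊆ S ∧ C ⊆ S
  · obtain ⟨S, hS, h1, h2, h3⟩ := hall
    refine solvable_of_support S hS _ ?_
    rintro t (rfl | rfl | rfl) x hx
    · exact hfix _ _ x S h1 hx
    · exact hfix _ _ x S h2 hx
    · exact hfix _ _ x S h3 hx
  · have hmid : ∀ X Y Z : Finset (Fin n), X.card ≤ 2 → Y.card ≤ 2 → Z.card ≤ 2 → ¬ Disjoint X Y → ¬ Disjoint Y Z →
        (X ∪ Y ∪ Z).card ≤ 4 := by
      intro X Y Z hX hY hZ h1 h2
      have e1 := Finset.card_union_add_card_inter X Y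
      have e2 := Finset.card_union_add_card_inter (X ∪ Y) Z
      have i1 : 1 ≤ (X ∩ Y).card := Finset.card_pos.mpr (Finset.nonempty_iff_ne_empty.mpr fun e => h1 (Finset.disjoint_iff_inter_eq_empty.mpr e))
      have i2 : 1 ≤ ((X ∪ Y) ∩ Z).card := by
        refine Finset.card_pos.mpr (Finset.nonempty_iff_ne_empty.mpr fun e => h2 ?_)
        have := Finset.disjoint_iff_inter_eq_empty.mpr e
        exact this.mono_left Finset.subset_union_right
      omega
    push Not at hall
    have sAB : A ⊆ A ∪ B ∪ C := Finset.subset_union_left.trans Finset.subset_union_left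
    have d1 : Disjoint A B ∨ Disjoint B C := by
      by_contra h; push Not at h
      exact hall (A ∪ B ∪ C) (hmid A B C hcardA hcardB hcardC h.1 h.2) sAB
        (Finset.subset_union_right.trans Finset.subset_union_left) Finset.subset_union_right
    have d2 : Disjoint B A ∨ Disjoint A C := by
      by_contra h; push Not at h
      exact hall (B ∪ A ∪ C) (hmid B A C hcardB hcardA hcardC h.1 h.2)
        (Finset.subset_union_right.trans Finset.subset_union_left)
        (Finset.subset_union_left.trans Finset.subset_union_left) Finset.subset_union_right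
    have d3 : Disjoint A C ∨ Disjoint C B := by
      by_contra h; push Not at h
      exact hall (A ∪ C ∪ B) (hmid A C B hcardA hcardC hcardB h.1 h.2)
        (Finset.subset_union_left.trans Finset.subset_union_left) Finset.subset_union_right
        (Finset.subset_union_right.trans Finset.subset_union_left)
    have hT : ∀ (u v s t : Fin n) (q : Equiv.Perm (Fin n)),
        q ∈ ({Equiv.swap u v, Equiv.swap s t} : Set (Equiv.Perm (Fin n))) →
        ∀ x, x ∉ ({u, v} : Finset (Fin n)) ∪ {s, t} → q x = x := by
      rintro u v s t q (rfl | rfl) x hx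
      · exact hfix _ _ x _ Finset.subset_union_left hx
      · exact hfix _ _ x _ Finset.subset_union_right hx
    -- one of them commutes with the two others
    by_cases hab : Disjoint A B
    · by_cases hac : Disjoint A C
      · exact solvable_commuting (hcomm _ _ _ _ hab) (hcomm _ _ _ _ hac) _ (hunion B C hcardB hcardC) (hT b1 b2 c1 c2)
      · have hbc : Disjoint C B := d3.resolve_left hac
        have h := solvable_commuting (hcomm _ _ _ _ hab.symm) (hcomm _ _ _ _ hbc.symm) _ (hunion A C hcardA hcardC) (hT a1 a2 c1 c2)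
        rwa [Set.insert_comm] at h
    · have hbc : Disjoint B C := d1.resolve_left hab
      have hac : Disjoint A C := d2.resolve_left fun h => hab h.symm
      have h := solvable_commuting (hcomm _ _ _ _ hac.symm) (hcomm _ _ _ _ hbc.symm) _ (hunion A B hcardA hcardB) (hT a1 a2 b1 b2)
      rwa [Set.insert_comm, Set.pair_comm (Equiv.swap c1 c2) (Equiv.swap b1 b2)] at h

end Cfsg.Agent.S4337
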