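import Cfsg.Statements.S4341
import Cfsg.Agent.Lib.SylowCount
-- import your own Cfsg.Agent.* helpers here

set_option autoImplicit false
open Cfsg

namespace Cfsg.Agent.S4341

open Subgroup CfsgLib

/-- Let K be a normal subgroup of a finite group G, p a prime and P a Sylow p-subgroup of G; let N be the normalizer of P ∩ K inside the subgroup PK. Then the number of Sylow p-subgroups of G equals the product of the numbers of Sylow p-subgroups of G/K, of K, and of N/(P ∩ K). (The normality of P ∩ K in N, which always holds, is assumed as a hypothesis so that the quotient can be formed.) -/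
theorem result {G : Type*} [Group G] [Finite G]
    (p : ℕ) [Fact p.Prime] (K : Subgroup G) [K.Normal] (P : Sylow p G) (N : Subgroup G)
    (hN : N = ((P : Subgroup G) ⊔ K) ⊓ Subgroup.normalizer (((P : Subgroup G) ⊓ K : Subgroup G) : Set G))
    [hn : (((P : Subgroup G) ⊓ K).subgroupOf N).Normal] :
    Nat.card (Sylow p G) =
      Nat.card (Sylow p (G ⧸ K)) * Nat.card (Sylow p K) * Nat.card (Sylow p (N ⧸ ((P : Subgroup G) ⊓ K).subgroupOf N)) := by
  set L := Subgroup.normalizer ((P : Subgroup G) : Set G) with hL
  set D := (P : Subgroup G) ⊓ K with hD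
  set ND := Subgroup.normalizer ((D : Subgroup G) : Set G) with hND
  have hLD : L ⊓ K ≤ ND := by
    rintro k ⟨hkL, hkK⟩
    rw [hND, Subgroup.mem_normalizer_iff]
    intro x
    constructor
    · rintro ⟨hxP, hxK⟩
      exact ⟨(Subgroup.mem_normalizer_iff.mp hkL x).mp hxP, Subgroup.Normal.conj_mem inferInstance x hxK k⟩
    · rintro ⟨hxP, hxK⟩
      refine ⟨(Subgroup.mem_normalizer_iff.mp hkL x).mpr hxP, ?_⟩
      have := Subgroup.Normal.conj_mem (inferInstance : K.Normal) _ hxK k⁻¹
      simpa [mul_assoc] using this
  have hK : Nat.card (Sylow p K) = ND.relIndex K := by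
    rw [(sylowInfNormal P K).card_eq_index_normalizer]
    show (Subgroup.normalizer ((((P : Subgroup G).subgroupOf K) : Subgroup K) : Set K)).index = _
    have e : Subgroup.normalizer ((((P : Subgroup G).subgroupOf K) : Subgroup K) : Set K) =
        ND.subgroupOf K := by
      rw [← Subgroup.inf_subgroupOf_right]
      exact (Subgroup.subgroupOf_normalizer_eq (inf_le_right : D ≤ K)).symm
    rw [e]
    rfl
  have hPN : (P : Subgroup G) ≤ N := by
    rw [hN]
    refine le_inf le_sup_left fun x hx => ?_
    rw [Subgroup.mem_normalizer_iff]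
    intro y
    constructor
    · rintro ⟨hyP, hyK⟩
      exact Subgroup.mem_inf.mpr ⟨mul_mem (mul_mem hx hyP) ((P : Subgroup G).inv_mem hx),
        Subgroup.Normal.conj_mem inferInstance y hyK x⟩
    · rintro ⟨hyP, hyK⟩
      refine Subgroup.mem_inf.mpr ⟨?_, ?_⟩
      · have := mul_mem (mul_mem ((P : Subgroup G).inv_mem hx) hyP) hx
        rwa [show x⁻¹ * (x * y * x⁻¹) * x = y by group] at this
      · have := Subgroup.Normal.conj_mem (inferInstance : K.Normal) _ hyK x⁻¹
        simpa [mul_assoc] using this
  have hNK : N ⊓ K = ND ⊓ K := by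
    rw [hN]
    exact le_antisymm (inf_le_inf_right K inf_le_right)
      (le_inf (le_inf (inf_le_right.trans le_sup_right) inf_le_left) inf_le_right)
  set P' : Sylow p N := P.subtype hPN with hP'
  have hquot : Nat.card (Sylow p (N ⧸ D.subgroupOf N)) = L.relIndex (ND ⊓ K) := by
    have hle : D.subgroupOf N ≤ Subgroup.normalizer ((P' : Subgroup N) : Set N) := by
      intro x hx
      exact Subgroup.le_normalizer (show x ∈ (P' : Subgroup N) from hx.1)
    rw [← index_normalizer_sup P' (D.subgroupOf N), sup_eq_left.mpr hle]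
    have e1 : Subgroup.normalizer ((P' : Subgroup N) : Set N) = L.subgroupOf N := by
      rw [hP', Sylow.coe_subtype]
      exact (Subgroup.subgroupOf_normalizer_eq hPN).symm
    rw [e1]
    have hn' : (K.subgroupOf N).Normal := inferInstance
    have htop : L.subgroupOf N ⊔ K.subgroupOf N = ⊤ := by
      rw [eq_top_iff]
      intro x _
      have hx := x.2
      simp only [hN] at hx
      obtain ⟨a, ha, b, hb, hab⟩ := Subgroup.mem_sup_of_normal_right.mp hx.1
      have ha' : a ∈ N := hPN ha
      have hb' : b ∈ N := by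
        have hbab : b = a⁻¹ * (x : G) := by rw [← hab]; group
        rw [hbab]
        exact mul_mem (inv_mem ha') x.2
      have : x = ⟨a, ha'⟩ * ⟨b, hb'⟩ := Subtype.ext hab.symm
      rw [this]
      exact mul_mem (Subgroup.mem_sup_left (Subgroup.le_normalizer ha)) (Subgroup.mem_sup_right hb)
    rw [← Subgroup.relIndex_top_right, ← htop, relIndex_sup_normal_eq, ← hNK]
    rw [← Subgroup.inf_subgroupOf_left K N, Subgroup.relIndex_subgroupOf inf_le_left]
  rw [card_sylow_eq_mul_relIndex P K, hK, hquot, mul_assoc]
  congr 1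
  rw [← Subgroup.inf_relIndex_right ND K, mul_comm,
    ← Subgroup.inf_relIndex_right L K, ← Subgroup.inf_relIndex_right L (ND ⊓ K)]
  rw [show L ⊓ (ND ⊓ K) = L ⊓ K from le_antisymm (le_inf inf_le_left (inf_le_right.trans inf_le_right))
    (le_inf inf_le_left (le_inf hLD inf_le_right))]
  exact (Subgroup.relIndex_mul_relIndex _ _ _ (le_inf hLD inf_le_right) inf_le_right).symm

end Cfsg.Agent.S4341
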