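import Cfsg.Statements.S4343
import Mathlib
import Cfsg.Agent.S1009
-- import your own Cfsg.Agent.* helpers here

set_option autoImplicit false
open Cfsg

namespace Cfsg.Agent.S4343

open scoped commutatorElement

/-- Let S be a finite non-abelian simple group and p a prime dividing its order. If S has fewer than p² Sylow p-subgroups, then its Sylow p-subgroups have order p. -/
theorem result {S : Type*} [Group S] [Finite S]
    [IsSimpleGroup S] (hS : ¬ IsMulCommutative S) (p : ℕ) [Fact p.Prime] (hp : p ∣ Nat.card S)
    (hn : Nat.card (Sylow p S) < p ^ 2) (P : Sylow p S) : Nat.card P = p := by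
  classical
  have hp' : p.Prime := Fact.out
  -- the orbits of a Sylow subgroup on Sylow subgroups are short
  have horb : ∀ P R : Sylow p S, (MulAction.stabilizer (P : Subgroup S) R).index = 1 ∨
      (MulAction.stabilizer (P : Subgroup S) R).index = p := by
    intro P R
    have h1 : (MulAction.stabilizer (P : Subgroup S) R).index < p ^ 2 := by
      rw [MulAction.index_stabilizer]
      refine lt_of_le_of_lt ?_ hn
      rw [← Nat.card_univ (α := Sylow p S)]
      exact Nat.card_mono Set.finite_univ (Set.subset_univ _)
    obtain ⟨k, hk⟩ := P.2.index (MulAction.stabilizer (P : Subgroup S) R)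
    rw [hk, Nat.pow_lt_pow_iff_right hp'.one_lt] at h1
    interval_cases k <;> simp [hk]
  -- only the identity fixes every Sylow subgroup
  have hker : ∀ g : S, (∀ R : Sylow p S, g • R = R) → g = 1 := by
    intro g hg
    let K := (MulAction.toPermHom S (Sylow p S)).ker
    have hgK : g ∈ K := by rw [MonoidHom.mem_ker]; exact Equiv.ext hg
    rcases IsSimpleGroup.eq_bot_or_eq_top_of_normal K inferInstance with h | h
    · exact Subgroup.mem_bot.mp (h ▸ hgK)
    · exfalso
      have hsub : Subsingleton (Sylow p S) := ⟨fun A B => by
        obtain ⟨x, rfl⟩ := MulAction.exists_smul_eq S A B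
        have hx : x ∈ K := h ▸ Subgroup.mem_top x
        exact (Equiv.congr_fun (MonoidHom.mem_ker.mp hx) A).symm⟩
      have hnor : (P : Subgroup S).Normal := Sylow.normal_of_subsingleton P
      rcases IsSimpleGroup.eq_bot_or_eq_top_of_normal (P : Subgroup S) hnor with h' | h'
      · exact P.ne_bot_of_dvd_card hp h'
      · have : IsPGroup p S := (P.2.of_equiv ((MulEquiv.subgroupCongr h').trans Subgroup.topEquiv))
        have hnt : Nontrivial S := IsSimpleGroup.toNontrivial
        have := this.center_nontrivial
        rcases IsSimpleGroup.eq_bot_or_eq_top_of_normal (Subgroup.center S) inferInstance with hc | hc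
        · exact (Subgroup.nontrivial_iff_ne_bot _).mp this hc
        · exact hS ⟨⟨fun a b => (Subgroup.mem_center_iff.mp (hc ▸ Subgroup.mem_top a) b).symm⟩⟩
  have hab : ∀ P : Sylow p S, IsMulCommutative ↥(P : Subgroup S) := by
    intro P
    refine ⟨⟨fun a b => ?_⟩⟩
    rw [← commutatorElement_eq_one_iff_mul_comm]
    refine Subtype.ext (hker _ fun R => ?_)
    set T := MulAction.stabilizer (P : Subgroup S) R
    have hT : ⁅a, b⁆ ∈ T := by
      rcases horb P R with h | h
      · rw [Subgroup.index_eq_one] at h
        rw [show T = ⊤ from h]; exact Subgroup.mem_top _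
      · have : Fact p.Prime := inferInstance
        have hTn : T.Normal := by
          refine Subgroup.normal_of_index_eq_minFac_card ?_
          rw [h]
          obtain ⟨k, hk⟩ := P.2.exists_card_eq
          rw [hk]
          rcases Nat.eq_zero_or_pos k with rfl | hk0
          · have := T.index_dvd_card
            rw [h, hk, pow_zero, Nat.dvd_one] at this
            exact absurd this hp'.ne_one
          · rw [Nat.pow_minFac hk0.ne', hp'.minFac_eq]
        have hc : IsCyclic ((P : Subgroup S) ⧸ T) := isCyclic_of_prime_card (p := p) h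
        have hc' := hc.isMulCommutative
        rw [← QuotientGroup.eq_one_iff, ← QuotientGroup.mk'_apply, map_commutatorElement,
          commutatorElement_eq_one_iff_mul_comm]
        exact hc'.is_comm.comm _ _
    exact MulAction.mem_stabilizer_iff.mp hT
  obtain ⟨A, B, hAB⟩ := Cfsg.Agent.S1009.result p hab
  have hAB' : (A : Subgroup S) ⊓ (B : Subgroup S) = ⊥ := by
    rw [hAB, eq_bot_iff]
    intro g hg
    refine Subgroup.mem_bot.mpr (hker g fun R => ?_)
    rw [Sylow.smul_eq_iff_mem_normalizer]
    exact Subgroup.le_normalizer (Subgroup.mem_iInf.mp hg R)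
  have hst : MulAction.stabilizer (A : Subgroup S) B = ⊥ := by
    rw [eq_bot_iff]
    intro x hx
    have hx' : (x : S) ∈ Subgroup.normalizer ((B : Subgroup S) : Set S) :=
      Sylow.smul_eq_iff_mem_normalizer.mp hx
    have : (x : S) ∈ (A : Subgroup S) ⊓ (B : Subgroup S) := by
      rw [← A.2.inf_normalizer_sylow B]
      exact ⟨x.2, hx'⟩
    rw [hAB', Subgroup.mem_bot] at this
    exact Subgroup.mem_bot.mpr (Subtype.ext this)
  have hA : Nat.card A = p := by
    have h := horb A B
    rw [hst, Subgroup.index_bot] at h
    exact h.resolve_left (fun h1 => A.ne_bot_of_dvd_card hp (Subgroup.card_eq_one.mp h1))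
  exact (Nat.card_congr (P.equiv A).toEquiv).trans hA

end Cfsg.Agent.S4343
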