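import Cfsg.Statements.S4344
import Mathlib
-- import your own Cfsg.Agent.* helpers here

set_option autoImplicit false
open Cfsg

namespace Cfsg.Agent.S4344

/-- Let S be a finite non-abelian simple group, M a maximal subgroup of S and C a cyclic normal subgroup of M. If a Sylow p-subgroup P of S (for a prime p dividing the order of S) is contained in C, then the number of Sylow p-subgroups of S equals the index of M. -/
theorem result {S : Type*} [Group S] [Finite S]
    [IsSimpleGroup S] (hS : ¬ IsMulCommutative S) (p : ℕ) [Fact p.Prime] (hp : p ∣ Nat.card S)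
    (M : Subgroup S) (hM : IsCoatom M) (C : Subgroup S) (hCM : C ≤ M) (hCn : (C.subgroupOf M).Normal)
    (hC : IsCyclic C) (P : Sylow p S) (hP : (P : Subgroup S) ≤ C) :
    Nat.card (Sylow p S) = M.index := by
  classical
  have hp' : p.Prime := Fact.out
  have hPne : (P : Subgroup S) ≠ ⊥ := by
    intro e
    have h1 := P.dvd_card_of_dvd_card hp
    rw [e, Subgroup.card_bot] at h1
    exact hp'.ne_one (Nat.dvd_one.mp h1)
  have hle : M ≤ Subgroup.normalizer ((P : Subgroup S) : Set S) := by
    intro m hm
    have hPC : ∀ w ∈ C, ((∃ k, orderOf w = p ^ k) ↔ w ∈ (P : Subgroup S)) := by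
      intro w hw
      constructor
      · rintro ⟨k, hk⟩
        have hc : IsMulCommutative C := inferInstance
        have hn : w ∈ Subgroup.normalizer ((P : Subgroup S) : Set S) := by
          apply Subgroup.centralizer_le_normalizer
          exact Subgroup.mem_centralizer_iff.mpr fun u hu =>
            congrArg Subtype.val (hc.is_comm.comm ⟨u, hP hu⟩ ⟨w, hw⟩)
        have hsup : IsPGroup p ↥((P : Subgroup S) ⊔ Subgroup.zpowers w) :=
          IsPGroup.to_sup_of_normal_left' P.isPGroup' (IsPGroup.of_card (by rw [Nat.card_zpowers, hk]))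
            (Subgroup.zpowers_le.mpr hn)
        rw [← P.is_maximal' hsup le_sup_left]
        exact Subgroup.mem_sup_right (Subgroup.mem_zpowers w)
      · intro hwP
        obtain ⟨k, hk⟩ := IsPGroup.iff_orderOf.mp P.isPGroup' ⟨w, hwP⟩
        exact ⟨k, by rwa [Subgroup.orderOf_mk] at hk⟩
    have key : ∀ m ∈ M, ∀ w ∈ (P : Subgroup S), m * w * m⁻¹ ∈ (P : Subgroup S) := by
      intro m hm w hw
      have hC' : m * w * m⁻¹ ∈ C := hCn.conj_mem ⟨w, hCM (hP hw)⟩ (hP hw) ⟨m, hm⟩
      refine (hPC _ hC').mp ?_
      obtain ⟨k, hk⟩ := (hPC w (hP hw)).mpr hw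
      exact ⟨k, hk ▸ MulEquiv.orderOf_eq (MulAut.conj m) w⟩
    rw [Subgroup.mem_normalizer_iff]
    refine fun w => ⟨key m hm w, fun h => ?_⟩
    simpa [mul_assoc] using key m⁻¹ (inv_mem hm) _ h
  have hN : Subgroup.normalizer ((P : Subgroup S) : Set S) ≠ ⊤ := by
    intro e
    rcases (Subgroup.normalizer_eq_top_iff.mp e).eq_bot_or_eq_top with h | h
    · exact hPne h
    · exact hM.1 (top_le_iff.mp ((h ▸ hP).trans hCM))
  rcases hM.le_iff.mp hle with h | h
  · exact absurd h hN
  · exact (Sylow.card_eq_index_normalizer P).trans (congrArg Subgroup.index h)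

end Cfsg.Agent.S4344
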