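import Cfsg.Statements.S4345
import Cfsg.Agent.Lib.SylowCount
import Cfsg.Agent.Lib.Elementary
-- import your own Cfsg.Agent.* helpers here

set_option autoImplicit false
open Cfsg

namespace Cfsg.Agent.S4345

open Subgroup MulAction CfsgLib

universe u

theorem modEq_one_relIndex {G : Type u} [Group G] [Finite G] {p q : ℕ} [hp : Fact p.Prime]
    (hq : q.Prime) (P : Sylow p G) (M : Subgroup G) [hM : M.Normal] (hMq : IsPGroup q M) :
    ∃ c, (Subgroup.normalizer ((P : Subgroup G) : Set G)).relIndex M = q ^ c ∧ q ^ c ≡ 1 [MOD p] := by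
  have := Fact.mk hq
  obtain ⟨a, ha⟩ := hMq.exists_card_eq
  obtain ⟨c, -, hc⟩ := (Nat.dvd_prime_pow hq).mp (ha ▸ Subgroup.relIndex_dvd_card
    (Subgroup.normalizer ((P : Subgroup G) : Set G)) M)
  refine ⟨c, hc, ?_⟩
  rcases eq_or_ne c 0 with rfl | hc0
  · rw [pow_zero]
  have hne : ¬ M ≤ Subgroup.normalizer ((P : Subgroup G) : Set G) := fun h => by
    rw [Subgroup.relIndex_eq_one.mpr h] at hc
    exact absurd hc.symm (Nat.one_lt_pow hc0 hq.one_lt).ne'
  have hqp : q ≠ p := by
    rintro rfl
    apply hne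
    have h := hMq.to_sup_of_normal_left P.2
    have hPM := P.3 h le_sup_right
    exact fun m hm => Subgroup.le_normalizer (hPM ▸ Subgroup.mem_sup_left hm)
  have hPM : (P : Subgroup G) ⊓ M = ⊥ := by
    rw [← Subgroup.card_eq_one]
    obtain ⟨i, hi⟩ := (P.2.to_le (inf_le_left : (P : Subgroup G) ⊓ M ≤ P)).exists_card_eq
    obtain ⟨j, hj⟩ := (hMq.to_le (inf_le_right : (P : Subgroup G) ⊓ M ≤ M)).exists_card_eq
    exact Nat.eq_one_of_dvd_coprimes
      (Nat.Coprime.pow i j ((Nat.coprime_primes hp.out hq).mpr hqp.symm)) hi.dvd hj.dvd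
  let _ : MulAction P M := MulAction.compHom M
    ((MulAut.conjNormal (H := M)).comp (P : Subgroup G).subtype)
  have hsmul : ∀ (x : P) (m : M), ((x • m : M) : G) = (x : G) * m * (x : G)⁻¹ := fun x m => rfl
  have hfix : Nat.card (fixedPoints P M) =
      Nat.card ((Subgroup.normalizer ((P : Subgroup G) : Set G)).subgroupOf M) := by
    refine Nat.card_congr (Equiv.subtypeEquivRight fun m => ?_)
    rw [MulAction.mem_fixedPoints, Subgroup.mem_subgroupOf]
    constructor
    · intro h
      refine Subgroup.centralizer_le_normalizer _ fun x hx => ?_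
      have h1 := congrArg Subtype.val (h ⟨x, hx⟩)
      rw [hsmul] at h1
      exact mul_inv_eq_iff_eq_mul.mp h1
    · intro h x
      apply Subtype.ext
      rw [hsmul, ← commute_of_mem_normalizer P M hPM m.2 h x.2, mul_inv_cancel_right]
  have hmod := P.2.card_modEq_card_fixedPoints M
  rw [hfix] at hmod
  have hmul := ((Subgroup.normalizer ((P : Subgroup G) : Set G)).subgroupOf M).card_mul_index
  change _ * (Subgroup.normalizer ((P : Subgroup G) : Set G)).relIndex M = _ at hmul
  rw [hc] at hmul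
  rw [← hmul] at hmod
  refine Nat.ModEq.cancel_left_of_coprime ?_
    (hmod.trans (by rw [mul_one]))
  obtain ⟨i, hi⟩ := (hMq.to_subgroup ((Subgroup.normalizer ((P : Subgroup G) : Set G)).subgroupOf M)).exists_card_eq
  rw [hi]
  exact ((Nat.coprime_primes hp.out hq).mpr hqp.symm).pow_right i

theorem main {p ℓ : ℕ} [hp : Fact p.Prime] (hℓ : ℓ.Prime) : ∀ n, ∀ (G : Type u) [Group G] [Finite G],
    Nat.card G = n → Group.IsSolvable G → ℓ ^ (Nat.card (Sylow p G)).factorization ℓ ≡ 1 [MOD p] := by
  intro n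
  induction n using Nat.strong_induction_on with
  | _ n ih =>
  intro G _ _ hn hs
  subst hn
  obtain ⟨P⟩ : Nonempty (Sylow p G) := inferInstance
  rcases subsingleton_or_nontrivial G with h | h
  · have : Nat.card (Sylow p G) = 1 := by
      rw [P.card_eq_index_normalizer]
      exact Subgroup.index_eq_one.mpr (Subsingleton.elim _ _)
    rw [this, Nat.factorization_one, Finsupp.zero_apply, pow_zero]
  obtain ⟨M, hMn, -, hM1, hMmin⟩ := CfsgLib.exists_minimal_normal (N := (⊤ : Subgroup G)) top_ne_bot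
  obtain ⟨-, q, hq, hMq⟩ := CfsgLib.minimal_normal_elementary hM1 inferInstance hMmin
  obtain ⟨c, hc, hmod⟩ := modEq_one_relIndex hq P M
    (fun m => ⟨1, Subtype.ext (by simpa using hMq m m.2)⟩)
  have hrec := ih _ (card_quotient_lt_of_ne_bot hM1) (G ⧸ M) rfl inferInstance
  rw [card_sylow_eq_mul_relIndex P M, hc, Nat.factorization_mul Nat.card_pos.ne' (pow_ne_zero _ hq.ne_zero),
    Finsupp.add_apply, hq.factorization_pow, pow_add]
  by_cases hql : q = ℓ
  · subst hql
    rw [Finsupp.single_eq_same]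
    exact (hrec.mul hmod).trans (by rw [mul_one])
  · rw [Finsupp.single_eq_of_ne (Ne.symm hql), pow_zero, mul_one]
    exact hrec

/-- Let G be a finite solvable group and p, ℓ primes. Then the largest power of ℓ dividing the number of Sylow p-subgroups of G is congruent to 1 modulo p. -/
theorem result {G : Type*} [Group G] [Finite G]
    (hG : Group.IsSolvable G) (p ℓ : ℕ) [Fact p.Prime] (hℓ : ℓ.Prime) :
    ℓ ^ (Nat.card (Sylow p G)).factorization ℓ ≡ 1 [MOD p] := by
  exact main hℓ _ G rfl hG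

end Cfsg.Agent.S4345
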