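import Cfsg.Statements.S4346
import Mathlib
-- import your own Cfsg.Agent.* helpers here

set_option autoImplicit false
open Cfsg

namespace Cfsg.Agent.S4346

open scoped Pointwise
open MulAction

variable {G : Type*} [Group G]

/-- The size of the orbit of one Sylow subgroup under another. -/
theorem orbit_eq [Finite G] (hcard : Nat.card (Sylow 3 G) = 22) {P Q : Sylow 3 G} (h : Q ≠ P) :
    ∃ k, 1 ≤ k ∧ k ≤ 2 ∧
      Nat.card (orbit ↥(P : Subgroup G) Q) = 3 ^ k ∧
      (((P : Subgroup G) ⊓ Q).subgroupOf (P : Subgroup G)).index = 3 ^ k ∧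
      Nat.card ↥(P : Subgroup G) = 3 ^ k * Nat.card ↥((P : Subgroup G) ⊓ (Q : Subgroup G) : Subgroup G) ∧
      stabilizer ↥(P : Subgroup G) Q = ((P : Subgroup G) ⊓ Q).subgroupOf (P : Subgroup G) ∧
      P ∉ orbit ↥(P : Subgroup G) Q := by
  classical
  have : Fact (Nat.Prime 3) := ⟨by norm_num⟩
  have hstab : stabilizer ↥(P : Subgroup G) Q = ((P : Subgroup G) ⊓ Q).subgroupOf (P : Subgroup G) := by
    rw [← P.2.inf_normalizer_sylow Q]
    ext g
    rw [mem_stabilizer_iff, Subgroup.mem_subgroupOf]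
    exact ⟨fun h => ⟨g.2, Sylow.smul_eq_iff_mem_normalizer.mp h⟩, fun h => Sylow.smul_eq_iff_mem_normalizer.mpr h.2⟩
  have hnot : P ∉ orbit ↥(P : Subgroup G) Q := by
    rintro ⟨g, hg⟩
    have hg' : (g : G) • Q = P := hg
    exact h (smul_left_cancel _ (hg'.trans (Sylow.smul_eq_iff_mem_normalizer.mpr (Subgroup.le_normalizer g.2)).symm))
  obtain ⟨k, hk⟩ := P.2.card_orbit Q
  have hlt : 3 ^ k < 22 := by
    rw [← hk, Nat.card_coe_set_eq, ← hcard]
    exact Set.ncard_lt_card fun he => hnot (he ▸ Set.mem_univ P)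
  have hk1 : 1 ≤ k := by
    by_contra hk0
    rw [show k = 0 by omega, pow_zero] at hk
    refine h (Sylow.ext (P.3 Q.2 ?_))
    rw [← inf_eq_left, ← P.2.inf_normalizer_sylow Q, inf_eq_left]
    intro g hg
    have hsub := (Nat.card_eq_one_iff_unique.mp hk).1
    exact Sylow.smul_eq_iff_mem_normalizer.mp (congrArg Subtype.val
      (hsub.elim ⟨(⟨g, hg⟩ : ↥(P : Subgroup G)) • Q, mem_orbit Q _⟩ ⟨Q, mem_orbit_self Q⟩))
  have hk2 : k ≤ 2 := by
    by_contra hk3
    have := Nat.pow_le_pow_right (show 0 < 3 by norm_num) (show 3 ≤ k by omega)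
    omega
  have hidx : (((P : Subgroup G) ⊓ Q).subgroupOf (P : Subgroup G)).index = 3 ^ k := by
    rw [← hstab, ← hk, Subgroup.index]
    exact (Nat.card_congr (orbitEquivQuotientStabilizer _ Q)).symm
  refine ⟨k, hk1, hk2, hk, hidx, ?_, hstab, hnot⟩
  rw [← Subgroup.card_mul_index (((P : Subgroup G) ⊓ Q).subgroupOf (P : Subgroup G)), hidx, Nat.mul_comm,
    Nat.card_congr (Subgroup.subgroupOfEquivOfLe inf_le_left).toEquiv]

/-- Two Sylow subgroups meeting in a subgroup of index three. -/
def Adj (P Q : Sylow 3 G) : Prop :=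
  Nat.card ↥(P : Subgroup G) = 3 * Nat.card ↥((P : Subgroup G) ⊓ (Q : Subgroup G) : Subgroup G)

/-- `D` is such an intersection. -/
def IsEdge (D : Subgroup G) : Prop := ∃ P Q : Sylow 3 G, Adj P Q ∧ D = (P : Subgroup G) ⊓ Q

theorem adj_symm [Finite G] {P Q : Sylow 3 G} (h : Adj P Q) : Adj Q P := by
  have : Fact (Nat.Prime 3) := ⟨by norm_num⟩
  unfold Adj at h ⊢
  rwa [inf_comm, Q.card_eq_multiplicity, ← P.card_eq_multiplicity]

theorem adj_ne [Finite G] {P Q : Sylow 3 G} (h : Adj P Q) : Q ≠ P := by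
  rintro rfl
  unfold Adj at h
  rw [inf_idem] at h
  have := Nat.card_pos (α := ↥(Q : Subgroup G))
  omega

/-- Any two Sylow subgroups over an edge meet in it. -/
theorem inf_eq_edge [Finite G] (hcard : Nat.card (Sylow 3 G) = 22) {D : Subgroup G} (hD : IsEdge D)
    {S T : Sylow 3 G} (hS : D ≤ S) (hT : D ≤ T) (hne : T ≠ S) : (S : Subgroup G) ⊓ T = D ∧ Adj S T := by
  have : Fact (Nat.Prime 3) := ⟨by norm_num⟩
  obtain ⟨P, Q, hPQ, rfl⟩ := hD
  have hc : Nat.card ↥(S : Subgroup G) = 3 * Nat.card ↥((P : Subgroup G) ⊓ (Q : Subgroup G) : Subgroup G) := by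
    rw [S.card_eq_multiplicity, ← P.card_eq_multiplicity]; exact hPQ
  obtain ⟨k, hk1, -, -, -, hk, -, -⟩ := orbit_eq hcard hne
  have hle : Nat.card ↥((P : Subgroup G) ⊓ (Q : Subgroup G) : Subgroup G) ≤
      Nat.card ↥((S : Subgroup G) ⊓ (T : Subgroup G) : Subgroup G) := Subgroup.card_le_of_le (le_inf hS hT)
  have h3 : 3 ≤ 3 ^ k := Nat.le_self_pow (by omega) 3
  have heq : (P : Subgroup G) ⊓ Q = (S : Subgroup G) ⊓ T := by
    refine Subgroup.eq_of_le_of_card_ge (le_inf hS hT) ?_
    have := Nat.mul_le_mul_right (Nat.card ↥((S : Subgroup G) ⊓ (T : Subgroup G) : Subgroup G)) h3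
    omega
  refine ⟨heq.symm, ?_⟩
  unfold Adj
  rw [hc, heq]

theorem edge_of_adj {P Q : Sylow 3 G} (h : Adj P Q) : IsEdge ((P : Subgroup G) ⊓ Q) := ⟨P, Q, h, rfl⟩

theorem edge_smul [Finite G] (hcard : Nat.card (Sylow 3 G) = 22) {D : Subgroup G} (hD : IsEdge D)
    {S : Sylow 3 G} (hS : D ≤ S) {g : G} (hg : g ∈ (S : Subgroup G)) : ∀ x ∈ D, g * x * g⁻¹ ∈ D := by
  have : Fact (Nat.Prime 3) := ⟨by norm_num⟩
  obtain ⟨P, Q, hPQ, rfl⟩ := hD
  have hidx : (((P : Subgroup G) ⊓ Q).subgroupOf (S : Subgroup G)).index = 3 := by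
    have h1 := Subgroup.card_mul_index (((P : Subgroup G) ⊓ Q).subgroupOf (S : Subgroup G))
    rw [Nat.card_congr (Subgroup.subgroupOfEquivOfLe hS).toEquiv, S.card_eq_multiplicity, ← P.card_eq_multiplicity,
      show Nat.card ↥(P : Subgroup G) = _ from hPQ, Nat.mul_comm 3] at h1
    exact Nat.eq_of_mul_eq_mul_left Nat.card_pos h1
  have hn : (((P : Subgroup G) ⊓ Q).subgroupOf (S : Subgroup G)).Normal := by
    refine Subgroup.normal_of_index_eq_minFac_card ?_
    rw [hidx]
    obtain ⟨k, hk⟩ := IsPGroup.iff_card.mp S.2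
    rw [hk]
    have hk0 : k ≠ 0 := by
      rintro rfl
      have h1 := (((P : Subgroup G) ⊓ Q).subgroupOf (S : Subgroup G)).index_dvd_card
      rw [hidx, hk] at h1
      norm_num at h1
    rw [Nat.pow_minFac hk0]
    norm_num
  intro x hx
  exact hn.conj_mem ⟨x, hS hx⟩ hx ⟨g, hg⟩

/-- The points over a subgroup. -/
def line (D : Subgroup G) : Set (Sylow 3 G) := {S | D ≤ S}

/-- An edge meeting a third of each Sylow subgroup lies in all of them. -/
theorem exists_edge_all [Finite G] (hcard : Nat.card (Sylow 3 G) = 22) :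
    ∃ P Q : Sylow 3 G, Q ≠ P ∧ Adj P Q ∧ ∀ S : Sylow 3 G, (P : Subgroup G) ⊓ Q ≤ S := by
  classical
  have : Fact (Nat.Prime 3) := ⟨by norm_num⟩
  have := Fintype.ofFinite (Sylow 3 G)
  have := Fintype.ofFinite (Subgroup G)
  have hX : Fintype.card (Sylow 3 G) = 22 := by rw [← Nat.card_eq_fintype_card, hcard]
  -- lines through a point
  let Es : Sylow 3 G → Finset (Subgroup G) := fun P => Finset.univ.filter fun D => IsEdge D ∧ D ≤ (P : Subgroup G)
  let L : Subgroup G → Finset (Sylow 3 G) := fun D => Finset.univ.filter fun S => D ≤ (S : Subgroup G)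
  let N : Sylow 3 G → Finset (Sylow 3 G) := fun P => Finset.univ.filter fun S => Adj P S
  have hmemL : ∀ D (S : Sylow 3 G), S ∈ L D ↔ D ≤ (S : Subgroup G) := fun D S => by simp [L]
  have hmemE : ∀ (P : Sylow 3 G) D, D ∈ Es P ↔ IsEdge D ∧ D ≤ (P : Subgroup G) := fun P D => by simp [Es]
  -- every line minus a point is a union of orbits of length three
  have horb3 : ∀ P S : Sylow 3 G, Adj P S → Nat.card (orbit ↥(P : Subgroup G) S) = 3 := by
    intro P S h
    obtain ⟨k, -, -, hk, -, hk', -, -⟩ := orbit_eq hcard (adj_ne h)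
    rw [show Nat.card ↥(P : Subgroup G) = _ from h] at hk'
    rw [hk]
    exact (Nat.eq_of_mul_eq_mul_right Nat.card_pos hk').symm
  have hline : ∀ P D, D ∈ Es P → ∃ j, 1 ≤ j ∧ (L D).card = 3 * j + 1 := by
    intro P D hD
    obtain ⟨hDe, hDP⟩ := (hmemE P D).mp hD
    have hPL : P ∈ L D := (hmemL D P).mpr hDP
    set U := (L D).erase P with hU
    have hUs : ∀ S ∈ U, Adj P S ∧ (P : Subgroup G) ⊓ S = D := fun S hS => by
      rw [hU, Finset.mem_erase, hmemL] at hS
      exact (inf_eq_edge hcard hDe hDP hS.2 hS.1).symm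
    let r : Setoid (Sylow 3 G) := orbitRel ↥(P : Subgroup G) (Sylow 3 G)
    have hfib : ∀ S ∈ U, (U.filter fun T => (Quotient.mk r T) = Quotient.mk r S).card = 3 := by
      intro S hS
      refine Eq.trans ?_ (horb3 P S (hUs S hS).1)
      rw [Nat.card_eq_card_toFinset]
      congr 1
      ext T
      rw [Set.mem_toFinset, Finset.mem_filter, Quotient.eq]
      refine ⟨fun h => h.2, fun h => ⟨?_, h⟩⟩
      obtain ⟨g, rfl⟩ := h
      rw [hU, Finset.mem_erase, hmemL]
      refine ⟨fun e => ?_, ?_⟩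
      · obtain ⟨k, -, -, -, -, -, -, hnot⟩ := orbit_eq hcard (adj_ne (hUs S hS).1)
        exact hnot ⟨g, e⟩
      · intro x hx
        have h1 := edge_smul hcard hDe hDP (inv_mem g.2) x hx
        rw [inv_inv] at h1
        have h2 : D ≤ (S : Subgroup G) := (hUs S hS).2 ▸ inf_le_right
        show x ∈ (((g : G) • S : Sylow 3 G) : Subgroup G)
        rw [Sylow.coe_subgroup_smul, Subgroup.mem_pointwise_smul_iff_inv_smul_mem]
        simpa [MulAut.smul_def, mul_assoc] using h2 h1
    refine ⟨(U.image (Quotient.mk r)).card, Finset.card_pos.mpr ?_, ?_⟩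
    · obtain ⟨A, B, hAB, rfl⟩ := hDe
      refine Finset.Nonempty.image ?_ _
      rcases eq_or_ne A P with rfl | hA
      · exact ⟨B, Finset.mem_erase.mpr ⟨adj_ne hAB, (hmemL _ _).mpr inf_le_right⟩⟩
      · exact ⟨A, Finset.mem_erase.mpr ⟨hA, (hmemL _ _).mpr inf_le_left⟩⟩
    · have h1 : U.card = 3 * (U.image (Quotient.mk r)).card := by
        rw [Finset.card_eq_sum_card_image (Quotient.mk r) U, Finset.sum_const_nat (m := 3), Nat.mul_comm]
        intro q hq
        obtain ⟨S, hS, rfl⟩ := Finset.mem_image.mp hq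
        exact hfib S hS
      have h2 := Finset.card_erase_add_one hPL
      rw [← hU] at h2
      omega
  -- the neighbours are split by the lines
  have hsplit : ∀ P, (N P).card = ∑ D ∈ Es P, ((L D).card - 1) := by
    intro P
    have hmem : ∀ S ∈ N P, (P : Subgroup G) ⊓ S ∈ Es P := fun S hS =>
      (hmemE _ _).mpr ⟨edge_of_adj (Finset.mem_filter.mp hS).2, inf_le_left⟩
    rw [Finset.card_eq_sum_card_fiberwise hmem]
    refine Finset.sum_congr rfl fun D hD => ?_
    obtain ⟨hDe, hDP⟩ := (hmemE P D).mp hD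
    rw [← Finset.card_erase_of_mem ((hmemL D P).mpr hDP)]
    congr 1
    ext S
    simp only [N, Finset.mem_filter, Finset.mem_univ, true_and, Finset.mem_erase, hmemL]
    refine ⟨?_, fun h => (inf_eq_edge hcard hDe hDP h.2 h.1).symm⟩
    rintro ⟨h1, rfl⟩
    exact ⟨adj_ne h1, inf_le_right⟩
  have hN21 : ∀ P, (N P).card ≤ 21 := by
    intro P
    have h1 : N P ⊆ Finset.univ.erase P := fun S hS => Finset.mem_erase.mpr ⟨adj_ne (Finset.mem_filter.mp hS).2, Finset.mem_univ _⟩
    exact (Finset.card_le_card h1).trans (by rw [Finset.card_erase_of_mem (Finset.mem_univ P), Finset.card_univ, hX])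
  -- lines of each size, counted twice
  have hconst : ∀ s (P Q : Sylow 3 G), ((Es P).filter fun D => (L D).card = s).card =
      ((Es Q).filter fun D => (L D).card = s).card := by
    intro s P Q
    obtain ⟨g, hg⟩ := MulAction.exists_smul_eq G P Q
    have key : ∀ (g : G) (D : Subgroup G) (P : Sylow 3 G), D ∈ Es P →
        MulAut.conj g • D ∈ Es (g • P) ∧ (L (MulAut.conj g • D)).card = (L D).card := by
      intro g D P hD
      obtain ⟨⟨A, B, hAB, hDe⟩, hDP⟩ := (hmemE P D).mp hD
      refine ⟨(hmemE _ _).mpr ⟨⟨g • A, g • B, ?_, ?_⟩, ?_⟩, ?_⟩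
      · unfold Adj
        rw [Sylow.coe_subgroup_smul, Sylow.coe_subgroup_smul, ← Subgroup.smul_inf, ← Nat.card_congr (Subgroup.equivSMul _ _).toEquiv, ← Nat.card_congr (Subgroup.equivSMul _ _).toEquiv]
        exact hAB
      · rw [Sylow.coe_subgroup_smul, Sylow.coe_subgroup_smul, ← Subgroup.smul_inf, hDe]
      · rw [Sylow.coe_subgroup_smul]
        exact Subgroup.pointwise_smul_le_pointwise_smul_iff.mpr hDP
      · symm
        refine Finset.card_bij (fun S _ => g • S) (fun S hS => ?_) (fun a _ b _ h => smul_left_cancel g h) fun S hS => ?_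
        · rw [hmemL] at hS ⊢
          rw [Sylow.coe_subgroup_smul]
          exact Subgroup.pointwise_smul_le_pointwise_smul_iff.mpr hS
        · refine ⟨g⁻¹ • S, ?_, smul_inv_smul g S⟩
          rw [hmemL] at hS ⊢
          rw [Sylow.coe_subgroup_smul, map_inv, Subgroup.subset_pointwise_smul_iff, inv_inv]
          exact hS
    refine Finset.card_bij (fun D _ => MulAut.conj g • D) (fun D hD => ?_) (fun a _ b _ h => smul_left_cancel _ h) fun D hD => ?_
    · rw [Finset.mem_filter] at hD ⊢
      exact ⟨hg ▸ (key g D P hD.1).1, (key g D P hD.1).2.trans hD.2⟩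
    · rw [Finset.mem_filter] at hD
      refine ⟨MulAut.conj g⁻¹ • D, Finset.mem_filter.mpr ⟨?_, (key g⁻¹ D Q hD.1).2.trans hD.2⟩, by rw [map_inv, smul_inv_smul]⟩
      have := (key g⁻¹ D Q hD.1).1
      rwa [← hg, inv_smul_smul] at this
  have hdvd : ∀ s (P : Sylow 3 G), s ∣ 22 * ((Es P).filter fun D => (L D).card = s).card := by
    intro s P
    have h1 : (∑ Q : Sylow 3 G, ((Es Q).filter fun D => (L D).card = s).card) =
        ∑ D ∈ (Finset.univ : Finset (Subgroup G)).filter (fun D => IsEdge D ∧ (L D).card = s), (L D).card := by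
      rw [Finset.sum_congr rfl fun D _ => Finset.card_eq_sum_ones (L D)]
      rw [Finset.sum_congr rfl fun (Q : Sylow 3 G) _ => Finset.card_eq_sum_ones ((Es Q).filter fun D => (L D).card = s)]
      simp only [Es, Finset.sum_filter, Finset.filter_filter, L]
      rw [Finset.sum_comm]
      refine Finset.sum_congr rfl fun D _ => ?_
      by_cases h : IsEdge D ∧ (L D).card = s
      · rw [if_pos h]
        refine Finset.sum_congr rfl fun Q _ => ?_
        simp only [L] at h
        by_cases hQ : D ≤ (Q : Subgroup G) <;> simp [h.1, h.2, hQ]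
      · rw [if_neg h]
        refine Finset.sum_eq_zero fun Q _ => ?_
        rw [if_neg]
        exact fun hc => h ⟨hc.1.1, hc.2⟩
    rw [Finset.sum_congr rfl (fun Q _ => hconst s Q P), Finset.sum_const, Finset.card_univ, hX, smul_eq_mul,
      Finset.sum_const_nat (m := s) (fun D hD => (Finset.mem_filter.mp hD).2.2)] at h1
    exact ⟨_, h1.trans (Nat.mul_comm _ _)⟩
  obtain ⟨P⟩ : Nonempty (Sylow 3 G) := inferInstance
  -- some edge exists
  have hne : (Es P).Nonempty := by
    by_contra hne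
    have h9 : ∀ S ∈ Finset.univ.erase P, ((Finset.univ.erase P).filter fun T =>
        Quotient.mk (orbitRel ↥(P : Subgroup G) (Sylow 3 G)) T = Quotient.mk _ S).card = 9 := by
      intro S hS
      have hSP := Finset.ne_of_mem_erase hS
      obtain ⟨k, hk1, hk2, hk, -, hk', -, hnot⟩ := orbit_eq hcard hSP
      have hk9 : k = 2 := by
        by_contra h
        rw [show k = 1 by omega, pow_one] at hk'
        exact hne ⟨_, (hmemE _ _).mpr ⟨edge_of_adj hk', inf_le_left⟩⟩
      rw [hk9, Nat.card_eq_card_toFinset] at hk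
      refine Eq.trans ?_ hk
      congr 1
      ext T
      rw [Set.mem_toFinset, Finset.mem_filter, Quotient.eq]
      exact ⟨fun h => h.2, fun h => ⟨Finset.mem_erase.mpr ⟨fun e => hnot (e ▸ h), Finset.mem_univ _⟩, h⟩⟩
    have h1 : (Finset.univ.erase P).card = 9 * ((Finset.univ.erase P).image (Quotient.mk (orbitRel ↥(P : Subgroup G) (Sylow 3 G)))).card := by
      rw [Finset.card_eq_sum_card_image (Quotient.mk (orbitRel ↥(P : Subgroup G) (Sylow 3 G))) (Finset.univ.erase P),
        Finset.sum_const_nat (m := 9), Nat.mul_comm]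
      intro q hq
      obtain ⟨S, hS, rfl⟩ := Finset.mem_image.mp hq
      exact h9 S hS
    rw [Finset.card_erase_of_mem (Finset.mem_univ P), Finset.card_univ, hX] at h1
    omega
  by_contra hall
  push Not at hall
  -- all lines have four points
  have hfour : ∀ P, ∀ D ∈ Es P, (L D).card = 4 := by
    intro P D hD
    obtain ⟨j, hj, hjc⟩ := hline P D hD
    have h22 : (L D).card < 22 := by
      rw [← hX, ← Finset.card_univ]
      refine Finset.card_lt_card (Finset.ssubset_univ_iff.mpr fun e => ?_)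
      obtain ⟨⟨A, B, hAB, rfl⟩, -⟩ := (hmemE P D).mp hD
      obtain ⟨S, hS⟩ := hall A B (adj_ne hAB) hAB
      exact hS ((hmemL _ S).mp (e ▸ Finset.mem_univ S))
    set n := ((Es P).filter fun D' => (L D').card = (L D).card).card with hn
    have hn1 : 1 ≤ n := Finset.card_pos.mpr ⟨D, Finset.mem_filter.mpr ⟨hD, rfl⟩⟩
    have hd := hdvd (L D).card P
    rw [← hn] at hd
    have hb : n * ((L D).card - 1) ≤ 21 := by
      refine le_trans ?_ (hN21 P)
      rw [hsplit, hn, ← smul_eq_mul, ← Finset.sum_const]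
      refine le_trans (le_of_eq (Finset.sum_congr rfl fun D' hD' => by rw [(Finset.mem_filter.mp hD').2]))
        (Finset.sum_le_sum_of_subset (Finset.filter_subset _ _))
    rw [hjc] at hd h22 hb ⊢
    have hj6 : j ≤ 6 := by omega
    have hn7 : n ≤ 7 := by
      have : n * 3 ≤ 21 := le_trans (Nat.mul_le_mul_left n (by omega)) hb
      omega
    interval_cases j <;> interval_cases n <;> omega
  -- hence four lines at each point
  have hcount : ∀ P, (Es P).card = 2 ∨ (Es P).card = 4 ∨ (Es P).card = 6 := by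
    intro P'
    have h1 := hdvd 4 P'
    rw [Finset.filter_true_of_mem (hfour P')] at h1
    have h2 := hN21 P'
    rw [hsplit, Finset.sum_congr rfl (fun D hD => by rw [hfour P' D hD]), Finset.sum_const, smul_eq_mul] at h2
    have h3 : 1 ≤ (Es P').card := by
      have := hconst 4 P P'
      rw [Finset.filter_true_of_mem (hfour P), Finset.filter_true_of_mem (hfour P')] at this
      rw [← this]
      exact Finset.card_pos.mpr hne
    omega
  have hfour' : ∀ P, (Es P).card = 4 := by
    intro P'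
    -- the points away from the neighbours fall into orbits of length nine
    set U := (Finset.univ.erase P') \ N P' with hU
    have h9 : U.card = 9 * (U.image (Quotient.mk (orbitRel ↥(P' : Subgroup G) (Sylow 3 G)))).card := by
      rw [Finset.card_eq_sum_card_image (Quotient.mk (orbitRel ↥(P' : Subgroup G) (Sylow 3 G))) U,
        Finset.sum_const_nat (m := 9), Nat.mul_comm]
      intro q hq
      obtain ⟨S, hS, rfl⟩ := Finset.mem_image.mp hq
      rw [hU, Finset.mem_sdiff, Finset.mem_erase] at hS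
      obtain ⟨k, hk1, hk2, hk, -, hk', -, hnot⟩ := orbit_eq hcard hS.1.1
      have hk9 : k = 2 := by
        by_contra h
        rw [show k = 1 by omega, pow_one] at hk'
        exact hS.2 (Finset.mem_filter.mpr ⟨Finset.mem_univ _, hk'⟩)
      rw [hk9, Nat.card_eq_card_toFinset] at hk
      refine Eq.trans ?_ hk
      congr 1
      ext T
      rw [Set.mem_toFinset, Finset.mem_filter, Quotient.eq, hU, Finset.mem_sdiff, Finset.mem_erase]
      refine ⟨fun h => h.2, fun h => ⟨⟨⟨fun e => hnot (e ▸ h), Finset.mem_univ _⟩, fun hTN => ?_⟩, h⟩⟩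
      have h3 := horb3 P' T (Finset.mem_filter.mp hTN).2
      rw [MulAction.orbit_eq_iff.mpr h, Nat.card_eq_card_toFinset, hk] at h3
      norm_num at h3
    rw [hU, Finset.card_sdiff_of_subset (fun S hS => Finset.mem_erase.mpr ⟨adj_ne (Finset.mem_filter.mp hS).2, Finset.mem_univ _⟩),
      Finset.card_erase_of_mem (Finset.mem_univ P'), Finset.card_univ, hX, hsplit,
      Finset.sum_congr rfl (fun D hD => by rw [hfour P' D hD]), Finset.sum_const, smul_eq_mul] at h9
    rcases hcount P' with h | h | h <;> omega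
  -- the contradiction
  obtain ⟨D, hD⟩ := hne
  obtain ⟨hDe, hDP⟩ := (hmemE P D).mp hD
  set Γ := (Finset.univ.erase P) \ N P with hΓ
  have hΓ9 : Γ.card = 9 := by
    rw [hΓ, Finset.card_sdiff_of_subset (fun S hS => Finset.mem_erase.mpr ⟨adj_ne (Finset.mem_filter.mp hS).2, Finset.mem_univ _⟩),
      Finset.card_erase_of_mem (Finset.mem_univ P), Finset.card_univ, hX, hsplit,
      Finset.sum_congr rfl (fun D' hD' => by rw [hfour P D' hD']), Finset.sum_const, smul_eq_mul, hfour' P]
  let pairs : Finset (Σ _ : Sylow 3 G, Subgroup G) := ((L D).erase P).sigma fun Q => (Es Q).erase D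
  have hpairs : pairs.card = 9 := by
    rw [Finset.card_sigma, Finset.sum_const_nat (m := 3), Finset.card_erase_of_mem ((hmemL D P).mpr hDP), hfour P D hD]
    intro Q hQ
    rw [Finset.mem_erase, hmemL] at hQ
    rw [Finset.card_erase_of_mem ((hmemE Q D).mpr ⟨hDe, hQ.2⟩), hfour' Q]
  let T : (Σ _ : Sylow 3 G, Subgroup G) → Finset (Sylow 3 G) := fun qe => (L qe.2).erase qe.1
  have hinΓ : ∀ qe ∈ pairs, T qe ⊆ Γ ∧ (T qe).card = 3 ∧
      ∀ S ∈ T qe, ∀ g ∈ D, g • S ∈ T qe := by
    rintro ⟨Q, E⟩ hqe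
    rw [Finset.mem_sigma, Finset.mem_erase, Finset.mem_erase, hmemL, hmemE] at hqe
    obtain ⟨⟨hQP, hDQ⟩, hED, hEe, hEQ⟩ := hqe
    have hcardT : ((L E).erase Q).card = 3 := by
      rw [Finset.card_erase_of_mem ((hmemL E Q).mpr hEQ), hfour Q E ((hmemE Q E).mpr ⟨hEe, hEQ⟩)]
    have hinv : ∀ S ∈ (L E).erase Q, ∀ g ∈ D, g • S ∈ (L E).erase Q := by
      intro S hS g hg
      rw [Finset.mem_erase, hmemL] at hS ⊢
      have hgQ : g • Q = Q := Sylow.smul_eq_iff_mem_normalizer.mpr (Subgroup.le_normalizer (hDQ hg))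
      refine ⟨fun e => hS.1 (smul_left_cancel g (e.trans hgQ.symm)), fun x hx => ?_⟩
      rw [Sylow.coe_subgroup_smul, Subgroup.mem_pointwise_smul_iff_inv_smul_mem]
      have := edge_smul hcard hEe hEQ (inv_mem (hDQ hg)) x hx
      rw [inv_inv] at this
      simpa [MulAut.smul_def, mul_assoc] using hS.2 this
    refine ⟨fun S hS => ?_, hcardT, hinv⟩
    rw [Finset.mem_erase, hmemL] at hS
    have hSP : S ≠ P := by
      rintro rfl
      exact hED ((inf_eq_edge hcard hEe hEQ hS.2 hS.1).1.symm.trans (inf_eq_edge hcard hDe hDQ hDP hS.1).1)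
    refine Finset.mem_sdiff.mpr ⟨Finset.mem_erase.mpr ⟨hSP, Finset.mem_univ _⟩, fun hSN => ?_⟩
    have hPS := (Finset.mem_filter.mp hSN).2
    set D2 := (P : Subgroup G) ⊓ S with hD2
    have hD2e : IsEdge D2 := edge_of_adj hPS
    by_cases hD2D : D2 = D
    · exact hED ((inf_eq_edge hcard hEe hEQ hS.2 hS.1).1.symm.trans (inf_eq_edge hcard hDe hDQ (hD2D ▸ inf_le_right) hS.1).1)
    -- move `S` inside both lines
    obtain ⟨g, hg, hgS⟩ : ∃ g ∈ D, g • S ≠ S := by
      by_contra h
      push Not at h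
      refine hD2D (inf_eq_edge hcard hDe hDP ?_ hSP).1
      intro g hg
      have h1 : g ∈ (P : Subgroup G) ⊓ Subgroup.normalizer ((S : Subgroup G) : Set G) :=
        ⟨hDP hg, Sylow.smul_eq_iff_mem_normalizer.mp (h g hg)⟩
      exact ((P.2.inf_normalizer_sylow S).le h1).2
    have h2 := hinv S (Finset.mem_erase.mpr ⟨hS.1, (hmemL E S).mpr hS.2⟩) g hg
    rw [Finset.mem_erase, hmemL] at h2
    have hgD2 : D2 ≤ ((g • S : Sylow 3 G) : Subgroup G) := by
      intro x hx
      rw [Sylow.coe_subgroup_smul, Subgroup.mem_pointwise_smul_iff_inv_smul_mem]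
      have := edge_smul hcard hD2e (inf_le_left : D2 ≤ _) (inv_mem (hDP hg)) x hx
      rw [inv_inv] at this
      rw [← map_inv, MulAut.smul_def, MulAut.conj_apply, inv_inv]
      exact this.2
    have e1 := (inf_eq_edge hcard hEe hS.2 h2.2 hgS).1
    have e2 := (inf_eq_edge hcard hD2e inf_le_right hgD2 hgS).1
    have hED2 : E = D2 := e1.symm.trans e2
    refine hD2D (((inf_eq_edge hcard hD2e inf_le_left (hED2 ▸ hEQ) hQP).1).symm.trans
      (inf_eq_edge hcard hDe hDP hDQ hQP).1)
  -- two triples are disjoint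
  have hdis : (pairs : Set (Σ _ : Sylow 3 G, Subgroup G)).PairwiseDisjoint T := by
    rintro ⟨Q, E⟩ hqe ⟨Q', E'⟩ hqe' hne'
    rw [Function.onFun, Finset.disjoint_left]
    intro S hS hS'
    obtain ⟨hsub, hc, hinv⟩ := hinΓ _ hqe
    obtain ⟨-, hc', hinv'⟩ := hinΓ _ hqe'
    obtain ⟨g, hg, hgS⟩ : ∃ g ∈ D, g • S ≠ S := by
      by_contra h
      push Not at h
      obtain ⟨hS1, hS2⟩ := Finset.mem_sdiff.mp (hsub hS)
      refine hS2 (Finset.mem_filter.mpr ⟨Finset.mem_univ _, (inf_eq_edge hcard hDe hDP ?_ (Finset.ne_of_mem_erase hS1)).2⟩)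
      intro g hg
      have h1 : g ∈ (P : Subgroup G) ⊓ Subgroup.normalizer ((S : Subgroup G) : Set G) :=
        ⟨hDP hg, Sylow.smul_eq_iff_mem_normalizer.mp (h g hg)⟩
      exact ((P.2.inf_normalizer_sylow S).le h1).2
    have g1 := hinv S hS g hg
    have g2 := hinv' S hS' g hg
    simp only [T, Finset.mem_erase, hmemL] at hS hS' g1 g2
    rw [Finset.mem_coe, Finset.mem_sigma, Finset.mem_erase, Finset.mem_erase, hmemL, hmemE] at hqe hqe'
    obtain ⟨⟨hQP, hDQ⟩, hED, hEe, hEQ⟩ := hqe
    obtain ⟨⟨hQP', hDQ'⟩, -, hEe', hEQ'⟩ := hqe'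
    have hEE : E = E' := (inf_eq_edge hcard hEe hS.2 g1.2 hgS).1.symm.trans (inf_eq_edge hcard hEe' hS'.2 g2.2 hgS).1
    subst hEE
    refine hne' ?_
    by_cases hQQ : Q = Q'
    · rw [hQQ]
    · exact absurd ((inf_eq_edge hcard hEe hEQ hEQ' (Ne.symm hQQ)).1.symm.trans
        (inf_eq_edge hcard hDe hDQ hDQ' (Ne.symm hQQ)).1) hED
  have hle : (pairs.biUnion T).card ≤ Γ.card :=
    Finset.card_le_card (Finset.biUnion_subset.mpr fun qe h => (hinΓ qe h).1)
  rw [Finset.card_biUnion hdis, Finset.sum_const_nat (m := 3) (fun qe h => (hinΓ qe h).2.1), hpairs, hΓ9] at hle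
  omega

/-- An invariant set without fixed points. -/
theorem dvd_card_invariant {α : Type*} [Fintype α] [DecidableEq α] {p : ℕ} [Fact p.Prime] (x : Equiv.Perm α)
    (hx : x ^ p = 1) (s : Finset α) (hs : ∀ R, x R ∈ s ↔ R ∈ s) (hfree : ∀ R ∈ s, x R ≠ R) : p ∣ s.card := by
  let f : Function.End {R // R ∈ s} := fun R => ⟨x R, (hs R).mpr R.2⟩
  have hfj : ∀ j : ℕ, ∀ R : {R // R ∈ s}, ((f ^ j) R : α) = (x ^ j) R := by
    intro j
    induction j with
    | zero => intro R; rfl
    | succ j ih =>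
      intro R
      rw [pow_succ', pow_succ', Equiv.Perm.mul_apply, ← ih R]
      rfl
  have hmod : Fintype.card {R // R ∈ s} ≡ Fintype.card f.fixedPoints [MOD p] := by
    refine Equiv.Perm.card_fixedPoints_modEq (n := 1) (funext fun R => Subtype.ext ?_)
    rw [hfj, pow_one, hx]
    rfl
  have h0 : Fintype.card f.fixedPoints = 0 :=
    Fintype.card_eq_zero_iff.mpr ⟨fun R => hfree R.1.1 R.1.2 (congrArg Subtype.val R.2)⟩
  rwa [h0, Fintype.card_coe, Nat.modEq_zero_iff_dvd] at hmod

theorem supp_of_prime {α : Type*} [Fintype α] [DecidableEq α] (y : Equiv.Perm α) {q : ℕ} (hq : q.Prime)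
    (hy : orderOf y = q) : ∃ n : ℕ, y.support.card = (n + 1) * q ∧
      Equiv.Perm.sign y = (-1 : ℤˣ) ^ ((n + 1) * q + (n + 1)) := by
  obtain ⟨n, hn⟩ := Equiv.Perm.cycleType_prime_order (σ := y) (hy.symm ▸ hq)
  rw [hy] at hn
  refine ⟨n, ?_, ?_⟩
  · rw [← y.sum_cycleType, hn, Multiset.sum_replicate, smul_eq_mul]
  · rw [Equiv.Perm.sign_of_cycleType, hn, Multiset.sum_replicate, Multiset.card_replicate, smul_eq_mul]

/-- A perm commuting with a fixed-point-free one of prime order `p`. -/
theorem dvd_supp_of_comm {α : Type*} [Fintype α] [DecidableEq α] {p : ℕ} [Fact p.Prime] {x y : Equiv.Perm α}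
    (hx : x ^ p = 1) (hfree : ∀ R, y R ≠ R → x R ≠ R) (hc : x * y = y * x) : p ∣ y.support.card := by
  refine dvd_card_invariant x hx _ (fun R => ?_) fun R hR => hfree R (Equiv.Perm.mem_support.mp hR)
  have h1 : y (x R) = x (y R) := (congrArg (fun f : Equiv.Perm α => f R) hc).symm
  simp only [Equiv.Perm.mem_support, ne_eq, h1, EmbeddingLike.apply_eq_iff_eq]

theorem free_of_card_seven {α : Type*} [Fintype α] [DecidableEq α] (hα : Fintype.card α = 7) {x : Equiv.Perm α}
    (hx : orderOf x = 7) : ∀ R, x R ≠ R := by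
  obtain ⟨n, hn, -⟩ := supp_of_prime x (by norm_num) hx
  have h1 : x.support.card ≤ 7 := hα ▸ Finset.card_le_univ _
  intro R hR
  have h2 : x.support.card < 7 := by
    rw [← hα, ← Finset.card_univ]
    exact Finset.card_lt_card (Finset.ssubset_univ_iff.mpr fun e => Equiv.Perm.mem_support.mp (e ▸ Finset.mem_univ R) hR)
  omega

theorem no_order_35 {α : Type*} [Fintype α] [DecidableEq α] (hα : Fintype.card α = 7) (C : Subgroup (Equiv.Perm α))
    (hC : Nat.card C = 35) : False := by
  have : Fact (Nat.Prime 7) := ⟨by norm_num⟩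
  have : Fact (Nat.Prime 5) := ⟨by norm_num⟩
  obtain ⟨S⟩ : Nonempty (Sylow 7 C) := inferInstance
  have hSc : Nat.card ↥(S : Subgroup C) = 7 := by
    rw [S.card_eq_multiplicity, hC, show (35 : ℕ) = 7 ^ 1 * 5 by norm_num, Nat.factorization_mul (by norm_num) (by norm_num)]
    simp [Nat.factorization_eq_zero_of_not_dvd, Nat.Prime.factorization_self (show Nat.Prime 7 by norm_num)]
  have hn1 : Nat.card (Sylow 7 C) = 1 := by
    have h1 : Nat.card (Sylow 7 C) ∣ 5 := by
      refine S.card_dvd_index.trans (dvd_of_eq ?_)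
      have h := Subgroup.card_mul_index (S : Subgroup C)
      rw [hSc, hC] at h
      omega
    have h2 := card_sylow_modEq_one 7 C
    rcases (Nat.dvd_prime (by norm_num : Nat.Prime 5)).mp h1 with h | h
    · exact h
    · rw [h] at h2; simp [Nat.ModEq] at h2
  have hSn : (S : Subgroup C).Normal := by
    have : Subsingleton (Sylow 7 C) := (Nat.card_eq_one_iff_unique.mp hn1).1
    exact S.normal_of_subsingleton
  obtain ⟨y, hy⟩ := exists_prime_orderOf_dvd_card' (G := C) 5 (hC ▸ by norm_num)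
  obtain ⟨x, hx⟩ := exists_prime_orderOf_dvd_card' (G := ↥(S : Subgroup C)) 7 (by rw [hSc])
  have hSy : y ∈ Subgroup.normalizer ((S : Subgroup C) : Set C) := Subgroup.normalizer_eq_top_iff.mpr hSn ▸ Subgroup.mem_top y
  set ψ := (S : Subgroup C).normalizerMonoidHom
  have hker : (⟨y, hSy⟩ : Subgroup.normalizer ((S : Subgroup C) : Set C)) ∈ ψ.ker := by
    have : IsCyclic ↥(S : Subgroup C) := isCyclic_of_prime_card (p := 7) hSc
    have h1 : orderOf (ψ ⟨y, hSy⟩) ∣ 5 := (orderOf_map_dvd _ _).trans (by rw [Subgroup.orderOf_mk, hy])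
    have h2 : orderOf (ψ ⟨y, hSy⟩) ∣ 6 := by
      refine (orderOf_dvd_natCard _).trans (dvd_of_eq ?_)
      rw [IsCyclic.card_mulAut, hSc, Nat.totient_prime (by norm_num)]
    exact orderOf_eq_one_iff.mp (Nat.dvd_one.mp (show orderOf (ψ ⟨y, hSy⟩) ∣ Nat.gcd 5 6 from Nat.dvd_gcd h1 h2))
  rw [Subgroup.normalizerMonoidHom_ker] at hker
  have hcomm : ((x : C) : Equiv.Perm α) * (y : Equiv.Perm α) = (y : Equiv.Perm α) * ((x : C) : Equiv.Perm α) :=
    congrArg Subtype.val (Subgroup.mem_centralizer_iff.mp hker _ x.2)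
  have hxo : orderOf ((x : C) : Equiv.Perm α) = 7 := by rw [Subgroup.orderOf_coe, Subgroup.orderOf_coe, hx]
  have h7 := dvd_supp_of_comm (p := 7) (orderOf_dvd_iff_pow_eq_one.mp hxo.dvd)
    (fun R _ => free_of_card_seven hα hxo R) hcomm
  obtain ⟨n, hn, -⟩ := supp_of_prime (y : Equiv.Perm α) (by norm_num : Nat.Prime 5) (by rw [Subgroup.orderOf_coe, hy])
  have h1 : (y : Equiv.Perm α).support.card ≤ 7 := hα ▸ Finset.card_le_univ _
  obtain ⟨k, hk⟩ := h7
  omega

theorem no_order_112 {α : Type*} [Fintype α] [DecidableEq α] (hα : Fintype.card α = 7) (C : Subgroup (Equiv.Perm α))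
    (hC : Nat.card C = 112) : False := by
  classical
  have : Fact (Nat.Prime 2) := ⟨by norm_num⟩
  have : Fact (Nat.Prime 7) := ⟨by norm_num⟩
  obtain ⟨x, hx⟩ := exists_prime_orderOf_dvd_card' (G := C) 7 (hC ▸ by norm_num)
  have hfree := free_of_card_seven hα (x := (x : Equiv.Perm α)) (by rw [Subgroup.orderOf_coe, hx])
  have htrans : ∀ a b : α, ∃ g : C, g • a = b := by
    intro a b
    have hS : IsPGroup 7 (Subgroup.zpowers x) := IsPGroup.of_card (n := 1) (by rw [Nat.card_zpowers, hx, pow_one])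
    obtain ⟨k, hk⟩ := hS.card_orbit a
    have h7 : (orbit (Subgroup.zpowers x) a).ncard ≤ 7 := by
      rw [← hα, ← Nat.card_eq_fintype_card]
      exact Set.ncard_le_card _
    rw [Nat.card_coe_set_eq] at hk
    have hk1 : k = 1 := by
      rcases k with _ | _ | k
      · rw [pow_zero] at hk
        obtain ⟨z, hz⟩ := Set.ncard_eq_one.mp hk
        have h1 : a ∈ orbit (Subgroup.zpowers x) a := mem_orbit_self a
        have h2 : (x : Equiv.Perm α) a ∈ orbit (Subgroup.zpowers x) a := ⟨⟨x, Subgroup.mem_zpowers x⟩, rfl⟩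
        rw [hz, Set.mem_singleton_iff] at h1 h2
        exact absurd (h2.trans h1.symm) (hfree a)
      · rfl
      · have := Nat.pow_le_pow_right (show 0 < 7 by norm_num) (show 2 ≤ k + 1 + 1 by omega)
        norm_num at this
        omega
    have huniv : orbit (Subgroup.zpowers x) a = Set.univ :=
      Set.eq_of_subset_of_ncard_le (Set.subset_univ _) (by rw [Set.ncard_univ, hk, hk1, pow_one, Nat.card_eq_fintype_card, hα])
    obtain ⟨g, hg⟩ : b ∈ orbit (Subgroup.zpowers x) a := huniv ▸ Set.mem_univ b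
    exact ⟨g, hg⟩
  have : Nonempty α := Fintype.card_pos_iff.mp (by omega)
  obtain ⟨a⟩ := this
  have hS16 : ∀ b : α, Nat.card (stabilizer C b) = 16 := by
    intro b
    have h1 := Subgroup.card_mul_index (stabilizer C b)
    rw [hC, Subgroup.index, ← Nat.card_congr (orbitEquivQuotientStabilizer C b),
      show orbit C b = Set.univ from Set.eq_univ_of_forall fun c => htrans b c, Nat.card_univ,
      Nat.card_eq_fintype_card (α := α), hα] at h1
    omega
  have hbig : ∀ D : Subgroup C, (∀ d ∈ D, d • a = a) → D.Normal → D = ⊥ := by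
    intro D hDa hDn
    refine le_bot_iff.mp fun d hd => Subgroup.mem_bot.mpr (Subtype.ext (Equiv.ext fun b => ?_))
    obtain ⟨g, rfl⟩ := htrans a b
    show d • (g • a) = g • a
    have := hDa _ (hDn.conj_mem d hd g⁻¹)
    rw [inv_inv, mul_smul, mul_smul, inv_smul_eq_iff] at this
    exact this
  have htop : ∀ M : Subgroup C, stabilizer C a ≤ M → ∀ g ∈ M, g • a ≠ a → M = ⊤ := by
    intro M hM g hg hga
    rw [← Subgroup.index_eq_one]
    have h1 : M.index ∣ 7 := by
      refine (Subgroup.index_dvd_of_le hM).trans (dvd_of_eq ?_)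
      have h := Subgroup.card_mul_index (stabilizer C a)
      rw [hS16, hC] at h
      omega
    rcases (Nat.dvd_prime (by norm_num)).mp h1 with h | h
    · exact h
    · exfalso
      have h2 := Subgroup.card_mul_index M
      rw [h, hC] at h2
      have hMeq := Subgroup.eq_of_le_of_card_ge hM (by rw [hS16]; omega)
      rw [← hMeq] at hg
      exact hga hg
  -- a short orbit of the stabilizer
  have hS2 : IsPGroup 2 (stabilizer C a) := IsPGroup.of_card (n := 4) (by rw [hS16]; norm_num)
  obtain ⟨b, hba, hb⟩ : ∃ b, b ≠ a ∧ Nat.card (orbit (stabilizer C a) b) ≤ 2 := by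
    by_contra h
    push Not at h
    let r : Setoid α := orbitRel (stabilizer C a) α
    set U := Finset.univ.erase a
    have hfib : ∀ S ∈ U, 4 ∣ (U.filter fun T => (Quotient.mk r T) = Quotient.mk r S).card := by
      intro S hS
      obtain ⟨k, hk⟩ := hS2.card_orbit S
      have hk2 : 2 ≤ k := by
        by_contra hk2
        have := h S (Finset.ne_of_mem_erase hS)
        rw [hk] at this
        have h' := Nat.pow_le_pow_right (show 0 < 2 by norm_num) (show k ≤ 1 by omega)
        omega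
      refine Dvd.dvd.trans (pow_dvd_pow 2 hk2) (dvd_of_eq ?_)
      rw [← hk, Nat.card_eq_card_toFinset]
      congr 1
      ext T
      rw [Set.mem_toFinset, Finset.mem_filter, Quotient.eq]
      refine ⟨fun h' => ⟨Finset.mem_erase.mpr ⟨fun e => ?_, Finset.mem_univ _⟩, h'⟩, fun h' => h'.2⟩
      obtain ⟨g, hg⟩ := h'
      refine Finset.ne_of_mem_erase hS (smul_left_cancel g ?_)
      have hg1 : g • S = T := hg
      rw [hg1, e]
      exact g.2.symm
    have h4 : 4 ∣ U.card := by
      rw [Finset.card_eq_sum_card_image (Quotient.mk r) U]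
      refine Finset.dvd_sum fun q hq => ?_
      obtain ⟨S, hS, rfl⟩ := Finset.mem_image.mp hq
      exact hfib S hS
    rw [Finset.card_erase_of_mem (Finset.mem_univ a), Finset.card_univ, hα] at h4
    norm_num at h4
  set D := stabilizer C a ⊓ stabilizer C b with hDdef
  obtain ⟨g, hg⟩ := htrans a b
  by_cases heq : stabilizer C a ≤ stabilizer C b
  · have heq' : stabilizer C a = stabilizer C b := Subgroup.eq_of_le_of_card_ge heq (by rw [hS16, hS16])
    have hgN : g ∈ Subgroup.normalizer ((stabilizer C a : Subgroup C) : Set C) := by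
      rw [Subgroup.mem_normalizer_iff_map_conj_eq]
      conv_rhs => rw [heq', ← hg, stabilizer_smul_eq_stabilizer_map_conj]
      rfl
    have h1 := htop _ Subgroup.le_normalizer g hgN (by rw [hg]; exact hba)
    have h2 := hbig (stabilizer C a) (fun d hd => hd) (Subgroup.normalizer_eq_top_iff.mp h1)
    have := hS16 a
    rw [h2, Subgroup.card_bot] at this
    omega
  · obtain ⟨k, hk, hk'⟩ : ∃ k, (stabilizer C b).relIndex (stabilizer C a) = k ∧ (k = 1 ∨ k = 2) := by
      refine ⟨_, rfl, ?_⟩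
      rw [Subgroup.relIndex, Subgroup.index]
      have h1 : Nat.card (stabilizer C a ⧸ (stabilizer C b).subgroupOf (stabilizer C a)) =
          Nat.card (orbit (stabilizer C a) b) := by
        rw [Nat.card_congr (orbitEquivQuotientStabilizer (stabilizer C a) b)]
        rfl
      rw [h1]
      have : Nonempty (orbit (stabilizer C a) b) := ⟨⟨b, mem_orbit_self b⟩⟩
      have : 0 < Nat.card (orbit (stabilizer C a) b) := Nat.card_pos
      omega
    have hk2 : k = 2 := hk'.resolve_left fun e => heq (Subgroup.relIndex_eq_one.mp (hk.trans e))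
    have hDc : Nat.card D = 8 := by
      have h1 := Subgroup.card_mul_index ((stabilizer C b).subgroupOf (stabilizer C a))
      rw [show ((stabilizer C b).subgroupOf (stabilizer C a)).index = 2 from hk.trans hk2, hS16] at h1
      have h2 : Nat.card D = Nat.card ((stabilizer C b).subgroupOf (stabilizer C a)) := by
        rw [hDdef, inf_comm, ← Subgroup.inf_subgroupOf_right]
        exact (Nat.card_congr (Subgroup.subgroupOfEquivOfLe inf_le_right).toEquiv).symm
      omega
    have hnorm : ∀ c : α, D ≤ stabilizer C c → stabilizer C c ≤ Subgroup.normalizer (D : Set C) := by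
      intro c hc
      have hi : (D.subgroupOf (stabilizer C c)).index = 2 := by
        have h1 := Subgroup.card_mul_index (D.subgroupOf (stabilizer C c))
        rw [Nat.card_congr (Subgroup.subgroupOfEquivOfLe hc).toEquiv, hDc, hS16] at h1
        omega
      exact (Subgroup.normal_subgroupOf_iff_le_normalizer hc).mp (Subgroup.normal_of_index_eq_two hi)
    obtain ⟨u, hu, hua⟩ : ∃ u ∈ stabilizer C b, u ∉ stabilizer C a :=
      SetLike.not_le_iff_exists.mp fun h => heq (Subgroup.eq_of_le_of_card_ge h (by rw [hS16, hS16])).ge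
    have h1 := htop _ (hnorm a inf_le_left) u (hnorm b inf_le_right hu) hua
    have h2 := hbig D (fun d hd => hd.1) (Subgroup.normalizer_eq_top_iff.mp h1)
    rw [h2, Subgroup.card_bot] at hDc
    omega

theorem c_cases : ∀ c ∈ Nat.divisors 560, 6 * c % 11 = 1 → c = 2 ∨ c = 35 ∨ c = 112 := by decide

set_option maxHeartbeats 4000000

/-- No finite group has exactly 22 Sylow 3-subgroups. -/
theorem result {G : Type*} [Group G] [Finite G] : Nat.card (Sylow 3 G) ≠ 22 := by
  classical
  intro hcard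
  have : Fact (Nat.Prime 3) := ⟨by norm_num⟩
  have : Fact (Nat.Prime 11) := ⟨by norm_num⟩
  have : Fact (Nat.Prime 2) := ⟨by norm_num⟩
  have : Fact (Nat.Prime 5) := ⟨by norm_num⟩
  have := Fintype.ofFinite (Sylow 3 G)
  have hX : Fintype.card (Sylow 3 G) = 22 := by rw [← Nat.card_eq_fintype_card, hcard]
  let φ : G →* Equiv.Perm (Sylow 3 G) := MulAction.toPermHom G (Sylow 3 G)
  obtain ⟨P, Q, hQ, hPQ, hall⟩ := exists_edge_all hcard
  set D := (P : Subgroup G) ⊓ (Q : Subgroup G) with hD
  have hDe : IsEdge D := edge_of_adj hPQ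
  have hDker : D ≤ φ.ker := fun g hg => Equiv.ext fun R =>
    (Sylow.smul_eq_iff_mem_normalizer.mpr (Subgroup.le_normalizer (hall R hg)) : g • R = R)
  have hfix : ∀ g ∈ (P : Subgroup G), ∀ R : Sylow 3 G, R ≠ P → g • R = R → g ∈ D := by
    intro g hg R hR h
    have h1 : g ∈ (P : Subgroup G) ⊓ Subgroup.normalizer ((R : Subgroup G) : Set G) :=
      ⟨hg, Sylow.smul_eq_iff_mem_normalizer.mp h⟩
    exact (inf_eq_edge hcard hDe (hall P) (hall R) hR).1.le ((P.2.inf_normalizer_sylow R).le h1)
  set PB := (P : Subgroup G).map φ with hPB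
  have hPBc : Nat.card PB = 3 := by
    have hker : φ.ker.subgroupOf (P : Subgroup G) = D.subgroupOf (P : Subgroup G) := by
      refine le_antisymm (fun g hg => ?_) (Subgroup.comap_mono hDker)
      exact hfix g g.2 Q hQ (congrArg (fun f : Equiv.Perm (Sylow 3 G) => f Q) (show φ g = 1 from hg))
    have h1 : Nat.card PB = (φ.comp (P : Subgroup G).subtype).ker.index := by
      rw [Subgroup.index_ker, MonoidHom.range_comp, Subgroup.range_subtype]
    rw [h1, ← MonoidHom.comap_ker]
    refine Eq.trans (congrArg Subgroup.index hker) ?_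
    have h2 := Subgroup.card_mul_index (D.subgroupOf (P : Subgroup G))
    rw [show Nat.card ↥(P : Subgroup G) = _ from hPQ, Nat.card_congr (Subgroup.subgroupOfEquivOfLe inf_le_left).toEquiv,
      ← hD, Nat.mul_comm 3] at h2
    exact Nat.eq_of_mul_eq_mul_left Nat.card_pos h2
  have hR9 : ¬ 3 ^ 2 ∣ Nat.card φ.range := by
    intro h
    have h1 : ((P : Subgroup G).map φ.rangeRestrict).index ∣ (P : Subgroup G).index :=
      Subgroup.index_map_dvd _ φ.rangeRestrict_surjective
    have h2 : Nat.card ((P : Subgroup G).map φ.rangeRestrict) = 3 := by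
      refine (Subgroup.card_map_of_injective φ.range.subtype_injective).symm.trans ?_
      rw [Subgroup.map_map, φ.subtype_comp_rangeRestrict]
      exact hPBc
    rw [← Subgroup.card_mul_index ((P : Subgroup G).map φ.rangeRestrict), h2, pow_two] at h
    exact P.not_dvd_index ((Nat.dvd_of_mul_dvd_mul_left (by norm_num) h).trans h1)
  -- the group of even permutations
  let R' := φ.range
  set A := alternatingGroup (Sylow 3 G) with hA
  set H := φ.range ⊓ A with hH
  have hPR : PB ≤ φ.range := Subgroup.map_le_range φ _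
  have hodd : ∀ x : Equiv.Perm (Sylow 3 G), Odd (orderOf x) → x ∈ A := fun x hx => by
    rw [hA, Equiv.Perm.mem_alternatingGroup]
    rcases Int.units_eq_one_or (Equiv.Perm.sign x) with h | h
    · exact h
    · exfalso
      have h1 : Equiv.Perm.sign x ^ orderOf x = 1 := by rw [← map_pow, pow_orderOf_eq_one, map_one]
      rw [h, hx.neg_one_pow] at h1
      exact absurd h1 (by decide)
  have hdv : ∀ x ∈ PB, orderOf x ∣ 3 := fun x hx => (PB.orderOf_dvd_natCard hx).trans hPBc.dvd
  have hPH : PB ≤ H := le_inf hPR fun x hx => hodd x (Odd.of_dvd_nat (by decide) (hdv x hx))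
  have hfixP : ∀ x ∈ PB, x P = P := by
    rintro _ ⟨g, hg, rfl⟩
    exact Sylow.smul_eq_iff_mem_normalizer.mpr (Subgroup.le_normalizer hg)
  have huniq : ∀ x ∈ PB, x ≠ 1 → ∀ R, x R = R → R = P := by
    rintro _ ⟨g, hg, rfl⟩ hx1 R hR
    by_contra hne
    exact hx1 (hDker (hfix g hg R hne hR))
  have hnormal : ∀ x ∈ φ.range, x P = P → x ∈ Subgroup.normalizer (PB : Set (Equiv.Perm (Sylow 3 G))) := by
    rintro _ ⟨g, rfl⟩ hx
    exact Subgroup.le_normalizer_map φ ⟨g, Sylow.smul_eq_iff_mem_normalizer.mp hx, rfl⟩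
  obtain ⟨x₀, hx₀, hx₀1⟩ : ∃ x ∈ PB, x ≠ 1 :=
    PB.ne_bot_iff_exists_ne_one.mp (fun e => by rw [e, Subgroup.card_bot] at hPBc; omega) |>.elim
      fun x hx => ⟨x, x.2, fun e => hx (Subtype.ext e)⟩
  have hH9 : ∀ K : Subgroup H, ¬ 3 ^ 2 ∣ Nat.card K := fun K hK =>
    hR9 (hK.trans ((Subgroup.card_subgroup_dvd_card K).trans (Subgroup.card_dvd_of_le inf_le_left)))
  -- a subgroup containing the conjugates of `PB` is transitive
  have htrans : ∀ K : Subgroup (Equiv.Perm (Sylow 3 G)), K ≤ φ.range →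
      (∀ x ∈ H, orderOf x ∣ 3 → x ∈ K) → orbit ↥K P = Set.univ := by
    intro K hKR hK
    refine Set.eq_univ_of_forall fun R => ?_
    obtain ⟨g, hg⟩ := MulAction.exists_smul_eq G P R
    let c := φ g
    have hcP : c P = R := hg
    set PR := PB.map (MulAut.conj c).toMonoidHom with hPRdef
    have hPRK : PR ≤ K := by
      rintro _ ⟨x, hx, rfl⟩
      refine hK _ ⟨φ.range.mul_mem (φ.range.mul_mem ⟨g, rfl⟩ (hPR hx)) (φ.range.inv_mem ⟨g, rfl⟩),
        (inferInstance : (alternatingGroup (Sylow 3 G)).Normal).conj_mem _ (hPH hx).2 c⟩ ?_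
      exact (MulEquiv.orderOf_eq (MulAut.conj c) x).dvd.trans (hdv x hx)
    have hPK : PB ≤ K := fun x hx => hK x (hPH hx) (hdv x hx)
    let P₁ : Sylow 3 K := IsPGroup.toSylow (P := PB.subgroupOf K)
      (IsPGroup.of_card (n := 1) (by rw [Nat.card_congr (Subgroup.subgroupOfEquivOfLe hPK).toEquiv, hPBc, pow_one])) (by
        intro hd
        apply hR9
        refine dvd_trans ?_ (Subgroup.card_dvd_of_le hKR)
        rw [← Subgroup.card_mul_index (PB.subgroupOf K), Nat.card_congr (Subgroup.subgroupOfEquivOfLe hPK).toEquiv,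
          hPBc, pow_two]
        exact Nat.mul_dvd_mul_left 3 hd)
    have hPRc : Nat.card PR = 3 := by
      rw [hPRdef, Subgroup.card_map_of_injective (MulAut.conj c).injective, hPBc]
    let P₂ : Sylow 3 K := Sylow.ofCard (PR.subgroupOf K) (by
      rw [← P₁.card_eq_multiplicity]
      show _ = Nat.card (PB.subgroupOf K)
      rw [Nat.card_congr (Subgroup.subgroupOfEquivOfLe hPRK).toEquiv, hPRc,
        Nat.card_congr (Subgroup.subgroupOfEquivOfLe hPK).toEquiv, hPBc])
    obtain ⟨u, hu⟩ := MulAction.exists_smul_eq K P₁ P₂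
    refine ⟨u, ?_⟩
    show (u : Equiv.Perm (Sylow 3 G)) P = R
    have hx₀' : (MulAut.conj c x₀) ∈ PR := ⟨x₀, hx₀, rfl⟩
    have h1 : (⟨_, hPRK hx₀'⟩ : K) ∈ ((u • P₁ : Sylow 3 K) : Subgroup K) := by
      rw [hu]
      exact hx₀'
    rw [Sylow.coe_subgroup_smul] at h1
    obtain ⟨w, hw, hwe⟩ := h1
    have hwe' : (u : Equiv.Perm (Sylow 3 G)) * w * (u : Equiv.Perm (Sylow 3 G))⁻¹ = c * x₀ * c⁻¹ :=
      congrArg Subtype.val hwe
    have hfixR : (c * x₀ * c⁻¹) ((u : Equiv.Perm (Sylow 3 G)) P) = (u : Equiv.Perm (Sylow 3 G)) P := by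
      rw [← hwe', Equiv.Perm.mul_apply, Equiv.Perm.mul_apply, Equiv.Perm.inv_def, Equiv.symm_apply_apply,
        hfixP (w : Equiv.Perm (Sylow 3 G)) hw]
    rw [← hcP]
    have h2 := huniq x₀ hx₀ hx₀1 (c⁻¹ ((u : Equiv.Perm (Sylow 3 G)) P)) (by
      have := congrArg (c⁻¹ : Equiv.Perm (Sylow 3 G)) hfixR
      simpa [Equiv.Perm.mul_apply] using this)
    exact Equiv.Perm.inv_eq_iff_eq.mp h2 |>.trans rfl
  -- point stabilizer and the centralizer
  set N₀ := stabilizer ↥H P with hN₀
  let ψ : N₀ →* MulAut PB := PB.normalizerMonoidHom.comp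
    ((H.subtype.comp N₀.subtype).codRestrict _ fun x => hnormal _ x.1.2.1 x.2)
  set C := ψ.ker with hC
  have hCcomm : ∀ y : C, ∀ z ∈ PB, z * ((y : N₀) : H).1 = ((y : N₀) : H).1 * z := by
    intro y z hz
    have h1 : ((H.subtype.comp N₀.subtype).codRestrict _ fun x => hnormal _ x.1.2.1 x.2) y.1 ∈
      PB.normalizerMonoidHom.ker := y.2
    rw [Subgroup.normalizerMonoidHom_ker] at h1
    exact Subgroup.mem_centralizer_iff.mp h1 z hz
  -- the seven orbits
  let r : Setoid (Sylow 3 G) := orbitRel ↥PB (Sylow 3 G)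
  have hfib : ∀ S, S ≠ P → Nat.card (orbit ↥PB S) = 3 := by
    intro S hS
    have hp : IsPGroup 3 PB := IsPGroup.of_card (n := 1) (by rw [hPBc, pow_one])
    obtain ⟨k, hk⟩ := hp.card_orbit S
    have h1 : Nat.card (orbit ↥PB S) ≤ 3 :=
      ((Nat.card_congr (orbitEquivQuotientStabilizer ↥PB S)).trans_le
        (Nat.card_le_card_of_surjective _ Quotient.mk_surjective)).trans hPBc.le
    rw [hk] at h1 ⊢
    rcases k with _ | _ | k
    · exfalso
      rw [pow_zero] at hk
      have hsub := (Nat.card_eq_one_iff_unique.mp hk).1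
      exact hS (huniq x₀ hx₀ hx₀1 S (congrArg Subtype.val
        (hsub.elim ⟨(⟨x₀, hx₀⟩ : PB) • S, mem_orbit S _⟩ ⟨S, mem_orbit_self S⟩)))
    · rfl
    · have := Nat.pow_le_pow_right (show 0 < 3 by norm_num) (show 2 ≤ k + 1 + 1 by omega)
      norm_num at this
      omega
  have hP1 : ∀ S, Quotient.mk r S = Quotient.mk r P → S = P := by
    intro S h
    obtain ⟨z, hz⟩ := Quotient.exact h
    rw [← hz]
    exact hfixP z z.2
  let Ω := {q : Quotient r // q ≠ Quotient.mk r P}
  have : Fintype (Quotient r) := Fintype.ofFinite _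
  have hΩ : Fintype.card Ω = 7 := by
    have himg : (Finset.univ.erase P).image (Quotient.mk r) = Finset.univ.erase (Quotient.mk r P) := by
      ext q
      refine ⟨fun h => ?_, fun h => ?_⟩
      · obtain ⟨S, hS, rfl⟩ := Finset.mem_image.mp h
        exact Finset.mem_erase.mpr ⟨fun e => Finset.ne_of_mem_erase hS (hP1 S e), Finset.mem_univ _⟩
      · obtain ⟨S, rfl⟩ := Quotient.mk_surjective q
        exact Finset.mem_image_of_mem _ (Finset.mem_erase.mpr ⟨fun e => Finset.ne_of_mem_erase h (e ▸ rfl), Finset.mem_univ _⟩)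
    have h1 : (Finset.univ.erase P).card = 3 * ((Finset.univ.erase P).image (Quotient.mk r)).card := by
      rw [Finset.card_eq_sum_card_image (Quotient.mk r) (Finset.univ.erase P), Finset.sum_const_nat (m := 3), Nat.mul_comm]
      intro q hq
      obtain ⟨S, hS, rfl⟩ := Finset.mem_image.mp hq
      refine Eq.trans ?_ (hfib S (Finset.ne_of_mem_erase hS))
      rw [Nat.card_eq_card_toFinset]
      congr 1
      ext T
      rw [Set.mem_toFinset, Finset.mem_filter, Quotient.eq]
      refine ⟨fun h => h.2, fun h => ⟨Finset.mem_erase.mpr ⟨fun e => ?_, Finset.mem_univ _⟩, h⟩⟩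
      subst e
      exact Finset.ne_of_mem_erase hS (hP1 S (Quotient.sound (Setoid.symm h)))
    rw [himg, Finset.card_erase_of_mem (Finset.mem_univ P), Finset.card_univ, hX,
      Finset.card_erase_of_mem (Finset.mem_univ _), Finset.card_univ] at h1
    rw [Fintype.card_subtype_compl, Fintype.card_subtype_eq]
    omega
  let ρ₀ : C →* Equiv.Perm (Quotient r) :=
    { toFun := fun y =>
        { toFun := Quotient.map' (fun S => ((y : N₀) : H).1 S) (by
            rintro S T ⟨z, rfl⟩
            refine ⟨z, ?_⟩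
            show (z : Equiv.Perm (Sylow 3 G)) _ = ((y : N₀) : H).1 ((z : Equiv.Perm (Sylow 3 G)) T)
            exact congrArg (fun f : Equiv.Perm (Sylow 3 G) => f T) (hCcomm y z z.2))
          invFun := Quotient.map' (fun S => (((y⁻¹ : C) : N₀) : H).1 S) (by
            rintro S T ⟨z, rfl⟩
            refine ⟨z, ?_⟩
            show (z : Equiv.Perm (Sylow 3 G)) _ = (((y⁻¹ : C) : N₀) : H).1 ((z : Equiv.Perm (Sylow 3 G)) T)
            exact congrArg (fun f : Equiv.Perm (Sylow 3 G) => f T) (hCcomm y⁻¹ z z.2))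
          left_inv := fun q => by
            induction q using Quotient.inductionOn' with
            | h S =>
              show Quotient.mk'' (((((y⁻¹ * y : C)) : N₀) : H).1 S) = _
              rw [inv_mul_cancel]
              rfl
          right_inv := fun q => by
            induction q using Quotient.inductionOn' with
            | h S =>
              show Quotient.mk'' (((((y * y⁻¹ : C)) : N₀) : H).1 S) = _
              rw [mul_inv_cancel]
              rfl }
      map_one' := Equiv.ext fun q => by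
        induction q using Quotient.inductionOn' with
        | h S => rfl
      map_mul' := fun y y' => Equiv.ext fun q => by
        induction q using Quotient.inductionOn' with
        | h S => rfl }
  have hρP : ∀ y : C, ρ₀ y (Quotient.mk r P) = Quotient.mk r P := fun y => by
    show Quotient.mk r (((y : N₀) : H).1 P) = _
    rw [show ((y : N₀) : H).1 P = P from (y : N₀).2]
  have hρiff : ∀ (y : C) (q : Quotient r), ρ₀ y q ≠ Quotient.mk r P ↔ q ≠ Quotient.mk r P := fun y q => by
    conv_lhs => rw [← hρP y]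
    rw [ne_eq, EmbeddingLike.apply_eq_iff_eq]
  let ρ : C →* Equiv.Perm Ω :=
    { toFun := fun y => (ρ₀ y).subtypePerm (hρiff y)
      map_one' := Equiv.ext fun q => Subtype.ext (by simp)
      map_mul' := fun y y' => Equiv.ext fun q => Subtype.ext (by simp) }
  -- fixing an orbit means acting on it like an element of `PB`
  have hpw : ∀ (y : C) (S : Sylow 3 G), ρ₀ y (Quotient.mk r S) = Quotient.mk r S → (((y : N₀) : H).1 ^ 3) S = S := by
    intro y S h
    obtain ⟨z, hz⟩ := Quotient.exact h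
    have hz' : (z : Equiv.Perm (Sylow 3 G)) S = ((y : N₀) : H).1 S := hz
    have hzy := hCcomm y z z.2
    have hk : ∀ k : ℕ, (((y : N₀) : H).1 ^ k) S = ((z : Equiv.Perm (Sylow 3 G)) ^ k) S := by
      intro k
      induction k with
      | zero => rfl
      | succ k ih =>
        rw [pow_succ', pow_succ, Equiv.Perm.mul_apply, Equiv.Perm.mul_apply, ih, hz']
        exact congrArg (fun f : Equiv.Perm (Sylow 3 G) => f S) ((Commute.pow_left (show Commute (z : Equiv.Perm (Sylow 3 G)) ((y : N₀) : H).1 from hzy) k).symm.eq)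
    rw [hk, orderOf_dvd_iff_pow_eq_one.mp (hdv z z.2)]
    rfl
  have hker3 : ∀ y ∈ ρ.ker, orderOf y ∣ 3 := by
    intro y hy
    have h1 : ((y : N₀) : H).1 ^ 3 = 1 := Equiv.ext fun S => by
      refine hpw y S ?_
      by_cases hS : Quotient.mk r S = Quotient.mk r P
      · rw [hS, hρP]
      · exact congrArg Subtype.val (congrArg (fun f : Equiv.Perm Ω => f ⟨_, hS⟩) (show ρ y = 1 from hy))
    exact orderOf_dvd_of_pow_eq_one (Subtype.ext (Subtype.ext (Subtype.ext h1)))
  have hC9 : ∀ K : Subgroup C, ¬ 3 ^ 2 ∣ Nat.card K := fun K hK => by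
    refine hH9 ((K.map C.subtype).map N₀.subtype) ?_
    rwa [Subgroup.card_map_of_injective N₀.subtype_injective, Subgroup.card_map_of_injective C.subtype_injective]
  have hkerc : Nat.card ρ.ker = 3 := by
    have hp : IsPGroup 3 ρ.ker := fun y => ⟨1, by
      rw [pow_one]
      exact orderOf_dvd_iff_pow_eq_one.mp (by rw [← Subgroup.orderOf_coe]; exact hker3 _ y.2)⟩
    obtain ⟨k, hk⟩ := IsPGroup.iff_card.mp hp
    have hk1 : k ≤ 1 := by
      by_contra h
      exact hC9 ρ.ker (hk ▸ pow_dvd_pow 3 (by omega))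
    have hk0 : k ≠ 0 := by
      rintro rfl
      rw [pow_zero] at hk
      have hx₀N : (⟨x₀, hPH hx₀⟩ : H) ∈ N₀ := hfixP x₀ hx₀
      have hx₀C : (⟨_, hx₀N⟩ : N₀) ∈ C := by
        have hcyc := isCyclic_of_prime_card (p := 3) hPBc
        have : ((H.subtype.comp N₀.subtype).codRestrict _ fun x => hnormal _ x.1.2.1 x.2) ⟨_, hx₀N⟩ ∈
            PB.normalizerMonoidHom.ker := by
          rw [Subgroup.normalizerMonoidHom_ker]
          refine Subgroup.mem_centralizer_iff.mpr fun z hz => ?_
          exact congrArg Subtype.val (IsMulCommutative.is_comm.comm (⟨z, hz⟩ : PB) ⟨x₀, hx₀⟩)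
        exact this
      have hmem : (⟨_, hx₀C⟩ : C) ∈ ρ.ker := Equiv.ext fun q => by
        obtain ⟨q, hq⟩ := q
        induction q using Quotient.inductionOn with
        | h S => exact Subtype.ext (Quotient.sound ⟨⟨x₀, hx₀⟩, rfl⟩)
      have h1 := (Nat.card_eq_one_iff_unique.mp hk).1.elim (⟨_, hmem⟩ : ρ.ker) 1
      exact hx₀1 (congrArg (fun u : ρ.ker => ((((u : C) : N₀) : H) : Equiv.Perm (Sylow 3 G))) h1)
    rw [hk, show k = 1 by omega, pow_one]
  set c := Nat.card ρ.range with hc
  have hCc : Nat.card C = 3 * c := by rw [← ρ.ker.card_mul_index, hkerc, Subgroup.index_ker]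
  have hc3 : ¬ 3 ∣ c := fun h => hC9 ⊤ (by
    rw [Subgroup.card_top, hCc, pow_two]
    exact Nat.mul_dvd_mul_left 3 h)
  have hc5040 : c ∣ 5040 := by
    have h1 := Subgroup.card_subgroup_dvd_card ρ.range
    rwa [Nat.card_perm, Nat.card_eq_fintype_card (α := Ω), hΩ, show Nat.factorial 7 = 5040 from rfl] at h1
  have hc560 : c ∣ 560 := by
    have h1 : Nat.Coprime c 9 := by
      rw [show (9 : ℕ) = 3 ^ 2 by norm_num]
      exact Nat.Coprime.pow_right 2 ((Nat.prime_three.coprime_iff_not_dvd.mpr hc3).symm)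
    exact h1.dvd_of_dvd_mul_right (by norm_num; exact hc5040)
  obtain ⟨f, hf, hNc⟩ : ∃ f, f ∣ 2 ∧ Nat.card N₀ = 3 * c * f := by
    refine ⟨Nat.card ψ.range, ?_, ?_⟩
    · refine (Subgroup.card_subgroup_dvd_card _).trans (dvd_of_eq ?_)
      have hcyc := isCyclic_of_prime_card (p := 3) hPBc
      rw [IsCyclic.card_mulAut, hPBc, Nat.totient_prime (by norm_num)]
    · rw [← hCc, ← Subgroup.index_ker, Subgroup.card_mul_index]
  have hf12 : f = 1 ∨ f = 2 := (Nat.dvd_prime Nat.prime_two).mp hf
  have hHc : Nat.card H = 22 * (3 * c * f) := by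
    rw [← N₀.card_mul_index, hNc, Subgroup.index, ← Nat.card_congr (orbitEquivQuotientStabilizer ↥H P),
      htrans H inf_le_left (fun x hx _ => hx), Nat.card_univ, hcard, Nat.mul_comm]
  have h11c : ¬ 11 ∣ 3 * c * f := by
    intro h
    rcases (Nat.Prime.dvd_mul (by norm_num)).mp h with h | h
    · rcases (Nat.Prime.dvd_mul (by norm_num)).mp h with h | h
      · norm_num at h
      · exact absurd (h.trans hc560) (by norm_num)
    · rcases hf12 with rfl | rfl <;> norm_num at h
  -- the Sylow 11-subgroup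
  obtain ⟨T⟩ : Nonempty (Sylow 11 H) := inferInstance
  have hTc : Nat.card ↥(T : Subgroup H) = 11 := by
    obtain ⟨k, hk⟩ := IsPGroup.iff_card.mp T.2
    have h1 : 11 ∣ Nat.card H := hHc ▸ Dvd.dvd.mul_right (by norm_num) _
    have hk0 : k ≠ 0 := fun e => by
      refine T.not_dvd_index ?_
      have h := Subgroup.card_mul_index (T : Subgroup H)
      rw [hk, e, pow_zero, one_mul] at h
      rwa [h]
    have hk2 : k ≤ 1 := by
      by_contra h
      have h2 : 11 ^ 2 ∣ Nat.card H := (pow_dvd_pow 11 (by omega)).trans (hk ▸ Subgroup.card_subgroup_dvd_card _)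
      rw [hHc, show (11 : ℕ) ^ 2 = 11 * 11 by norm_num, show 22 * (3 * c * f) = 11 * (2 * (3 * c * f)) by ring] at h2
      rcases (Nat.Prime.dvd_mul (by norm_num)).mp (Nat.dvd_of_mul_dvd_mul_left (by norm_num) h2) with h3 | h3
      · norm_num at h3
      · exact h11c h3
    rw [hk, show k = 1 by omega, pow_one]
  have hTfree : ∀ z ∈ (T : Subgroup H), z ≠ 1 → ∀ R, (z : Equiv.Perm (Sylow 3 G)) R ≠ R := by
    intro z hz hz1 R hR
    obtain ⟨g, hg⟩ : R ∈ orbit ↥H P := (htrans H inf_le_left (fun x hx _ => hx)) ▸ Set.mem_univ R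
    have hmem : g⁻¹ * z * g ∈ N₀ := by
      show (g⁻¹ * z * g) • P = P
      have hg1 : g • P = R := hg
      rw [mul_smul, mul_smul, hg1, inv_smul_eq_iff, hg1]
      exact hR
    have h1 : orderOf (g⁻¹ * z * g) = 11 := by
      rw [show g⁻¹ * z * g = MulAut.conj g⁻¹ z by simp, MulEquiv.orderOf_eq]
      exact ((Nat.dvd_prime (by norm_num)).mp (hTc ▸ (T : Subgroup H).orderOf_dvd_natCard hz)).resolve_left (by simpa using hz1)
    exact h11c (hNc ▸ h1 ▸ N₀.orderOf_dvd_natCard hmem)
  obtain ⟨t, ht, ht1⟩ : ∃ t ∈ (T : Subgroup H), t ≠ 1 :=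
    (T : Subgroup H).ne_bot_iff_exists_ne_one.mp (fun e => by rw [e, Subgroup.card_bot] at hTc; omega) |>.elim
      fun x hx => ⟨x, x.2, fun e => hx (Subtype.ext e)⟩
  have hto : orderOf t = 11 :=
    ((Nat.dvd_prime (by norm_num)).mp (hTc ▸ (T : Subgroup H).orderOf_dvd_natCard ht)).resolve_left (by simpa using ht1)
  have ht11 : (t : Equiv.Perm (Sylow 3 G)) ^ 11 = 1 := by
    rw [← Subgroup.coe_pow, ← hto, pow_orderOf_eq_one]; rfl
  have hTgen : (T : Subgroup H) = Subgroup.zpowers t :=
    (Subgroup.eq_of_le_of_card_ge (Subgroup.zpowers_le.mpr ht) (by rw [Nat.card_zpowers, hto, hTc])).symm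
  have hcent : ∀ y : H, y * t = t * y → y ∈ (T : Subgroup H) := by
    intro y hy
    set CT := Subgroup.centralizer ({t} : Set H) with hCT
    have hTC : (T : Subgroup H) ≤ CT := by
      rw [hTgen, Subgroup.zpowers_le]
      exact Subgroup.mem_centralizer_singleton_iff.mpr rfl
    suffices h : CT ≤ (T : Subgroup H) from h (Subgroup.mem_centralizer_singleton_iff.mpr hy)
    obtain ⟨m, hm⟩ := hTc ▸ Subgroup.card_dvd_of_le hTC
    refine (Subgroup.eq_of_le_of_card_ge hTC ?_).ge
    rw [hTc, hm]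
    by_contra hlt
    obtain ⟨q, hq, hqm⟩ := Nat.exists_prime_and_dvd (n := m) (fun e => hlt (by rw [e]))
    have := Fact.mk hq
    have hq11 : q ≠ 11 := fun e => by
      have h2 : 11 * 11 ∣ Nat.card H :=
        (Nat.mul_dvd_mul_left 11 (e ▸ hqm)).trans (hm ▸ Subgroup.card_subgroup_dvd_card CT)
      rw [hHc, show 22 * (3 * c * f) = 11 * (2 * (3 * c * f)) by ring] at h2
      rcases (Nat.Prime.dvd_mul (by norm_num)).mp (Nat.dvd_of_mul_dvd_mul_left (by norm_num) h2) with h3 | h3
      · norm_num at h3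
      · exact h11c h3
    obtain ⟨w, hw⟩ := exists_prime_orderOf_dvd_card' q (hm ▸ Dvd.dvd.mul_left hqm 11)
    have hwo : orderOf ((w : H) : Equiv.Perm (Sylow 3 G)) = q := by rw [Subgroup.orderOf_coe, Subgroup.orderOf_coe, hw]
    have hwc : (t : Equiv.Perm (Sylow 3 G)) * ((w : H) : Equiv.Perm (Sylow 3 G)) = ((w : H) : Equiv.Perm (Sylow 3 G)) * t :=
      congrArg Subtype.val (Subgroup.mem_centralizer_singleton_iff.mp w.2).symm
    have h11 := dvd_supp_of_comm ht11 (fun R _ => hTfree t ht ht1 R) hwc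
    obtain ⟨n, hn, hsgn⟩ := supp_of_prime _ hq hwo
    have hle : ((w : H) : Equiv.Perm (Sylow 3 G)).support.card ≤ 22 := hX ▸ Finset.card_le_univ _
    rw [hn] at h11 hle
    obtain ⟨j, hj⟩ := h11
    have hdvd : q ∣ 11 * j := hj ▸ Dvd.intro_left _ rfl
    have hqj : q ∣ j := (hq.dvd_mul.mp hdvd).resolve_left fun h =>
      hq11 ((Nat.prime_dvd_prime_iff_eq hq (by norm_num)).mp h)
    have hj2 : j = 2 := by
      rcases Nat.lt_or_ge j 3 with h | h
      · interval_cases j
        · exfalso; nlinarith [hq.two_le]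
        · exact absurd hqj hq.not_dvd_one
        · rfl
      · omega
    subst hj2
    have hq2 : q = 2 := (Nat.prime_dvd_prime_iff_eq hq Nat.prime_two).mp hqj
    subst hq2
    have hs : Equiv.Perm.sign ((w : H) : Equiv.Perm (Sylow 3 G)) = 1 := Equiv.Perm.mem_alternatingGroup.mp (w : H).2.2
    rw [hsgn, show n + 1 = 11 by omega] at hs
    exact absurd hs (by decide)
  set NT := Subgroup.normalizer ((T : Subgroup H) : Set H) with hNT
  have hTN : (T : Subgroup H) ≤ NT := Subgroup.le_normalizer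
  obtain ⟨e, he10, hNTc⟩ : ∃ e, e ∣ 10 ∧ Nat.card NT = 11 * e := by
    let θ := (T : Subgroup H).normalizerMonoidHom
    refine ⟨Nat.card θ.range, ?_, ?_⟩
    · refine (Subgroup.card_subgroup_dvd_card _).trans (dvd_of_eq ?_)
      have hcyc := isCyclic_of_prime_card (p := 11) hTc
      rw [IsCyclic.card_mulAut, hTc, Nat.totient_prime (by norm_num)]
    · have hk : θ.ker = (T : Subgroup H).subgroupOf NT := by
        rw [Subgroup.normalizerMonoidHom_ker]
        ext y
        rw [Subgroup.mem_subgroupOf, Subgroup.mem_subgroupOf, Subgroup.mem_centralizer_iff]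
        refine ⟨fun h => hcent _ (h t ht).symm, fun h z hz => ?_⟩
        have hcyc := isCyclic_of_prime_card (p := 11) hTc
        exact congrArg Subtype.val (IsMulCommutative.is_comm.comm (⟨z, hz⟩ : (T : Subgroup H)) ⟨_, h⟩)
      rw [← θ.ker.card_mul_index, Subgroup.index_ker, hk, Nat.card_congr (Subgroup.subgroupOfEquivOfLe hTN).toEquiv, hTc]
  -- complements
  have hcompl : ∀ (K : Subgroup H) (S : Sylow 11 K), Nat.card ↥(S : Subgroup K) = 11 →
      Nat.card (Subgroup.normalizer ((S : Subgroup K) : Set K)) = 11 →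
      (∀ x ∈ H, orderOf x ∣ 3 → x ∈ K.map H.subtype) → False := by
    intro K S hSc hNS hK3
    have hcyc := isCyclic_of_prime_card (p := 11) hSc
    have hNC : Subgroup.normalizer ((S : Subgroup K) : Set K) ≤ Subgroup.centralizer ((S : Subgroup K) : Set K) := by
      rw [← Subgroup.eq_of_le_of_card_ge Subgroup.le_normalizer (hNS.trans hSc.symm).le]
      exact Subgroup.le_centralizer _
    have hcomp := MonoidHom.ker_transferSylow_isComplement' S hNC
    set L := ((MonoidHom.transferSylow S hNC).ker.map K.subtype).map H.subtype with hL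
    have h11 : ¬ 11 ∣ Nat.card L := by
      rw [hL, Subgroup.card_map_of_injective H.subtype_injective, Subgroup.card_map_of_injective K.subtype_injective]
      exact MonoidHom.not_dvd_card_ker_transferSylow S hNC
    have hsub : ∀ x ∈ H, orderOf x ∣ 3 → x ∈ L := by
      intro x hx ho
      obtain ⟨k, hk, hkx⟩ := hK3 x hx ho
      refine ⟨k, ⟨⟨k, hk⟩, orderOf_eq_one_iff.mp (Nat.dvd_one.mp ?_), rfl⟩, hkx⟩
      have hko : orderOf (⟨k, hk⟩ : K) ∣ 3 := by
        rw [Subgroup.orderOf_mk, ← Subgroup.orderOf_coe]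
        rw [show (k : Equiv.Perm (Sylow 3 G)) = x from hkx]
        exact ho
      exact (Nat.dvd_gcd ((orderOf_map_dvd _ _).trans hko) ((orderOf_dvd_natCard _).trans hSc.dvd)).trans (by norm_num)
    have hLR : L ≤ φ.range := (Subgroup.map_subtype_le _).trans inf_le_left
    have horb := htrans L hLR hsub
    have h22 : Nat.card (orbit ↥L P) = 22 := by rw [horb, Nat.card_univ, hcard]
    refine h11 (dvd_trans ?_ (Subgroup.index_dvd_card (stabilizer ↥L P)))
    rw [Subgroup.index, ← Nat.card_congr (orbitEquivQuotientStabilizer ↥L P), h22]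
    norm_num
  have he1 : e ≠ 1 := by
    rintro rfl
    let T' : Sylow 11 (⊤ : Subgroup H) := T.subtype le_top
    refine hcompl ⊤ T' ((Nat.card_congr (Subgroup.subgroupOfEquivOfLe le_top).toEquiv).trans hTc) ?_
      (fun x hx _ => ⟨⟨x, hx⟩, Subgroup.mem_top _, rfl⟩)
    have h1 : Subgroup.normalizer (((T : Subgroup H).subgroupOf ⊤ : Subgroup (⊤ : Subgroup H)) : Set (⊤ : Subgroup H)) =
        NT.subgroupOf ⊤ := by
      ext u
      rw [Subgroup.mem_subgroupOf, Subgroup.mem_normalizer_iff, Subgroup.mem_normalizer_iff]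
      exact ⟨fun h v => h ⟨v, Subgroup.mem_top v⟩, fun h v => h v⟩
    show Nat.card ↥(Subgroup.normalizer (((T : Subgroup H).subgroupOf ⊤ : Subgroup (⊤ : Subgroup H)) : Set (⊤ : Subgroup H))) = 11
    rw [h1, Nat.card_congr (Subgroup.subgroupOfEquivOfLe le_top).toEquiv, hNTc]
  -- the stabilizer is not centralized
  have hf2 : f = 2 := by
    refine hf12.resolve_left fun hf1 => ?_
    let S : Sylow 3 H := Sylow.ofCard (PB.subgroupOf H) (by
      rw [Nat.card_congr (Subgroup.subgroupOfEquivOfLe hPH).toEquiv, hPBc, hHc, hf1, mul_one,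
        show 22 * (3 * c) = 3 ^ 1 * (22 * c) by ring,
        Nat.factorization_mul (by norm_num) (mul_ne_zero (by norm_num) (fun h => hc3 (by rw [h]; exact dvd_zero 3)))]
      simp [Nat.Prime.factorization_self Nat.prime_three,
        Nat.factorization_eq_zero_of_not_dvd (show ¬ 3 ∣ 22 * c from fun h =>
          hc3 ((Nat.prime_three.dvd_mul.mp h).resolve_left (by norm_num)))])
    have hNC : Subgroup.normalizer ((S : Subgroup H) : Set H) ≤ Subgroup.centralizer ((S : Subgroup H) : Set H) := by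
      intro u hu
      have huP : u ∈ N₀ := huniq x₀ hx₀ hx₀1 _ (by
        have h1 := (Subgroup.mem_normalizer_iff''.mp hu (⟨x₀, hPH hx₀⟩ : H)).mp hx₀
        have h2 := hfixP _ h1
        change (u : Equiv.Perm (Sylow 3 G))⁻¹ (x₀ ((u : Equiv.Perm (Sylow 3 G)) P)) = P at h2
        exact Equiv.Perm.inv_eq_iff_eq.mp h2)
      have hCtop : C = ⊤ := Subgroup.eq_top_of_card_eq _ (by rw [hCc, hNc, hf1, mul_one])
      have hu' : (⟨u, huP⟩ : N₀) ∈ C := hCtop ▸ Subgroup.mem_top _
      refine Subgroup.mem_centralizer_iff.mpr fun z hz => Subtype.ext ?_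
      exact hCcomm ⟨_, hu'⟩ z hz
    have hcomp := MonoidHom.ker_transferSylow_isComplement' S hNC
    set K := (MonoidHom.transferSylow S hNC).ker
    have hSc : Nat.card ↥(S : Subgroup H) = 3 :=
      (Nat.card_congr (Subgroup.subgroupOfEquivOfLe hPH).toEquiv).trans hPBc
    have h3 : ∀ u : H, ¬ 3 ∣ orderOf u → u ∈ K := fun u hu => by
      refine orderOf_eq_one_iff.mp (Nat.dvd_one.mp ?_)
      have h1 : (orderOf u).Coprime 3 := (Nat.prime_three.coprime_iff_not_dvd.mpr hu).symm
      exact (Nat.dvd_gcd (orderOf_map_dvd _ u) ((orderOf_dvd_natCard _).trans hSc.dvd)).trans h1.gcd_eq_one.dvd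
    have hTK : (T : Subgroup H) ≤ K := fun u hu => h3 u fun hd => by
      have := hd.trans (hTc ▸ (T : Subgroup H).orderOf_dvd_natCard hu)
      norm_num at this
    let TK : Sylow 11 K := T.subtype hTK
    have hsup := Sylow.normalizer_sup_eq_top TK
    rw [show ((TK : Subgroup K).map K.subtype) = (T : Subgroup H) from Subgroup.map_subgroupOf_eq_of_le hTK] at hsup
    have hNK : NT ≤ K := fun u hu => h3 u fun hd => by
      have h1 := hd.trans ((hNTc ▸ NT.orderOf_dvd_natCard hu).trans (Nat.mul_dvd_mul_left 11 he10))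
      norm_num at h1
    have hKtop : K = ⊤ := eq_top_iff.mpr (hsup.ge.trans (sup_le hNK le_rfl))
    have h := hcomp.card_mul_card
    rw [hKtop, Subgroup.card_top, hSc] at h
    have := Nat.card_pos (α := H)
    omega
  rw [hf2, show 22 * (3 * c * 2) = 132 * c by ring] at hHc
  -- counting the Sylow 11-subgroups
  have hn11 : Nat.card (Sylow 11 H) * e = 12 * c := by
    have h1 : Nat.card (Sylow 11 H) = NT.index := Sylow.card_eq_index_normalizer T
    have h2 := NT.card_mul_index
    rw [hNTc, ← h1, hHc] at h2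
    nlinarith [h2]
  have hmod := card_sylow_modEq_one 11 H
  have he5 : ¬ 5 ∣ e := by
    intro h5
    have h5c : 5 ∣ c := by
      have h1 : 5 ∣ 12 * c := hn11 ▸ Dvd.dvd.mul_left h5 _
      exact ((Nat.Prime.dvd_mul (by norm_num)).mp h1).resolve_left (by norm_num)
    obtain ⟨y, hy⟩ := exists_prime_orderOf_dvd_card' (G := NT) 5 (hNTc ▸ Dvd.dvd.mul_left h5 11)
    obtain ⟨y', hy'⟩ := exists_prime_orderOf_dvd_card' (G := C) 5 (hCc ▸ Dvd.dvd.mul_left h5c 3)
    set u : H := (y : H) with hu
    set u' : H := ((y' : N₀) : H) with hu'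
    have huo : orderOf u = 5 := by rw [hu, Subgroup.orderOf_coe, hy]
    have hu'o : orderOf u' = 5 := by rw [hu', Subgroup.orderOf_coe, Subgroup.orderOf_coe, hy']
    have huT : u ∉ (T : Subgroup H) := fun h => by
      have := hTc ▸ (T : Subgroup H).orderOf_dvd_natCard h
      rw [huo] at this
      norm_num at this
    -- at most two fixed points
    have : Fintype (Quotient (orbitRel ↥(T : Subgroup H) (Sylow 3 G))) := Fintype.ofFinite _
    have horbits : Fintype.card (Quotient (orbitRel ↥(T : Subgroup H) (Sylow 3 G))) = 2 := by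
      have h1 : (Finset.univ : Finset (Sylow 3 G)).card = 11 * ((Finset.univ : Finset (Sylow 3 G)).image
          (Quotient.mk (orbitRel ↥(T : Subgroup H) (Sylow 3 G)))).card := by
        rw [Finset.card_eq_sum_card_image (Quotient.mk (orbitRel ↥(T : Subgroup H) (Sylow 3 G))) Finset.univ,
          Finset.sum_const_nat (m := 11), Nat.mul_comm]
        intro q hq
        obtain ⟨S, -, rfl⟩ := Finset.mem_image.mp hq
        have hst : stabilizer ↥(T : Subgroup H) S = ⊥ := by
          rw [eq_bot_iff]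
          intro z hz
          by_contra hz1
          exact hTfree z z.2 (fun e => hz1 (Subtype.ext e)) S hz
        refine Eq.trans ?_ hTc
        rw [← Subgroup.index_bot (G := ↥(T : Subgroup H)), ← hst, Subgroup.index,
          ← Nat.card_congr (orbitEquivQuotientStabilizer ↥(T : Subgroup H) S), Nat.card_eq_card_toFinset]
        congr 1
        ext R
        rw [Set.mem_toFinset, Finset.mem_filter, Quotient.eq]
        exact ⟨fun h => h.2, fun h => ⟨Finset.mem_univ _, h⟩⟩
      rw [Finset.image_univ_of_surjective Quotient.mk_surjective, Finset.card_univ, Finset.card_univ, hX] at h1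
      omega
    have hle : ((Finset.univ : Finset (Sylow 3 G)).filter fun R => (u : Equiv.Perm (Sylow 3 G)) R = R).card ≤ 2 := by
      rw [← horbits]
      refine Finset.card_le_card_of_injOn (Quotient.mk (orbitRel ↥(T : Subgroup H) (Sylow 3 G))) (fun R _ => Finset.mem_univ _) ?_
      intro R hR S hS h
      simp only [Finset.coe_filter, Finset.mem_univ, true_and, Set.mem_setOf_eq] at hR hS
      obtain ⟨z, hz⟩ := Quotient.exact h
      by_contra hne
      have hz1 : (z : H) ≠ 1 := fun e => hne (by rw [← hz]; show (((z : H)) : Equiv.Perm (Sylow 3 G)) S = S; rw [e]; rfl)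
      have hzT : u * (z : H) * u⁻¹ ∈ (T : Subgroup H) := (Subgroup.mem_normalizer_iff.mp y.2 _).mp z.2
      have hfix' : (((z : H)⁻¹ * (u * (z : H) * u⁻¹) : H) : Equiv.Perm (Sylow 3 G)) S = S := by
        have hzS : ((z : H) : Equiv.Perm (Sylow 3 G)) S = R := hz
        simp only [Subgroup.coe_mul, Subgroup.coe_inv, Equiv.Perm.mul_apply]
        rw [show ((u : Equiv.Perm (Sylow 3 G))⁻¹) S = S from Equiv.Perm.inv_eq_iff_eq.mpr hS.symm, hzS, hR, ← hzS,
          Equiv.Perm.inv_def, Equiv.symm_apply_apply]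
      have h1 : (z : H)⁻¹ * (u * (z : H) * u⁻¹) = 1 := by
        by_contra h2
        exact hTfree _ (mul_mem (inv_mem z.2) hzT) h2 S hfix'
      have h2 : u * (z : H) = (z : H) * u := by
        rw [inv_mul_eq_one, eq_mul_inv_iff_mul_eq] at h1
        exact h1.symm
      have hzgen : Subgroup.zpowers (z : H) = (T : Subgroup H) :=
        Subgroup.eq_of_le_of_card_ge (Subgroup.zpowers_le.mpr z.2) (by
          rw [Nat.card_zpowers, hTc]
          exact (((Nat.dvd_prime (by norm_num)).mp (((T : Subgroup H).orderOf_dvd_natCard z.2).trans hTc.dvd)).resolve_left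
            (by simpa using hz1)).ge)
      obtain ⟨i, hi⟩ := Subgroup.mem_zpowers_iff.mp (hzgen.ge ht)
      exact huT (hcent u (by rw [← hi]; exact (Commute.zpow_right (show Commute u (z : H) from h2) i).eq))
    -- at least seven fixed points
    have hge : 7 ≤ ((Finset.univ : Finset (Sylow 3 G)).filter fun R => (u' : Equiv.Perm (Sylow 3 G)) R = R).card := by
      have hρ5 : orderOf (ρ y') ∣ 5 := (orderOf_map_dvd ρ y').trans hy'.dvd
      have hfq : 2 ≤ ((Finset.univ : Finset Ω).filter fun q => ρ y' q = q).card := by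
        have h1 := Finset.card_filter_add_card_filter_not (s := (Finset.univ : Finset Ω)) (fun q => ρ y' q = q)
        have h2 : ((Finset.univ : Finset Ω).filter fun q => ¬ ρ y' q = q) = (ρ y').support := by
          ext q; simp [Equiv.Perm.mem_support]
        rw [h2, Finset.card_univ, hΩ] at h1
        have h3 : (ρ y').support.card ≤ 5 := by
          rcases (Nat.dvd_prime (by norm_num)).mp hρ5 with h | h
          · simp [orderOf_eq_one_iff.mp h]
          · obtain ⟨n, hn, -⟩ := supp_of_prime (ρ y') (by norm_num) h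
            have h4 : (ρ y').support.card ≤ 7 := hΩ ▸ Finset.card_le_univ _
            omega
        omega
      set F := ((Finset.univ : Finset (Sylow 3 G)).filter fun R => (u' : Equiv.Perm (Sylow 3 G)) R = R) with hF
      set F' := (Finset.univ.erase P).filter fun R => ρ₀ y' (Quotient.mk r R) = Quotient.mk r R with hF'
      have hsub : insert P F' ⊆ F := by
        intro R hR
        rw [hF, Finset.mem_filter]
        refine ⟨Finset.mem_univ _, ?_⟩
        rcases Finset.mem_insert.mp hR with h | h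
        · rw [h]; exact (y' : N₀).2
        · have h3 := hpw y' R (Finset.mem_filter.mp h).2
          have h5 : ((u' : Equiv.Perm (Sylow 3 G)) ^ 5) = 1 := by
            rw [← Subgroup.coe_pow, ← hu'o, pow_orderOf_eq_one]; rfl
          have h6 : ((u' : Equiv.Perm (Sylow 3 G)) ^ 6) R = R := by
            rw [show 6 = 3 + 3 from rfl, pow_add, Equiv.Perm.mul_apply, h3, h3]
          rwa [show 6 = 5 + 1 from rfl, pow_succ, h5, one_mul] at h6
      have hF6 : 6 ≤ F'.card := by
        have h1 : F'.card = 3 * (F'.image (Quotient.mk r)).card := by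
          rw [Finset.card_eq_sum_card_image (Quotient.mk r) F', Finset.sum_const_nat (m := 3), Nat.mul_comm]
          intro q hq
          obtain ⟨S, hS, rfl⟩ := Finset.mem_image.mp hq
          obtain ⟨hS1, hS2⟩ := Finset.mem_filter.mp hS
          refine Eq.trans ?_ (hfib S (Finset.ne_of_mem_erase hS1))
          rw [Nat.card_eq_card_toFinset]
          congr 1
          ext R
          rw [Set.mem_toFinset, Finset.mem_filter, Quotient.eq]
          refine ⟨fun h => h.2, fun h => ⟨?_, h⟩⟩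
          have hRS : Quotient.mk r R = Quotient.mk r S := Quotient.sound h
          refine Finset.mem_filter.mpr ⟨Finset.mem_erase.mpr ⟨fun e => ?_, Finset.mem_univ _⟩, by rw [hRS, hS2]⟩
          exact Finset.ne_of_mem_erase hS1 (hP1 S (hRS.symm.trans (e ▸ rfl)))
        have h2 : ((Finset.univ : Finset Ω).filter fun q => ρ y' q = q).image Subtype.val ⊆ F'.image (Quotient.mk r) := by
          intro q hq
          obtain ⟨⟨q, hqP⟩, hq1, rfl⟩ := Finset.mem_image.mp hq
          obtain ⟨S, rfl⟩ := Quotient.mk_surjective q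
          exact Finset.mem_image_of_mem _ (Finset.mem_filter.mpr ⟨Finset.mem_erase.mpr ⟨fun e => hqP (e ▸ rfl), Finset.mem_univ _⟩,
            congrArg Subtype.val (Finset.mem_filter.mp hq1).2⟩)
        have h3 := Finset.card_le_card h2
        rw [Finset.card_image_of_injective _ Subtype.val_injective] at h3
        omega
      refine le_trans ?_ (Finset.card_le_card hsub)
      rw [Finset.card_insert_of_notMem fun h => (Finset.ne_of_mem_erase (Finset.mem_filter.mp h).1) rfl]
      rw [hF'] at hF6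
      omega
    -- the two elements generate conjugate subgroups
    have hmult : ∀ w : H, orderOf w = 5 → Nat.card (Subgroup.zpowers w) = 5 ^ (Nat.card H).factorization 5 := by
      intro w hw
      obtain ⟨d, hd⟩ := h5c
      have hd5 : ¬ 5 ∣ d := fun h => by
        have h1 : 5 * 5 ∣ 560 := ((Nat.mul_dvd_mul_left 5 h).trans (dvd_of_eq hd.symm)).trans hc560
        norm_num at h1
      have hd0 : 132 * d ≠ 0 := mul_ne_zero (by norm_num) fun e => hd5 (e ▸ dvd_zero 5)
      rw [Nat.card_zpowers, hw, hHc, hd, show 132 * (5 * d) = 5 ^ 1 * (132 * d) by ring,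
        Nat.factorization_mul (by norm_num) hd0]
      simp [Nat.Prime.factorization_self (show Nat.Prime 5 by norm_num),
        Nat.factorization_eq_zero_of_not_dvd (show ¬ 5 ∣ 132 * d from fun h =>
          hd5 (((Nat.Prime.dvd_mul (by norm_num)).mp h).resolve_left (by norm_num)))]
    obtain ⟨g, hg⟩ := MulAction.exists_smul_eq H (Sylow.ofCard _ (hmult u huo) : Sylow 5 H) (Sylow.ofCard _ (hmult u' hu'o))
    have hmem : u' ∈ Subgroup.zpowers (g * u * g⁻¹) := by
      have h1 : u' ∈ ((g • (Sylow.ofCard _ (hmult u huo) : Sylow 5 H) : Sylow 5 H) : Subgroup H) := by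
        rw [hg]; exact Subgroup.mem_zpowers u'
      rw [Sylow.coe_subgroup_smul] at h1
      obtain ⟨w, hw, hwe⟩ := h1
      obtain ⟨i, rfl⟩ := Subgroup.mem_zpowers_iff.mp hw
      refine Subgroup.mem_zpowers_iff.mpr ⟨i, ?_⟩
      rw [conj_zpow]
      exact hwe
    have hrev : g * u * g⁻¹ ∈ Subgroup.zpowers u' := by
      rw [← Subgroup.zpowers_le, Subgroup.eq_of_le_of_card_ge (Subgroup.zpowers_le.mpr hmem) ?_]
      rw [Nat.card_zpowers, Nat.card_zpowers, hu'o, show g * u * g⁻¹ = MulAut.conj g u by simp, MulEquiv.orderOf_eq, huo]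
    obtain ⟨i, hi⟩ := Subgroup.mem_zpowers_iff.mp hrev
    have hcard' : ((Finset.univ : Finset (Sylow 3 G)).filter fun R => (u' : Equiv.Perm (Sylow 3 G)) R = R).card ≤
        ((Finset.univ : Finset (Sylow 3 G)).filter fun R => (u : Equiv.Perm (Sylow 3 G)) R = R).card := by
      refine Finset.card_le_card_of_injOn ((g : Equiv.Perm (Sylow 3 G))⁻¹ : Equiv.Perm (Sylow 3 G)) (fun R hR => ?_)
        (fun a _ b _ h => (Equiv.injective _) h)
      simp only [Finset.coe_filter, Finset.mem_univ, true_and, Set.mem_setOf_eq] at hR ⊢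
      have h1 : ((g * u * g⁻¹ : H) : Equiv.Perm (Sylow 3 G)) R = R := by
        rw [← hi, Subgroup.coe_zpow]
        exact Equiv.Perm.zpow_apply_eq_self_of_apply_eq_self hR i
      simp only [Subgroup.coe_mul, Subgroup.coe_inv, Equiv.Perm.mul_apply] at h1
      exact Equiv.Perm.eq_inv_iff_eq.mpr h1
    omega
  have he2 : e = 2 := by
    have h1 : e ∈ Nat.divisors 10 := Nat.mem_divisors.mpr ⟨he10, by norm_num⟩
    rw [show Nat.divisors 10 = {1, 2, 5, 10} by decide] at h1
    simp only [Finset.mem_insert, Finset.mem_singleton] at h1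
    rcases h1 with rfl | rfl | rfl | rfl
    · exact absurd rfl he1
    · rfl
    · exact absurd (dvd_refl 5) he5
    · exact absurd (by norm_num : (5 : ℕ) ∣ 10) he5
  subst he2
  have hn6 : Nat.card (Sylow 11 H) = 6 * c := by omega
  have hcases : c = 2 ∨ c = 35 ∨ c = 112 := by
    refine c_cases c (Nat.mem_divisors.mpr ⟨hc560, by norm_num⟩) ?_
    rw [hn6] at hmod
    exact hmod
  rcases hcases with hc2 | h | h
  swap
  · exact no_order_35 hΩ ρ.range h
  swap
  · exact no_order_112 hΩ ρ.range h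
  -- order 264
  rw [hc2] at hn6
  have := Fintype.ofFinite (Sylow 11 H)
  have hY : Fintype.card (Sylow 11 H) = 12 := by rw [← Nat.card_eq_fintype_card, hn6]
  let ψ' : H →* Equiv.Perm (Sylow 11 H) := MulAction.toPermHom H (Sylow 11 H)
  let χ : H →* ℤˣ := Equiv.Perm.sign.comp ψ'
  obtain ⟨τ', hτ'⟩ := exists_prime_orderOf_dvd_card' (G := NT) 2 (hNTc ▸ Dvd.intro_left 11 rfl)
  set τ : H := (τ' : H) with hτ
  have hτo : orderOf τ = 2 := by rw [hτ, Subgroup.orderOf_coe, hτ']
  have hτT : ψ' τ T = T := Sylow.smul_eq_iff_mem_normalizer.mpr τ'.2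
  have htfix : ∀ Y : Sylow 11 H, t • Y = Y → Y = T := by
    intro Y hY'
    have h1 : t ∈ (T : Subgroup H) ⊓ Subgroup.normalizer ((Y : Subgroup H) : Set H) :=
      ⟨ht, Sylow.smul_eq_iff_mem_normalizer.mp hY'⟩
    have h2 : (T : Subgroup H) ≤ Y := by
      rw [hTgen, Subgroup.zpowers_le]
      exact ((T.2.inf_normalizer_sylow Y).le h1).2
    exact Sylow.ext (T.3 Y.2 h2)
  have hzfix : ∀ z ∈ (T : Subgroup H), z ≠ 1 → ∀ Y : Sylow 11 H, z • Y = Y → Y = T := by
    intro z hz hz1 Y hzY
    refine htfix Y (Sylow.smul_eq_iff_mem_normalizer.mpr ?_)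
    have hzgen : Subgroup.zpowers z = (T : Subgroup H) :=
      Subgroup.eq_of_le_of_card_ge (Subgroup.zpowers_le.mpr hz) (by
        rw [Nat.card_zpowers, hTc]
        exact (((Nat.dvd_prime (by norm_num)).mp (hTc ▸ (T : Subgroup H).orderOf_dvd_natCard hz)).resolve_left
          (by simpa using hz1)).ge)
    exact (Subgroup.zpowers_le.mpr (Sylow.smul_eq_iff_mem_normalizer.mp hzY)) (hzgen.ge ht)
  have hoth : ∀ Y Z : Sylow 11 H, Y ≠ T → Z ≠ T → ψ' τ Y = Y → ψ' τ Z = Z → Y = Z := by
    intro Y Z hYT hZT hY' hZ'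
    have hsub : orbit ↥(T : Subgroup H) Y = ({T}ᶜ : Set (Sylow 11 H)) := by
      refine Set.eq_of_subset_of_ncard_le ?_ ?_ (Set.toFinite _)
      · rintro _ ⟨z, rfl⟩ hmem
        refine hYT (smul_left_cancel (z : H) ((Set.mem_singleton_iff.mp hmem).trans ?_))
        exact (Sylow.smul_eq_iff_mem_normalizer.mpr (Subgroup.le_normalizer z.2)).symm
      · rw [Set.ncard_compl, Set.ncard_singleton, hn6]
        obtain ⟨k, hk⟩ := T.2.card_orbit Y
        rw [Nat.card_coe_set_eq] at hk
        rw [hk]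
        rcases k with _ | k
        · exfalso
          rw [pow_zero] at hk
          obtain ⟨w, hw⟩ := Set.ncard_eq_one.mp hk
          have h1 : Y ∈ orbit ↥(T : Subgroup H) Y := mem_orbit_self Y
          have h2 : (⟨t, ht⟩ : (T : Subgroup H)) • Y ∈ orbit ↥(T : Subgroup H) Y := mem_orbit Y _
          rw [hw, Set.mem_singleton_iff] at h1 h2
          exact hYT (htfix Y (h2.trans h1.symm))
        · exact le_trans (by norm_num) (Nat.pow_le_pow_right (show 0 < 11 by norm_num) (show 1 ≤ k + 1 by omega))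
    obtain ⟨z, hz⟩ : Z ∈ orbit ↥(T : Subgroup H) Y := hsub ▸ hZT
    by_contra hne
    have hz1 : (z : H) ≠ 1 := fun e => hne (by rw [← hz]; show Y = (z : H) • Y; rw [e, one_smul])
    have hzT : τ * (z : H) * τ⁻¹ ∈ (T : Subgroup H) := (Subgroup.mem_normalizer_iff.mp τ'.2 _).mp z.2
    have hzY : (z : H) • Y = Z := hz
    have hfix' : ((z : H)⁻¹ * (τ * (z : H) * τ⁻¹)) • Y = Y := by
      rw [mul_smul, mul_smul, mul_smul, show τ⁻¹ • Y = Y from inv_smul_eq_iff.mpr (show Y = τ • Y from hY'.symm), hzY,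
        show τ • Z = Z from hZ', ← hzY, inv_smul_smul]
    have h1 : (z : H)⁻¹ * (τ * (z : H) * τ⁻¹) = 1 := by
      by_contra h2
      exact hYT (hzfix _ (mul_mem (inv_mem z.2) hzT) h2 Y hfix')
    rw [inv_mul_eq_one, eq_mul_inv_iff_mul_eq] at h1
    have hzgen : Subgroup.zpowers (z : H) = (T : Subgroup H) :=
      Subgroup.eq_of_le_of_card_ge (Subgroup.zpowers_le.mpr z.2) (by
        rw [Nat.card_zpowers, hTc]
        exact (((Nat.dvd_prime (by norm_num)).mp (((T : Subgroup H).orderOf_dvd_natCard z.2).trans hTc.dvd)).resolve_left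
          (by simpa using hz1)).ge)
    obtain ⟨i, hi⟩ := Subgroup.mem_zpowers_iff.mp (hzgen.ge ht)
    have hτmem := hcent τ (by rw [← hi]; exact (Commute.zpow_right (show Commute τ (z : H) from h1.symm) i).eq)
    have := hTc ▸ (T : Subgroup H).orderOf_dvd_natCard hτmem
    rw [hτo] at this
    norm_num at this
  have hχτ : χ τ = -1 := by
    have hne : ψ' τ ≠ 1 := by
      intro e
      obtain ⟨Y, hYT⟩ : ∃ Y : Sylow 11 H, Y ≠ T := Fintype.exists_ne_of_one_lt_card (by omega) T
      obtain ⟨Z, hZT, hZY⟩ : ∃ Z : Sylow 11 H, Z ≠ T ∧ Z ≠ Y := by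
        obtain ⟨Z, hZ⟩ := Finset.exists_mem_notMem_of_card_lt_card (s := ({T, Y} : Finset (Sylow 11 H)))
          (t := Finset.univ) (by rw [Finset.card_univ, hY]; exact lt_of_le_of_lt Finset.card_le_two (by norm_num))
        simp only [Finset.mem_insert, Finset.mem_singleton, not_or] at hZ
        exact ⟨Z, hZ.2.1, hZ.2.2⟩
      exact hZY (hoth Z Y hZT hYT (by rw [e]; rfl) (by rw [e]; rfl))
    have ho : orderOf (ψ' τ) = 2 :=
      ((Nat.dvd_prime Nat.prime_two).mp ((orderOf_map_dvd ψ' τ).trans hτo.dvd)).resolve_left (by simpa using hne)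
    obtain ⟨n, hn, hs⟩ := supp_of_prime (ψ' τ) Nat.prime_two ho
    have hlo : 10 ≤ (ψ' τ).support.card := by
      have h1 := Finset.card_filter_add_card_filter_not (s := (Finset.univ : Finset (Sylow 11 H))) (fun Y => ψ' τ Y = Y)
      have h2 : ((Finset.univ : Finset (Sylow 11 H)).filter fun Y => ¬ ψ' τ Y = Y) = (ψ' τ).support := by
        ext q; simp [Equiv.Perm.mem_support]
      have h3 : ((Finset.univ : Finset (Sylow 11 H)).filter fun Y => ψ' τ Y = Y).card ≤ 2 := by
        refine le_trans (Finset.card_le_card (t := insert T (((Finset.univ : Finset (Sylow 11 H)).filter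
          fun Y => ψ' τ Y = Y).erase T)) fun Y hY => ?_) ?_
        · by_cases hYT : Y = T <;> simp [hYT, Finset.mem_filter.mp hY |>.2]
        · refine (Finset.card_insert_le _ _).trans (Nat.succ_le_succ (Finset.card_le_one.mpr fun a ha b hb => ?_))
          rw [Finset.mem_erase, Finset.mem_filter] at ha hb
          exact hoth a b ha.1 hb.1 ha.2.2 hb.2.2
      rw [h2, Finset.card_univ, hY] at h1
      omega
    have hhi : (ψ' τ).support.card < 12 := by
      rw [← hY, ← Finset.card_univ]
      exact Finset.card_lt_card (Finset.ssubset_univ_iff.mpr fun e => Equiv.Perm.mem_support.mp (e ▸ Finset.mem_univ T) hτT)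
    show Equiv.Perm.sign (ψ' τ) = -1
    rw [hs, show n + 1 = 5 by omega]
    decide
  have hχ : ∀ w : H, Odd (orderOf w) → w ∈ χ.ker := fun w hw => by
    rcases Int.units_eq_one_or (χ w) with h | h
    · exact h
    · exfalso
      have h1 : χ w ^ orderOf w = 1 := by rw [← map_pow, pow_orderOf_eq_one, map_one]
      rw [h, hw.neg_one_pow] at h1
      exact absurd h1 (by decide)
  have hTK : (T : Subgroup H) ≤ χ.ker := fun w hw =>
    hχ w (Odd.of_dvd_nat (by decide) (hTc ▸ (T : Subgroup H).orderOf_dvd_natCard hw))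
  refine hcompl χ.ker (T.subtype hTK) ((Nat.card_congr (Subgroup.subgroupOfEquivOfLe hTK).toEquiv).trans hTc) ?_
    (fun x hx ho => ⟨⟨x, hx⟩, hχ _ (Odd.of_dvd_nat (show Odd 3 by decide) (by rwa [Subgroup.orderOf_mk])), rfl⟩)
  have heq : Subgroup.normalizer (((T : Subgroup H).subgroupOf χ.ker : Subgroup χ.ker) : Set χ.ker) = NT.subgroupOf χ.ker := by
    ext w
    rw [Subgroup.mem_subgroupOf, Subgroup.mem_normalizer_iff, Subgroup.mem_normalizer_iff]
    refine ⟨fun h v => ?_, fun h v => h v⟩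
    by_cases hv : v ∈ χ.ker
    · exact h ⟨v, hv⟩
    · refine ⟨fun h' => absurd (hTK h') hv, fun h' => absurd ?_ hv⟩
      have h1 := χ.ker.mul_mem (χ.ker.mul_mem (χ.ker.inv_mem w.2) (hTK h')) w.2
      simpa [mul_assoc] using h1
  show Nat.card ↥(Subgroup.normalizer (((T : Subgroup H).subgroupOf χ.ker : Subgroup χ.ker) : Set χ.ker)) = 11
  rw [heq]
  have h1 : Nat.card (χ.ker.subgroupOf NT) = 11 := by
    obtain ⟨j, hj⟩ := hTc ▸ (Nat.card_congr (Subgroup.subgroupOfEquivOfLe hTN).toEquiv) ▸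
      Subgroup.card_dvd_of_le (show (T : Subgroup H).subgroupOf NT ≤ χ.ker.subgroupOf NT from Subgroup.comap_mono hTK)
    have h2 : χ.ker.subgroupOf NT ≠ ⊤ := fun e => by
      have := (Subgroup.subgroupOf_eq_top.mp e) τ'.2
      rw [MonoidHom.mem_ker] at this
      rw [show χ τ = _ from this] at hχτ
      exact absurd hχτ (by decide)
    have h3 := Subgroup.card_mul_index (χ.ker.subgroupOf NT)
    rw [hNTc, hj] at h3
    have h4 : (χ.ker.subgroupOf NT).index ≠ 1 := fun e => h2 (Subgroup.index_eq_one.mp e)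
    have h5 : j * (χ.ker.subgroupOf NT).index = 2 := by nlinarith [h3]
    rcases (Nat.dvd_prime Nat.prime_two).mp (Dvd.intro _ h5) with rfl | rfl
    · rw [hj, mul_one]
    · omega
  rw [← h1]
  exact Nat.card_congr
    { toFun := fun a => ⟨⟨a.1.1, a.2⟩, a.1.2⟩
      invFun := fun b => ⟨⟨b.1.1, b.2⟩, b.1.2⟩
      left_inv := fun a => rfl
      right_inv := fun b => rfl }

end Cfsg.Agent.S4346
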