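import Cfsg.Statements.S4347
import Mathlib
-- import your own Cfsg.Agent.* helpers here

set_option autoImplicit false
open Cfsg

namespace Cfsg.Agent.S4347

open scoped Pointwise

/-- Let G be a finite group and p a prime. Say a Sylow p-subgroup Q is redundant when every element of p-power order lies in some Sylow p-subgroup other than Q. Then G has no redundant Sylow p-subgroup if and only if some element of p-power order lies in exactly one Sylow p-subgroup. -/
theorem result {G : Type*} [Group G] [Finite G]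
    (p : ℕ) [Fact p.Prime] :
    (¬ ∃ Q : Sylow p G, ∀ x : G, (∃ k : ℕ, orderOf x = p ^ k) → ∃ P : Sylow p G, P ≠ Q ∧ x ∈ P) ↔
      ∃ x : G, (∃ k : ℕ, orderOf x = p ^ k) ∧ ∃! P : Sylow p G, x ∈ P := by
  have hmem : ∀ (g x : G) (P : Sylow p G), x ∈ g • P ↔ g⁻¹ * x * g ∈ P := fun g x P => by
    show x ∈ ((g • P : Sylow p G) : Subgroup G) ↔ g⁻¹ * x * g ∈ (P : Subgroup G)
    rw [Sylow.coe_subgroup_smul, Subgroup.mem_pointwise_smul_iff_inv_smul_mem, ← map_inv, MulAut.smul_def,
      MulAut.conj_apply, inv_inv]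
  constructor
  · intro h
    push Not at h
    obtain ⟨Q⟩ : Nonempty (Sylow p G) := inferInstance
    obtain ⟨x, ⟨k, hk⟩, hx⟩ := h Q
    have huniq : ∀ P : Sylow p G, x ∈ P → P = Q := fun P hxP => Classical.byContradiction fun hne => hx P hne hxP
    obtain ⟨R, hR⟩ := (IsPGroup.of_card (n := k) (by rw [Nat.card_zpowers, hk]) :
      IsPGroup p (Subgroup.zpowers x)).exists_le_sylow
    exact ⟨x, ⟨k, hk⟩, R, hR (Subgroup.mem_zpowers x), fun P hP =>
      (huniq P hP).trans (huniq R (hR (Subgroup.mem_zpowers x))).symm⟩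
  · rintro ⟨x, ⟨k, hk⟩, P, hxP, huniq⟩ ⟨Q, hQ⟩
    obtain ⟨g, rfl⟩ := MulAction.exists_smul_eq G P Q
    obtain ⟨P', hne, hP'⟩ := hQ (g * x * g⁻¹) ⟨k, by
      rw [← hk]; exact orderOf_injective (MulAut.conj g).toMonoidHom (MulAut.conj g).injective x⟩
    refine hne ?_
    have h1 : x ∈ g⁻¹ • P' := (hmem _ _ _).mpr (by rwa [inv_inv])
    rw [← huniq _ h1, smul_inv_smul]

end Cfsg.Agent.S4347
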