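import Cfsg.Statements.S4348
import Mathlib
import Cfsg.Agent.Lib.Basic
-- import your own Cfsg.Agent.* helpers here

set_option autoImplicit false
open Cfsg

namespace Cfsg.Agent.S4348

/-- Let G be a finite group, p a prime and P a Sylow p-subgroup of G, and let O_p(G) be the largest normal p-subgroup of G. If P/O_p(G) is cyclic, then some element of p-power order of G lies in exactly one Sylow p-subgroup. -/
theorem result {G : Type*} [Group G] [Finite G]
    (p : ℕ) [Fact p.Prime] (P : Sylow p G)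
    [hn : ((Cfsg.pCore p G).subgroupOf (P : Subgroup G)).Normal]
    (hc : IsCyclic ((P : Subgroup G) ⧸ (Cfsg.pCore p G).subgroupOf (P : Subgroup G))) :
    ∃ x : G, (∃ k : ℕ, orderOf x = p ^ k) ∧ ∃! Q : Sylow p G, x ∈ Q := by
  classical
  set O := Cfsg.pCore p G with hO
  have hOn : O.Normal := inferInstance
  obtain ⟨q, hq⟩ := hc.exists_generator
  obtain ⟨⟨x, hx⟩, rfl⟩ := QuotientGroup.mk_surjective q
  obtain ⟨k, hk⟩ := IsPGroup.iff_orderOf.mp P.isPGroup' ⟨x, hx⟩
  rw [Subgroup.orderOf_mk] at hk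
  refine ⟨x, ⟨k, hk⟩, P, hx, fun Q hQ => ?_⟩
  apply Sylow.ext
  refine (P.is_maximal' Q.isPGroup' ?_)
  intro u hu
  obtain ⟨i, hi⟩ := Subgroup.mem_zpowers_iff.mp (hq (QuotientGroup.mk (⟨u, hu⟩ : (P : Subgroup G))))
  have h2 : ((⟨x, hx⟩ : (P : Subgroup G)) ^ i)⁻¹ * ⟨u, hu⟩ ∈ O.subgroupOf (P : Subgroup G) := by
    rw [← QuotientGroup.eq, QuotientGroup.mk_zpow]; exact hi
  rw [Subgroup.mem_subgroupOf] at h2
  push_cast at h2
  have h3 := mul_mem (zpow_mem hQ i) (CfsgLib.pCore_le_sylow Q h2)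
  show u ∈ (Q : Subgroup G)
  rw [mul_inv_cancel_left] at h3; exact h3

end Cfsg.Agent.S4348
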