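import Cfsg.Statements.S4354
import Cfsg.Agent.Lib.SylowExtra
import Mathlib.GroupTheory.Sylow

set_option autoImplicit false
open Cfsg

namespace Cfsg.Agent.S4354

set_option linter.unusedSectionVars false

variable {G : Type*} [Group G] [Finite G] (p : ℕ) [Fact p.Prime]

theorem pElem_iff {x : G} : (∃ k : ℕ, orderOf x = p ^ k) ↔ ∃ k : ℕ, x ^ p ^ k = 1 := by
  constructor
  · rintro ⟨k, hk⟩
    exact ⟨k, by rw [← hk, pow_orderOf_eq_one]⟩
  · rintro ⟨k, hk⟩
    obtain ⟨j, _, hj⟩ := (Nat.dvd_prime_pow (Fact.out : p.Prime)).mp (orderOf_dvd_of_pow_eq_one hk)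
    exact ⟨j, hj⟩

theorem mem_sylow_pElem (P : Sylow p G) {x : G} (hx : x ∈ (P : Subgroup G)) :
    ∃ k : ℕ, x ^ p ^ k = 1 := by
  obtain ⟨k, hk⟩ := P.2 ⟨x, hx⟩
  exact ⟨k, by simpa using congrArg Subtype.val hk⟩

/-- Class size condition. -/
def Cond (G : Type*) [Group G] (p : ℕ) : Prop :=
  ∀ x : G, (∃ k : ℕ, orderOf x = p ^ k) → ¬ p ∣ (Subgroup.centralizer ({x} : Set G)).index

theorem cond_normal (h : Cond G p) (N : Subgroup G) [N.Normal] : Cond N p := by
  intro x hx hd
  refine h (x : G) (by rwa [Subgroup.orderOf_coe]) (hd.trans ?_)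
  have e : Subgroup.centralizer ({x} : Set N) =
      (Subgroup.centralizer ({(x : G)} : Set G)).subgroupOf N := by
    ext y
    rw [Subgroup.mem_subgroupOf, Subgroup.mem_centralizer_singleton_iff,
      Subgroup.mem_centralizer_singleton_iff]
    exact Subtype.ext_iff
  rw [e]
  exact CfsgLib.relIndex_dvd_index_of_normal_top _ N

theorem cond_quotient (h : Cond G p) (N : Subgroup G) [N.Normal] : Cond (G ⧸ N) p := by
  intro y hy hd
  obtain ⟨k, hk⟩ := (pElem_iff p).mp hy
  obtain ⟨g, rfl⟩ := QuotientGroup.mk'_surjective N y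
  -- the p-part of g
  have hcop : Nat.Coprime (ordCompl[p] (orderOf g)) (p ^ k) :=
    (Nat.coprime_ordCompl (Fact.out : p.Prime) (orderOf_pos g).ne').symm.pow_right k
  obtain ⟨u, hu⟩ := exists_pow_eq_self_of_coprime (x := QuotientGroup.mk' N g) (n := ordCompl[p] (orderOf g))
    (hcop.coprime_dvd_right (orderOf_dvd_of_pow_eq_one hk))
  set x := (g ^ ordCompl[p] (orderOf g)) ^ u with hxdef
  have hxy : QuotientGroup.mk' N x = QuotientGroup.mk' N g := by rw [hxdef, map_pow, map_pow, hu]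
  have hx : ∃ j : ℕ, x ^ p ^ j = 1 := by
    refine ⟨(orderOf g).factorization p, ?_⟩
    rw [hxdef, ← pow_mul, ← pow_mul, mul_comm u, ← mul_assoc, mul_comm (ordCompl[p] (orderOf g)),
      Nat.ordProj_mul_ordCompl_eq_self, pow_mul, pow_orderOf_eq_one, one_pow]
  refine h x ((pElem_iff p).mpr hx) (hd.trans ?_)
  refine Dvd.dvd.trans (Subgroup.index_dvd_of_le ?_)
    (Subgroup.index_map_dvd _ (QuotientGroup.mk'_surjective N))
  rintro _ ⟨c, hc, rfl⟩
  rw [Subgroup.mem_centralizer_singleton_iff, ← hxy, ← map_mul, ← map_mul]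
  rw [SetLike.mem_coe, Subgroup.mem_centralizer_singleton_iff] at hc
  rw [hc]

/-- If `N` and `G ⧸ N` have abelian Sylow subgroups and `G` satisfies the class condition, so has `G`. -/
theorem commutative_sylow (h : Cond G p) (N : Subgroup G) [N.Normal]
    (hN : ∀ P : Sylow p N, IsMulCommutative P) (hQ : ∀ P : Sylow p (G ⧸ N), IsMulCommutative P)
    (P : Sylow p G) : IsMulCommutative P := by
  have hp : p.Prime := Fact.out
  set P₀ : Subgroup G := (P : Subgroup G) ⊓ N with hP₀
  have hab₀ : ∀ a ∈ P₀, ∀ b ∈ P₀, a * b = b * a := by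
    intro a ha b hb
    have := (hN (CfsgLib.sylowInfNormal P N)).is_comm.comm
      ⟨⟨a, ha.2⟩, ha.1⟩ ⟨⟨b, hb.2⟩, hb.1⟩
    exact congrArg (fun z : (CfsgLib.sylowInfNormal P N : Subgroup N) => ((z : N) : G)) this
  -- Step A: P centralizes P₀
  have hA : ∀ x ∈ (P : Subgroup G), ∀ a ∈ P₀, x * a = a * x := by
    intro x hxP
    obtain ⟨k, hk⟩ := mem_sylow_pElem p P hxP
    obtain ⟨Q, hQle⟩ := CfsgLib.exists_sylow_le_of_not_dvd_index _ (h x ((pElem_iff p).mpr ⟨k, hk⟩))
    -- move `Q ∩ N` to `P ∩ N` inside `N`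
    obtain ⟨n, hn⟩ := MulAction.exists_smul_eq N (CfsgLib.sylowInfNormal P N) (CfsgLib.sylowInfNormal Q N)
    have hconj : ∀ a ∈ P₀, Commute x ((n : G) * a * (n : G)⁻¹) := by
      intro a ha
      have hmem : (MulAut.conj n (⟨a, ha.2⟩ : N)) ∈ (CfsgLib.sylowInfNormal Q N : Subgroup N) := by
        rw [← hn, Sylow.coe_subgroup_smul]
        exact Subgroup.smul_mem_pointwise_smul _ _ _ (show (⟨a, ha.2⟩ : N) ∈ _ from ha.1)
      have := Subgroup.mem_centralizer_singleton_iff.mp (hQle hmem)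
      exact this.symm
    -- c := n⁻¹ x n centralizes P₀
    set c : G := (n : G)⁻¹ * x * n with hc
    have hcC : c ∈ Subgroup.centralizer (P₀ : Set G) := by
      rw [Subgroup.mem_centralizer_iff]
      intro a ha
      have h1 := (hconj a ha).eq
      rw [hc]
      have h2 := congrArg (fun t => (n : G)⁻¹ * t * n) h1
      simp only [mul_assoc, inv_mul_cancel, mul_one, inv_mul_cancel_left] at h2 ⊢
      exact h2.symm
    have hxN : x ∈ Subgroup.normalizer (P₀ : Set G) := by
      rw [Subgroup.mem_normalizer_iff]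
      intro a
      constructor
      · intro ha
        exact ⟨mul_mem (mul_mem hxP ha.1) ((P : Subgroup G).inv_mem hxP), (inferInstance : N.Normal).conj_mem a ha.2 x⟩
      · intro ha
        have h1 : x⁻¹ * (x * a * x⁻¹) * x ∈ (P : Subgroup G) :=
          mul_mem (mul_mem ((P : Subgroup G).inv_mem hxP) ha.1) hxP
        have h2 : x⁻¹ * (x * a * x⁻¹) * x ∈ N := by
          simpa using (inferInstance : N.Normal).conj_mem _ ha.2 x⁻¹
        exact ⟨by rwa [show x⁻¹ * (x * a * x⁻¹) * x = a by group] at h1, by rwa [show x⁻¹ * (x * a * x⁻¹) * x = a by group] at h2⟩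
    set M := Subgroup.normalizer (P₀ : Set G) with hM
    have hcM : c ∈ M := Subgroup.centralizer_le_normalizer _ hcC
    set m : G := x * c⁻¹ with hm
    have hmN : m ∈ N := by
      have e : m = (x * (n : G)⁻¹ * x⁻¹) * n := by rw [hm, hc]; group
      rw [e]
      exact mul_mem ((inferInstance : N.Normal).conj_mem _ (inv_mem n.2) x) n.2
    have hmM : m ∈ M := mul_mem hxN (inv_mem hcM)
    -- work modulo the centralizer inside M
    set C : Subgroup M := (Subgroup.centralizer (P₀ : Set G)).subgroupOf M with hCdef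
    have hCn : C.Normal := by
      constructor
      intro y hy g
      rw [hCdef, Subgroup.mem_subgroupOf, Subgroup.mem_centralizer_iff] at hy ⊢
      intro a ha
      have ha' : (g : G)⁻¹ * a * g ∈ P₀ := by
        simpa using ((Subgroup.mem_normalizer_iff.mp (inv_mem g.2)) a).mp ha
      have h1 := hy _ ha'
      have h2 := congrArg (fun t => (g : G) * t * (g : G)⁻¹) h1
      simp only [mul_assoc, mul_inv_cancel_left, mul_inv_cancel, mul_one, Subgroup.coe_mul,
        Subgroup.coe_inv] at h2 ⊢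
      exact h2
    have hbar : QuotientGroup.mk' C ⟨x, hxN⟩ = QuotientGroup.mk' C ⟨m, hmM⟩ := by
      rw [QuotientGroup.mk'_apply, QuotientGroup.mk'_apply, QuotientGroup.eq_iff_div_mem, hCdef,
        Subgroup.mem_subgroupOf]
      have hcm : x / m = x * c * x⁻¹ := by
        rw [hm, div_eq_mul_inv, mul_inv_rev, inv_inv, ← mul_assoc]
      show x / m ∈ _
      rw [hcm, Subgroup.mem_centralizer_iff]
      intro a ha
      have ha' : x⁻¹ * a * x ∈ P₀ := by
        simpa using ((Subgroup.mem_normalizer_iff.mp (inv_mem hxN)) a).mp ha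
      have h1 := Subgroup.mem_centralizer_iff.mp hcC _ ha'
      have h2 := congrArg (fun t => x * t * x⁻¹) h1
      simp only [mul_assoc, mul_inv_cancel_left, mul_inv_cancel, mul_one] at h2 ⊢
      exact h2
    -- m^t ∈ P₀, with t prime to p
    set L : Subgroup G := M ⊓ N with hL
    have hP₀L : P₀ ≤ L := le_inf Subgroup.le_normalizer inf_le_right
    have hLn : (P₀.subgroupOf L).Normal := by
      exact Subgroup.normal_subgroupOf_of_le_normalizer inf_le_left
    have hmt := (P₀.subgroupOf L).pow_index_mem ⟨m, hmM, hmN⟩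
    set t := (P₀.subgroupOf L).index with ht
    have htp : ¬ p ∣ t := by
      intro hd
      refine CfsgLib.not_dvd_relIndex_of_sylow P N ?_
      have : P₀.relIndex N = (P : Subgroup G).relIndex N := Subgroup.inf_relIndex_right _ _
      rw [← this, ← Subgroup.relIndex_mul_relIndex P₀ L N hP₀L inf_le_right]
      exact dvd_mul_of_dvd_left hd _
    have h1 : (QuotientGroup.mk' C ⟨x, hxN⟩) ^ t = 1 := by
      rw [hbar, ← map_pow, QuotientGroup.mk'_apply, QuotientGroup.eq_one_iff, hCdef, Subgroup.mem_subgroupOf]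
      rw [Subgroup.mem_centralizer_iff]
      intro a ha
      exact hab₀ a ha (m ^ t) hmt
    have h2 : (QuotientGroup.mk' C ⟨x, hxN⟩) ^ p ^ k = 1 := by
      rw [← map_pow]
      have : (⟨x, hxN⟩ : M) ^ p ^ k = 1 := Subtype.ext (by simpa using hk)
      rw [this, map_one]
    have h3 : QuotientGroup.mk' C ⟨x, hxN⟩ = 1 := by
      have hg : Nat.gcd t (p ^ k) = 1 :=
        Nat.Coprime.pow_right k (hp.coprime_iff_not_dvd.mpr htp).symm
      have := pow_gcd_eq_one.mpr ⟨h1, h2⟩
      rwa [hg, pow_one] at this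
    rw [QuotientGroup.mk'_apply, QuotientGroup.eq_one_iff, hCdef, Subgroup.mem_subgroupOf,
      Subgroup.mem_centralizer_iff] at h3
    intro a ha
    exact (h3 a ha).symm
  -- Step B
  have hB : ∀ x ∈ (P : Subgroup G), ∀ y ∈ (P : Subgroup G), x * y = y * x := by
    intro x hxP
    obtain ⟨k, hk⟩ := mem_sylow_pElem p P hxP
    obtain ⟨Q, hQle⟩ := CfsgLib.exists_sylow_le_of_not_dvd_index _ (h x ((pElem_iff p).mpr ⟨k, hk⟩))
    have hxQ : ∀ y ∈ (Q : Subgroup G), Commute x y := fun y hy =>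
      (Subgroup.mem_centralizer_singleton_iff.mp (hQle hy)).symm
    have hxmem : x ∈ (Q : Subgroup G) := CfsgLib.mem_sylow_of_mem_centralizer Q ⟨k, hk⟩ hxQ
    obtain ⟨g, rfl⟩ := MulAction.exists_smul_eq G P Q
    have hmemQ : ∀ y, y ∈ ((g • P : Sylow p G) : Subgroup G) ↔ g⁻¹ * y * g ∈ (P : Subgroup G) := by
      intro y
      rw [Sylow.coe_subgroup_smul, Subgroup.mem_pointwise_smul_iff_inv_smul_mem]
      simp [MulAut.smul_def]
    set z := g⁻¹ * x * g with hz
    have hzP : z ∈ (P : Subgroup G) := (hmemQ x).mp hxmem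
    have hzc : ∀ y ∈ (P : Subgroup G), z * y = y * z := by
      intro y hy
      have h1 := (hxQ (g * y * g⁻¹) ((hmemQ _).mpr (by simpa [mul_assoc] using hy))).eq
      have h2 := congrArg (fun t => g⁻¹ * t * g) h1
      simp only [hz, mul_assoc, inv_mul_cancel, inv_mul_cancel_left, mul_one, mul_inv_cancel_left] at h2 ⊢
      exact h2
    -- fusion in the quotient
    set π := QuotientGroup.mk' N
    let Pb : Sylow p (G ⧸ N) := P.mapSurjective (QuotientGroup.mk'_surjective N)
    have := hQ Pb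
    obtain ⟨nb, hnb, hnbeq⟩ := Pb.conj_eq_normalizer_conj_of_mem (π x) (π g)
      (Subgroup.mem_map_of_mem _ hxP)
      (by rw [← map_inv, ← map_mul, ← map_mul]; exact Subgroup.mem_map_of_mem _ hzP)
    rw [← map_inv, ← map_mul, ← map_mul, ← hz] at hnbeq
    obtain ⟨g₁, rfl⟩ := QuotientGroup.mk'_surjective N nb
    -- lift g₁ into N(P)
    have hS : ((g₁ • P : Sylow p G) : Subgroup G) ≤ (P : Subgroup G) ⊔ N := by
      intro y hy
      rw [Sylow.coe_subgroup_smul, Subgroup.mem_pointwise_smul_iff_inv_smul_mem] at hy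
      have h1 : π y ∈ (Pb : Subgroup (G ⧸ N)) := by
        have h2 := (Subgroup.mem_normalizer_iff.mp hnb (π (g₁⁻¹ * y * g₁))).mp
          (Subgroup.mem_map_of_mem _ (by simpa [MulAut.smul_def] using hy))
        rwa [← map_inv, ← map_mul, ← map_mul, show g₁ * (g₁⁻¹ * y * g₁) * g₁⁻¹ = y by group] at h2
      have h3 : y ∈ ((P : Subgroup G).map π).comap π := h1
      rwa [Subgroup.comap_map_eq, QuotientGroup.ker_mk'] at h3
    obtain ⟨⟨h', hh'⟩, hh⟩ := MulAction.exists_smul_eq ↥((P : Subgroup G) ⊔ N)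
      ((g₁ • P).subtype hS) (P.subtype le_sup_left)
    rw [Sylow.smul_subtype] at hh
    have hnP := Sylow.smul_eq_iff_mem_normalizer.mp
      (show (h' * g₁) • P = P by rw [mul_smul]; exact Sylow.subtype_injective hh)
    set w := (h' * g₁) * z * (h' * g₁)⁻¹ with hw
    have hwP : w ∈ (P : Subgroup G) := (Subgroup.mem_normalizer_iff.mp hnP z).mp hzP
    have hwc : ∀ y ∈ (P : Subgroup G), w * y = y * w := by
      intro y hy
      have hy' := (Subgroup.mem_normalizer_iff.mp (inv_mem hnP) y).mp hy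
      rw [inv_inv] at hy'
      have h1 := hzc _ hy'
      have h2 := congrArg (fun t => (h' * g₁) * t * (h' * g₁)⁻¹) h1
      simp only [hw, mul_assoc, mul_inv_cancel, mul_inv_cancel_left, inv_mul_cancel_left, mul_one] at h2 ⊢
      exact h2
    -- w ≡ x modulo N
    have hwx : π w = π x := by
      have hh'b : π h' ∈ (Pb : Subgroup (G ⧸ N)) := by
        have : π h' ∈ ((P : Subgroup G) ⊔ N).map π := Subgroup.mem_map_of_mem _ hh'
        rwa [Subgroup.map_sup, QuotientGroup.map_mk'_self, sup_bot_eq] at this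
      have hxb : π g₁ * π z * (π g₁)⁻¹ = π x := by
        change π z = (π g₁)⁻¹ * π x * π g₁ at hnbeq
        rw [hnbeq]; group
      have hxP' : π x ∈ (Pb : Subgroup (G ⧸ N)) := Subgroup.mem_map_of_mem _ hxP
      have hcomm := congrArg Subtype.val ((hQ Pb).is_comm.comm
        (⟨π h', hh'b⟩ : (Pb : Subgroup (G ⧸ N))) ⟨π x, hxP'⟩)
      simp only [Subgroup.coe_mul] at hcomm
      calc π w = π h' * (π g₁ * π z * (π g₁)⁻¹) * (π h')⁻¹ := by
            rw [hw, map_mul, map_mul, map_inv, map_mul]; group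
        _ = π x := by rw [hxb, hcomm, mul_inv_cancel_right]
    have hd : w⁻¹ * x ∈ P₀ :=
      ⟨mul_mem ((P : Subgroup G).inv_mem hwP) hxP, (QuotientGroup.eq).mp hwx⟩
    intro y hy
    have h1 := hA y hy _ hd
    have e : x = w * (w⁻¹ * x) := by group
    calc x * y = w * ((w⁻¹ * x) * y) := by group
      _ = w * (y * (w⁻¹ * x)) := by rw [h1]
      _ = (w * y) * (w⁻¹ * x) := by group
      _ = y * (w * (w⁻¹ * x)) := by rw [hwc y hy]; group
      _ = y * x := by rw [← e]
  exact ⟨⟨fun a b => Subtype.ext (hB a a.2 b b.2)⟩⟩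

/-- Let G be a finite group and p a prime such that the Sylow p-subgroups of G are non-abelian while every element of p-power order has conjugacy class size prime to p, and suppose no nontrivial proper normal subgroup N of G has this property and no quotient G/N by such an N has it. Then G is simple. -/
theorem result {G : Type*} [Group G] [Finite G]
    (p : ℕ) [Fact p.Prime] (h : ((∃ P : Sylow p G, ¬ IsMulCommutative P) ∧ ∀ x : G, (∃ k : ℕ, orderOf x = p ^ k) → ¬ p ∣ (Subgroup.centralizer ({x} : Set G)).index))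
    (hmin : ∀ (N : Subgroup G) [N.Normal], N ≠ ⊥ → N ≠ ⊤ →
      ¬ ((∃ P : Sylow p N, ¬ IsMulCommutative P) ∧ ∀ x : N, (∃ k : ℕ, orderOf x = p ^ k) → ¬ p ∣ (Subgroup.centralizer ({x} : Set N)).index) ∧
      ¬ ((∃ P : Sylow p (G ⧸ N), ¬ IsMulCommutative P) ∧ ∀ x : (G ⧸ N), (∃ k : ℕ, orderOf x = p ^ k) → ¬ p ∣ (Subgroup.centralizer ({x} : Set (G ⧸ N))).index)) :
    IsSimpleGroup G := by
  obtain ⟨⟨P, hP⟩, hc⟩ := h
  have hnt : Nontrivial G := by
    by_contra hcon
    rw [not_nontrivial_iff_subsingleton] at hcon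
    exact hP ⟨⟨fun a b => Subsingleton.elim _ _⟩⟩
  refine ⟨fun N hN => ?_⟩
  by_contra hcon
  rw [not_or] at hcon
  obtain ⟨h1, h2⟩ := hmin N hcon.1 hcon.2
  refine hP (commutative_sylow p hc N ?_ ?_ P)
  · intro Q
    by_contra hQ
    exact h1 ⟨⟨Q, hQ⟩, cond_normal p hc N⟩
  · intro Q
    by_contra hQ
    exact h2 ⟨⟨Q, hQ⟩, cond_quotient p hc N⟩

end Cfsg.Agent.S4354
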