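import Cfsg.Statements.S4356
import Mathlib
import Cfsg.Agent.Lib.DicksonFull.Subgroups
-- import your own Cfsg.Agent.* helpers here

set_option autoImplicit false
open Cfsg

namespace Cfsg.Agent.S4356

namespace Aux

open CfsgLib.DicksonFull
open CfsgLib.PSL2 (mk)
open CfsgLib

/-- The redundancy property of a group. -/
def Red (p : ℕ) (G : Type*) [Group G] : Prop :=
  ∃ Q : Sylow p G, ∀ x : G, (∃ k : ℕ, orderOf x = p ^ k) → ∃ P : Sylow p G, P ≠ Q ∧ x ∈ P

theorem isPPow {p : ℕ} [Fact p.Prime] {G : Type*} [Group G] (P : Sylow p G) {x : G} (hx : x ∈ P) :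
    ∃ k : ℕ, orderOf x = p ^ k := by
  obtain ⟨k, hk⟩ := P.2 ⟨x, hx⟩
  obtain ⟨j, -, hj⟩ := (Nat.dvd_prime_pow Fact.out).mp
    (orderOf_dvd_of_pow_eq_one (show x ^ p ^ k = 1 from by simpa using congrArg Subtype.val hk))
  exact ⟨j, hj⟩

/-- An element lying in only one Sylow subgroup excludes redundancy. -/
theorem not_red {p : ℕ} [Fact p.Prime] {G : Type*} [Group G] [Finite G] (R : Sylow p G) (x : G) (hx : x ∈ R)
    (huniq : ∀ P : Sylow p G, x ∈ P → P = R) : ¬ Red p G := by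
  rintro ⟨Q, hQ⟩
  obtain ⟨g, hg⟩ := MulAction.exists_smul_eq G R Q
  have hxQ : g * x * g⁻¹ ∈ Q := by
    rw [← hg]
    show g * x * g⁻¹ ∈ ((g • R : Sylow p G) : Subgroup G)
    rw [Sylow.coe_subgroup_smul, Subgroup.pointwise_smul_def]
    exact ⟨x, hx, rfl⟩
  obtain ⟨P, hPQ, hP⟩ := hQ _ (isPPow Q hxQ)
  apply hPQ
  rw [← hg, ← huniq (g⁻¹ • P) ?_, smul_inv_smul]
  show x ∈ ((g⁻¹ • P : Sylow p G) : Subgroup G)
  rw [Sylow.coe_subgroup_smul, Subgroup.pointwise_smul_def]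
  exact ⟨g * x * g⁻¹, hP, by simp [mul_assoc]⟩

variable {F : Type*} [Field F] [Fintype F] (ℓ : ℕ) [Fact ℓ.Prime] [CharP F ℓ]

local notation "PSL" => Matrix.ProjectiveSpecialLinearGroup (Fin 2) F
local notation "q" => Fintype.card F

include ℓ

theorem not_red_char : ¬ Red ℓ PSL := by
  obtain ⟨u, hu⟩ := exists_order_p ℓ (F := F)
  obtain ⟨R, hR⟩ := exists_sylow_cent ℓ hu
  have huR : u ∈ R := show u ∈ (R : Subgroup PSL) by
    rw [hR]; exact mem_cent.mpr (Commute.refl u)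
  refine not_red R u huR fun P hP => ?_
  apply Sylow.ext
  have hle : (P : Subgroup PSL) ≤ (R : Subgroup PSL) := by
    intro y hy
    rw [hR, mem_cent]
    haveI : Nontrivial (P : Subgroup PSL) := ⟨⟨⟨u, hP⟩, 1, fun e => by
      have := congrArg Subtype.val e
      simp only [Subgroup.coe_one] at this
      rw [this, orderOf_one] at hu
      exact (Fact.out : ℓ.Prime).ne_one hu.symm⟩⟩
    obtain ⟨z, hz⟩ := (nontrivial_iff.mp (P.2.center_nontrivial))
    obtain ⟨w, hw, hw1⟩ : ∃ w : (P : Subgroup PSL), w ∈ Subgroup.center (P : Subgroup PSL) ∧ w ≠ 1 := by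
      haveI := P.2.center_nontrivial
      obtain ⟨w, hw⟩ := exists_ne (1 : Subgroup.center (P : Subgroup PSL))
      exact ⟨w, w.2, fun h => hw (Subtype.ext h)⟩
    -- a central element of order `ℓ`
    obtain ⟨n, hn⟩ : ∃ n : ℕ, orderOf ((w : PSL) ^ n) = ℓ := by
      obtain ⟨k, hk⟩ := isPPow P w.2
      cases k with
      | zero => exact absurd (Subtype.ext (orderOf_eq_one_iff.mp (by simpa using hk))) hw1
      | succ k =>
        refine ⟨ℓ ^ k, ?_⟩
        rw [orderOf_pow, hk, Nat.gcd_eq_right (pow_dvd_pow ℓ k.le_succ), pow_succ,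
          Nat.mul_div_cancel_left _ (pow_pos (Fact.out : ℓ.Prime).pos k)]
    have hcom : ∀ a : PSL, a ∈ P → Commute a ((w : PSL) ^ n) := fun a ha => Commute.pow_right
      (congrArg Subtype.val (Subgroup.mem_center_iff.mp hw ⟨a, ha⟩) : a * w = w * a) n
    exact ((psl (F := F) ℓ).u_cen ((w : PSL) ^ n) y u hn (hcom y hy) (hcom u hP)).1
  exact Subgroup.eq_of_le_of_card_ge hle (by rw [R.card_eq_multiplicity, P.card_eq_multiplicity])

theorem not_red_trivial {p : ℕ} [Fact p.Prime] (h : ¬ p ∣ Nat.card PSL) : ¬ Red p PSL := by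
  obtain ⟨R⟩ : Nonempty (Sylow p PSL) := inferInstance
  have hbot : ∀ P : Sylow p PSL, (P : Subgroup PSL) = ⊥ := fun P => by
    refine Subgroup.card_eq_one.mp ?_
    rw [P.card_eq_multiplicity, Nat.factorization_eq_zero_of_not_dvd h, pow_zero]
  exact not_red R 1 (one_mem _) fun P _ => Sylow.ext (by rw [hbot P, hbot R])

theorem not_red_odd {p : ℕ} [Fact p.Prime] (hp2 : p ≠ 2) (hpℓ : p ≠ ℓ) : ¬ Red p PSL := by
  by_cases hd : p ∣ Nat.card PSL
  swap
  · exact not_red_trivial ℓ hd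
  have hp : p.Prime := Fact.out
  obtain ⟨R⟩ : Nonempty (Sylow p PSL) := inferInstance
  have hR : R.1 ≠ ⊥ := R.ne_bot_of_dvd_card hd
  haveI : Nontrivial (R : Subgroup PSL) := (Subgroup.nontrivial_iff_ne_bot _).mpr hR
  haveI := R.2.center_nontrivial
  obtain ⟨w, hw⟩ := exists_ne (1 : Subgroup.center (R : Subgroup PSL))
  set y : PSL := ((w : (R : Subgroup PSL)) : PSL) with hy
  have hyR : y ∈ R := (w : (R : Subgroup PSL)).2
  have hy1 : y ≠ 1 := fun e => hw (Subtype.ext (Subtype.ext e))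
  obtain ⟨k, hk⟩ := isPPow R hyR
  have hySS : SS ℓ y := ⟨hy1, fun hl => hpℓ ((Nat.prime_dvd_prime_iff_eq Fact.out hp).mp
    ((Fact.out : ℓ.Prime).dvd_of_dvd_pow (hk ▸ hl))).symm⟩
  have hle : (R : Subgroup PSL) ≤ (psl (F := F) ℓ).T y := by
    intro a ha
    have hc : a * y = y * a := congrArg Subtype.val (Subgroup.mem_center_iff.mp w.2 ⟨a, ha⟩)
    by_contra hn
    have hmem : a * y * a⁻¹ ∈ (psl (F := F) ℓ).T y := by
      rw [hc, mul_inv_cancel_right]; exact (psl (F := F) ℓ).mem_T y hySS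
    have h := ((psl (F := F) ℓ).T_norm y a hySS hmem hn).1 y ((psl (F := F) ℓ).mem_T y hySS)
    rw [hc, mul_inv_cancel_right, eq_inv_iff_mul_eq_one, ← pow_two] at h
    have h2 := orderOf_dvd_of_pow_eq_one h
    rw [hk] at h2
    rcases Nat.eq_zero_or_pos k with rfl | hk0
    · exact hy1 (orderOf_eq_one_iff.mp (by simpa using hk))
    · exact hp2 ((Nat.prime_dvd_prime_iff_eq hp Nat.prime_two).mp ((dvd_pow_self p hk0.ne').trans h2))
  haveI := (psl (F := F) ℓ).T_cyclic y hySS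
  haveI : IsCyclic (R : Subgroup PSL) := Subgroup.isCyclic_of_le hle
  obtain ⟨g, hg⟩ := IsCyclic.exists_generator (α := (R : Subgroup PSL))
  have hzp : Subgroup.zpowers (g : PSL) = (R : Subgroup PSL) := by
    refine le_antisymm (Subgroup.zpowers_le.mpr g.2) fun a ha => ?_
    obtain ⟨i, hi⟩ := hg ⟨a, ha⟩
    exact ⟨i, congrArg Subtype.val hi⟩
  refine not_red R g g.2 fun P hP => Sylow.ext ?_
  refine (Subgroup.eq_of_le_of_card_ge (hzp ▸ Subgroup.zpowers_le.mpr hP) ?_).symm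
  rw [R.card_eq_multiplicity, P.card_eq_multiplicity]

/-- The even torus order, with the two-part of the group. -/
theorem two_part (hodd : q % 2 = 1) {n : ℕ} (hn : n = (q + 1) / 2 ∨ n = (q - 1) / 2) (heven : 2 ∣ n) :
    (Nat.card PSL).factorization 2 = (2 * n).factorization 2 := by
  have hq := Fintype.one_lt_card (α := F)
  have hc := card_psl (F := F)
  have hg : Nat.gcd 2 (q - 1) = 2 := Nat.gcd_eq_left ⟨(q - 1) / 2, by omega⟩
  rw [hg] at hc
  obtain ⟨o, ho, hmul⟩ : ∃ o, ¬ 2 ∣ o ∧ q * (q ^ 2 - 1) = 2 * (2 * n * o) := by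
    have hsq : q ^ 2 - 1 = (q + 1) * (q - 1) := by rw [← Nat.sq_sub_sq, one_pow]
    rcases hn with rfl | rfl
    · refine ⟨q * ((q - 1) / 2), ?_, ?_⟩
      · intro h
        rcases Nat.prime_two.dvd_mul.mp h with h | h <;> omega
      · rw [hsq]
        obtain ⟨a, ha⟩ : ∃ a, q + 1 = 2 * a := ⟨(q + 1) / 2, by omega⟩
        obtain ⟨b, hb⟩ : ∃ b, q - 1 = 2 * b := ⟨(q - 1) / 2, by omega⟩
        rw [ha, hb, show 2 * a / 2 = a by omega, show 2 * b / 2 = b by omega]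
        ring
    · refine ⟨q * ((q + 1) / 2), ?_, ?_⟩
      · intro h
        rcases Nat.prime_two.dvd_mul.mp h with h | h <;> omega
      · rw [hsq]
        obtain ⟨a, ha⟩ : ∃ a, q + 1 = 2 * a := ⟨(q + 1) / 2, by omega⟩
        obtain ⟨b, hb⟩ : ∃ b, q - 1 = 2 * b := ⟨(q - 1) / 2, by omega⟩
        rw [ha, hb, show 2 * a / 2 = a by omega, show 2 * b / 2 = b by omega]
        ring
  have he : Nat.card PSL = 2 * n * o := by omega
  have ho0 : o ≠ 0 := fun h => ho (h ▸ dvd_zero 2)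
  rw [he, Nat.factorization_mul (by omega) ho0, Finsupp.add_apply, Nat.factorization_eq_zero_of_not_dvd ho, add_zero]

theorem not_red_two (hodd : q % 2 = 1) (h : (∃ k, q + 1 = 2 ^ k) ∨ ∃ k, q = 2 ^ k + 1) : ¬ Red 2 PSL := by
  have hq := Fintype.one_lt_card (α := F)
  have hg : Nat.gcd 2 (q - 1) = 2 := Nat.gcd_eq_left ⟨(q - 1) / 2, by omega⟩
  obtain ⟨n, j, hj, hn, hn2⟩ : ∃ n j, n = 2 ^ j ∧ (n = (q + 1) / 2 ∨ n = (q - 1) / 2) ∧ 2 ∣ n := by
    by_cases h3 : q = 3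
    · exact ⟨2, 1, rfl, Or.inl (by omega), dvd_rfl⟩
    rcases h with ⟨k, hk⟩ | ⟨k, hk⟩
    · obtain ⟨j, rfl⟩ : ∃ j, k = j + 2 := ⟨k - 2, by
        rcases k with _ | _ | k <;> simp_all <;> omega⟩
      refine ⟨2 ^ (j + 1), j + 1, rfl, Or.inl ?_, dvd_pow_self 2 (by omega)⟩
      rw [hk, pow_succ _ (j + 1), Nat.mul_div_cancel _ two_pos]
    · obtain ⟨j, rfl⟩ : ∃ j, k = j + 2 := ⟨k - 2, by
        rcases k with _ | _ | k <;> simp_all <;> omega⟩
      refine ⟨2 ^ (j + 1), j + 1, rfl, Or.inr ?_, dvd_pow_self 2 (by omega)⟩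
      rw [hk, Nat.add_sub_cancel, pow_succ _ (j + 1), Nat.mul_div_cancel _ two_pos]
  have hn2' : 2 ≤ n := by
    have : 0 < n := by rw [hj]; positivity
    omega
  obtain ⟨x, hxs, hT, hN, -, -, -, -, hox⟩ := exists_torus ℓ (F := F) (n := n) hn2' (by rwa [hg])
  set N := Subgroup.normalizer ((psl (F := F) ℓ).T x : Set PSL) with hNdef
  have hNcard : Nat.card N = 2 ^ (j + 1) := by rw [hN, hj, pow_succ']
  have hfac : (Nat.card PSL).factorization 2 = j + 1 := by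
    rw [two_part ℓ hodd hn hn2, hj, ← pow_succ', Nat.prime_two.factorization_pow, Finsupp.single_eq_same]
  let R : Sylow 2 PSL := Sylow.ofCard N (by rw [hNcard, hfac])
  have hzp : Subgroup.zpowers x = (psl (F := F) ℓ).T x :=
    Subgroup.eq_of_le_of_card_ge (Subgroup.zpowers_le.mpr ((psl (F := F) ℓ).mem_T x hxs))
      (by rw [Nat.card_zpowers, hox, hT])
  refine not_red R x (show x ∈ N from Subgroup.le_normalizer ((psl (F := F) ℓ).mem_T x hxs)) fun P hP => Sylow.ext ?_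
  have hPc : Nat.card P = 2 ^ (j + 1) := by rw [P.card_eq_multiplicity, hfac]
  have hTP : (psl (F := F) ℓ).T x ≤ (P : Subgroup PSL) := hzp ▸ Subgroup.zpowers_le.mpr hP
  have hidx : (((psl (F := F) ℓ).T x).subgroupOf (P : Subgroup PSL)).index = 2 := by
    have h := (((psl (F := F) ℓ).T x).subgroupOf (P : Subgroup PSL)).card_mul_index
    rw [Nat.card_congr (Subgroup.subgroupOfEquivOfLe hTP).toEquiv, hT, hPc, hj, pow_succ] at h
    exact Nat.eq_of_mul_eq_mul_left (by positivity) h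
  haveI := Subgroup.normal_of_index_eq_two hidx
  exact Subgroup.eq_of_le_of_card_ge ((Subgroup.normal_subgroupOf_iff_le_normalizer hTP).mp inferInstance)
    (le_of_eq (hNcard.trans hPc.symm))

/-- A two-element in the standard torus lies in two Sylow subgroups. -/
theorem two_sylows (hodd : q % 2 = 1) {n : ℕ} (hn : n = (q + 1) / 2 ∨ n = (q - 1) / 2) (hn2 : 2 ∣ n)
    (hm : ∀ j, n ≠ 2 ^ j) {x₀ g₀ : PSL} (hx₀ : SS ℓ x₀) (hT : Nat.card ((psl (F := F) ℓ).T x₀) = n)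
    (hN : Nat.card (Subgroup.normalizer ((psl (F := F) ℓ).T x₀ : Set PSL)) = 2 * n)
    (hg₀ : g₀ * x₀ * g₀⁻¹ = x₀⁻¹) (hgT : g₀ ∉ (psl (F := F) ℓ).T x₀)
    {x : PSL} (hx : x ∈ (psl (F := F) ℓ).T x₀) (hxp : ∃ k, orderOf x = 2 ^ k) :
    ∃ P P' : Sylow 2 PSL, P ≠ P' ∧ x ∈ P ∧ x ∈ P' := by
  classical
  set T := (psl (F := F) ℓ).T x₀ with hTdef
  set N := Subgroup.normalizer (T : Set PSL) with hNdef
  haveI := (psl (F := F) ℓ).T_cyclic x₀ hx₀
  have hn0 : n ≠ 0 := by rw [← hT]; exact Nat.card_pos.ne'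
  have hTN : T ≤ N := Subgroup.le_normalizer
  have hgmem : g₀ * x₀ * g₀⁻¹ ∈ T := by rw [hg₀]; exact inv_mem ((psl (F := F) ℓ).mem_T x₀ hx₀)
  have hg₀N : g₀ ∈ N := mem_norm hx₀ hgmem
  have hinv := ((psl (F := F) ℓ).T_norm x₀ g₀ hx₀ hgmem hgT).1
  -- the cyclic subgroup of `x` is normal in the normaliser
  let Z : Subgroup N := (Subgroup.zpowers x).subgroupOf N
  haveI hZn : Z.Normal := by
    refine ⟨fun z hz a => ?_⟩
    have hzx : (z : PSL) ∈ Subgroup.zpowers x := hz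
    have hz' : (z : PSL) ∈ T := Subgroup.zpowers_le.mpr hx hzx
    show (a : PSL) * z * (a : PSL)⁻¹ ∈ Subgroup.zpowers x
    have hm' : (a : PSL) * z * (a : PSL)⁻¹ ∈ T := (Subgroup.mem_normalizer_iff.mp a.2 z).mp hz'
    have hdvd : orderOf ((a : PSL) * z * (a : PSL)⁻¹) ∣ orderOf x := by
      rw [show (a : PSL) * z * (a : PSL)⁻¹ = MulAut.conj (a : PSL) z from rfl, MulEquiv.orderOf_eq]
      exact orderOf_dvd_of_mem_zpowers hzx
    obtain ⟨t, ht⟩ := IsCyclic.exists_generator (α := T)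
    obtain ⟨i, hi⟩ := mem_powers_iff_mem_zpowers.mpr (ht ⟨_, hm'⟩)
    obtain ⟨l, hl⟩ := mem_powers_iff_mem_zpowers.mpr (ht ⟨x, hx⟩)
    -- subgroups of a cyclic group are determined by their order
    have hsub : Subgroup.zpowers (⟨_, hm'⟩ : T) ≤ Subgroup.zpowers (⟨x, hx⟩ : T) := by
      have hd : Nat.card (Subgroup.zpowers (⟨_, hm'⟩ : T)) ∣ Nat.card (Subgroup.zpowers (⟨x, hx⟩ : T)) := by
        rwa [Nat.card_zpowers, Nat.card_zpowers, ← Subgroup.orderOf_coe, ← Subgroup.orderOf_coe]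
      intro w hw
      have hw1 : w ^ Nat.card (Subgroup.zpowers (⟨x, hx⟩ : T)) = 1 := by
        obtain ⟨c, hc⟩ := hd
        rw [hc, pow_mul]
        have := congrArg Subtype.val (pow_card_eq_one' (x := (⟨w, hw⟩ : Subgroup.zpowers (⟨_, hm'⟩ : T))))
        simp only [SubmonoidClass.coe_pow, OneMemClass.coe_one] at this
        rw [this, one_pow]
      have hcount := IsCyclic.card_pow_eq_one_le (α := T) (n := Nat.card (Subgroup.zpowers (⟨x, hx⟩ : T))) Nat.card_pos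
      by_contra hnot
      let S := (Subgroup.zpowers (⟨x, hx⟩ : T) : Set T).toFinset
      have hS : insert w S ⊆ Finset.univ.filter (fun a : T => a ^ Nat.card (Subgroup.zpowers (⟨x, hx⟩ : T)) = 1) := by
        intro a ha
        rw [Finset.mem_filter]
        refine ⟨Finset.mem_univ _, ?_⟩
        rcases Finset.mem_insert.mp ha with rfl | ha
        · exact hw1
        · have := congrArg Subtype.val (pow_card_eq_one' (x := (⟨a, by simpa [S] using ha⟩ : Subgroup.zpowers (⟨x, hx⟩ : T))))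
          simpa only [SubmonoidClass.coe_pow, OneMemClass.coe_one] using this
      have := (Finset.card_le_card hS).trans hcount
      rw [Finset.card_insert_of_notMem (by simpa [S] using hnot), show S.card = Nat.card (Subgroup.zpowers (⟨x, hx⟩ : T)) by
        rw [Set.toFinset_card, ← Nat.card_eq_fintype_card]; rfl] at this
      omega
    obtain ⟨e, he⟩ := hsub (Subgroup.mem_zpowers _)
    exact ⟨e, congrArg Subtype.val he⟩
  have hZp : IsPGroup 2 Z := by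
    obtain ⟨k, hk⟩ := hxp
    refine IsPGroup.of_card (n := k) ?_
    rw [Nat.card_congr (Subgroup.subgroupOfEquivOfLe (Subgroup.zpowers_le.mpr (hTN hx))).toEquiv, Nat.card_zpowers, hk]
  -- two Sylow subgroups of the normaliser
  obtain ⟨S, S', hne⟩ : ∃ S S' : Sylow 2 N, S ≠ S' := by
    by_contra hcon
    push Not at hcon
    obtain ⟨S⟩ : Nonempty (Sylow 2 N) := inferInstance
    haveI : Subsingleton (Sylow 2 N) := ⟨fun a b => hcon a b⟩
    haveI := Sylow.characteristic_of_subsingleton S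
    haveI hSn : (S : Subgroup N).Normal := inferInstance
    obtain ⟨r, hr, hr2⟩ := Nat.exists_prime_and_dvd
      (show n / 2 ^ n.factorization 2 ≠ 1 from fun h => hm (n.factorization 2)
        (Nat.eq_of_dvd_of_div_eq_one (Nat.ordProj_dvd n 2) h).symm)
    have hr_ne : r ≠ 2 := fun e => Nat.not_dvd_ordCompl Nat.prime_two hn0 (e ▸ hr2)
    have hrn : r ∣ n := hr2.trans (Nat.div_dvd_of_dvd (Nat.ordProj_dvd n 2))
    haveI := Fact.mk hr
    obtain ⟨t, ht⟩ := exists_prime_orderOf_dvd_card' (G := T) r (hT.symm ▸ hrn)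
    have hto : orderOf (t : PSL) = r := (Subgroup.orderOf_coe t).trans ht
    obtain ⟨s, hsS, hsT⟩ : ∃ s : N, s ∈ (S : Subgroup N) ∧ (s : PSL) ∉ T := by
      by_contra hc
      push Not at hc
      have h1 : Nat.card (S : Subgroup N) ∣ n := by
        rw [← hT, ← Nat.card_congr (Subgroup.subgroupOfEquivOfLe hTN).toEquiv]
        exact Subgroup.card_dvd_of_le fun s hs => hc s hs
      rw [S.card_eq_multiplicity, hN, Nat.factorization_mul two_ne_zero hn0, Finsupp.add_apply,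
        Nat.prime_two.factorization_self, pow_add, pow_one] at h1
      have h2 := (Nat.prime_two.pow_dvd_iff_le_factorization hn0).mp
        (show 2 ^ (n.factorization 2 + 1) ∣ n by rwa [pow_succ'])
      omega
    have hsinv := ((psl (F := F) ℓ).T_norm x₀ (s : PSL) hx₀
      ((mem_norm_iff hx₀).mp s.2) hsT).1 (t : PSL) t.2
    let tN : N := ⟨t, hTN t.2⟩
    have hd : tN * s * tN⁻¹ * s⁻¹ ∈ (S : Subgroup N) := mul_mem (hSn.conj_mem s hsS tN) (inv_mem hsS)
    have hval : ((tN * s * tN⁻¹ * s⁻¹ : N) : PSL) = (t : PSL) * (t : PSL) := by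
      show (t : PSL) * s * (t : PSL)⁻¹ * (s : PSL)⁻¹ = _
      rw [show (t : PSL) * s * (t : PSL)⁻¹ * (s : PSL)⁻¹ = t * ((s : PSL) * t * (s : PSL)⁻¹)⁻¹ by group, hsinv, inv_inv]
    obtain ⟨k, hk⟩ := isPPow S hd
    rw [← Subgroup.orderOf_coe, hval, ← pow_two, orderOf_pow, hto,
      show Nat.gcd r 2 = 1 from (Nat.coprime_primes hr Nat.prime_two).mpr hr_ne, Nat.div_one] at hk
    rcases Nat.eq_zero_or_pos k with rfl | hk0
    · exact hr.ne_one (by simpa using hk)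
    · exact hr_ne ((Nat.prime_dvd_prime_iff_eq Nat.prime_two hr).mp (hk ▸ dvd_pow_self 2 hk0.ne')).symm
  have hlift : ∀ S : Sylow 2 N, ∃ P : Sylow 2 PSL, (P : Subgroup PSL) = (S : Subgroup N).map N.subtype := fun S => by
    refine ⟨Sylow.ofCard ((S : Subgroup N).map N.subtype) ?_, rfl⟩
    rw [Subgroup.card_map_of_injective (Subgroup.subtype_injective _), S.card_eq_multiplicity, two_part ℓ hodd hn hn2, hN]
  have hxS : ∀ S : Sylow 2 N, x ∈ (S : Subgroup N).map N.subtype := fun S => by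
    obtain ⟨S₁, hS₁⟩ := hZp.exists_le_sylow
    obtain ⟨a, ha⟩ := MulAction.exists_smul_eq N S₁ S
    refine ⟨⟨x, hTN hx⟩, ?_, rfl⟩
    rw [← ha]
    show (⟨x, hTN hx⟩ : N) ∈ ((a • S₁ : Sylow 2 N) : Subgroup N)
    rw [Sylow.coe_subgroup_smul, Subgroup.pointwise_smul_def]
    exact ⟨a⁻¹ * ⟨x, hTN hx⟩ * a, hS₁ (by
      have := hZn.conj_mem ⟨x, hTN hx⟩ (Subgroup.mem_zpowers x) a⁻¹
      rwa [inv_inv] at this), by simp [mul_assoc]⟩
  obtain ⟨P, hP⟩ := hlift S
  obtain ⟨P', hP'⟩ := hlift S'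
  refine ⟨P, P', fun e => hne (Sylow.ext (Subgroup.map_injective N.subtype_injective ?_)),
    show x ∈ (P : Subgroup PSL) from hP ▸ hxS S, show x ∈ (P' : Subgroup PSL) from hP' ▸ hxS S'⟩
  rw [← hP, ← hP', e]

/-- Involutions are conjugate. -/
theorem involution_conj (hodd : q % 2 = 1) {a b : PSL} (ha : orderOf a = 2) (hb : orderOf b = 2) :
    ∃ h : PSL, h * a * h⁻¹ = b := by
  have hℓ2 : ℓ ≠ 2 := fun e => by
    subst e
    obtain ⟨k, -, hk⟩ := FiniteField.card F 2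
    have : 2 ∣ q := hk ▸ dvd_pow_self 2 k.ne_zero
    omega
  have htr : ∀ c : PSL, orderOf c = 2 → ∀ g, mk g = c → g.1.trace = 0 ∧ g.1.trace ^ 2 ≠ 4 := by
    intro c hc g hg
    have hss : SS ℓ c := ⟨fun e => by rw [e, orderOf_one] at hc; omega, fun h => hℓ2
      ((Nat.prime_dvd_prime_iff_eq Fact.out Nat.prime_two).mp (hc ▸ h))⟩
    have h4 := (ss_iff ℓ).mp (hg ▸ hss)
    refine ⟨?_, h4⟩
    by_contra hτ
    have h1 : mk (g * g) = 1 := by rw [map_mul, hg, ← pow_two, orderOf_dvd_iff_pow_eq_one.mp (dvd_of_eq hc)]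
    have hsc : ∃ s : F, (g * g).1 = s • (1 : Matrix (Fin 2) (Fin 2) F) := by
      rcases mk_eq_one h1 with e | e
      · exact ⟨1, by rw [e, Matrix.SpecialLinearGroup.coe_one, one_smul]⟩
      · exact ⟨-1, by rw [e]; simp⟩
    obtain ⟨s, hs⟩ := hsc
    rw [Matrix.SpecialLinearGroup.coe_mul, SL2Orders.sq_eq, sub_eq_iff_eq_add] at hs
    refine SL2Centralizer.not_scalar_of_trace h4 ((s + 1) / g.1.trace) ?_
    have h3 := congrArg (fun M => g.1.trace⁻¹ • M) hs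
    simp only [smul_smul, inv_mul_cancel₀ hτ, one_smul] at h3
    refine h3.trans ?_
    rw [smul_add, smul_smul, ← add_smul, div_eq_mul_inv]
    congr 1
    ring
  obtain ⟨g, hg⟩ := mk_surj a
  obtain ⟨g', hg'⟩ := mk_surj b
  obtain ⟨c, hc⟩ := isConj_iff.mp (PSL2Product.isConj_of_trace (htr a ha g hg).2
    (show g'.1.trace = g.1.trace by rw [(htr a ha g hg).1, (htr b hb g' hg').1]))
  exact ⟨mk c, by rw [← hg, ← hg', ← map_inv, ← map_mul, ← map_mul, hc]⟩

theorem red_two (hodd : q % 2 = 1) (h1 : ¬ ∃ k, q + 1 = 2 ^ k) (h2 : ¬ ∃ k, q = 2 ^ k + 1) : Red 2 PSL := by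
  have hq := Fintype.one_lt_card (α := F)
  have hg : Nat.gcd 2 (q - 1) = 2 := Nat.gcd_eq_left ⟨(q - 1) / 2, by omega⟩
  have hℓ2 : ℓ ≠ 2 := fun e => by
    subst e
    obtain ⟨k, -, hk⟩ := FiniteField.card F 2
    have : 2 ∣ q := hk ▸ dvd_pow_self 2 k.ne_zero
    omega
  obtain ⟨n, hn, hn2, hm⟩ : ∃ n, (n = (q + 1) / 2 ∨ n = (q - 1) / 2) ∧ 2 ∣ n ∧ ∀ j, n ≠ 2 ^ j := by
    by_cases h : 2 ∣ (q + 1) / 2
    · exact ⟨_, Or.inl rfl, h, fun j e => h1 ⟨j + 1, by rw [pow_succ, ← e]; omega⟩⟩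
    · exact ⟨_, Or.inr rfl, by omega, fun j e => h2 ⟨j + 1, by rw [pow_succ, ← e]; omega⟩⟩
  have hn2' : 2 ≤ n := by
    rcases Nat.eq_zero_or_pos n with h | h
    · rcases hn with hn | hn <;> omega
    · omega
  obtain ⟨x₀, hx₀, hT, hN, -, g₀, hgT, hg₀, hox₀⟩ := exists_torus ℓ (F := F) (n := n) hn2' (by rwa [hg])
  set T := (psl (F := F) ℓ).T x₀ with hTdef
  set N := Subgroup.normalizer (T : Set PSL) with hNdef
  obtain ⟨S⟩ : Nonempty (Sylow 2 N) := inferInstance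
  let R : Sylow 2 PSL := Sylow.ofCard ((S : Subgroup N).map N.subtype) (by
    rw [Subgroup.card_map_of_injective (Subgroup.subtype_injective _), S.card_eq_multiplicity, two_part ℓ hodd hn hn2, hN])
  -- the involution of the torus
  obtain ⟨z, hz⟩ := exists_prime_orderOf_dvd_card' (G := T) 2 (hT.symm ▸ hn2)
  have hzo : orderOf (z : PSL) = 2 := (Subgroup.orderOf_coe z).trans hz
  have hT' : ∀ x : PSL, (∃ k, orderOf x = 2 ^ k) → ∃ h : PSL, h * x * h⁻¹ ∈ T := by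
    intro x hx
    obtain ⟨k, hk⟩ := hx
    obtain ⟨P, hP⟩ := (IsPGroup.of_card (n := k) (p := 2) (G := Subgroup.zpowers x)
      (by rw [Nat.card_zpowers, hk])).exists_le_sylow
    obtain ⟨h, hh⟩ := MulAction.exists_smul_eq PSL P R
    set y := h * x * h⁻¹ with hy
    have hyR : y ∈ (S : Subgroup N).map N.subtype := by
      show y ∈ (R : Subgroup PSL)
      rw [← hh, Sylow.coe_subgroup_smul, Subgroup.pointwise_smul_def]
      exact ⟨x, hP (Subgroup.mem_zpowers x), rfl⟩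
    by_cases hyT : y ∈ T
    · exact ⟨h, hyT⟩
    obtain ⟨y', -, hy'⟩ := hyR
    have hyN : y ∈ N := hy' ▸ y'.2
    have hyo : orderOf y = 2 ^ k := by
      rw [hy, show h * x * h⁻¹ = MulAut.conj h x from rfl, MulEquiv.orderOf_eq, hk]
    have hinv := ((psl (F := F) ℓ).T_norm x₀ y hx₀ ((mem_norm_iff hx₀).mp hyN) hyT).1
    have hyS : SS ℓ y := ⟨fun e => hyT (e ▸ one_mem _), fun hl => hℓ2
      ((Nat.prime_dvd_prime_iff_eq Fact.out Nat.prime_two).mp ((Fact.out : ℓ.Prime).dvd_of_dvd_pow (hyo ▸ hl)))⟩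
    have hy2 : orderOf y = 2 := by
      -- its square lies in the torus and is central
      have hsq : y ^ 2 ∈ T := by
        have h' : y⁻¹ * y⁻¹ ∈ T := ((psl (F := F) ℓ).T_norm x₀ y hx₀ ((mem_norm_iff hx₀).mp hyN) hyT).2 y⁻¹
          ((mem_norm_iff hx₀).mp (inv_mem hyN)) fun h' => hyT (by simpa using inv_mem h')
        simpa [pow_two] using inv_mem h'
      by_cases h1 : y ^ 2 = 1
      · rcases (Nat.dvd_prime Nat.prime_two).mp (orderOf_dvd_of_pow_eq_one h1) with e | e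
        · exact absurd (orderOf_eq_one_iff.mp e) hyS.1
        · exact e
      exfalso
      apply hyT
      have e1 := ((psl (F := F) ℓ).T_eq x₀ (y ^ 2) hx₀ hsq h1).2
      have e2 := ((psl (F := F) ℓ).T_eq y (y ^ 2) hyS (pow_mem ((psl (F := F) ℓ).mem_T y hyS) 2) h1).2
      rw [hTdef, ← e1, e2]
      exact (psl (F := F) ℓ).mem_T y hyS
    obtain ⟨c, hc⟩ := involution_conj ℓ hodd hy2 hzo
    refine ⟨c * h, ?_⟩
    rw [show c * h * x * (c * h)⁻¹ = c * y * c⁻¹ by rw [hy]; group, hc]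
    exact z.2
  obtain ⟨Q⟩ : Nonempty (Sylow 2 PSL) := inferInstance
  refine ⟨Q, fun x hx => ?_⟩
  obtain ⟨h, hh⟩ := hT' x hx
  obtain ⟨P, P', hne, hP, hP'⟩ := two_sylows ℓ hodd hn hn2 hm hx₀ hT hN hg₀ hgT hh (by
    obtain ⟨k, hk⟩ := hx
    exact ⟨k, by rw [show h * x * h⁻¹ = MulAut.conj h x from rfl, MulEquiv.orderOf_eq, hk]⟩)
  have key : ∀ P : Sylow 2 PSL, h * x * h⁻¹ ∈ P → x ∈ (h⁻¹ • P : Sylow 2 PSL) := fun P hP => by
    show x ∈ ((h⁻¹ • P : Sylow 2 PSL) : Subgroup PSL)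
    rw [Sylow.coe_subgroup_smul, Subgroup.pointwise_smul_def]
    exact ⟨h * x * h⁻¹, hP, by simp [mul_assoc]⟩
  by_cases hQ : h⁻¹ • P = Q
  · exact ⟨h⁻¹ • P', fun e => hne (MulAction.injective h⁻¹ (hQ.trans e.symm)), key P' hP'⟩
  · exact ⟨_, hQ, key P hP⟩

theorem main (p : ℕ) [hp : Fact p.Prime] :
    Red p PSL ↔ (p = 2 ∧ (¬ ∃ k : ℕ, q + 1 = 2 ^ k) ∧ (¬ ∃ k : ℕ, q = 2 ^ k) ∧ ¬ ∃ k : ℕ, q = 2 ^ k + 1) := by
  constructor
  · intro h
    have hpℓ : p ≠ ℓ := fun e => not_red_char (F := F) ℓ (by subst e; exact h)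
    have hp2 : p = 2 := by_contra fun hne => not_red_odd ℓ hne hpℓ h
    subst hp2
    obtain ⟨k, -, hk⟩ := FiniteField.card F ℓ
    have hodd : q % 2 = 1 := by
      rw [hk]
      exact Nat.odd_iff.mp (((Fact.out : ℓ.Prime).odd_of_ne_two hpℓ.symm).pow)
    refine ⟨rfl, fun h1 => not_red_two ℓ hodd (Or.inl h1) h, fun ⟨j, hj⟩ => ?_, fun h2 => not_red_two ℓ hodd (Or.inr h2) h⟩
    have hq := Fintype.one_lt_card (α := F)
    rcases Nat.eq_zero_or_pos j with rfl | hj0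
    · simp at hj; omega
    · have : 2 ∣ q := hj ▸ dvd_pow_self 2 hj0.ne'
      omega
  · rintro ⟨rfl, h1, h2, h3⟩
    refine red_two ℓ ?_ h1 h3
    obtain ⟨k, -, hk⟩ := FiniteField.card F ℓ
    rcases eq_or_ne ℓ 2 with e | e
    · exact absurd ⟨(k : ℕ), by rw [hk, e]⟩ h2
    · rw [hk]
      exact Nat.odd_iff.mp (((Fact.out : ℓ.Prime).odd_of_ne_two e).pow)

end Aux

/-- Let F be a finite field with q elements, p a prime and G = PSL(2, F). Say a Sylow p-subgroup Q of G is redundant when every element of p-power order lies in some Sylow p-subgroup other than Q. Then G has a redundant Sylow p-subgroup if and only if p = 2 and q is not of any of the forms 2ᵏ - 1, 2ᵏ, 2ᵏ + 1. -/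
theorem result {F : Type*} [Field F] [Fintype F] (p : ℕ) [Fact p.Prime] :
    (∃ Q : Sylow p (Matrix.ProjectiveSpecialLinearGroup (Fin 2) F), ∀ x : Matrix.ProjectiveSpecialLinearGroup (Fin 2) F,
        (∃ k : ℕ, orderOf x = p ^ k) → ∃ P : Sylow p (Matrix.ProjectiveSpecialLinearGroup (Fin 2) F), P ≠ Q ∧ x ∈ P) ↔
      (p = 2 ∧ (¬ ∃ k : ℕ, Fintype.card F + 1 = 2 ^ k) ∧ (¬ ∃ k : ℕ, Fintype.card F = 2 ^ k) ∧
        ¬ ∃ k : ℕ, Fintype.card F = 2 ^ k + 1) := by
  obtain ⟨ℓ, hℓ⟩ := CharP.exists F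
  haveI := hℓ
  haveI : Fact ℓ.Prime := ⟨CharP.char_is_prime F ℓ⟩
  exact Aux.main ℓ p

end Cfsg.Agent.S4356
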