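import Cfsg.Statements.S4357
import Mathlib
import Cfsg.Agent.S4356
-- import your own Cfsg.Agent.* helpers here

set_option autoImplicit false
open Cfsg

namespace Cfsg.Agent.S4357

namespace Aux

open Cfsg.Agent.S4356.Aux (Red)

variable {p : ℕ} [hp : Fact p.Prime] {G H : Type*} [Group G] [Finite G] [Group H] [Finite H]

omit [Finite H] in
/-- A central element of `p`-power order lies in every Sylow subgroup. -/
theorem central_mem (P : Sylow p G) {z : G} (hz : z ∈ Subgroup.center G) (hzp : ∃ k : ℕ, orderOf z = p ^ k) : z ∈ P := by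
  obtain ⟨k, hk⟩ := hzp
  have hz' : IsPGroup p (Subgroup.zpowers z) := IsPGroup.of_card (n := k) (by rw [Nat.card_zpowers, hk])
  obtain ⟨S, hS⟩ := hz'.exists_le_sylow
  obtain ⟨g, hg⟩ := MulAction.exists_smul_eq G S P
  rw [← hg]
  show z ∈ ((g • S : Sylow p G) : Subgroup G)
  rw [Sylow.coe_subgroup_smul, Subgroup.pointwise_smul_def]
  refine ⟨z, hS (Subgroup.mem_zpowers z), ?_⟩
  show g * z * g⁻¹ = z
  rw [Subgroup.mem_center_iff.mp hz g, mul_inv_cancel_right]

omit [Finite H] in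
/-- Membership in a Sylow subgroup is decided modulo the centre. -/
theorem mem_iff_map (f : G →* H) (hker : f.ker ≤ Subgroup.center G) (P : Sylow p G) {x : G}
    (hxp : ∃ k : ℕ, orderOf x = p ^ k) (hx : f x ∈ (P : Subgroup G).map f) : x ∈ P := by
  obtain ⟨y, hy, e⟩ := hx
  have hz : y⁻¹ * x ∈ Subgroup.center G := hker (by rw [MonoidHom.mem_ker, map_mul, map_inv, e, inv_mul_cancel])
  have hc : y * x = x * y := by
    have h := Subgroup.mem_center_iff.mp hz y
    calc y * x = y * (y * (y⁻¹ * x)) := by group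
      _ = y * (y⁻¹ * x * y) := by rw [h]
      _ = x * y := by group
  obtain ⟨k, hk⟩ := hxp
  obtain ⟨j, hj⟩ := P.2 ⟨y, hy⟩
  have hj' : y ^ p ^ j = 1 := by simpa using congrArg Subtype.val hj
  have hk' : x ^ p ^ k = 1 := hk ▸ pow_orderOf_eq_one x
  have hzk : (y⁻¹ * x) ^ p ^ (j + k) = 1 := by
    rw [(show Commute y⁻¹ x from Commute.inv_left hc).mul_pow, inv_pow]
    rw [pow_add, pow_mul, hj', one_pow, mul_comm (p ^ j), pow_mul, hk', one_pow, inv_one, one_mul]
  obtain ⟨i, -, hi⟩ := (Nat.dvd_prime_pow hp.out).mp (orderOf_dvd_of_pow_eq_one hzk)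
  have := mul_mem (show y ∈ (P : Subgroup G) from hy) (show y⁻¹ * x ∈ (P : Subgroup G) from central_mem P hz ⟨i, hi⟩)
  rwa [mul_inv_cancel_left] at this

theorem red_iff (f : G →* H) (hf : Function.Surjective f) (hker : f.ker ≤ Subgroup.center G) :
    Red p G ↔ Red p H := by
  constructor
  · rintro ⟨Q, hQ⟩
    refine ⟨Q.mapSurjective hf, fun y ⟨k, hk⟩ => ?_⟩
    obtain ⟨R, hR⟩ := (IsPGroup.of_card (n := k) (G := Subgroup.zpowers y) (by rw [Nat.card_zpowers, hk])).exists_le_sylow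
    obtain ⟨S, rfl⟩ := Sylow.mapSurjective_surjective hf p R
    obtain ⟨x, hx, rfl⟩ := hR (Subgroup.mem_zpowers y)
    obtain ⟨P, hPQ, hP⟩ := hQ x (Cfsg.Agent.S4356.Aux.isPPow S hx)
    refine ⟨P.mapSurjective hf, fun e => hPQ ?_, ⟨x, hP, rfl⟩⟩
    refine Sylow.ext (le_antisymm (fun a ha => ?_) (fun a ha => ?_))
    · exact mem_iff_map f hker Q (Cfsg.Agent.S4356.Aux.isPPow P ha)
        (show f a ∈ ((Q.mapSurjective hf : Sylow p H) : Subgroup H) from e ▸ ⟨a, ha, rfl⟩)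
    · exact mem_iff_map f hker P (Cfsg.Agent.S4356.Aux.isPPow Q ha)
        (show f a ∈ ((P.mapSurjective hf : Sylow p H) : Subgroup H) from e ▸ ⟨a, ha, rfl⟩)
  · rintro ⟨Q', hQ⟩
    obtain ⟨Q, rfl⟩ := Sylow.mapSurjective_surjective hf p Q'
    refine ⟨Q, fun x ⟨k, hk⟩ => ?_⟩
    obtain ⟨i, -, hi⟩ := (Nat.dvd_prime_pow hp.out).mp ((orderOf_map_dvd f x).trans (dvd_of_eq hk))
    obtain ⟨P', hPQ, hP'⟩ := hQ (f x) ⟨i, hi⟩
    obtain ⟨P, rfl⟩ := Sylow.mapSurjective_surjective hf p P'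
    exact ⟨P, fun e => hPQ (e ▸ rfl), mem_iff_map f hker P ⟨k, hk⟩ hP'⟩

end Aux

/-- Let F be a finite field with q elements, p a prime and G = SL(2, F). Say a Sylow p-subgroup Q of G is redundant when every element of p-power order lies in some Sylow p-subgroup other than Q. Then G has a redundant Sylow p-subgroup if and only if p = 2 and q is not of any of the forms 2ᵏ - 1, 2ᵏ, 2ᵏ + 1. -/
theorem result {F : Type*} [Field F] [Fintype F] (p : ℕ) [Fact p.Prime] :
    (∃ Q : Sylow p (Matrix.SpecialLinearGroup (Fin 2) F), ∀ x : Matrix.SpecialLinearGroup (Fin 2) F,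
        (∃ k : ℕ, orderOf x = p ^ k) → ∃ P : Sylow p (Matrix.SpecialLinearGroup (Fin 2) F), P ≠ Q ∧ x ∈ P) ↔
      (p = 2 ∧ (¬ ∃ k : ℕ, Fintype.card F + 1 = 2 ^ k) ∧ (¬ ∃ k : ℕ, Fintype.card F = 2 ^ k) ∧
        ¬ ∃ k : ℕ, Fintype.card F = 2 ^ k + 1) := by
  have h := Aux.red_iff (p := p) (G := Matrix.SpecialLinearGroup (Fin 2) F)
    (H := Matrix.ProjectiveSpecialLinearGroup (Fin 2) F) (QuotientGroup.mk' _) (QuotientGroup.mk'_surjective _)
    (le_of_eq (QuotientGroup.ker_mk' _))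
  exact h.trans (Cfsg.Agent.S4356.result (F := F) p)

end Cfsg.Agent.S4357
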