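import Cfsg.Statements.S4358
import Mathlib
-- import your own Cfsg.Agent.* helpers here

set_option autoImplicit false
open Cfsg

namespace Cfsg.Agent.S4358

namespace Aux

open Matrix

variable {F : Type*} [Field F] [Fintype F] {p : ℕ} [hp : Fact p.Prime]

local notation "W" => rootsOfUnity p F

/-- A monomial matrix whose permutation part is a translation. -/
def mat (k : Fin p) (t : Fin p → F) : Matrix (Fin p) (Fin p) F :=
  fun i j => if j = i + k then t i else 0

omit [Fintype F] in
theorem mat_mul (k l : Fin p) (t u : Fin p → F) :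
    mat k t * mat l u = mat (k + l) (fun i => t i * u (i + k)) := by
  ext i j
  rw [Matrix.mul_apply, Finset.sum_eq_single (i + k)]
  · simp only [mat, add_assoc, if_true]
    split_ifs <;> simp
  · intro m _ hm
    simp [mat, hm]
  · simp

omit [Fintype F] in
theorem mat_one : mat (F := F) (p := p) 0 (fun _ => 1) = 1 := by
  ext i j
  simp [mat, Matrix.one_apply, eq_comm]

omit [Fintype F] in
theorem mat_pow (k : Fin p) (t : Fin p → F) : ∀ n : ℕ,
    mat k t ^ n = mat (n • k) (fun i => ∏ m ∈ Finset.range n, t (i + m • k)) := by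
  intro n
  induction n with
  | zero =>
    simp only [pow_zero, zero_smul, Finset.range_zero, Finset.prod_empty]
    exact mat_one.symm
  | succ n ih =>
    rw [pow_succ, ih, mat_mul]
    congr 1
    funext i; rw [Finset.prod_range_succ]

/-- The entries of a member of the standard group, as an element of `GL`. -/
def gl (x : Fin p × (Fin p → W)) : GL (Fin p) F where
  val := mat x.1 (fun i => ((x.2 i : Fˣ) : F))
  inv := mat (-x.1) (fun i => (((x.2 (i - x.1))⁻¹ : W) : Fˣ))
  val_inv := by
    rw [mat_mul, add_neg_cancel]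
    refine Eq.trans (congrArg (mat 0) (funext fun i => ?_)) mat_one
    simp
  inv_val := by
    rw [mat_mul, neg_add_cancel]
    refine Eq.trans (congrArg (mat 0) (funext fun i => ?_)) mat_one
    simp [sub_eq_add_neg]

omit [Fintype F] in
theorem gl_val (x : Fin p × (Fin p → W)) :
    (gl x : Matrix (Fin p) (Fin p) F) = mat x.1 (fun i => ((x.2 i : Fˣ) : F)) := rfl

omit [Fintype F] in
theorem gl_mul (x y : Fin p × (Fin p → W)) :
    gl x * gl y = gl (x.1 + y.1, fun i => x.2 i * y.2 (i + x.1)) := by
  refine Units.ext ?_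
  rw [Units.val_mul, gl_val, gl_val, gl_val, mat_mul]
  simp

omit [Fintype F] in
theorem gl_inv (x : Fin p × (Fin p → W)) : (gl x)⁻¹ = gl (-x.1, fun i => (x.2 (i - x.1))⁻¹) := Units.ext rfl

omit [Fintype F] in
theorem gl_injective : Function.Injective (gl (F := F) (p := p)) := by
  intro x y h
  have h' : mat x.1 (fun i => ((x.2 i : Fˣ) : F)) = mat y.1 (fun i => ((y.2 i : Fˣ) : F)) := congrArg Units.val h
  have hk : x.1 = y.1 := by
    have h0 := congrFun (congrFun h' 0) x.1
    simp only [mat, zero_add, if_true] at h0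
    by_contra hne
    rw [if_neg hne] at h0
    exact Units.ne_zero _ h0
  refine Prod.ext hk (funext fun i => Subtype.ext (Units.ext ?_))
  have hi := congrFun (congrFun h' i) (i + x.1)
  simpa [mat, hk] using hi

variable (F p) in
/-- The standard `p`-subgroup: the base group extended by the cyclic shift. -/
def std : Subgroup (GL (Fin p) F) where
  carrier := Set.range gl
  one_mem' := ⟨(0, fun _ => 1), Units.ext (by rw [gl_val, Units.val_one]; simpa using mat_one)⟩
  mul_mem' := by
    rintro _ _ ⟨x, rfl⟩ ⟨y, rfl⟩
    exact ⟨_, (gl_mul x y).symm⟩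
  inv_mem' := by
    rintro _ ⟨x, rfl⟩
    exact ⟨_, (gl_inv x).symm⟩

theorem card_W (h1 : p ∣ Fintype.card F - 1) : ∃ ω : Fˣ, orderOf ω = p ∧ Nat.card W = p := by
  classical
  obtain ⟨ω, hω⟩ := exists_prime_orderOf_dvd_card' (G := Fˣ) p
    (by rw [Nat.card_eq_fintype_card, Fintype.card_units]; exact h1)
  refine ⟨ω, hω, ?_⟩
  have hprim : IsPrimitiveRoot (ω : F) p := by
    have h := IsPrimitiveRoot.orderOf (ω : F)
    rwa [orderOf_units, hω] at h
  exact hprim.card_rootsOfUnity

theorem card_std (h1 : p ∣ Fintype.card F - 1) : Nat.card (std F p) = p ^ (p + 1) := by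
  obtain ⟨ω, -, hW⟩ := card_W h1
  have h : Nat.card (std F p) = Nat.card (Fin p × (Fin p → W)) :=
    (Nat.card_congr (Equiv.ofInjective gl gl_injective)).symm
  rw [h, Nat.card_prod, Nat.card_fun, hW, Nat.card_fin, pow_succ']

theorem index_std (hp2 : p ≠ 2) (h1 : p ∣ Fintype.card F - 1) (h2 : ¬ p ^ 2 ∣ Fintype.card F - 1) :
    ¬ p ∣ (std F p).index := by
  have hq : 1 < Fintype.card F := Fintype.one_lt_card
  set q := Fintype.card F with hqdef
  have hpq : ¬ p ∣ q := fun h => hp.out.not_dvd_one (by
    have := Nat.dvd_sub h h1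
    rwa [Nat.sub_sub_self hq.le] at this)
  have hv1 : padicValNat p (q - 1) = 1 := by
    refine le_antisymm ?_ (one_le_padicValNat_of_dvd (by omega) h1)
    by_contra h
    exact h2 ((pow_dvd_pow p (by omega : 2 ≤ padicValNat p (q - 1))).trans pow_padicValNat_dvd)
  have hterm : ∀ i : Fin p, (q ^ p - q ^ (i : ℕ)).factorization p = if (i : ℕ) = 0 then 2 else 1 := by
    intro i
    have hi := i.isLt
    rw [Nat.factorization_def _ hp.out]
    have e : q ^ p - q ^ (i : ℕ) = q ^ (i : ℕ) * (q ^ (p - i) - 1 ^ (p - i)) := by
      rw [one_pow, Nat.mul_sub, ← pow_add, mul_one, Nat.add_sub_cancel' hi.le]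
    have hne : q ^ (p - i) - 1 ^ (p - i) ≠ 0 := by
      have : 1 < q ^ (p - i) := Nat.one_lt_pow (by omega) hq
      rw [one_pow]; omega
    rw [e, padicValNat.mul (pow_ne_zero _ (by omega)) hne,
      padicValNat.pow_sub_pow (hp.out.odd_of_ne_two hp2) hq (by exact h1) hpq (by omega),
      padicValNat.eq_zero_of_not_dvd (fun h => hpq (hp.out.dvd_of_dvd_pow h)), zero_add, hv1]
    split_ifs with h0
    · rw [h0, Nat.sub_zero, padicValNat_self]
    · rw [padicValNat.eq_zero_of_not_dvd fun h => by have := Nat.le_of_dvd (by omega) h; omega]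
  have hcard : (Nat.card (GL (Fin p) F)).factorization p = p + 1 := by
    rw [Matrix.card_GL_field, Nat.factorization_prod_apply]
    · rw [Finset.sum_congr rfl (fun i _ => hterm i)]
      have : ∀ i : Fin p, (if (i : ℕ) = 0 then 2 else 1) = 1 + (if i = 0 then 1 else 0) := by
        intro i
        by_cases h : i = 0
        · subst h; simp
        · rw [if_neg h, if_neg (fun h' => h (Fin.ext (by simpa using h')))]
      rw [Finset.sum_congr rfl (fun i _ => this i), Finset.sum_add_distrib]
      simp
    · intro i _
      exact Nat.sub_ne_zero_of_lt (Nat.pow_lt_pow_right hq i.isLt)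
  intro hd
  have h := (std F p).card_mul_index
  rw [← h, Nat.factorization_mul Nat.card_pos.ne' Subgroup.index_ne_zero_of_finite, Finsupp.add_apply, card_std h1,
    Nat.Prime.factorization_pow hp.out, Finsupp.single_eq_same] at hcard
  have := hp.out.factorization_pos_of_dvd Subgroup.index_ne_zero_of_finite hd
  omega

/-- An element with two entries in one row moves the standard group. -/
theorem not_normalize (hp2 : p ≠ 2) (h1 : p ∣ Fintype.card F - 1) {c : GL (Fin p) F} {i j l : Fin p} (hjl : j ≠ l)
    (hj : (c : Matrix (Fin p) (Fin p) F) i j ≠ 0) (hl : (c : Matrix (Fin p) (Fin p) F) i l ≠ 0) :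
    (std F p).map (MulAut.conj c).toMonoidHom ≠ std F p := by
  intro h
  obtain ⟨ω, hω, hW⟩ := card_W h1
  have hp3 : 3 ≤ p := by have := hp.out.two_le; omega
  let w : W := ⟨ω, by rw [mem_rootsOfUnity, ← hω, pow_orderOf_eq_one]⟩
  -- conjugates of diagonal elements
  have hmem : ∀ t : Fin p → W, ∃ y, c * gl (0, t) * c⁻¹ = gl y := fun t => by
    have : c * gl (0, t) * c⁻¹ ∈ std F p := h ▸ ⟨gl (0, t), ⟨_, rfl⟩, rfl⟩
    obtain ⟨y, hy⟩ := this
    exact ⟨y, hy.symm⟩
  choose φ hφ using hmem
  have hinj : Function.Injective φ := fun a b hab => by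
    have e := hφ a
    rw [hab, ← hφ b] at e
    exact ((Prod.ext_iff).mp (gl_injective (mul_left_cancel (mul_right_cancel e)))).2
  have hzero : ∀ t, (φ t).1 = 0 := by
    intro t
    by_contra hne
    -- everything in the image commutes with a moving element
    have hcomm : ∀ u, gl (φ t) * gl (φ u) = gl (φ u) * gl (φ t) := fun u => by
      rw [← hφ, ← hφ]
      have e : gl (0, t) * gl (F := F) (0, u) = gl (0, u) * gl (0, t) := by
        rw [gl_mul, gl_mul]
        refine congrArg gl (Prod.ext rfl (funext fun i => ?_))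
        simp [mul_comm]
      simp only [mul_assoc, inv_mul_cancel_left]
      rw [← mul_assoc (gl (0, t)), e, mul_assoc]
    -- such elements are determined by a translation and one entry
    have hdet : Function.Injective fun u => ((φ u).1, (φ u).2 0) := by
      intro u v huv
      obtain ⟨hk, h0⟩ := Prod.ext_iff.mp huv
      apply hinj
      refine Prod.ext hk (funext fun a => ?_)
      have step : ∀ u, ∀ a, (φ t).2 a * (φ u).2 (a + (φ t).1) = (φ u).2 a * (φ t).2 (a + (φ u).1) := fun u a => by
        have e := hcomm u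
        rw [gl_mul, gl_mul] at e
        exact congrFun (Prod.ext_iff.mp (gl_injective e)).2 a
      have hiter : ∀ n : ℕ, (φ u).2 (n • (φ t).1) = (φ v).2 (n • (φ t).1) := by
        intro n
        induction n with
        | zero => simpa using h0
        | succ n ih =>
          have eu := step u (n • (φ t).1)
          have ev := step v (n • (φ t).1)
          have hk' : (φ u).1 = (φ v).1 := hk
          rw [ih, hk', ← ev] at eu
          rw [succ_nsmul]
          exact mul_left_cancel eu
      have hgen : a ∈ AddSubgroup.zmultiples ((φ t).1) :=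
        mem_zmultiples_of_prime_card (G := Fin p) (Nat.card_fin p) hne
      rw [← mem_multiples_iff_mem_zmultiples] at hgen
      obtain ⟨n, rfl⟩ := hgen
      exact hiter n
    have hle := Nat.card_le_card_of_injective _ hdet
    rw [Nat.card_fun, Nat.card_prod, hW, Nat.card_fin] at hle
    have hlt : p ^ 2 < p ^ p := Nat.pow_lt_pow_right (by omega) (by omega)
    rw [pow_two] at hlt
    omega
  classical
  let u : Fin p → W := Function.update (fun _ => 1) j w
  have e : (c : Matrix (Fin p) (Fin p) F) * mat 0 (fun a => ((u a : Fˣ) : F)) =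
      mat 0 (fun a => (((φ u).2 a : Fˣ) : F)) * (c : Matrix (Fin p) (Fin p) F) := by
    have h' := congrArg Units.val (eq_mul_inv_iff_mul_eq.mp (hφ u).symm).symm
    rw [Units.val_mul, Units.val_mul, gl_val, gl_val, hzero u] at h'
    exact h'
  have hcol : ∀ a, (c : Matrix (Fin p) (Fin p) F) i a * ((u a : Fˣ) : F) =
      (((φ u).2 i : Fˣ) : F) * (c : Matrix (Fin p) (Fin p) F) i a := by
    intro a
    have h' := congrFun (congrFun e i) a
    rw [Matrix.mul_apply, Matrix.mul_apply, Finset.sum_eq_single a, Finset.sum_eq_single i] at h'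
    · simpa [mat] using h'
    · intro b _ hb; simp [mat, hb]
    · simp
    · intro b _ hb; simp [mat, hb.symm]
    · simp
  have ej := hcol j
  have el := hcol l
  rw [mul_comm] at ej el
  have ej' := mul_right_cancel₀ hj ej
  have el' := mul_right_cancel₀ hl el
  have : ((u j : Fˣ) : F) = ((u l : Fˣ) : F) := ej'.trans el'.symm
  simp [u, Function.update_of_ne hjl.symm, w] at this
  exact (show ω ≠ 1 from fun h1' => by rw [h1', orderOf_one] at hω; omega) this

/-- A member of the standard group lies in another conjugate of it. -/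
theorem exists_other (hp2 : p ≠ 2) (h1 : p ∣ Fintype.card F - 1) {x : GL (Fin p) F} (hx : x ∈ std F p) :
    ∃ c : GL (Fin p) F, (std F p).map (MulAut.conj c).toMonoidHom ≠ std F p ∧
      x ∈ (std F p).map (MulAut.conj c).toMonoidHom := by
  classical
  obtain ⟨⟨k, t⟩, rfl⟩ := hx
  have hp3 : 3 ≤ p := by have := hp.out.two_le; omega
  obtain ⟨ω, hω, hW⟩ := card_W h1
  have hfinish : ∀ c : GL (Fin p) F, c * gl (k, t) = gl (k, t) * c →
      (∃ i j l, j ≠ l ∧ (c : Matrix (Fin p) (Fin p) F) i j ≠ 0 ∧ (c : Matrix (Fin p) (Fin p) F) i l ≠ 0) →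
      ∃ c : GL (Fin p) F, (std F p).map (MulAut.conj c).toMonoidHom ≠ std F p ∧
        gl (k, t) ∈ (std F p).map (MulAut.conj c).toMonoidHom := by
    rintro c hc ⟨i, j, l, hjl, hj, hl⟩
    refine ⟨c, not_normalize hp2 h1 hjl hj hl, gl (k, t), ⟨_, rfl⟩, ?_⟩
    show c * gl (k, t) * c⁻¹ = gl (k, t)
    rw [hc, mul_inv_cancel_right]
  let tv : Fin p → F := fun i => ((t i : Fˣ) : F)
  have htv : ∀ i, tv i ≠ 0 := fun i => Units.ne_zero _
  have htp : ∀ i, tv i ^ p = 1 := fun i => by
    have := (mem_rootsOfUnity p _).mp (t i).2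
    show ((t i : Fˣ) : F) ^ p = 1
    rw [← Units.val_pow_eq_pow_val, this, Units.val_one]
  by_cases hk : k = 0
  · subst hk
    by_cases hinj : Function.Injective tv
    · -- conjugate to the shift
      let g : Matrix (Fin p) (Fin p) F := Matrix.vandermonde (fun i => (tv i)⁻¹)
      have hg : g.det ≠ 0 := Matrix.det_vandermonde_ne_zero_iff.mpr fun a b h => hinj (inv_injective h)
      let c : GL (Fin p) F := Matrix.GeneralLinearGroup.mkOfDetNeZero g hg
      have hc : (c : Matrix (Fin p) (Fin p) F) = g := rfl
      refine ⟨c, not_normalize hp2 h1 (i := 0) (j := 0) (l := 1) (by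
          intro h
          have := congrArg Fin.val h
          simp [Fin.val_one', Nat.mod_eq_of_lt (show 1 < p by omega)] at this) ?_ ?_,
        gl (1, fun _ => 1), ⟨_, rfl⟩, ?_⟩
      · rw [hc]; exact pow_ne_zero _ (inv_ne_zero (htv 0))
      · rw [hc]; exact pow_ne_zero _ (inv_ne_zero (htv 0))
      show c * gl (1, fun _ => 1) * c⁻¹ = gl (0, t)
      rw [mul_inv_eq_iff_eq_mul]
      refine Units.ext ?_
      rw [Units.val_mul, Units.val_mul, hc, gl_val, gl_val]
      ext i j
      rw [Matrix.mul_apply, Matrix.mul_apply, Finset.sum_eq_single (j - 1), Finset.sum_eq_single i]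
      · simp only [mat, sub_add_cancel, add_zero, if_true, OneMemClass.coe_one, Units.val_one, mul_one]
        show (tv i)⁻¹ ^ ((j - 1 : Fin p) : ℕ) = tv i * (tv i)⁻¹ ^ (j : ℕ)
        have hmod : ((((j - 1 : Fin p) : ℕ) + 1) % p) = (j : ℕ) % p := by
          have h := congrArg Fin.val (sub_add_cancel j 1)
          rw [Fin.val_add, Fin.val_one', Nat.mod_eq_of_lt (show 1 < p by omega)] at h
          rw [h, Nat.mod_eq_of_lt j.isLt]
        have hper : ∀ a : ℕ, (tv i)⁻¹ ^ a = (tv i)⁻¹ ^ (a % p) := fun a => by
          conv_lhs => rw [← Nat.mod_add_div a p, pow_add, pow_mul]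
          rw [inv_pow _ p, htp, inv_one, one_pow, mul_one]
        rw [hper (j : ℕ), ← hmod, ← hper, pow_succ, mul_comm ((tv i)⁻¹ ^ _) (tv i)⁻¹, ← mul_assoc,
          mul_inv_cancel₀ (htv i), one_mul]
      · intro b _ hb; simp [mat, hb]
      · simp
      · intro b _ hb
        have : j ≠ b + 1 := fun h => hb (by rw [h, add_sub_cancel_right])
        simp [mat, this]
      · simp
    · -- a transvection commutes
      obtain ⟨a, b, hab, hne⟩ := Function.not_injective_iff.mp hinj
      let c : GL (Fin p) F :=
        { val := Matrix.transvection a b 1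
          inv := Matrix.transvection a b (-1)
          val_inv := by rw [Matrix.transvection_mul_transvection_same a b hne, add_neg_cancel, Matrix.transvection_zero]
          inv_val := by rw [Matrix.transvection_mul_transvection_same a b hne, neg_add_cancel, Matrix.transvection_zero] }
      refine hfinish c ?_ ⟨a, a, b, hne, ?_, ?_⟩
      · refine Units.ext ?_
        rw [Units.val_mul, Units.val_mul, gl_val]
        show Matrix.transvection a b (1 : F) * mat 0 tv = mat 0 tv * Matrix.transvection a b 1
        rw [Matrix.transvection, add_mul, mul_add, one_mul, mul_one]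
        congr 1
        ext i j
        rw [Matrix.mul_apply, Matrix.mul_apply, Finset.sum_eq_single j, Finset.sum_eq_single i]
        · simp only [mat, add_zero, if_true, Matrix.single_apply]
          by_cases h : a = i ∧ b = j
          · obtain ⟨rfl, rfl⟩ := h
            simp [hab]
          · simp [h]
        · intro m _ hm; simp [mat, hm]
        · simp
        · intro m _ hm; simp [mat, hm.symm]
        · simp
      · show Matrix.transvection a b (1 : F) a a ≠ 0
        simp [Matrix.transvection, hne.symm]
      · show Matrix.transvection a b (1 : F) a b ≠ 0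
        simp [Matrix.transvection, hne]
  · -- the shift part is non-trivial
    let M : Matrix (Fin p) (Fin p) F := mat k tv
    set ζ : F := ∏ i, tv i with hζ
    have hpk : p • k = 0 := by
      have h := card_nsmul_eq_zero' (G := Fin p) (x := k)
      rwa [Nat.card_fin] at h
    have hord : addOrderOf k = p := addOrderOf_eq_prime hpk hk
    have hinjk : Set.InjOn (fun m : ℕ => m • k) (Set.Iio p) := fun a ha b hb h =>
      nsmul_injOn_Iio_addOrderOf (by rw [hord]; exact ha) (by rw [hord]; exact hb) h
    have hprod : ∀ i, (∏ m ∈ Finset.range p, tv (i + m • k)) = ζ := by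
      intro i
      rw [hζ]
      refine Finset.prod_bij (fun m _ => i + m • k) (fun _ _ => Finset.mem_univ _)
        (fun a ha b hb h => hinjk (Finset.mem_range.mp ha) (Finset.mem_range.mp hb) (add_left_cancel h)) ?_ (fun _ _ => rfl)
      intro b _
      have himg : (Finset.range p).image (fun m : ℕ => i + m • k) = Finset.univ := by
        refine Finset.eq_univ_of_card _ ?_
        rw [Finset.card_image_of_injOn (fun a ha b hb h => hinjk (Finset.mem_range.mp ha) (Finset.mem_range.mp hb)
          (add_left_cancel h)), Finset.card_range, Fintype.card_fin]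
      obtain ⟨m, hm, e⟩ := Finset.mem_image.mp (himg ▸ Finset.mem_univ b)
      exact ⟨m, hm, e⟩
    have hMp : M ^ p = ζ • (1 : Matrix (Fin p) (Fin p) F) := by
      rw [mat_pow, hpk]
      ext i j
      simp only [mat, add_zero, hprod, Matrix.smul_apply, Matrix.one_apply, smul_eq_mul, mul_ite, mul_one, mul_zero,
        eq_comm]
    have hcomm : ∀ m : ℕ, M ^ m * M = M * M ^ m := fun m => (pow_succ M m).symm.trans (pow_succ' M m)
    have hGL : (gl (k, t) : Matrix (Fin p) (Fin p) F) = M := rfl
    by_cases hζ1 : ζ = 1
    · -- a multiple of the projection on the fixed space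
      have hne : (p : F) ≠ 0 := by
        intro h0
        obtain ⟨r, hr⟩ := CharP.exists F
        haveI := hr
        have hrp : r ∣ p := (CharP.cast_eq_zero_iff F r p).mp h0
        have hrprime : r.Prime := CharP.char_is_prime F r
        have hrq : r ∣ Fintype.card F := (CharP.cast_eq_zero_iff F r _).mp (FiniteField.cast_card_eq_zero F)
        rw [(Nat.prime_dvd_prime_iff_eq hrprime hp.out).mp hrp] at hrq
        have := Nat.dvd_sub hrq h1
        rw [Nat.sub_sub_self Fintype.card_pos] at this
        exact hp.out.not_dvd_one this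
      set S : Matrix (Fin p) (Fin p) F := ∑ m ∈ Finset.range p, M ^ m with hS
      have hMS : M * S = S := by
        have h : M * S + 1 = S + M ^ p := by
          rw [hS, Finset.mul_sum, ← Finset.sum_range_succ (fun m => M ^ m) p, Finset.sum_range_succ' (fun m => M ^ m) p,
            pow_zero]
          congr 1
          exact Finset.sum_congr rfl fun m _ => (pow_succ' M m).symm
        rw [hMp, hζ1, one_smul] at h
        exact add_right_cancel h
      have hpow : ∀ m : ℕ, M ^ m * S = S := by
        intro m
        induction m with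
        | zero => simp
        | succ m ih => rw [pow_succ, mul_assoc, hMS, ih]
      have hSS : S * S = (p : F) • S := by
        conv_lhs => rw [hS, Finset.sum_mul]
        rw [Finset.sum_congr rfl (fun m _ => hpow m), Finset.sum_const, Finset.card_range, Nat.cast_smul_eq_nsmul]
      set α : F := (ω : F) with hα
      have hα1 : α ≠ 1 := fun h => by
        have : ω = 1 := Units.ext h
        rw [this, orderOf_one] at hω
        omega
      set β : F := (α - 1) / p with hβ
      set γ : F := (α⁻¹ - 1) / p with hγ
      have hinv : β + γ + β * γ * (p : F) = 0 := by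
        rw [hβ, hγ]
        field_simp
        rw [hα]
        have := Units.ne_zero ω
        field_simp
        ring
      have hprod' : ∀ a b : F, a + b + a * b * (p : F) = 0 → (1 + a • S) * (1 + b • S) = 1 := by
        intro a b h
        rw [add_mul, one_mul, mul_add, mul_one, smul_mul_smul_comm, hSS, smul_smul, add_assoc, ← add_smul, ← add_smul]
        rw [show b + (a + a * b * (p : F)) = a + b + a * b * (p : F) by ring, h, zero_smul, add_zero]
      let c : GL (Fin p) F :=
        { val := 1 + β • S
          inv := 1 + γ • S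
          val_inv := hprod' _ _ hinv
          inv_val := hprod' _ _ (by linear_combination hinv) }
      refine hfinish c ?_ ?_
      · refine Units.ext ?_
        rw [Units.val_mul, Units.val_mul, hGL]
        show (1 + β • S) * M = M * (1 + β • S)
        have hSM : S * M = M * S := by
          rw [hS, Finset.sum_mul, Finset.mul_sum]
          exact Finset.sum_congr rfl fun m _ => hcomm m
        rw [add_mul, mul_add, one_mul, mul_one, smul_mul_assoc, mul_smul_comm, hSM]
      · have hentry : ∀ n, 1 ≤ n → n < p → (c : Matrix (Fin p) (Fin p) F) 0 (n • k) ≠ 0 := by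
          intro n hn1 hnp
          show (1 + β • S) 0 (n • k) ≠ 0
          have hnk : (0 : Fin p) ≠ n • k := fun h => by
            have := hinjk (show n ∈ Set.Iio p from hnp) (show 0 ∈ Set.Iio p by simp; omega) (by simpa using h.symm)
            omega
          rw [Matrix.add_apply, Matrix.one_apply_ne hnk, zero_add, Matrix.smul_apply, hS, Matrix.sum_apply,
            Finset.sum_eq_single n]
          · rw [mat_pow]
            simp only [mat, zero_add, if_true, smul_eq_mul]
            exact mul_ne_zero (div_ne_zero (sub_ne_zero.mpr hα1) hne) (Finset.prod_ne_zero_iff.mpr fun m _ => htv _)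
          · intro m hm hmn
            rw [mat_pow]
            simp only [mat, zero_add]
            rw [if_neg]
            exact fun h => hmn (hinjk (show m ∈ Set.Iio p from Finset.mem_range.mp hm) (show n ∈ Set.Iio p from hnp) h.symm)
          · intro h; simp at h; omega
        refine ⟨0, 1 • k, 2 • k, ?_, hentry 1 le_rfl (by omega), hentry 2 (by omega) (by omega)⟩
        intro h
        have := hinjk (show 1 ∈ Set.Iio p by simp; omega) (show 2 ∈ Set.Iio p by simp; omega) h
        omega
    · -- one plus the element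
      have hζm : 1 + ζ ≠ 0 := by
        intro h
        have hz : ζ = -1 := by linear_combination h
        have hzp : ζ ^ p = 1 := by
          rw [hζ, ← Finset.prod_pow, Finset.prod_congr rfl (fun i _ => htp i), Finset.prod_const_one]
        rw [hz, (hp.out.odd_of_ne_two hp2).neg_one_pow] at hzp
        exact hζ1 (hz.trans hzp)
      set T : Matrix (Fin p) (Fin p) F := ∑ m ∈ Finset.range p, (-M) ^ m with hT
      have hMT : (1 + M) * T = (1 + ζ) • (1 : Matrix (Fin p) (Fin p) F) := by
        rw [← sub_neg_eq_add, hT, mul_neg_geom_sum, (hp.out.odd_of_ne_two hp2).neg_pow, hMp, sub_neg_eq_add,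
          add_smul, one_smul]
      have hTM : T * (1 + M) = (1 + ζ) • (1 : Matrix (Fin p) (Fin p) F) := by
        rw [← sub_neg_eq_add, hT, geom_sum_mul_neg, (hp.out.odd_of_ne_two hp2).neg_pow, hMp, sub_neg_eq_add,
          add_smul, one_smul]
      let c : GL (Fin p) F :=
        { val := 1 + M
          inv := (1 + ζ)⁻¹ • T
          val_inv := by rw [mul_smul_comm, hMT, smul_smul, inv_mul_cancel₀ hζm, one_smul]
          inv_val := by rw [smul_mul_assoc, hTM, smul_smul, inv_mul_cancel₀ hζm, one_smul] }
      refine hfinish c ?_ ⟨0, 0, k, fun h => hk h.symm, ?_, ?_⟩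
      · refine Units.ext ?_
        rw [Units.val_mul, Units.val_mul, hGL]
        show (1 + M) * M = M * (1 + M)
        rw [add_mul, mul_add, one_mul, mul_one]
      · show (1 + M) 0 0 ≠ 0
        simp [M, mat, Ne.symm hk]
      · show (1 + M) 0 k ≠ 0
        simp [M, mat, Ne.symm hk, htv 0]

theorem main (hp2 : p ≠ 2) (h1 : p ∣ Fintype.card F - 1) (h2 : ¬ p ^ 2 ∣ Fintype.card F - 1) :
    ∃ Q : Sylow p (GL (Fin p) F), ∀ x : GL (Fin p) F, (∃ k : ℕ, orderOf x = p ^ k) →
      ∃ P : Sylow p (GL (Fin p) F), P ≠ Q ∧ x ∈ P := by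
  classical
  have hP : IsPGroup p (std F p) := IsPGroup.of_card (card_std h1)
  let Q : Sylow p (GL (Fin p) F) := hP.toSylow (index_std hp2 h1 h2)
  have hQ : (Q : Subgroup (GL (Fin p) F)) = std F p := rfl
  refine ⟨Q, fun x ⟨k, hk⟩ => ?_⟩
  have hxp : IsPGroup p (Subgroup.zpowers x) := IsPGroup.of_card (n := k) (by rw [Nat.card_zpowers, hk])
  obtain ⟨P, hP'⟩ := hxp.exists_le_sylow
  by_cases hPQ : P = Q
  · obtain ⟨c, hc1, hc2⟩ := exists_other hp2 h1 (hQ ▸ hPQ ▸ hP' (Subgroup.mem_zpowers x))
    have hcQ : ((c • Q : Sylow p (GL (Fin p) F)) : Subgroup (GL (Fin p) F)) = (std F p).map (MulAut.conj c).toMonoidHom := by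
      rw [Sylow.coe_subgroup_smul, Subgroup.pointwise_smul_def, hQ]; rfl
    refine ⟨c • Q, fun h => hc1 ?_, ?_⟩
    · rw [← hcQ, h, hQ]
    · show x ∈ ((c • Q : Sylow p (GL (Fin p) F)) : Subgroup (GL (Fin p) F))
      rw [hcQ]; exact hc2
  · exact ⟨P, hPQ, hP' (Subgroup.mem_zpowers x)⟩

end Aux

/-- Let p be an odd prime and F a finite field with q elements such that p divides q - 1 but p² does not. Then GL(p, F) has a Sylow p-subgroup Q such that every element of p-power order lies in some Sylow p-subgroup other than Q (a redundant Sylow p-subgroup). -/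
theorem result {F : Type*} [Field F] [Fintype F] (p : ℕ) [Fact p.Prime]
    (hp : p ≠ 2) (h1 : p ∣ Fintype.card F - 1) (h2 : ¬ p ^ 2 ∣ Fintype.card F - 1) :
    ∃ Q : Sylow p (Matrix.GeneralLinearGroup (Fin p) F), ∀ x : Matrix.GeneralLinearGroup (Fin p) F,
      (∃ k : ℕ, orderOf x = p ^ k) → ∃ P : Sylow p (Matrix.GeneralLinearGroup (Fin p) F), P ≠ Q ∧ x ∈ P := by
  exact Aux.main hp h1 h2

end Cfsg.Agent.S4358
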