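import Cfsg.Statements.S4359
import Cfsg.Agent.Lib.ShiftedPGroup

set_option autoImplicit false
open Pointwise
open Cfsg
open scoped Pointwise

namespace Cfsg.Agent.S4359

/-- Let P be a subgroup of a finite group G and g an element such that P ∩ g⁻¹Pg is a normal subgroup of prime index p in g⁻¹Pg. Let n ≥ 1 and let K be the subgroup generated by P and its conjugates g⁻ⁱPgⁱ for i ≤ n. Suppose that g normalizes no non-identity normal subgroup of P and that P meets the center of K trivially. Then the order of P is pᵗ for some t with 1 ≤ t ≤ 3n and t ≠ 3n - 1. -/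
theorem result {G : Type*} [Group G] [Finite G]
    (P : Subgroup G) (g : G) (p : ℕ) (hp : p.Prime)
    (hN : ((P ⊓ MulAut.conj g⁻¹ • P).subgroupOf (MulAut.conj g⁻¹ • P)).Normal)
    (hidx : (P ⊓ MulAut.conj g⁻¹ • P).relIndex (MulAut.conj g⁻¹ • P) = p)
    (n : ℕ) (hn : 1 ≤ n) (K : Subgroup G) (hK : K = ⨆ i ∈ Finset.range (n + 1), MulAut.conj (g ^ i)⁻¹ • P)
    (h1 : ∀ Q : Subgroup G, Q ≤ P → (Q.subgroupOf P).Normal → MulAut.conj g • Q = Q → Q = ⊥)
    (h2 : P ⊓ (Subgroup.center K).map K.subtype = ⊥) :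
    ∃ t : ℕ, Nat.card P = p ^ t ∧ 1 ≤ t ∧ t ≤ 3 * n ∧ t ≠ 3 * n - 1 := by
  classical
  set φ : MulAut G := MulAut.conj g⁻¹ with hφ
  have hφpow : ∀ i : ℕ, MulAut.conj (g ^ i)⁻¹ = φ ^ i := by
    intro i; rw [hφ, ← map_pow, inv_pow]
  have hinv : MulAut.conj g = φ⁻¹ := by rw [hφ, ← map_inv, inv_inv]
  obtain ⟨t, x₀, ht, hPI, hcard, hfix⟩ :=
    Cfsg.Agent.ShiftedPGroup.structure_exists P φ hp hN hidx (fun R hR hRn hRφ => by
      refine h1 R hR ?_ ?_
      · exact (Subgroup.normal_subgroupOf_iff_le_normalizer hR).2 hRn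
      · rw [hinv, inv_smul_eq_iff, hRφ])
  have hP : Nat.card P = p ^ t := by rw [hPI]; exact hcard t le_rfl
  refine ⟨t, hP, ht, ?_⟩
  have hshift : ∀ i, MulAut.conj (g ^ i)⁻¹ • P = Cfsg.Agent.ShiftedPGroup.I φ x₀ i t := by
    intro i
    rw [hφpow, hPI, Cfsg.Agent.ShiftedPGroup.smul_I, Nat.add_zero]
  have hmove : ∀ i k : ℕ, (φ ^ i) ((φ ^ k) x₀) = (φ ^ (i + k)) x₀ := by
    intro i k; rw [← MulAut.mul_apply, ← pow_add]
  -- an element of `P` commuting with all the generators of `K` is trivial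
  have hcen : ∀ j < t, ¬ ∀ i < t + n, Commute ((φ ^ i) x₀) ((φ ^ j) x₀) := by
    intro j hj hall
    have hKle : K ≤ Subgroup.centralizer ({(φ ^ j) x₀} : Set G) := by
      rw [hK]
      refine iSup₂_le (fun i hi => ?_)
      rw [hshift]
      refine Cfsg.Agent.ShiftedPGroup.I_le φ x₀ (fun k hk1 hk2 => ?_)
      rw [Finset.mem_range] at hi
      exact Subgroup.mem_centralizer_singleton_iff.2 (hall k (by omega)).eq
    have hxP : (φ ^ j) x₀ ∈ P := by
      rw [hPI]; exact Cfsg.Agent.ShiftedPGroup.mem_I φ x₀ (Nat.zero_le j) (by omega)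
    have hPK : P ≤ K := by
      rw [hK]
      refine le_trans ?_ (le_biSup (fun i => MulAut.conj (g ^ i)⁻¹ • P) (Finset.mem_range.2 (Nat.succ_pos n)))
      simp
    have hmem : (φ ^ j) x₀ ∈ P ⊓ (Subgroup.center K).map K.subtype := by
      refine ⟨hxP, ⟨(φ ^ j) x₀, hPK hxP⟩, Subgroup.mem_center_iff.2 (fun y => ?_), rfl⟩
      exact Subtype.ext (Subgroup.mem_centralizer_singleton_iff.1 (hKle y.2))
    rw [h2, Subgroup.mem_bot, MulEquiv.map_eq_one_iff] at hmem
    have h0 := hcard 1 ht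
    have hbot : Cfsg.Agent.ShiftedPGroup.I φ x₀ 0 1 = ⊥ := le_bot_iff.1
      (Cfsg.Agent.ShiftedPGroup.I_le φ x₀ (fun i hi1 hi2 => by
        rw [Subgroup.mem_bot, hmem, map_one]))
    rw [hbot, Subgroup.card_bot, pow_one] at h0
    exact hp.ne_one h0.symm
  have hex : ∃ d, ¬ Commute x₀ ((φ ^ d) x₀) := by
    by_contra hc
    push Not at hc
    refine hcen 0 ht (fun i _ => ?_)
    simpa using (hc i).symm
  let a := Nat.find hex
  have hne : ¬ Commute x₀ ((φ ^ a) x₀) := Nat.find_spec hex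
  have hlt : ∀ d < a, Commute x₀ ((φ ^ d) x₀) := fun d hd => not_not.1 (Nat.find_min hex hd)
  have hmain := Cfsg.Agent.ShiftedPGroup.two_mul_le_three_mul φ x₀ hp hcard hfix hne hlt
  have hcomm : ∀ i j : ℕ, i < j + a → j < i + a → Commute ((φ ^ i) x₀) ((φ ^ j) x₀) := by
    intro i j hi hj
    rcases le_total i j with hij | hij
    · have h := (hlt (j - i) (by omega)).map (φ ^ i : MulAut G)
      rw [hmove, Nat.add_sub_cancel' hij] at h
      exact h
    · have h := (hlt (i - j) (by omega)).map (φ ^ j : MulAut G)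
      rw [hmove, Nat.add_sub_cancel' hij] at h
      exact h.symm
  by_cases han : a ≤ n
  · omega
  · have hk : 2 * a ≤ t + n := by
      by_contra hc
      by_cases hj : t + n ≤ a
      · exact hcen 0 ht (fun i hi => hcomm i 0 (by omega) (by omega))
      · exact hcen (t + n - a) (by omega) (fun i hi => hcomm i (t + n - a) (by omega) (by omega))
    omega

end Cfsg.Agent.S4359
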