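import Cfsg.Statements.S4370
import Mathlib
import Cfsg.Agent.Lib.Frobenius.UniqueSubgroup
import Cfsg.Agent.Lib.NilpotentCommute
-- import your own Cfsg.Agent.* helpers here

set_option autoImplicit false
open Cfsg

namespace Cfsg.Agent.S4370

open QuaternionGroup

/-- Subgroups of the same order in a cyclic group coincide. -/
private theorem cyclic_zpowers_eq {C : Type*} [Group C] [Finite C] (hC : IsCyclic C) (y z : C) {p : ℕ}
    (hp : 0 < p) (hy : orderOf y = p) (hz : orderOf z = p) : Subgroup.zpowers y = Subgroup.zpowers z := by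
  classical
  have : Fintype C := Fintype.ofFinite C
  have key : ∀ w : C, orderOf w = p → (Subgroup.zpowers w : Set C) = {b : C | b ^ p = 1} := by
    intro w hw
    refine Set.eq_of_subset_of_ncard_le ?_ ?_ (Set.toFinite _)
    · intro b hb
      obtain ⟨i, rfl⟩ := Subgroup.mem_zpowers_iff.mp hb
      show (w ^ i) ^ p = 1
      rw [← zpow_natCast, ← zpow_mul, mul_comm, zpow_mul, zpow_natCast, ← hw, pow_orderOf_eq_one, one_zpow]
    · rw [← Nat.card_coe_set_eq (s := (Subgroup.zpowers w : Set C))]
      rw [show Nat.card ↥(Subgroup.zpowers w : Set C) = p from (Nat.card_zpowers w).trans hw]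
      rw [Set.ncard_eq_toFinset_card', Set.toFinset_ofFinset]
      exact hC.card_pow_eq_one_le hp
  exact SetLike.coe_injective ((key y hy).trans (key z hz).symm)

/-- Centralizers of non-central elements of a quaternion 2-group are cyclic. -/
private theorem quaternion_centralizer {n : ℕ} [NeZero n] (q : QuaternionGroup n)
    (hq : q ∉ Subgroup.center (QuaternionGroup n)) : IsCyclic (Subgroup.centralizer ({q} : Set (QuaternionGroup n))) := by
  have hn : (0 : ℕ) < n := Nat.pos_of_ne_zero (NeZero.ne n)
  have htwo : ∀ t : ZMod (2 * n), t + t = 0 → t = 0 ∨ t = (n : ZMod (2 * n)) := by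
    intro t ht
    have h1 : ((t.val + t.val : ℕ) : ZMod (2 * n)) = 0 := by
      rw [Nat.cast_add, ZMod.natCast_zmod_val, ht]
    rw [ZMod.natCast_eq_zero_iff, ← two_mul] at h1
    obtain ⟨c, hc⟩ := (Nat.mul_dvd_mul_iff_left (by norm_num : 0 < 2)).mp h1
    have hlt := ZMod.val_lt t
    have hc2 : c < 2 := by
      by_contra hc2
      have : n * 2 ≤ n * c := Nat.mul_le_mul_left n (by omega)
      omega
    interval_cases c
    · exact Or.inl ((ZMod.val_eq_zero t).mp (by simpa using hc))
    · exact Or.inr (by rw [← ZMod.natCast_zmod_val t, hc, mul_one])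
  cases q with
  | a i =>
    have hi : i + i ≠ 0 := fun h0 => by
      refine hq (Subgroup.mem_center_iff.mpr fun g => ?_)
      cases g with
      | a j => rw [a_mul_a, a_mul_a, add_comm]
      | xa j => rw [xa_mul_a, a_mul_xa]; congr 1; linear_combination h0
    refine isCyclic_of_injective (Subgroup.inclusion (?_ : _ ≤ Subgroup.zpowers (a 1 : QuaternionGroup n)))
      (Subgroup.inclusion_injective _)
    intro g hg
    rw [Subgroup.mem_centralizer_singleton_iff] at hg
    cases g with
    | a j =>
      rw [← ZMod.natCast_zmod_val j, ← a_one_pow]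
      exact Subgroup.pow_mem _ (Subgroup.mem_zpowers _) _
    | xa j =>
      rw [xa_mul_a, a_mul_xa, xa.injEq] at hg
      exact absurd (by linear_combination hg) hi
  | xa i =>
    refine isCyclic_of_injective (Subgroup.inclusion (?_ : _ ≤ Subgroup.zpowers (xa i : QuaternionGroup n)))
      (Subgroup.inclusion_injective _)
    intro g hg
    rw [Subgroup.mem_centralizer_singleton_iff] at hg
    have hsq : (a (n : ZMod (2 * n)) : QuaternionGroup n) ∈ Subgroup.zpowers (xa i) :=
      xa_sq i ▸ Subgroup.pow_mem _ (Subgroup.mem_zpowers _) 2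
    cases g with
    | a j =>
      rw [a_mul_xa, xa_mul_a, xa.injEq] at hg
      rcases htwo j (by linear_combination (-1 : ZMod (2 * n)) * hg) with rfl | rfl
      · rw [a_zero]; exact one_mem _
      · exact hsq
    | xa j =>
      rw [xa_mul_xa, xa_mul_xa, a.injEq] at hg
      rcases htwo (j - i) (by linear_combination (-1 : ZMod (2 * n)) * hg) with h | h
      · rw [sub_eq_zero] at h; rw [h]; exact Subgroup.mem_zpowers _
      · have : (xa j : QuaternionGroup n) = xa i * a (n : ZMod (2 * n)) := by
          rw [xa_mul_a, ← h, add_sub_cancel]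
        rw [this]; exact mul_mem (Subgroup.mem_zpowers _) hsq

/-- Let G be a finite non-abelian nilpotent group. Then the centralizer of every non-central element of G is cyclic if and only if G is isomorphic to the direct product of a generalized quaternion group and a cyclic group of odd order. -/
theorem result {G : Type*} [Group G] [Finite G] (hG : Group.IsNilpotent G)
    (hna : ¬ IsMulCommutative G) :
    (∀ x : G, x ∉ Subgroup.center G → IsCyclic (Subgroup.centralizer ({x} : Set G))) ↔
      ∃ (k m : ℕ), 1 ≤ k ∧ Odd m ∧ Nonempty (G ≃* QuaternionGroup (2 ^ k) × Multiplicative (ZMod m)) := by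
  constructor
  · intro h
    have hP : ∃ (p : ℕ) (_ : Fact p.Prime) (P : Sylow p G), ¬ IsMulCommutative (P : Subgroup G) := by
      by_contra hall
      push Not at hall
      have := hG
      let e := Sylow.directProductOfNormal (G := G) (fun {p} _ P => Sylow.normal_of_all_max_subgroups_normal (fun H hH => Subgroup.NormalizerCondition.normal_of_coatom H Group.normalizerCondition_of_isNilpotent hH) P)
      refine hna ⟨⟨fun a b => e.symm.injective ?_⟩⟩
      rw [map_mul, map_mul]
      funext q P
      simp only [Pi.mul_apply]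
      have : Fact (q : ℕ).Prime := ⟨Nat.prime_of_mem_primeFactors q.2⟩
      exact (hall q inferInstance P).is_comm.comm _ _
    obtain ⟨p, hpf, P, hPna⟩ := hP
    have := hG
    obtain ⟨P', K, hK, hKc⟩ := CfsgLib.hasNormalPComplement_of_isNilpotent (p := p) hG
    have hPn : ∀ R : Sylow p G, (R : Subgroup G).Normal := fun R =>
      Sylow.normal_of_all_max_subgroups_normal (fun H hH => Subgroup.NormalizerCondition.normal_of_coatom H Group.normalizerCondition_of_isNilpotent hH) R
    have := Sylow.unique_of_normal P (hPn P)
    obtain rfl : P' = P := Subsingleton.elim _ _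
    set PG : Subgroup G := (P' : Subgroup G)
    have hKcop : ¬ p ∣ Nat.card K := by
      rw [← Subgroup.IsComplement'.index_eq_card hKc]
      exact P'.not_dvd_index
    have hcomm : ∀ (y : PG) (k : K), Commute (y : G) k := fun y k => by
      refine CfsgLib.commute_of_nilpotent _ _ ?_
      rw [Subgroup.orderOf_coe, Subgroup.orderOf_coe]
      obtain ⟨j, hj⟩ := IsPGroup.iff_orderOf.mp P'.2 y
      rw [hj]
      exact ((hpf.out.coprime_iff_not_dvd).mpr fun hd => hKcop (hd.trans (orderOf_dvd_natCard k))).pow_left j
    obtain ⟨x, hx⟩ : ∃ x : PG, (x : G) ∉ Subgroup.center G := by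
      by_contra hall
      push Not at hall
      exact hPna ⟨⟨fun a b => Subtype.ext (Subgroup.mem_center_iff.mp (hall b) a)⟩⟩
    have hCx := h _ hx
    have hKcyc : IsCyclic K := isCyclic_of_injective (Subgroup.inclusion (fun k hk =>
      Subgroup.mem_centralizer_singleton_iff.mpr (hcomm x ⟨k, hk⟩).eq.symm)) (Subgroup.inclusion_injective _)
    have hnt : Nontrivial PG := by
      rw [← not_subsingleton_iff_nontrivial]
      intro hs
      exact hPna ⟨⟨fun a b => Subsingleton.elim _ _⟩⟩
    have huniq : CfsgLib.Frob.UniqSub p PG := by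
      have hcn := P'.2.center_nontrivial
      obtain ⟨j, hj⟩ := (P'.2.to_subgroup (Subgroup.center PG)).exists_card_eq
      have hd : p ∣ Nat.card (Subgroup.center PG) := by
        rw [hj]
        refine dvd_pow_self p fun h0 => ?_
        rw [h0, pow_zero] at hj
        exact (Finite.one_lt_card_iff_nontrivial.mpr hcn).ne' hj
      obtain ⟨z, hz⟩ := exists_prime_orderOf_dvd_card' p hd
      have hone : ∀ H : Subgroup PG, Nat.card H = p → H = Subgroup.zpowers (z : PG) := by
        intro H hH
        have hHc : IsCyclic H := isCyclic_of_prime_card (p := p) hH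
        obtain ⟨⟨y, hyH⟩, hy⟩ := hHc.exists_generator
        have hyo : orderOf (⟨y, hyH⟩ : H) = p := by rw [orderOf_eq_card_of_forall_mem_zpowers hy, hH]
        -- a non-central element commuting with both
        obtain ⟨w, hw, hwy⟩ : ∃ w : G, w ∉ Subgroup.center G ∧ Commute (y : G) w ∧ Commute ((z : PG) : G) w := by
          by_cases hyc : (y : G) ∈ Subgroup.center G
          · refine ⟨x, hx, (Subgroup.mem_center_iff.mp hyc x).symm, ?_⟩
            exact congrArg Subtype.val (Subgroup.mem_center_iff.mp z.2 x).symm
          · exact ⟨y, hyc, Commute.refl _, congrArg Subtype.val (Subgroup.mem_center_iff.mp z.2 y).symm⟩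
        have hC := h w hw
        let C := Subgroup.centralizer ({w} : Set G)
        let y' : C := ⟨y, Subgroup.mem_centralizer_singleton_iff.mpr hwy.1.eq⟩
        let z' : C := ⟨((z : PG) : G), Subgroup.mem_centralizer_singleton_iff.mpr hwy.2.eq⟩
        have hy' : orderOf y' = p := by
          rw [Subgroup.orderOf_mk, Subgroup.orderOf_coe, ← hyo, Subgroup.orderOf_mk y hyH]
        have hz' : orderOf z' = p := by
          rw [Subgroup.orderOf_mk, Subgroup.orderOf_coe, Subgroup.orderOf_coe, hz]
        have heq : Subgroup.zpowers y' = Subgroup.zpowers z' :=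
          cyclic_zpowers_eq hC y' z' hpf.out.pos hy' hz'
        have hmem : y ∈ Subgroup.zpowers (z : PG) := by
          obtain ⟨i, hi⟩ := heq ▸ Subgroup.mem_zpowers y'
          exact ⟨i, Subtype.ext (by simpa [z', y'] using congrArg Subtype.val hi)⟩
        refine Subgroup.eq_of_le_of_card_ge (fun g hg => ?_) ?_
        · obtain ⟨i, hi⟩ := hy ⟨g, hg⟩
          have hi' : y ^ i = g := congrArg Subtype.val hi
          exact hi' ▸ Subgroup.zpow_mem _ hmem i
        · rw [hH, Nat.card_zpowers, Subgroup.orderOf_coe, hz]
      exact fun H L hH hL => (hone H hH).trans (hone L hL).symm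
    have hPnc : ¬ IsCyclic PG := fun hc => hPna hc.isMulCommutative
    obtain rfl : p = 2 := by
      by_contra hp2
      exact hPnc (CfsgLib.Frob.isCyclic_of_uniq_odd hp2 P'.2 huniq)
    obtain ⟨k, ⟨eP⟩⟩ := (CfsgLib.Frob.cyclic_or_quaternion_two P'.2 huniq).resolve_left hPnc
    have hk : 1 ≤ k := by
      rcases Nat.eq_zero_or_pos k with rfl | hk
      · exact absurd (eP.isCyclic.mpr QuaternionGroup.quaternionGroup_one_isCyclic) hPnc
      · exact hk
    refine ⟨k, Nat.card K, hk, ?_, ?_⟩
    · rw [Nat.odd_iff]; have := hKcop; omega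
    · let f : PG × K →* G := MonoidHom.noncommCoprod PG.subtype K.subtype (fun y k => hcomm y k)
      have hf : Function.Bijective f := hKc.symm
      exact ⟨(MulEquiv.ofBijective f hf).symm.trans (eP.prodCongr (zmodCyclicMulEquiv hKcyc).symm)⟩
  · rintro ⟨k, m, hk, hm, ⟨e⟩⟩ x hx
    have : NeZero (2 ^ k) := ⟨pow_ne_zero _ two_ne_zero⟩
    have : NeZero m := ⟨by rintro rfl; simp at hm⟩
    set C := Subgroup.centralizer ({x} : Set G)
    have hq : (e x).1 ∉ Subgroup.center (QuaternionGroup (2 ^ k)) := by
      intro hq
      refine hx (Subgroup.mem_center_iff.mpr fun g => e.injective ?_)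
      rw [map_mul, map_mul]
      exact Prod.ext (Subgroup.mem_center_iff.mp hq _) (mul_comm _ _)
    let f : C →* Subgroup.centralizer ({(e x).1} : Set (QuaternionGroup (2 ^ k))) × Multiplicative (ZMod m) :=
      { toFun := fun g => (⟨(e g).1, Subgroup.mem_centralizer_singleton_iff.mpr (by
          have := congrArg (fun y => (e y).1) (Subgroup.mem_centralizer_singleton_iff.mp g.2)
          simpa only [map_mul, Prod.fst_mul] using this)⟩, (e g).2)
        map_one' := by
          refine Prod.ext (Subtype.ext ?_) ?_ <;> simp
        map_mul' := fun a b => by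
          refine Prod.ext (Subtype.ext ?_) ?_ <;> simp }
    have hf : Function.Injective f := fun a b hab =>
      Subtype.ext (e.injective (Prod.ext (congrArg (fun y => (y.1 : QuaternionGroup (2 ^ k))) hab)
        (congrArg Prod.snd hab :)))
    have : IsCyclic (Subgroup.centralizer ({(e x).1} : Set (QuaternionGroup (2 ^ k))) × Multiplicative (ZMod m)) := by
      refine Group.isCyclic_prod_iff.mpr ⟨quaternion_centralizer _ hq, inferInstance, ?_⟩
      refine Nat.Coprime.coprime_dvd_left (Subgroup.card_subgroup_dvd_card _) ?_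
      rw [Nat.card_eq_fintype_card, QuaternionGroup.card,
        show 4 * 2 ^ k = 2 ^ (k + 2) by ring, Nat.card_congr Multiplicative.toAdd, Nat.card_zmod]
      exact hm.coprime_two_left.pow_left _
    exact isCyclic_of_injective f hf

end Cfsg.Agent.S4370
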