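import Cfsg.Statements.S4376
import Mathlib
import Cfsg.Agent.Lib.OrderTypeExample.Data
-- import your own Cfsg.Agent.* helpers here

set_option autoImplicit false
open Cfsg

namespace Cfsg.Agent.S4376

open CfsgLib.OrderTypeExample CfsgLib.OrderTypeExample.Data

/-- The simple group of order 168 among the factors. -/
abbrev P : Type := carrier ok0

/-- First generator. -/
def ga : P := ⟨⟨⟨0, 0, 0⟩, ⟨⟨1, 1, 0, 0, 1, 0, 0, 0, 1⟩, 0⟩⟩, by
  refine ⟨by decide +kernel, ?_⟩
  exact (mem_s0 _).mpr (by decide +kernel)⟩

/-- Second generator. -/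
def gb : P := ⟨⟨⟨0, 0, 0⟩, ⟨⟨0, 0, 1, 1, 0, 0, 0, 1, 0⟩, 0⟩⟩, by
  refine ⟨by decide +kernel, ?_⟩
  exact (mem_s0 _).mpr (by decide +kernel)⟩

theorem word_mem {l : List P} (h : ∀ x ∈ l, x = ga ∨ x = gb) : l.prod ∈ Subgroup.closure {ga, gb} :=
  Subgroup.list_prod_mem _ fun x hx => Subgroup.subset_closure (by simpa using h x hx)

theorem simple_not_solvable : ¬ Group.IsSolvable P :=
  not_solvable_of_commutators (a := ga) (b := gb) (u := List.prod [gb, ga, gb, gb, ga, gb, ga, gb, gb]) (v := List.prod [gb, gb, ga, gb, ga, gb, gb, ga, gb]) (u' := List.prod [ga, gb, ga, gb, ga, gb, gb, ga, gb, ga, gb, ga]) (v' := List.prod [gb])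
    (word_mem (by simp)) (word_mem (by simp)) (word_mem (by simp)) (word_mem (by simp))
    (by decide +kernel) (by decide +kernel) (by decide +kernel)

/-- There are finite groups G and H having the same number of elements of each order (the same order type) with G solvable and H not solvable. -/
theorem result :
    ∃ (G : Type) (_ : Group G) (_ : Finite G) (H : Type) (_ : Group H) (_ : Finite H),
      Group.IsSolvable G ∧ ¬ Group.IsSolvable H ∧ ∀ n : ℕ, Nat.card {g : G // orderOf g = n} = Nat.card {h : H // orderOf h = n} := by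
  refine ⟨Big solvableSide, inferInstance, inferInstance, Big otherSide, inferInstance, inferInstance, ?_, ?_,
    fun n => same_order_type _ _ predicted_eq n⟩
  · exact ⟨3, derivedSeries_pi_eq_bot 3 fun j => derived_solvableSide _ (List.getElem_mem _)⟩
  · intro hs
    refine simple_not_solvable ?_
    have hs' : Group.IsSolvable (Big otherSide) := hs
    let j : Idx otherSide := ⟨⟨0, by decide⟩, ⟨0, by decide⟩⟩
    let φ : Big otherSide →* P := Pi.evalMonoidHom (fun i : Idx otherSide => carrier (otherSide[i.1]).ok) j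
    refine Group.isSolvable_of_surjective (f := φ) fun y => ?_
    classical
    exact ⟨Pi.mulSingle (M := fun i : Idx otherSide => carrier (otherSide[i.1]).ok) j y,
      Pi.mulSingle_eq_same (M := fun i : Idx otherSide => carrier (otherSide[i.1]).ok) j y⟩

end Cfsg.Agent.S4376
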