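import Cfsg.Statements.S4381
import Mathlib
import Cfsg.Agent.Lib.InvariantComplement
import Cfsg.Agent.Lib.Coprime
import Cfsg.Agent.Lib.CoprimeGen
-- import your own Cfsg.Agent.* helpers here

set_option autoImplicit false
open Pointwise
open Cfsg

namespace Cfsg.Agent.S4381

open scoped Pointwise

/-- Let the finite group A act by automorphisms on the finite group G with the orders of A and G coprime, and assume that A or G is solvable. Call a proper A-invariant subgroup of G maximal A-invariant when no A-invariant subgroup lies strictly between it and G. Then all maximal A-invariant subgroups of G are conjugate under elements of the fixed-point subgroup C_G(A) if and only if G is a p-group for some prime p and A leaves invariant no subgroup strictly between the Frattini subgroup of G and G. In that case, if G is nontrivial, the Frattini subgroup is the only maximal A-invariant subgroup (a trivial G has none). -/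
theorem result {A G : Type*} [Group A] [Finite A]
    [Group G] [Finite G] [MulDistribMulAction A G] (hcop : (Nat.card A).Coprime (Nat.card G)) (hsol : Group.IsSolvable A ∨ Group.IsSolvable G) :
    ((∀ M N : Subgroup G, (M ≠ ⊤ ∧ (∀ a : A, ∀ x ∈ M, a • x ∈ M) ∧ ∀ L : Subgroup G, M < L → (∀ a : A, ∀ x ∈ L, a • x ∈ L) → L = ⊤) → (N ≠ ⊤ ∧ (∀ a : A, ∀ x ∈ N, a • x ∈ N) ∧ ∀ L : Subgroup G, N < L → (∀ a : A, ∀ x ∈ L, a • x ∈ L) → L = ⊤) →
        ∃ c : G, (∀ a : A, a • c = c) ∧ N = MulAut.conj c • M) ↔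
      ((∃ p : ℕ, p.Prime ∧ IsPGroup p G) ∧ ∀ L : Subgroup G, frattini G < L → (∀ a : A, ∀ x ∈ L, a • x ∈ L) → L = ⊤)) ∧
    (((∃ p : ℕ, p.Prime ∧ IsPGroup p G) ∧ ∀ L : Subgroup G, frattini G < L → (∀ a : A, ∀ x ∈ L, a • x ∈ L) → L = ⊤) →
      ∀ M : Subgroup G, (M ≠ ⊤ ∧ (∀ a : A, ∀ x ∈ M, a • x ∈ M) ∧ ∀ L : Subgroup G, M < L → (∀ a : A, ∀ x ∈ L, a • x ∈ L) → L = ⊤) ↔ (M = frattini G ∧ M ≠ ⊤)) := by
  set Φ := frattini G with hΦ
  let IsMax : Subgroup G → Prop := fun M =>
    M ≠ ⊤ ∧ (∀ a : A, ∀ x ∈ M, a • x ∈ M) ∧ ∀ L : Subgroup G, M < L → (∀ a : A, ∀ x ∈ L, a • x ∈ L) → L = ⊤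
  have hΦinv : ∀ a : A, ∀ x ∈ Φ, a • x ∈ Φ := fun a x hx => by
    have h1 : Φ.map (MulDistribMulAction.toMulAut A G a).toMonoidHom = Φ :=
      Subgroup.characteristic_iff_map_eq.mp inferInstance _
    rw [← h1]; exact ⟨x, hx, rfl⟩
  have hsupinv : ∀ M N : Subgroup G, (∀ a : A, ∀ x ∈ M, a • x ∈ M) → (∀ a : A, ∀ x ∈ N, a • x ∈ N) →
      ∀ a : A, ∀ x ∈ M ⊔ N, a • x ∈ M ⊔ N := fun M N hM hN a x hx =>
    (sup_le (fun y hy => Subgroup.mem_sup_left (hM a y hy)) (fun y hy => Subgroup.mem_sup_right (hN a y hy)) :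
      M ⊔ N ≤ (M ⊔ N).comap (MulDistribMulAction.toMonoidHom G a)) hx
  have hexmax : ∀ U : Subgroup G, (∀ a : A, ∀ x ∈ U, a • x ∈ U) → U ≠ ⊤ → ∃ M, IsMax M ∧ U ≤ M := by
    intro U hU hUne
    obtain ⟨M, ⟨hM1, hM2, hM3⟩, hmax⟩ := (Set.toFinite {M : Subgroup G | M ≠ ⊤ ∧ (∀ a : A, ∀ x ∈ M, a • x ∈ M) ∧ U ≤ M}).exists_maximal
      ⟨U, hUne, hU, le_rfl⟩
    refine ⟨M, ⟨hM1, hM2, fun L hL hLinv => ?_⟩, hM3⟩
    by_contra hLne
    exact hL.not_ge (hmax ⟨hLne, hLinv, hM3.trans hL.le⟩ hL.le)
  have hΦle : ∀ M, IsMax M → Φ ≤ M := by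
    intro M hM
    by_contra h
    exact hM.1 (frattini_nongenerating (hM.2.2 _ (left_lt_sup.mpr h) (hsupinv M Φ hM.2.1 hΦinv)))
  -- the forward direction, second component, in a convenient form
  have hpart2 : ((∃ p : ℕ, p.Prime ∧ IsPGroup p G) ∧ ∀ L : Subgroup G, Φ < L → (∀ a : A, ∀ x ∈ L, a • x ∈ L) → L = ⊤) →
      ∀ M : Subgroup G, IsMax M ↔ (M = Φ ∧ M ≠ ⊤) := by
    rintro ⟨-, hL⟩ M
    constructor
    · intro hM
      refine ⟨?_, hM.1⟩
      by_contra hne
      exact hM.1 (hL M ((hΦle M hM).lt_of_ne (Ne.symm hne)) hM.2.1)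
    · rintro ⟨rfl, hne⟩
      exact ⟨hne, hΦinv, hL⟩
  refine ⟨⟨fun hconj => ?_, ?_⟩, hpart2⟩
  · by_cases htriv : Nat.card G = 1
    · have : Subsingleton G := (Nat.card_eq_one_iff_unique.mp htriv).1
      exact ⟨⟨2, Nat.prime_two, fun g => ⟨0, Subsingleton.elim _ _⟩⟩, fun L _ _ => Subsingleton.elim _ _⟩
    have hbot : (⊥ : Subgroup G) ≠ ⊤ := fun e => htriv (by
      rw [← Subgroup.card_top (G := G), ← e, Subgroup.card_bot])
    obtain ⟨M, hM, -⟩ := hexmax ⊥ (fun a x hx => by simp [Subgroup.mem_bot.mp hx]) hbot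
    -- `G` is a `p`-group
    obtain ⟨p, hp, hpd⟩ := Nat.exists_prime_and_dvd (fun e => hM.1 (Subgroup.index_eq_one.mp e))
    have := Fact.mk hp
    have hpG : IsPGroup p G := by
      let S := G ⋊[MulDistribMulAction.toMulAut A G] A
      have : Finite S := Finite.of_equiv _ SemidirectProduct.equivProd.symm
      let i : G →* S := SemidirectProduct.inl
      let j : A →* S := SemidirectProduct.inr
      have hi : Function.Injective i := SemidirectProduct.inl_injective
      have hj : Function.Injective j := SemidirectProduct.inr_injective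
      have hact : ∀ (a : A) (g : G), j a * i g * (j a)⁻¹ = i (a • g) := fun a g => by
        rw [← map_inv]; exact (SemidirectProduct.inl_aut a g).symm
      obtain ⟨P, hP⟩ := CfsgLib.coprime_exists_invariant_sylow (A := j.range) (K := i.range) (by
          refine Subgroup.le_normalizer_iff.mpr ?_
          rintro _ ⟨a, rfl⟩ _ ⟨g, rfl⟩
          exact ⟨a • g, (hact a g).symm⟩)
        (by rw [← Nat.card_congr (MonoidHom.ofInjective hi).toEquiv, ← Nat.card_congr (MonoidHom.ofInjective hj).toEquiv]; exact hcop)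
        (hsol.imp (fun h => by have := h; exact Group.isSolvable_of_surjective (MonoidHom.rangeRestrict_surjective j))
          (fun h => by have := h; exact Group.isSolvable_of_surjective (MonoidHom.rangeRestrict_surjective i))) p
      let P₀ : Subgroup G := (((P : Subgroup i.range)).map i.range.subtype).comap i
      have hP₀map : P₀.map i = ((P : Subgroup i.range)).map i.range.subtype :=
        Subgroup.map_comap_eq_self (Subgroup.map_subtype_le _)
      have hP₀inv : ∀ a : A, ∀ x ∈ P₀, a • x ∈ P₀ := by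
        intro a x hx
        rw [Subgroup.mem_comap, ← hact]
        exact (Subgroup.mem_normalizer_iff.mp (hP ⟨a, rfl⟩) (i x)).mp hx
      have hP₀p : IsPGroup p P₀ := by
        have h1 : IsPGroup p (P₀.map i) := by rw [hP₀map]; exact P.isPGroup'.map _
        exact h1.of_equiv (Subgroup.equivMapOfInjective P₀ i hi).symm
      by_cases hP₀top : P₀ = ⊤
      · rw [hP₀top] at hP₀p
        exact hP₀p.of_equiv Subgroup.topEquiv
      exfalso
      obtain ⟨N, hN, hPN⟩ := hexmax P₀ hP₀inv hP₀top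
      obtain ⟨c, -, hc⟩ := hconj M N hM hN
      have h1 : N.index = M.index := by
        have h2 := N.card_mul_index
        conv_rhs at h2 => rw [← M.card_mul_index]
        rw [hc, CfsgLib.card_conj_smul, ← hc] at h2
        exact Nat.eq_of_mul_eq_mul_left Nat.card_pos h2
      refine P.not_dvd_index ((hpd.trans (h1 ▸ Subgroup.index_dvd_of_le hPN)).trans ?_)
      refine dvd_of_eq ?_
      have hc1 : Nat.card P₀ = Nat.card (P : Subgroup i.range) := by
        rw [Nat.card_congr (Subgroup.equivMapOfInjective P₀ i hi).toEquiv, hP₀map, Subgroup.card_map_of_injective i.range.subtype_injective]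
      have h2 := Subgroup.card_mul_index (P : Subgroup i.range)
      rw [← Nat.card_congr (MonoidHom.ofInjective hi).toEquiv, ← Subgroup.card_mul_index P₀, hc1] at h2
      exact (Nat.eq_of_mul_eq_mul_left Nat.card_pos h2).symm
    refine ⟨⟨p, hp, hpG⟩, fun L hL hLinv => ?_⟩
    by_contra hLne
    have hG' : ∀ x y : G, x * y * x⁻¹ * y⁻¹ ∈ Φ := fun x y =>
      CfsgLib.commutator_le_frattini_pGroup hpG
        (Subgroup.commutator_mem_commutator (Subgroup.mem_top x) (Subgroup.mem_top y))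
    have hnormal : ∀ N : Subgroup G, Φ ≤ N → N.Normal := fun N hN => ⟨fun x hx g => by
      have := N.mul_mem (hN (hG' g x)) hx
      simpa [mul_assoc] using this⟩
    obtain ⟨M₁, hM₁, hLM⟩ := hexmax L hLinv hLne
    -- the quotient by the Frattini subgroup
    let V := G ⧸ Φ
    have hVcomm : ∀ x y : V, x * y = y * x := by
      intro x y
      obtain ⟨x, rfl⟩ := QuotientGroup.mk'_surjective Φ x
      obtain ⟨y, rfl⟩ := QuotientGroup.mk'_surjective Φ y
      rw [← map_mul, ← map_mul, QuotientGroup.mk'_apply, QuotientGroup.mk'_apply, QuotientGroup.eq]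
      simpa [mul_assoc] using hG' y⁻¹ x⁻¹
    letI : CommGroup V := { (inferInstance : Group V) with mul_comm := hVcomm }
    have hexp : ∀ x : V, x ^ p = 1 := by
      intro x
      obtain ⟨x, rfl⟩ := QuotientGroup.mk'_surjective Φ x
      rw [← map_pow, QuotientGroup.mk'_apply, QuotientGroup.eq_one_iff]
      exact CfsgLib.pow_mem_frattini_pGroup hpG x
    have hmapeq : ∀ a : A, Φ.map (MulDistribMulAction.toMulAut A G a).toMonoidHom = Φ := fun a =>
      Subgroup.characteristic_iff_map_eq.mp inferInstance _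
    let φ : A →* MulAut V :=
      { toFun := fun a => QuotientGroup.congr Φ Φ (MulDistribMulAction.toMulAut A G a) (hmapeq a)
        map_one' := MulEquiv.ext fun x => by
          obtain ⟨x, rfl⟩ := QuotientGroup.mk'_surjective Φ x
          show (QuotientGroup.mk ((1 : A) • x) : V) = QuotientGroup.mk x
          rw [one_smul]
        map_mul' := fun a b => MulEquiv.ext fun x => by
          obtain ⟨x, rfl⟩ := QuotientGroup.mk'_surjective Φ x
          show (QuotientGroup.mk ((a * b) • x) : V) = QuotientGroup.mk (a • b • x)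
          rw [mul_smul] }
    obtain ⟨K, hK1, hK2⟩ := CfsgLib.exists_complement_of_exponent hexp (M₁.map (QuotientGroup.mk' Φ))
    obtain ⟨W, hW, hW1, hW2⟩ := CfsgLib.exists_invariant_complement φ
      (hcop.coprime_dvd_right (Subgroup.card_quotient_dvd_card Φ)) (U := M₁.map (QuotientGroup.mk' Φ)) (by
        rintro a _ ⟨x, hx, rfl⟩
        exact ⟨a • x, hM₁.2.1 a x hx, rfl⟩) hK1 hK2
    set W' := W.comap (QuotientGroup.mk' Φ) with hW'
    have hW'top : W' ≠ ⊤ := by
      intro e
      have hWtop : W = ⊤ := by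
        rw [← Subgroup.map_comap_eq_self_of_surjective (QuotientGroup.mk'_surjective Φ) W, ← hW', e,
          Subgroup.map_top_of_surjective _ (QuotientGroup.mk'_surjective Φ)]
      rw [hWtop, inf_top_eq, Subgroup.map_eq_bot_iff, QuotientGroup.ker_mk'] at hW1
      exact hL.not_ge (hLM.trans hW1)
    obtain ⟨M₂, hM₂, hWM⟩ := hexmax W' (fun a x hx => hW a _ hx) hW'top
    obtain ⟨c, -, hc⟩ := hconj M₁ M₂ hM₁ hM₂
    have := hnormal M₁ (hΦle M₁ hM₁)
    rw [Subgroup.Normal.conj_smul_eq_self] at hc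
    subst hc
    apply hM₁.1
    rw [eq_top_iff, ← Subgroup.comap_top (QuotientGroup.mk' Φ), ← hW2]
    intro x hx
    obtain ⟨u, hu, w, hw, hux⟩ := Subgroup.mem_sup.mp (Subgroup.mem_comap.mp hx)
    obtain ⟨m, hm, rfl⟩ := hu
    have h1 : m⁻¹ * x ∈ W' := by
      rw [hW', Subgroup.mem_comap, map_mul, map_inv, ← hux, inv_mul_cancel_left]; exact hw
    simpa using M₂.mul_mem hm (hWM h1)
  · intro h M N hM hN
    refine ⟨1, fun a => smul_one a, ?_⟩
    rw [((hpart2 h) M).mp hM |>.1, ((hpart2 h) N).mp hN |>.1, map_one, one_smul]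

end Cfsg.Agent.S4381
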