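import Cfsg.Statements.S4385
import Cfsg.Agent.Lib.DihedralPair.Finish

set_option autoImplicit false
open Pointwise
open Cfsg

namespace Cfsg.Agent.S4385

/-- Let H be a subgroup of a finite group G whose largest normal 2-subgroup O_2(H) is nontrivial and such that H/O_2(H) is a dihedral group of order at least 4. Let P be a Sylow 2-subgroup of H and S a Sylow 2-subgroup of G containing P. Suppose y ∈ S lies outside P, normalizes P, has y² in the product of P with the centralizer of P in G, and normalizes no non-identity normal subgroup of H contained in P. Then P has order 4, 8 or 16, and H modulo its largest normal subgroup of odd order is isomorphic to the four-group, to the symmetric group of degree 4, or to the direct product of the symmetric group of degree 4 with a group of order 2. -/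
theorem result {G : Type*} [Group G] [Finite G]
    (H : Subgroup G) (hO : Cfsg.pCore 2 ↥H ≠ ⊥) (n : ℕ) (hn : 2 ≤ n) (hdih : Nonempty (↥H ⧸ Cfsg.pCore 2 ↥H ≃* DihedralGroup n))
    (P : Subgroup G) (hPH : P ≤ H) (hP : IsPGroup 2 P) (hPsyl : ¬ 2 ∣ P.relIndex H)
    (S : Sylow 2 G) (hPS : P ≤ (S : Subgroup G)) (y : G) (hyS : y ∈ (S : Subgroup G)) (hyP : y ∉ P)
    (hy2 : y ^ 2 ∈ P ⊔ Subgroup.centralizer (P : Set G)) (hyN : MulAut.conj y • P = P)
    (hyQ : ∀ Q : Subgroup G, Q ≤ P → (Q.subgroupOf H).Normal → MulAut.conj y • Q = Q → Q = ⊥) :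
    (Nat.card P = 4 ∨ Nat.card P = 8 ∨ Nat.card P = 16) ∧
    (Nonempty (↥H ⧸ Cfsg.oddCore ↥H ≃* Multiplicative (ZMod 2) × Multiplicative (ZMod 2)) ∨
     Nonempty (↥H ⧸ Cfsg.oddCore ↥H ≃* Equiv.Perm (Fin 4)) ∨
     Nonempty (↥H ⧸ Cfsg.oddCore ↥H ≃* Equiv.Perm (Fin 4) × Multiplicative (ZMod 2))) := by
  classical
  obtain ⟨eD⟩ := hdih
  haveI : NeZero n := ⟨by omega⟩
  set Qs := Cfsg.pCore 2 ↥H with hQs
  haveI : Fact (Nat.Prime 2) := ⟨Nat.prime_two⟩
  let π : ↥H →* DihedralGroup n := eD.toMonoidHom.comp (QuotientGroup.mk' Qs)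
  have hπ : ∀ x, π x = 1 ↔ x ∈ Qs := fun x => by
    rw [← QuotientGroup.eq_one_iff]
    exact MulEquiv.map_eq_one_iff eD
  have hπs : Function.Surjective π := eD.surjective.comp (QuotientGroup.mk'_surjective Qs)
  have hPs : IsPGroup 2 (P.subgroupOf H) := hP.comap_of_injective H.subtype Subtype.val_injective
  have hQsP : Qs ≤ P.subgroupOf H := by
    have := CfsgLib.pCore_le_sylow (hPs.toSylow hPsyl)
    exact this
  have hodd : Odd n := by
    by_contra hev
    obtain ⟨m, hm⟩ := Nat.not_odd_iff_even.mp hev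
    set z : DihedralGroup n := DihedralGroup.r (m : ZMod n) with hz
    have hmm : (m : ZMod n) + (m : ZMod n) = 0 := by rw [← Nat.cast_add, ← hm, ZMod.natCast_self]
    have hneg : -(m : ZMod n) = (m : ZMod n) := neg_eq_of_add_eq_zero_left hmm
    have hzc : ∀ g, g * z = z * g := by
      rintro (i | i)
      · simp [hz, add_comm]
      · simp [hz, sub_eq_add_neg, hneg]
    have hz2 : z * z = 1 := by rw [hz, DihedralGroup.r_mul_r, hmm]; rfl
    haveI : (Subgroup.zpowers z).Normal := by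
      constructor
      intro x hx g
      obtain ⟨i, rfl⟩ := Subgroup.mem_zpowers_iff.mp hx
      have hc : Commute g z := hzc g
      rw [(hc.zpow_right i).eq, mul_inv_cancel_right]
      exact Subgroup.zpow_mem _ (Subgroup.mem_zpowers z) i
    have hK : IsPGroup 2 ((Subgroup.zpowers z).comap π) := by
      rintro ⟨x, hx⟩
      have h2 : π (x * x) = 1 := by
        obtain ⟨i, hi⟩ := Subgroup.mem_zpowers_iff.mp hx
        rw [map_mul, ← hi, ← (Commute.refl z).mul_zpow, hz2, one_zpow]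
      obtain ⟨k, hk⟩ := CfsgLib.isPGroup_pCore 2 ⟨x * x, (hπ _).mp h2⟩
      refine ⟨k + 1, Subtype.ext ?_⟩
      have := congrArg Subtype.val hk
      simpa [pow_succ', pow_mul, pow_two] using this
    obtain ⟨x, hx⟩ := hπs z
    have h1 : z = 1 := by
      rw [← hx, hπ]
      exact CfsgLib.le_pCore hK (show π x ∈ Subgroup.zpowers z by rw [hx]; exact Subgroup.mem_zpowers z)
    rw [hz, ← DihedralGroup.r_zero] at h1
    have h2 := DihedralGroup.r.inj h1
    rw [ZMod.natCast_eq_zero_iff] at h2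
    have := Nat.le_of_dvd (by omega) h2
    omega
  set M := (P.subgroupOf H).map π with hM
  have hMr : ∀ i, DihedralGroup.r i ∈ M → i = 0 := by
    intro i hi
    obtain ⟨k, hk⟩ := (hPs.map π) ⟨_, hi⟩
    have h1 := congrArg Subtype.val hk
    simp only [SubgroupClass.coe_pow, OneMemClass.coe_one, DihedralGroup.r_pow] at h1
    rw [← DihedralGroup.r_zero] at h1
    have h2 := DihedralGroup.r.inj h1
    have hu : IsUnit ((2 ^ k : ℕ) : ZMod n) :=
      (ZMod.unitOfCoprime _ (Nat.Coprime.pow_left k (Nat.coprime_two_left.mpr hodd))).isUnit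
    exact (IsUnit.mul_left_eq_zero hu).mp h2
  set Q := Qs.map H.subtype with hQ
  have hQmem : ∀ (x : G) (hx : x ∈ H), x ∈ Q ↔ π ⟨x, hx⟩ = 1 := by
    intro x hx
    rw [hπ]
    constructor
    · rintro ⟨y', hy', e⟩
      obtain rfl : y' = ⟨x, hx⟩ := Subtype.ext e
      exact hy'
    · exact fun h => ⟨_, h, rfl⟩
  have hQP : Q ≤ P := by rintro _ ⟨x, hx, rfl⟩; exact hQsP hx
  have hout : ∀ (t : G) (ht : t ∈ P), t ∉ Q → ∃ j, π ⟨t, hPH ht⟩ = DihedralGroup.sr j := by
    intro t ht htQ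
    rw [hQmem t (hPH ht)] at htQ
    have hmem : π ⟨t, hPH ht⟩ ∈ M := Subgroup.mem_map_of_mem π ht
    cases hc : π ⟨t, hPH ht⟩ with
    | r i =>
      rw [hc] at hmem htQ
      exact absurd (by rw [hMr i hmem]; rfl) htQ
    | sr j => exact ⟨j, rfl⟩
  obtain ⟨t0, ht0, ht0Q⟩ : ∃ t ∈ P, t ∉ Q := by
    by_contra hcon; push_neg at hcon
    have hbot : M = ⊥ := by
      rw [hM, eq_bot_iff]
      rintro _ ⟨x, hx, rfl⟩
      exact Subgroup.mem_bot.mpr ((hQmem x.1 x.2).mp (hcon x.1 hx))
    have hdvd := Subgroup.index_map_dvd (P.subgroupOf H) hπs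
    rw [← hM, hbot, Subgroup.index_bot, DihedralGroup.nat_card] at hdvd
    exact hPsyl (dvd_trans (dvd_mul_right 2 n) hdvd)
  obtain ⟨d', hd'⟩ := hπs (DihedralGroup.r 1)
  have hcjN : ∀ h ∈ H, ∀ q ∈ Q, h * q * h⁻¹ ∈ Q := by
    rintro h hh _ ⟨q, hq, rfl⟩
    exact ⟨_, (inferInstance : Qs.Normal).conj_mem q hq ⟨h, hh⟩, rfl⟩
  have D : CfsgLib.DihPair.Setup H Q P (d' : G) y n := {
    odd := hodd
    QP := hQP
    PH := hPH
    Qnormal := hcjN
    outside := ⟨t0, ht0, ht0Q⟩
    Qne := fun h => hO ((Subgroup.map_eq_bot_iff_of_injective _ Subtype.val_injective).mp h)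
    two := fun a ha b hb haQ hbQ => by
      obtain ⟨i, hi⟩ := hout a ha haQ
      obtain ⟨j, hj⟩ := hout b hb hbQ
      rw [hQmem _ (mul_mem (hPH ha) (hPH hb))]
      have hm : π ⟨a * b, mul_mem (hPH ha) (hPH hb)⟩ ∈ M := Subgroup.mem_map_of_mem π (mul_mem ha hb)
      have e : π ⟨a * b, mul_mem (hPH ha) (hPH hb)⟩ = DihedralGroup.r (j - i) := by
        rw [show (⟨a * b, mul_mem (hPH ha) (hPH hb)⟩ : H) = ⟨a, hPH ha⟩ * ⟨b, hPH hb⟩ from rfl, map_mul, hi, hj,
          DihedralGroup.sr_mul_sr]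
      rw [e] at hm ⊢
      rw [hMr _ hm]; rfl
    dH := d'.2
    invert := fun t ht htQ => by
      obtain ⟨j, hj⟩ := hout t ht htQ
      have h : t * (d' : G) * t⁻¹ * d' ∈ H := mul_mem (mul_mem (mul_mem (hPH ht) d'.2) (inv_mem (hPH ht))) d'.2
      rw [hQmem _ h, show (⟨_, h⟩ : H) = ⟨t, hPH ht⟩ * d' * ⟨t, hPH ht⟩⁻¹ * d' from rfl, map_mul, map_mul, map_mul,
        map_inv, hj, hd']
      rw [DihedralGroup.inv_sr, DihedralGroup.sr_mul_r, DihedralGroup.sr_mul_sr, DihedralGroup.r_mul_r]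
      simp
    dn := by
      rw [hQmem _ (H.pow_mem d'.2 n), show (⟨_, H.pow_mem d'.2 n⟩ : H) = d' ^ n from rfl, map_pow, hd',
        DihedralGroup.r_one_pow, ZMod.natCast_self]
      rfl
    gen := by
      intro h hh
      set K := Subgroup.closure ((P : Set G) ∪ {(d' : G)}) with hK
      have hPK : P ≤ K := fun p hp => Subgroup.subset_closure (Or.inl hp)
      have hdK : (d' : G) ∈ K := Subgroup.subset_closure (Or.inr rfl)
      have hker : π.ker ≤ K.subgroupOf H := fun x hx =>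
        hPK (hQsP ((hπ x).mp hx))
      have hr : ∀ i, DihedralGroup.r i ∈ (K.subgroupOf H).map π := fun i => by
        rw [← ZMod.natCast_zmod_val i, ← DihedralGroup.r_one_pow, ← hd']
        exact Subgroup.pow_mem _ (Subgroup.mem_map_of_mem π (Subgroup.mem_subgroupOf.mpr hdK)) _
      have hall : π ⟨h, hh⟩ ∈ (K.subgroupOf H).map π := by
        cases hc : π ⟨h, hh⟩ with
        | r i => exact hr i
        | sr i =>
          obtain ⟨j, hj⟩ := hout t0 ht0 ht0Q
          have := mul_mem (Subgroup.mem_map_of_mem π (show (⟨t0, hPH ht0⟩ : H) ∈ K.subgroupOf H from hPK ht0))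
            (hr (i - j))
          rwa [hj, DihedralGroup.sr_mul_r, add_sub_cancel] at this
      have := Subgroup.comap_map_eq_self hker
      have h2 : (⟨h, hh⟩ : H) ∈ ((K.subgroupOf H).map π).comap π := hall
      rw [this] at h2
      exact h2
    twogroup := hP
    ynorm := fun x hx => by
      have := Subgroup.smul_mem_pointwise_smul x (MulAut.conj y) P hx
      rw [hyN] at this
      simpa using this
    ysq := by
      let T : Subgroup G :=
        { carrier := {g | ∃ p ∈ P, ∃ c : G, (∀ x ∈ P, Commute c x) ∧ g = p * c}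
          one_mem' := ⟨1, one_mem P, 1, fun x _ => Commute.one_left x, (one_mul 1).symm⟩
          mul_mem' := by
            rintro _ _ ⟨p, hp, c, hc, rfl⟩ ⟨p', hp', c', hc', rfl⟩
            exact ⟨p * p', mul_mem hp hp', c * c', fun x hx => (hc x hx).mul_left (hc' x hx),
              (hc p' hp').mul_mul_mul_comm p c'⟩
          inv_mem' := by
            rintro _ ⟨p, hp, c, hc, rfl⟩
            exact ⟨p⁻¹, inv_mem hp, c⁻¹, fun x hx => (hc x hx).inv_left,
              by rw [mul_inv_rev, ((hc p hp).inv_inv).eq]⟩ }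
      have hle : P ⊔ Subgroup.centralizer (P : Set G) ≤ T :=
        sup_le (fun p hp => ⟨p, hp, 1, fun x _ => Commute.one_left x, (mul_one p).symm⟩)
          fun c hc => ⟨1, one_mem P, c, fun x hx => (Subgroup.mem_centralizer_iff.mp hc x hx).symm,
            (one_mul c).symm⟩
      obtain ⟨p, hp, c, hc, e⟩ := hle hy2
      exact ⟨p, hp, c, hc, by rw [← pow_two]; exact e⟩
    core := fun K hK hH hy => hyQ K hK
      ⟨fun k hk h => by simpa [Subgroup.mem_subgroupOf] using hH h h.2 k hk⟩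
      (CfsgLib.DihPair.cj_eq_self hy) }
  haveI : Nontrivial P := by
    rw [Subgroup.nontrivial_iff_ne_bot]
    exact fun h => D.Qne (le_bot_iff.mp (h ▸ hQP))
  by_cases hz : CfsgLib.DihPair.zOne P ≤ Q
  · rcases D.case_small hz with ⟨h, e⟩ | ⟨h, e⟩
    · exact ⟨Or.inr (Or.inl h), Or.inr (Or.inl e)⟩
    · exact ⟨Or.inr (Or.inr h), Or.inr (Or.inr e)⟩
  · obtain ⟨a, ha, haQ⟩ := SetLike.not_le_iff_exists.mp hz
    obtain ⟨h, e⟩ := D.case_central ha haQ
    exact ⟨Or.inl h, Or.inl e⟩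

end Cfsg.Agent.S4385
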