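import Cfsg.Statements.S4387
import Mathlib
-- import your own Cfsg.Agent.* helpers here

set_option autoImplicit false
open Pointwise
open Cfsg

namespace Cfsg.Agent.S4387

open scoped Pointwise

/-- Let G be a non-trivial finite group in which any two maximal subgroups are conjugate. Then G is cyclic of prime-power order. -/
theorem result {G : Type*} [Group G] [Finite G] [Nontrivial G]
    (h : ∀ M N : Subgroup G, IsCoatom M → IsCoatom N → ∃ g : G, N = MulAut.conj g • M) :
    IsCyclic G ∧ IsPrimePow (Nat.card G) := by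
  obtain ⟨M, hM⟩ : ∃ M : Subgroup G, IsCoatom M := by
    rcases IsCoatomic.eq_top_or_exists_le_coatom (⊥ : Subgroup G) with h0 | ⟨M, hM, -⟩
    · exact absurd h0 bot_ne_top
    · exact ⟨M, hM⟩
  have hcyc : IsCyclic G := by
    by_contra hn
    have hcov : ∀ g : G, ∃ a : G ⧸ M, g • a = a := fun g => by
      have hne : Subgroup.zpowers g ≠ ⊤ := fun h0 => hn ⟨⟨g, fun x =>
        Subgroup.mem_zpowers_iff.mp (h0.symm ▸ Subgroup.mem_top x : x ∈ Subgroup.zpowers g)⟩⟩
      obtain ⟨M', hM', hle⟩ := (IsCoatomic.eq_top_or_exists_le_coatom _).resolve_left hne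
      obtain ⟨x, hx⟩ := h M M' hM hM'
      refine ⟨(x : G ⧸ M), ?_⟩
      have hg : g ∈ MulAut.conj x • M := hx ▸ hle (Subgroup.mem_zpowers g)
      rw [Subgroup.mem_pointwise_smul_iff_inv_smul_mem, ← map_inv, MulAut.smul_def, MulAut.conj_apply,
        inv_inv] at hg
      show ((g * x : G) : G ⧸ M) = _
      refine (QuotientGroup.eq.mpr ?_).symm
      rwa [← mul_assoc]
    classical
    have := Fintype.ofFinite G
    have := Fintype.ofFinite (G ⧸ M)
    have hsum := MulAction.sum_card_fixedBy_eq_card_orbits_mul_card_group G (G ⧸ M)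
    have : Subsingleton (Quotient (MulAction.orbitRel G (G ⧸ M))) :=
      (MulAction.pretransitive_iff_subsingleton_quotient G (G ⧸ M)).mp inferInstance
    have : Unique (Quotient (MulAction.orbitRel G (G ⧸ M))) :=
      uniqueOfSubsingleton ⟦(1 : G)⟧
    rw [Fintype.card_unique, one_mul, ← Finset.card_univ, Finset.card_eq_sum_ones] at hsum
    have hlt : ∑ _g : G, 1 < ∑ g : G, Fintype.card (MulAction.fixedBy (G ⧸ M) g) := by
      refine Finset.sum_lt_sum (fun g _ => Fintype.card_pos_iff.mpr ?_) ⟨1, Finset.mem_univ _, ?_⟩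
      · obtain ⟨a, ha⟩ := hcov g
        exact ⟨⟨a, ha⟩⟩
      · have hone : Fintype.card (MulAction.fixedBy (G ⧸ M) (1 : G)) = M.index := by
          rw [← Nat.card_eq_fintype_card]
          exact Nat.card_congr (Equiv.subtypeUnivEquiv fun a => one_smul G a)
        rw [hone]
        have h1 : M.index ≠ 1 := fun h1 => hM.1 (Subgroup.index_eq_one.mp h1)
        have h0 := M.index_ne_zero_of_finite
        omega
    omega
  refine ⟨hcyc, ?_⟩
  let : CommGroup G := hcyc.commGroup
  have huniq : ∀ K : Subgroup G, K ≠ ⊤ → K ≤ M := fun K hK => by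
    obtain ⟨M', hM', hle⟩ := (IsCoatomic.eq_top_or_exists_le_coatom _).resolve_left hK
    obtain ⟨x, hx⟩ := h M M' hM hM'
    refine hle.trans (le_of_eq (hx.trans ?_))
    ext y
    rw [Subgroup.mem_pointwise_smul_iff_inv_smul_mem, ← map_inv, MulAut.smul_def, MulAut.conj_apply,
      mul_comm x⁻¹ y, mul_assoc, mul_inv_cancel, mul_one]
  by_contra hn
  obtain ⟨g, hg⟩ := hcyc.exists_ofOrder_eq_natCard
  set n := Nat.card G with hndef
  have hn1 : n ≠ 1 := (Finite.one_lt_card).ne'
  obtain ⟨p, hp, hpd⟩ := Nat.exists_prime_and_dvd hn1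
  set a := ordProj[p] n
  set b := ordCompl[p] n
  have hab : a * b = n := Nat.ordProj_mul_ordCompl_eq_self n p
  have hk : n.factorization p ≠ 0 := (hp.factorization_pos_of_dvd Nat.card_pos.ne' hpd).ne'
  have ha1 : a ≠ 1 := (Nat.one_lt_pow hk hp.one_lt).ne'
  have hb1 : b ≠ 1 := fun hb => hn ⟨p, n.factorization p, hp.prime, Nat.pos_of_ne_zero hk, by
    have h1 := hab
    rw [hb, mul_one] at h1
    exact h1⟩
  have hpow : ∀ c, c ∣ n → c ≠ 1 → Subgroup.zpowers (g ^ c) ≠ ⊤ := fun c hc hc1 htop => by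
    have h1 := Nat.card_zpowers (g ^ c)
    rw [htop, Subgroup.card_top, orderOf_pow_of_dvd (ne_of_gt (Nat.pos_of_dvd_of_pos hc Nat.card_pos))
      (hg.symm ▸ hc), hg] at h1
    have h2 := Nat.div_mul_cancel hc
    rw [← h1] at h2
    exact hc1 (mul_left_cancel₀ (Nat.card_pos (α := G)).ne' (h2.trans (mul_one _).symm))
  have hA := huniq _ (hpow a (Dvd.intro _ hab) ha1) (Subgroup.mem_zpowers _)
  have hB := huniq _ (hpow b (Dvd.intro_left _ hab) hb1) (Subgroup.mem_zpowers _)
  have hgM : g ∈ M := by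
    have hcop : (a.gcd b) = 1 := (Nat.Coprime.pow_left _ (Nat.coprime_ordCompl hp Nat.card_pos.ne'))
    rw [← pow_one g, ← hcop]
    have hbez : g ^ ((a.gcd b : ℕ) : ℤ) = (g ^ a) ^ (a.gcdA b) * (g ^ b) ^ (a.gcdB b) := by
      rw [Nat.gcd_eq_gcd_ab, zpow_add, zpow_mul, zpow_mul, zpow_natCast, zpow_natCast]
    rw [← zpow_natCast, hbez]
    exact mul_mem (zpow_mem hA _) (zpow_mem hB _)
  refine hM.1 (eq_top_iff.mpr ?_)
  rw [← (Subgroup.eq_top_of_card_eq _ (by rw [Nat.card_zpowers, hg]) : Subgroup.zpowers g = ⊤)]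
  exact Subgroup.zpowers_le.mpr hgM

end Cfsg.Agent.S4387
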