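import Cfsg.Statements.S4394
import Mathlib
import Cfsg.Agent.Lib.PLocal.SchmidtTypePLength
import Cfsg.Agent.Lib.Solvable.Schmidt
import Cfsg.Agent.Lib.PSeries
import Cfsg.Agent.Lib.OddLocal.PLengthOne
-- import your own Cfsg.Agent.* helpers here

set_option autoImplicit false
open Cfsg

namespace Cfsg.Agent.S4394

open Subgroup

/-- The normal Sylow subgroup of a minimal non-nilpotent group, transported. -/
theorem like_of_minimal {X : Type*} [Group X] [Finite X] {Y : Type*} [Group Y] [Finite Y] (p : ℕ) [Fact p.Prime]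
    (hX : Cfsg.IsMinimalNonNilpotent X) (P : Sylow p X) (hPn : (P : Subgroup X).Normal) (hP1 : (P : Subgroup X) ≠ ⊥)
    (e : Y ≃* ↥(P : Subgroup X)) (hnc : ¬ ∀ a b : Y, a * b = b * a) : CfsgLib.SchmidtType.SchmidtLike p Y := by
  classical
  obtain ⟨p', q', hp', hq', hpq, P', Q', g, hP'g, hQ'n, htop, x, hxQ, hxg⟩ := CfsgLib.Schmidt.schmidt_sylows hX
  have := Fact.mk hp'
  have := Fact.mk hq'
  obtain ⟨a, ha⟩ := IsPGroup.iff_card.mp P'.2
  obtain ⟨b, hb⟩ := IsPGroup.iff_card.mp Q'.2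
  obtain ⟨c, hc⟩ := IsPGroup.iff_card.mp P.2
  have hp : p.Prime := Fact.out
  have hc0 : c ≠ 0 := fun h => hP1 (card_eq_one.mp (by rw [hc, h, pow_zero]))
  haveI := hQ'n
  haveI := hPn
  have hXdvd : Nat.card X ∣ p' ^ a * q' ^ b := by
    rw [← card_top (G := X), ← htop, ← ha, ← hb]
    exact CfsgLib.card_sup_dvd_mul _ _
  have hpd : p = p' ∨ p = q' := by
    have h1 : p ∣ p' ^ a * q' ^ b := ((dvd_pow_self p hc0).trans (hc ▸ card_subgroup_dvd_card (P : Subgroup X))).trans hXdvd
    rcases hp.dvd_mul.mp h1 with h | h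
    · exact Or.inl ((Nat.prime_dvd_prime_iff_eq hp hp').mp (hp.dvd_of_dvd_pow h))
    · exact Or.inr ((Nat.prime_dvd_prime_iff_eq hp hq').mp (hp.dvd_of_dvd_pow h))
  have hgP' : g ∈ (P' : Subgroup X) := hP'g ▸ mem_zpowers g
  rcases hpd with rfl | rfl
  · exfalso
    haveI : Subsingleton (Sylow p X) := @Unique.instSubsingleton _ (Sylow.unique_of_normal P hPn)
    have hP'n : (P' : Subgroup X).Normal := by rw [Subsingleton.elim P' P]; exact hPn
    refine hxg ((Subgroup.commute_of_normal_of_disjoint _ _ hP'n hQ'n (disjoint_of_coprime_natCard ?_) g x hgP' hxQ).eq.symm)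
    rw [ha, hb]
    exact ((Nat.coprime_primes hp hq').mpr hpq).pow a b
  haveI : Subsingleton (Sylow p X) := @Unique.instSubsingleton _ (Sylow.unique_of_normal P hPn)
  obtain rfl : Q' = P := Subsingleton.elim _ _
  set N := (Q' : Subgroup X) with hN
  let β : MulAut N := MulAut.conjNormal g
  let α : MulAut Y := e.trans (β.trans e.symm)
  have hα : ∀ y, ((e (α y) : N) : X) = g * (e y : X) * g⁻¹ := fun y => by
    show ((e (e.symm (β (e y))) : N) : X) = _
    rw [e.apply_symm_apply, MulAut.conjNormal_apply]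
  have hcop : ∀ {u v : X}, u ∈ N → v ∈ zpowers g → (orderOf u).Coprime (orderOf v) := by
    intro u v hu hv
    have h1 : orderOf u ∣ p ^ b := hb ▸ Subgroup.orderOf_dvd_natCard N hu
    have h2 : orderOf v ∣ p' ^ a := ha ▸ Subgroup.orderOf_dvd_natCard _ (hP'g ▸ hv)
    exact ((((Nat.coprime_primes hp hp').mpr hpq.symm).pow b a).coprime_dvd_left h1).coprime_dvd_right h2
  have hXcard : Nat.card X = p ^ b * p' ^ a := by
    refine Nat.dvd_antisymm (mul_comm (p' ^ a) _ ▸ hXdvd) ?_
    exact (((Nat.coprime_primes hp hp').mpr hpq.symm).pow b a).mul_dvd_of_dvd_of_dvd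
      (hb ▸ card_subgroup_dvd_card N) (ha ▸ card_subgroup_dvd_card (P' : Subgroup X))
  have hα1 : α ≠ 1 := fun h => hxg (by
    have := hα (e.symm ⟨x, hxQ⟩)
    rw [h, MulAut.one_apply, e.apply_symm_apply, eq_mul_inv_iff_mul_eq] at this
    exact this)
  have ha0 : a ≠ 0 := fun h => hxg (by
    rw [h, pow_zero, card_eq_one] at ha
    rw [ha, mem_bot] at hgP'
    rw [hgP', mul_one, one_mul])
  have hgo : orderOf g = p' ^ a := by rw [← Nat.card_zpowers, ← hP'g, ha]
  have hgen : N ⊔ zpowers g = ⊤ := by rw [sup_comm, ← hP'g]; exact htop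
  -- the power acting trivially
  have hgq : ∀ u ∈ N, u * g ^ p' = g ^ p' * u := by
    intro u hu
    set H := zpowers (g ^ p') ⊔ N
    have hne : H ≠ ⊤ := fun h => by
      have h1 := CfsgLib.card_sup_dvd_mul (zpowers (g ^ p')) N
      rw [show zpowers (g ^ p') ⊔ N = ⊤ from h, card_top, hb, Nat.card_zpowers, hXcard,
        orderOf_pow' g hp'.ne_zero, hgo, Nat.gcd_eq_right (dvd_pow_self p' ha0), mul_comm] at h1
      have h2 := Nat.le_of_dvd (Nat.mul_pos (Nat.div_pos (Nat.le_self_pow ha0 p') hp'.pos) (pow_pos hp.pos b)) h1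
      exact absurd (Nat.le_of_mul_le_mul_right h2 (pow_pos hp.pos b))
        (not_le.mpr (Nat.div_lt_self (pow_pos hp'.pos a) hp'.one_lt))
    exact CfsgLib.Schmidt.nilpotent_commute (hX.2 H hne) (mem_sup_right hu) (mem_sup_left (mem_zpowers _))
      (hcop hu (pow_mem (mem_zpowers g) p'))
  refine CfsgLib.SchmidtType.schmidtLike_of_aut (Q'.2.of_equiv e.symm) hnc α hp' hpq ?_ hα1 ?_
  · refine MulEquiv.ext fun y => ?_
    have hn : ∀ n : ℕ, ((e ((α ^ n) y) : N) : X) = g ^ n * (e y : X) * (g ^ n)⁻¹ := by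
      intro n
      induction n with
      | zero => simp
      | succ n ih => rw [pow_succ' α, MulAut.mul_apply, hα, ih, pow_succ' g]; group
    refine e.injective (Subtype.ext ?_)
    rw [hn, MulAut.one_apply, ← hgq _ (e y).2, mul_inv_cancel_right]
  · intro H hH hinv h hh
    set H' := (H.map e.toMonoidHom).map N.subtype with hH'
    have hmap : H'.map (MulAut.conj g).toMonoidHom = H' := by
      refine eq_of_le_of_card_ge ?_ (card_map_of_injective (MulAut.conj g).injective).ge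
      rintro _ ⟨_, ⟨_, ⟨y, hy, rfl⟩, rfl⟩, rfl⟩
      exact ⟨e (α y), ⟨α y, hinv y hy, rfl⟩, hα y⟩
    have hgN : g ∈ normalizer (H' : Set X) := by
      rw [Subgroup.mem_normalizer_iff]
      intro t
      refine ⟨fun ht => hmap ▸ mem_map_of_mem (MulAut.conj g).toMonoidHom ht, fun ht => ?_⟩
      rw [← hmap] at ht
      obtain ⟨s, hs, e'⟩ := ht
      exact (MulAut.conj g).injective e' ▸ hs
    set K := H' ⊔ zpowers g
    have hKne : K ≠ ⊤ := fun h => hH (eq_top_iff.mpr fun y _ => by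
      obtain ⟨w, hw, v, hv, hwv⟩ := CfsgLib.mem_sup_of_le_normalizer (zpowers_le.mpr hgN) (h ▸ mem_top ((e y : N) : X))
      have hwN : w ∈ N := map_subtype_le _ hw
      have hvN : v ∈ N := by
        have := mul_mem (inv_mem hwN) (hwv ▸ (e y).2)
        rwa [inv_mul_cancel_left] at this
      have hv1 : v = 1 := orderOf_eq_one_iff.mp ((Nat.coprime_self _).mp (hcop hvN hv))
      rw [hv1, mul_one] at hwv
      obtain ⟨_, ⟨y', hy', rfl⟩, hw'⟩ := hw
      have : e y' = e y := Subtype.ext (hw'.trans hwv)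
      exact e.injective this ▸ hy')
    have hmem : ((e h : N) : X) ∈ H' := ⟨e h, ⟨h, hh, rfl⟩, rfl⟩
    have hcg := CfsgLib.Schmidt.nilpotent_commute (hX.2 K hKne) (mem_sup_left hmem) (mem_sup_right (mem_zpowers g))
      (hcop (e h).2 (mem_zpowers g))
    exact e.injective (Subtype.ext (by rw [hα, ← hcg, mul_inv_cancel_right]))

/-- Let X be a finite minimal non-nilpotent group (not nilpotent, every proper subgroup nilpotent) with a nontrivial normal Sylow p-subgroup P. If G is a finite p-solvable group whose Sylow p-subgroups are isomorphic to P, then G has p-length at most 1. -/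
theorem result {G X : Type*} [Group G] [Finite G] [Group X] [Finite X] (p : ℕ) [Fact p.Prime]
    (hX : Cfsg.IsMinimalNonNilpotent X) (P : Sylow p X) (hPn : (P : Subgroup X).Normal) (hP1 : (P : Subgroup X) ≠ ⊥)
    (hG : Cfsg.IsPSolvable p G) (Q : Sylow p G) (hQ : Nonempty (↥(Q : Subgroup G) ≃* ↥(P : Subgroup X))) : Cfsg.PLengthLE p 1 G := by
  classical
  obtain ⟨e⟩ := hQ
  set M := Cfsg.pPrimeCore p G with hM
  set π := QuotientGroup.mk' M with hπ
  have hπs : Function.Surjective π := QuotientGroup.mk'_surjective M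
  refine CfsgLib.PSeries.pLengthLE_of_pPrime_kernel π
    (by rw [hπ, QuotientGroup.ker_mk']; exact CfsgLib.card_pPrimeCore_coprime p) ?_
  set S : Sylow p (G ⧸ M) := Q.mapSurjective hπs with hS
  have hsol := CfsgLib.PSolvableClosure.of_surjective π hπs hG
  have hO : Cfsg.pPrimeCore p (G ⧸ M) = ⊥ := CfsgLib.pPrimeCore_quotient_eq_bot p
  have hinj : Function.Injective (π.subgroupMap (Q : Subgroup G)) := by
    rw [← MonoidHom.ker_eq_bot_iff, eq_bot_iff]
    intro a ha
    have h1 : (a : G) ∈ M := (QuotientGroup.eq_one_iff _).mp (congrArg Subtype.val ha)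
    exact Subtype.ext (Subgroup.disjoint_def.mp (CfsgLib.PLengthOne.disjoint_core Q.2) a.2 h1)
  have eS : ↥(S : Subgroup (G ⧸ M)) ≃* ↥(P : Subgroup X) :=
    ((MulEquiv.ofBijective _ ⟨hinj, π.subgroupMap_surjective _⟩).symm.trans e)
  have hle : (S : Subgroup (G ⧸ M)) ≤ Cfsg.pCore p (G ⧸ M) := by
    by_cases hnc : ∀ a b : ↥(S : Subgroup (G ⧸ M)), a * b = b * a
    · exact fun a ha => CfsgLib.Blocks.hall_higman hsol hO (Subgroup.mem_centralizer_iff.mpr fun t ht =>
        congrArg Subtype.val (hnc ⟨t, CfsgLib.pCore_le_sylow S ht⟩ ⟨a, ha⟩))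
    · exact CfsgLib.SchmidtType.sylow_le_pCore hsol hO S (like_of_minimal p hX P hPn hP1 eS hnc)
  set π₂ := QuotientGroup.mk' (Cfsg.pCore p (G ⧸ M)) with hπ₂
  refine CfsgLib.PSeries.pLengthLE_of_pGroup_kernel (l := 0) π₂
    (by rw [hπ₂, QuotientGroup.ker_mk']; exact CfsgLib.isPGroup_pCore p) ?_
  rw [CfsgLib.PSeries.pLengthLE_zero_iff]
  refine top_le_iff.mp (CfsgLib.le_pPrimeCore ?_)
  rw [Subgroup.card_top, ← Subgroup.index_eq_card, Nat.coprime_comm, (Fact.out : p.Prime).coprime_iff_not_dvd]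
  exact fun h => S.not_dvd_index (h.trans (Subgroup.index_dvd_of_le hle))

end Cfsg.Agent.S4394
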