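import Cfsg.Statements.S4395
import Mathlib
import Cfsg.Agent.Lib.MaxSchmidt.Universal
-- import your own Cfsg.Agent.* helpers here

set_option autoImplicit false
universe u
open Cfsg

namespace Cfsg.Agent.S4395

/-- Let p ≠ q be primes, r ≥ 1, a the multiplicative order of p modulo q, and a₀ = a when a is odd, a₀ = 3a/2 when a is even. Call a finite group minimal non-p-nilpotent when it has no normal p-complement but every proper subgroup has one. Then there is a minimal non-p-nilpotent group G₀ of order p^a₀ · q^r such that every minimal non-p-nilpotent group of order p^t · q^r (any t) is a quotient of G₀ by a central subgroup. -/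
theorem result (p q r : ℕ) [Fact p.Prime] [Fact q.Prime] (hpq : p ≠ q) (hr : 1 ≤ r) (a a₀ : ℕ)
    (ha : a = orderOf (p : ZMod q)) (ha₀ : a₀ = if a % 2 = 1 then a else 3 * a / 2) :
    ∃ (G₀ : Type u) (_ : Group G₀) (_ : Finite G₀),
      (¬ Cfsg.HasNormalPComplement p G₀ ∧ ∀ K : Subgroup G₀, K ≠ ⊤ → Cfsg.HasNormalPComplement p ↥K) ∧ Nat.card G₀ = p ^ a₀ * q ^ r ∧
      ∀ (X : Type u) [Group X] [Finite X], (¬ Cfsg.HasNormalPComplement p X ∧ ∀ K : Subgroup X, K ≠ ⊤ → Cfsg.HasNormalPComplement p ↥K) →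
        (∃ t : ℕ, Nat.card X = p ^ t * q ^ r) → ∃ φ : G₀ →* X, Function.Surjective φ ∧ φ.ker ≤ Subgroup.center G₀ := by
  classical
  have ha0 : 0 < a := CfsgLib.MaxSchmidt.order_pos hpq ha
  have hF : Nat.card (ULift.{u} (GaloisField p a)) = p ^ a := by
    rw [Nat.card_congr Equiv.ulift, GaloisField.card p a ha0.ne']
  haveI : Finite (ULift.{u} (GaloisField p a)) := Finite.of_equiv _ Equiv.ulift.symm
  haveI : CharP (ULift.{u} (GaloisField p a)) p := charP_of_injective_ringHom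
    (f := (ULift.ringEquiv.symm : GaloisField p a ≃+* ULift.{u} (GaloisField p a)).toRingHom)
    (RingEquiv.injective _) p
  obtain ⟨ζ, hζ⟩ : ∃ ζ : ULift.{u} (GaloisField p a), orderOf ζ = q := by
    haveI := Fintype.ofFinite (ULift.{u} (GaloisField p a))
    have hdvd : q ∣ Nat.card (ULift.{u} (GaloisField p a))ˣ := by
      rw [Nat.card_units, hF, ← ZMod.natCast_eq_zero_iff, Nat.cast_sub (Nat.one_le_pow _ _ (Fact.out : p.Prime).pos),
        Nat.cast_pow, Nat.cast_one, ha, pow_orderOf_eq_one, sub_self]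
    obtain ⟨ζ, hζ⟩ := exists_prime_orderOf_dvd_card' q hdvd
    exact ⟨(ζ : ULift.{u} (GaloisField p a)), by rw [orderOf_units, hζ]⟩
  obtain ⟨P, _, _, ⟨κ⟩⟩ := CfsgLib.MaxSchmidt.exists_kernel hpq ha hF hζ
  have hn : κ.act ^ (q ^ r) = 1 := orderOf_dvd_iff_pow_eq_one.mp
    ((orderOf_dvd_of_pow_eq_one κ.act_pow).trans (dvd_pow_self q (by omega)))
  refine ⟨CfsgLib.MaxSchmidt.Cover κ hn, inferInstance, Finite.of_equiv _ SemidirectProduct.equivProd.symm,
    ⟨CfsgLib.MaxSchmidt.cover_no_complement hζ hpq κ hn, fun K hK => ?_⟩, ?_, ?_⟩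
  · haveI : Finite (CfsgLib.MaxSchmidt.Cover κ hn) := Finite.of_equiv _ SemidirectProduct.equivProd.symm
    exact CfsgLib.hasNormalPComplement_of_isNilpotent
      (CfsgLib.MaxSchmidt.cover_proper_nilpotent hζ ha ha0 hF κ hn K hK)
  · rw [CfsgLib.MaxSchmidt.cover_card, ha₀]
    congr 2
    unfold CfsgLib.MaxSchmidt.extra
    split <;> omega
  · intro X _ _ hX ht
    obtain ⟨t, ht⟩ := ht
    exact CfsgLib.MaxSchmidt.cover_universal hζ hpq ha hF hr κ hn hX.1 hX.2 ht

end Cfsg.Agent.S4395
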