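import Cfsg.Statements.S4396
import Mathlib
import Cfsg.Agent.Lib.FrobAction.Free
-- import your own Cfsg.Agent.* helpers here

set_option autoImplicit false
open Cfsg
open scoped Pointwise

namespace Cfsg.Agent.S4396

/-- Let the finite group A act faithfully and linearly on a finite-dimensional vector space V over a field k, and suppose A is a Frobenius group with nilpotent kernel F (every Frobenius kernel is nilpotent) and complement H such that F fixes no nonzero vector. Then V is free as a module for H: there is a subspace W with V the direct sum of the translates hW, h ∈ H. (No assumption on the characteristic of k.) -/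
theorem result {k V A : Type*} [Field k] [AddCommGroup V] [Module k V] [FiniteDimensional k V] [Group A] [Finite A] [DecidableEq A]
    (ρ : Representation k A V) (hρ : Function.Injective ρ)
    (Fk Hc : Subgroup A) [Fk.Normal] (hHc : Cfsg.IsFrobeniusComplement Hc) (hker : Cfsg.frobeniusKernel Hc = (Fk : Set A)) (hnil : Group.IsNilpotent ↥Fk)
    (hCF : ∀ v : V, (∀ f ∈ Fk, ρ f v = v) → v = 0) :
    ∃ W : Submodule k V, DirectSum.IsInternal (fun h : ↥Hc => W.map (ρ (h : A))) := by
  have hFH : ∀ f ∈ Fk, ∀ h ∈ Hc, h ≠ 1 → Commute h f → f = 1 := by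
    intro f hf h hh hh1 hc
    by_contra hf1
    have hmem : f ∈ Cfsg.frobeniusKernel Hc := hker ▸ hf
    rcases hmem with h1 | h1
    · exact hf1 h1
    have hfH : f ∉ Hc := fun hH => h1 1 (by simpa using hH)
    have h2 : h ∈ Hc ⊓ MulAut.conj f • Hc := by
      refine ⟨hh, Subgroup.mem_pointwise_smul_iff_inv_smul_mem.mpr ?_⟩
      rw [← MulAut.conj.map_inv, MulAut.smul_def, MulAut.conj_apply, inv_inv]
      rw [show f⁻¹ * h * f = h by rw [mul_assoc, hc.eq, inv_mul_cancel_left]]
      exact hh
    rw [hHc.2.2 f hfH, Subgroup.mem_bot] at h2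
    exact hh1 h2
  exact CfsgLib.FrobFree.exists_free ρ Fk Hc hnil hFH hCF

end Cfsg.Agent.S4396
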