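import Cfsg.Statements.S4397
import Mathlib
import Cfsg.Agent.Lib.Elementary
import Cfsg.Agent.Lib.RankFrattini
-- import your own Cfsg.Agent.* helpers here

set_option autoImplicit false
open Cfsg

namespace Cfsg.Agent.S4397

namespace Aux

open scoped commutatorElement

universe u
variable {S : Type u} [Group S] [Finite S]

theorem zpowers_normal_of_gen {x y : S} (hgen : Subgroup.closure {x, y} = ⊤) {c : S}
    (hx : x * c * x⁻¹ ∈ Subgroup.zpowers c) (hy : y * c * y⁻¹ ∈ Subgroup.zpowers c) : (Subgroup.zpowers c).Normal := by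
  have key : ∀ g : S, g * c * g⁻¹ ∈ Subgroup.zpowers c → g ∈ Subgroup.normalizer (Subgroup.zpowers c : Set S) := by
    intro g hg
    have hle : (Subgroup.zpowers c).map (MulAut.conj g).toMonoidHom ≤ Subgroup.zpowers c := by
      rw [MonoidHom.map_zpowers]
      exact Subgroup.zpowers_le.mpr hg
    have heq : (Subgroup.zpowers c).map (MulAut.conj g).toMonoidHom = Subgroup.zpowers c :=
      Subgroup.eq_of_le_of_card_ge hle (le_of_eq (Nat.card_congr ((Subgroup.zpowers c).equivMapOfInjective _ (MulAut.conj g).injective).toEquiv))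
    refine Subgroup.mem_normalizer_iff.mpr fun w => ⟨fun hw => heq ▸ ⟨w, hw, rfl⟩, fun hw => ?_⟩
    rw [← heq] at hw
    obtain ⟨w', hw', e⟩ := hw
    have : w' = w := (MulAut.conj g).injective e
    exact this ▸ hw'
  refine Subgroup.normalizer_eq_top_iff.mp (eq_top_iff.mpr ?_)
  rw [← hgen, Subgroup.closure_le]
  rintro g (rfl | rfl)
  exacts [key _ hx, key _ hy]

theorem meta_of_gen {x y : S} (hgen : Subgroup.closure {x, y} = ⊤) (hy : y * x * y⁻¹ ∈ Subgroup.zpowers x) :
    Cfsg.IsMetacyclic S := by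
  haveI hn := zpowers_normal_of_gen hgen (c := x) (by simp) hy
  refine ⟨Subgroup.zpowers x, hn, Subgroup.isCyclic_zpowers x, isCyclic_iff_exists_zpowers_eq_top.mpr
    ⟨QuotientGroup.mk' _ y, ?_⟩⟩
  rw [eq_top_iff, ← MonoidHom.range_eq_top.mpr (QuotientGroup.mk'_surjective (Subgroup.zpowers x)),
    MonoidHom.range_eq_map, ← hgen, MonoidHom.map_closure, Subgroup.closure_le]
  rintro _ ⟨g, rfl | rfl, rfl⟩
  · rw [show QuotientGroup.mk' (Subgroup.zpowers g) g = 1 from (QuotientGroup.eq_one_iff g).mpr (Subgroup.mem_zpowers g)]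
    exact one_mem _
  · exact Subgroup.mem_zpowers _

theorem mem_of_odd_zpow (hS : IsPGroup 2 S) {H : Subgroup S} {g : S} {l : ℤ} (hl : Odd l) (h : g ^ l ∈ H) : g ∈ H := by
  obtain ⟨k, hk⟩ := IsPGroup.iff_orderOf.mp hS g
  have hc : IsCoprime l ((2 : ℤ) ^ k) := by
    refine IsCoprime.pow_right ?_
    obtain ⟨t, ht⟩ := hl
    exact ⟨1, -t, by rw [ht]; ring⟩
  obtain ⟨u, v, huv⟩ := hc
  have h1 : g ^ ((2 : ℤ) ^ k) = 1 := by
    rw [show ((2 : ℤ) ^ k) = ((2 ^ k : ℕ) : ℤ) by push_cast; ring, zpow_natCast, ← hk, pow_orderOf_eq_one]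
  have e : g = (g ^ l) ^ u := by
    calc g = g ^ (u * l + v * 2 ^ k) := by rw [huv, zpow_one]
      _ = (g ^ l) ^ u := by rw [zpow_add, mul_comm u, zpow_mul, mul_comm v, zpow_mul, h1, one_zpow, mul_one]
  rw [e]
  exact zpow_mem h u

theorem closure_pair_eq_top {a b x y : S} (hgen : Subgroup.closure {a, b} = ⊤) (ha : a ∈ Subgroup.closure {x, y})
    (hb : b ∈ Subgroup.closure {x, y}) : Subgroup.closure {x, y} = ⊤ := by
  rw [eq_top_iff, ← hgen, Subgroup.closure_le]
  rintro g (rfl | rfl)
  exacts [ha, hb]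

/-- The case of a generating involution. -/
theorem fin_case (hr : Cfsg.SectionalPRankLE 2 2 S) {x g z : S} (hgen : Subgroup.closure {x, g} = ⊤)
    (hg : g * g = 1) (hz : z * z = 1) (hzc : ∀ w, Commute w z) (hxg : g * x * g⁻¹ = x * z) (hz1 : z ≠ 1)
    (hS : IsPGroup 2 S) : Cfsg.IsMetacyclic S := by
  by_cases hzx : z ∈ Subgroup.zpowers x
  · exact meta_of_gen hgen (hxg ▸ mul_mem (Subgroup.mem_zpowers x) hzx)
  obtain ⟨n, hn⟩ := IsPGroup.iff_orderOf.mp hS x
  have hgi : g⁻¹ = g := inv_eq_of_mul_eq_one_right hg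
  have hgx : g * x = x * z * g := by rw [← hxg]; group
  by_cases hx2 : x * x = 1
  · have hh : x * g * (x * g) = z := by
      calc x * g * (x * g) = x * (g * x) * g := by group
        _ = x * x * z * (g * g) := by rw [hgx]; group
        _ = z := by rw [hx2, hg, one_mul, mul_one]
    refine meta_of_gen (x := x * g) (y := g) (closure_pair_eq_top hgen ?_ ?_) ?_
    · have := mul_mem (Subgroup.subset_closure (show x * g ∈ ({x * g, g} : Set S) from Or.inl rfl))
        (Subgroup.subset_closure (show g ∈ ({x * g, g} : Set S) from Or.inr rfl))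
      rwa [mul_assoc, hg, mul_one] at this
    · exact Subgroup.subset_closure (Or.inr rfl)
    · rw [show g * (x * g) * g⁻¹ = x * z * g by rw [← hgx]; group, mul_assoc, ← (hzc g).eq, ← mul_assoc]
      exact mul_mem (Subgroup.mem_zpowers _) (hh ▸ mul_mem (Subgroup.mem_zpowers _) (Subgroup.mem_zpowers _))
  · exfalso
    obtain ⟨m, rfl⟩ : ∃ m, n = m + 2 := by
      match n, hn with
      | 0, hn => exact absurd (show x * x = 1 by rw [orderOf_eq_one_iff.mp (by simpa using hn : orderOf x = 1), one_mul]) hx2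
      | 1, hn => exact absurd (show x * x = 1 by rw [← pow_two, show 2 = orderOf x by rw [hn]; rfl, pow_orderOf_eq_one]) hx2
      | m + 2, _ => exact ⟨m, rfl⟩
    set y := x ^ 2 ^ (m + 1) with hy
    have hy1 : y ≠ 1 := by
      intro e
      have h1 := Nat.le_of_dvd (by positivity) (orderOf_dvd_of_pow_eq_one e)
      rw [hn, pow_succ _ (m + 1)] at h1
      have : 0 < 2 ^ (m + 1) := by positivity
      omega
    have hy2 : y * y = 1 := by rw [hy, ← pow_add, ← two_mul, ← pow_succ', ← hn, pow_orderOf_eq_one]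
    have hgy : Commute g y := by
      have h2 : g * y * g⁻¹ = y := by
        rw [hy, ← MulAut.conj_apply, map_pow, MulAut.conj_apply, hxg, (hzc x).mul_pow,
          show z ^ 2 ^ (m + 1) = 1 by rw [pow_succ', pow_mul, pow_two, hz, one_pow], mul_one]
      exact mul_inv_eq_iff_eq_mul.mp h2
    let E : Subgroup S := Subgroup.closure {y, z, g}
    have hgens : ∀ a ∈ ({y, z, g} : Set S), a * a = 1 ∧ ∀ b ∈ ({y, z, g} : Set S), a * b = b * a := by
      rintro a (rfl | rfl | rfl) <;> refine ⟨by assumption, ?_⟩ <;> rintro b (rfl | rfl | rfl) <;>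
        first | rfl | exact (hzc _).eq | exact (hzc _).eq.symm | exact hgy.eq | exact hgy.eq.symm
    have hEc : IsMulCommutative E := Subgroup.isMulCommutative_closure fun a ha b hb => (hgens a ha).2 b hb
    have hEexp : ∀ a ∈ E, a * a = 1 := by
      intro a ha
      induction ha using Subgroup.closure_induction with
      | mem a ha => exact (hgens a ha).1
      | one => exact one_mul 1
      | mul a b ha hb e1 e2 =>
        have : Commute a b := congrArg Subtype.val (hEc.is_comm.comm ⟨a, ha⟩ ⟨b, hb⟩)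
        rw [this.symm.mul_mul_mul_comm, e1, e2, one_mul]
      | inv a _ e1 => rw [← mul_inv_rev, e1, inv_one]
    let π := QuotientGroup.mk' (⊥ : Subgroup E)
    let f : Bool × Bool × Bool → S := fun t => (bif t.1 then y else 1) * ((bif t.2.1 then z else 1) * (bif t.2.2 then g else 1))
    have hf : ∀ t, f t ∈ E := by
      rintro ⟨a, b, c⟩
      refine mul_mem ?_ (mul_mem ?_ ?_)
      · cases a; exacts [one_mem E, Subgroup.subset_closure (Or.inl rfl)]
      · cases b; exacts [one_mem E, Subgroup.subset_closure (Or.inr (Or.inl rfl))]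
      · cases c; exacts [one_mem E, Subgroup.subset_closure (Or.inr (Or.inr rfl))]
    have hyz : ∀ a b : Bool, (bif a then y else 1) * (bif b then z else 1) = 1 → a = false ∧ b = false := by
      intro a b e
      cases a <;> cases b <;> simp at e ⊢
      · exact hz1 e
      · exact hy1 e
      · exact hzx (by rw [← inv_eq_of_mul_eq_one_right e]; exact inv_mem (pow_mem (Subgroup.mem_zpowers x) _))
    have hxz : x * z ≠ x := fun e => hz1 (mul_eq_left.mp e)
    have hker : ∀ t, f t = 1 → t = (false, false, false) := by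
      rintro ⟨a, b, c⟩ e
      cases c
      · simp only [f, cond_false, mul_one] at e
        obtain ⟨rfl, rfl⟩ := hyz a b e
        rfl
      · exfalso
        simp only [f, cond_true, ← mul_assoc] at e
        have hg' : g = ((bif a then y else 1) * (bif b then z else 1))⁻¹ := eq_inv_of_mul_eq_one_right e
        refine hxz ?_
        have hc1 : Commute g x := by
          rw [hg']
          refine (Commute.mul_left ?_ ?_).inv_left
          · cases a
            exacts [Commute.one_left x, (Commute.refl x).pow_left _]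
          · cases b
            exacts [Commute.one_left x, (hzc x).symm]
        rw [← hxg, hc1.eq, mul_inv_cancel_right]
    have hinj : Function.Injective fun t => π ⟨f t, hf t⟩ := by
      intro t t' e
      have e' : f t = f t' := congrArg Subtype.val ((QuotientGroup.quotientBot (G := E)).symm.injective e)
      obtain ⟨a, b, c⟩ := t
      obtain ⟨a', b', c'⟩ := t'
      have h3 : f (a ^^ a', b ^^ b', c ^^ c') = f (a, b, c) * f (a', b', c') := by
        have m : ∀ (w : S), w * w = 1 → ∀ i j : Bool, (bif i then w else 1) * (bif j then w else 1) = bif (i ^^ j) then w else 1 := by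
          intro w hw i j
          cases i <;> cases j <;> simp [hw]
        have c1 : ∀ (i j : Bool), Commute (bif i then z else 1) (bif j then y else 1) := fun i j => by
          cases i <;> cases j <;> simp [(hzc y).symm]
        have c2 : ∀ (i j : Bool), Commute (bif i then g else 1) (bif j then y else 1) := fun i j => by
          cases i <;> cases j <;> simp [hgy]
        have c3 : ∀ (i j : Bool), Commute (bif i then g else 1) (bif j then z else 1) := fun i j => by
          cases i <;> cases j <;> simp [hzc g]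
        simp only [f]
        rw [((c1 b a').mul_left (c2 c a')).mul_mul_mul_comm, (c3 c b').mul_mul_mul_comm, m y hy2, m z hz, m g hg]
      have h4 := hker (a ^^ a', b ^^ b', c ^^ c') (by rw [h3, e']; exact hEexp _ (hf _))
      revert h4
      cases a <;> cases b <;> cases c <;> cases a' <;> cases b' <;> cases c' <;> decide
    have hle := hr E ⊥ (⊤ : Subgroup (E ⧸ (⊥ : Subgroup E))) ⟨⟨fun a b => by
      obtain ⟨a, ha⟩ := a
      obtain ⟨b, hb⟩ := b
      obtain ⟨a, rfl⟩ := QuotientGroup.mk'_surjective _ a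
      obtain ⟨b, rfl⟩ := QuotientGroup.mk'_surjective _ b
      exact Subtype.ext (by
        show QuotientGroup.mk' (⊥ : Subgroup E) a * QuotientGroup.mk' (⊥ : Subgroup E) b = _
        rw [← map_mul, hEc.is_comm.comm a b, map_mul]; rfl)⟩⟩ (fun a _ => by
      obtain ⟨a, rfl⟩ := QuotientGroup.mk'_surjective _ a
      rw [← map_pow, show a ^ 2 = 1 from Subtype.ext (by rw [SubmonoidClass.coe_pow, pow_two]; exact hEexp _ a.2), map_one])
    have h8 := (Nat.card_le_card_of_injective _ hinj).trans (Subgroup.card_top.symm.trans_le hle)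
    simp at h8

theorem sect_quot {N : Subgroup S} [N.Normal] (hr : Cfsg.SectionalPRankLE 2 2 S) : Cfsg.SectionalPRankLE 2 2 (S ⧸ N) := by
  intro H K _ A hA hA2
  let π := QuotientGroup.mk' N
  let H' := H.comap π
  let ψ : H' →* H ⧸ K := (QuotientGroup.mk' K).comp (π.subgroupComap H)
  have hψ : Function.Surjective ψ := fun q => by
    obtain ⟨⟨h, hh⟩, rfl⟩ := QuotientGroup.mk'_surjective K q
    obtain ⟨g, rfl⟩ := QuotientGroup.mk'_surjective N h
    exact ⟨⟨g, hh⟩, rfl⟩
  let e := QuotientGroup.quotientKerEquivOfSurjective ψ hψ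
  have h1 := hr H' ψ.ker (A.map e.symm.toMonoidHom) ⟨⟨by
      rintro ⟨_, a, ha, rfl⟩ ⟨_, b, hb, rfl⟩
      refine Subtype.ext ?_
      show e.symm a * e.symm b = e.symm b * e.symm a
      rw [← map_mul, ← map_mul, show a * b = b * a from congrArg Subtype.val (hA.is_comm.comm ⟨a, ha⟩ ⟨b, hb⟩)]⟩⟩
    (by rintro _ ⟨a, ha, rfl⟩; rw [← map_pow, hA2 a ha, map_one])
  rwa [← Nat.card_congr (A.equivMapOfInjective _ e.symm.injective).toEquiv] at h1

theorem goal : ∀ (n : ℕ) (S : Type u) [Group S] [Finite S], Nat.card S = n → IsPGroup 2 S →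
    Cfsg.SectionalPRankLE 2 2 S → Cfsg.IsMetacyclic S := by
  intro n
  induction n using Nat.strong_induction_on with
  | _ n IH =>
  intro S _ _ hn hS hr
  haveI : Fact (Nat.Prime 2) := ⟨Nat.prime_two⟩
  classical
  by_cases hab : ∀ a b : S, a * b = b * a
  · -- the abelian case
    have hC : ∃ a b : S, Subgroup.closure {a, b} = ⊤ := by
      let Q := (⊤ : Subgroup S)
      let sq : S →* S := { toFun := fun x => x ^ 2, map_one' := one_pow 2, map_mul' := fun a b => (show Commute a b from hab a b).mul_pow 2 }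
      haveI : sq.range.Normal := ⟨fun w hw g => by rw [hab g w, mul_inv_cancel_right]; exact hw⟩
      let K : Subgroup Q := sq.range.comap Q.subtype
      haveI : K.Normal := ⟨fun w hw g => by
        show g.1 * w.1 * g.1⁻¹ ∈ sq.range
        rw [hab g.1 w.1, mul_inv_cancel_right]; exact hw⟩
      have hle := hr Q K ⊤ ⟨⟨fun a b => by
        obtain ⟨a, ha⟩ := a
        obtain ⟨b, hb⟩ := b
        obtain ⟨a, rfl⟩ := QuotientGroup.mk'_surjective _ a
        obtain ⟨b, rfl⟩ := QuotientGroup.mk'_surjective _ b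
        exact Subtype.ext (by
          show QuotientGroup.mk' K a * QuotientGroup.mk' K b = _
          rw [← map_mul, show a * b = b * a from Subtype.ext (hab a b), map_mul]; rfl)⟩⟩ (fun a _ => by
        obtain ⟨a, rfl⟩ := QuotientGroup.mk'_surjective _ a
        rw [← map_pow]
        exact (QuotientGroup.eq_one_iff _).mpr ⟨a.1, rfl⟩)
      by_contra hno
      push Not at hno
      -- three independent elements
      have h2 : ∀ a b : S, ∃ c : S, c ∉ Subgroup.closure {a, b} ⊔ sq.range := by
        intro a b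
        by_contra hc
        push Not at hc
        refine hno a b (frattini_nongenerating (G := S) (eq_top_iff.mpr fun c _ => ?_))
        have h3 : sq.range ≤ frattini S := by
          rintro _ ⟨w, rfl⟩
          exact CfsgLib.pow_mem_frattini_pGroup hS w
        exact (sup_le_sup (le_refl (Subgroup.closure {a, b})) h3) (hc c)
      obtain ⟨a, ha⟩ := h2 1 1
      obtain ⟨b, hb⟩ := h2 a a
      obtain ⟨c, hc⟩ := h2 a b
      let f : Bool × Bool × Bool → S := fun t => (bif t.1 then a else 1) * ((bif t.2.1 then b else 1) * (bif t.2.2 then c else 1))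
      let π := QuotientGroup.mk' K
      have hinj : Function.Injective fun t => π (⟨f t, trivial⟩ : Q) := by
        intro t t' e
        have e0 : (⟨f t, trivial⟩ : Q)⁻¹ * (⟨f t', trivial⟩ : Q) ∈ K := QuotientGroup.eq.mp e
        have e' : (f t)⁻¹ * f t' ∈ sq.range := e0
        obtain ⟨t1, t2, t3⟩ := t
        obtain ⟨u1, u2, u3⟩ := t'
        have hca : ∀ {v : Bool}, (bif v then a else 1) ∈ Subgroup.closure {a, b} ⊔ sq.range := fun {v} => by
          cases v; exacts [one_mem _, Subgroup.mem_sup_left (Subgroup.subset_closure (Or.inl rfl))]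
        have hcb : ∀ {v : Bool}, (bif v then b else 1) ∈ Subgroup.closure {a, b} ⊔ sq.range := fun {v} => by
          cases v; exacts [one_mem _, Subgroup.mem_sup_left (Subgroup.subset_closure (Or.inr rfl))]
        have hcom : IsMulCommutative S := ⟨⟨hab⟩⟩
        letI : CommGroup S := { (inferInstance : Group S) with mul_comm := hab }
        have e3 : t3 = u3 := by
          by_contra hne
          apply hc
          have e'' : (bif t1 then a else 1)⁻¹ * (bif u1 then a else 1) * ((bif t2 then b else 1)⁻¹ * (bif u2 then b else 1)) *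
              ((bif t3 then c else 1)⁻¹ * (bif u3 then c else 1)) ∈ Subgroup.closure {a, b} ⊔ sq.range := by
            refine (le_sup_right : sq.range ≤ _) ?_
            convert e' using 1
            simp only [f, mul_inv]
            ac_rfl
          have h5 := (Subgroup.mul_mem_cancel_left _ (mul_mem (mul_mem (inv_mem hca) hca) (mul_mem (inv_mem hcb) hcb))).mp e''
          cases t3 <;> cases u3 <;> simp at h5 hne ⊢ <;> exact h5
        subst e3
        have e2 : t2 = u2 := by
          by_contra hne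
          apply hb
          have haa : ∀ {v : Bool}, (bif v then a else 1) ∈ Subgroup.closure {a, a} ⊔ sq.range := fun {v} => by
            cases v; exacts [one_mem _, Subgroup.mem_sup_left (Subgroup.subset_closure (Or.inl rfl))]
          have e'' : (bif t1 then a else 1)⁻¹ * (bif u1 then a else 1) * ((bif t2 then b else 1)⁻¹ * (bif u2 then b else 1))
              ∈ Subgroup.closure {a, a} ⊔ sq.range := by
            refine (le_sup_right : sq.range ≤ _) ?_
            convert e' using 1
            simp only [f]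
            calc _ = (bif t1 then a else 1)⁻¹ * (bif u1 then a else 1) * ((bif t2 then b else 1)⁻¹ * (bif u2 then b else 1)) *
                  ((bif t3 then c else 1)⁻¹ * (bif t3 then c else 1)) := by rw [inv_mul_cancel, mul_one]
              _ = _ := by simp only [mul_inv]; ac_rfl
          have h5 := (Subgroup.mul_mem_cancel_left _ (mul_mem (inv_mem haa) haa)).mp e''
          cases t2 <;> cases u2 <;> simp at h5 hne ⊢ <;> exact h5
        subst e2
        have e1 : t1 = u1 := by
          by_contra hne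
          apply ha
          have e'' : (bif t1 then a else 1)⁻¹ * (bif u1 then a else 1) ∈ Subgroup.closure {1, 1} ⊔ sq.range := by
            refine (le_sup_right : sq.range ≤ _) ?_
            convert e' using 1
            simp only [f]
            calc _ = (bif t1 then a else 1)⁻¹ * (bif u1 then a else 1) * ((bif t2 then b else 1)⁻¹ * (bif t2 then b else 1)) *
                  ((bif t3 then c else 1)⁻¹ * (bif t3 then c else 1)) := by rw [inv_mul_cancel, inv_mul_cancel, mul_one, mul_one]
              _ = _ := by simp only [mul_inv]; ac_rfl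
          cases t1 <;> cases u1 <;> simp at e'' hne ⊢ <;> exact e''
        subst e1
        rfl
      have h8 := (Nat.card_le_card_of_injective _ hinj).trans (Subgroup.card_top.symm.trans_le hle)
      simp at h8
    obtain ⟨a, b, hgen⟩ := hC
    exact meta_of_gen hgen (by rw [hab b a, mul_inv_cancel_right]; exact Subgroup.mem_zpowers a)
  -- a central involution in the derived subgroup
  obtain ⟨z, hz1, hzc, hzD, hz2⟩ : ∃ z : S, z ≠ 1 ∧ (∀ g, Commute g z) ∧ z ∈ commutator S ∧ z * z = 1 := by
    haveI : Nontrivial (commutator S) := by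
      rw [Subgroup.nontrivial_iff_ne_bot]
      intro h0
      exact hab fun a b => commutatorElement_eq_one_iff_mul_comm.mp ((Subgroup.eq_bot_iff_forall _).mp h0 _
        (Subgroup.commutator_mem_commutator (Subgroup.mem_top a) (Subgroup.mem_top b)))
    have hnil : Group.IsNilpotent S := hS.isNilpotent
    have hne : commutator S ⊓ Subgroup.center S ≠ ⊥ :=
      CfsgLib.inf_center_ne_bot_of_nilpotent ((Subgroup.nontrivial_iff_ne_bot _).mp inferInstance)
    haveI : Nontrivial ↥(Subgroup.center S ⊓ commutator S) :=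
      (Subgroup.nontrivial_iff_ne_bot _).mpr (inf_comm (commutator S) _ ▸ hne)
    have h2 : 2 ∣ Nat.card ↥(Subgroup.center S ⊓ commutator S) := by
      obtain ⟨k, hk0, hk⟩ := (hS.to_subgroup (Subgroup.center S ⊓ commutator S)).nontrivial_iff_card.mp inferInstance
      exact hk ▸ dvd_pow_self 2 (by omega)
    obtain ⟨⟨z, hzc, hzD⟩, hzo⟩ := exists_prime_orderOf_dvd_card' 2 h2
    refine ⟨z, fun e => ?_, fun g => Subgroup.mem_center_iff.mp hzc g, hzD, ?_⟩
    · simp [e] at hzo
    · rw [← pow_two, ← hzo]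
      exact congrArg Subtype.val (pow_orderOf_eq_one (⟨z, hzc, hzD⟩ : ↥(Subgroup.center S ⊓ commutator S)))
  haveI hN : (Subgroup.zpowers z).Normal := ⟨fun w hw g => by
    obtain ⟨i, rfl⟩ := Subgroup.mem_zpowers_iff.mp hw
    rw [((hzc g).zpow_right i).eq, mul_inv_cancel_right]; exact zpow_mem (Subgroup.mem_zpowers z) i⟩
  set N := Subgroup.zpowers z with hNdef
  set π := QuotientGroup.mk' N with hπ
  have hzmem : ∀ w ∈ N, w = 1 ∨ w = z := by
    intro w hw
    obtain ⟨i, rfl⟩ := Subgroup.mem_zpowers_iff.mp hw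
    have hz2' : z ^ (2 : ℤ) = 1 := by rw [show (2 : ℤ) = ((2 : ℕ) : ℤ) from rfl, zpow_natCast, pow_two, hz2]
    rw [← Int.emod_add_mul_ediv i 2, zpow_add, zpow_mul, hz2', one_zpow, mul_one]
    rcases Int.emod_two_eq_zero_or_one i with e | e <;> simp [e]
  have hcardQ : Nat.card (S ⧸ N) < n := by
    rw [← hn, Subgroup.card_eq_card_quotient_mul_card_subgroup N]
    have : 1 < Nat.card N := Finite.one_lt_card_iff_nontrivial.mpr ⟨⟨⟨z, Subgroup.mem_zpowers z⟩, 1, fun e => hz1 (congrArg Subtype.val e)⟩⟩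
    exact lt_mul_right Nat.card_pos this
  obtain ⟨A, hAn, hAc, hQc⟩ := IH _ hcardQ (S ⧸ N) rfl (hS.to_quotient N) (sect_quot hr)
  haveI := hAn
  obtain ⟨⟨a', ha'⟩, hagen⟩ := isCyclic_iff_exists_zpowers_eq_top.mp hAc
  obtain ⟨b', hbgen⟩ := isCyclic_iff_exists_zpowers_eq_top.mp hQc
  obtain ⟨a, rfl⟩ := QuotientGroup.mk'_surjective N a'
  obtain ⟨b'', rfl⟩ := QuotientGroup.mk'_surjective A b'
  obtain ⟨b, rfl⟩ := QuotientGroup.mk'_surjective N b''
  have hAeq : ∀ w ∈ A, ∃ i : ℤ, w = π a ^ i := fun w hw => by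
    obtain ⟨i, hi⟩ := (hagen ▸ Subgroup.mem_top (⟨w, hw⟩ : A) : (⟨w, hw⟩ : A) ∈ Subgroup.zpowers _)
    exact ⟨i, congrArg Subtype.val hi.symm⟩
  have hgen : Subgroup.closure {a, b} = ⊤ := by
    refine frattini_nongenerating (eq_top_iff.mpr fun g _ => ?_)
    obtain ⟨j, hj⟩ := (hbgen ▸ Subgroup.mem_top _ : QuotientGroup.mk' A (π g) ∈ Subgroup.zpowers _)
    have h1 : (π b ^ j)⁻¹ * π g ∈ A := QuotientGroup.eq.mp (show ((π b ^ j : S ⧸ N) : (S ⧸ N) ⧸ A) = _ from hj)
    obtain ⟨i, hi⟩ := hAeq _ h1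
    have h2 : (b ^ j * a ^ i)⁻¹ * g ∈ N := by
      refine QuotientGroup.eq.mp ?_
      show π (b ^ j * a ^ i) = π g
      rw [map_mul, map_zpow, map_zpow, ← hi, mul_inv_cancel_left]
    have h3 : N ≤ frattini S := by
      rw [hNdef, Subgroup.zpowers_le]; exact CfsgLib.commutator_le_frattini_pGroup hS hzD
    have h4 : b ^ j * a ^ i ∈ Subgroup.closure {a, b} :=
      mul_mem (zpow_mem (Subgroup.subset_closure (show b ∈ ({a, b} : Set S) from Or.inr rfl)) j)
        (zpow_mem (Subgroup.subset_closure (show a ∈ ({a, b} : Set S) from Or.inl rfl)) i)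
    have h5 := mul_mem (Subgroup.mem_sup_left (T := frattini S) h4) (Subgroup.mem_sup_right (h3 h2))
    rwa [mul_inv_cancel_left] at h5
  obtain ⟨r, hr'⟩ := hAeq _ (hAn.conj_mem _ ha' (π b))
  have hba : b * a * b⁻¹ = a ^ r ∨ b * a * b⁻¹ = a ^ r * z := by
    have h1 : (a ^ r)⁻¹ * (b * a * b⁻¹) ∈ N := by
      refine QuotientGroup.eq.mp ?_
      show π (a ^ r) = π (b * a * b⁻¹)
      rw [map_mul, map_mul, map_inv, map_zpow, hr']
    rcases hzmem _ h1 with e | e
    · left; exact (inv_mul_eq_one.mp e).symm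
    · right; exact inv_mul_eq_iff_eq_mul.mp e
  rcases hba with e | hba
  · exact meta_of_gen hgen (e ▸ zpow_mem (Subgroup.mem_zpowers a) r)
  by_cases hza : z ∈ Subgroup.zpowers a
  · exact meta_of_gen hgen (hba ▸ mul_mem (zpow_mem (Subgroup.mem_zpowers a) r) hza)
  -- the conjugating exponent is odd
  have hrodd : Odd r := by
    rcases Int.even_or_odd r with ⟨t, ht⟩ | h
    · exfalso
      obtain ⟨k, hk⟩ := IsPGroup.iff_orderOf.mp hS a
      match k, hk with
      | 0, hk =>
        have ha1 : a = 1 := orderOf_eq_one_iff.mp (by simpa using hk)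
        rw [ha1] at hba
        simp at hba
        exact hz1 hba.symm
      | 1, hk =>
        have : a ^ r = 1 := by
          rw [ht, ← two_mul, zpow_mul, show (2 : ℤ) = ((2 : ℕ) : ℤ) from rfl, zpow_natCast,
            show 2 = orderOf a by rw [hk]; rfl, pow_orderOf_eq_one, one_zpow]
        rw [this, one_mul, mul_inv_eq_iff_eq_mul, ← (hzc b).eq] at hba
        exact hza (mul_left_cancel hba ▸ Subgroup.mem_zpowers a)
      | m + 2, hk =>
        have h1 : (b * a * b⁻¹) ^ 2 ^ (m + 1) = 1 := by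
          rw [hba, (hzc _).mul_pow, show z ^ 2 ^ (m + 1) = 1 by rw [pow_succ', pow_mul, pow_two, hz2, one_pow],
            mul_one, ← zpow_natCast, ← zpow_mul, ht,
            show (t + t) * ((2 ^ (m + 1) : ℕ) : ℤ) = ((2 ^ (m + 2) : ℕ) : ℤ) * t by push_cast; ring,
            zpow_mul, zpow_natCast, ← hk, pow_orderOf_eq_one, one_zpow]
        rw [conj_pow, conj_eq_one_iff] at h1
        have h2 := Nat.le_of_dvd (by positivity) (orderOf_dvd_of_pow_eq_one h1)
        rw [hk, pow_succ _ (m + 1)] at h2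
        have : 0 < 2 ^ (m + 1) := by positivity
        omega
    · exact h
  -- the commutator
  set c := a ^ (r - 1) * z with hc
  have hzr : z ^ r = z := by
    obtain ⟨t, ht⟩ := hrodd
    rw [ht, zpow_add, zpow_one, zpow_mul, show z ^ (2 : ℤ) = 1 by
      rw [show (2 : ℤ) = ((2 : ℕ) : ℤ) from rfl, zpow_natCast, pow_two, hz2], one_zpow, one_mul]
  have hzrz : z ^ (r - 1) = 1 := by rw [zpow_sub, hzr, zpow_one, mul_inv_cancel]
  have hac : a * c * a⁻¹ = c := by
    rw [mul_inv_eq_iff_eq_mul, hc]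
    exact (((Commute.refl a).zpow_right _).mul_right (hzc a)).eq
  have hbc : b * c * b⁻¹ = c ^ r := by
    calc b * c * b⁻¹ = (b * a * b⁻¹) ^ (r - 1) * z := by
          rw [conj_zpow, hc, mul_assoc, mul_assoc, ← (hzc b⁻¹).eq]; group
      _ = (a ^ (r - 1)) ^ r * z ^ r := by
          rw [hba, (hzc _).mul_zpow, hzrz, mul_one, hzr, ← zpow_mul, ← zpow_mul, mul_comm r]
      _ = c ^ r := by rw [hc, (hzc _).mul_zpow]
  haveI hCn : (Subgroup.zpowers c).Normal :=
    zpowers_normal_of_gen hgen (hac.symm ▸ Subgroup.mem_zpowers c) (hbc ▸ zpow_mem (Subgroup.mem_zpowers c) r)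
  have hzc' : z ∈ Subgroup.zpowers c := by
    set ψ := QuotientGroup.mk' (Subgroup.zpowers c)
    have hbaψ : ψ b * ψ a = ψ a * ψ b := by
      have h1 : b * a * b⁻¹ = a * c := by rw [hba, hc, ← mul_assoc, ← zpow_one_add]; ring_nf
      have h2 := congrArg ψ h1
      rw [map_mul, map_mul, map_inv, map_mul, show ψ c = 1 from (QuotientGroup.eq_one_iff c).mpr (Subgroup.mem_zpowers c),
        mul_one, mul_inv_eq_iff_eq_mul] at h2
      exact h2
    have hcomm : ∀ g h : S, ψ g * ψ h = ψ h * ψ g := by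
      have hcl : IsMulCommutative (Subgroup.closure ({ψ a, ψ b} : Set _)) := Subgroup.isMulCommutative_closure (by
        rintro x (rfl | rfl) y (rfl | rfl)
        exacts [rfl, hbaψ.symm, hbaψ, rfl])
      have hall : ∀ g, ψ g ∈ Subgroup.closure ({ψ a, ψ b} : Set _) := fun g => by
        rw [← Set.image_pair, ← MonoidHom.map_closure, hgen]; exact ⟨g, trivial, rfl⟩
      exact fun g h => congrArg Subtype.val (hcl.is_comm.comm ⟨_, hall g⟩ ⟨_, hall h⟩)
    have hle : commutator S ≤ Subgroup.zpowers c := Subgroup.commutator_le.mpr fun g _ h _ => by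
      rw [← QuotientGroup.eq_one_iff (N := Subgroup.zpowers c)]
      show ψ ⁅g, h⁆ = 1
      rw [map_commutatorElement, commutatorElement_eq_one_iff_mul_comm]
      exact hcomm g h
    exact hle hzD
  have ha1 : a ^ (r - 1) = 1 := by
    obtain ⟨k, hk⟩ := Subgroup.mem_zpowers_iff.mp hzc'
    rw [hc, (hzc _).mul_zpow] at hk
    rcases Int.even_or_odd k with ⟨t, ht⟩ | hkodd
    · exfalso
      rw [ht, ← two_mul, zpow_mul z, show z ^ (2 : ℤ) = 1 by
        rw [show (2 : ℤ) = ((2 : ℕ) : ℤ) from rfl, zpow_natCast, pow_two, hz2], one_zpow, mul_one] at hk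
      exact hza (hk ▸ zpow_mem (zpow_mem (Subgroup.mem_zpowers a) _) _)
    · have hzk : z ^ k = z := by
        obtain ⟨t, ht⟩ := hkodd
        rw [ht, zpow_add, zpow_one, zpow_mul, show z ^ (2 : ℤ) = 1 by
          rw [show (2 : ℤ) = ((2 : ℕ) : ℤ) from rfl, zpow_natCast, pow_two, hz2], one_zpow, one_mul]
      rw [hzk, mul_eq_right] at hk
      exact Subgroup.mem_bot.mp (mem_of_odd_zpow hS (H := ⊥) hkodd (Subgroup.mem_bot.mpr hk))
  have hbaz : b * a * b⁻¹ = a * z := by
    rw [hba]; congr 1
    calc a ^ r = a * a ^ (r - 1) := by rw [← zpow_one_add]; ring_nf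
      _ = a := by rw [ha1, mul_one]
  -- class two
  have hswap : ∀ i j : ℤ, b ^ j * a ^ i = a ^ i * b ^ j * z ^ (i * j) := by
    intro i j
    have h1 : b * a ^ i * b⁻¹ = a ^ i * z ^ i := by rw [← conj_zpow, hbaz, (hzc a).mul_zpow]
    have h2 : a ^ i * b * (a ^ i)⁻¹ = b * z ^ (-i) := by
      have h1' : b * a ^ i = a ^ i * z ^ i * b := by rw [← h1]; group
      rw [mul_inv_eq_iff_eq_mul]
      calc a ^ i * b = a ^ i * z ^ i * b * z ^ (-i) := by
            rw [mul_assoc _ b, ← ((hzc b).zpow_right (-i)).eq.symm, mul_assoc (a ^ i) (z ^ i), ← mul_assoc (z ^ i),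
              ← zpow_add, add_neg_cancel, zpow_zero, one_mul]
        _ = b * a ^ i * z ^ (-i) := by rw [h1']
        _ = _ := by rw [mul_assoc b, ((hzc (a ^ i)).zpow_right (-i)).eq, ← mul_assoc]
    have h3 : a ^ i * b ^ j * (a ^ i)⁻¹ = b ^ j * z ^ (-i * j) := by
      rw [← conj_zpow, h2, (hzc b).zpow_right (-i) |>.mul_zpow, ← zpow_mul]
    rw [mul_inv_eq_iff_eq_mul, mul_assoc, ← ((hzc (a ^ i)).zpow_right _).eq, ← mul_assoc] at h3
    rw [h3, mul_assoc, ← zpow_add, neg_mul, neg_add_cancel, zpow_zero, mul_one]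
  have hz2z : ∀ t : ℤ, z ^ (2 * t) = 1 := fun t => by
    rw [zpow_mul, show z ^ (2 : ℤ) = 1 by
      rw [show (2 : ℤ) = ((2 : ℕ) : ℤ) from rfl, zpow_natCast, pow_two, hz2], one_zpow]
  have hpowmul : ∀ (m l : ℤ), (a ^ m * b ^ l) * (a ^ m * b ^ l) = a ^ (2 * m) * b ^ (2 * l) * z ^ (m * l) := by
    intro m l
    calc (a ^ m * b ^ l) * (a ^ m * b ^ l) = a ^ m * (b ^ l * a ^ m) * b ^ l := by group
      _ = a ^ m * a ^ m * b ^ l * (z ^ (m * l) * b ^ l) := by rw [hswap]; group
      _ = a ^ m * a ^ m * (b ^ l * b ^ l) * z ^ (m * l) := by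
          rw [← ((hzc (b ^ l)).zpow_right (m * l)).eq]; group
      _ = _ := by rw [← zpow_add, ← zpow_add, ← two_mul, ← two_mul]
  -- a relation between the squares
  obtain ⟨m, l, e3, hrel, hne⟩ : ∃ (m l : ℤ) (e3 : Bool), a ^ (2 * m) * b ^ (2 * l) = (bif e3 then z else 1) ∧
      (e3 = false → Odd m ∨ Odd l) := by
    let K : Subgroup S := Subgroup.closure {a ^ (2 : ℤ), b ^ (2 : ℤ), z}
    have hsw : ∀ i j : ℤ, Commute (a ^ (2 * i)) (b ^ j) := fun i j => by
      have := hswap (2 * i) j
      rw [mul_assoc 2, hz2z, mul_one] at this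
      exact this.symm
    have hgensK : ∀ x ∈ ({a ^ (2 : ℤ), b ^ (2 : ℤ), z} : Set S), ∀ y ∈ ({a ^ (2 : ℤ), b ^ (2 : ℤ), z} : Set S), x * y = y * x := by
      have h1 : a ^ (2 : ℤ) * b ^ (2 : ℤ) = b ^ (2 : ℤ) * a ^ (2 : ℤ) := (mul_one (2 : ℤ) ▸ hsw 1 2).eq
      rintro x (rfl | rfl | rfl) y (rfl | rfl | rfl) <;>
        first | rfl | exact h1 | exact h1.symm | exact (hzc _).eq | exact (hzc _).eq.symm
    have hKc : IsMulCommutative K := Subgroup.isMulCommutative_closure hgensK
    letI : CommGroup K := { (inferInstance : Group K) with mul_comm := hKc.is_comm.comm }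
    let M : Subgroup K := (powMonoidHom 2 : K →* K).range
    have hle := hr K M ⊤ ⟨⟨fun x y => by
      obtain ⟨x, hx⟩ := x
      obtain ⟨y, hy⟩ := y
      obtain ⟨x, rfl⟩ := QuotientGroup.mk'_surjective _ x
      obtain ⟨y, rfl⟩ := QuotientGroup.mk'_surjective _ y
      exact Subtype.ext (by
        show QuotientGroup.mk' M x * QuotientGroup.mk' M y = _
        rw [← map_mul, mul_comm x y, map_mul]; rfl)⟩⟩ (fun x _ => by
      obtain ⟨x, rfl⟩ := QuotientGroup.mk'_surjective _ x
      rw [← map_pow]; exact (QuotientGroup.eq_one_iff _).mpr ⟨x, rfl⟩)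
    let A2 : K := ⟨a ^ (2 : ℤ), Subgroup.subset_closure (Or.inl rfl)⟩
    let B2 : K := ⟨b ^ (2 : ℤ), Subgroup.subset_closure (Or.inr (Or.inl rfl))⟩
    let Z2 : K := ⟨z, Subgroup.subset_closure (Or.inr (Or.inr rfl))⟩
    let ι : Bool → ℤ := fun e => bif e then 1 else 0
    let F : Bool × Bool × Bool → K ⧸ M := fun t => QuotientGroup.mk' M (A2 ^ ι t.1 * B2 ^ ι t.2.1 * Z2 ^ ι t.2.2)
    have hnot : ¬ Function.Injective F := fun hinj => by
      have h8 := (Nat.card_le_card_of_injective _ hinj).trans (Subgroup.card_top.symm.trans_le hle)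
      simp at h8
    simp only [Function.Injective, not_forall] at hnot
    obtain ⟨⟨t1, t2, t3⟩, ⟨u1, u2, u3⟩, hFe, hne⟩ := hnot
    obtain ⟨⟨w, hw⟩, hwe⟩ := (QuotientGroup.eq.mp hFe : _ ∈ M)
    have hK : ∀ x : K, ∃ i j k : ℤ, (x : S) = a ^ (2 * i) * b ^ (2 * j) * z ^ k := by
      rintro ⟨x, hx⟩
      induction hx using Subgroup.closure_induction with
      | mem x hx =>
        rcases hx with rfl | rfl | rfl
        exacts [⟨1, 0, 0, by simp⟩, ⟨0, 1, 0, by simp⟩, ⟨0, 0, 1, by simp⟩]
      | one => exact ⟨0, 0, 0, by simp⟩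
      | mul x y _ _ e1 e2 =>
        obtain ⟨i, j, k, e1⟩ := e1
        obtain ⟨i', j', k', e2⟩ := e2
        refine ⟨i + i', j + j', k + k', ?_⟩
        simp only at e1 e2 ⊢
        rw [e1, e2, mul_add, mul_add, zpow_add, zpow_add, zpow_add,
          ((((hzc _).zpow_right k).mul_left ((hzc _).zpow_right k)).symm).mul_mul_mul_comm]
        · congr 1
          exact ((hsw i' (2 * j)).symm).mul_mul_mul_comm _ _
      | inv x _ e1 =>
        obtain ⟨i, j, k, e1⟩ := e1
        refine ⟨-i, -j, -k, ?_⟩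
        simp only at e1 ⊢
        rw [e1, mul_inv_rev, mul_inv_rev, mul_neg, mul_neg, zpow_neg, zpow_neg, zpow_neg,
          ((hsw i (2 * j)).inv_inv).eq, ← (((hzc _).zpow_right k).inv_right).eq]
    obtain ⟨i, j, k, hwk⟩ := hK ⟨w, hw⟩
    have hval : a ^ (2 * (ι u1 - ι t1)) * b ^ (2 * (ι u2 - ι t2)) * z ^ (ι u3 - ι t3) =
        a ^ (2 * (2 * i)) * b ^ (2 * (2 * j)) := by
      have h1 : (⟨w, hw⟩ : K) ^ 2 = A2 ^ (ι u1 - ι t1) * B2 ^ (ι u2 - ι t2) * Z2 ^ (ι u3 - ι t3) := by
        refine hwe.trans ?_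
        simp only [mul_inv_rev, zpow_sub]
        ac_rfl
      have h2 := congrArg Subtype.val h1
      simp only [SubmonoidClass.coe_pow, Subgroup.coe_mul, SubgroupClass.coe_zpow, A2, B2, Z2] at h2 hwk
      rw [← zpow_mul, ← zpow_mul] at h2
      rw [← h2, hwk, pow_two, ((((hzc _).zpow_right k).mul_left ((hzc _).zpow_right k)).symm).mul_mul_mul_comm,
        ((hsw i (2 * j)).symm).mul_mul_mul_comm, ← zpow_add, ← zpow_add, ← zpow_add, ← two_mul, ← two_mul, ← two_mul, hz2z,
        mul_one]
    refine ⟨(ι u1 - ι t1) - 2 * i, (ι u2 - ι t2) - 2 * j, t3 ^^ u3, ?_, fun h3 => ?_⟩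
    · have h4 : z ^ (ι u3 - ι t3) = (bif (t3 ^^ u3) then z else 1)⁻¹ := by
        cases t3 <;> cases u3 <;> simp [ι, inv_eq_of_mul_eq_one_right hz2]
      rw [h4, mul_inv_eq_iff_eq_mul] at hval
      set ε := (bif (t3 ^^ u3) then z else 1)
      have hεc : ∀ g, Commute g ε := fun g => by
        simp only [ε]; cases (t3 ^^ u3) <;> simp [hzc g]
      calc a ^ (2 * (ι u1 - ι t1 - 2 * i)) * b ^ (2 * (ι u2 - ι t2 - 2 * j))
          = (a ^ (2 * (2 * i)))⁻¹ * (a ^ (2 * (ι u1 - ι t1)) * b ^ (2 * (ι u2 - ι t2))) * (b ^ (2 * (2 * j)))⁻¹ := by group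
        _ = b ^ (2 * (2 * j)) * ε * (b ^ (2 * (2 * j)))⁻¹ := by rw [hval]; group
        _ = ε := by rw [(hεc _).eq, mul_inv_cancel_right]
    · have : t3 = u3 := by revert h3; cases t3 <;> cases u3 <;> simp
      subst this
      have h12 : t1 ≠ u1 ∨ t2 ≠ u2 := by
        by_contra hc
        push Not at hc
        exact hne (by rw [hc.1, hc.2])
      rcases h12 with h | h
      · left; cases t1 <;> cases u1 <;> simp [ι, parity_simps] at h ⊢
      · right; cases t2 <;> cases u2 <;> simp [ι, parity_simps] at h ⊢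
  -- the endgame
  have inv_case : ∀ m l : ℤ, (Odd m ∨ Odd l) → (a ^ m * b ^ l) * (a ^ m * b ^ l) = 1 → Cfsg.IsMetacyclic S := by
    intro m l hml hg2
    set g := a ^ m * b ^ l
    by_cases hl : Odd l
    · have hgm : Subgroup.closure {a, g} = ⊤ := closure_pair_eq_top hgen (Subgroup.subset_closure (Or.inl rfl))
        (mem_of_odd_zpow hS hl (by
          have := mul_mem (zpow_mem (Subgroup.subset_closure (show a ∈ ({a, g} : Set S) from Or.inl rfl)) (-m))
            (Subgroup.subset_closure (show g ∈ ({a, g} : Set S) from Or.inr rfl))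
          rwa [zpow_neg, inv_mul_cancel_left] at this))
      refine fin_case hr hgm hg2 hz2 hzc ?_ hz1 hS
      have h1 : b ^ l * a = a * b ^ l * z := by
        have := hswap 1 l
        rw [zpow_one, one_mul] at this
        obtain ⟨t, ht⟩ := hl
        rwa [show z ^ l = z by rw [ht, zpow_add, hz2z, zpow_one, one_mul]] at this
      calc g * a * g⁻¹ = a ^ m * (b ^ l * a) * (b ^ l)⁻¹ * (a ^ m)⁻¹ := by simp only [g]; group
        _ = a ^ m * a * b ^ l * (z * (b ^ l)⁻¹) * (a ^ m)⁻¹ := by rw [h1]; group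
        _ = a ^ m * a * (z * (a ^ m)⁻¹) := by rw [← (hzc (b ^ l)⁻¹).eq]; group
        _ = a * z := by rw [← (hzc (a ^ m)⁻¹).eq]; group
    · have hm : Odd m := hml.resolve_right hl
      have hgm : Subgroup.closure {b, g} = ⊤ := closure_pair_eq_top hgen
        (mem_of_odd_zpow hS hm (by
          have := mul_mem (Subgroup.subset_closure (show g ∈ ({b, g} : Set S) from Or.inr rfl))
            (zpow_mem (Subgroup.subset_closure (show b ∈ ({b, g} : Set S) from Or.inl rfl)) (-l))
          rwa [zpow_neg, mul_inv_cancel_right] at this)) (Subgroup.subset_closure (Or.inl rfl))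
      refine fin_case hr hgm hg2 hz2 hzc ?_ hz1 hS
      have h1 : a ^ m * b = b * a ^ m * z := by
        have := hswap m 1
        rw [zpow_one, mul_one] at this
        obtain ⟨t, ht⟩ := hm
        rw [show z ^ m = z by rw [ht, zpow_add, hz2z, zpow_one, one_mul]] at this
        rw [this, mul_assoc, hz2, mul_one]
      calc g * b * g⁻¹ = a ^ m * b * (a ^ m)⁻¹ := by simp only [g]; group
        _ = b * a ^ m * z * (a ^ m)⁻¹ := by rw [h1]
        _ = b * a ^ m * (z * (a ^ m)⁻¹) := by group
        _ = b * z := by rw [← (hzc (a ^ m)⁻¹).eq]; group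
  have sq_case : ∀ (g : S) (k : ℕ), g ^ k = z → (Subgroup.closure {g, a} = ⊤ ∨ Subgroup.closure {g, b} = ⊤) →
      Cfsg.IsMetacyclic S := by
    intro g k hk hcl
    have hconj : ∀ w : S, ∃ e : ℤ, w * g * w⁻¹ = g * z ^ e := by
      intro w
      have h1 : ∀ y ∈ ({a, b} : Set S), ∀ y' ∈ ({a, b} : Set S), ⁅y, y'⁆ ∈ N := by
        have e1 : ⁅b, a⁆ = z := by rw [commutatorElement_def, hbaz, mul_assoc, ← (hzc a⁻¹).eq, mul_inv_cancel_left]
        have e2 : ⁅a, b⁆ = z := by rw [← commutatorElement_inv, e1, inv_eq_of_mul_eq_one_right hz2]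
        rintro y (rfl | rfl) y' (rfl | rfl) <;> simp [e1, e2, hNdef]
      have hQc : IsMulCommutative (Subgroup.closure (π '' {a, b})) := Subgroup.isMulCommutative_closure (by
        rintro _ ⟨y, hy, rfl⟩ _ ⟨y', hy', rfl⟩
        rw [← commutatorElement_eq_one_iff_mul_comm, ← map_commutatorElement]
        exact (QuotientGroup.eq_one_iff _).mpr (h1 y hy y' hy'))
      have hall : ∀ y, π y ∈ Subgroup.closure (π '' {a, b}) := fun y => by
        rw [← MonoidHom.map_closure, hgen]; exact ⟨y, trivial, rfl⟩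
      have h2 : g⁻¹ * (w * g * w⁻¹) ∈ N := by
        refine QuotientGroup.eq.mp ?_
        show π g = π (w * g * w⁻¹)
        rw [map_mul, map_mul, show π w * π g = π g * π w from congrArg Subtype.val (hQc.is_comm.comm ⟨_, hall w⟩ ⟨_, hall g⟩),
          map_inv, mul_inv_cancel_right]
      obtain ⟨e, he⟩ := Subgroup.mem_zpowers_iff.mp h2
      exact ⟨e, by rw [he, mul_inv_cancel_left]⟩
    have hmem : ∀ w : S, w * g * w⁻¹ ∈ Subgroup.zpowers g := fun w => by
      obtain ⟨e, he⟩ := hconj w
      rw [he, ← hk]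
      exact mul_mem (Subgroup.mem_zpowers g) (zpow_mem (pow_mem (Subgroup.mem_zpowers g) k) e)
    rcases hcl with h | h
    · exact meta_of_gen h (hmem a)
    · exact meta_of_gen h (hmem b)
  have hgcl : ∀ m l : ℤ, (Odd m ∨ Odd l) → Subgroup.closure {a ^ m * b ^ l, a} = ⊤ ∨ Subgroup.closure {a ^ m * b ^ l, b} = ⊤ := by
    intro m l hml
    by_cases hl : Odd l
    · left
      refine closure_pair_eq_top hgen (Subgroup.subset_closure (Or.inr rfl)) (mem_of_odd_zpow hS hl ?_)
      have := mul_mem (zpow_mem (Subgroup.subset_closure (show a ∈ ({a ^ m * b ^ l, a} : Set S) from Or.inr rfl)) (-m))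
        (Subgroup.subset_closure (show a ^ m * b ^ l ∈ ({a ^ m * b ^ l, a} : Set S) from Or.inl rfl))
      rwa [zpow_neg, inv_mul_cancel_left] at this
    · right
      refine closure_pair_eq_top hgen (mem_of_odd_zpow hS (hml.resolve_right hl) ?_) (Subgroup.subset_closure (Or.inr rfl))
      have := mul_mem (Subgroup.subset_closure (show a ^ m * b ^ l ∈ ({a ^ m * b ^ l, b} : Set S) from Or.inl rfl))
        (zpow_mem (Subgroup.subset_closure (show b ∈ ({a ^ m * b ^ l, b} : Set S) from Or.inr rfl)) (-l))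
      rwa [zpow_neg, mul_inv_cancel_right] at this
  cases e3 with
  | false =>
    simp only [cond_false] at hrel
    have hodd := hne rfl
    have hsq := hpowmul m l
    rw [hrel, one_mul] at hsq
    rcases Int.even_or_odd (m * l) with ⟨t, ht⟩ | ⟨t, ht⟩
    · exact inv_case m l hodd (by rw [hsq, ht, ← two_mul, hz2z])
    · exact sq_case _ 2 (by rw [pow_two, hsq, ht, zpow_add, hz2z, zpow_one, one_mul]) (hgcl m l hodd)
  | true =>
    simp only [cond_true] at hrel
    by_cases h00 : m = 0 ∧ l = 0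
    · rw [h00.1, h00.2] at hrel; simp at hrel; exact absurd hrel.symm hz1
    -- extract the common power of two
    have key : ∀ N : ℕ, ∀ m l : ℤ, m.natAbs + l.natAbs ≤ N → ¬ (m = 0 ∧ l = 0) → a ^ (2 * m) * b ^ (2 * l) = z →
        ∃ (m' l' : ℤ) (k : ℕ), (Odd m' ∨ Odd l') ∧ (k = 2 ∧ a ^ (2 * m') * b ^ (2 * l') = z ∨ (a ^ m' * b ^ l') ^ k = z) := by
      intro N
      induction N with
      | zero =>
        intro m l h1 h2 _
        exact absurd ⟨Int.natAbs_eq_zero.mp (by omega), Int.natAbs_eq_zero.mp (by omega)⟩ h2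
      | succ N ih =>
        intro m l h1 h2 h3
        by_cases hodd : Odd m ∨ Odd l
        · exact ⟨m, l, 2, hodd, Or.inl ⟨rfl, h3⟩⟩
        push Not at hodd
        obtain ⟨s, hs⟩ := Int.not_odd_iff_even.mp hodd.1
        obtain ⟨t, ht⟩ := Int.not_odd_iff_even.mp hodd.2
        -- strip all factors of two
        have strip : ∀ M : ℕ, ∀ s t : ℤ, s.natAbs + t.natAbs ≤ M → ¬ (s = 0 ∧ t = 0) → ∀ k : ℕ, 4 ∣ k →
            a ^ ((k : ℤ) * s) * b ^ ((k : ℤ) * t) = z →
            ∃ (m' l' : ℤ) (k' : ℕ), (Odd m' ∨ Odd l') ∧ (a ^ m' * b ^ l') ^ k' = z := by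
          intro M
          induction M with
          | zero => intro s t h1 h2; exact absurd ⟨Int.natAbs_eq_zero.mp (by omega), Int.natAbs_eq_zero.mp (by omega)⟩ h2
          | succ M ihM =>
            intro s t h1 h2 k hk he
            by_cases hodd : Odd s ∨ Odd t
            · refine ⟨s, t, k, hodd, ?_⟩
              obtain ⟨q, rfl⟩ := hk
              have h4 : (a ^ s * b ^ t) ^ (4 * q) = a ^ ((4 * q : ℕ) * s : ℤ) * b ^ ((4 * q : ℕ) * t : ℤ) := by
                have hsq := hpowmul s t
                have h4' : (a ^ s * b ^ t) ^ 4 = a ^ (4 * s) * b ^ (4 * t) := by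
                  calc (a ^ s * b ^ t) ^ 4 = ((a ^ s * b ^ t) * (a ^ s * b ^ t)) * ((a ^ s * b ^ t) * (a ^ s * b ^ t)) := by rw [show (4 : ℕ) = 2 * 2 from rfl, pow_mul, pow_two, pow_two]
                    _ = (a ^ (2 * s) * b ^ (2 * t)) * (a ^ (2 * s) * b ^ (2 * t)) := by
                        rw [hsq, (((hzc _).zpow_right (s * t)).symm).mul_mul_mul_comm, ← zpow_add, ← two_mul (s * t), hz2z, mul_one]
                    _ = _ := by
                        rw [hpowmul, mul_assoc 2 s (2 * t), hz2z, mul_one]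
                        congr 1 <;> ring_nf
                have hc4 : Commute (a ^ (4 * s)) (b ^ (4 * t)) := by
                  have := hswap (4 * s) (4 * t)
                  rw [show 4 * s * (4 * t) = 2 * (8 * s * t) by ring, hz2z, mul_one] at this
                  exact this.symm
                rw [pow_mul, h4', hc4.mul_pow, ← zpow_natCast, ← zpow_natCast, ← zpow_mul, ← zpow_mul]
                congr 1 <;> push_cast <;> ring_nf
              rw [h4]; exact he
            · push Not at hodd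
              obtain ⟨s', hs'⟩ := Int.not_odd_iff_even.mp hodd.1
              obtain ⟨t', ht'⟩ := Int.not_odd_iff_even.mp hodd.2
              refine ihM s' t' (by omega) (by omega) (k * 2) (dvd_mul_of_dvd_left hk 2) ?_
              rw [← he]
              congr 1 <;> congr 1 <;> push_cast <;> subst hs' ht' <;> ring
        obtain ⟨m', l', k', h4, h5⟩ := strip (s.natAbs + t.natAbs) s t le_rfl (by omega) 4 dvd_rfl (by
          rw [← h3]; congr 1 <;> congr 1 <;> push_cast <;> subst hs ht <;> ring)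
        exact ⟨m', l', k', h4, Or.inr h5⟩
    obtain ⟨m', l', k, hodd, hk⟩ := key _ m l le_rfl h00 hrel
    rcases hk with ⟨-, hk⟩ | hk
    · have hsq := hpowmul m' l'
      rw [hk] at hsq
      rcases Int.even_or_odd (m' * l') with ⟨t, ht⟩ | ⟨t, ht⟩
      · exact sq_case _ 2 (by rw [pow_two, hsq, ht, ← two_mul, hz2z, mul_one]) (hgcl m' l' hodd)
      · exact inv_case m' l' hodd (by rw [hsq, ht, zpow_add, hz2z, zpow_one, one_mul, hz2])
    · exact sq_case _ k hk (hgcl m' l' hodd)

end Aux

/-- A finite 2-group of sectional 2-rank at most 2 (every section has no elementary abelian subgroup of order 8) is metacyclic: it has a cyclic normal subgroup with cyclic quotient. -/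
theorem result {S : Type*} [Group S] [Finite S] (h2 : IsPGroup 2 S) (hr : Cfsg.SectionalPRankLE 2 2 S) : Cfsg.IsMetacyclic S := by
  exact Aux.goal _ S rfl h2 hr

end Cfsg.Agent.S4397
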