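import Cfsg.Statements.S4398
import Mathlib
import Cfsg.Agent.S4399
import Cfsg.Agent.S4143
import Cfsg.Agent.Lib.MaximalClass
import Cfsg.Agent.Lib.Coprime
-- import your own Cfsg.Agent.* helpers here

set_option autoImplicit false
open Cfsg

namespace Cfsg.Agent.S4398

namespace Aux

/-- The facts used about a non-abelian group of order `8`. -/
def OK (H : Type*) [Group H] : Prop :=
  ∃ z : H, z ≠ 1 ∧ z * z = 1 ∧ (∀ x, x * x = 1 ∨ x * x = z) ∧ (∀ x y, x * y = y * x ∨ x * y = y * x * z) ∧
    (∀ x, (∀ y, x * y = y * x) → x = 1 ∨ x = z) ∧ (∀ y, z * y = y * z) ∧ ∃ x y : H, x * y ≠ y * x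

theorem ok_dihedral : OK (DihedralGroup 4) :=
  ⟨DihedralGroup.r 2, by decide, by decide, by decide, by decide, by decide, by decide, by decide⟩

theorem ok_quaternion : OK (QuaternionGroup 2) :=
  ⟨QuaternionGroup.a 2, by decide, by decide, by decide, by decide, by decide, by decide, by decide⟩

theorem ok_equiv {H K : Type*} [Group H] [Group K] (e : H ≃* K) (h : OK K) : OK H := by
  obtain ⟨z, h1, h2, h3, h4, h5, h6, x0, y0, h7⟩ := h
  refine ⟨e.symm z, by simpa using h1, ?_, fun x => ?_, fun x y => ?_, fun x hx => ?_, fun y => ?_,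
    e.symm x0, e.symm y0, ?_⟩
  · rw [← map_mul, h2, map_one]
  · rcases h3 (e x) with h | h <;> [left; right] <;> apply e.injective <;> simpa using h
  · rcases h4 (e x) (e y) with h | h <;> [left; right] <;> apply e.injective <;> simpa using h
  · rcases h5 (e x) (fun y => by have := congrArg e (hx (e.symm y)); simpa using this) with h | h <;>
      [left; right] <;> apply e.injective <;> simpa using h
  · apply e.injective; simpa using h6 (e y)
  · rw [← map_mul, ← map_mul]; exact fun he => h7 (e.symm.injective he)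

end Aux

/-- Let S be a finite 2-group of sectional 2-rank at most 2 that contains a subgroup isomorphic to the dihedral group of order 8 or to the quaternion group of order 8. Then S is dihedral of order at least 8, semidihedral of order at least 16 (order 2^(k+4) with an element a of order 2^(k+3) and an involution b with b a b⁻¹ = a^(2^(k+2)−1)), or generalized quaternion of order at least 8. -/
theorem result {S : Type*} [Group S] [Finite S] (h2 : IsPGroup 2 S) (hr : Cfsg.SectionalPRankLE 2 2 S)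
    (hsub : ∃ H : Subgroup S, Nonempty (↥H ≃* DihedralGroup 4) ∨ Nonempty (↥H ≃* QuaternionGroup 2)) :
    ((∃ k : ℕ, Nonempty (S ≃* DihedralGroup (2 ^ (k + 2)))) ∨
      (∃ k : ℕ, Nat.card S = 2 ^ (k + 4) ∧ ∃ a b : S, orderOf a = 2 ^ (k + 3) ∧ orderOf b = 2 ∧ b * a * b⁻¹ = a ^ (2 ^ (k + 2) - 1)) ∨
      (∃ k : ℕ, Nonempty (S ≃* QuaternionGroup (2 ^ (k + 1))))) := by
  classical
  haveI := Fact.mk Nat.prime_two
  obtain ⟨H, hH⟩ := hsub
  have hok : Aux.OK H := by
    rcases hH with ⟨⟨e⟩⟩ | ⟨⟨e⟩⟩
    · exact Aux.ok_equiv e Aux.ok_dihedral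
    · exact Aux.ok_equiv e Aux.ok_quaternion
  have hH8 : Nat.card H = 2 ^ 3 := by
    rcases hH with ⟨⟨e⟩⟩ | ⟨⟨e⟩⟩
    · rw [Nat.card_congr e.toEquiv, DihedralGroup.nat_card]; norm_num
    · rw [Nat.card_congr e.toEquiv, Nat.card_eq_fintype_card, QuaternionGroup.card]; norm_num
  obtain ⟨z, hz1, hz2, hsq, hcomm, hcen, hzc, x0, y0, hne⟩ := hok
  have hHna : ¬ IsMulCommutative H := fun h => hne (h.is_comm.comm x0 y0)
  -- the centralizer of `H` lies in `H`
  have hC : Subgroup.centralizer (H : Set S) ≤ H := by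
    by_contra hcon
    obtain ⟨c0, hc0, hc0H⟩ := SetLike.not_le_iff_exists.mp hcon
    obtain ⟨k, hk⟩ := h2 c0
    have hex : ∃ j, c0 ^ 2 ^ j ∈ H := ⟨k, hk ▸ H.one_mem⟩
    have hj0 : Nat.find hex ≠ 0 := fun h => hc0H (by simpa [h] using Nat.find_spec hex)
    obtain ⟨j, hj⟩ := Nat.exists_eq_succ_of_ne_zero hj0
    set c := c0 ^ 2 ^ j with hc
    have hcH : c ∉ H := Nat.find_min hex (by omega)
    have hc2 : c * c ∈ H := by
      have := Nat.find_spec hex
      rwa [hj, pow_succ, pow_mul, pow_two] at this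
    have hcC : ∀ h ∈ H, c * h = h * c := fun h hh =>
      (Subgroup.mem_centralizer_iff.mp (pow_mem hc0 _) h hh).symm
    set L := H ⊔ Subgroup.zpowers c with hL
    have hHL : H ≤ L := le_sup_left
    have hcL : c ∈ L := Subgroup.mem_sup_right (Subgroup.mem_zpowers c)
    set N : Subgroup L := Subgroup.zpowers (⟨(z : S), hHL z.2⟩ : L) with hN
    have hc2z : c * c = 1 ∨ c * c = z := by
      rcases hcen ⟨c * c, hc2⟩ (fun y => Subtype.ext (by
        change c * c * (y : S) = (y : S) * (c * c)
        rw [mul_assoc, hcC y y.2, ← mul_assoc, hcC y y.2, mul_assoc])) with h | h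
      · exact Or.inl (congrArg Subtype.val h)
      · exact Or.inr (congrArg Subtype.val h)
    have hLc : ∀ l ∈ L, (z : S) * l = l * z := by
      intro l hl
      have : L ≤ Subgroup.centralizer ({(z : S)} : Set S) := by
        refine sup_le (fun h hh => ?_) (Subgroup.zpowers_le.mpr ?_)
        · rw [Subgroup.mem_centralizer_iff]
          simp only [Set.mem_singleton_iff, forall_eq]
          exact congrArg Subtype.val (hzc ⟨h, hh⟩)
        · rw [Subgroup.mem_centralizer_iff]
          simp only [Set.mem_singleton_iff, forall_eq]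
          exact (hcC z z.2).symm
      exact Subgroup.mem_centralizer_iff.mp (this hl) z rfl
    haveI hNn : N.Normal := by
      refine ⟨fun x hx g => ?_⟩
      obtain ⟨i, rfl⟩ := hx
      have hc' : Commute g (⟨(z : S), hHL z.2⟩ : L) := Subtype.ext (hLc g g.2).symm
      rw [(hc'.zpow_right i).eq, mul_inv_cancel_right]
      exact zpow_mem (Subgroup.mem_zpowers _) i
    set π := QuotientGroup.mk' N
    have hzN : π ⟨(z : S), hHL z.2⟩ = 1 := (QuotientGroup.eq_one_iff _).mpr (Subgroup.mem_zpowers _)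
    -- every element is `h` or `h c`
    have hcn : Subgroup.zpowers c ≤ Subgroup.normalizer (H : Set S) := by
      refine Subgroup.zpowers_le.mpr ?_
      rw [Subgroup.mem_normalizer_iff]
      intro h
      refine ⟨fun hh => by rw [hcC h hh, mul_inv_cancel_right]; exact hh, fun hh => ?_⟩
      have h2' := hcC _ hh
      have : c * h * c⁻¹ = h := mul_left_cancel (a := c) (mul_right_cancel (b := c⁻¹) (by
        calc c * (c * h * c⁻¹) * c⁻¹ = (c * h * c⁻¹) * c * c⁻¹ := by rw [h2']
          _ = c * h * c⁻¹ := by group))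
      exact this ▸ hh
    have hdec : ∀ l : L, ∃ h : H, (l : S) = h ∨ (l : S) = h * c := by
      intro l
      obtain ⟨h, hh, y, ⟨i, rfl⟩, e⟩ := CfsgLib.mem_sup_of_le_normalizer hcn l.2
      obtain ⟨m, rfl | rfl⟩ := Int.even_or_odd' i
      · refine ⟨⟨h * (c * c) ^ m, H.mul_mem hh (zpow_mem hc2 m)⟩, Or.inl ?_⟩
        rw [← e]; change h * c ^ (2 * m) = h * (c * c) ^ m
        rw [zpow_mul, zpow_two]
      · refine ⟨⟨h * (c * c) ^ m, H.mul_mem hh (zpow_mem hc2 m)⟩, Or.inr ?_⟩
        rw [← e]; change h * c ^ (2 * m + 1) = h * (c * c) ^ m * c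
        rw [zpow_add_one, zpow_mul, zpow_two, mul_assoc]
    let ι : H →* L := Subgroup.inclusion hHL
    have hHH : ∀ a b : H, π (ι a) * π (ι b) = π (ι b) * π (ι a) := by
      intro a b
      rw [← map_mul, ← map_mul, ← map_mul, ← map_mul]
      rcases hcomm a b with h | h
      · rw [h]
      · rw [h, map_mul, map_mul]
        change _ * π ⟨(z : S), hHL z.2⟩ = _
        rw [hzN, mul_one]
    have hHsq : ∀ a : H, π (ι a) * π (ι a) = 1 := by
      intro a
      rw [← map_mul, ← map_mul]
      rcases hsq a with h | h <;> rw [h]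
      · rw [map_one, map_one]
      · exact hzN
    have hHc : ∀ a : H, π (ι a) * π ⟨c, hcL⟩ = π ⟨c, hcL⟩ * π (ι a) := fun a => by
      rw [← map_mul, ← map_mul]
      exact congrArg π (Subtype.ext (hcC a a.2).symm)
    have hcc : π ⟨c, hcL⟩ * π ⟨c, hcL⟩ = 1 := by
      rw [← map_mul]
      rcases hc2z with h | h
      · rw [show (⟨c, hcL⟩ * ⟨c, hcL⟩ : L) = 1 from Subtype.ext h, map_one]
      · rw [show (⟨c, hcL⟩ * ⟨c, hcL⟩ : L) = ⟨(z : S), hHL z.2⟩ from Subtype.ext h, hzN]
    have himg : ∀ q : L ⧸ N, ∃ a : H, q = π (ι a) ∨ q = π (ι a) * π ⟨c, hcL⟩ := by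
      intro q
      obtain ⟨l, rfl⟩ := QuotientGroup.mk'_surjective N q
      obtain ⟨a, e | e⟩ := hdec l
      · exact ⟨a, Or.inl (congrArg π (Subtype.ext e))⟩
      · exact ⟨a, Or.inr (by rw [← map_mul]; exact congrArg π (Subtype.ext e))⟩
    have hcomm' : ∀ u v : L ⧸ N, u * v = v * u := by
      intro u v
      have hu : ∀ a : H, Commute (π (ι a)) v := fun a => by
        obtain ⟨b, rfl | rfl⟩ := himg v
        · exact hHH a b
        · exact (Commute.mul_right (hHH a b) (hHc a))
      have hcv : Commute (π ⟨c, hcL⟩) v := by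
        obtain ⟨b, rfl | rfl⟩ := himg v
        · exact (hHc b).symm
        · exact Commute.mul_right (hHc b).symm (Commute.refl _)
      obtain ⟨a, rfl | rfl⟩ := himg u
      · exact hu a
      · exact Commute.mul_left (hu a) hcv
    have hexp : ∀ u : L ⧸ N, u ^ 2 = 1 := by
      intro u
      obtain ⟨a, rfl | rfl⟩ := himg u
      · rw [pow_two, hHsq]
      · rw [(show Commute (π (ι a)) (π ⟨c, hcL⟩) from hHc a).mul_pow, pow_two, pow_two, hHsq, hcc, one_mul]
    have hbound := hr L N ⊤ ⟨⟨fun a b => Subtype.ext (hcomm' a b)⟩⟩ (fun a _ => hexp a)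
    rw [Subgroup.card_top] at hbound
    have hNc : Nat.card N = 2 := by
      rw [hN, Nat.card_zpowers]
      refine orderOf_eq_prime (p := 2) (Subtype.ext ?_) (fun h => hz1 (Subtype.ext ?_))
      · simpa [pow_two] using congrArg Subtype.val hz2
      · simpa using congrArg Subtype.val h
    have hLc2 : 16 ≤ Nat.card L := by
      have hne : H ≠ L := fun h => hcH (h ▸ hcL)
      obtain ⟨d, hd⟩ := Subgroup.card_dvd_of_le hHL
      rcases d with _ | _ | d
      · have := Nat.card_pos (α := L); omega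
      · exact absurd (Subgroup.eq_of_le_of_card_ge hHL (by omega)) hne
      · rw [hH8] at hd; omega
    have := Subgroup.card_eq_card_quotient_mul_card_subgroup N
    rw [hNc] at this
    omega
  obtain ⟨n, hn⟩ := IsPGroup.iff_card.mp h2
  have hn3 : 3 ≤ n := by
    have := Subgroup.card_dvd_of_le (le_top : H ≤ ⊤)
    rw [Subgroup.card_top, hH8, hn] at this
    exact (Nat.pow_dvd_pow_iff_le_right (by norm_num)).mp this
  have hcl := Cfsg.Agent.S4143.result n hn H hH8 hHna hC
  have hab : Nat.card (Abelianization S) = 4 := by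
    rw [show Nat.card (Abelianization S) = (commutator S).index from rfl,
      CfsgLib.MaximalClass.index_commutator hn3 hn hcl]
    norm_num
  have hexp : ∀ x : Abelianization S, x ^ 2 = 1 := by
    intro x
    obtain ⟨g, rfl⟩ := QuotientGroup.mk_surjective x
    exact (QuotientGroup.eq_one_iff _).mpr (CfsgLib.MaximalClass.pow_mem_commutator hn3 hn hcl g)
  rcases Cfsg.Agent.S4399.result h2 hab hexp with h4 | h
  · have : 2 ^ 3 ≤ Nat.card S := hn ▸ Nat.pow_le_pow_right (by norm_num) hn3
    omega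
  · exact h

end Cfsg.Agent.S4398
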