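import Cfsg.Statements.S4400
import Mathlib
import Cfsg.Agent.Lib.CentralPairRank
-- import your own Cfsg.Agent.* helpers here

set_option autoImplicit false
open Cfsg

namespace Cfsg.Agent.S4400

/-- Let S be a finite 2-group of sectional 2-rank at most 4, and let P and Q be normal non-abelian subgroups of S whose centres have order 2 and are different. Then P and Q commute elementwise and intersect trivially, and PQ contains its own centralizer in S. -/
theorem result {S : Type*} [Group S] [Finite S] (h2 : IsPGroup 2 S) (hr : Cfsg.SectionalPRankLE 2 4 S)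
    (P Q : Subgroup S) [P.Normal] [Q.Normal] (hP : ¬ IsMulCommutative ↥P) (hQ : ¬ IsMulCommutative ↥Q)
    (hZP : Nat.card ↥(Subgroup.center ↥P) = 2) (hZQ : Nat.card ↥(Subgroup.center ↥Q) = 2)
    (hne : (Subgroup.center ↥P).map P.subtype ≠ (Subgroup.center ↥Q).map Q.subtype) :
    ⁅P, Q⁆ = ⊥ ∧ P ⊓ Q = ⊥ ∧ Subgroup.centralizer ((P ⊔ Q : Subgroup S) : Set S) ≤ P ⊔ Q := by
  obtain ⟨z, hz, hzc⟩ := CfsgLib.CentralPair.exists_zc P hZP
  obtain ⟨z', hz', hzc'⟩ := CfsgLib.CentralPair.exists_zc Q hZQ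
  have hzz : z ≠ z' := fun h => hne (by rw [hzc, hzc', h])
  have hPn : ∀ t ∈ (⊤ : Subgroup S), ∀ x ∈ P, t * x * t⁻¹ ∈ P := fun t _ x hx => Subgroup.Normal.conj_mem inferInstance x hx t
  have hQn : ∀ t ∈ (⊤ : Subgroup S), ∀ x ∈ Q, t * x * t⁻¹ ∈ Q := fun t _ x hx => Subgroup.Normal.conj_mem inferInstance x hx t
  have hint := CfsgLib.CentralPair.inter_bot h2 le_top le_top hPn hQn hz hz' hzz
  refine ⟨?_, hint, fun c hc => ?_⟩
  · rw [Subgroup.commutator_eq_bot_iff_le_centralizer]
    exact fun x hx => Subgroup.mem_centralizer_iff.mpr fun y hy =>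
      (CfsgLib.CentralPair.commute_of_inter_bot le_top le_top hPn hQn hint hx hy).symm
  · exact CfsgLib.CentralPair.centralizer_le h2 hr le_top le_top hPn hQn hz hz' hzz
      (fun h => hP ⟨⟨h⟩⟩) (fun h => hQ ⟨⟨h⟩⟩) (Subgroup.mem_top c)
      (fun x hx => (Subgroup.mem_centralizer_iff.mp hc x (Subgroup.mem_sup_left hx)).symm)
      (fun x hx => (Subgroup.mem_centralizer_iff.mp hc x (Subgroup.mem_sup_right hx)).symm)

end Cfsg.Agent.S4400
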