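import Cfsg.Statements.S4401
import Mathlib
import Cfsg.Agent.Lib.CentralPairRank
import Cfsg.Agent.Lib.Coprime
-- import your own Cfsg.Agent.* helpers here

set_option autoImplicit false
open Cfsg

namespace Cfsg.Agent.S4401

/-- Let S be a finite 2-group of sectional 2-rank at most 4 and P a proper non-abelian subgroup whose centre has order 2. Let S₀ be the centralizer in S of Z(P) and suppose P is normal in S₀. Then either S₀ = S, or P has sectional 2-rank at most 2 and S₀ has index 2 in S. -/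
theorem result {S : Type*} [Group S] [Finite S] (h2 : IsPGroup 2 S) (hr : Cfsg.SectionalPRankLE 2 4 S)
    (P : Subgroup S) (hPlt : P ≠ ⊤) (hP : ¬ IsMulCommutative ↥P) (hZP : Nat.card ↥(Subgroup.center ↥P) = 2)
    (S₀ : Subgroup S) (hS₀ : S₀ = Subgroup.centralizer (((Subgroup.center ↥P).map P.subtype : Subgroup S) : Set S))
    (hPn : ∀ s ∈ S₀, ∀ x ∈ P, s * x * s⁻¹ ∈ P) :
    S₀ = ⊤ ∨ (Cfsg.SectionalPRankLE 2 2 ↥P ∧ S₀.index = 2) := by
  classical
  haveI := Fact.mk Nat.prime_two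
  haveI := h2.isNilpotent
  refine or_iff_not_imp_left.mpr fun hS₀top => ?_
  obtain ⟨z, hz, hzc⟩ := CfsgLib.CentralPair.exists_zc P hZP
  have hmem : ∀ s : S, s ∈ S₀ ↔ s * z * s⁻¹ = z := fun s => by
    rw [hS₀, hzc, Subgroup.centralizer_closure, Subgroup.mem_centralizer_iff]
    simp only [Set.mem_singleton_iff, forall_eq]
    rw [mul_inv_eq_iff_eq_mul]
    exact eq_comm
  have hPS : P ≤ S₀ := fun x hx => (hmem x).mpr (by rw [← hz.2.2.1 x hx, mul_inv_cancel_right])
  set N₁ := Subgroup.normalizer (S₀ : Set S) with hN₁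
  have hN₁mem : ∀ n ∈ N₁, ∀ s, s ∈ S₀ ↔ n * s * n⁻¹ ∈ S₀ := fun n hn => Subgroup.mem_normalizer_iff.mp hn
  obtain ⟨g, hg, hgS₀⟩ := SetLike.exists_of_lt (normalizerCondition_of_isNilpotent (G := S) S₀ (lt_top_iff_ne_top.mpr hS₀top))
  -- conjugates of `P` inside `S₀`
  let Pc : S → Subgroup S := fun n => P.map (MulAut.conj n).toMonoidHom
  have hPcle : ∀ n ∈ N₁, Pc n ≤ S₀ := by
    rintro n hn _ ⟨x, hx, rfl⟩
    exact (hN₁mem n hn x).mp (hPS hx)
  have hPcn : ∀ n ∈ N₁, ∀ t ∈ S₀, ∀ y ∈ Pc n, t * y * t⁻¹ ∈ Pc n := by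
    rintro n hn t ht _ ⟨x, hx, rfl⟩
    have ht' : n⁻¹ * t * n ∈ S₀ := by simpa using (hN₁mem _ (inv_mem hn) t).mp ht
    exact ⟨_, hPn _ ht' x hx, by simp [mul_assoc]⟩
  have hPcz : ∀ n : S, CfsgLib.CentralPair.Zc (Pc n) (n * z * n⁻¹) := by
    intro n
    refine ⟨⟨z, hz.1, rfl⟩, fun h => hz.2.1 (conj_eq_one_iff.mp h), ?_, ?_⟩
    · rintro _ ⟨x, hx, rfl⟩
      change n * z * n⁻¹ * (n * x * n⁻¹) = n * x * n⁻¹ * (n * z * n⁻¹)
      calc n * z * n⁻¹ * (n * x * n⁻¹) = n * (z * x) * n⁻¹ := by group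
        _ = _ := by rw [hz.2.2.1 x hx]; group
    · rintro _ ⟨x, hx, rfl⟩ hc
      rcases hz.2.2.2 x hx (fun y hy => (MulAut.conj n).injective (by
        rw [map_mul, map_mul]; exact hc _ ⟨y, hy, rfl⟩)) with e | e
      · exact Or.inl (by rw [e, map_one])
      · exact Or.inr (by rw [e]; rfl)
  have hPna : ∀ n : S, ¬ ∀ x y : ↥(Pc n), x * y = y * x := fun n h => hP ⟨⟨fun a b => by
    have := congrArg Subtype.val (h ⟨_, a, a.2, rfl⟩ ⟨_, b, b.2, rfl⟩)
    refine Subtype.ext ((MulAut.conj n).injective ?_)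
    rw [Subgroup.coe_mul, Subgroup.coe_mul, map_mul, map_mul]
    exact this⟩⟩
  have hPc1 : Pc 1 = P := by
    refine le_antisymm ?_ (fun x hx => ⟨x, hx, by simp⟩)
    rintro _ ⟨x, hx, rfl⟩; simpa using hx
  have hz1 : (1 : S) * z * (1 : S)⁻¹ = z := by simp
  have hgz : z ≠ g * z * g⁻¹ := fun h => hgS₀ ((hmem g).mpr h.symm)
  have hPz : CfsgLib.CentralPair.Zc P z := hz
  have hrank : Cfsg.SectionalPRankLE 2 2 ↥P :=
    CfsgLib.CentralPair.rank_two h2 hr hPS (hPcle g hg) hPn (hPcn g hg) hz (hPcz g) hgz (hPna g)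
  refine ⟨hrank, ?_⟩
  -- no third conjugate
  have hint := CfsgLib.CentralPair.inter_bot h2 hPS (hPcle g hg) hPn (hPcn g hg) hz (hPcz g) hgz
  have hPP : ∀ x y : ↥P, True := fun _ _ => trivial
  have hPna0 : ¬ ∀ x y : ↥P, x * y = y * x := fun h => hP ⟨⟨h⟩⟩
  have hcD : ∀ c ∈ S₀, (∀ x ∈ P, c * x = x * c) → (∀ y ∈ Pc g, c * y = y * c) → c ∈ P ⊔ Pc g :=
    fun c hc h1 h2' => CfsgLib.CentralPair.centralizer_le h2 hr hPS (hPcle g hg) hPn (hPcn g hg) hz (hPcz g) hgz
      hPna0 (hPna g) hc h1 h2'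
  have hthree : ∀ n ∈ N₁, n * z * n⁻¹ = z ∨ n * z * n⁻¹ = g * z * g⁻¹ := by
    intro n hn
    by_contra hcon
    push Not at hcon
    have h1 := CfsgLib.CentralPair.inter_bot h2 hPS (hPcle n hn) hPn (hPcn n hn) hz (hPcz n) hcon.1.symm
    have h2' := CfsgLib.CentralPair.inter_bot h2 (hPcle g hg) (hPcle n hn) (hPcn g hg) (hPcn n hn) (hPcz g) (hPcz n) hcon.2.symm
    have hcP : ∀ y ∈ Pc n, ∀ x ∈ P, y * x = x * y := fun y hy x hx =>
      (CfsgLib.CentralPair.commute_of_inter_bot hPS (hPcle n hn) hPn (hPcn n hn) h1 hx hy).symm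
    have hcQ : ∀ y ∈ Pc n, ∀ x ∈ Pc g, y * x = x * y := fun y hy x hx =>
      (CfsgLib.CentralPair.commute_of_inter_bot (hPcle g hg) (hPcle n hn) (hPcn g hg) (hPcn n hn) h2' hx hy).symm
    refine hPna n fun a b => Subtype.ext ?_
    have hle : P ⊔ Pc g ≤ Subgroup.centralizer ({(b : S)} : Set S) := by
      refine sup_le (fun x hx => ?_) (fun x hx => ?_)
      · rw [Subgroup.mem_centralizer_iff]; simp only [Set.mem_singleton_iff, forall_eq]; exact hcP _ b.2 x hx
      · rw [Subgroup.mem_centralizer_iff]; simp only [Set.mem_singleton_iff, forall_eq]; exact hcQ _ b.2 x hx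
    exact (Subgroup.mem_centralizer_iff.mp (hle (hcD a (hPcle n hn a.2) (hcP a a.2) (hcQ a a.2))) b rfl).symm
  have hcos : ∀ n ∈ N₁, n ∈ S₀ ∨ g⁻¹ * n ∈ S₀ := by
    intro n hn
    rcases hthree n hn with e | e
    · exact Or.inl ((hmem n).mpr e)
    · refine Or.inr ((hmem _).mpr ?_)
      calc g⁻¹ * n * z * (g⁻¹ * n)⁻¹ = g⁻¹ * (n * z * n⁻¹) * g := by group
        _ = z := by rw [e]; group
  have hN1top : N₁ = ⊤ := by
    by_contra hne
    obtain ⟨h, hh, hhN⟩ := SetLike.exists_of_lt (normalizerCondition_of_isNilpotent (G := S) N₁ (lt_top_iff_ne_top.mpr hne))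
    set t := h * z * h⁻¹ with ht
    have htN : t ∈ N₁ := (Subgroup.mem_normalizer_iff.mp hh z).mp (Subgroup.le_normalizer (hPS hz.1))
    have horb : ∀ x ∈ N₁, x * t * x⁻¹ = t ∨ x * t * x⁻¹ = h * (g * z * g⁻¹) * h⁻¹ := by
      intro x hx
      have hx' : h⁻¹ * x * h ∈ N₁ := by simpa using (Subgroup.mem_normalizer_iff.mp (inv_mem hh) x).mp hx
      have e0 : x * t * x⁻¹ = h * (h⁻¹ * x * h * z * (h⁻¹ * x * h)⁻¹) * h⁻¹ := by rw [ht]; group
      rcases hthree _ hx' with e | e <;> rw [e0, e]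
      · exact Or.inl rfl
      · exact Or.inr rfl
    by_cases htS : t ∈ S₀
    · have htc : ∀ Q : Subgroup S, (∀ s ∈ S₀, ∀ y ∈ Q, s * y * s⁻¹ ∈ Q) → Q ≤ S₀ → ∀ z₀, CfsgLib.CentralPair.Zc Q z₀ →
          (∃ k ∈ N₁, k * z₀ * k⁻¹ ≠ z₀) → ∀ x ∈ Q, t * x = x * t := by
        intro Q hQn hQS z₀ hz₀ ⟨k, hk, hkne⟩ x hx
        have h1 : x * t * x⁻¹ * t⁻¹ ∈ Q := by
          have := Q.mul_mem hx (hQn t htS _ (Q.inv_mem hx))
          simpa [mul_assoc] using this
        rcases horb x (Subgroup.le_normalizer (hQS hx)) with e | e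
        · exact (mul_inv_eq_iff_eq_mul.mp e).symm
        exfalso
        set v := h * (g * z * g⁻¹) * h⁻¹ * t⁻¹ with hv
        have hvQ : v ∈ Q := by rw [e] at h1; exact h1
        -- `v` is fixed by `N₁`
        have hvc : ∀ y ∈ N₁, y * v * y⁻¹ = v := by
          intro y hy
          have hy' : h⁻¹ * y * h ∈ N₁ := by simpa using (Subgroup.mem_normalizer_iff.mp (inv_mem hh) y).mp hy
          have e0 : y * v * y⁻¹ = h * ((h⁻¹ * y * h * g) * z * (h⁻¹ * y * h * g)⁻¹ * ((h⁻¹ * y * h) * z * (h⁻¹ * y * h)⁻¹)⁻¹) * h⁻¹ := by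
            rw [hv, ht]; group
          have hcomm : z * (g * z * g⁻¹) = g * z * g⁻¹ * z :=
            (CfsgLib.CentralPair.commute_of_inter_bot hPS (hPcle g hg) hPn (hPcn g hg) hint hz.1 (hPcz g).1)
          have hz2 : z * z = 1 := by
            rcases hz.2.2.2 (z * z) (P.mul_mem hz.1 hz.1) (fun x hx => by
              rw [mul_assoc, hz.2.2.1 x hx, ← mul_assoc, hz.2.2.1 x hx, mul_assoc]) with e2 | e2
            · exact e2
            · exact absurd (mul_eq_left.mp e2) hz.2.1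
          have hdiff : (h⁻¹ * y * h * g) * z * (h⁻¹ * y * h * g)⁻¹ ≠ (h⁻¹ * y * h) * z * (h⁻¹ * y * h)⁻¹ := by
            intro e3
            refine hgz ?_
            calc z = (h⁻¹ * y * h)⁻¹ * ((h⁻¹ * y * h) * z * (h⁻¹ * y * h)⁻¹) * (h⁻¹ * y * h) := by group
              _ = g * z * g⁻¹ := by rw [← e3]; group
          have hv0 : v = h * (g * z * g⁻¹ * z⁻¹) * h⁻¹ := by rw [hv, ht]; group
          rcases hthree _ (N₁.mul_mem hy' hg) with e1 | e1 <;> rcases hthree _ hy' with e2 | e2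
          · exact absurd (e1.trans e2.symm) hdiff
          · rw [e0, e1, e2, hv0]
            congr 2
            have hzi : z⁻¹ = z := inv_eq_of_mul_eq_one_right hz2
            have hgi : (g * z * g⁻¹)⁻¹ = g * z * g⁻¹ := inv_eq_of_mul_eq_one_right (by
              calc g * z * g⁻¹ * (g * z * g⁻¹) = g * (z * z) * g⁻¹ := by group
                _ = 1 := by rw [hz2]; group)
            rw [hgi, hzi, hcomm]
          · rw [e0, e1, e2, hv0]
          · exact absurd (e1.trans e2.symm) hdiff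
        rcases hz₀.2.2.2 v hvQ (fun y hy => mul_inv_eq_iff_eq_mul.mp (hvc y (Subgroup.le_normalizer (hQS hy))) |>.symm) with e' | e'
        · rw [hv, ht, mul_inv_eq_one] at e'
          exact hgz (mul_left_cancel (mul_right_cancel e')).symm
        · exact hkne (by rw [← e']; exact hvc k hk)
      have htD := hcD t htS (htc P hPn hPS z hz ⟨g, hg, hgz.symm⟩)
        (htc _ (hPcn g hg) (hPcle g hg) _ (hPcz g) ⟨g⁻¹, inv_mem hg, fun e => hgz (by
          calc z = g⁻¹ * (g * z * g⁻¹) * g⁻¹⁻¹ := by group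
            _ = g * z * g⁻¹ := e)⟩)
      -- `t` lies in the centre of the product
      have hnorm : Pc g ≤ Subgroup.normalizer (P : Set S) := fun y hy => by
        refine Subgroup.mem_normalizer_fintype fun x hx => ?_
        exact hPn y (hPcle g hg hy) x hx
      obtain ⟨a, ha, b, hb, hab⟩ := CfsgLib.mem_sup_of_le_normalizer hnorm htD
      have hPQc : ∀ x ∈ P, ∀ y ∈ Pc g, x * y = y * x := fun x hx y hy =>
        CfsgLib.CentralPair.commute_of_inter_bot hPS (hPcle g hg) hPn (hPcn g hg) hint hx hy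
      have htP := htc P hPn hPS z hz ⟨g, hg, hgz.symm⟩
      have htQ := htc _ (hPcn g hg) (hPcle g hg) _ (hPcz g) ⟨g⁻¹, inv_mem hg, fun e => hgz (by
          calc z = g⁻¹ * (g * z * g⁻¹) * g⁻¹⁻¹ := by group
            _ = g * z * g⁻¹ := e)⟩
      have ha' : a = 1 ∨ a = z := hz.2.2.2 a ha fun x hx => by
        have := htP x hx
        rw [← hab, mul_assoc, ← hPQc x hx b hb, ← mul_assoc, ← mul_assoc] at this
        exact mul_right_cancel this
      have hb' : b = 1 ∨ b = g * z * g⁻¹ := (hPcz g).2.2.2 b hb fun y hy => by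
        have := htQ y hy
        rw [← hab, ← mul_assoc, ← hPQc a ha y hy, mul_assoc, mul_assoc] at this
        exact mul_left_cancel this
      have ht1 : t ≠ 1 := fun e => hz.2.1 (conj_eq_one_iff.mp e)
      have htz : t ≠ z := fun e => hhN (Subgroup.le_normalizer ((hmem h).mpr e))
      have htg : t ≠ g * z * g⁻¹ := by
        intro e
        have : g⁻¹ * h ∈ S₀ := (hmem _).mpr (by
          calc g⁻¹ * h * z * (g⁻¹ * h)⁻¹ = g⁻¹ * t * g := by rw [ht]; group
            _ = z := by rw [e]; group)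
        exact hhN (by simpa using N₁.mul_mem hg (Subgroup.le_normalizer this))
      rcases ha' with ea | ea <;> rcases hb' with eb | eb <;> rw [ea, eb] at hab
      · exact ht1 (by rw [← hab, mul_one])
      · exact htg (by rw [← hab, one_mul])
      · exact htz (by rw [← hab, mul_one])
      · -- `z z^g` is fixed by `g`
        have hh' : h⁻¹ * g * h ∈ N₁ := by simpa using (Subgroup.mem_normalizer_iff.mp (inv_mem hh) g).mp hg
        have hgg : g * (g * z * g⁻¹) * g⁻¹ = z := by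
          rcases hthree _ (N₁.mul_mem hg hg) with e | e
          · calc g * (g * z * g⁻¹) * g⁻¹ = g * g * z * (g * g)⁻¹ := by group
              _ = z := e
          · exfalso
            refine hgz ?_
            calc z = g⁻¹ * (g * z * g⁻¹) * g := by group
              _ = g⁻¹ * (g * g * z * (g * g)⁻¹) * g := by rw [e]
              _ = _ := by group
        have hgt : g * t * g⁻¹ = t := by
          rw [← hab]
          calc g * (z * (g * z * g⁻¹)) * g⁻¹ = (g * z * g⁻¹) * (g * (g * z * g⁻¹) * g⁻¹) := by group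
            _ = _ := by rw [hgg, hPQc z hz.1 _ (hPcz g).1]
        -- hence `g` moved into the conjugate of `S₀`
        have h3 : h⁻¹ * g * h ∈ S₀ := (hmem _).mpr (by
          calc h⁻¹ * g * h * z * (h⁻¹ * g * h)⁻¹ = h⁻¹ * (g * t * g⁻¹) * h := by rw [ht]; group
            _ = z := by rw [hgt, ht]; group)
        -- and `S₀` itself fixes `t`
        have hall : ∀ s ∈ S₀, h⁻¹ * s * h ∈ S₀ := fun s hs => (hmem _).mpr (by
          have hst : s * t * s⁻¹ = t := by
            have hs1 : s * z * s⁻¹ = z := (hmem s).mp hs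
            have hs2 : g⁻¹ * s * g ∈ S₀ := by simpa using (hN₁mem _ (inv_mem hg) s).mp hs
            have hs3 : s * (g * z * g⁻¹) * s⁻¹ = g * z * g⁻¹ := by
              calc s * (g * z * g⁻¹) * s⁻¹ = g * (g⁻¹ * s * g * z * (g⁻¹ * s * g)⁻¹) * g⁻¹ := by group
                _ = _ := by rw [(hmem _).mp hs2]
            rw [← hab]
            calc s * (z * (g * z * g⁻¹)) * s⁻¹ = (s * z * s⁻¹) * (s * (g * z * g⁻¹) * s⁻¹) := by group
              _ = _ := by rw [hs1, hs3]
          calc h⁻¹ * s * h * z * (h⁻¹ * s * h)⁻¹ = h⁻¹ * (s * t * s⁻¹) * h := by rw [ht]; group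
            _ = z := by rw [hst, ht]; group)
        have : h⁻¹ ∈ N₁ := Subgroup.mem_normalizer_fintype fun s hs => by
          rw [SetLike.mem_coe, inv_inv]; exact hall s hs
        exact hhN (by simpa using inv_mem this)
    · have htg : g⁻¹ * t ∈ S₀ := (hcos t htN).resolve_left htS
      have htP : ∀ x ∈ P, t * x * t⁻¹ ∈ Pc g := fun x hx =>
        ⟨_, hPn _ htg x hx, by simp [mul_assoc]⟩
      have hfree : ∀ x ∈ P, t * x * t⁻¹ = x → x = 1 := fun x hx e =>
        Subgroup.mem_bot.mp (hint.le ⟨hx, e ▸ htP x hx⟩)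
      have hval : ∀ x ∈ P, x ≠ 1 → t * x * t⁻¹ * x⁻¹ = t * (h * (g * z * g⁻¹) * h⁻¹)⁻¹ := by
        intro x hx hx1
        rcases horb x (Subgroup.le_normalizer (hPS hx)) with e | e
        · exact absurd (hfree x hx (mul_inv_eq_iff_eq_mul.mpr (mul_inv_eq_iff_eq_mul.mp e).symm)) hx1
        · rw [← e]; group
      have hsame : ∀ x ∈ P, ∀ y ∈ P, x ≠ 1 → y ≠ 1 → x = y := by
        intro x hx y hy hx1 hy1
        have e := (hval x hx hx1).trans (hval y hy hy1).symm
        -- separate the two factors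
        have h4 : (t * y * t⁻¹)⁻¹ * (t * x * t⁻¹) = y⁻¹ * x := by
          have e' : (t * y * t⁻¹)⁻¹ * (t * x * t⁻¹ * x⁻¹) * x = y⁻¹ * x := by rw [e]; group
          rw [← e']; group
        have h5 : y⁻¹ * x ∈ Pc g := h4 ▸ mul_mem (inv_mem (htP y hy)) (htP x hx)
        have h6 := Subgroup.mem_bot.mp (hint.le ⟨P.mul_mem (P.inv_mem hy) hx, h5⟩)
        exact (inv_mul_eq_one.mp h6).symm
      refine hPna0 fun a b => ?_
      rcases eq_or_ne a 1 with rfl | ha
      · simp
      rcases eq_or_ne b 1 with rfl | hb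
      · simp
      rw [Subtype.ext (hsame a a.2 b b.2 (fun e => ha (Subtype.ext e)) (fun e => hb (Subtype.ext e)))]
  rw [Subgroup.index_eq_two_iff_exists_notMem_and']
  refine ⟨g, hgS₀, fun b => ?_⟩
  have hbN : g * b ∈ N₁ := hN1top.symm ▸ Subgroup.mem_top _
  rcases hcos _ hbN with e | e
  · exact Or.inl e
  · exact Or.inr (by simpa using e)

end Cfsg.Agent.S4401
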