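import Cfsg.Statements.S4402
import Cfsg.Agent.Lib.WreathEight.Main

set_option autoImplicit false
open Cfsg

namespace Cfsg.Agent.S4402

/-- Let S be a finite 2-group of sectional 2-rank at most 4 and P a proper subgroup isomorphic to the wreath product of the dihedral group of order 8 by a group of order 2 (equivalently, to a Sylow 2-subgroup of the symmetric group of degree 8; order 128). Then Z(S) = Z(P) has order 2, P has index 2 in its normalizer N_S(P), N_S(P)/Z(S) is again isomorphic to that wreath product, and every elementary abelian subgroup V of order 16 that is normal in P satisfies N_S(V) = P. -/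
theorem result {S : Type*} [Group S] [Finite S] (h2 : IsPGroup 2 S) (hr : Cfsg.SectionalPRankLE 2 4 S)
    (P : Subgroup S) (hPlt : P ≠ ⊤) (hP : ∃ T : Sylow 2 (Equiv.Perm (Fin 8)), Nonempty (↥P ≃* ↥(T : Subgroup (Equiv.Perm (Fin 8))))) :
    Subgroup.center S = (Subgroup.center ↥P).map P.subtype ∧ Nat.card ↥(Subgroup.center S) = 2 ∧
    P.relIndex (Subgroup.normalizer (P : Set S)) = 2 ∧
    (∃ (_ : ((Subgroup.center S).subgroupOf (Subgroup.normalizer (P : Set S))).Normal) (T : Sylow 2 (Equiv.Perm (Fin 8))),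
      Nonempty (↥(Subgroup.normalizer (P : Set S)) ⧸ (Subgroup.center S).subgroupOf (Subgroup.normalizer (P : Set S)) ≃*
        ↥(T : Subgroup (Equiv.Perm (Fin 8))))) ∧
    ∀ V : Subgroup S, V ≤ P → (∀ g ∈ P, ∀ v ∈ V, g * v * g⁻¹ ∈ V) → Cfsg.IsElementaryAbelian 2 V → Nat.card ↥V = 16 →
      Subgroup.normalizer (V : Set S) = P := by
  obtain ⟨T, ⟨e⟩⟩ := hP
  obtain ⟨eW⟩ := Cfsg.Agent.WreathEight.sylow_equiv T
  let e' : Cfsg.Agent.WreathEight.W ≃* ↥P := eW.trans e.symm
  let f : Cfsg.Agent.WreathEight.W →* S := P.subtype.comp e'.toMonoidHom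
  have hf : Function.Injective f := Subtype.val_injective.comp e'.injective
  have hfP : f.range = P := by
    rw [MonoidHom.range_comp, MonoidHom.range_eq_top.2 e'.surjective, ← MonoidHom.range_eq_map, Subgroup.range_subtype]
  obtain ⟨h1, h3, h4, hN, he⟩ := Cfsg.Agent.WreathEight.main hr h2 f hf P hfP hPlt T
  refine ⟨h1, h3, h4, ⟨hN, T, he⟩, fun V hVP hVn hV hc => ?_⟩
  obtain ⟨hab, hexp⟩ := hV
  exact Cfsg.Agent.WreathEight.normalizer_eq hr h2 f hf P hfP V hVP hVn
    (fun a ha b hb => congrArg Subtype.val (mul_comm' (⟨a, ha⟩ : V) ⟨b, hb⟩))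
    (fun a ha => by rw [← pow_two]; exact hexp a ha) hc

end Cfsg.Agent.S4402
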