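import Cfsg.Statements.S4403
import Mathlib
import Cfsg.Agent.Lib.CyclicSylowAbelian.Simple
import Cfsg.Agent.Lib.PComplement
import Cfsg.Agent.Lib.Components
import Cfsg.Agent.Lib.Elementary
-- import your own Cfsg.Agent.* helpers here

set_option autoImplicit false
open Cfsg

namespace Cfsg.Agent.S4403

open Subgroup CfsgLib CfsgLib.CycSyl
open scoped IsMulCommutative commutatorElement

universe u

/-- With no nontrivial normal `p'`-subgroup, a normal subgroup with a normal `p`-complement is a `p`-group. -/
theorem isPGroup_of_complement {K : Type u} [Group K] [Finite K] {p : ℕ} [Fact p.Prime] (hO : pPrimeCore p K = ⊥)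
    (M : Subgroup K) [M.Normal] (h : HasNormalPComplement p M) : IsPGroup p M := by
  have hle : (pPrimeCore p M).map M.subtype ≤ pPrimeCore p K := le_pPrimeCore (by
    rw [Subgroup.card_map_of_injective M.subtype_injective]; exact card_pPrimeCore_coprime p)
  rw [hO, le_bot_iff, Subgroup.map_eq_bot_iff_of_injective _ M.subtype_injective] at hle
  intro x
  obtain ⟨k, hk⟩ := isPGroup_quotient_of_hasNormalPComplement h (QuotientGroup.mk' _ x)
  refine ⟨k, ?_⟩
  rw [← map_pow, QuotientGroup.mk'_apply, QuotientGroup.eq_one_iff, hle, Subgroup.mem_bot] at hk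
  exact hk

theorem isPGroup_zpowers {K : Type u} [Group K] [Finite K] {p : ℕ} [hp : Fact p.Prime] {c : K} (hc : orderOf c = p) :
    IsPGroup p (zpowers c) := IsPGroup.of_card (n := 1) (by rw [Nat.card_zpowers, hc, pow_one])

theorem le_sylow {K : Type u} [Group K] [Finite K] {p : ℕ} [Fact p.Prime] (P : Sylow p K) {N : Subgroup K}
    (hN : N.Normal) (hp : IsPGroup p N) : N ≤ (P : Subgroup K) := by
  have := P.is_maximal' (IsPGroup.to_sup_of_normal_left hp P.2) le_sup_right
  exact this ▸ le_sup_left

/-- In the presence of a normal subgroup with a Sylow `p`-subgroup strictly inside a cyclic one, transfer gives a complement. -/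
theorem complement_of_proper {K : Type u} [Group K] [Finite K] {p : ℕ} [hp : Fact p.Prime] (P : Sylow p K)
    (hP : IsCyclic (P : Subgroup K)) (N : Subgroup K) [N.Normal] (hne : ¬ (P : Subgroup K) ≤ N) :
    HasNormalPComplement p N := by
  classical
  set M := N ⊔ (P : Subgroup K) with hM
  suffices h : HasNormalPComplement p M by
    exact hasNormalPComplement_of_equiv (Subgroup.subgroupOfEquivOfLe (le_sup_left : N ≤ M))
      (hasNormalPComplement_subgroup h (N.subgroupOf M))
  set PM := P.subtype (le_sup_right : (P : Subgroup K) ≤ M)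
  refine hasNormalPComplement_of_normalizer_le_centralizer PM fun g hg => ?_
  obtain ⟨a, b, hab, ha, hb, hap, hbp⟩ := split (p := p) g
  have haP := mem_sylow PM (Subgroup.zpowers_le.mpr hg ha) hap
  have hbN := Subgroup.zpowers_le.mpr hg hb
  have hcP : IsCyclic (PM : Subgroup M) := by
    rw [Sylow.coe_subtype]
    exact isCyclic_of_surjective (Subgroup.subgroupOfEquivOfLe (le_sup_right : (P : Subgroup K) ≤ M)).symm.toMonoidHom
      (MulEquiv.surjective _)
  have hcomm := comm_of_cyclic hcP
  haveI := hP
  obtain ⟨g₀, hg₀⟩ := IsCyclic.exists_generator (α := (P : Subgroup K))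
  -- commutators lie in `N`
  have hN' : ∀ u v : M, (u : K) * v * (u : K)⁻¹ * (v : K)⁻¹ ∈ N := by
    intro u v
    set f : M →* K ⧸ N := (QuotientGroup.mk' N).comp M.subtype
    have hf : ∀ w : M, ∃ a ∈ (P : Subgroup K), f w = QuotientGroup.mk' N a := by
      intro w
      obtain ⟨n, hn, a, ha, e⟩ := Subgroup.mem_sup_of_normal_left.mp w.2
      refine ⟨a, ha, ?_⟩
      show QuotientGroup.mk' N (w : K) = _
      rw [← e, map_mul, QuotientGroup.mk'_apply, (QuotientGroup.eq_one_iff n).mpr hn, one_mul]
    obtain ⟨a₁, ha₁, e₁⟩ := hf u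
    obtain ⟨a₂, ha₂, e₂⟩ := hf v
    rw [← QuotientGroup.eq_one_iff]
    show f u * f v * (f u)⁻¹ * (f v)⁻¹ = 1
    rw [e₁, e₂, ← map_mul, comm_of_cyclic hP a₁ ha₁ a₂ ha₂, map_mul, mul_inv_cancel_right, mul_inv_cancel]
  set x : M := ⟨g₀, le_sup_right (a := N) g₀.2⟩ with hx
  have hxP : x ∈ (PM : Subgroup M) := g₀.2
  have hbx : b * x * b⁻¹ ∈ (PM : Subgroup M) := conj_mem_of_normalizer hbN hxP
  obtain ⟨k, hk⟩ := hg₀ ⟨(b : K) * g₀ * (b : K)⁻¹, hbx⟩
  have hk' : (g₀ : K) ^ k = (b : K) * g₀ * (b : K)⁻¹ := by simpa using congrArg Subtype.val hk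
  have hgenN : (g₀ : K) ^ (k - 1) ∈ N := by
    rw [zpow_sub, zpow_one, hk']
    exact hN' b x
  obtain ⟨j, hj⟩ := P.2.exists_card_eq
  have hord : orderOf (g₀ : K) = p ^ j := by
    rw [← hj, Subgroup.orderOf_coe, orderOf_eq_card_of_forall_mem_zpowers hg₀]
  have hdv : (p : ℤ) ∣ k - 1 := by
    by_contra hdv
    refine hne fun a ha => ?_
    have hcop : IsCoprime ((orderOf (g₀ : K) : ℤ)) (k - 1) := by
      rw [hord]; push_cast
      exact ((Nat.prime_iff_prime_int.mp hp.out).coprime_iff_not_dvd.mpr hdv).pow_left
    obtain ⟨s, t, hst⟩ := hcop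
    have hg0N : (g₀ : K) ∈ N := by
      have e : (g₀ : K) = ((g₀ : K) ^ (k - 1)) ^ t := by
        conv_lhs => rw [← zpow_one (g₀ : K), ← hst, zpow_add, mul_comm s, zpow_mul, zpow_natCast,
          pow_orderOf_eq_one, one_zpow, one_mul]
        rw [← zpow_mul, mul_comm]
      rw [e]; exact zpow_mem hgenN t
    obtain ⟨m, hm⟩ := hg₀ ⟨a, ha⟩
    rw [show a = (g₀ : K) ^ m by simpa using (congrArg Subtype.val hm).symm]
    exact zpow_mem hg0N m
  have hbc : ∀ c ∈ (PM : Subgroup M), b * c = c * b := by
    rcases j with _ | j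
    · intro c hc
      have hbot : (P : Subgroup K) = ⊥ := Subgroup.card_eq_one.mp (by rw [hj, pow_zero])
      have hc' : (c : K) ∈ (P : Subgroup K) := hc
      replace hc' := Subgroup.mem_bot.mp (hbot.le hc')
      rw [show c = 1 from Subtype.ext hc', mul_one, one_mul]
    · refine cyclic_fix PM.2 hcP hbp (fun c hc => conj_mem_of_normalizer hbN hc)
        ((PM : Subgroup M).pow_mem hxP (p ^ j)) ?_ ?_
      · intro e
        have := Nat.le_of_dvd (pow_pos hp.out.pos j) (orderOf_dvd_of_pow_eq_one
          (show (g₀ : K) ^ p ^ j = 1 from by simpa using congrArg Subtype.val e))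
        rw [hord] at this
        exact absurd this (not_le.mpr (Nat.pow_lt_pow_right hp.out.one_lt (Nat.lt_succ_self j)))
      · refine Subtype.ext ?_
        show (b : K) * ((x ^ p ^ j : M) : K) = ((x ^ p ^ j : M) : K) * b
        rw [← mul_inv_eq_iff_eq_mul, SubgroupClass.coe_pow, ← conj_pow, ← hk', ← zpow_natCast ((g₀ : K) ^ k),
          ← zpow_mul, ← zpow_natCast (g₀ : K) (p ^ j), zpow_eq_zpow_iff_modEq, hord, Int.modEq_iff_dvd]
        obtain ⟨m, hm⟩ := hdv
        exact ⟨-m, by push_cast; linear_combination (-((p : ℤ) ^ j)) * hm⟩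
  refine Subgroup.mem_centralizer_iff.mpr fun c hc => ?_
  rw [← hab, ← mul_assoc, hcomm c hc a haP, mul_assoc, ← hbc c hc, mul_assoc]

/-- Let K be a finite group, p a prime dividing its order with O_{p'}(K) = 1 (no nontrivial normal subgroup of order prime to p), and P a cyclic Sylow p-subgroup of K. Then either P is normal and self-centralizing in K with K/P cyclic of order dividing p − 1 (so K is the semidirect product of P by a group of automorphisms of P of order dividing p − 1), or the generalized Fitting subgroup F*(K) is a non-abelian simple group and p does not divide the index of F*(K) in K. -/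
theorem result {K : Type*} [Group K] [Finite K] (p : ℕ) [Fact p.Prime] (hp : p ∣ Nat.card K) (hO : Cfsg.pPrimeCore p K = ⊥)
    (P : Sylow p K) (hP : IsCyclic ↥(P : Subgroup K)) :
    ((P : Subgroup K).Normal ∧ Subgroup.centralizer ((P : Subgroup K) : Set K) = (P : Subgroup K) ∧
      (∀ (_ : (P : Subgroup K).Normal), IsCyclic (K ⧸ (P : Subgroup K))) ∧ (P : Subgroup K).index ∣ p - 1) ∨
    (IsSimpleGroup ↥(Cfsg.generalizedFittingSubgroup K) ∧ ¬ IsMulCommutative ↥(Cfsg.generalizedFittingSubgroup K) ∧
      ¬ p ∣ (Cfsg.generalizedFittingSubgroup K).index) := by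
  classical
  have hpp := (Fact.out : p.Prime)
  obtain ⟨c₀, hc₀⟩ := exists_prime_orderOf_dvd_card' p hp
  by_cases hA : ∃ A : Subgroup K, A.Normal ∧ IsPGroup p A ∧ A ≠ ⊥
  · left
    obtain ⟨A, hAn, hAp, hA0⟩ := hA
    have hAP := le_sylow P hAn hAp
    obtain ⟨z₁, hz₁, hz₁1⟩ := A.bot_or_exists_ne_one.resolve_left hA0
    obtain ⟨i, hi⟩ := exists_pow_order_p hAp hz₁ hz₁1
    set z := z₁ ^ i with hz
    have hzA : z ∈ A := A.pow_mem hz₁ i
    set Z := zpowers z with hZ
    haveI hZn : Z.Normal := ⟨fun a ha g => by
      refine mem_zpowers_of_cyclic hP (hAP hzA) hi (hAP (hAn.conj_mem a ((Subgroup.zpowers_le.mpr hzA) ha) g)) ?_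
      obtain ⟨m, rfl⟩ := ha
      rw [conj_pow, ← zpow_natCast (z ^ m), ← zpow_mul, mul_comm, zpow_mul, zpow_natCast, ← hi,
        pow_orderOf_eq_one, one_zpow, mul_one, mul_inv_cancel]⟩
    set C := centralizer (Z : Set K) with hC
    have hPC : (P : Subgroup K) ≤ C := fun a ha => Subgroup.mem_centralizer_iff.mpr fun c hc =>
      comm_of_cyclic hP c ((Subgroup.zpowers_le.mpr (hAP hzA)) hc) a ha
    have hz1 : z ≠ 1 := fun e => hpp.ne_one (by rw [← hi, e, orderOf_one])
    have hCc : HasNormalPComplement p C := by
      refine hasNormalPComplement_of_normalizer_le_centralizer (P.subtype hPC) fun g hg => ?_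
      obtain ⟨a, b, hab, ha, hb, hap, hbp⟩ := split (p := p) g
      have haP := mem_sylow (P.subtype hPC) (Subgroup.zpowers_le.mpr hg ha) hap
      have hbN := Subgroup.zpowers_le.mpr hg hb
      refine Subgroup.mem_centralizer_iff.mpr fun c hc => Subtype.ext ?_
      have hbn : ∀ d : C, d ∈ (P.subtype hPC : Subgroup C) → b * d * b⁻¹ ∈ (P.subtype hPC : Subgroup C) :=
        fun d hd => conj_mem_of_normalizer hbN hd
      have hbc := cyclic_fix P.2 hP (g := (b : K)) (by rwa [Subgroup.orderOf_coe]) (fun d hd =>
          hbn ⟨d, hPC hd⟩ hd) (hAP hzA) hz1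
        ((Subgroup.mem_centralizer_iff.mp b.2) z (mem_zpowers z)).symm
      show (c : K) * g = g * c
      rw [← congrArg Subtype.val hab, Subgroup.coe_mul, ← mul_assoc, comm_of_cyclic hP c hc a haP, mul_assoc,
        ← hbc c hc, mul_assoc]
    have hCp : C = (P : Subgroup K) := P.is_maximal' (isPGroup_of_complement hO C hCc) hPC
    have hPn : (P : Subgroup K).Normal := hCp ▸ (inferInstance : C.Normal)
    have hZc : Nat.card Z = p := by rw [hZ, Nat.card_zpowers, hi]
    haveI : IsCyclic Z := isCyclic_of_prime_card hZc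
    let φ : K →* MulAut Z := MulAut.conjNormal
    have hker : φ.ker = (P : Subgroup K) := by
      rw [← hCp]
      ext g
      rw [MonoidHom.mem_ker, hC, Subgroup.mem_centralizer_iff]
      constructor
      · intro h c hc
        have e : g * c * g⁻¹ = c := by
          simpa [φ] using congrArg (fun f : MulAut Z => ((f ⟨c, hc⟩ : Z) : K)) h
        exact (mul_inv_eq_iff_eq_mul.mp e).symm
      · intro h
        refine MulEquiv.ext fun c => Subtype.ext ?_
        simp only [φ, MulAut.conjNormal_apply, MulAut.one_apply]
        rw [mul_inv_eq_iff_eq_mul]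
        exact (h c c.2).symm
    have hcycA : IsCyclic (MulAut Z) := by
      have : Fact (Nat.card Z).Prime := ⟨hZc ▸ hpp⟩
      exact isCyclic_of_injective (IsCyclic.mulAutMulEquiv Z).toMonoidHom (MulEquiv.injective _)
    refine ⟨hPn, le_antisymm ?_ ?_, fun _ => ?_, ?_⟩
    · intro g hg
      rw [← hCp, hC]
      exact Subgroup.centralizer_le ((Subgroup.zpowers_le.mpr (hAP hzA))) hg
    · exact fun a ha => Subgroup.mem_centralizer_iff.mpr fun c hc => comm_of_cyclic hP c hc a ha
    · haveI := hPn
      let e : K ⧸ (P : Subgroup K) ≃* φ.range :=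
        (QuotientGroup.quotientMulEquivOfEq hker.symm).trans (QuotientGroup.quotientKerEquivRange φ)
      exact isCyclic_of_injective (φ.range.subtype.comp e.toMonoidHom)
        ((Subgroup.subtype_injective _).comp e.injective)
    · rw [← hker, Subgroup.index_ker]
      refine (Subgroup.card_subgroup_dvd_card _).trans ?_
      rw [Nat.card_congr (IsCyclic.mulAutMulEquiv Z).toEquiv, hZc, Nat.card_eq_fintype_card,
        ZMod.card_units_eq_totient, Nat.totient_prime hpp]
  · right
    push Not at hA
    have : Nontrivial K := Finite.one_lt_card_iff_nontrivial.mp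
      (hpp.one_lt.trans_le (Nat.le_of_dvd Nat.card_pos hp))
    obtain ⟨N, hN, -, hN0, hmin⟩ := exists_minimal_normal (N := (⊤ : Subgroup K)) top_ne_bot
    have hO' : ∀ A : Subgroup K, A.Normal → ¬ p ∣ Nat.card A → A = ⊥ := fun A hAn hAp => by
      have h1 : A ≤ pPrimeCore p K := le_pPrimeCore ((Nat.Prime.coprime_iff_not_dvd hpp).mpr hAp).symm
      rw [hO] at h1
      exact le_bot_iff.mp h1
    have hNna : ¬ Group.IsSolvable N := by
      intro hs
      obtain ⟨-, q, hq, hpow⟩ := minimal_normal_elementary hN0 hs hmin
      have := Fact.mk hq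
      have hNq : IsPGroup q N := fun x => ⟨1, Subtype.ext (by rw [SubgroupClass.coe_pow, pow_one]; exact hpow x x.2)⟩
      by_cases e : q = p
      · exact hN0 (hA N hN (e ▸ hNq))
      · exact hN0 (hO' N hN (not_dvd_card_of_isPGroup (Ne.symm e) hNq))
    have hPN : (P : Subgroup K) ≤ N := by
      by_contra hne
      refine hNna ?_
      haveI := (isPGroup_of_complement hO N (complement_of_proper P hP N hne)).isNilpotent
      infer_instance
    -- the centralizer of `N` is trivial
    set C := centralizer (N : Set K) with hC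
    have hCN : C ⊓ N = ⊥ := by
      rcases hmin (C ⊓ N) inferInstance inf_le_right with e | e
      · exact e
      · exfalso
        refine hNna ?_
        have hc : ∀ a b : N, a * b = b * a := fun a b => Subtype.ext
          (Subgroup.mem_centralizer_iff.mp (e.ge b.2).1 _ a.2)
        have hcm : IsMulCommutative N := ⟨⟨hc⟩⟩
        infer_instance
    have hC1 : C = ⊥ := by
      refine hO' C inferInstance fun hd => ?_
      obtain ⟨c, hc⟩ := exists_prime_orderOf_dvd_card' p hd
      rw [← Subgroup.orderOf_coe] at hc
      obtain ⟨Q, hQ⟩ := (isPGroup_zpowers hc).exists_le_sylow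
      obtain ⟨g, rfl⟩ := MulAction.exists_smul_eq K P Q
      have hmem : (c : K) ∈ N := by
        have h1 := hQ (mem_zpowers (c : K))
        rw [Sylow.coe_subgroup_smul, Subgroup.mem_pointwise_smul_iff_inv_smul_mem] at h1
        have h2 := hN.conj_mem _ (hPN h1) g
        simpa [MulAut.conj_inv_apply, mul_assoc] using h2
      have h3 : (c : K) ∈ C ⊓ N := ⟨c.2, hmem⟩
      rw [hCN, Subgroup.mem_bot] at h3
      rw [h3, orderOf_one] at hc
      exact hpp.ne_one hc.symm
    -- `N` is simple
    have hsimple : IsSimpleGroup N := by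
      have : Nontrivial N := (Subgroup.nontrivial_iff_ne_bot N).mpr hN0
      obtain ⟨M, hM, -, hM0, hMmin⟩ := exists_minimal_normal (N := (⊤ : Subgroup N)) top_ne_bot
      set M' := M.map N.subtype with hM'
      have hM'0 : M' ≠ ⊥ := fun e => hM0 ((Subgroup.map_eq_bot_iff_of_injective _ N.subtype_injective).mp e)
      have hpM : p ∣ Nat.card M := by
        by_contra hd
        have h1 : M ≤ pPrimeCore p N := le_pPrimeCore ((Nat.Prime.coprime_iff_not_dvd hpp).mpr hd).symm
        have h2 : (pPrimeCore p N).map N.subtype = ⊥ := hO' _ inferInstance (by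
          rw [Subgroup.card_map_of_injective N.subtype_injective]
          exact (Nat.Prime.coprime_iff_not_dvd hpp).mp (card_pPrimeCore_coprime p).symm)
        rw [(Subgroup.map_eq_bot_iff_of_injective _ N.subtype_injective).mp h2, le_bot_iff] at h1
        exact hM0 h1
      obtain ⟨c, hc⟩ := exists_prime_orderOf_dvd_card' p hpM
      have hM'n : M'.Normal := by
        refine ⟨fun a ha g => ?_⟩
        let φ : N ≃* N := MulAut.conjNormal g
        have hMg : (M.map φ.toMonoidHom).Normal := Subgroup.Normal.map hM _ φ.surjective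
        have hle : M.map φ.toMonoidHom ≤ M := by
          rcases hMmin (M ⊓ M.map φ.toMonoidHom) inferInstance inf_le_left with e | e
          · exfalso
            -- two commuting subgroups of order `p` in a cyclic Sylow subgroup
            have hcc : Commute c.1 (φ c.1) := Subgroup.commute_of_normal_of_disjoint _ _ hM hMg (disjoint_iff.mpr e) _ _ c.2
              (Subgroup.mem_map_of_mem _ c.2)
            set u := ((c : N) : K) with hu
            set v := ((φ (c : N) : N) : K) with hv
            have hou : orderOf u = p := by rw [hu, Subgroup.orderOf_coe, Subgroup.orderOf_coe]; exact hc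
            have hov : orderOf v = p := by
              rw [hv, Subgroup.orderOf_coe, MulEquiv.orderOf_eq, Subgroup.orderOf_coe]; exact hc
            have huv : u * v = v * u := congrArg Subtype.val hcc.eq
            have hU : IsPGroup p (zpowers u ⊔ zpowers v : Subgroup K) := by
              refine IsPGroup.to_sup_of_normal_right' (isPGroup_zpowers hou) (isPGroup_zpowers hov) ?_
              rw [Subgroup.zpowers_le, Subgroup.mem_normalizer_iff_map_conj_eq, MonoidHom.map_zpowers]
              show zpowers (u * v * u⁻¹) = zpowers v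
              rw [huv, mul_inv_cancel_right]
            obtain ⟨Q, hQ⟩ := hU.exists_le_sylow
            haveI := hP
            have hQc : IsCyclic (Q : Subgroup K) :=
              isCyclic_of_surjective (P.equiv Q).toMonoidHom (P.equiv Q).surjective
            obtain ⟨m, hm⟩ := mem_zpowers_of_cyclic hQc (hQ (Subgroup.mem_sup_left (mem_zpowers u))) hou
              (hQ (Subgroup.mem_sup_right (mem_zpowers v))) (by rw [← hov]; exact pow_orderOf_eq_one v)
            have hvM : (φ (c : N)) ∈ M ⊓ M.map φ.toMonoidHom := by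
              refine ⟨?_, Subgroup.mem_map_of_mem _ c.2⟩
              have : φ (c : N) = (c : N) ^ m := Subtype.ext (by rw [SubgroupClass.coe_zpow]; exact hm.symm)
              rw [this]; exact zpow_mem c.2 m
            rw [e, Subgroup.mem_bot] at hvM
            rw [hv, hvM, OneMemClass.coe_one, orderOf_one] at hov
            exact hpp.ne_one hov.symm
          · exact (Subgroup.eq_of_le_of_card_ge (inf_eq_left.mp e)
              (le_of_eq (Subgroup.card_map_of_injective φ.injective))).ge
        obtain ⟨a', ha', rfl⟩ := ha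
        exact ⟨φ a', hle (Subgroup.mem_map_of_mem _ ha'), by simp [φ]⟩
      rcases hmin M' hM'n (Subgroup.map_subtype_le M) with e | e
      · exact absurd e hM'0
      · have hMtop : M = ⊤ := Subgroup.map_injective N.subtype_injective
          (by rw [← hM', e, ← MonoidHom.range_eq_map, Subgroup.range_subtype])
        exact ⟨fun H hH => (hMmin H hH (hMtop ▸ le_top)).imp id (fun e => e.trans hMtop)⟩
    have hna : ¬ IsMulCommutative N := fun hc => hNna (by haveI := hc; infer_instance)
    have hq : IsQuasisimple N := by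
      haveI := hsimple
      refine ⟨?_, ?_⟩
      · rcases Subgroup.Normal.eq_bot_or_eq_top (H := commutator N) inferInstance with e | e
        · exact absurd ((commutator_eq_bot_iff N).mp e) hna
        · exact ⟨e⟩
      · have hcen : center N = ⊥ := by
          rcases Subgroup.Normal.eq_bot_or_eq_top (H := center N) inferInstance with e | e
          · exact e
          · exact absurd ⟨⟨fun a b => ((Subgroup.mem_center_iff.mp (e ▸ Subgroup.mem_top a)) b).symm⟩⟩ hna
        exact ((QuotientGroup.quotientMulEquivOfEq hcen).trans QuotientGroup.quotientBot).isSimpleGroup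
    have hcomp : IsComponent N := ⟨hN.isSubnormal, hq⟩
    have hF : generalizedFittingSubgroup K = N := by
      refine le_antisymm (sup_le (sSup_le fun L hL => ?_) (sSup_le fun A hA' => ?_))
        ((le_layer hcomp).trans le_sup_left)
      · rcases components_eq_or_commute hL hcomp with e | e
        · exact e.le
        · have h1 : L ≤ C := Subgroup.commutator_eq_bot_iff_le_centralizer.mp e
          rw [hC1] at h1
          exact h1.trans bot_le
      · obtain ⟨hAn, hAnil⟩ := hA'
        haveI := hAn
        rcases hmin (A ⊓ N) inferInstance inf_le_right with e | e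
        · have h1 : A ≤ C := fun a ha => Subgroup.mem_centralizer_iff.mpr fun n hn =>
            (Subgroup.commute_of_normal_of_disjoint _ _ hAn hN (disjoint_iff.mpr e) _ _ ha hn).symm
          rw [hC1] at h1
          exact h1.trans bot_le
        · exfalso
          refine hNna ?_
          haveI := hAnil
          exact Group.isSolvable_of_isSolvable_injective (f := Subgroup.inclusion (show N ≤ A from inf_eq_right.mp e))
            (Subgroup.inclusion_injective _)
    rw [hF]
    exact ⟨hsimple, hna, fun hd => P.not_dvd_index (hd.trans (Subgroup.index_dvd_of_le hPN))⟩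

end Cfsg.Agent.S4403
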