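import Cfsg.Statements.S4404
import Cfsg.Agent.Lib.FourComm.Main

set_option autoImplicit false
open Cfsg
open scoped commutatorElement

namespace Cfsg.Agent.S4404

/-- Let S be a finite solvable group and M a normal elementary abelian 2-subgroup of S. Suppose S contains an elementary abelian subgroup of order p³ for some odd prime p, and a cyclic 3-subgroup Q such that the cubes of the elements of Q centralize M and the commutator subgroup [Q, M] has order 4 (a four-group inside M). Then S contains an elementary abelian subgroup F of order r³, for some odd prime r, whose centralizer of [Q, M] in F — the subgroup C_F([Q, M]) — is not cyclic. -/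
theorem result {S : Type*} [Group S] [Finite S]
    [Group.IsSolvable S] (M : Subgroup S) [M.Normal] (hM : Cfsg.IsElementaryAbelian 2 M)
    (p : ℕ) (hp : p.Prime) (hp2 : p ≠ 2) (E : Subgroup S) (hE : Cfsg.IsElementaryAbelian p E) (hE3 : Nat.card ↥E = p ^ 3)
    (Q : Subgroup S) (hQc : IsCyclic ↥Q) (hQ3 : IsPGroup 3 ↥Q)
    (hQ1 : ∀ x ∈ Q, x ^ 3 ∈ Subgroup.centralizer (M : Set S)) (hQM : Nat.card ↥⁅Q, M⁆ = 4) :
    ∃ (r : ℕ) (F : Subgroup S), r.Prime ∧ r ≠ 2 ∧ Cfsg.IsElementaryAbelian r F ∧ Nat.card ↥F = r ^ 3 ∧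
      ¬ IsCyclic ↥(F ⊓ Subgroup.centralizer ((⁅Q, M⁆ : Subgroup S) : Set S)) := by
  classical
  letI : CommGroup M := { (inferInstance : Group M) with mul_comm := fun a b => hM.1.1.comm a b }
  have h2 : ∀ m : M, m * m = 1 := fun m => Subtype.ext (by rw [Subgroup.coe_mul, ← pow_two]; exact hM.2 m m.2)
  let π : S →* MulAut M := MulAut.conjNormal
  obtain ⟨⟨x, hxQ⟩, hx⟩ := hQc.exists_generator
  have happ : ∀ (s : S) (m : M), ((π s m : M) : S) = s * m * s⁻¹ := fun s m => MulAut.conjNormal_apply s m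
  have hinv : ∀ m : M, (m : S)⁻¹ = m := fun m => congrArg Subtype.val (CfsgLib.FourComm.inv_eq_self' h2 m)
  have hW : (CfsgLib.FourComm.psi (π x)).range.map M.subtype = ⁅Q, M⁆ := by
    refine le_antisymm ?_ ((Subgroup.commutator_le).mpr fun q hq m hm => ?_)
    · rintro _ ⟨_, ⟨m, rfl⟩, rfl⟩
      have e : (((CfsgLib.FourComm.psi (π x)) m : M) : S) = ⁅x, (m : S)⁆ := by
        rw [CfsgLib.FourComm.psi_apply, Subgroup.coe_mul, happ, commutatorElement_def, hinv]
      show ((CfsgLib.FourComm.psi (π x) m : M) : S) ∈ ⁅Q, M⁆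
      rw [e]
      exact Subgroup.commutator_mem_commutator hxQ m.2
    · obtain ⟨n, hn⟩ := mem_powers_iff_mem_zpowers.mpr (hx ⟨q, hq⟩)
      have hn : x ^ n = q := congrArg Subtype.val hn
      have key : ∀ n : ℕ, ∀ t : M, CfsgLib.FourComm.psi (π x ^ n) t ∈ (CfsgLib.FourComm.psi (π x)).range := by
        intro n
        induction n with
        | zero => intro t; rw [pow_zero, (CfsgLib.FourComm.psi_eq_one h2).mpr rfl]; exact one_mem _
        | succ n ih =>
          intro t
          rw [pow_succ, CfsgLib.FourComm.psi_mul (h2 := h2)]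
          exact mul_mem (ih _) ⟨t, rfl⟩
      refine ⟨_, key n ⟨m, hm⟩, ?_⟩
      rw [← map_pow, hn]
      show ((CfsgLib.FourComm.psi (π q) ⟨m, hm⟩ : M) : S) = _
      rw [CfsgLib.FourComm.psi_apply, Subgroup.coe_mul, happ, commutatorElement_def, hinv ⟨m, hm⟩]
  have ha : CfsgLib.FourComm.Four (π x) := by
    refine ⟨?_, ?_⟩
    · rw [← map_pow]
      refine MulEquiv.ext fun m => Subtype.ext ?_
      rw [happ, MulAut.one_apply, ← (Subgroup.mem_centralizer_iff.mp (hQ1 x hxQ)) m m.2, mul_inv_cancel_right]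
    · rw [← Subgroup.card_map_of_injective M.subtype_injective, hW, hQM]
  have hx3 : ∃ n, x ^ 3 ^ n = 1 := by
    obtain ⟨n, hn⟩ := hQ3 ⟨x, hxQ⟩
    exact ⟨n, congrArg Subtype.val hn⟩
  obtain ⟨r, F, hr, hr2, hF, hF3, hFc⟩ := CfsgLib.FourComm.good π h2 ha hx3 hp hp2 hE hE3
  refine ⟨r, F, hr, hr2, hF, hF3, fun hcy => ?_⟩
  have hle : F ⊓ CfsgLib.FourComm.fixer π (CfsgLib.FourComm.psi (π x)).range ≤
      F ⊓ Subgroup.centralizer ((⁅Q, M⁆ : Subgroup S) : Set S) := by
    refine fun f hf => ⟨hf.1, Subgroup.mem_centralizer_iff.mpr fun t ht => ?_⟩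
    rw [← hW] at ht
    obtain ⟨w, hw, rfl⟩ := ht
    have h := congrArg Subtype.val (hf.2 w hw)
    rw [happ] at h
    exact (mul_inv_eq_iff_eq_mul.mp h).symm
  obtain ⟨g, hg⟩ := hcy.exists_generator
  have hb : Nat.card ↥(F ⊓ Subgroup.centralizer ((⁅Q, M⁆ : Subgroup S) : Set S)) ≤ r := by
    rw [← orderOf_eq_card_of_forall_mem_zpowers hg]
    exact Nat.le_of_dvd hr.pos (orderOf_dvd_of_pow_eq_one (Subtype.ext (hF.2 _ g.2.1)))
  have h1 := (hFc.trans (Nat.le_of_dvd Nat.card_pos (Subgroup.card_dvd_of_le hle))).trans hb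
  have : r < r ^ 2 := by nlinarith [hr.two_le]
  omega

end Cfsg.Agent.S4404
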