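import Cfsg.Statements.S4405
import Mathlib
-- import your own Cfsg.Agent.* helpers here

set_option autoImplicit false
open Cfsg

namespace Cfsg.Agent.S4405

open scoped Pointwise

/-- Let G be a finite group of order 320 = 64·5 whose largest normal 2-subgroup H = O₂(G) equals the Fitting subgroup F(G) and is extraspecial of order 32 containing no elementary abelian subgroup of order 8 (so H is the central product of a quaternion group and a dihedral group of order 8). If T is an involution of G outside H whose centralizer in H contains an elementary abelian subgroup of order 4, then C_H(T) itself is elementary abelian of order 4. -/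
theorem result {G : Type*} [Group G] [Finite G]
    (hG : Nat.card G = 320) (hHF : Cfsg.pCore 2 G = Cfsg.fittingSubgroup G)
    (hex : Cfsg.IsExtraspecial 2 ↥(Cfsg.pCore 2 G)) (h32 : Nat.card ↥(Cfsg.pCore 2 G) = 32)
    (hminus : ∀ A : Subgroup G, A ≤ Cfsg.pCore 2 G → Cfsg.IsElementaryAbelian 2 A → Nat.card ↥A ≤ 4)
    (T : G) (hT : orderOf T = 2) (hTH : T ∉ Cfsg.pCore 2 G)
    (V : Subgroup G) (hV : V ≤ Cfsg.pCore 2 G ⊓ Subgroup.centralizer ({T} : Set G)) (hV4 : Nat.card ↥V = 4) (hVe : Cfsg.IsElementaryAbelian 2 V) :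
    Nat.card ↥(Cfsg.pCore 2 G ⊓ Subgroup.centralizer ({T} : Set G)) = 4 ∧
      Cfsg.IsElementaryAbelian 2 (Cfsg.pCore 2 G ⊓ Subgroup.centralizer ({T} : Set G)) := by
  classical
  set H := Cfsg.pCore 2 G with hHdef
  have hHn : H.Normal := Subgroup.sSup_normal _ fun N hN => hN.1
  have h5 : Fact (Nat.Prime 5) := ⟨by norm_num⟩
  have hH2 : IsPGroup 2 H := IsPGroup.of_card (n := 5) (by rw [h32]; norm_num)
  set Z := (Subgroup.center H).map H.subtype with hZdef
  have hZ2 : Nat.card Z = 2 := by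
    rw [hZdef, Subgroup.card_map_of_injective H.subtype_injective]; exact hex.2
  have hZH : Z ≤ H := Subgroup.map_subtype_le _
  have hZmem : ∀ z, z ∈ Z ↔ z ∈ H ∧ ∀ h ∈ H, z * h = h * z := by
    intro z
    constructor
    · rintro ⟨z', hz', rfl⟩
      exact ⟨z'.2, fun h hh => congrArg Subtype.val ((Subgroup.mem_center_iff.mp hz' ⟨h, hh⟩).symm)⟩
    · rintro ⟨hz, hcomm⟩
      exact ⟨⟨z, hz⟩, Subgroup.mem_center_iff.mpr fun h => Subtype.ext (hcomm h h.2).symm, rfl⟩
  have hZn : Z.Normal := by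
    refine ⟨fun z hz g => (hZmem _).mpr ⟨hHn.conj_mem _ (hZH hz) g, fun h hh => ?_⟩⟩
    have h1 := ((hZmem z).mp hz).2 (g⁻¹ * h * g) (by simpa using hHn.conj_mem _ hh g⁻¹)
    calc g * z * g⁻¹ * h = g * (z * (g⁻¹ * h * g)) * g⁻¹ := by group
      _ = h * (g * z * g⁻¹) := by rw [h1]; group
  have hZsq : ∀ z ∈ Z, z ^ 2 = 1 := fun z hz => by
    have : (⟨z, hz⟩ : Z) ^ Nat.card Z = 1 := pow_card_eq_one'
    rw [hZ2] at this; exact congrArg Subtype.val this
  have hZc : ∀ z ∈ Z, ∀ g : G, g * z = z * g := by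
    intro z hz g
    by_cases hz1 : z = 1
    · rw [hz1, mul_one, one_mul]
    have h1 : (⟨z, hz⟩ : Z) = ⟨g * z * g⁻¹, hZn.conj_mem z hz g⟩ := by
      by_contra hne
      have h3 : Nat.card ({1, ⟨z, hz⟩, ⟨g * z * g⁻¹, hZn.conj_mem z hz g⟩} : Set Z) = 3 := by
        rw [Nat.card_coe_set_eq, Set.ncard_insert_of_notMem, Set.ncard_pair hne]
        simp only [Set.mem_insert_iff, Set.mem_singleton_iff, not_or]
        exact ⟨fun e => hz1 (congrArg Subtype.val e.symm),
          fun e => hz1 (conj_eq_one_iff.mp (congrArg Subtype.val e.symm))⟩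
      have := Nat.card_mono (Set.toFinite (Set.univ : Set Z)) (Set.subset_univ
        ({1, ⟨z, hz⟩, ⟨g * z * g⁻¹, hZn.conj_mem z hz g⟩} : Set Z))
      rw [h3, Nat.card_univ, hZ2] at this
      omega
    exact (mul_inv_eq_iff_eq_mul.mp (congrArg Subtype.val h1).symm)
  set π := QuotientGroup.mk' Z with hπ
  have hπ1 : ∀ z, π z = 1 ↔ z ∈ Z := fun z => QuotientGroup.eq_one_iff z
  have hab : ∀ a ∈ H, ∀ b ∈ H, Commute (π a) (π b) := by
    intro a ha b hb
    have h1 : π (a * b * a⁻¹ * b⁻¹) = 1 := (hπ1 _).mpr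
      ⟨(⟨a, ha⟩ : H) * ⟨b, hb⟩ * (⟨a, ha⟩ : H)⁻¹ * (⟨b, hb⟩ : H)⁻¹, hex.1.2.2 ▸ Subgroup.commutator_mem_commutator (Subgroup.mem_top (⟨a, ha⟩ : H)) (Subgroup.mem_top (⟨b, hb⟩ : H)), rfl⟩
    rw [map_mul, map_mul, map_mul, map_inv, map_inv, mul_inv_eq_one, mul_inv_eq_iff_eq_mul] at h1
    exact h1
  have hsqπ : ∀ a ∈ H, π a * π a = 1 := by
    intro a ha
    rw [← map_mul, hπ1, hZmem]
    refine ⟨mul_mem ha ha, fun h hh => ?_⟩
    set z := a⁻¹ * (h * a * h⁻¹) with hz
    have hzZ : z ∈ Z := by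
      rw [← hπ1, hz, map_mul, map_mul, map_mul, map_inv, map_inv, (hab h hh a ha).eq]; group
    have h2 : z * z = 1 := by rw [← pow_two]; exact hZsq z hzZ
    have h4 : h * (a * a) * h⁻¹ = a * a := by
      calc h * (a * a) * h⁻¹ = a * (z * a) * z := by rw [hz]; group
        _ = (a * a) * (z * z) := by rw [← hZc z hzZ a]; group
        _ = a * a := by rw [h2, mul_one]
    exact (mul_inv_eq_iff_eq_mul.mp h4).symm
  -- coprime lifting
  have hlift : ∀ g : G, g ^ 5 = 1 → ∀ h : G, Commute (π g) (π h) → Commute g h := by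
    intro g hg h hc
    set e := h⁻¹ * (g * h * g⁻¹) with hedef
    have he : e ∈ Z := by
      rw [← hπ1, hedef, map_mul, map_mul, map_mul, map_inv, map_inv, hc.eq]; group
    have hgh : g * h * g⁻¹ = h * e := by rw [hedef]; group
    have hiter : ∀ m : ℕ, g ^ m * h * (g ^ m)⁻¹ = h * e ^ m := by
      intro m
      induction m with
      | zero => simp
      | succ m ihm =>
        calc g ^ (m + 1) * h * (g ^ (m + 1))⁻¹ = g * (g ^ m * h * (g ^ m)⁻¹) * g⁻¹ := by rw [pow_succ']; group
          _ = g * h * (e ^ m * g⁻¹) := by rw [ihm]; group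
          _ = g * h * (g⁻¹ * e ^ m) := by rw [hZc _ (pow_mem he m) g⁻¹]
          _ = h * e ^ (m + 1) := by rw [← mul_assoc, hgh, pow_succ']; group
    have h1 := hiter 5
    rw [hg, one_mul, inv_one, mul_one, left_eq_mul] at h1
    have he1 : e = 1 := by
      have h2 := hZsq e he
      calc e = e ^ 5 * ((e ^ 2) ^ 2)⁻¹ := by group
        _ = 1 := by rw [h1, h2, one_pow, inv_one, one_mul]
    rw [he1, mul_one] at hgh
    exact mul_inv_eq_iff_eq_mul.mp hgh
  -- the subgroup of index two
  have hM : ∀ g : G, orderOf g = 5 → (H ⊔ Subgroup.zpowers g).index = 2 := by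
    intro g hg
    have h1 : 32 ∣ Nat.card ↥(H ⊔ Subgroup.zpowers g) := h32 ▸ Subgroup.card_dvd_of_le le_sup_left
    have h2 : 5 ∣ Nat.card ↥(H ⊔ Subgroup.zpowers g) := by
      rw [← hg, ← Nat.card_zpowers g]; exact Subgroup.card_dvd_of_le le_sup_right
    have h3 : Nat.card ↥(H ⊔ Subgroup.zpowers g) ≤ 160 := by
      rw [← SetLike.coe_sort_coe, Subgroup.normal_mul]
      have h4 := Nat.card_le_card_of_surjective (fun x : H × Subgroup.zpowers g =>
        (⟨(x.1 : G) * x.2, Set.mul_mem_mul x.1.2 x.2.2⟩ : ↥((H : Set G) * (Subgroup.zpowers g : Set G))))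
        (by rintro ⟨_, a, ha, c, hc, rfl⟩; exact ⟨(⟨a, ha⟩, ⟨c, hc⟩), rfl⟩)
      rwa [Nat.card_prod, h32, Nat.card_zpowers, hg] at h4
    have h4 : Nat.card ↥(H ⊔ Subgroup.zpowers g) = 160 := by
      have := Nat.le_of_dvd Nat.card_pos (Nat.Coprime.mul_dvd_of_dvd_of_dvd (by norm_num : Nat.Coprime 32 5) h1 h2)
      omega
    have := (H ⊔ Subgroup.zpowers g).card_mul_index
    rw [h4, hG] at this; omega
  have h5H : ∀ g : G, orderOf g = 5 → g ∉ H := fun g hg hgH => by
    have := Subgroup.orderOf_dvd_natCard H hgH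
    rw [hg, h32] at this; omega
  have hcen5 : ∀ g : G, orderOf g = 5 → ¬ ∀ h ∈ H, Commute g h := by
    intro g hg hc
    apply h5H g hg
    let P : Sylow 5 G := Sylow.ofCard (Subgroup.zpowers g) (by
      rw [Nat.card_zpowers, hg, hG, show (320 : ℕ) = 5 ^ 1 * 64 by norm_num,
        Nat.factorization_mul (by norm_num) (by norm_num), Finsupp.add_apply,
        h5.out.factorization_pow, Finsupp.single_eq_same,
        Nat.factorization_eq_zero_of_not_dvd (by norm_num : ¬ 5 ∣ 64)]; norm_num)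
    have hPcoe : (P : Subgroup G) = Subgroup.zpowers g := Sylow.coe_ofCard _ _
    have hle : H ⊔ Subgroup.zpowers g ≤ Subgroup.normalizer ((P : Subgroup G) : Set G) := by
      rw [hPcoe]
      refine sup_le (fun h hh => Subgroup.centralizer_le_normalizer _ ?_) Subgroup.le_normalizer
      refine Subgroup.mem_centralizer_iff.mpr ?_
      rintro _ ⟨i, rfl⟩
      exact ((hc h hh).zpow_left i).eq
    have h1 : (Subgroup.normalizer ((P : Subgroup G) : Set G)).index ∣ 2 := hM g hg ▸ Subgroup.index_dvd_of_le hle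
    replace h1 : Nat.card (Sylow 5 G) ∣ 2 := P.card_eq_index_normalizer ▸ h1
    have h2 := card_sylow_modEq_one 5 G
    have h3 : Nat.card (Sylow 5 G) = 1 := by
      rcases (Nat.dvd_prime Nat.prime_two).mp h1 with e | e
      · exact e
      · rw [e, Nat.ModEq] at h2; omega
    replace h3 : (Subgroup.zpowers g).Normal := by
      rw [← Subgroup.normalizer_eq_top_iff, ← hPcoe, ← Subgroup.index_eq_one]
      exact P.card_eq_index_normalizer.symm.trans h3
    have : Subgroup.zpowers g ≤ Cfsg.fittingSubgroup G := le_sSup ⟨h3, hPcoe ▸ P.isPGroup'.isNilpotent⟩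
    rw [← hHF] at this
    exact this (Subgroup.mem_zpowers g)
  have hmodS : ∀ g : G, orderOf g = 5 → ∀ S : Subgroup G, (∀ s ∈ S, g * s * g⁻¹ ∈ S) →
      Nat.card S ≡ Nat.card ↥(S ⊓ Subgroup.centralizer ({g} : Set G)) [MOD 5] := by
    intro g hg S hinv
    have hgn : g ^ 5 = 1 := by rw [← hg]; exact pow_orderOf_eq_one g
    have hinv' : ∀ i : ℕ, ∀ s ∈ S, g ^ i * s * (g ^ i)⁻¹ ∈ S := by
      intro i
      induction i with
      | zero => intro s hs; simpa using hs
      | succ i ih =>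
        intro s hs
        rw [show g ^ (i + 1) * s * (g ^ (i + 1))⁻¹ = g * (g ^ i * s * (g ^ i)⁻¹) * g⁻¹ by rw [pow_succ']; group]
        exact hinv _ (ih s hs)
    have hnat : ∀ a : Subgroup.zpowers g, ∃ i : ℕ, g ^ i = (a : G) := fun a =>
      (mem_powers_iff_mem_zpowers (x := g) (y := (a : G))).mpr a.2
    letI act : MulAction (Subgroup.zpowers g) S :=
      { smul := fun a s => ⟨(a : G) * s * (a : G)⁻¹, by obtain ⟨i, hi⟩ := hnat a; rw [← hi]; exact hinv' i s s.2⟩
        one_smul := fun s => Subtype.ext (show ((1 : Subgroup.zpowers g) : G) * (s : G) * ((1 : Subgroup.zpowers g) : G)⁻¹ = s by simp)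
        mul_smul := fun a b s => Subtype.ext (show ((a * b : Subgroup.zpowers g) : G) * (s : G) * ((a * b : Subgroup.zpowers g) : G)⁻¹ =
          (a : G) * ((b : G) * s * (b : G)⁻¹) * (a : G)⁻¹ by rw [Subgroup.coe_mul]; group) }
    have hp : IsPGroup 5 (Subgroup.zpowers g) := IsPGroup.of_card (n := 1) (by rw [Nat.card_zpowers, hg, pow_one])
    have hmod := hp.card_modEq_card_fixedPoints (α := S)
    set E := S ⊓ Subgroup.centralizer ({g} : Set G) with hE
    have hEcard : Nat.card (MulAction.fixedPoints (Subgroup.zpowers g) S) = Nat.card E := by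
      refine Nat.card_congr ⟨fun s => ⟨(s : S), (s : S).2, ?_⟩, fun s => ⟨⟨s, s.2.1⟩, ?_⟩,
        fun s => rfl, fun s => rfl⟩
      · have := congrArg Subtype.val (s.2 ⟨g, Subgroup.mem_zpowers g⟩)
        exact Subgroup.mem_centralizer_singleton_iff.mpr (mul_inv_eq_iff_eq_mul.mp this).symm
      · rintro ⟨a, i, rfl⟩
        refine Subtype.ext (mul_inv_eq_iff_eq_mul.mpr ?_)
        exact ((show Commute g (s : G) from (Subgroup.mem_centralizer_singleton_iff.mp s.2.2).symm).zpow_left i).eq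
    rwa [hEcard] at hmod
  have hdvd32 : ∀ S : Subgroup G, S ≤ H → ∃ i, i ≤ 5 ∧ Nat.card S = 2 ^ i := fun S hS =>
    (Nat.dvd_prime_pow Nat.prime_two).mp (show Nat.card S ∣ 2 ^ 5 by norm_num; exact h32 ▸ Subgroup.card_dvd_of_le hS)
  have hCg : ∀ g : G, orderOf g = 5 → Nat.card ↥(H ⊓ Subgroup.centralizer ({g} : Set G)) = 2 := by
    intro g hg
    obtain ⟨i, hi, hi'⟩ := hdvd32 _ (inf_le_left : H ⊓ Subgroup.centralizer ({g} : Set G) ≤ H)
    have h2 : 2 ≤ Nat.card ↥(H ⊓ Subgroup.centralizer ({g} : Set G)) := by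
      rw [← hZ2]
      exact Nat.le_of_dvd Nat.card_pos (Subgroup.card_dvd_of_le fun z hz =>
        ⟨hZH hz, Subgroup.mem_centralizer_singleton_iff.mpr (hZc z hz g).symm⟩)
    have hm := hmodS g hg H fun s hs => hHn.conj_mem s hs g
    rw [h32, hi', Nat.ModEq] at hm
    rw [hi'] at h2 ⊢
    rcases eq_or_ne i 5 with rfl | hne
    · refine absurd (fun h hh => ?_) (hcen5 g hg)
      have hEq : H ⊓ Subgroup.centralizer ({g} : Set G) = H :=
        Subgroup.eq_of_le_of_card_ge inf_le_left (by rw [h32, hi']; norm_num)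
      rw [← hEq] at hh
      exact (Subgroup.mem_centralizer_singleton_iff.mp hh.2).symm
    · interval_cases i <;> first | rfl | omega
  -- elements of order five are fixed-point-free modulo `Z`
  have hfix : ∀ g : G, orderOf g = 5 → ∀ S : Subgroup G, S ≤ H → Z ≤ S → (∀ s ∈ S, g * s * g⁻¹ ∈ S) →
      Nat.card S = 2 ∨ S = H := by
    intro g hg S hSH hZS hinv
    have hm := hmodS g hg S hinv
    obtain ⟨j, hj, hj'⟩ := hdvd32 S hSH
    have h2 : Nat.card ↥(S ⊓ Subgroup.centralizer ({g} : Set G)) = 2 := by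
      refine le_antisymm ?_ ?_
      · rw [← hCg g hg]
        exact Nat.le_of_dvd Nat.card_pos (Subgroup.card_dvd_of_le (inf_le_inf_right _ hSH))
      · rw [← hZ2]
        exact Nat.le_of_dvd Nat.card_pos (Subgroup.card_dvd_of_le fun z hz =>
          ⟨hZS hz, Subgroup.mem_centralizer_singleton_iff.mpr (hZc z hz g).symm⟩)
    rw [h2, hj', Nat.ModEq] at hm
    rcases eq_or_ne j 5 with rfl | hj5
    · exact Or.inr (Subgroup.eq_of_le_of_card_ge hSH (by rw [h32, hj']; norm_num))
    left
    rw [hj']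
    interval_cases j <;> first | rfl | omega
  -- fixed space of `T` modulo `Z`
  have hT2 : T * T = 1 := by rw [← pow_two, ← hT]; exact pow_orderOf_eq_one T
  have hTi : T⁻¹ = T := inv_eq_of_mul_eq_one_right hT2
  let F : G → Subgroup G := fun t => H ⊓ (Subgroup.centralizer ({π t} : Set (G ⧸ Z))).comap π
  have hFmem : ∀ t h, h ∈ F t ↔ h ∈ H ∧ Commute (π h) (π t) := fun t h => by
    show h ∈ H ∧ π h ∈ Subgroup.centralizer ({π t} : Set (G ⧸ Z)) ↔ _
    rw [Subgroup.mem_centralizer_singleton_iff]; rfl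
  have hZF : ∀ t, Z ≤ F t := fun t z hz => (hFmem t z).mpr ⟨hZH hz, by rw [(hπ1 z).mpr hz]; exact Commute.one_left _⟩
  -- `T` is not central modulo `Z`
  have hTne : F T ≠ H := by
    intro e
    set K := (Subgroup.centralizer ((H.map π : Subgroup (G ⧸ Z)) : Set (G ⧸ Z))).comap π with hK
    have hKmem : ∀ g, g ∈ K ↔ ∀ h ∈ H, Commute (π g) (π h) := by
      intro g
      rw [hK, Subgroup.mem_comap, Subgroup.mem_centralizer_iff]
      exact ⟨fun h1 h hh => (h1 _ ⟨h, hh, rfl⟩).symm, by rintro h1 _ ⟨h, hh, rfl⟩; exact (h1 h hh).eq.symm⟩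
    have hKn : K.Normal := by
      have : (H.map π).Normal := hHn.map π (QuotientGroup.mk'_surjective Z)
      rw [hK]; infer_instance
    have hKdvd : Nat.card K ∣ 320 := hG ▸ K.card_subgroup_dvd_card
    have hK5 : ¬ 5 ∣ Nat.card K := by
      intro hd
      obtain ⟨g, hg⟩ := exists_prime_orderOf_dvd_card' (G := K) 5 hd
      have hg' : orderOf (g : G) = 5 := by rw [Subgroup.orderOf_coe, hg]
      exact hcen5 _ hg' fun h hh =>
        hlift _ (by rw [← hg']; exact pow_orderOf_eq_one _) h ((hKmem _).mp g.2 h hh)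
    have hKp : IsPGroup 2 K := by
      have h64 : Nat.card K ∣ 2 ^ 6 :=
        (Nat.Coprime.symm ((Nat.Prime.coprime_iff_not_dvd h5.out).mpr hK5)).dvd_of_dvd_mul_left
          (show Nat.card K ∣ 5 * 2 ^ 6 by norm_num; exact hKdvd)
      obtain ⟨i, -, hi⟩ := (Nat.dvd_prime_pow Nat.prime_two).mp h64
      exact IsPGroup.of_card hi
    have hKH : K ≤ H := le_sSup ⟨hKn, hKp⟩
    exact hTH (hKH ((hKmem T).mpr fun h hh => ((hFmem T h).mp (e.symm ▸ hh)).2.symm))
  -- the map `h ↦ [h, T]` modulo `Z`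
  have hTh : ∀ h ∈ H, T * h * T ∈ H := fun h hh => by
    have := hHn.conj_mem h hh T; rwa [hTi] at this
  let φ : H →* G ⧸ Z := MonoidHom.mk' (fun h => π ((h : G)⁻¹ * (T * h * T))) fun a b => by
    have h1 : (((a * b : H) : G))⁻¹ * (T * ((a * b : H) : G) * T) =
        (b : G)⁻¹ * ((a : G)⁻¹ * (T * a * T)) * (T * b * T) := by
      rw [Subgroup.coe_mul, mul_inv_rev]
      calc (b : G)⁻¹ * (a : G)⁻¹ * (T * ((a : G) * b) * T) = (b : G)⁻¹ * (a : G)⁻¹ * (T * a * (T * T) * b * T) := by
            rw [hT2]; group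
        _ = _ := by group
    show π _ = π _ * π _
    have e := hab _ (inv_mem b.2) _ (mul_mem (inv_mem a.2) (hTh a a.2))
    rw [h1, map_mul π _ (T * (b : G) * T), map_mul π (b : G)⁻¹ _, e.eq, mul_assoc, ← map_mul π (b : G)⁻¹]
  have hφker : φ.ker.map H.subtype = F T := by
    ext h
    rw [hFmem]
    constructor
    · rintro ⟨h', hh', rfl⟩
      refine ⟨h'.2, ?_⟩
      have h1 : π ((h' : G)⁻¹ * (T * h' * T)) = 1 := hh'
      rw [map_mul, map_inv, inv_mul_eq_one, map_mul, map_mul] at h1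
      show π (h' : G) * π T = π T * π (h' : G)
      nth_rewrite 1 [h1]
      rw [mul_assoc, ← map_mul π T T, hT2, map_one, mul_one]
    · rintro ⟨hh, hc⟩
      refine ⟨⟨h, hh⟩, ?_, rfl⟩
      show π (h⁻¹ * (T * h * T)) = 1
      rw [map_mul, map_inv, inv_mul_eq_one, map_mul, map_mul, ← hc.eq, mul_assoc, ← map_mul π T T, hT2, map_one, mul_one]
  have hφr : φ.range ≤ (F T).map π := by
    rintro _ ⟨h, rfl⟩
    refine ⟨(h : G)⁻¹ * (T * h * T), (hFmem T _).mpr ⟨mul_mem (inv_mem h.2) (hTh h h.2), ?_⟩, rfl⟩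
    have hc := hab _ (inv_mem h.2) _ (hTh h h.2)
    show π _ * π T = π T * π _
    set y := (h : G)⁻¹ * (T * h * T) with hy
    have hyH : y ∈ H := mul_mem (inv_mem h.2) (hTh h h.2)
    have hTyT : T * y * T * y = 1 := by
      calc T * y * T * y = T * (h : G)⁻¹ * T * h * (T * T) * (h : G)⁻¹ * (T * h * T) := by rw [hy]; group
        _ = T * (h : G)⁻¹ * (T * T) * h * T := by nth_rewrite 1 [hT2]; group
        _ = T * T := by nth_rewrite 1 [hT2]; group
        _ = 1 := hT2

    have h1 : π T * π y * π T = π y := by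
      have h2 : π T * π y * π T * π y = 1 := by
        rw [← map_mul, ← map_mul, ← map_mul, hTyT, map_one]
      exact mul_right_cancel (h2.trans (hsqπ y hyH).symm)
    calc π y * π T = π T * π y * (π T * π T) := by nth_rewrite 1 [← h1]; group
      _ = π T * π y := by rw [← map_mul π T T, hT2, map_one, mul_one]
  have hcardF : Nat.card φ.ker = Nat.card (F T) := by
    rw [← hφker, Subgroup.card_map_of_injective H.subtype_injective]
  have hcard1 : Nat.card (F T) * Nat.card φ.range = 32 := by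
    rw [← hcardF, ← Subgroup.index_ker, Subgroup.card_mul_index, h32]
  have hcard2 : ∀ S : Subgroup G, Z ≤ S → 2 * Nat.card (S.map π) = Nat.card S := by
    intro S hS
    have h1 : (S.map π).index = S.index :=
      Subgroup.index_map_eq _ (QuotientGroup.mk'_surjective Z) (by rwa [QuotientGroup.ker_mk'])
    have h2 := (S.map π).card_mul_index
    rw [h1] at h2
    have h3 := Subgroup.card_eq_card_quotient_mul_card_subgroup Z
    rw [← h2, hZ2, ← S.card_mul_index] at h3
    exact Nat.eq_of_mul_eq_mul_right (Nat.pos_of_ne_zero (Subgroup.index_ne_zero_of_finite (H := S)))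
      (by rw [h3]; ring)
  have hrle : Nat.card φ.range ≤ Nat.card ((F T).map π) := Nat.le_of_dvd Nat.card_pos (Subgroup.card_dvd_of_le hφr)
  have hFm := hcard2 _ (hZF T)
  obtain ⟨g₀, hg₀⟩ := exists_prime_orderOf_dvd_card' (G := G) 5 (by rw [hG]; norm_num)
  -- the fixed space has order eight
  have hF8 : Nat.card (F T) = 8 := by
    set T' := g₀ * T * g₀⁻¹ with hT'
    have hconjπ : ∀ a b : G, Commute (π a) (π b) → ∀ x : G, Commute (π (x * a * x⁻¹)) (π (x * b * x⁻¹)) := by
      intro a b hc x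
      simpa using hc.map (MulAut.conj (π x)).toMonoidHom
    have hF' : ∀ h, h ∈ F T → g₀ * h * g₀⁻¹ ∈ F T' := fun h hh =>
      (hFmem _ _).mpr ⟨hHn.conj_mem _ ((hFmem _ _).mp hh).1 _, hconjπ _ _ ((hFmem _ _).mp hh).2 g₀⟩
    set M := H ⊔ Subgroup.zpowers g₀ with hMdef
    have hMn : M.Normal := Subgroup.normal_of_index_eq_two (hM g₀ hg₀)
    set e := T * T' with hedef
    have heM : e ∈ M := by
      have hg₀M : g₀ ∈ M := le_sup_right (α := Subgroup G) (Subgroup.mem_zpowers g₀)
      rw [hedef, hT', show T * (g₀ * T * g₀⁻¹) = (T * g₀ * T⁻¹) * g₀⁻¹ by rw [hTi]; group]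
      exact mul_mem (hMn.conj_mem _ hg₀M T) (inv_mem hg₀M)
    rcases Classical.em (5 ∣ orderOf e) with hd | hd
    · -- `F T ⊓ F T' = Z`
      set g := e ^ (orderOf e / 5) with hgdef
      have hg : orderOf g = 5 := orderOf_pow_orderOf_div (orderOf_pos e).ne' hd
      have hD : F T ⊓ F T' ≤ Z := by
        set S := H ⊓ (Subgroup.centralizer ({π g} : Set (G ⧸ Z))).comap π with hS
        have hSg : S ≤ F g := le_rfl
        have hDS : F T ⊓ F T' ≤ S := fun h hh => (hFmem g h).mpr ⟨((hFmem T h).mp hh.1).1, by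
          rw [hgdef, map_pow, hedef, map_mul]
          exact (((hFmem T h).mp hh.1).2.mul_right ((hFmem T' h).mp hh.2).2).pow_right _⟩
        have hgS : ∀ s ∈ S, g * s * g⁻¹ ∈ S := fun s hs => (hFmem g _).mpr ⟨hHn.conj_mem _ ((hFmem g s).mp hs).1 g, by
          simpa using hconjπ _ _ ((hFmem g s).mp hs).2 g⟩
        rcases hfix g hg S inf_le_left (hZF g) hgS with h2 | h2
        · have : Z = S := Subgroup.eq_of_le_of_card_ge (hZF g) (by rw [h2, hZ2])
          rw [this]; exact hDS
        · exact absurd (fun h hh => hlift g (by rw [← hg]; exact pow_orderOf_eq_one g) h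
            ((hFmem g h).mp (h2.symm ▸ hh : h ∈ S)).2.symm) (hcen5 g hg)
      have hFc : Nat.card (F T) ≤ Nat.card (F T') :=
        Nat.card_le_card_of_injective (fun h : F T => (⟨_, hF' h h.2⟩ : F T')) fun a b hab' =>
          Subtype.ext (by simpa using congrArg Subtype.val hab')
      have hbound : Nat.card (F T) * Nat.card (F T') ≤ 32 * 2 := by
        have h1 := Subgroup.card_mul_index ((F T ⊓ F T').subgroupOf (F T))
        have h2 : (F T ⊓ F T').relIndex (F T) ≤ (F T').relIndex H := by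
          rw [Subgroup.inf_relIndex_left]
          exact Subgroup.relIndex_le_of_le_right inf_le_left Subgroup.index_ne_zero_of_finite
        have h3 : (F T').relIndex H * Nat.card (F T') = 32 := by
          rw [mul_comm, ← Subgroup.relIndex_bot_left, Subgroup.relIndex_mul_relIndex _ _ _ bot_le inf_le_left,
            Subgroup.relIndex_bot_left, h32]
        have h4 : Nat.card ((F T ⊓ F T').subgroupOf (F T)) ≤ 2 := by
          rw [← hZ2, Nat.card_congr (Subgroup.subgroupOfEquivOfLe (inf_le_left : F T ⊓ F T' ≤ F T)).toEquiv]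
          exact Nat.le_of_dvd Nat.card_pos (Subgroup.card_dvd_of_le hD)
        calc Nat.card (F T) * Nat.card (F T') =
            (Nat.card ((F T ⊓ F T').subgroupOf (F T)) * (F T ⊓ F T').relIndex (F T)) * Nat.card (F T') :=
              congrArg (· * _) h1.symm
          _ ≤ 2 * (F T').relIndex H * Nat.card (F T') := Nat.mul_le_mul_right _ (Nat.mul_le_mul h4 h2)
          _ = 32 * 2 := by rw [mul_assoc, h3, mul_comm]
      obtain ⟨i, hi, hi'⟩ := (Nat.dvd_prime_pow Nat.prime_two).mp
        (show Nat.card (F T) ∣ 2 ^ 5 by norm_num; exact h32 ▸ Subgroup.card_dvd_of_le inf_le_left)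
      rw [hi'] at hFm hcard1 hFc hbound ⊢
      generalize Nat.card φ.range = r at hcard1 hrle
      generalize Nat.card ((F T).map π) = m at hFm hrle
      interval_cases i
      all_goals first | rfl | omega | nlinarith
    · exfalso
      -- `e` is a `2`-element of `M`, so lies in `H`
      have heH : e ∈ H := by
        have : Fact (Nat.Prime 2) := ⟨Nat.prime_two⟩
        have h1 : orderOf (e : G ⧸ H) ∣ 10 := by
          have := orderOf_dvd_natCard (e : G ⧸ H)
          rwa [← Subgroup.index_eq_card, show H.index = 10 by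
            have := H.card_mul_index; rw [h32, hG] at this; omega] at this
        set Mb := M.map (QuotientGroup.mk' H) with hMb
        have h2 : orderOf (e : G ⧸ H) ∣ 5 := by
          have h3 : orderOf (⟨(e : G ⧸ H), Subgroup.mem_map_of_mem _ heM⟩ : Mb) ∣ Nat.card Mb := orderOf_dvd_natCard _
          have h4 : Mb.index = 2 := by
            rw [hMb, Subgroup.index_map_eq _ (QuotientGroup.mk'_surjective H) (by rw [QuotientGroup.ker_mk']; exact le_sup_left), hM g₀ hg₀]
          have h5' := Mb.card_mul_index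
          rw [h4, ← Subgroup.index_eq_card, show H.index = 10 by
            have := H.card_mul_index; rw [h32, hG] at this; omega] at h5'
          replace h3 : orderOf (e : G ⧸ H) ∣ Nat.card Mb := by
            rw [← Subgroup.orderOf_coe] at h3
            exact h3
          rwa [show Nat.card Mb = 5 by omega] at h3
        rcases (Nat.dvd_prime h5.out).mp h2 with e1 | e1
        · exact (QuotientGroup.eq_one_iff e).mp (orderOf_eq_one_iff.mp e1)
        · exact absurd (e1 ▸ orderOf_map_dvd (QuotientGroup.mk' H) e) hd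
      have hinv : ∀ s ∈ F T, g₀ * s * g₀⁻¹ ∈ F T := by
        intro s hs
        obtain ⟨h1, h2⟩ := (hFmem T' _).mp (hF' s hs)
        refine (hFmem T _).mpr ⟨h1, ?_⟩
        have h3 := (hab _ h1 _ heH).mul_right h2.inv_right
        rwa [hedef, map_mul π T T', mul_inv_cancel_right] at h3
      rcases hfix g₀ hg₀ (F T) inf_le_left (hZF T) hinv with h2 | h2
      · rw [h2] at hFm hcard1; omega
      · exact hTne h2
  set C := H ⊓ Subgroup.centralizer ({T} : Set G) with hC
  have hCF : C ≤ F T := fun c hc => (hFmem T c).mpr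
    ⟨hc.1, (show Commute c T from Subgroup.mem_centralizer_singleton_iff.mp hc.2).map π⟩
  have hCV : 4 ≤ Nat.card C := hV4 ▸ Nat.le_of_dvd Nat.card_pos (Subgroup.card_dvd_of_le hV)
  obtain ⟨i, hi, hi'⟩ := (Nat.dvd_prime_pow Nat.prime_two).mp
    (show Nat.card C ∣ 2 ^ 3 by norm_num; exact hF8 ▸ Subgroup.card_dvd_of_le hCF)
  rcases Nat.lt_or_ge i 3 with hlt | hge
  · have hC4 : Nat.card C = 4 := by
      rw [hi'] at hCV ⊢; interval_cases i <;> first | rfl | omega
    have : V = C := Subgroup.eq_of_le_of_card_ge hV (by rw [hV4, hC4])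
    exact ⟨hC4, this ▸ hVe⟩
  · exfalso
    have hCeq : C = F T := Subgroup.eq_of_le_of_card_ge hCF (by
      rw [hF8, hi', show i = 3 by omega]; norm_num)
    have hr : φ.range = (F T).map π := Subgroup.eq_of_le_of_card_ge hφr (by
      rw [hF8] at hcard1 hFm; omega)
    have hsq : ∀ c ∈ C, c ^ 2 = 1 := by
      intro c hc
      obtain ⟨h, hh⟩ : π c ∈ φ.range := hr ▸ Subgroup.mem_map_of_mem π (hCF hc)
      have hh' : π ((h : G)⁻¹ * (T * h * T)) = π c := hh
      obtain ⟨z, hz, hcz⟩ : ∃ z ∈ Z, c = (h : G)⁻¹ * (T * h * T) * z := by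
        refine ⟨((h : G)⁻¹ * (T * h * T))⁻¹ * c, ?_, by group⟩
        rw [← hπ1, map_mul, map_inv, hh', inv_mul_cancel]
      have hTc : T * c * T = c := by
        rw [← (show Commute c T from Subgroup.mem_centralizer_singleton_iff.mp hc.2).eq, mul_assoc, hT2, mul_one]
      have hzz : z⁻¹ = z := inv_eq_of_mul_eq_one_right (by rw [← pow_two]; exact hZsq z hz)
      have h1 : T * c * T = c⁻¹ := by
        rw [hcz, mul_inv_rev, mul_inv_rev, mul_inv_rev, mul_inv_rev, inv_inv, hzz, hTi]
        calc T * ((h : G)⁻¹ * (T * h * T) * z) * T = T * (h : G)⁻¹ * T * h * T * (z * T) := by group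
          _ = T * (h : G)⁻¹ * T * h * (T * T) * z := by rw [← hZc z hz T]; group
          _ = z * (T * ((h : G)⁻¹ * T) * h) := by rw [hT2, mul_one, hZc z hz]; group
      rw [hTc] at h1
      rw [pow_two]
      nth_rewrite 1 [h1]
      exact inv_mul_cancel c
    have hel : Cfsg.IsElementaryAbelian 2 C := by
      refine ⟨⟨⟨fun a b => Subtype.ext ?_⟩⟩, hsq⟩
      have := hsq _ (mul_mem a.2 b.2)
      have ha := hsq _ a.2
      have hb := hsq _ b.2
      rw [pow_two] at this ha hb
      calc (a : G) * b = ((a : G) * b)⁻¹ := (inv_eq_of_mul_eq_one_right this).symm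
        _ = (b : G) * a := by rw [mul_inv_rev, inv_eq_of_mul_eq_one_right ha, inv_eq_of_mul_eq_one_right hb]
    have := hminus C inf_le_left hel
    rw [hCeq, hF8] at this
    omega

end Cfsg.Agent.S4405
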