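import Cfsg.Statements.S4406
import Mathlib
-- import your own Cfsg.Agent.* helpers here

set_option autoImplicit false
open Cfsg

namespace Cfsg.Agent.S4406

abbrev A4 := ↥(alternatingGroup (Fin 4))

theorem eq_of_mul_eq_one' {u v : A4 × A4} (h1 : u.1 * u.1 = 1) (h2 : u.2 * u.2 = 1) (h : u * v = 1) : v = u := by
  have hu : u * u = 1 := Prod.ext h1 h2
  rw [← inv_eq_of_mul_eq_one_right h, inv_eq_of_mul_eq_one_right hu]

/-- The three pairs determined by two pairs of involutions. -/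
abbrev trip (u1 u2 v1 v2 : A4) (w : A4 × A4) : Prop := w = (u1, u2) ∨ w = (v1, v2) ∨ w = (u1, u2) * (v1, v2)

abbrev stab (a b u1 u2 v1 v2 : A4) : Prop :=
  trip u1 u2 v1 v2 ((a, b) * (u1, u2) * (a, b)⁻¹) ∧ trip u1 u2 v1 v2 ((a, b) * (v1, v2) * (a, b)⁻¹) ∧
    trip u1 u2 v1 v2 ((a, b) * ((u1, u2) * (v1, v2)) * (a, b)⁻¹)

set_option maxRecDepth 4000 in
set_option synthInstance.maxSize 4000 in
set_option maxSynthPendingDepth 8 in
theorem stab_or : ∀ a b : A4, a ^ 3 = 1 → a ≠ 1 → b ^ 3 = 1 → b ≠ 1 →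
    ∀ u1 : A4, u1 * u1 = 1 → u1 ≠ 1 → ∀ u2 : A4, u2 * u2 = 1 → u2 ≠ 1 →
    ∀ v1 : A4, v1 * v1 = 1 → v1 ≠ 1 → v1 ≠ u1 → ∀ v2 : A4, v2 * v2 = 1 → v2 ≠ 1 → v2 ≠ u2 →
      stab a b u1 u2 v1 v2 ∨ stab a b⁻¹ u1 u2 v1 v2 := by
  decide +kernel

/-- In the direct product P = A₄ × A₄, let X be the Sylow 2-subgroup, X₁ and X₂ its intersections with the two direct factors, Q a Sylow 3-subgroup and Q₁, Q₂ its intersections with the two factors. Then every subgroup B of X of order 4 either meets X₁ or X₂ nontrivially, or is normalized by one of the two subgroups of Q of order 3 other than Q₁ and Q₂. -/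
theorem result
    (X : Sylow 2 (↥(alternatingGroup (Fin 4)) × ↥(alternatingGroup (Fin 4))))
    (Q : Sylow 3 (↥(alternatingGroup (Fin 4)) × ↥(alternatingGroup (Fin 4))))
    (B : Subgroup (↥(alternatingGroup (Fin 4)) × ↥(alternatingGroup (Fin 4)))) (hBX : B ≤ (X : Subgroup _)) (hB4 : Nat.card ↥B = 4) :
    B ⊓ ((X : Subgroup _) ⊓ Subgroup.prod ⊤ ⊥) ≠ ⊥ ∨ B ⊓ ((X : Subgroup _) ⊓ Subgroup.prod ⊥ ⊤) ≠ ⊥ ∨
      ∃ R : Subgroup (↥(alternatingGroup (Fin 4)) × ↥(alternatingGroup (Fin 4))), R ≤ (Q : Subgroup _) ∧ Nat.card ↥R = 3 ∧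
        R ≠ (Q : Subgroup _) ⊓ Subgroup.prod ⊤ ⊥ ∧ R ≠ (Q : Subgroup _) ⊓ Subgroup.prod ⊥ ⊤ ∧ R ≤ Subgroup.normalizer (B : Set _) := by
  classical
  by_cases h1 : B ⊓ ((X : Subgroup _) ⊓ Subgroup.prod ⊤ ⊥) ≠ ⊥
  · exact Or.inl h1
  by_cases h2 : B ⊓ ((X : Subgroup _) ⊓ Subgroup.prod ⊥ ⊤) ≠ ⊥
  · exact Or.inr (Or.inl h2)
  push Not at h1 h2
  right; right
  rw [← inf_assoc, inf_eq_left.mpr hBX] at h1 h2
  have hk1 : ∀ x ∈ B, x.2 = 1 → x = 1 := fun x hx he => by
    have : x ∈ B ⊓ Subgroup.prod ⊤ ⊥ := Subgroup.mem_inf.mpr ⟨hx, Subgroup.mem_prod.mpr ⟨trivial, Subgroup.mem_bot.mpr he⟩⟩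
    rw [h1] at this; exact Subgroup.mem_bot.mp this
  have hk2 : ∀ x ∈ B, x.1 = 1 → x = 1 := fun x hx he => by
    have : x ∈ B ⊓ Subgroup.prod ⊥ ⊤ := Subgroup.mem_inf.mpr ⟨hx, Subgroup.mem_prod.mpr ⟨Subgroup.mem_bot.mpr he, trivial⟩⟩
    rw [h2] at this; exact Subgroup.mem_bot.mp this
  have hsq : ∀ x ∈ B, x.1 * x.1 = 1 ∧ x.2 * x.2 = 1 := by
    have hd : ∀ u : A4, u ^ 4 = 1 → u * u = 1 := by decide +kernel
    intro x hx
    have h4 : x ^ 4 = 1 := by
      have := pow_card_eq_one' (x := (⟨x, hx⟩ : B))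
      rw [hB4] at this
      exact congrArg Subtype.val this
    exact ⟨hd _ (congrArg Prod.fst h4), hd _ (congrArg Prod.snd h4)⟩
  have := Fintype.ofFinite B
  obtain ⟨u, hu⟩ : ∃ u : B, u ≠ 1 := by
    have : Nontrivial B := by rw [← Finite.one_lt_card_iff_nontrivial, hB4]; norm_num
    exact exists_ne 1
  obtain ⟨v, hv, hvu⟩ : ∃ v : B, v ≠ 1 ∧ v ≠ u := by
    by_contra hcon
    push Not at hcon
    have : Nat.card B ≤ 2 := by
      rw [Nat.card_eq_fintype_card, ← Finset.card_univ]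
      refine le_trans (Finset.card_le_card (t := {1, u}) fun w _ => ?_) Finset.card_le_two
      rw [Finset.mem_insert, Finset.mem_singleton]
      exact or_iff_not_imp_left.mpr (hcon w)
    omega
  have hne1 : (u : A4 × A4).1 ≠ 1 := fun e => hu (Subtype.ext (hk2 _ u.2 e))
  have hne2 : (u : A4 × A4).2 ≠ 1 := fun e => hu (Subtype.ext (hk1 _ u.2 e))
  have hne3 : (v : A4 × A4).1 ≠ 1 := fun e => hv (Subtype.ext (hk2 _ v.2 e))
  have hne4 : (v : A4 × A4).2 ≠ 1 := fun e => hv (Subtype.ext (hk1 _ v.2 e))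
  have hne5 : (v : A4 × A4).1 ≠ (u : A4 × A4).1 := by
    intro e
    have h := hk2 _ (mul_mem v.2 (inv_mem u.2)) (by rw [Prod.fst_mul, Prod.fst_inv, e, mul_inv_cancel])
    exact hvu (Subtype.ext (mul_inv_eq_one.mp h))
  have hne6 : (v : A4 × A4).2 ≠ (u : A4 × A4).2 := by
    intro e
    have h := hk1 _ (mul_mem v.2 (inv_mem u.2)) (by rw [Prod.snd_mul, Prod.snd_inv, e, mul_inv_cancel])
    exact hvu (Subtype.ext (mul_inv_eq_one.mp h))
  -- the Sylow 3-subgroup
  have hQc : Nat.card (Q : Subgroup (A4 × A4)) = 9 := by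
    rw [Sylow.card_eq_multiplicity, Nat.card_prod]
    have : Nat.card A4 = 12 := by rw [Nat.card_eq_fintype_card]; decide +kernel
    rw [this, Nat.factorization_mul (by norm_num) (by norm_num), Finsupp.add_apply]
    have h12 : (12 : ℕ).factorization 3 = 1 := by
      rw [show (12 : ℕ) = 3 * 4 by norm_num, Nat.factorization_mul (by norm_num) (by norm_num), Finsupp.add_apply,
        Nat.Prime.factorization_self Nat.prime_three, Nat.factorization_eq_zero_of_not_dvd (by norm_num)]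
    rw [h12]; norm_num
  set Q1 := (Q : Subgroup (A4 × A4)).map (MonoidHom.fst A4 A4) with hQ1
  set Q2 := (Q : Subgroup (A4 × A4)).map (MonoidHom.snd A4 A4) with hQ2
  have hle : (Q : Subgroup (A4 × A4)) ≤ Q1.prod Q2 := fun q hq =>
    Subgroup.mem_prod.mpr ⟨⟨q, hq, rfl⟩, ⟨q, hq, rfl⟩⟩
  have hsmall : ∀ W : Subgroup A4, IsPGroup 3 W → Nat.card W ≤ 3 := by
    intro W hW
    obtain ⟨i, hi⟩ := IsPGroup.iff_card.mp hW
    have h12 : Nat.card W ∣ 12 := by
      have := W.card_subgroup_dvd_card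
      rwa [show Nat.card A4 = 12 by rw [Nat.card_eq_fintype_card]; decide +kernel] at this
    rw [hi] at h12 ⊢
    have : i ≤ 1 := by
      by_contra hgt
      have h9 := (pow_dvd_pow 3 (show 2 ≤ i by omega)).trans h12
      norm_num at h9
    calc 3 ^ i ≤ 3 ^ 1 := Nat.pow_le_pow_right (by norm_num) this
      _ = 3 := by norm_num
  have hc1 := hsmall Q1 (Q.isPGroup'.map _)
  have hc2 := hsmall Q2 (Q.isPGroup'.map _)
  have hprod : Nat.card ↥(Q1.prod Q2) = Nat.card Q1 * Nat.card Q2 := by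
    rw [Nat.card_congr (Subgroup.prodEquiv Q1 Q2).toEquiv, Nat.card_prod]
  have h9 : 9 ≤ Nat.card Q1 * Nat.card Q2 := by rw [← hQc, ← hprod]; exact Subgroup.card_le_of_le hle
  have he1 : Nat.card Q1 = 3 := by nlinarith
  have he2 : Nat.card Q2 = 3 := by nlinarith
  have hQeq : (Q : Subgroup (A4 × A4)) = Q1.prod Q2 :=
    Subgroup.eq_of_le_of_card_ge hle (by rw [hQc, hprod, he1, he2])
  obtain ⟨⟨a, ha⟩, ha1⟩ : ∃ a : Q1, a ≠ 1 := by
    have : Nontrivial Q1 := by rw [← Finite.one_lt_card_iff_nontrivial, he1]; norm_num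
    exact exists_ne 1
  obtain ⟨⟨b, hb⟩, hb1⟩ : ∃ b : Q2, b ≠ 1 := by
    have : Nontrivial Q2 := by rw [← Finite.one_lt_card_iff_nontrivial, he2]; norm_num
    exact exists_ne 1
  have ha3 : a ^ 3 = 1 := by
    have := pow_card_eq_one' (x := (⟨a, ha⟩ : Q1))
    rw [he1] at this
    exact congrArg Subtype.val this
  have hb3 : b ^ 3 = 1 := by
    have := pow_card_eq_one' (x := (⟨b, hb⟩ : Q2))
    rw [he2] at this
    exact congrArg Subtype.val this
  have ha1' : a ≠ 1 := fun e => ha1 (Subtype.ext e)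
  have hb1' : b ≠ 1 := fun e => hb1 (Subtype.ext e)
  obtain ⟨c, hcb, hc⟩ : ∃ c, (c = b ∨ c = b⁻¹) ∧ stab a c (u : A4 × A4).1 (u : A4 × A4).2 (v : A4 × A4).1 (v : A4 × A4).2 := by
    rcases stab_or a b ha3 ha1' hb3 hb1' _ (hsq _ u.2).1 hne1 _ (hsq _ u.2).2 hne2 _ (hsq _ v.2).1 hne3 hne5
      _ (hsq _ v.2).2 hne4 hne6 with h | h
    · exact ⟨b, Or.inl rfl, h⟩
    · exact ⟨b⁻¹, Or.inr rfl, h⟩
  have hc2' : c ∈ Q2 ∧ c ≠ 1 ∧ c ^ 3 = 1 := by
    rcases hcb with rfl | rfl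
    · exact ⟨hb, hb1', hb3⟩
    · exact ⟨inv_mem hb, fun e => hb1' (inv_eq_one.mp e), by rw [inv_pow, hb3, inv_one]⟩
  have hd3 : orderOf ((a, c) : A4 × A4) = 3 := by
    have : Fact (Nat.Prime 3) := ⟨Nat.prime_three⟩
    exact orderOf_eq_prime (Prod.ext ha3 hc2'.2.2) (fun e => ha1' (congrArg Prod.fst e))
  refine ⟨Subgroup.zpowers ((a, c) : A4 × A4), ?_, by rw [Nat.card_zpowers, hd3], ?_, ?_, ?_⟩
  · rw [Subgroup.zpowers_le, hQeq]
    exact Subgroup.mem_prod.mpr ⟨ha, hc2'.1⟩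
  · intro e
    have := e ▸ Subgroup.mem_zpowers ((a, c) : A4 × A4)
    exact hc2'.2.1 (Subgroup.mem_bot.mp (Subgroup.mem_prod.mp (Subgroup.mem_inf.mp this).2).2)
  · intro e
    have := e ▸ Subgroup.mem_zpowers ((a, c) : A4 × A4)
    exact ha1' (Subgroup.mem_bot.mp (Subgroup.mem_prod.mp (Subgroup.mem_inf.mp this).2).1)
  · rw [Subgroup.zpowers_le]
    -- the three non-trivial elements generate `B`
    have hmem : ∀ w : A4 × A4, trip (u : A4 × A4).1 (u : A4 × A4).2 (v : A4 × A4).1 (v : A4 × A4).2 w → w ∈ B := by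
      rintro w (rfl | rfl | rfl)
      · exact u.2
      · exact v.2
      · exact mul_mem u.2 v.2
    have hall : ∀ w ∈ B, w = 1 ∨ trip (u : A4 × A4).1 (u : A4 × A4).2 (v : A4 × A4).1 (v : A4 × A4).2 w := by
      intro w hw
      have huv1 : u * v ≠ 1 := fun e => hvu (by
        have := congrArg Subtype.val e
        apply Subtype.ext
        apply eq_of_mul_eq_one'
        · exact (hsq _ u.2).1
        · exact (hsq _ u.2).2
        · exact this)
      have hfour : ({1, u, v, u * v} : Finset B).card = 4 := by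
        rw [Finset.card_insert_of_notMem (by simp [hu.symm, hv.symm, huv1.symm]),
          Finset.card_insert_of_notMem (by simp [hvu.symm, hv]),
          Finset.card_insert_of_notMem (by simp [hu]), Finset.card_singleton]
      have hall' : (⟨w, hw⟩ : B) ∈ ({1, u, v, u * v} : Finset B) := by
        rw [Finset.eq_univ_of_card ({1, u, v, u * v} : Finset B) (by rw [hfour, ← Nat.card_eq_fintype_card, hB4])]
        exact Finset.mem_univ _
      simp only [Finset.mem_insert, Finset.mem_singleton] at hall'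
      rcases hall' with h | h | h | h
      · exact Or.inl (congrArg Subtype.val h)
      · exact Or.inr (Or.inl (congrArg Subtype.val h))
      · exact Or.inr (Or.inr (Or.inl (congrArg Subtype.val h)))
      · exact Or.inr (Or.inr (Or.inr (congrArg Subtype.val h)))
    have key : ∀ w ∈ B, ((a, c) : A4 × A4) * w * ((a, c) : A4 × A4)⁻¹ ∈ B := by
      intro w hw
      rcases hall w hw with rfl | ht
      · rw [mul_one, mul_inv_cancel]; exact one_mem B
      · obtain ⟨g1, g2, g3⟩ := hc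
        rcases ht with rfl | rfl | rfl
        · exact hmem _ g1
        · exact hmem _ g2
        · exact hmem _ g3
    rw [Subgroup.mem_normalizer_iff]
    refine fun w => ⟨key w, fun hw => ?_⟩
    have h3 := key _ (key _ hw)
    have e : ((a, c) : A4 × A4) * (((a, c) : A4 × A4) * (((a, c) : A4 × A4) * w * ((a, c) : A4 × A4)⁻¹) * ((a, c) : A4 × A4)⁻¹) * ((a, c) : A4 × A4)⁻¹ =
        ((a, c) : A4 × A4) ^ 3 * w * (((a, c) : A4 × A4) ^ 3)⁻¹ := by simp only [pow_succ, pow_zero, one_mul, mul_inv_rev, mul_assoc]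
    rw [e, ← hd3, pow_orderOf_eq_one, one_mul, inv_one, mul_one] at h3
    exact h3

end Cfsg.Agent.S4406
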