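import Cfsg.Statements.S4407
import Mathlib
import Cfsg.Agent.Lib.Elementary
-- import your own Cfsg.Agent.* helpers here

set_option autoImplicit false
open Cfsg

namespace Cfsg.Agent.S4407

namespace Aux

universe u v
variable {S : Type u} [Group S]

/-- Conjugation of `a` by `x`. -/
def cj (x a : S) : S := x * a * x⁻¹

theorem cj_mul (x a b : S) : cj x (a * b) = cj x a * cj x b := by unfold cj; group

theorem cj_inv (x a : S) : cj x a⁻¹ = (cj x a)⁻¹ := by unfold cj; group

theorem cj_cj (x y a : S) : cj x (cj y a) = cj (x * y) a := by unfold cj; group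

theorem cj_one (a : S) : cj 1 a = a := by unfold cj; group

/-- A pair of standard generators of a dihedral group `X` of order eight. -/
structure DPair (X : Subgroup S) (r s : S) : Prop where
  hr : r ∈ X
  hs : s ∈ X
  r4 : r * r * (r * r) = 1
  s2 : s * s = 1
  srs : s * r * s = r⁻¹
  z1 : r * r ≠ 1
  sne : s ≠ 1
  snez : s ≠ r * r
  cover : ∀ x ∈ X, x = 1 ∨ x = r ∨ x = r * r ∨ x = r * r * r ∨ x = s ∨ x = r * s ∨ x = r * r * s ∨ x = r * r * r * s

namespace DPair

variable {X : Subgroup S} {r s : S}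

theorem sinv (h : DPair X r s) : s⁻¹ = s := inv_eq_of_mul_eq_one_right h.s2

theorem sr (h : DPair X r s) : s * r = r * r * r * s := by
  have : r⁻¹ = r * r * r := inv_eq_of_mul_eq_one_right (by rw [← h.r4]; group)
  calc s * r = s * r * s * s := by rw [mul_assoc, h.s2, mul_one]
    _ = r * r * r * s := by rw [h.srs, this]

theorem zinv (h : DPair X r s) : (r * r)⁻¹ = r * r := inv_eq_of_mul_eq_one_right h.r4

theorem sz (h : DPair X r s) : s * (r * r) = r * r * s := by
  calc s * (r * r) = s * r * r := by group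
    _ = r * r * r * s * r := by rw [h.sr]
    _ = r * r * r * (r * r * r * s) := by rw [mul_assoc (r * r * r) s r, h.sr]
    _ = r * r * (r * r) * (r * r) * s := by group
    _ = r * r * s := by rw [h.r4, one_mul]

/-- Left multiplication of `s` by `r`. -/
theorem rotate (h : DPair X r s) : DPair X r (r * s) := by
  have hrs : r * s * (r * s) = 1 := by
    calc r * s * (r * s) = r * (s * r * s) := by group
      _ = 1 := by rw [h.srs, mul_inv_cancel]
  refine ⟨h.hr, mul_mem h.hr h.hs, h.r4, hrs, ?_, h.z1, ?_, ?_, fun x hx => ?_⟩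
  · calc r * s * r * (r * s) = r * (s * r * s) * (s * r * s) := by
          rw [show r * (s * r * s) * (s * r * s) = r * (s * r * (s * s) * r * s) by group, h.s2]; group
      _ = r⁻¹ := by rw [h.srs]; group
  · intro e
    have h2 : s = r⁻¹ := eq_inv_of_mul_eq_one_right e
    have h3 : s * s = (r * r)⁻¹ := by rw [h2]; group
    rw [h.s2, h.zinv] at h3
    exact h.z1 h3.symm
  · intro e
    have h2 : s = r := mul_left_cancel e
    have h3 := h.s2
    rw [h2] at h3
    exact h.z1 h3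
  · have q : ∀ w : S, r * r * r * (r * w) = w := fun w => by
      calc r * r * r * (r * w) = r * r * (r * r) * w := by group
        _ = w := by rw [h.r4, one_mul]
    rcases h.cover x hx with e | e | e | e | e | e | e | e <;> rw [e]
    · exact Or.inl rfl
    · exact Or.inr (Or.inl rfl)
    · exact Or.inr (Or.inr (Or.inl rfl))
    · exact Or.inr (Or.inr (Or.inr (Or.inl rfl)))
    · exact Or.inr (Or.inr (Or.inr (Or.inr (Or.inr (Or.inr (Or.inr (q s).symm))))))
    · exact Or.inr (Or.inr (Or.inr (Or.inr (Or.inl rfl))))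
    · exact Or.inr (Or.inr (Or.inr (Or.inr (Or.inr (Or.inl (by group))))))
    · exact Or.inr (Or.inr (Or.inr (Or.inr (Or.inr (Or.inr (Or.inl (by group)))))))

end DPair

theorem exists_dpair {X : Subgroup S} (hX : Nonempty (↥X ≃* DihedralGroup 4)) : ∃ r s, DPair X r s := by
  obtain ⟨e⟩ := hX
  set R := e.symm (DihedralGroup.r 1) with hR
  set T := e.symm (DihedralGroup.sr 0) with hT
  have hd : (DihedralGroup.r 1 * DihedralGroup.r 1 * (DihedralGroup.r 1 * DihedralGroup.r 1) = (1 : DihedralGroup 4)) ∧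
      (DihedralGroup.sr 0 * DihedralGroup.sr 0 = (1 : DihedralGroup 4)) ∧
      (DihedralGroup.sr 0 * DihedralGroup.r 1 * DihedralGroup.sr 0 = ((DihedralGroup.r 1)⁻¹ : DihedralGroup 4)) ∧
      (DihedralGroup.r 1 * DihedralGroup.r 1 ≠ (1 : DihedralGroup 4)) ∧ (DihedralGroup.sr 0 ≠ (1 : DihedralGroup 4)) ∧
      (DihedralGroup.sr 0 ≠ (DihedralGroup.r 1 * DihedralGroup.r 1 : DihedralGroup 4)) := by decide
  obtain ⟨d1, d2, d3, d4, d5, d6⟩ := hd
  have hcov : ∀ d : DihedralGroup 4, d = 1 ∨ d = DihedralGroup.r 1 ∨ d = DihedralGroup.r 1 * DihedralGroup.r 1 ∨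
      d = DihedralGroup.r 1 * DihedralGroup.r 1 * DihedralGroup.r 1 ∨ d = DihedralGroup.sr 0 ∨
      d = DihedralGroup.r 1 * DihedralGroup.sr 0 ∨ d = DihedralGroup.r 1 * DihedralGroup.r 1 * DihedralGroup.sr 0 ∨
      d = DihedralGroup.r 1 * DihedralGroup.r 1 * DihedralGroup.r 1 * DihedralGroup.sr 0 := by decide
  let f : DihedralGroup 4 →* S := X.subtype.comp e.symm.toMonoidHom
  have hf : Function.Injective f := X.subtype_injective.comp e.symm.injective
  refine ⟨f (DihedralGroup.r 1), f (DihedralGroup.sr 0), SetLike.coe_mem _, SetLike.coe_mem _, ?_, ?_, ?_, ?_, ?_, ?_,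
    fun x hx => ?_⟩
  · rw [← map_mul, ← map_mul, d1, map_one]
  · rw [← map_mul, d2, map_one]
  · rw [← map_mul, ← map_mul, d3, map_inv]
  · rw [← map_mul]; exact fun h => d4 (hf (h.trans (map_one f).symm))
  · exact fun h => d5 (hf (h.trans (map_one f).symm))
  · rw [← map_mul]; exact fun h => d6 (hf h)
  · have hx' : f (e ⟨x, hx⟩) = x := by simp [f]
    rw [← hx']
    rcases hcov (e ⟨x, hx⟩) with h | h | h | h | h | h | h | h <;> rw [h] <;> simp only [map_mul, map_one] <;> tauto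

section act

variable [Finite S] {A : Subgroup S} [A.Normal]

theorem cj_mem {a : S} (ha : a ∈ A) (x : S) : cj x a ∈ A := (inferInstance : A.Normal).conj_mem a ha x

theorem three {g : S} (hA : Cfsg.IsElementaryAbelian 3 A) (hg : g ∈ A) : g * g * g = 1 := by
  have := hA.2 g hg
  simpa [pow_succ] using this

theorem comm {g h : S} (hA : Cfsg.IsElementaryAbelian 3 A) (hg : g ∈ A) (hh : h ∈ A) : g * h = h * g :=
  congrArg Subtype.val (hA.1.is_comm.comm ⟨g, hg⟩ ⟨h, hh⟩)

/-- A subgroup of `A` missing an element is cyclic. -/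
theorem eq_zpowers (hA : Cfsg.IsElementaryAbelian 3 A) (hA9 : Nat.card ↥A = 9) {H : Subgroup S} (hHA : H ≤ A)
    (hne : ∃ g ∈ A, g ∉ H) {y : S} (hy : y ∈ H) (hy1 : y ≠ 1) : H = Subgroup.zpowers y := by
  have hc : Nat.card H ∣ 9 := hA9 ▸ Subgroup.card_dvd_of_le hHA
  have hle : Nat.card H ≤ 3 := by
    obtain ⟨g, hg, hgH⟩ := hne
    have h9 : Nat.card H ≠ 9 := fun e => hgH (Subgroup.eq_of_le_of_card_ge hHA (by rw [e, hA9]) ▸ hg)
    have hl := Nat.le_of_dvd (by norm_num) hc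
    revert hc h9 hl
    generalize Nat.card H = n
    intro h1 h2 h3
    interval_cases n <;> omega
  refine (Subgroup.eq_of_le_of_card_ge (Subgroup.zpowers_le.mpr hy) ?_).symm
  rw [Nat.card_zpowers]
  haveI : Fact (Nat.Prime 3) := ⟨Nat.prime_three⟩
  rw [orderOf_eq_prime (hA.2 y (hHA hy)) hy1]
  exact hle

theorem fpf_z (hA : Cfsg.IsElementaryAbelian 3 A) (hA9 : Nat.card ↥A = 9) {X : Subgroup S} {r s : S} (h : DPair X r s)
    (hcen : ∀ x ∈ X, (∀ a ∈ A, cj x a = a) → x = 1) : ∀ a ∈ A, cj (r * r) a = a⁻¹ := by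
  set z := r * r with hz
  have hz2 : ∀ a : S, cj z (cj z a) = a := fun a => by rw [cj_cj, h.r4, cj_one]
  -- the fixed points of the central involution
  let C : Subgroup S := A ⊓ Subgroup.centralizer {z}
  have hmemC : ∀ {a}, a ∈ C ↔ a ∈ A ∧ cj z a = a := fun {a} => by
    simp only [C, Subgroup.mem_inf, Subgroup.mem_centralizer_singleton_iff]
    unfold cj
    rw [mul_inv_eq_iff_eq_mul]
    exact and_congr_right fun _ => eq_comm
  by_contra hcon
  push Not at hcon
  obtain ⟨a, ha, hna⟩ := hcon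
  have hy : a * cj z a ∈ C := hmemC.mpr ⟨mul_mem ha (cj_mem ha z), by rw [cj_mul, hz2, comm hA (cj_mem ha z) ha]⟩
  have hy1 : a * cj z a ≠ 1 := fun e => hna (eq_inv_of_mul_eq_one_right e)
  obtain ⟨b, hb, hbz⟩ : ∃ b ∈ A, cj z b ≠ b := by
    by_contra hcon
    push Not at hcon
    exact h.z1 (hcen z (mul_mem h.hr h.hr) hcon)
  have hC := eq_zpowers hA hA9 (inf_le_left : C ≤ A) ⟨b, hb, fun e => hbz (hmemC.mp e).2⟩ hy hy1
  set c := b * (cj z b)⁻¹ with hc
  have hcA : c ∈ A := mul_mem hb (inv_mem (cj_mem hb z))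
  have hcz : cj z c = c⁻¹ := by rw [hc, cj_mul, cj_inv, hz2, mul_inv_rev, inv_inv]
  have hc1 : c ≠ 1 := fun e => hbz (mul_inv_eq_one.mp e).symm
  let D : Subgroup S :=
    { carrier := {w | w ∈ A ∧ cj z w = w⁻¹}
      one_mem' := ⟨one_mem A, by simp [cj]⟩
      mul_mem' := fun {v w} hv hw => ⟨mul_mem hv.1 hw.1, by
        rw [cj_mul, hv.2, hw.2, ← mul_inv_rev, comm hA hw.1 hv.1]⟩
      inv_mem' := fun {v} hv => ⟨inv_mem hv.1, by rw [cj_inv, hv.2]⟩ }
  have hD : D = Subgroup.zpowers c := eq_zpowers hA hA9 (fun w (hw : w ∈ D) => hw.1) ⟨_, (hmemC.mp hy).1, fun e => hy1 (by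
    have e1 : (a * cj z a) = (a * cj z a)⁻¹ := (hmemC.mp hy).2.symm.trans e.2
    have e2 := mul_eq_one_iff_eq_inv.mpr e1
    calc a * cj z a = (a * cj z a) * (a * cj z a) * (a * cj z a) := by rw [e2, one_mul]
      _ = 1 := three hA (hmemC.mp hy).1)⟩ ⟨hcA, hcz⟩ hc1
  have hinvr : ∀ w, cj z (cj r w) = cj r (cj z w) := fun w => by rw [cj_cj, cj_cj, hz, mul_assoc]
  have key : ∀ (H : Subgroup S) (w : S), H = Subgroup.zpowers w → w ∈ A → cj r w ∈ H → cj z w = w := by
    intro H w hH hw hrw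
    rw [hH] at hrw
    obtain ⟨i, hi⟩ := Subgroup.mem_zpowers_iff.mp hrw
    have hw3 : w ^ (3 : ℤ) = 1 := by rw [show (3 : ℤ) = ((3 : ℕ) : ℤ) from rfl, zpow_natCast]; exact hA.2 w hw
    have e : cj z w = w ^ (i * i) := by
      rw [hz, ← cj_cj, ← hi, show cj r (w ^ i) = (cj r w) ^ i by simp only [cj]; rw [conj_zpow], ← hi, zpow_mul]
    rw [e, ← Int.emod_add_mul_ediv (i * i) 3, zpow_add, zpow_mul, hw3, one_zpow, mul_one]
    have h3 : i * i % 3 = 0 ∨ i * i % 3 = 1 := by
      rw [Int.mul_emod]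
      rcases (show i % 3 = 0 ∨ i % 3 = 1 ∨ i % 3 = 2 by omega) with e | e | e <;> rw [e] <;> norm_num
    rcases h3 with e3 | e3
    · rw [← Int.emod_add_mul_ediv (i * i) 3, zpow_add, zpow_mul, hw3, one_zpow, mul_one, e3, zpow_zero] at e
      have h0 := congrArg (cj z) e
      rw [hz2] at h0
      rw [h0]; simp [cj]
    · rw [e3, zpow_one]
  have h1 := key D c hD hcA ⟨cj_mem hcA r, by rw [hinvr, hcz, cj_inv]⟩
  rw [hcz] at h1
  exact hc1 (by
    calc c = c * c⁻¹ * c := by group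
      _ = c * c * c := by rw [h1]
      _ = 1 := three hA hcA)

/-- Some non-central involution fixes the given line. -/
theorem exists_fix (hA : Cfsg.IsElementaryAbelian 3 A) (hA9 : Nat.card ↥A = 9) {X : Subgroup S} {r s : S} (h : DPair X r s)
    (hcen : ∀ x ∈ X, (∀ a ∈ A, cj x a = a) → x = 1) {g : S} (hg : g ∈ A) (hg1 : g ≠ 1) :
    ∃ s', DPair X r s' ∧ cj s' g = g := by
  have hz := fpf_z hA hA9 h hcen
  suffices hh : ∃ s', DPair X r s' ∧ (cj s' g = g ∨ cj s' g = g⁻¹) by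
    obtain ⟨s', h', e | e⟩ := hh
    · exact ⟨s', h', e⟩
    · refine ⟨r * (r * s'), h'.rotate.rotate, ?_⟩
      rw [← mul_assoc, ← cj_cj, e, hz _ (inv_mem hg), inv_inv]
  have hs2 : ∀ a, cj s (cj s a) = a := fun a => by rw [cj_cj, h.s2, cj_one]
  by_cases h1 : cj s g = g ∨ cj s g = g⁻¹
  · exact ⟨s, h, h1⟩
  push Not at h1
  obtain ⟨hne, hni⟩ := h1
  set g' := cj s g with hg'
  have hg'A : g' ∈ A := cj_mem hg s
  set x := (g * g'⁻¹) * (g * g'⁻¹) with hx
  set y := (g * g') * (g * g') with hy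
  have hxA : x ∈ A := mul_mem (mul_mem hg (inv_mem hg'A)) (mul_mem hg (inv_mem hg'A))
  have hyA : y ∈ A := mul_mem (mul_mem hg hg'A) (mul_mem hg hg'A)
  have hcm : ∀ {u v : S}, u ∈ A → v ∈ A → Commute u v := fun hu hv => comm hA hu hv
  have hxy : x * y = g := by
    have c1 : Commute g'⁻¹ g := hcm (inv_mem hg'A) hg
    have c2 : Commute g' g := hcm hg'A hg
    calc x * y = (g * g) * (g'⁻¹ * g'⁻¹) * ((g * g) * (g' * g')) := by
          rw [hx, hy, c1.mul_mul_mul_comm, c2.mul_mul_mul_comm]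
      _ = g * (g * g * g) * ((g'⁻¹ * g'⁻¹) * (g' * g')) := by
          rw [((c1.mul_left c1).mul_right (c1.mul_left c1)).mul_mul_mul_comm]; group
      _ = g := by rw [three hA hg]; group
  have hxs : cj s x = x⁻¹ := by
    rw [hx, cj_mul, cj_mul, cj_inv, hg', hs2, mul_inv_rev, mul_inv_rev, inv_inv]
  have hys : cj s y = y := by rw [hy, cj_mul, cj_mul, hg', hs2, comm hA hg'A hg]
  have sq_ne : ∀ {u : S}, u ∈ A → u ≠ 1 → u * u ≠ 1 := fun {u} hu hu1 e => hu1 (by
    calc u = u * u * u := by rw [e, one_mul]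
      _ = 1 := three hA hu)
  have hx1 : x ≠ 1 := sq_ne (mul_mem hg (inv_mem hg'A)) fun e => hne (mul_inv_eq_one.mp e).symm
  have hy1 : y ≠ 1 := sq_ne (mul_mem hg hg'A) fun e => hni (eq_inv_of_mul_eq_one_right e)
  let H : Subgroup S := A ⊓ Subgroup.centralizer {s}
  have hmemH : ∀ {a}, a ∈ H ↔ a ∈ A ∧ cj s a = a := fun {a} => by
    simp only [H, Subgroup.mem_inf, Subgroup.mem_centralizer_singleton_iff]
    unfold cj
    rw [mul_inv_eq_iff_eq_mul]
    exact and_congr_right fun _ => eq_comm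
  have hH : H = Subgroup.zpowers y := eq_zpowers hA hA9 inf_le_left ⟨x, hxA, fun e => by
    have e1 := (hmemH.mp e).2
    rw [hxs] at e1
    exact sq_ne hxA hx1 (eq_inv_iff_mul_eq_one.mp e1.symm)⟩ (hmemH.mpr ⟨hyA, hys⟩) hy1
  have hrxA : cj r x ∈ A := cj_mem hxA r
  have hrx : cj r x ∈ Subgroup.zpowers y := hH ▸ hmemH.mpr ⟨hrxA, by
    rw [cj_cj, h.sr, ← cj_cj (r * r * r) s, hxs, ← cj_cj (r * r) r, cj_inv, hz _ (inv_mem hrxA), inv_inv]⟩
  obtain ⟨i, hi⟩ := Subgroup.mem_zpowers_iff.mp hrx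
  have hy3 : y ^ (3 : ℤ) = 1 := by rw [show (3 : ℤ) = ((3 : ℕ) : ℤ) from rfl, zpow_natCast]; exact hA.2 y hyA
  have hrx' : cj r x = y ∨ cj r x = y⁻¹ := by
    rw [← hi, ← Int.emod_add_mul_ediv i 3, zpow_add, zpow_mul, hy3, one_zpow, mul_one]
    rcases (show i % 3 = 0 ∨ i % 3 = 1 ∨ i % 3 = 2 by omega) with e | e | e
    · exfalso
      rw [← Int.emod_add_mul_ediv i 3, zpow_add, zpow_mul, hy3, one_zpow, mul_one, e, zpow_zero] at hi
      exact hx1 (mul_left_cancel (a := r) (mul_right_cancel (b := r⁻¹) (hi.symm.trans (by group : (1 : S) = r * 1 * r⁻¹))))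
    · exact Or.inl (by rw [e, zpow_one])
    · refine Or.inr ?_
      rw [e, show ((2 : ℤ)) = 3 + (-1) from rfl, zpow_add, hy3, one_mul, zpow_neg_one]
  have hz' : cj r (cj r x) = x⁻¹ := by rw [cj_cj]; exact hz x hxA
  refine ⟨r * s, h.rotate, ?_⟩
  rw [← hxy, ← cj_cj r s (x * y), cj_mul, cj_mul, hxs, hys, cj_inv]
  rcases hrx' with e | e
  · rw [e] at hz'
    rw [e, hz', ← mul_inv_rev]
    exact Or.inr rfl
  · rw [e, cj_inv] at hz'
    rw [e, inv_inv, inv_injective hz', comm hA hyA hxA]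
    exact Or.inl rfl

end act

set_option maxHeartbeats 4000000 in
theorem goal [Finite S] (A : Subgroup S) [A.Normal] (hA : Cfsg.IsElementaryAbelian 3 A) (hA9 : Nat.card ↥A = 9)
    (hAC : Subgroup.centralizer (A : Set S) = A) (X : Subgroup S) (hX : Nonempty (↥X ≃* DihedralGroup 4)) (hAX : A ⊔ X = ⊤)
    {M : Type v} [AddCommGroup M] [Module (ZMod 2) M] [Finite M] (ρ : Representation (ZMod 2) S M)
    (hfaith : Function.Injective ρ)
    (hirr : ∀ N : Submodule (ZMod 2) M, (∀ s : S, ∀ m ∈ N, ρ s m ∈ N) → N = ⊥ ∨ N = ⊤) (hM : Nontrivial M) :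
    Nat.card M = 16 ∧
      ∃! B : Subgroup S, B ≤ X ∧ Nat.card ↥B = 4 ∧ (∀ b ∈ B, b ^ 2 = 1) ∧
        Nat.card {m : M // ∀ b ∈ B, ρ b m = m} = 2 := by
  classical
  obtain ⟨r, s₀, h₀⟩ := exists_dpair hX
  have hmul : ∀ g k m, ρ (g * k) m = ρ g (ρ k m) := fun g k m => by rw [map_mul]; rfl
  have hone : ∀ m, ρ 1 m = m := fun m => by rw [map_one]; rfl
  have hself : ∀ m : M, m + m = 0 := fun m => ZModModule.add_self m
  have hAX' : A ⊓ X = ⊥ := by
    refine Subgroup.eq_bot_of_card_le _ ?_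
    have h1 := Subgroup.card_dvd_of_le (inf_le_left : A ⊓ X ≤ A)
    have h2 := Subgroup.card_dvd_of_le (inf_le_right : A ⊓ X ≤ X)
    rw [hA9] at h1
    obtain ⟨e⟩ := hX
    rw [Nat.card_congr e.toEquiv, DihedralGroup.nat_card] at h2
    exact Nat.le_of_dvd one_pos ((Nat.dvd_gcd h1 h2).trans (by norm_num))
  have hcen : ∀ x ∈ X, (∀ a ∈ A, cj x a = a) → x = 1 := by
    intro x hx hxa
    have h1 : x ∈ Subgroup.centralizer (A : Set S) := Subgroup.mem_centralizer_iff.mpr fun a ha =>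
      (mul_inv_eq_iff_eq_mul.mp (hxa a ha)).symm
    rw [hAC] at h1
    exact (Subgroup.mem_bot.mp (hAX' ▸ ⟨h1, hx⟩ : x ∈ (⊥ : Subgroup S)))
  -- stabilizers
  let st : AddSubgroup M → Subgroup S := fun U =>
    { carrier := {g | ∀ m ∈ U, ρ g m ∈ U}
      one_mem' := fun m hm => by rw [hone]; exact hm
      mul_mem' := fun {g k} hg hk m hm => by rw [hmul]; exact hg _ (hk m hm)
      inv_mem' := fun {g} hg m hm => by
        have hp : ∀ n : ℕ, ∀ w ∈ U, ρ (g ^ n) w ∈ U := by
          intro n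
          induction n with
          | zero => intro w hw; rw [pow_zero, hone]; exact hw
          | succ n ih => intro w hw; rw [pow_succ, hmul]; exact ih _ (hg w hw)
        have e : g⁻¹ = g ^ (orderOf g - 1) := by
          refine inv_eq_of_mul_eq_one_right ?_
          rw [← pow_succ', Nat.sub_add_cancel (orderOf_pos g), pow_orderOf_eq_one]
        rw [e]; exact hp _ m hm }
  have hinv : ∀ U : AddSubgroup M, st U = ⊤ → ∀ m₀ ∈ U, m₀ ≠ 0 → ∀ m, m ∈ U := by
    intro U hU m₀ hm₀ hne m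
    rcases hirr (AddSubgroup.toZModSubmodule 2 U) (fun g w hw => ((eq_top_iff.mp hU) (Subgroup.mem_top g)) w hw) with e | e
    · exact absurd ((Submodule.eq_bot_iff _).mp e m₀ hm₀) hne
    · exact (e ▸ Submodule.mem_top : m ∈ AddSubgroup.toZModSubmodule 2 U)
  -- the fixed points of a subgroup
  let fx : S → AddSubgroup M := fun g =>
    { carrier := {m | ρ g m = m}
      zero_mem' := map_zero _
      add_mem' := fun {u v} hu hv => by show ρ g (u + v) = u + v; rw [map_add, hu, hv]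
      neg_mem' := fun {u} hu => by show ρ g (-u) = -u; rw [map_neg, hu] }
  have hfA : ∀ m, (∀ g ∈ A, ρ g m = m) → m = 0 := by
    intro m hm
    let U : AddSubgroup M :=
      { carrier := {w | ∀ g ∈ A, ρ g w = w}
        zero_mem' := fun g _ => map_zero _
        add_mem' := fun {u v} hu hv g hg => by rw [map_add, hu g hg, hv g hg]
        neg_mem' := fun {u} hu g hg => by rw [map_neg, hu g hg] }
    have hU : st U = ⊤ := eq_top_iff.mpr fun g _ w hw k hk => by
      have e : k * g = g * (g⁻¹ * k * g) := by group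
      rw [← hmul, e, hmul, hw _ (by simpa [cj] using cj_mem hk g⁻¹)]
    by_contra hne
    have hall := hinv U hU m hm hne
    obtain ⟨a, ha, ha1⟩ : ∃ a ∈ A, a ≠ 1 := by
      by_contra hc
      push Not at hc
      rw [(Subgroup.eq_bot_iff_forall A).mpr hc, Subgroup.card_bot] at hA9
      omega
    exact ha1 (hfaith (LinearMap.ext fun w => by rw [hall w a ha, hone]))
  obtain ⟨g₀, hg₀, hg₀1, w₀, hw₀, hw₀1⟩ : ∃ g ∈ A, g ≠ 1 ∧ ∃ w, ρ g w = w ∧ w ≠ 0 := by
    by_contra hc
    push Not at hc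
    obtain ⟨p, hp, hp1⟩ : ∃ p ∈ A, p ≠ 1 := by
      by_contra hc
      push Not at hc
      rw [(Subgroup.eq_bot_iff_forall A).mpr hc, Subgroup.card_bot] at hA9
      omega
    obtain ⟨q, hq, hqp⟩ : ∃ q ∈ A, q ∉ Subgroup.zpowers p := by
      by_contra hc
      push Not at hc
      haveI : Fact (Nat.Prime 3) := ⟨Nat.prime_three⟩
      have := Subgroup.card_le_of_le (show A ≤ Subgroup.zpowers p from hc)
      rw [hA9, Nat.card_zpowers, orderOf_eq_prime (hA.2 p hp) hp1] at this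
      omega
    have hsum : ∀ g ∈ A, g ≠ 1 → ∀ m, ρ (g * g) m = m + ρ g m := by
      intro g hg hg1 m
      have hfix : ρ g (m + ρ g m + ρ (g * g) m) = m + ρ g m + ρ (g * g) m := by
        rw [map_add, map_add, ← hmul, ← hmul, show g * (g * g) = g * g * g by group, three hA hg, hone]
        abel
      have h0 := hc g hg hg1 _ hfix
      calc ρ (g * g) m = (m + ρ g m + ρ (g * g) m) + (m + ρ g m) := by
            rw [show (m + ρ g m + ρ (g * g) m) + (m + ρ g m) = (m + ρ g m + (m + ρ g m)) + ρ (g * g) m by abel, hself, zero_add]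
        _ = m + ρ g m := by rw [h0, zero_add]
    have hq1 : q ≠ 1 := fun e => hqp (e ▸ one_mem _)
    have hpq : p * q ≠ 1 := fun e => hqp (by rw [eq_inv_of_mul_eq_one_right e]; exact inv_mem (Subgroup.mem_zpowers p))
    have hc' : q * p = p * q := comm hA hq hp
    have hkey : ∀ m, ρ p m = ρ q m := by
      intro m
      have e1 := hsum (p * q) (mul_mem hp hq) hpq m
      have e2 : p * q * (p * q) = p * p * (q * q) := by rw [(show Commute q p from hc').mul_mul_mul_comm]
      rw [e2, hmul, hsum q hq hq1, map_add, hsum p hp hp1, hsum p hp hp1, ← hmul p q] at e1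
      have e3 : ρ p m + ρ q m = 0 := by
        have e4 := congrArg (fun w => w + (m + ρ (p * q) m)) e1
        simp only [hself] at e4
        rw [show m + ρ p m + (ρ q m + ρ (p * q) m) + (m + ρ (p * q) m) =
          (ρ p m + ρ q m) + ((m + m) + (ρ (p * q) m + ρ (p * q) m)) by abel, hself, hself, add_zero, add_zero] at e4
        exact e4
      rw [← add_zero (ρ p m), ← hself (ρ q m), ← add_assoc, e3, zero_add]
    exact hqp (by rw [← hfaith (LinearMap.ext hkey)]; exact Subgroup.mem_zpowers p)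
  obtain ⟨s, h, hsb⟩ := exists_fix hA hA9 h₀ hcen hg₀ hg₀1
  set b := g₀ with hb
  set a := cj r b with ha
  set z := r * r with hz
  set t := z * s with ht
  have hzi := fpf_z hA hA9 h hcen
  have hbA : b ∈ A := hg₀
  have haA : a ∈ A := cj_mem hbA r
  have hsa : cj s a = a⁻¹ := by
    rw [ha, cj_cj, h.sr, ← cj_cj (r * r * r) s, hsb, ← cj_cj (r * r) r, hzi _ haA]
  have hab : a ∉ Subgroup.zpowers b := by
    intro e
    obtain ⟨i, hi⟩ := Subgroup.mem_zpowers_iff.mp e
    have h1 : cj s a = a := by rw [← hi, show cj s (b ^ i) = (cj s b) ^ i by simp only [cj]; rw [conj_zpow], hsb]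
    rw [hsa] at h1
    have h2 : a * a = 1 := eq_inv_iff_mul_eq_one.mp h1.symm
    have h3 : a = 1 := by
      calc a = a * a * a := by rw [h2, one_mul]
        _ = 1 := three hA haA
    exact hg₀1 (mul_left_cancel (a := r) (mul_right_cancel (b := r⁻¹) (h3.trans (by group : (1 : S) = r * 1 * r⁻¹))))
  have hgenA : ∀ H : Subgroup S, a ∈ H → b ∈ H → A ≤ H := by
    intro H haH hbH w hw
    by_contra hwH
    exact hab (eq_zpowers hA hA9 (inf_le_left : A ⊓ H ≤ A) ⟨w, hw, fun e => hwH e.2⟩ ⟨hbA, hbH⟩ hg₀1 ▸ (⟨haA, haH⟩ : a ∈ A ⊓ H))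
  have hgen : ∀ H : Subgroup S, a ∈ H → b ∈ H → r ∈ H → s ∈ H → H = ⊤ := by
    intro H haH hbH hrH hsH
    refine eq_top_iff.mpr (hAX ▸ sup_le (hgenA H haH hbH) fun x hx => ?_)
    have m2 := mul_mem hrH hrH
    have m3 := mul_mem m2 hrH
    rcases h.cover x hx with e | e | e | e | e | e | e | e <;> rw [e]
    exacts [one_mem H, hrH, m2, m3, hsH, mul_mem hrH hsH, mul_mem m2 hsH, mul_mem m3 hsH]
  -- moving past `r`
  have hsw : ∀ g m, ρ g (ρ r m) = ρ r (ρ (cj r⁻¹ g) m) := fun g m => by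
    rw [← hmul, ← hmul]; congr 2; unfold cj; group
  have hzr : z * r = r * z := by rw [hz, mul_assoc]
  have hrb : cj r⁻¹ b = a⁻¹ := by
    calc cj r⁻¹ b = cj (r⁻¹ * (r * r)⁻¹) (cj (r * r) b) := by rw [cj_cj]; unfold cj; group
      _ = cj r (b⁻¹) := by
          rw [hzi b hbA]; congr 1
          rw [h.zinv]; group
      _ = a⁻¹ := cj_inv r b
  have hra : cj r⁻¹ a = b := by rw [ha, cj_cj, inv_mul_cancel, cj_one]
  have hrs : cj r⁻¹ s = t := by
    calc cj r⁻¹ s = r⁻¹ * (s * r) := by unfold cj; group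
      _ = z * s := by rw [h.sr, hz]; group
  have hAcomm : ∀ {g k}, g ∈ A → k ∈ A → ∀ m, ρ g (ρ k m) = ρ k (ρ g m) := fun hg hk m => by
    rw [← hmul, ← hmul, comm hA hg hk]
  have hfab : ∀ m, ρ a m = m → ρ b m = m → m = 0 := by
    intro m ha' hb'
    let F : Subgroup S := (st (AddSubgroup.zmultiples m))
    refine hfA m fun g hg => ?_
    let Fm : Subgroup S :=
      { carrier := {g | ρ g m = m}
        one_mem' := hone m
        mul_mem' := fun {g k} hg hk => by show ρ (g * k) m = m; rw [hmul, hk, hg]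
        inv_mem' := fun {g} hg => by
          show ρ g⁻¹ m = m
          conv_lhs => rw [← show ρ g m = m from hg]
          rw [← hmul, inv_mul_cancel, hone] }
    exact hgenA Fm ha' hb' hg
  have hinvol : ∀ {g}, g * g = 1 → ∀ m, ρ g (ρ g m) = m := fun hg m => by rw [← hmul, hg, hone]
  have hpow2 : ∀ {g}, g ∈ A → ∀ m, ρ g⁻¹ m = ρ g (ρ g m) := fun {g} hg m => by
    rw [← hmul, inv_eq_of_mul_eq_one_right (show g * (g * g) = 1 by rw [← mul_assoc]; exact three hA hg)]
  -- the irreducible constituent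
  have hU : ∀ U : AddSubgroup M, (∀ m ∈ U, ρ b m = m) → (∀ m ∈ U, ρ a m ∈ U) → (∀ m ∈ U, ρ z m ∈ U) →
      (∀ m ∈ U, ρ s m ∈ U) → ∀ u₀ ∈ U, u₀ ≠ 0 → ∀ m, ∃ u ∈ U, ∃ u' ∈ U, m = u + ρ r u' := by
    intro U hUb hUa hUz hUs u₀ hu₀ hne
    let W : AddSubgroup M :=
      { carrier := {m | ∃ u ∈ U, ∃ u' ∈ U, m = u + ρ r u'}
        zero_mem' := ⟨0, zero_mem U, 0, zero_mem U, by simp⟩
        add_mem' := by
          rintro _ _ ⟨u, hu, u', hu', rfl⟩ ⟨w, hw, w', hw', rfl⟩
          exact ⟨u + w, add_mem hu hw, u' + w', add_mem hu' hw', by rw [map_add]; abel⟩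
        neg_mem' := by
          rintro _ ⟨u, hu, u', hu', rfl⟩
          exact ⟨-u, neg_mem hu, -u', neg_mem hu', by rw [map_neg]; abel⟩ }
    have hW : st W = ⊤ := by
      refine hgen _ ?_ ?_ ?_ ?_ <;> rintro _ ⟨u, hu, u', hu', rfl⟩
      · exact ⟨ρ a u, hUa u hu, u', hu', by rw [map_add, hsw, hra, hUb u' hu']⟩
      · exact ⟨u, hu, ρ a (ρ a u'), hUa _ (hUa _ hu'), by rw [map_add, hUb u hu, hsw, hrb, hpow2 haA]⟩
      · exact ⟨ρ z u', hUz u' hu', u, hu, by rw [map_add, hz, hmul, add_comm]⟩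
      · exact ⟨ρ s u, hUs u hu, ρ t u', by rw [ht, hmul]; exact hUz _ (hUs u' hu'), by rw [map_add, hsw, hrs]⟩
    exact hinv W hW u₀ ⟨u₀, hu₀, 0, zero_mem U, by simp⟩ hne
  have hfixU : ∀ U : AddSubgroup M, (∀ m ∈ U, ρ b m = m) → (∀ m ∈ U, ρ a m ∈ U) → (∀ m ∈ U, ρ z m ∈ U) →
      (∀ m ∈ U, ρ s m ∈ U) → ∀ u₀ ∈ U, u₀ ≠ 0 → ∀ m, ρ b m = m → m ∈ U := by
    intro U hUb hUa hUz hUs u₀ hu₀ hne m hm
    obtain ⟨u, hu, u', hu', rfl⟩ := hU U hUb hUa hUz hUs u₀ hu₀ hne m
    have h1 : ρ r u' = 0 := by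
      refine hfab _ (by rw [hsw, hra, hUb u' hu']) ?_
      rw [map_add, hUb u hu] at hm
      exact add_left_cancel hm
    rw [h1, add_zero]
    exact hu
  have hz2 : z * z = 1 := h.r4
  have ht2 : t * t = 1 := by rw [ht, mul_assoc, ← mul_assoc s, hz, h.sz, mul_assoc (r * r) s, h.s2, mul_one]; exact h.r4
  have hpres : ∀ g, (cj g b = b ∨ cj g b = b⁻¹) → g * g = 1 → ∀ m, ρ b m = m → ρ b (ρ g m) = ρ g m := by
    intro g hg hg2 m hm
    have e : b * g = g * cj g b := by
      unfold cj; rw [inv_eq_of_mul_eq_one_right hg2, ← mul_assoc, ← mul_assoc, hg2, one_mul]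
    rw [← hmul, e, hmul]
    rcases hg with e1 | e1 <;> rw [e1]
    · rw [hm]
    · rw [hpow2 hbA, hm, hm]
  have hbz := hpres z (Or.inr (hzi b hbA)) hz2
  have hbs := hpres s (Or.inl hsb) h.s2
  have hba : ∀ m, ρ b m = m → ρ b (ρ a m) = ρ a m := fun m hm => by rw [hAcomm hbA haA, hm]
  have hcomm' : ∀ {g k}, g * k = k * g → ∀ m, ρ g (ρ k m) = ρ k (ρ g m) := fun e m => by rw [← hmul, ← hmul, e]
  have htz : t * z = z * t := by rw [ht, mul_assoc, hz, h.sz]
  have hts : t * s = s * t := by rw [ht, ← mul_assoc, hz, h.sz]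
  have hta : t * a = a * t := by
    have e : cj t a = a := by rw [ht, ← cj_cj, hsa, hzi _ (inv_mem haA), inv_inv]
    exact mul_inv_eq_iff_eq_mul.mp e
  -- a common fixed vector of `b`, `z`
  have hchar : ∀ g, g * g = 1 → ∀ m, ρ g (m + ρ g m) = m + ρ g m := fun g hg m => by
    rw [map_add, hinvol hg, add_comm]
  have htb : ∀ m, ρ b m = m → ρ t m = m := by
    let U : AddSubgroup M := fx b ⊓ fx t
    obtain ⟨u₀, hu₀, hne⟩ : ∃ u₀ ∈ U, u₀ ≠ 0 := by
      by_cases hh : ρ t w₀ = w₀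
      · exact ⟨w₀, ⟨hw₀, hh⟩, hw₀1⟩
      · refine ⟨w₀ + ρ t w₀, ⟨?_, hchar t ht2 w₀⟩, fun e => hh ?_⟩
        · show ρ b _ = _
          rw [map_add, hw₀, ht, hmul, hbz _ (hbs w₀ hw₀)]
        · rw [← add_zero (ρ t w₀), ← hself w₀, ← add_assoc, add_comm (ρ t w₀), e, zero_add]
    intro m hm
    refine (hfixU U (fun w hw => hw.1) (fun w hw => ⟨hba w hw.1, ?_⟩) (fun w hw => ⟨hbz w hw.1, ?_⟩)
      (fun w hw => ⟨hbs w hw.1, ?_⟩) u₀ hu₀ hne m hm).2
    · show ρ t (ρ a w) = ρ a w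
      rw [hcomm' hta, hw.2]
    · show ρ t (ρ z w) = ρ z w
      rw [hcomm' htz, hw.2]
    · show ρ t (ρ s w) = ρ s w
      rw [hcomm' hts, hw.2]
  obtain ⟨v, hvb, hvz, hv1⟩ : ∃ v, ρ b v = v ∧ ρ z v = v ∧ v ≠ 0 := by
    by_cases hh : ρ z w₀ = w₀
    · exact ⟨w₀, hw₀, hh, hw₀1⟩
    · refine ⟨w₀ + ρ z w₀, by rw [map_add, hw₀, hbz w₀ hw₀], hchar z hz2 w₀, fun e => hh ?_⟩
      rw [← add_zero (ρ z w₀), ← hself w₀, ← add_assoc, add_comm (ρ z w₀), e, zero_add]
  have hseq : ∀ m, ρ b m = m → ρ s m = ρ z m := fun m hm => by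
    have h1 := htb m hm
    rw [ht, hmul] at h1
    rw [← hinvol hz2 (ρ s m), h1]
  have hvs : ρ s v = v := by rw [hseq v hvb, hvz]
  have hvt : ρ t v = v := htb v hvb
  set v' := ρ a v with hv'
  have hv'b : ρ b v' = v' := hba v hvb
  have hav : v' ≠ v := fun e => hv1 (hfab v e hvb)
  have hsum : ρ a v' = v + v' := by
    have h0 : v + v' + ρ a v' = 0 := by
      refine hfab _ ?_ ?_
      · rw [map_add, map_add, ← hv', hv', ← hmul a a, ← hmul a (a * a), ← mul_assoc a a a, three hA haA, hone]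
        abel
      · rw [map_add, map_add, hvb, hv'b, hAcomm hbA haA, hv'b]
    calc ρ a v' = (v + v' + ρ a v') + (v + v') := by
          rw [show (v + v' + ρ a v') + (v + v') = (v + v' + (v + v')) + ρ a v' by abel, hself, zero_add]
      _ = v + v' := by rw [h0, zero_add]
  have hzv' : ρ z v' = v + v' := by
    have e : z * a = a⁻¹ * z := mul_inv_eq_iff_eq_mul.mp (hzi a haA)
    rw [hv', ← hmul, e, hmul, hvz, hpow2 haA]
    exact hsum
  -- the module
  let sm : Bool × Bool → M := fun p => (bif p.1 then v else 0) + (bif p.2 then v' else 0)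
  have hself' : ∀ x y : M, x + (x + y) = y := fun x y => by rw [← add_assoc, hself, zero_add]
  have hsmadd : ∀ p q, sm p + sm q = sm ((p.1 ^^ q.1), (p.2 ^^ q.2)) := by
    rintro ⟨p1, p2⟩ ⟨q1, q2⟩
    simp only [sm]
    cases p1 <;> cases p2 <;> cases q1 <;> cases q2 <;> simp [hself, hself', add_comm, add_left_comm]
  let U₀ : AddSubgroup M :=
    { carrier := Set.range sm
      zero_mem' := ⟨(false, false), by simp [sm]⟩
      add_mem' := by rintro _ _ ⟨p, rfl⟩ ⟨q, rfl⟩; exact ⟨_, (hsmadd p q).symm⟩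
      neg_mem' := by rintro _ ⟨p, rfl⟩; exact ⟨p, (neg_eq_of_add_eq_zero_left (hself _)).symm⟩ }
  have hvU : v ∈ U₀ := ⟨(true, false), by simp [sm]⟩
  have hv'U : v' ∈ U₀ := ⟨(false, true), by simp [sm]⟩
  have hUg : ∀ g, ρ g v ∈ U₀ → ρ g v' ∈ U₀ → ∀ m ∈ U₀, ρ g m ∈ U₀ := by
    rintro g hg hg' _ ⟨⟨p1, p2⟩, rfl⟩
    cases p1 <;> cases p2 <;> simp only [sm, cond_true, cond_false, map_add, map_zero]
    exacts [add_mem (zero_mem _) (zero_mem _), add_mem (zero_mem _) hg', add_mem hg (zero_mem _), add_mem hg hg']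
  have hU0b : ∀ m ∈ U₀, ρ b m = m := by
    rintro _ ⟨⟨p1, p2⟩, rfl⟩
    cases p1 <;> cases p2 <;> simp [sm, map_add, hvb, hv'b]
  have hsv' : ρ s v' = v + v' := by rw [hseq v' hv'b, hzv']
  have hspan : ∀ m, ∃ p q, m = sm p + ρ r (sm q) := by
    intro m
    obtain ⟨_, ⟨p, rfl⟩, _, ⟨q, rfl⟩, e⟩ := hU U₀ hU0b (hUg a hv'U (hsum ▸ add_mem hvU hv'U))
      (hUg z (hvz.symm ▸ hvU) (hzv' ▸ add_mem hvU hv'U)) (hUg s (hvs.symm ▸ hvU) (hsv' ▸ add_mem hvU hv'U)) v hvU hv1 m
    exact ⟨p, q, e⟩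
  have hsminj : Function.Injective sm := by
    have h0 : ∀ p, sm p = 0 → p = (false, false) := by
      rintro ⟨p1, p2⟩ e
      cases p1 <;> cases p2 <;> simp [sm] at e ⊢
      · exact hv1 (by
          have : ρ a v = 0 := e
          have h2 := congrArg (ρ a⁻¹) this
          rwa [map_zero, ← hmul, inv_mul_cancel, hone] at h2)
      · exact hv1 e
      · exact hav (by rw [← add_zero v', ← hself v, ← add_assoc, add_comm v', e, zero_add])
    intro p q e
    have := h0 _ ((hsmadd p q).symm.trans (by rw [e, hself]))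
    obtain ⟨p1, p2⟩ := p
    obtain ⟨q1, q2⟩ := q
    revert this
    cases p1 <;> cases p2 <;> cases q1 <;> cases q2 <;> decide
  let Ψ : (Bool × Bool) × (Bool × Bool) → M := fun p => sm p.1 + ρ r (sm p.2)
  have hΨ : Function.Bijective Ψ := by
    refine ⟨fun p q e => ?_, fun m => ?_⟩
    · have hd : ρ r (sm p.2 + sm q.2) = sm p.1 + sm q.1 := by
        rw [map_add]
        have e' := congrArg (fun w => w + (sm p.1 + ρ r (sm q.2))) e
        simp only [Ψ] at e'
        rw [show sm p.1 + ρ r (sm p.2) + (sm p.1 + ρ r (sm q.2)) = (sm p.1 + sm p.1) + (ρ r (sm p.2) + ρ r (sm q.2)) by abel,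
          show sm q.1 + ρ r (sm q.2) + (sm p.1 + ρ r (sm q.2)) = (sm p.1 + sm q.1) + (ρ r (sm q.2) + ρ r (sm q.2)) by abel,
          hself, hself, zero_add, add_zero] at e'
        exact e'
      have h1 : ρ r (sm p.2 + sm q.2) = 0 := by
        refine hfab _ ?_ ?_
        · rw [hsw, hra, hU0b _ (add_mem ⟨p.2, rfl⟩ ⟨q.2, rfl⟩)]
        · rw [hd, hU0b _ (add_mem ⟨p.1, rfl⟩ ⟨q.1, rfl⟩)]
      have h2 : sm p.2 + sm q.2 = 0 := by
        have := congrArg (ρ r⁻¹) h1
        rwa [map_zero, ← hmul, inv_mul_cancel, hone] at this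
      rw [h1] at hd
      have k : ∀ {u w : M}, u + w = 0 → u = w := fun {u w} e => by
        rw [← add_zero u, ← hself w, ← add_assoc, e, zero_add]
      exact Prod.ext (hsminj (k hd.symm)) (hsminj (k h2))
    · obtain ⟨p, q, e⟩ := hspan m
      exact ⟨(p, q), e.symm⟩
  have hM16 : Nat.card M = 16 := by rw [← Nat.card_eq_of_bijective Ψ hΨ]; simp
  refine ⟨hM16, ?_⟩
  -- fixed points
  set w := r * s with hw
  have hw2 : w * w = 1 := h.rotate.s2
  have hzw : z * w = w * z := by rw [hw, ← mul_assoc, hzr, mul_assoc, hz, ← h.sz, ← mul_assoc]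
  have hwv : ρ w v = ρ r v := by rw [hw, hmul, hvs]
  let B : Subgroup S :=
    { carrier := {1, z, w, z * w}
      one_mem' := Or.inl rfl
      mul_mem' := by
        have q1 : ∀ c, z * (z * c) = c := fun c => by rw [← mul_assoc, hz2, one_mul]
        have q2 : w * (z * w) = z := by rw [← mul_assoc, ← hzw, mul_assoc, hw2, mul_one]
        have q3 : z * w * z = w := by rw [hzw, mul_assoc, hz2, mul_one]
        have q4 : z * w * w = z := by rw [mul_assoc, hw2, mul_one]
        have q5 : z * w * (z * w) = 1 := by rw [mul_assoc, q2, hz2]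
        rintro g k (rfl | rfl | rfl | rfl) (rfl | rfl | rfl | rfl) <;>
          simp [q1, q2, q3, q4, q5, hz2, hw2, ← hzw, Set.mem_insert_iff]
      inv_mem' := by
        have q5 : z * w * (z * w) = 1 := by
          rw [mul_assoc, ← mul_assoc w, ← hzw, mul_assoc z w w, hw2, mul_one, hz2]
        rintro g (rfl | rfl | rfl | rfl)
        · exact Or.inl inv_one
        · exact Or.inr (Or.inl (inv_eq_of_mul_eq_one_right hz2))
        · exact Or.inr (Or.inr (Or.inl (inv_eq_of_mul_eq_one_right hw2)))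
        · exact Or.inr (Or.inr (Or.inr (inv_eq_of_mul_eq_one_right q5))) }
  have hwB : w ∈ B := Or.inr (Or.inr (Or.inl rfl))
  have hzB : z ∈ B := Or.inr (Or.inl rfl)
  have hwne : w ≠ 1 := h.rotate.sne
  have hwz : w ≠ z := h.rotate.snez
  have hcard4 : Nat.card B = 4 := by
    show Nat.card ({1, z, w, z * w} : Set S) = 4
    rw [Nat.card_coe_set_eq]
    refine Set.ncard_eq_four.mpr ⟨1, z, w, z * w, fun e => h.z1 e.symm, Ne.symm hwne, fun e => hwz ?_, Ne.symm hwz,
      fun e => hwne (left_eq_mul.mp e), fun e => h.z1 (right_eq_mul.mp e), rfl⟩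
    calc w = z * (z * w) := by rw [← mul_assoc, hz2, one_mul]
      _ = z := by rw [← e, mul_one]
  have hfixz : ∀ p, ρ z (Ψ p) = Ψ p → p.1.2 = false ∧ p.2.2 = false := by
    rintro ⟨⟨p1, p2⟩, ⟨q1, q2⟩⟩ e
    have hzsm : ∀ x y, ρ z (sm (x, y)) = sm ((x ^^ y), y) := fun x y => by
      cases x <;> cases y <;> simp [sm, map_add, hvz, hzv', hself, hself', add_comm, add_left_comm]
    have e2 : ρ z (Ψ ((p1, p2), (q1, q2))) = Ψ (((p1 ^^ p2), p2), ((q1 ^^ q2), q2)) := by
      simp only [Ψ]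
      rw [map_add, hzsm, ← hmul, hzr, hmul, hzsm]
    rw [e2] at e
    have := hΨ.1 e
    simp only [Prod.mk.injEq] at this
    revert this
    cases p1 <;> cases p2 <;> cases q1 <;> cases q2 <;> simp
  have hfixB : ∀ m, (∀ g ∈ B, ρ g m = m) ↔ m = 0 ∨ m = v + ρ r v := by
    intro m
    constructor
    · intro hm
      obtain ⟨⟨⟨p1, p2⟩, ⟨q1, q2⟩⟩, rfl⟩ := hΨ.2 m
      obtain ⟨e1, e2⟩ := hfixz _ (hm z hzB)
      simp only at e1 e2
      subst e1 e2
      have hw' : ρ w (Ψ ((p1, false), (q1, false))) = Ψ ((q1, false), (p1, false)) := by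
        have hwr : ρ w (ρ r v) = v := by rw [← hwv, hinvol hw2]
        cases p1 <;> cases q1 <;> simp [Ψ, sm, map_add, hwv, hwr, add_comm]
      have := hΨ.1 (hw'.symm.trans (hm w hwB))
      simp only [Prod.mk.injEq, and_true] at this
      obtain ⟨e3, -⟩ := this
      subst q1
      cases p1 <;> simp [Ψ, sm]
    · rintro (rfl | rfl) g hg
      · exact map_zero _
      · have hwr : ρ w (ρ r v) = v := by rw [← hwv, hinvol hw2]
        have hzfix : ρ z (v + ρ r v) = v + ρ r v := by rw [map_add, hvz, ← hmul, hzr, hmul, hvz]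
        have hwfix : ρ w (v + ρ r v) = v + ρ r v := by rw [map_add, hwv, hwr, add_comm]
        rcases hg with rfl | rfl | rfl | rfl
        · exact hone _
        · exact hzfix
        · exact hwfix
        · rw [hmul, hwfix, hzfix]
  have hvr : v + ρ r v ≠ 0 := by
    intro e
    have := @hΨ.1 ((true, false), (true, false)) ((false, false), (false, false)) (by simp [Ψ, sm, e])
    simp at this
  refine ⟨B, ⟨?_, hcard4, ?_, ?_⟩, ?_⟩
  · rintro g (rfl | rfl | rfl | rfl)
    exacts [one_mem X, mul_mem h.hr h.hr, h.rotate.hs, mul_mem (mul_mem h.hr h.hr) h.rotate.hs]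
  · rintro g hg
    rw [pow_two]
    rcases hg with rfl | rfl | rfl | rfl
    · exact one_mul 1
    · exact hz2
    · exact hw2
    · rw [mul_assoc, ← mul_assoc w, ← hzw, mul_assoc z w w, hw2, mul_one, hz2]
  · rw [show {m : M // ∀ g ∈ B, ρ g m = m} = ↥({m | ∀ g ∈ B, ρ g m = m} : Set M) from rfl,
      show ({m | ∀ g ∈ B, ρ g m = m} : Set M) = {0, v + ρ r v} from Set.ext hfixB, Nat.card_coe_set_eq]
    exact Set.ncard_pair hvr.symm
  · rintro B' ⟨hB'X, hB'4, hB'2, hB'fix⟩
    have hsq : ∀ g ∈ B', g * g = 1 := fun g hg => by rw [← pow_two]; exact hB'2 g hg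
    have hr3 : r * r * r * (r * r * r) = z := by
      calc r * r * r * (r * r * r) = r * r * (r * r) * (r * r) := by group
        _ = z := by rw [h.r4, one_mul]
    have hsub : ∀ g ∈ B', g ∈ B ∨ g = s ∨ g = z * s := by
      intro g hg
      have hnr : ∀ k, k * k = z → g ≠ k := fun k hk e => h.z1 (by rw [← hz, ← hk, ← e]; exact hsq g hg)
      rcases h.cover g (hB'X hg) with e | e | e | e | e | e | e | e
      · exact Or.inl (Or.inl e)
      · exact absurd e (hnr r rfl)
      · exact Or.inl (Or.inr (Or.inl e))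
      · exact absurd e (hnr _ hr3)
      · exact Or.inr (Or.inl e)
      · exact Or.inl (Or.inr (Or.inr (Or.inl e)))
      · exact Or.inr (Or.inr e)
      · exact Or.inl (Or.inr (Or.inr (Or.inr (Set.mem_singleton_iff.mpr (by rw [e, hw, hz]; group)))))
    by_cases hB : ∀ g ∈ B', g ∈ B
    · exact Subgroup.eq_of_le_of_card_ge hB (by rw [hB'4, hcard4])
    exfalso
    push Not at hB
    obtain ⟨g, hg, hgB⟩ := hB
    have hgs : g = s ∨ g = z * s := (hsub g hg).resolve_left hgB
    -- `B'` avoids `w`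
    have hgw : ∀ k ∈ B', k = 1 ∨ k = z ∨ k = s ∨ k = z * s := by
      intro k hk
      rcases hsub k hk with hkB | e | e
      · rcases hkB with e | e | e | e
        · exact Or.inl e
        · exact Or.inr (Or.inl e)
        all_goals
          exfalso
          have hp := hsq _ (mul_mem hk hg)
          have qa : r * s * s = r := by rw [mul_assoc, h.s2, mul_one]
          have qb : r * s * (z * s) = r * r * r := by
            rw [mul_assoc r s (z * s), ← mul_assoc s z s, hz, h.sz, mul_assoc (r * r) s s, h.s2, mul_one]; group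
          have qc : z * (r * s) * s = r * r * r := by rw [mul_assoc z, qa, hz]
          have qd : z * (r * s) * (z * s) = r := by
            rw [mul_assoc z, qb, hz, show r * r * (r * r * r) = r * r * (r * r) * r by group, h.r4, one_mul]
          have h1 : k * g = r ∨ k * g = r * r * r := by
            rcases hgs with e' | e' <;> rw [e', e, hw] <;>
              first | exact Or.inl qa | exact Or.inr qb | exact Or.inr qc | exact Or.inl qd
          rcases h1 with e1 | e1 <;> rw [e1] at hp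
          · exact h.z1 hp
          · exact h.z1 (hr3.symm.trans hp)
      · exact Or.inr (Or.inr (Or.inl e))
      · exact Or.inr (Or.inr (Or.inr e))
    have hzfix : ∀ k ∈ B', ρ k v = v ∧ ρ k (ρ r v) = ρ r v := by
      intro k hk
      rcases hgw k hk with rfl | rfl | rfl | rfl
      · exact ⟨hone _, hone _⟩
      · exact ⟨hvz, by rw [← hmul, hzr, hmul, hvz]⟩
      · exact ⟨hvs, by rw [hsw, hrs, hvt]⟩
      · refine ⟨by rw [hmul, hvs, hvz], ?_⟩
        rw [hmul, hsw s, hrs, hvt, ← hmul, hzr, hmul, hvz]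
    have hinj : Function.Injective fun p : Bool × Bool => (⟨Ψ ((p.1, false), (p.2, false)), fun k hk => by
        obtain ⟨e1, e2⟩ := hzfix k hk
        obtain ⟨p1, p2⟩ := p
        cases p1 <;> cases p2 <;> simp [Ψ, sm, map_add, e1, e2]⟩ : {m : M // ∀ k ∈ B', ρ k m = m}) := by
      intro p q e
      have := hΨ.1 (congrArg Subtype.val e)
      simp only [Prod.mk.injEq, and_true] at this
      exact Prod.ext this.1 this.2
    have h4 := Nat.card_le_card_of_injective _ hinj
    rw [hB'fix] at h4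
    simp at h4

end Aux

/-- Let S be a finite group with a normal elementary abelian subgroup A of order 9 that is self-centralizing (C_S(A) = A), and a dihedral subgroup X of order 8 with S = AX. Let M be a finite-dimensional module for S over the field with two elements that is faithful and irreducible. Then M has 16 elements, and X contains exactly one subgroup B of order 4 and exponent 2 whose fixed points on M form a subspace with exactly 2 elements (equivalently, M is free of rank one over the group algebra of B). -/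
theorem result {S : Type*} [Group S] [Finite S]
    (A : Subgroup S) [A.Normal] (hA : Cfsg.IsElementaryAbelian 3 A) (hA9 : Nat.card ↥A = 9)
    (hAC : Subgroup.centralizer (A : Set S) = A) (X : Subgroup S) (hX : Nonempty (↥X ≃* DihedralGroup 4)) (hAX : A ⊔ X = ⊤)
    {M : Type*} [AddCommGroup M] [Module (ZMod 2) M] [Finite M] (ρ : Representation (ZMod 2) S M)
    (hfaith : Function.Injective ρ)
    (hirr : ∀ N : Submodule (ZMod 2) M, (∀ s : S, ∀ m ∈ N, ρ s m ∈ N) → N = ⊥ ∨ N = ⊤) (hM : Nontrivial M) :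
    Nat.card M = 16 ∧
      ∃! B : Subgroup S, B ≤ X ∧ Nat.card ↥B = 4 ∧ (∀ b ∈ B, b ^ 2 = 1) ∧
        Nat.card {m : M // ∀ b ∈ B, ρ b m = m} = 2 := by
  exact Aux.goal A hA hA9 hAC X hX hAX ρ hfaith hirr hM

end Cfsg.Agent.S4407
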