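import Cfsg.Statements.S4408
import Mathlib
import Cfsg.Agent.Lib.PRegularClass
import Cfsg.Agent.Lib.Elementary
import Cfsg.Agent.Lib.Basic
-- import your own Cfsg.Agent.* helpers here

set_option autoImplicit false
open Cfsg

namespace Cfsg.Agent.S4408

open Subgroup CfsgLib
open scoped IsMulCommutative

universe u

variable {S : Type u} [Group S] [Finite S]

theorem odd_eq_one {c : S} {F : Subgroup S} (hF : Odd (Nat.card F)) (hc : c ∈ F) (h2 : c * c = 1) : c = 1 := by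
  refine orderOf_eq_one_iff.mp (Nat.eq_one_of_dvd_coprimes (Nat.coprime_two_left.mpr hF)
    (orderOf_dvd_of_pow_eq_one ((pow_two c).trans h2)) (Subgroup.orderOf_dvd_natCard F hc))

omit [Finite S] in
theorem fix_of_shift {s f c : S} (hs : s * s = 1) (hc : s * c * s⁻¹ = c) (hf : s * f * s⁻¹ = f * c) : c * c = 1 := by
  have e : f = f * c * c := by
    calc f = s * (s * f * s⁻¹) * s⁻¹ := by
          rw [show s * (s * f * s⁻¹) * s⁻¹ = (s * s) * f * (s * s)⁻¹ by group, hs]; group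
      _ = s * (f * c) * s⁻¹ := by rw [hf]
      _ = (s * f * s⁻¹) * (s * c * s⁻¹) := by group
      _ = f * c * c := by rw [hc, hf]
  rw [mul_assoc] at e
  exact mul_eq_left.mp e.symm

/-- An element of order two fixing the elements of prime order of an abelian group of odd order fixes it. -/
theorem fix_of_fix_prime {A : Subgroup S} (hA : Odd (Nat.card A)) (hab : ∀ a ∈ A, ∀ b ∈ A, a * b = b * a)
    {s : S} (hs : s * s = 1) (hn : ∀ a ∈ A, s * a * s⁻¹ ∈ A)
    (hfix : ∀ a ∈ A, (orderOf a).Prime → s * a * s⁻¹ = a) : ∀ a ∈ A, s * a * s⁻¹ = a := by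
  intro a ha
  induction hm : orderOf a using Nat.strong_induction_on generalizing a with
  | _ n ih =>
    subst hm
    by_cases h1 : orderOf a = 1
    · rw [orderOf_eq_one_iff.mp h1, mul_one, mul_inv_cancel]
    obtain ⟨q, hq, hqd⟩ := Nat.exists_prime_and_dvd h1
    have := Fact.mk hq
    have hlt : orderOf (a ^ q) < orderOf a := by
      rw [orderOf_pow' _ hq.ne_zero, Nat.gcd_eq_right hqd]
      exact Nat.div_lt_self (orderOf_pos a) hq.one_lt
    have hq' := ih _ hlt (a ^ q) (A.pow_mem ha q) rfl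
    set c := a⁻¹ * (s * a * s⁻¹) with hc
    have hcA : c ∈ A := A.mul_mem (A.inv_mem ha) (hn a ha)
    have hsa : s * a * s⁻¹ = a * c := by rw [hc]; group
    have hcq : c ^ q = 1 := by
      have h2 : (a * c) ^ q = a ^ q := by rw [← hsa, conj_pow, hq']
      rw [(show Commute a c from hab a ha c hcA).mul_pow] at h2
      exact mul_eq_left.mp h2
    have hc1 : c = 1 := by
      by_contra hne
      exact hne (odd_eq_one hA hcA (fix_of_shift hs (hfix c hcA (orderOf_eq_prime hcq hne ▸ hq)) hsa))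
    rw [hsa, hc1, mul_one]

/-- A common eigenvector modulo `A` for commuting involutions, keeping the sign of `s₀`. -/
theorem eigen {Z A : Subgroup S} (hA : Odd (Nat.card Z))
    (hAZ : A ≤ Z)
    (hcomm : ∀ x ∈ Z, ∀ y ∈ Z, x * y * x⁻¹ * y⁻¹ ∈ A) (hAn : ∀ x ∈ Z, ∀ a ∈ A, x * a * x⁻¹ ∈ A)
    (I : List S) (hsq : ∀ s ∈ I, s * s = 1) (hIc : ∀ s ∈ I, ∀ t ∈ I, s * t = t * s)
    (hIZ : ∀ s ∈ I, ∀ x ∈ Z, s * x * s⁻¹ ∈ Z) (hIA : ∀ s ∈ I, ∀ a ∈ A, s * a * s⁻¹ ∈ A)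
    (s₀ : S) (hs₀ : ∀ s ∈ I, s * s₀ = s₀ * s) (hs₀A : ∀ a ∈ A, s₀ * a * s₀⁻¹ ∈ A)
    {x : S} (hx : x ∈ Z) (hxA : x ∉ A) (hinv : s₀ = 1 ∨ s₀ * x * s₀⁻¹ * x ∈ A) :
    ∀ L : List S, (∀ s ∈ L, s ∈ I) → ∃ w ∈ Z, w ∉ A ∧ (s₀ = 1 ∨ s₀ * w * s₀⁻¹ * w ∈ A) ∧
      ∀ s ∈ L, s * w * s⁻¹ * w⁻¹ ∈ A ∨ s * w * s⁻¹ * w ∈ A := by
  have hcm : ∀ a b, a ∈ Z → b ∈ Z → a * b ∈ A → b * a ∈ A := fun a b ha hb h => by
    have := A.mul_mem (hcomm b hb a ha) h
    rwa [show b * a * b⁻¹ * a⁻¹ * (a * b) = b * a by group] at this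
  intro L
  induction L with
  | nil => intro _; exact ⟨x, hx, hxA, hinv, by simp⟩
  | cons t L ih =>
    intro hL
    obtain ⟨w, hw, hwA, hw0, hwL⟩ := ih (fun s hs => hL s (List.mem_cons_of_mem _ hs))
    have ht := hL t List.mem_cons_self
    have htt := hsq t ht
    set v := t * w * t⁻¹ with hv
    have hvZ := hIZ t ht w hw
    have htv : t * v * t⁻¹ = w := by
      rw [hv, show t * (t * w * t⁻¹) * t⁻¹ = (t * t) * w * (t * t)⁻¹ by group, htt]; group
    by_cases h1 : w * v ∈ A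
    · refine ⟨w, hw, hwA, hw0, fun s hs => ?_⟩
      rcases List.mem_cons.mp hs with rfl | hs'
      · exact Or.inr (hcm w v hw hvZ h1)
      · exact hwL s hs'
    -- otherwise replace `w` by `w * v`
    refine ⟨w * v, Z.mul_mem hw hvZ, h1, ?_, fun s hs => ?_⟩
    · rcases hw0 with h0 | hw0
      · exact Or.inl h0
      right
      have e1 : s₀ * v * s₀⁻¹ * v ∈ A := by
        have := hIA t ht _ hw0
        rwa [show t * (s₀ * w * s₀⁻¹ * w) * t⁻¹ = (t * s₀) * w * (t * s₀)⁻¹ * v by rw [hv]; group, hs₀ t ht,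
          show (s₀ * t) * w * (s₀ * t)⁻¹ * v = s₀ * v * s₀⁻¹ * v by rw [hv]; group] at this
      -- `(s w s)(s v s) w v ≡ (s w s) w (s v s) v`
      have hZ1 : s₀ * v * s₀⁻¹ ∈ Z := by
        have h2 : (s₀ * v * s₀⁻¹ * v) * v⁻¹ ∈ A ⊔ Z :=
          mul_mem (Subgroup.mem_sup_left e1) (Subgroup.mem_sup_right (Z.inv_mem hvZ))
        rw [mul_inv_cancel_right] at h2
        exact (sup_le hAZ le_rfl : A ⊔ Z ≤ Z) h2
      have h3 : (s₀ * v * s₀⁻¹) * w * (s₀ * v * s₀⁻¹)⁻¹ * w⁻¹ ∈ A := hcomm _ hZ1 w hw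
      have e : s₀ * (w * v) * s₀⁻¹ * (w * v) =
          (s₀ * w * s₀⁻¹) * ((s₀ * v * s₀⁻¹) * w * (s₀ * v * s₀⁻¹)⁻¹ * w⁻¹) * (s₀ * w * s₀⁻¹)⁻¹ *
            (s₀ * w * s₀⁻¹ * w) * (s₀ * v * s₀⁻¹ * v) := by group
      rw [e]
      have hZ2 : s₀ * w * s₀⁻¹ ∈ Z := by
        have h2 : (s₀ * w * s₀⁻¹ * w) * w⁻¹ ∈ A ⊔ Z :=
          mul_mem (Subgroup.mem_sup_left hw0) (Subgroup.mem_sup_right (Z.inv_mem hw))
        rw [mul_inv_cancel_right] at h2
        exact (sup_le hAZ le_rfl : A ⊔ Z ≤ Z) h2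
      exact A.mul_mem (A.mul_mem (hAn _ hZ2 _ h3) hw0) e1
    · rcases List.mem_cons.mp hs with rfl | hs'
      · left
        rw [show s * (w * v) * s⁻¹ = (s * w * s⁻¹) * (s * v * s⁻¹) by group, htv]
        rw [show (s * w * s⁻¹) * w * (w * v)⁻¹ = v * w * v⁻¹ * w⁻¹ by rw [hv]; group]
        exact hcomm v hvZ w hw
      · have hsv : s * v * s⁻¹ = t * (s * w * s⁻¹) * t⁻¹ := by
          rw [hv, show s * (t * w * t⁻¹) * s⁻¹ = (s * t) * w * (s * t)⁻¹ by group,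
            hIc s (hL s (List.mem_cons_of_mem _ hs')) t ht]
          group
        have hsI := hL s (List.mem_cons_of_mem _ hs')
        have hsw := hIZ s hsI w hw
        have hsvZ := hIZ s hsI v hvZ
        rcases hwL s hs' with h | h
        · left
          have e1 := hIA t ht _ h
          rw [show t * (s * w * s⁻¹ * w⁻¹) * t⁻¹ = (t * (s * w * s⁻¹) * t⁻¹) * v⁻¹ by rw [hv]; group, ← hsv] at e1
          have e : s * (w * v) * s⁻¹ * (w * v)⁻¹ =
              (s * w * s⁻¹) * ((s * v * s⁻¹) * v⁻¹) * (s * w * s⁻¹)⁻¹ * (s * w * s⁻¹ * w⁻¹) := by group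
          rw [e]
          exact A.mul_mem (hAn _ hsw _ e1) h
        · right
          have e1 := hIA t ht _ h
          rw [show t * (s * w * s⁻¹ * w) * t⁻¹ = (t * (s * w * s⁻¹) * t⁻¹) * v by rw [hv]; group, ← hsv] at e1
          have h3 := hcomm _ hsvZ w hw
          have e : s * (w * v) * s⁻¹ * (w * v) =
              (s * w * s⁻¹) * ((s * v * s⁻¹) * w * (s * v * s⁻¹)⁻¹ * w⁻¹) * (s * w * s⁻¹)⁻¹ *
                (s * w * s⁻¹ * w) * (s * v * s⁻¹ * v) := by group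
          rw [e]
          exact A.mul_mem (A.mul_mem (hAn _ hsw _ h3) h) e1

/-- A list of all elements. -/
theorem exists_list (I : Subgroup S) : ∃ L : List S, ∀ s, s ∈ L ↔ s ∈ I := by
  classical
  have : Fintype S := Fintype.ofFinite S
  exact ⟨(Finset.univ.filter (fun s => s ∈ I)).toList, fun s => by simp⟩

/-- An abelian normal `I`-invariant subgroup of `F` on which every element of `I` acting trivially acts trivially on `F`. -/
theorem exists_abelian (F I : Subgroup S) [F.Normal] (hFn : Group.IsNilpotent F) (hF : Odd (Nat.card F))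
    (hI : IsElementaryAbelian 2 I) :
    ∃ A : Subgroup S, A ≤ F ∧ (∀ a ∈ A, ∀ b ∈ A, a * b = b * a) ∧ (∀ s ∈ I, ∀ a ∈ A, s * a * s⁻¹ ∈ A) ∧
      ∀ s ∈ I, (∀ a ∈ A, s * a * s⁻¹ = a) → ∀ f ∈ F, s * f = f * s := by
  classical
  let P : Subgroup S → Prop := fun A => A ≤ F ∧ (∀ a ∈ A, ∀ b ∈ A, a * b = b * a) ∧
    (∀ f ∈ F, ∀ a ∈ A, f * a * f⁻¹ ∈ A) ∧ (∀ s ∈ I, ∀ a ∈ A, s * a * s⁻¹ ∈ A)
  have hP0 : P ⊥ := by
    refine ⟨bot_le, ?_, ?_, ?_⟩ <;> intros <;> simp_all [Subgroup.mem_bot]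
  obtain ⟨A, -, hAmax⟩ := (Set.toFinite {A : Subgroup S | P A}).exists_le_maximal (show ⊥ ∈ {A : Subgroup S | P A} from hP0)
  obtain ⟨hAF, hAc, hAn, hAI⟩ := hAmax.1
  refine ⟨A, hAF, hAc, hAI, ?_⟩
  have hsq : ∀ s ∈ I, s * s = 1 := fun s hs => by rw [← pow_two]; exact hI.2 s hs
  have hIc : ∀ s ∈ I, ∀ t ∈ I, s * t = t * s := fun s hs t ht =>
    congrArg Subtype.val (hI.1.is_comm.comm (⟨s, hs⟩ : I) ⟨t, ht⟩)
  set C := F ⊓ centralizer (A : Set S) with hC
  have hCA : C ≤ A := by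
    by_contra hne
    set Z1 : Subgroup S :=
      { carrier := {x | x ∈ C ∧ ∀ f ∈ F, f * x * f⁻¹ * x⁻¹ ∈ A}
        one_mem' := ⟨C.one_mem, fun f _ => by simp⟩
        mul_mem' := fun {x y} hx hy => ⟨C.mul_mem hx.1 hy.1, fun f hf => by
          have h1 := hy.2 f hf
          rw [show f * (x * y) * f⁻¹ * (x * y)⁻¹ = (f * x * f⁻¹) * (f * y * f⁻¹ * y⁻¹) * (f * x * f⁻¹)⁻¹ *
            (f * x * f⁻¹ * x⁻¹) by group]
          exact A.mul_mem (hAn _ (F.mul_mem (F.mul_mem hf hx.1.1) (F.inv_mem hf)) _ h1) (hx.2 f hf)⟩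
        inv_mem' := fun {x} hx => ⟨C.inv_mem hx.1, fun f hf => by
          rw [show f * x⁻¹ * f⁻¹ * x⁻¹⁻¹ = (f * x⁻¹ * f⁻¹) * ((f * x * f⁻¹ * x⁻¹)⁻¹) * (f * x⁻¹ * f⁻¹)⁻¹ by group]
          exact hAn _ (F.mul_mem (F.mul_mem hf (F.inv_mem hx.1.1)) (F.inv_mem hf)) _ (A.inv_mem (hx.2 f hf))⟩ } with hZ1
    -- an element of `C` central modulo `A`
    obtain ⟨x, hxZ, hxA⟩ : ∃ x ∈ Z1, x ∉ A := by
      haveI hAsub : (A.subgroupOf F).Normal := ⟨fun a ha f => hAn f f.2 a ha⟩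
      set q := QuotientGroup.mk' (A.subgroupOf F)
      set Cq := (C.subgroupOf F).map q with hCq
      have hCsub : (C.subgroupOf F).Normal := by
        refine ⟨fun c hc f => ?_⟩
        have hc' : (c : S) ∈ C := hc
        refine (⟨(‹F.Normal›).conj_mem _ hc'.1 _, Subgroup.mem_centralizer_iff.mpr fun a ha => ?_⟩ :
          (f : S) * c * (f : S)⁻¹ ∈ C)
        have e := Subgroup.mem_centralizer_iff.mp hc'.2 _ (hAn _ (F.inv_mem f.2) a ha)
        calc a * ((f : S) * c * (f : S)⁻¹) = f * (((f : S)⁻¹ * a * (f : S)⁻¹⁻¹) * c) * (f : S)⁻¹ := by group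
          _ = f * ((c : S) * ((f : S)⁻¹ * a * (f : S)⁻¹⁻¹)) * (f : S)⁻¹ := by rw [e]
          _ = _ := by group
      haveI : Cq.Normal := Subgroup.Normal.map hCsub q (QuotientGroup.mk'_surjective _)
      have hCq0 : Cq ≠ ⊥ := by
        intro e
        refine hne fun c hc => ?_
        have : q ⟨c, hc.1⟩ ∈ Cq := Subgroup.mem_map_of_mem q (show (⟨c, hc.1⟩ : F) ∈ C.subgroupOf F from hc)
        rw [e, Subgroup.mem_bot] at this
        exact (QuotientGroup.eq_one_iff (⟨c, hc.1⟩ : F)).mp this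
      haveI : Group.IsNilpotent F := hFn
      haveI : Group.IsNilpotent (F ⧸ A.subgroupOf F) :=
        Group.nilpotent_of_surjective q (QuotientGroup.mk'_surjective _)
      obtain ⟨z, hz, hz1⟩ := (Cq ⊓ center _).bot_or_exists_ne_one.resolve_left (inf_center_ne_bot_of_nilpotent hCq0)
      obtain ⟨⟨c, hc, rfl⟩, hzc⟩ := hz
      refine ⟨(c : S), ⟨hc, fun f hf => ?_⟩, fun hcA => hz1 ((QuotientGroup.eq_one_iff c).mpr hcA)⟩
      have e := Subgroup.mem_center_iff.mp hzc (q ⟨f, hf⟩)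
      have : q ((⟨f, hf⟩ : F) * c * (⟨f, hf⟩ : F)⁻¹ * c⁻¹) = 1 := by
        rw [map_mul, map_mul, map_mul, map_inv, map_inv, e, mul_inv_cancel_right, mul_inv_cancel]
      exact (QuotientGroup.eq_one_iff ((⟨f, hf⟩ : F) * c * (⟨f, hf⟩ : F)⁻¹ * c⁻¹)).mp this
    have hZA : A ≤ Z1 := fun a ha =>
      ⟨⟨hAF ha, Subgroup.mem_centralizer_iff.mpr fun b hb => hAc b hb a ha⟩,
        fun f hf => A.mul_mem (hAn f hf a ha) (A.inv_mem ha)⟩
    have hZI : ∀ s ∈ I, ∀ y ∈ Z1, s * y * s⁻¹ ∈ Z1 := by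
      intro s hs y hy
      refine ⟨⟨(‹F.Normal›).conj_mem y hy.1.1 s, Subgroup.mem_centralizer_iff.mpr fun a ha => ?_⟩, fun f hf => ?_⟩
      · have e := Subgroup.mem_centralizer_iff.mp hy.1.2 _ (hAI s⁻¹ (I.inv_mem hs) a ha)
        calc a * (s * y * s⁻¹) = s * ((s⁻¹ * a * s⁻¹⁻¹) * y) * s⁻¹ := by group
          _ = s * (y * (s⁻¹ * a * s⁻¹⁻¹)) * s⁻¹ := by rw [e]
          _ = _ := by group
      · have h1 := hAI s hs _ (hy.2 (s⁻¹ * f * s⁻¹⁻¹) ((‹F.Normal›).conj_mem f hf _))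
        convert h1 using 1
        group
    obtain ⟨L, hL⟩ := exists_list I
    obtain ⟨w, hw, hwA, -, hwL⟩ := eigen (Z := Z1) (A := A)
      (hF.of_dvd_nat (Subgroup.card_dvd_of_le fun y hy => hy.1.1)) hZA
      (fun a ha b hb => hb.2 a ha.1.1)
      (fun a ha b hb => hAn a ha.1.1 b hb) L (fun s hs => hsq s ((hL s).mp hs))
      (fun s hs t ht => hIc s ((hL s).mp hs) t ((hL t).mp ht)) (fun s hs => hZI s ((hL s).mp hs))
      (fun s hs => hAI s ((hL s).mp hs)) 1 (fun s _ => by simp) (fun a ha => by simpa using ha)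
      (x := x) hxZ hxA (Or.inl rfl) L (fun s hs => hs)
    set B := A ⊔ zpowers w with hB
    have hwC := Subgroup.mem_centralizer_iff.mp hw.1.2
    have hBel : ∀ b ∈ B, ∃ a ∈ A, ∃ i : ℤ, b = a * w ^ i := by
      intro b hb
      have hn : zpowers w ≤ normalizer (A : Set S) := by
        rw [Subgroup.zpowers_le, Subgroup.mem_normalizer_iff]
        intro c
        constructor
        · intro hc; exact hAn w hw.1.1 c hc
        · intro hc
          have := hAn w⁻¹ (F.inv_mem hw.1.1) _ hc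
          simpa [mul_assoc] using this
      rw [hB, ← SetLike.mem_coe, Subgroup.coe_mul_of_right_le_normalizer_left A (zpowers w) hn] at hb
      obtain ⟨a, ha, _, ⟨i, rfl⟩, rfl⟩ := Set.mem_mul.mp hb
      exact ⟨a, ha, i, rfl⟩
    have hBP : P B := by
      refine ⟨sup_le hAF (Subgroup.zpowers_le.mpr hw.1.1), ?_, ?_, ?_⟩
      · intro a ha b hb
        obtain ⟨a₁, ha₁, i, rfl⟩ := hBel a ha
        obtain ⟨a₂, ha₂, j, rfl⟩ := hBel b hb
        exact (Commute.mul_left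
          (Commute.mul_right (show Commute a₁ a₂ from hAc a₁ ha₁ a₂ ha₂)
            ((show Commute a₁ w from hwC a₁ ha₁).zpow_right j))
          (Commute.mul_right ((show Commute a₂ w from hwC a₂ ha₂).symm.zpow_left i)
            ((Commute.refl w).zpow_zpow i j))).eq
      · intro f hf b hb
        obtain ⟨a, ha, i, rfl⟩ := hBel b hb
        rw [show f * (a * w ^ i) * f⁻¹ = (f * a * f⁻¹) * (f * w * f⁻¹) ^ i by rw [conj_zpow]; group]
        refine B.mul_mem (Subgroup.mem_sup_left (hAn f hf a ha)) (B.zpow_mem ?_ i)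
        rw [show f * w * f⁻¹ = (f * w * f⁻¹ * w⁻¹) * w by group]
        exact Subgroup.mul_mem_sup (hw.2 f hf) (mem_zpowers w)
      · intro s hs b hb
        obtain ⟨a, ha, i, rfl⟩ := hBel b hb
        rw [show s * (a * w ^ i) * s⁻¹ = (s * a * s⁻¹) * (s * w * s⁻¹) ^ i by rw [conj_zpow]; group]
        refine B.mul_mem (Subgroup.mem_sup_left (hAI s hs a ha)) (B.zpow_mem ?_ i)
        rcases hwL s ((hL s).mpr hs) with e | e
        · rw [show s * w * s⁻¹ = (s * w * s⁻¹ * w⁻¹) * w by group]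
          exact Subgroup.mul_mem_sup e (mem_zpowers w)
        · rw [show s * w * s⁻¹ = (s * w * s⁻¹ * w) * w⁻¹ by group]
          exact Subgroup.mul_mem_sup e ((zpowers w).inv_mem (mem_zpowers w))
    exact hwA (hAmax.2 hBP le_sup_left (Subgroup.mem_sup_right (mem_zpowers w)))
  intro s hs hfix f hf
  set c := f⁻¹ * (s * f * s⁻¹) with hc
  have hcF : c ∈ F := F.mul_mem (F.inv_mem hf) ((‹F.Normal›).conj_mem f hf s)
  have hcA : c ∈ A := by
    refine hCA ⟨hcF, Subgroup.mem_centralizer_iff.mpr fun a ha => ?_⟩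
    have e : (s * f * s⁻¹) * a * (s * f * s⁻¹)⁻¹ = f * a * f⁻¹ := by
      have h1 : s⁻¹ * a * s = a := by
        calc s⁻¹ * a * s = s⁻¹ * (s * a * s⁻¹) * s := by rw [hfix a ha]
          _ = a := by group
      calc (s * f * s⁻¹) * a * (s * f * s⁻¹)⁻¹ = s * (f * (s⁻¹ * a * s) * f⁻¹) * s⁻¹ := by group
        _ = f * a * f⁻¹ := by rw [h1, hfix _ (hAn f hf a ha)]
    have e2 : c * a * c⁻¹ = a := by
      calc c * a * c⁻¹ = f⁻¹ * ((s * f * s⁻¹) * a * (s * f * s⁻¹)⁻¹) * f := by rw [hc]; group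
        _ = a := by rw [e]; group
    exact (mul_inv_eq_iff_eq_mul.mp e2).symm
  have hsf : s * f * s⁻¹ = f * c := by rw [hc]; group
  have hc1 := odd_eq_one hF hcF (fix_of_shift (hsq s hs) (hfix c hcA) hsf)
  rw [hc1, mul_one] at hsf
  exact mul_inv_eq_iff_eq_mul.mp hsf

/-- The recursion. -/
theorem chain {A : Subgroup S} (hA : Odd (Nat.card A)) (hab : ∀ a ∈ A, ∀ b ∈ A, a * b = b * a)
    (I : Subgroup S) (hI : IsElementaryAbelian 2 I) (hIA : ∀ s ∈ I, ∀ a ∈ A, s * a * s⁻¹ ∈ A)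
    (hfaith : ∀ s ∈ I, (∀ a ∈ A, (orderOf a).Prime → s * a * s⁻¹ = a) → s = 1) :
    ∀ (m : ℕ) (J : Subgroup S), J ≤ I → Nat.card J = 2 ^ m →
      ∃ v : Fin m → S, (∀ i, v i ∈ A ∧ (orderOf (v i)).Prime ∧ ∀ s ∈ I, s * v i * s⁻¹ ∈ zpowers (v i)) ∧
        Nat.card (⨆ i, zpowers (v i) : Subgroup S) = ∏ i, orderOf (v i) ∧
        (∀ u ∈ (⨆ i, zpowers (v i) : Subgroup S), (∀ s ∈ J, s * u * s⁻¹ = u) → u = 1) ∧
        ∀ s ∈ J, (∀ i, s * v i * s⁻¹ = v i) → s = 1 := by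
  classical
  intro m
  induction m with
  | zero =>
    intro J _ hJ
    refine ⟨Fin.elim0, fun i => i.elim0, ?_, ?_, ?_⟩
    · rw [iSup_of_empty, Subgroup.card_bot, Finset.prod_of_isEmpty]
    · intro u hu _
      rwa [iSup_of_empty, Subgroup.mem_bot] at hu
    · intro s hs _
      rw [pow_zero] at hJ
      rwa [Subgroup.card_eq_one.mp hJ, Subgroup.mem_bot] at hs
  | succ m ih =>
    intro J hJI hJ
    have hsq : ∀ s ∈ I, s * s = 1 := fun s hs => by rw [← pow_two]; exact hI.2 s hs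
    have hIc : ∀ s ∈ I, ∀ t ∈ I, s * t = t * s := fun s hs t ht =>
      congrArg Subtype.val (hI.1.is_comm.comm (⟨s, hs⟩ : I) ⟨t, ht⟩)
    obtain ⟨s₀, hs₀, hs₀1⟩ := J.bot_or_exists_ne_one.resolve_left fun e => by
      rw [e, Subgroup.card_bot] at hJ
      exact absurd hJ.symm (Nat.one_lt_two_pow (Nat.succ_ne_zero m)).ne'
    obtain ⟨a, ha, haq, hne⟩ : ∃ a ∈ A, (orderOf a).Prime ∧ s₀ * a * s₀⁻¹ ≠ a := by
      by_contra hcon
      push Not at hcon
      exact hs₀1 (hfaith s₀ (hJI hs₀) hcon)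
    set q := orderOf a with hq
    set Zq : Subgroup S :=
      { carrier := {x | x ∈ A ∧ x ^ q = 1}
        one_mem' := ⟨A.one_mem, one_pow q⟩
        mul_mem' := fun {x y} hx hy => ⟨A.mul_mem hx.1 hy.1, by
          rw [(show Commute x y from hab x hx.1 y hy.1).mul_pow, hx.2, hy.2, one_mul]⟩
        inv_mem' := fun {x} hx => ⟨A.inv_mem hx.1, by rw [inv_pow, hx.2, inv_one]⟩ } with hZq
    have hZqI : ∀ s ∈ I, ∀ x ∈ Zq, s * x * s⁻¹ ∈ Zq := fun s hs x hx =>
      ⟨hIA s hs x hx.1, by rw [conj_pow, hx.2, mul_one, mul_inv_cancel]⟩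
    have haZ : a ∈ Zq := ⟨ha, pow_orderOf_eq_one a⟩
    set x := a * (s₀ * a * s₀⁻¹)⁻¹ with hx
    have hxZ : x ∈ Zq := Zq.mul_mem haZ (Zq.inv_mem (hZqI s₀ (hJI hs₀) a haZ))
    have hxinv : s₀ * x * s₀⁻¹ * x = 1 := by
      have e : s₀ * (s₀ * a * s₀⁻¹) * s₀⁻¹ = a := by
        rw [show s₀ * (s₀ * a * s₀⁻¹) * s₀⁻¹ = (s₀ * s₀) * a * (s₀ * s₀)⁻¹ by group, hsq s₀ (hJI hs₀)]; group
      rw [show s₀ * x * s₀⁻¹ = (s₀ * a * s₀⁻¹) * (s₀ * (s₀ * a * s₀⁻¹) * s₀⁻¹)⁻¹ by rw [hx]; group, e, hx]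
      group
    obtain ⟨L, hL⟩ := exists_list I
    obtain ⟨w, hw, hw1, hw0, hwL⟩ := eigen (Z := Zq) (A := (⊥ : Subgroup S))
      (hA.of_dvd_nat (Subgroup.card_dvd_of_le fun y hy => hy.1)) bot_le
      (fun u hu v hv => by rw [Subgroup.mem_bot, hab u hu.1 v hv.1]; group)
      (fun u _ v hv => by rw [Subgroup.mem_bot] at hv ⊢; rw [hv]; group) L
      (fun s hs => hsq s ((hL s).mp hs))
      (fun s hs t ht => hIc s ((hL s).mp hs) t ((hL t).mp ht)) (fun s hs => hZqI s ((hL s).mp hs))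
      (fun s _ v hv => by rw [Subgroup.mem_bot] at hv ⊢; rw [hv]; group) s₀
      (fun s hs => hIc s ((hL s).mp hs) s₀ (hJI hs₀))
      (fun v hv => by rw [Subgroup.mem_bot] at hv ⊢; rw [hv]; group)
      (x := x) hxZ (fun e => hne (mul_inv_eq_one.mp (Subgroup.mem_bot.mp e)).symm)
      (Or.inr (Subgroup.mem_bot.mpr hxinv)) L (fun s hs => hs)
    replace hw0 := hw0.resolve_left hs₀1
    rw [Subgroup.mem_bot] at hw1 hw0
    have := Fact.mk haq
    have hwq : orderOf w = q := orderOf_eq_prime hw.2 hw1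
    have hsign : ∀ s ∈ I, s * w * s⁻¹ = w ∨ s * w * s⁻¹ = w⁻¹ := by
      intro s hs
      rcases hwL s ((hL s).mpr hs) with e | e <;> rw [Subgroup.mem_bot] at e
      · exact Or.inl (mul_inv_eq_one.mp e)
      · exact Or.inr (eq_inv_of_mul_eq_one_left e)
    have hs₀w : s₀ * w * s₀⁻¹ = w⁻¹ := eq_inv_of_mul_eq_one_left hw0
    have hww : ∀ i : ℤ, (w ^ i)⁻¹ = w ^ i → w ^ i = 1 := fun i e =>
      odd_eq_one hA (A.zpow_mem hw.1 i) (by nth_rewrite 1 [← e]; exact inv_mul_cancel _)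
    set J' := J ⊓ centralizer ({w} : Set S) with hJ'
    have hmem : ∀ s ∈ J, s ∈ J' ↔ s * w * s⁻¹ = w := fun s hs => by
      rw [hJ', Subgroup.mem_inf, Subgroup.mem_centralizer_singleton_iff, mul_inv_eq_iff_eq_mul]
      exact ⟨fun h => h.2, fun h => ⟨hs, h⟩⟩
    have hJ'c : Nat.card J' = 2 ^ m := by
      have hidx : (J'.subgroupOf J).index = 2 := by
        rw [Subgroup.index_eq_two_iff]
        refine ⟨⟨s₀, hs₀⟩, fun b => ?_⟩
        simp only [Subgroup.mem_subgroupOf, Subgroup.coe_mul]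
        rw [hmem _ b.2, hmem _ (J.mul_mem b.2 hs₀),
          show (b : S) * s₀ * w * ((b : S) * s₀)⁻¹ = b * (s₀ * w * s₀⁻¹) * (b : S)⁻¹ by group, hs₀w,
          show (b : S) * w⁻¹ * (b : S)⁻¹ = ((b : S) * w * (b : S)⁻¹)⁻¹ by group]
        rcases hsign b (hJI b.2) with e | e <;> rw [e]
        · refine Or.inr ⟨rfl, fun e2 => ?_⟩
          exact hw1 (by have := hww 1 (by rwa [zpow_one]); rwa [zpow_one] at this)
        · refine Or.inl ⟨inv_inv w, fun e2 => ?_⟩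
          exact hw1 (by have := hww 1 (by rwa [zpow_one]); rwa [zpow_one] at this)
      have h1 := (J'.subgroupOf J).card_mul_index
      rw [hidx, hJ, Nat.card_congr (Subgroup.subgroupOfEquivOfLe (inf_le_left : J' ≤ J)).toEquiv, pow_succ] at h1
      exact Nat.eq_of_mul_eq_mul_right Nat.two_pos h1
    obtain ⟨v, hv, hvc, hvfix, hvker⟩ := ih J' (inf_le_left.trans hJI) hJ'c
    set W := (⨆ i, zpowers (v i) : Subgroup S) with hW
    have hWA : W ≤ A := iSup_le fun i => Subgroup.zpowers_le.mpr (hv i).1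
    have hdisj : ∀ i : ℤ, w ^ i ∈ W → w ^ i = 1 := fun i hi => hvfix _ hi fun s hs => by
      rw [← conj_zpow, (hmem s hs.1).mp hs]
    have hsup : (⨆ i, zpowers ((Fin.cons w v : Fin (m + 1) → S) i) : Subgroup S) = zpowers w ⊔ W := by
      refine le_antisymm (iSup_le fun i => ?_) (sup_le (le_iSup_of_le 0 (by rw [Fin.cons_zero]))
        (iSup_le fun i => le_iSup_of_le i.succ (by rw [Fin.cons_succ])))
      refine Fin.cases ?_ (fun j => ?_) i
      · rw [Fin.cons_zero]; exact le_sup_left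
      · rw [Fin.cons_succ]; exact (le_iSup (fun i => zpowers (v i)) j).trans le_sup_right
    have hwA : zpowers w ≤ A := Subgroup.zpowers_le.mpr hw.1
    have hWel : ∀ u ∈ zpowers w ⊔ W, ∃ i : ℤ, ∃ c ∈ W, u = w ^ i * c := by
      intro u hu
      have hn : W ≤ normalizer (zpowers w : Set S) := fun c hc => by
        rw [Subgroup.mem_normalizer_iff_map_conj_eq, MonoidHom.map_zpowers]
        show zpowers (c * w * c⁻¹) = zpowers w
        rw [hab c (hWA hc) w hw.1, mul_inv_cancel_right]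
      rw [← SetLike.mem_coe, Subgroup.coe_mul_of_right_le_normalizer_left (zpowers w) W hn] at hu
      obtain ⟨_, ⟨i, rfl⟩, c, hc, rfl⟩ := Set.mem_mul.mp hu
      exact ⟨i, c, hc, rfl⟩
    refine ⟨Fin.cons w v, ?_, ?_, ?_, ?_⟩
    · intro i
      refine Fin.cases ?_ (fun j => ?_) i
      swap
      · rw [Fin.cons_succ]; exact hv j
      rw [Fin.cons_zero]
      refine ⟨hw.1, hwq ▸ haq, fun s hs => ?_⟩
      rcases hsign s hs with e | e <;> rw [e]
      · exact mem_zpowers w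
      · exact (zpowers w).inv_mem (mem_zpowers w)
    · rw [hsup, Fin.prod_univ_succ, Fin.cons_zero]
      simp only [Fin.cons_succ]
      rw [← hvc, ← Nat.card_zpowers, ← Nat.card_prod]
      refine Nat.card_congr (Equiv.ofBijective
        (fun uc : zpowers w × W => (⟨(uc.1 : S) * uc.2, Subgroup.mul_mem_sup uc.1.2 uc.2.2⟩ : ↥(zpowers w ⊔ W)))
        ⟨?_, ?_⟩).symm
      · rintro ⟨⟨_, i, rfl⟩, c⟩ ⟨⟨_, j, rfl⟩, d⟩ e
        have e' : w ^ i * (c : S) = w ^ j * d := congrArg Subtype.val e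
        have h1 : w ^ (-j + i) = (d : S) * (c : S)⁻¹ := by
          rw [zpow_add, zpow_neg, eq_mul_inv_iff_mul_eq, mul_assoc, e', inv_mul_cancel_left]
        have h2 := hdisj _ (h1 ▸ W.mul_mem d.2 (W.inv_mem c.2))
        have hij : w ^ i = w ^ j := by
          rw [zpow_add, zpow_neg, inv_mul_eq_one] at h2; exact h2.symm
        have hcd : c = d := Subtype.ext (by rw [h2] at h1; exact (mul_inv_eq_one.mp h1.symm).symm)
        exact Prod.ext (Subtype.ext hij) hcd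
      · rintro ⟨u, hu⟩
        obtain ⟨i, c, hc, rfl⟩ := hWel u hu
        exact ⟨(⟨_, i, rfl⟩, ⟨c, hc⟩), rfl⟩
    · intro u hu hfix
      rw [hsup] at hu
      obtain ⟨i, c, hc, rfl⟩ := hWel u hu
      have hcfix : c = 1 := hvfix c hc fun s hs => by
        have h1 := hfix s hs.1
        rw [show s * (w ^ i * c) * s⁻¹ = (s * w ^ i * s⁻¹) * (s * c * s⁻¹) by group, ← conj_zpow,
          (hmem s hs.1).mp hs] at h1
        exact mul_left_cancel h1
      have h1 := hfix s₀ hs₀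
      rw [hcfix, mul_one, ← conj_zpow, hs₀w, inv_zpow] at h1
      rw [hcfix, mul_one]
      exact hww i h1
    · intro s hs hfix
      have h1 := hfix 0
      rw [Fin.cons_zero] at h1
      exact hvker s ((hmem s hs).mpr h1) fun i => by simpa using hfix i.succ

/-- Let S be a finite solvable group whose Fitting subgroup F(S) has odd order, and let I be an elementary abelian 2-subgroup of S of order 2ⁿ with n ≥ 1. Then F(S) contains subgroups A₁, …, Aₙ of prime order, each normalized by I, pairwise commuting and generating a subgroup A of order |A₁|⋯|Aₙ| (their internal direct product), such that no non-identity element of I centralizes A. -/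
theorem result {S : Type*} [Group S] [Finite S]
    [Group.IsSolvable S] (hF : Odd (Nat.card ↥(Cfsg.fittingSubgroup S)))
    (I : Subgroup S) (hI : Cfsg.IsElementaryAbelian 2 I) (n : ℕ) (hn : 1 ≤ n) (hIn : Nat.card ↥I = 2 ^ n) :
    ∃ f : Fin n → Subgroup S, (∀ i, (Nat.card ↥(f i)).Prime) ∧ (∀ i, f i ≤ Cfsg.fittingSubgroup S) ∧
      (∀ i, I ≤ Subgroup.normalizer ((f i) : Set S)) ∧ (∀ i j, i ≠ j → ∀ a ∈ f i, ∀ b ∈ f j, a * b = b * a) ∧
      Nat.card ↥(⨆ i, f i) = ∏ i, Nat.card ↥(f i) ∧ I ⊓ Subgroup.centralizer ((⨆ i, f i : Subgroup S) : Set S) = ⊥ := by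
  classical
  haveI hFn := isNilpotent_fittingSubgroup (G := S)
  obtain ⟨A, hAF, hab, hAI, hker⟩ := exists_abelian (fittingSubgroup S) I hFn hF hI
  have hA : Odd (Nat.card A) := hF.of_dvd_nat (Subgroup.card_dvd_of_le hAF)
  have hsq : ∀ s ∈ I, s * s = 1 := fun s hs => by rw [← pow_two]; exact hI.2 s hs
  have hfaith : ∀ s ∈ I, (∀ a ∈ A, (orderOf a).Prime → s * a * s⁻¹ = a) → s = 1 := by
    intro s hs h
    have h1 := hker s hs (fix_of_fix_prime hA hab (hsq s hs) (hAI s hs) h)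
    have h2 : s ∈ fittingSubgroup S := centralizer_fitting_le_of_solvable
      (Subgroup.mem_centralizer_iff.mpr fun f hf => (h1 f hf).symm)
    exact odd_eq_one hF h2 (hsq s hs)
  obtain ⟨v, hv, hvc, -, hvker⟩ := chain hA hab I hI hAI hfaith n I le_rfl hIn
  refine ⟨fun i => zpowers (v i), fun i => by rw [Nat.card_zpowers]; exact (hv i).2.1,
    fun i => (Subgroup.zpowers_le.mpr (hv i).1).trans hAF, fun i s hs => ?_,
    fun i j _ a ha b hb => hab a ((Subgroup.zpowers_le.mpr (hv i).1) ha) b ((Subgroup.zpowers_le.mpr (hv j).1) hb), ?_, ?_⟩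
  · rw [Subgroup.mem_normalizer_iff_map_conj_eq, MonoidHom.map_zpowers]
    refine Subgroup.eq_of_le_of_card_ge (Subgroup.zpowers_le.mpr ((hv i).2.2 s hs)) ?_
    rw [Nat.card_zpowers, Nat.card_zpowers]
    exact le_of_eq (MulEquiv.orderOf_eq _ _).symm
  · rw [hvc]
    exact Finset.prod_congr rfl fun i _ => (Nat.card_zpowers _).symm
  · rw [eq_bot_iff]
    rintro s ⟨hs, hsC⟩
    rw [Subgroup.mem_bot]
    refine hvker s hs fun i => ?_
    rw [mul_inv_eq_iff_eq_mul]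
    exact (Subgroup.mem_centralizer_iff.mp hsC _
      (Subgroup.mem_iSup_of_mem i (mem_zpowers (v i)))).symm

end Cfsg.Agent.S4408
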