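import Cfsg.Statements.S4409
import Cfsg.Agent.Lib.EightAbelian.Group
import Cfsg.Agent.Lib.HallSolvable
-- import your own Cfsg.Agent.* helpers here

set_option autoImplicit false
open Cfsg

namespace Cfsg.Agent.S4409

/-- Let S be a finite solvable group with O_{2'}(S) = 1 that contains a non-cyclic abelian subgroup of order 8, while no proper subgroup of S of 2-power index contains one. Then a Sylow 2-subgroup X of S is normal in S, and one of the following holds: X is abelian; X is extraspecial of order at least 32; X has a generalized quaternion subgroup X₀ of index 2 with X = X₀·C_X(X₀); or X is special with centre of order 4. -/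
theorem result {S : Type*} [Group S] [Finite S]
    [Group.IsSolvable S] (hO : Cfsg.pPrimeCore 2 S = ⊥)
    (h8 : ∃ A : Subgroup S, IsMulCommutative ↥A ∧ ¬ IsCyclic ↥A ∧ Nat.card ↥A = 8)
    (hmin : ∀ R : Subgroup S, R ≠ ⊤ → (∃ k : ℕ, R.index = 2 ^ k) →
      ¬ ∃ A : Subgroup S, A ≤ R ∧ IsMulCommutative ↥A ∧ ¬ IsCyclic ↥A ∧ Nat.card ↥A = 8)
    (X : Sylow 2 S) :
    (X : Subgroup S).Normal ∧
      (IsMulCommutative ↥X ∨
        (Cfsg.IsExtraspecial 2 ↥X ∧ 32 ≤ Nat.card ↥X) ∨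
        (∃ (X₀ : Subgroup S) (k : ℕ), X₀ ≤ (X : Subgroup S) ∧ X₀.relIndex (X : Subgroup S) = 2 ∧
          Nonempty (↥X₀ ≃* QuaternionGroup (2 ^ (k + 1))) ∧ X₀ ⊔ ((X : Subgroup S) ⊓ Subgroup.centralizer (X₀ : Set S)) = (X : Subgroup S)) ∨
        (Cfsg.IsSpecial 2 ↥X ∧ Nat.card ↥(Subgroup.center ↥X) = 4)) := by
  classical
  haveI : Fact (Nat.Prime 2) := ⟨Nat.prime_two⟩
  have hS8 : CfsgLib.EightAbelian.Has8 (⊤ : Subgroup S) := by
    obtain ⟨A, h1, h2, h3⟩ := h8
    exact ⟨A, le_top, h1, h2, h3⟩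
  set Q := pCore 2 S with hQdef
  have hQp : IsPGroup 2 Q := CfsgLib.isPGroup_pCore 2
  have hC : Subgroup.centralizer (Q : Set S) ≤ Q := CfsgLib.centralizer_pCore_le Nat.prime_two hO
  have hQ8 : CfsgLib.EightAbelian.Has8 Q := by
    by_cases hS : IsPGroup 2 S
    · exact hS8.mono (CfsgLib.le_pCore (N := ⊤) (hS.to_subgroup ⊤))
    · exact CfsgLib.EightAbelian.has8_normal hQp hC hS hS8
  obtain ⟨e, m, hm, hem⟩ := Nat.exists_eq_pow_mul_and_not_dvd (Nat.card_pos (α := S)).ne' 2 (by norm_num)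
  have hcop : Nat.Coprime m (2 ^ e) := Nat.Coprime.pow_right e ((Nat.coprime_comm.mp ((Nat.Prime.coprime_iff_not_dvd Nat.prime_two).mpr hm)))
  obtain ⟨⟨H, hH⟩, -⟩ := CfsgLib.hall_main (G := S) (m := m) (n := 2 ^ e) (by rw [hem, mul_comm]) hcop
  have hmne : 0 < m := hH ▸ Nat.card_pos
  -- a subgroup containing `H` has index a power of two
  have hindex : ∀ R : Subgroup S, H ≤ R → ∃ k : ℕ, R.index = 2 ^ k := by
    intro R hR
    obtain ⟨t, ht⟩ := Subgroup.card_dvd_of_le hR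
    have h1 := R.card_mul_index
    rw [ht, hH, hem, mul_assoc, mul_comm (2 ^ e) m] at h1
    obtain ⟨k, -, hk⟩ := (Nat.dvd_prime_pow Nat.prime_two).mp (Dvd.intro_left _ (Nat.eq_of_mul_eq_mul_left hmne h1))
    exact ⟨k, hk⟩
  have hQH : Q ⊔ H = ⊤ := by
    by_contra hne
    obtain ⟨A, hA, h1, h2, h3⟩ := hQ8.mono (le_sup_left : Q ≤ Q ⊔ H)
    exact hmin _ hne (hindex _ le_sup_right) ⟨A, hA, h1, h2, h3⟩
  have hXQ : (X : Subgroup S) = Q := by
    refine (Subgroup.eq_of_le_of_card_ge (hQp.le_sylow_of_normal X) ?_).symm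
    have h1 := CfsgLib.card_sup_dvd_mul H Q
    rw [sup_comm, hQH, Subgroup.card_top, hem, hH, mul_comm (2 ^ e) m] at h1
    have h2 : 2 ^ e ∣ Nat.card Q := Nat.dvd_of_mul_dvd_mul_left hmne h1
    have h3 : Nat.card X = 2 ^ e := by
      obtain ⟨k, hk⟩ := IsPGroup.iff_card.mp X.isPGroup'
      have h4 := (X : Subgroup S).card_mul_index
      rw [hem, hk] at h4
      have h5 : 2 ^ k ∣ 2 ^ e := (Nat.Coprime.pow_left k ((Nat.Prime.coprime_iff_not_dvd Nat.prime_two).mpr hm)).dvd_of_dvd_mul_right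
        (Dvd.intro _ h4)
      have h6 : 2 ^ e ∣ 2 ^ k :=
        (Nat.Coprime.pow_left e ((Nat.Prime.coprime_iff_not_dvd Nat.prime_two).mpr X.not_dvd_index)).dvd_of_dvd_mul_right
          (Dvd.intro m h4.symm)
      exact hk.trans (Nat.dvd_antisymm h5 h6)
    rw [h3]
    exact Nat.le_of_dvd Nat.card_pos h2
  refine ⟨hXQ ▸ inferInstance, ?_⟩
  show IsMulCommutative ↥(X : Subgroup S) ∨ (IsExtraspecial 2 ↥(X : Subgroup S) ∧ 32 ≤ Nat.card ↥(X : Subgroup S)) ∨ _ ∨
    (IsSpecial 2 ↥(X : Subgroup S) ∧ Nat.card ↥(Subgroup.center ↥(X : Subgroup S)) = 4)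
  rw [hXQ]
  have hodd : Odd (Nat.card H) := by rw [hH]; exact Nat.odd_iff.mpr (by omega)
  let φ : H →* MulAut Q := (MulAut.conjNormal (H := Q)).comp H.subtype
  have hΓ : Odd (Nat.card φ.range) := Odd.of_dvd_nat hodd (Subgroup.card_range_dvd φ)
  have hsmall : CfsgLib.EightAbelian.Small φ.range := by
    intro K hK hinv h8K
    set K' := K.map Q.subtype with hK'
    have hnorm : H ≤ Subgroup.normalizer (K' : Set S) := by
      intro h hh
      refine Subgroup.mem_normalizer_iff.mpr fun x => ⟨?_, ?_⟩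
      · rintro ⟨k, hk, rfl⟩
        exact ⟨φ ⟨h, hh⟩ k, hinv _ ⟨_, rfl⟩ k hk, MulAut.conjNormal_apply h k⟩
      · rintro ⟨k, hk, hkx⟩
        refine ⟨φ ⟨h⁻¹, H.inv_mem hh⟩ k, hinv _ ⟨_, rfl⟩ k hk, (MulAut.conjNormal_apply h⁻¹ k).trans ?_⟩
        rw [show (k : S) = h * x * h⁻¹ from hkx]
        group
    have hne : K' ⊔ H ≠ ⊤ := fun htop => hK (eq_top_iff.mpr fun q _ => by
      have hq : (q : S) ∈ ((H ⊔ K' : Subgroup S) : Set S) := by rw [sup_comm, htop]; exact Subgroup.mem_top _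
      rw [Subgroup.coe_mul_of_left_le_normalizer_right H K' hnorm] at hq
      obtain ⟨h, hh, x, ⟨k, hk, rfl⟩, he⟩ := Set.mem_mul.mp hq
      have hhQ : h ∈ Q := by
        have : h = (q : S) * (k : S)⁻¹ := by rw [← he]; exact (mul_inv_cancel_right h _).symm
        rw [this]; exact Q.mul_mem q.2 (Q.inv_mem k.2)
      obtain ⟨j, hj⟩ := IsPGroup.iff_card.mp hQp
      have hbot : Q ⊓ H = ⊥ := Subgroup.inf_eq_bot_of_coprime (by rw [hj, hH]; exact (Nat.Coprime.pow_left j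
        ((Nat.Prime.coprime_iff_not_dvd Nat.prime_two).mpr hm)))
      have h1 : h = 1 := Subgroup.mem_bot.mp (hbot ▸ Subgroup.mem_inf.mpr ⟨hhQ, hh⟩)
      rw [h1, one_mul] at he
      rwa [show q = k from Subtype.ext he.symm])
    obtain ⟨B, hB, h1, h2, h3⟩ := h8K
    have e' := Subgroup.equivMapOfInjective B Q.subtype Q.subtype_injective
    refine hmin _ hne (hindex _ le_sup_right) ⟨B.map Q.subtype, (Subgroup.map_mono hB).trans le_sup_left,
      ⟨⟨fun a b => ?_⟩⟩, fun hc => h2 ?_, by rw [Subgroup.card_map_of_injective Q.subtype_injective, h3]⟩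
    · obtain ⟨a', rfl⟩ := e'.surjective a
      obtain ⟨b', rfl⟩ := e'.surjective b
      rw [← map_mul, ← map_mul, h1.is_comm.comm]
    · haveI := hc
      exact isCyclic_of_surjective e'.symm e'.symm.surjective
  rcases CfsgLib.EightAbelian.structure_small hQp hΓ hsmall hQ8.comap with h | h | ⟨R, hR, ⟨f⟩, hsup⟩ | h
  · exact Or.inl h
  · exact Or.inr (Or.inl h)
  · refine Or.inr (Or.inr (Or.inl ⟨R.map Q.subtype, 0, Subgroup.map_subtype_le R, ?_,
      ⟨(Subgroup.equivMapOfInjective R Q.subtype Q.subtype_injective).symm.trans f⟩, ?_⟩))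
    · rw [Subgroup.relIndex, Subgroup.subgroupOf, Subgroup.comap_map_eq_self_of_injective Q.subtype_injective, hR]
    · refine le_antisymm (sup_le (Subgroup.map_subtype_le R) inf_le_left) fun q hq => ?_
      have h1 : (⟨q, hq⟩ : Q) ∈ R ⊔ Subgroup.centralizer (R : Set Q) := hsup.symm ▸ Subgroup.mem_top _
      have h2 : q ∈ (R ⊔ Subgroup.centralizer (R : Set Q)).map Q.subtype := ⟨_, h1, rfl⟩
      rw [Subgroup.map_sup] at h2
      refine (sup_le_sup le_rfl ?_ : _ ≤ R.map Q.subtype ⊔ (Q ⊓ Subgroup.centralizer (R.map Q.subtype : Set S))) h2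
      rintro _ ⟨c, hc, rfl⟩
      refine Subgroup.mem_inf.mpr ⟨c.2, Subgroup.mem_centralizer_iff.mpr ?_⟩
      rintro _ ⟨r, hr, rfl⟩
      exact congrArg Subtype.val (Subgroup.mem_centralizer_iff.mp hc r hr)
  · exact Or.inr (Or.inr (Or.inr h))

end Cfsg.Agent.S4409
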