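import Cfsg.Statements.S4410
import Mathlib
import Cfsg.Agent.Lib.HallHigmanB.Exceptional
import Cfsg.Agent.Lib.PLocal.SolvableSeparable
-- import your own Cfsg.Agent.* helpers here

set_option autoImplicit false
open Cfsg

namespace Cfsg.Agent.S4410

namespace Aux

open Module CfsgLib CfsgLib.HallHigmanB
open scoped TensorProduct commutatorElement

universe a b c

/-- A rational eigenvalue at an element of a stable weight space. -/
theorem weight_rational {H : Type a} [Group H] [Finite H] {K : Type b} [Field K] [IsAlgClosed K] [CharP K 2]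
    {W : Type c} [AddCommGroup W] [Module K W] [FiniteDimensional K W] (ρ : H →* Module.End K W)
    (hρ : Function.Injective ρ) (hsol : Cfsg.IsPSolvable 2 H) (hOp : Cfsg.pCore 2 H = ⊥) {x : H}
    (hxo : orderOf x = 2 ^ 2) (hr : (ρ x - 1) ^ 3 = 0) (e : W) (he : ∀ w : W, ∃ c : K, ((ρ x - 1) ^ 2 : Module.End K W) w = c • e) :
    ∃ (g : H) (μ : K), μ ≠ 1 ∧ μ ≠ 0 ∧ e ≠ 0 ∧ ρ g e = μ • e := by
  classical
  obtain ⟨q, hq, Q, hpq, hQ, hxQ, hyQ⟩ := exists_invariant hsol hOp (n := 2) (by norm_num) hxo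
  haveI := hq
  set y := x ^ 2 ^ (2 - 1) with hy
  obtain ⟨T, ⟨hTQ, hxT, hyT⟩, hmin⟩ := Set.Finite.exists_minimalFor (fun U : Subgroup H => Nat.card U)
    {U : Subgroup H | U ≤ Q ∧ x ∈ Subgroup.normalizer (U : Set H) ∧ y ∉ Subgroup.centralizer (U : Set H)}
    (Set.toFinite _) ⟨Q, le_rfl, hxQ, hyQ⟩
  have hT : IsPGroup q T := hQ.to_le hTQ
  haveI : Group.IsNilpotent T := hT.isNilpotent
  have hproper : ∀ M : Subgroup H, M ≤ T → x ∈ Subgroup.normalizer (M : Set H) → M ≠ T →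
      y ∈ Subgroup.centralizer (M : Set H) := fun M hM hxM hne => by
    by_contra h
    exact hne (Subgroup.eq_of_le_of_card_ge hM (hmin (j := M) ⟨hM.trans hTQ, hxM, h⟩ (Subgroup.card_le_of_le hM)))
  have hyTn : y ∈ Subgroup.normalizer (T : Set H) := pow_mem hxT _
  have hxy : Commute x y := Commute.self_pow x _
  obtain ⟨k₀, hk₀⟩ : ∃ k : ℕ, y ^ 2 ^ k = 1 := ⟨1, by
    rw [hy, ← pow_mul, ← pow_add, show 2 - 1 + 1 = 2 from rfl, ← hxo, pow_orderOf_eq_one]⟩
  have hnab : ¬ ∀ a ∈ T, ∀ b ∈ T, a * b = b * a := fun h => by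
    rcases bound_of_invariant hpq ρ hρ T hT hxT (n := 2) (by norm_num) hxo hyT 3 hr with h' | ⟨hnc, -⟩
    · norm_num at h'
    · exact hnc ⟨⟨fun a b => Subtype.ext (h a a.2 b b.2)⟩⟩
  push Not at hnab
  obtain ⟨u₀, hu₀, w₀, hw₀, huw⟩ := hnab
  set D := ⁅T, T⁆ with hD
  have hDT : D ≤ T := by
    rw [hD, Subgroup.commutator_le]
    intro u hu v hv
    rw [commutatorElement_def]; exact mul_mem (mul_mem (mul_mem hu hv) (inv_mem hu)) (inv_mem hv)
  have hDne : D ≠ T := fun h => by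
    haveI : Nontrivial T := ⟨⟨⟨u₀, hu₀⟩, ⟨w₀, hw₀⟩, fun e => huw (by
      have he : u₀ = w₀ := congrArg Subtype.val e
      rw [he])⟩⟩
    refine (Group.IsSolvable.commutator_lt_top_of_nontrivial T).ne (Subgroup.map_injective T.subtype_injective ?_)
    rw [commutator_def, Subgroup.map_commutator, ← MonoidHom.range_eq_map, Subgroup.range_subtype, ← hD, h]
  have hxD : x ∈ Subgroup.normalizer (D : Set H) := Subgroup.mem_normalizer_fintype fun u hu => by
    have hle2 : D.map (MulAut.conj x).toMonoidHom ≤ D := by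
      rw [hD, Subgroup.map_commutator]
      refine Subgroup.commutator_mono ?_ ?_ <;>
      · rintro _ ⟨v, hv, rfl⟩; exact (Subgroup.mem_normalizer_iff.mp hxT v).mp hv
    exact hle2 ⟨u, hu, rfl⟩
  have hyD := hproper D hDT hxD hDne
  have hcomTT : ∀ u ∈ T, ∀ w ∈ T, ⁅u, w⁆ ∈ D := fun u hu w hw => Subgroup.commutator_mem_commutator hu hw
  have hconjD : ∀ t ∈ T, ∀ d ∈ D, t⁻¹ * d * t ∈ D := fun t ht d hd => by
    rw [show t⁻¹ * d * t = ⁅t⁻¹, d⁆ * d by rw [commutatorElement_def]; group]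
    exact mul_mem (hcomTT _ (inv_mem ht) _ (hDT hd)) hd
  -- centralisers inside `T`
  have hcinv : ∀ M : Subgroup H, x ∈ Subgroup.normalizer (M : Set H) →
      x ∈ Subgroup.normalizer ((T ⊓ Subgroup.centralizer (M : Set H) : Subgroup H) : Set H) := fun M hxM =>
    Subgroup.mem_normalizer_fintype fun u hu => by
      obtain ⟨hu1, hu2⟩ := Subgroup.mem_inf.mp hu
      refine Subgroup.mem_inf.mpr ⟨(Subgroup.mem_normalizer_iff.mp hxT u).mp hu1,
        Subgroup.mem_centralizer_iff.mpr fun d hd => ?_⟩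
      have hd' : x⁻¹ * d * x ∈ M := by
        have := (Subgroup.mem_normalizer_iff.mp (inv_mem hxM) d).mp hd
        rwa [inv_inv] at this
      calc d * (x * u * x⁻¹) = x * ((x⁻¹ * d * x) * u) * x⁻¹ := by group
        _ = x * (u * (x⁻¹ * d * x)) * x⁻¹ := by rw [Subgroup.mem_centralizer_iff.mp hu2 _ hd']
        _ = x * u * x⁻¹ * d := by group
  -- `y` moves some element out of such a centraliser
  have hmoves : ∀ M : Subgroup H, x ∈ Subgroup.normalizer (M : Set H) → T ⊓ Subgroup.centralizer (M : Set H) ≠ T →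
      ∃ t ∈ T, y * t * y⁻¹ * t⁻¹ ∉ Subgroup.centralizer (M : Set H) := fun M hxM hne => by
    by_contra hcon
    push Not at hcon
    refine hyT (Subgroup.mem_centralizer_iff.mpr fun t ht => ?_)
    have hu : y * t * y⁻¹ * t⁻¹ ∈ T ⊓ Subgroup.centralizer (M : Set H) := Subgroup.mem_inf.mpr
      ⟨mul_mem ((Subgroup.mem_normalizer_iff.mp hyTn t).mp ht) (inv_mem ht), hcon t ht⟩
    have h1 := eq_one_of_fixed_displacement hpq hT hk₀ (Subgroup.mem_inf.mp hu).1
      (Subgroup.mem_centralizer_iff.mp (hproper _ inf_le_left (hcinv M hxM) hne) _ hu).symm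
      (inv_mul_cancel_right (y * t * y⁻¹) t).symm
    rw [mul_inv_eq_one, mul_inv_eq_iff_eq_mul] at h1
    exact h1.symm
  have hcen : ∀ u ∈ T, ∀ d ∈ D, Commute u d := by
    by_contra hcon
    obtain ⟨t, ht, hu⟩ := hmoves D hxD fun h => hcon fun u hu d hd =>
      (Subgroup.mem_centralizer_iff.mp (Subgroup.mem_inf.mp (show u ∈ T ⊓ Subgroup.centralizer (D : Set H) by rw [h]; exact hu)).2 d hd).symm
    refine hu (Subgroup.mem_centralizer_iff.mpr fun d hd => ?_)
    have e1 := Subgroup.mem_centralizer_iff.mp hyD _ (hconjD t ht d hd)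
    have e2 : y * d = d * y := (Subgroup.mem_centralizer_iff.mp hyD _ hd).symm
    calc d * (y * t * y⁻¹ * t⁻¹) = (d * y) * t * y⁻¹ * t⁻¹ := by group
      _ = (y * d) * t * y⁻¹ * t⁻¹ := by rw [e2]
      _ = y * t * ((t⁻¹ * d * t) * y⁻¹) * t⁻¹ := by group
      _ = y * t * (y⁻¹ * (t⁻¹ * d * t)) * t⁻¹ := by
        rw [(show Commute (t⁻¹ * d * t) y from e1).inv_right.eq]
      _ = y * t * y⁻¹ * t⁻¹ * d := by group
  obtain ⟨t, ht, hu⟩ := hmoves T hxT fun h => huw
    ((Subgroup.mem_centralizer_iff.mp (Subgroup.mem_inf.mp (show u₀ ∈ T ⊓ Subgroup.centralizer (T : Set H) by rw [h]; exact hu₀)).2 w₀ hw₀).symm)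
  set u := y * t * y⁻¹ * t⁻¹ with hu_def
  have huT : u ∈ T := mul_mem ((Subgroup.mem_normalizer_iff.mp hyTn t).mp ht) (inv_mem ht)
  obtain ⟨w, hw, huwne⟩ : ∃ w ∈ T, w * u ≠ u * w := by
    by_contra hcon
    push Not at hcon
    exact hu (Subgroup.mem_centralizer_iff.mpr hcon)
  set d := ⁅u, w⁆ with hd
  have hdD : d ∈ D := hcomTT u huT w hw
  obtain ⟨m, hm⟩ := IsPGroup.iff_card.mp (hT.to_le hDT)
  obtain ⟨χ, hχ, hχd⟩ := exists_weight_ne (p := 2) ρ hρ D (fun a ha b hb => (hcen a (hDT ha) b hb).eq) hdD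
    (fun h => huwne (commutatorElement_eq_one_iff_mul_comm.mp h).symm)
    ((Nat.Coprime.pow_left m ((Nat.coprime_primes hq.out Nat.prime_two).mpr hpq.symm)).coprime_dvd_left
      (hm ▸ Subgroup.orderOf_dvd_natCard D hdD))
  obtain ⟨k, hk, hkfix, -, hWx, hlift⟩ := lift (p := 2) ρ D (cast_card_ne_zero hpq (hT.to_le hDT)) (U := ⊤) hxD
    (fun v _ => Submodule.mem_top) hxo χ hχ
  set W₁ := wspace ρ D χ ⊤ with hW₁
  have hWT : ∀ g ∈ T, ∀ v ∈ W₁, ρ g v ∈ W₁ := fun g hg v hv => by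
    refine mem_wspace.mpr ⟨Submodule.mem_top, fun a => ?_⟩
    rw [← Module.End.mul_apply, ← map_mul, ← (hcen g hg a a.2).eq, map_mul, Module.End.mul_apply,
      (mem_wspace.mp hv).2 a, map_smul]
  obtain ⟨v₀, hv₀, hv₀0⟩ := Submodule.exists_mem_ne_zero_of_ne_bot hχ
  -- `d` is not trivial on the weight space
  have hdW : ¬ ∀ v ∈ W₁, ρ d v = v := fun h => hχd (Units.ext (smul_left_injective K hv₀0 (by
    show (χ ⟨d, hdD⟩ : K) • v₀ = ((1 : Kˣ) : K) • v₀
    rw [← (mem_wspace.mp hv₀).2 ⟨d, hdD⟩, Units.val_one, one_smul]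
    exact h v₀ hv₀)))
  have hyW : ¬ ∀ v ∈ W₁, ρ y v = v := fun h => hdW fun v hv => by
    have hinv : ∀ v ∈ W₁, ρ y⁻¹ v = v := fun v hv => by
      conv_lhs => rw [← h v hv]
      exact rho_apply_inv ρ y v
    have hfix : ∀ v ∈ W₁, ρ u v = v := fun v hv => by
      rw [hu_def, map_mul, map_mul, map_mul, Module.End.mul_apply, Module.End.mul_apply, Module.End.mul_apply,
        hinv _ (hWT _ (inv_mem ht) v hv), rho_inv_apply, h v hv]
    have hfix' : ∀ v ∈ W₁, ρ u⁻¹ v = v := fun v hv => by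
      conv_lhs => rw [← hfix v hv]
      exact rho_apply_inv ρ _ v
    rw [hd, commutatorElement_def, map_mul, map_mul, map_mul, Module.End.mul_apply, Module.End.mul_apply,
      Module.End.mul_apply, hfix' _ (hWT _ (inv_mem hw) v hv), rho_inv_apply, hfix v hv]
  obtain ⟨r', hr'le, hr'⟩ := hlift 3 fun v _ => by rw [hr, LinearMap.zero_apply]
  obtain rfl : k = 0 := by
    by_contra hk0
    obtain rfl | rfl : k = 1 ∨ k = 2 := by omega
    · refine hyW fun v hv => ?_
      have hr1 : r' ≤ 1 := by norm_num at hr'le; omega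
      have h1 := hr' v hv
      rcases Nat.le_one_iff_eq_zero_or_eq_one.mp hr1 with rfl | rfl
      · rw [pow_zero, Module.End.one_apply] at h1
        rw [h1, map_zero]
      · rw [pow_one, LinearMap.sub_apply, Module.End.one_apply, sub_eq_zero] at h1
        exact h1
    · have hr0 : r' = 0 := by norm_num at hr'le; omega
      refine hv₀0 ?_
      have h1 := hr' v₀ hv₀
      rw [hr0, pow_zero] at h1
      exact h1
  rw [pow_zero, pow_one] at hWx
  -- the action on the weight space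
  set G' := Subgroup.closure ((T : Set H) ∪ {x}) with hG'
  have hTG' : T ≤ G' := fun g hg => Subgroup.subset_closure (Or.inl hg)
  have hxG' : x ∈ G' := Subgroup.subset_closure (Or.inr rfl)
  have hyG' : y ∈ G' := pow_mem hxG' _
  have hinvW' : ∀ g ∈ G', ∀ v ∈ W₁, ρ g v ∈ W₁ := by
    intro g hg
    induction hg using Subgroup.closure_induction with
    | mem z hz =>
      rcases hz with hz | hz
      · exact hWT z hz
      · rw [Set.mem_singleton_iff] at hz
        subst hz; exact hWx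
    | one => intro v hv; rw [map_one]; exact hv
    | mul a b _ _ ha hb => intro v hv; rw [map_mul, Module.End.mul_apply]; exact ha _ (hb v hv)
    | inv a _ ha =>
      intro v hv
      obtain ⟨j, hj⟩ := (isOfFinOrder_of_finite a).mem_powers_iff_mem_zpowers.mpr (inv_mem (Subgroup.mem_zpowers a))
      rw [← show a ^ j = a⁻¹ from hj, map_pow]
      exact pow_apply_mem _ ha j hv
  have hinvW : ∀ g : G', ∀ v ∈ W₁, ρ (g : H) v ∈ W₁ := fun g => hinvW' g g.2
  let σ : G' →* Module.End K W₁ :=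
    { toFun := fun g => (ρ (g : H)).restrict (hinvW g)
      map_one' := LinearMap.ext fun v => Subtype.ext (by simp)
      map_mul' := fun g g' => LinearMap.ext fun v => Subtype.ext (by simp [Module.End.mul_apply]) }
  have hσ : ∀ (g : G') (v : W₁), ((σ g v : W₁) : W) = ρ (g : H) v := fun g v => rfl
  haveI : Nontrivial W₁ := Submodule.nontrivial_iff_ne_bot.mpr hχ
  let σb : G' ⧸ σ.toHomUnits.ker →* Module.End K W₁ := (Units.coeHom _).comp (QuotientGroup.kerLift σ.toHomUnits)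
  have hσb : Function.Injective σb := Units.val_injective.comp (QuotientGroup.kerLift_injective _)
  set xb : G' ⧸ σ.toHomUnits.ker := QuotientGroup.mk' σ.toHomUnits.ker ⟨x, hxG'⟩ with hxb
  have hybne : xb ^ 2 ≠ 1 := fun h => by
    refine hyW fun v hv => ?_
    rw [hxb, ← map_pow] at h
    have h1 : σ (⟨x, hxG'⟩ ^ 2) = 1 := congrArg Units.val (MonoidHom.mem_ker.mp ((QuotientGroup.eq_one_iff _).mp h))
    have h2 := congrArg Subtype.val (LinearMap.congr_fun h1 ⟨v, hv⟩)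
    exact h2
  have hxbo : orderOf xb = 2 ^ 2 := orderOf_eq_prime_pow (n := 1) (by rwa [pow_one]) (by
    rw [hxb, ← map_pow, show (⟨x, hxG'⟩ : G') ^ 2 ^ (1 + 1) = 1 from
      Subtype.ext (by show x ^ 2 ^ (1 + 1) = 1; exact (congrArg (x ^ ·) hxo.symm).trans (pow_orderOf_eq_one x)), map_one])
  set Tb := (T.subgroupOf G').map (QuotientGroup.mk' σ.toHomUnits.ker) with hTb
  have hTbp : IsPGroup q Tb := (hT.of_equiv (Subgroup.subgroupOfEquivOfLe hTG').symm).map _
  have hxTb : xb ∈ Subgroup.normalizer (Tb : Set (G' ⧸ σ.toHomUnits.ker)) := Subgroup.mem_normalizer_fintype fun z hz => by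
    obtain ⟨z, hz, rfl⟩ := hz
    refine ⟨⟨x, hxG'⟩ * z * ⟨x, hxG'⟩⁻¹, (Subgroup.mem_normalizer_iff.mp hxT _).mp hz, ?_⟩
    rw [map_mul, map_mul, map_inv]
  have hyTb : xb ^ 2 ^ (2 - 1) ∉ Subgroup.centralizer (Tb : Set (G' ⧸ σ.toHomUnits.ker)) := fun h => by
    refine hdW fun v hv => ?_
    let t' : G' := ⟨t, hTG' ht⟩
    let w' : G' := ⟨w, hTG' hw⟩
    let y' : G' := ⟨y, hyG'⟩
    have h1 : QuotientGroup.mk' σ.toHomUnits.ker (y' * t' * y'⁻¹ * t'⁻¹) = 1 := by
      have h2 := Subgroup.mem_centralizer_iff.mp h (QuotientGroup.mk' σ.toHomUnits.ker t') (Subgroup.mem_map_of_mem _ (show t' ∈ T.subgroupOf G' from ht))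
      rw [map_mul, map_mul, map_mul, map_inv, map_inv, show QuotientGroup.mk' σ.toHomUnits.ker y' = xb ^ 2 ^ (2 - 1) from
        (map_pow _ (⟨x, hxG'⟩ : G') _), ← h2]
      group
    have h2 : QuotientGroup.mk' σ.toHomUnits.ker ⁅y' * t' * y'⁻¹ * t'⁻¹, w'⁆ = 1 := by
      rw [map_commutatorElement, h1, commutatorElement_one_left]
    have h3 : σ ⁅y' * t' * y'⁻¹ * t'⁻¹, w'⁆ = 1 := congrArg Units.val (MonoidHom.mem_ker.mp ((QuotientGroup.eq_one_iff _).mp h2))
    exact congrArg Subtype.val (LinearMap.congr_fun h3 ⟨v, hv⟩)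
  -- a vector with `(ρ x - 1) ^ 2` not zero
  obtain ⟨v, hv, hvne⟩ : ∃ v ∈ W₁, ((ρ x - 1) ^ 2 : Module.End K W) v ≠ 0 := by
    by_contra hcon
    push Not at hcon
    have h2 : (σb xb - 1) ^ 2 = 0 := LinearMap.ext fun v => Subtype.ext (by
      rw [pow_two, Module.End.mul_apply, LinearMap.zero_apply, Submodule.coe_zero]
      have := hcon v v.2
      rw [pow_two, Module.End.mul_apply] at this
      exact this)
    rcases bound_of_invariant hpq σb hσb Tb hTbp hxTb (n := 2) (by norm_num) hxbo hyTb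
      2 h2 with h | ⟨-, k, b, hk, hb1, hb2, hb3, -⟩
    · norm_num at h
    · have hqb : 2 ≤ q ^ b := hq.out.two_le.trans (Nat.le_self_pow (by omega) q)
      interval_cases k
      · norm_num at hb2 hb3; omega
      · norm_num at hb2 <;> omega
  obtain ⟨c, hc⟩ := he v
  have hmem : ((ρ x - 1) ^ 2 : Module.End K W) v ∈ W₁ := pow_apply_mem _ (fun v hv => sub_one_apply_mem _ hWx hv) 2 hv
  rw [hc] at hmem hvne
  obtain ⟨hc0, he0⟩ := not_or.mp (fun h => hvne (smul_eq_zero.mpr h))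
  refine ⟨d, (χ ⟨d, hdD⟩ : K), fun h => hχd (Units.ext h), Units.ne_zero _, he0, ?_⟩
  refine smul_right_injective W hc0 ?_
  show c • ρ d e = c • ((χ ⟨d, hdD⟩ : K) • e)
  rw [← map_smul, smul_comm, (mem_wspace.mp hmem).2 ⟨d, hdD⟩]

theorem main {V : Type a} [AddCommGroup V] [Module (ZMod 2) V] [Finite V]
    (S : Subgroup (V ≃ₗ[ZMod 2] V)) (hS : Group.IsSolvable ↥S) (hO2 : Cfsg.pCore 2 ↥S = ⊥)
    (P : V ≃ₗ[ZMod 2] V) (hPS : P ∈ S) (hP4 : orderOf P = 4)
    (hcub : ((P : V →ₗ[ZMod 2] V) - LinearMap.id) ^ 3 = 0) :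
    4 ≤ Nat.card ↥(LinearMap.range (((P : V →ₗ[ZMod 2] V) - LinearMap.id) ^ 2)) := by
  classical
  haveI : Finite S := Finite.of_injective (fun s : S => ((s : V ≃ₗ[ZMod 2] V) : V → V))
    fun s t h => Subtype.ext (LinearEquiv.ext (congrFun h))
  haveI : Module.Finite (ZMod 2) V := Module.Finite.of_finite
  let τ : (V ≃ₗ[ZMod 2] V) →* Module.End (ZMod 2) V :=
    { toFun := fun e => (e : Module.End (ZMod 2) V)
      map_one' := rfl
      map_mul' := fun _ _ => rfl }
  set N : Module.End (ZMod 2) V := (τ P - 1) ^ 2 with hN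
  show 4 ≤ Nat.card ↥(LinearMap.range N)
  by_contra hlt
  have hfin : Module.finrank (ZMod 2) (LinearMap.range N) ≤ 1 := by
    rw [Module.natCard_eq_pow_finrank (K := ZMod 2), Nat.card_eq_fintype_card, ZMod.card] at hlt
    by_contra h
    exact hlt (le_trans (by norm_num : (4 : ℕ) ≤ 2 ^ 2) (Nat.pow_le_pow_right two_pos (by omega)))
  obtain ⟨⟨w, hwN⟩, hw⟩ := finrank_le_one_iff.mp hfin
  set K := AlgebraicClosure (ZMod 2)
  haveI : CharP K 2 := charP_of_injective_algebraMap (algebraMap (ZMod 2) K).injective 2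
  let β := Module.End.baseChangeHom (ZMod 2) K V
  let ρ : S →* Module.End K (K ⊗[ZMod 2] V) := (β.toMonoidHom.comp τ).comp S.subtype
  have hmk : Function.Injective (TensorProduct.mk (ZMod 2) K V 1) := Module.FaithfullyFlat.tensorProduct_mk_injective V
  have hρ : Function.Injective ρ := fun a b hab => Subtype.ext (LinearEquiv.ext fun v => hmk (by
    have := LinearMap.congr_fun hab (1 ⊗ₜ[ZMod 2] v)
    exact this))
  have hρN : ∀ k : ℕ, (ρ ⟨P, hPS⟩ - 1) ^ k = β ((τ P - 1) ^ k) := fun k => by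
    rw [map_pow, map_sub, map_one]; rfl
  have hr : (ρ ⟨P, hPS⟩ - 1) ^ 3 = 0 := by
    rw [hρN, show (τ P - 1) ^ 3 = 0 from hcub, map_zero]
  obtain ⟨g, μ, hμ1, hμ0, hw0, hgw⟩ := weight_rational ρ hρ (CfsgLib.PLocal.isPSolvable_of_isSolvable _ S rfl hS) hO2
    (x := ⟨P, hPS⟩) (by rw [Subgroup.orderOf_mk, hP4]; norm_num) hr ((1 : K) ⊗ₜ[ZMod 2] w) fun z => by
      induction z using TensorProduct.induction_on with
      | zero => exact ⟨0, by rw [map_zero, zero_smul]⟩
      | tmul a v =>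
        obtain ⟨c, hc⟩ := hw ⟨N v, LinearMap.mem_range_self N v⟩
        refine ⟨a * algebraMap (ZMod 2) K c, ?_⟩
        rw [hρN, ← hN]
        show a ⊗ₜ[ZMod 2] N v = _
        rw [← show c • w = N v from congrArg Subtype.val hc, TensorProduct.smul_tmul', smul_eq_mul, mul_one,
          ← TensorProduct.smul_tmul, Algebra.smul_def, mul_comm]
      | add z₁ z₂ h₁ h₂ =>
        obtain ⟨c₁, h₁⟩ := h₁
        obtain ⟨c₂, h₂⟩ := h₂
        exact ⟨c₁ + c₂, by rw [map_add, h₁, h₂, add_smul]⟩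
  have hwne : w ≠ 0 := fun h => hw0 (by rw [h, TensorProduct.tmul_zero])
  obtain ⟨f, hf⟩ := LinearMap.exists_extend (K := ZMod 2) (LinearEquiv.toSpanNonzeroSingleton (ZMod 2) V w hwne).symm.toLinearMap
  have hfw : f w = 1 := by
    have h1 := LinearMap.congr_fun hf ⟨w, Submodule.mem_span_singleton_self w⟩
    rw [LinearMap.comp_apply, Submodule.subtype_apply] at h1
    rw [h1]
    exact LinearEquiv.coord_self (ZMod 2) V w hwne
  let Ψ : K ⊗[ZMod 2] V →ₗ[ZMod 2] K :=
    (TensorProduct.rid (ZMod 2) K).toLinearMap.comp (TensorProduct.map LinearMap.id f)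
  have hΨ : ∀ (a : K) (v : V), Ψ (a ⊗ₜ[ZMod 2] v) = f v • a := fun a v => rfl
  have h1 : ((1 : K) ⊗ₜ[ZMod 2] (τ (g : V ≃ₗ[ZMod 2] V) w)) = μ ⊗ₜ[ZMod 2] w := by
    have h2 : ρ g ((1 : K) ⊗ₜ[ZMod 2] w) = μ • ((1 : K) ⊗ₜ[ZMod 2] w) := hgw
    rw [TensorProduct.smul_tmul', smul_eq_mul, mul_one] at h2
    exact h2
  have h2 := congrArg Ψ h1
  rw [hΨ, hΨ, hfw, one_smul] at h2
  have key : ∀ z : ZMod 2, z = 0 ∨ z = 1 := by decide
  rcases key (f (τ (g : V ≃ₗ[ZMod 2] V) w)) with h | h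
  · rw [h, zero_smul] at h2; exact hμ0 h2.symm
  · rw [h, one_smul] at h2; exact hμ1 h2.symm

end Aux

/-- Let V be a finite-dimensional vector space over the field with two elements and S a solvable group of linear automorphisms of V with O₂(S) = 1. If P ∈ S has order 4 and (P − 1)³ = 0 on V, then the image of (P − 1)² has at least 4 elements; equivalently, in the decomposition of V into indecomposable modules for the cyclic group generated by P, at least two summands have dimension 3. -/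
theorem result
    {V : Type*} [AddCommGroup V] [Module (ZMod 2) V] [Finite V]
    (S : Subgroup (V ≃ₗ[ZMod 2] V)) (hS : Group.IsSolvable ↥S) (hO2 : Cfsg.pCore 2 ↥S = ⊥)
    (P : V ≃ₗ[ZMod 2] V) (hPS : P ∈ S) (hP4 : orderOf P = 4)
    (hcub : ((P : V →ₗ[ZMod 2] V) - LinearMap.id) ^ 3 = 0) :
    4 ≤ Nat.card ↥(LinearMap.range (((P : V →ₗ[ZMod 2] V) - LinearMap.id) ^ 2)) := by
  exact Aux.main S hS hO2 P hPS hP4 hcub

end Cfsg.Agent.S4410
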