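import Cfsg.Statements.S4412
import Mathlib
import Cfsg.Agent.Lib.Elementary
import Cfsg.Agent.Lib.RankFrattini
-- import your own Cfsg.Agent.* helpers here

set_option autoImplicit false
open Cfsg

namespace Cfsg.Agent.S4412

namespace Aux

open Subgroup
open scoped commutatorElement Pointwise

universe u
variable {P : Type u} [Group P] [Finite P] {p : ℕ} [hp : Fact p.Prime]

/-- The fixed points of `T` are a cyclic subgroup. -/
def Cyc (T : MulAut P) : Prop := ∃ g : P, ∀ x : P, (T x = x ↔ x ∈ Subgroup.zpowers g)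

theorem odd_order (hP : IsPGroup p P) (hp2 : p ≠ 2) (x : P) : Odd (orderOf x) := by
  obtain ⟨k, hk⟩ := IsPGroup.iff_orderOf.mp hP x
  exact hk ▸ ((Fact.out : p.Prime).odd_of_ne_two hp2).pow

theorem half (hP : IsPGroup p P) (hp2 : p ≠ 2) (x : P) : ∃ e : ℕ, x ^ e * x ^ e = x := by
  obtain ⟨k, hk⟩ := odd_order hP hp2 x
  refine ⟨k + 1, ?_⟩
  rw [← pow_add, show k + 1 + (k + 1) = orderOf x + 1 by omega, pow_add, pow_orderOf_eq_one, one_mul, pow_one]

theorem eq_one_of_sq (hP : IsPGroup p P) (hp2 : p ≠ 2) {x : P} (h : x * x = 1) : x = 1 := by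
  rw [← orderOf_eq_one_iff]
  exact Nat.eq_one_of_dvd_coprimes (Nat.coprime_two_right.mpr (odd_order hP hp2 x)) dvd_rfl
    (orderOf_dvd_of_pow_eq_one (by rw [pow_two, h]))

/-- An involution fixing a coset fixes an element of it. -/
theorem lift_fixed (hP : IsPGroup p P) (hp2 : p ≠ 2) {N : Subgroup P} [N.Normal] {T : MulAut P}
    (hT : ∀ x, T (T x) = x) {x : P} (h : x⁻¹ * T x ∈ N) : ∃ y, T y = y ∧ (y : P ⧸ N) = (x : P ⧸ N) := by
  obtain ⟨e, he⟩ := half hP hp2 (x⁻¹ * T x)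
  set φ := x⁻¹ * T x with hφ
  have hTφ : T φ = φ⁻¹ := by rw [hφ, map_mul, map_inv, hT, mul_inv_rev, inv_inv]
  refine ⟨x * φ ^ e, ?_, ?_⟩
  · rw [map_mul, map_pow, hTφ, show T x = x * φ by rw [hφ, mul_inv_cancel_left]]
    nth_rw 1 [← he]
    rw [inv_pow]
    group
  · rw [QuotientGroup.mk_mul, (QuotientGroup.eq_one_iff (φ ^ e)).mpr (pow_mem h e), mul_one]

section frattiniQuotient
variable (hP : IsPGroup p P)

local notation "Q" => P ⧸ frattini P
local notation "π" => QuotientGroup.mk' (frattini P)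

theorem Q_comm (hP : IsPGroup p P) (a b : P) : π a * π b = π b * π a := by
  rw [← commutatorElement_eq_one_iff_mul_comm, ← map_commutatorElement]
  exact (QuotientGroup.eq_one_iff _).mpr (CfsgLib.commutator_le_frattini_pGroup hP
    (commutator_mem_commutator (mem_top _) (mem_top _)))

theorem Q_pow (hP : IsPGroup p P) (a : P) : π a ^ p = 1 := by
  rw [← map_pow]; exact (QuotientGroup.eq_one_iff _).mpr (CfsgLib.pow_mem_frattini_pGroup hP a)

theorem π_congr (T : MulAut P) {a b : P} (h : π a = π b) : π (T a) = π (T b) := by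
  have h1 : a⁻¹ * b ∈ frattini P := QuotientGroup.eq.mp h
  refine QuotientGroup.eq.mpr ?_
  rw [← map_inv, ← map_mul]
  exact (Subgroup.characteristic_iff_map_eq.mp inferInstance T).le ⟨_, h1, rfl⟩

theorem Q_sq (hP : IsPGroup p P) (hp2 : p ≠ 2) {a : P} (h : π a = (π a)⁻¹) : π a = 1 := by
  rw [← orderOf_eq_one_iff]
  refine Nat.eq_one_of_dvd_coprimes ((Nat.coprime_primes (Fact.out : p.Prime) Nat.prime_two).mpr hp2)
    (orderOf_dvd_of_pow_eq_one (Q_pow hP a)) (orderOf_dvd_of_pow_eq_one ?_)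
  rw [pow_two]
  nth_rw 1 [h]
  rw [inv_mul_cancel]

/-- Common eigenvectors generate modulo the Frattini subgroup. -/
theorem eigen_generate (hP : IsPGroup p P) (hp2 : p ≠ 2) (S : Finset (MulAut P))
    (hinv : ∀ T ∈ S, ∀ x, T (T x) = x) (hcomm : ∀ T ∈ S, ∀ T' ∈ S, ∀ x, T (T' x) = T' (T x)) :
    ∀ x : P, π x ∈ Subgroup.closure {v | ∃ u : P, π u = v ∧ ∀ T ∈ S, π (T u) = π u ∨ π (T u) = (π u)⁻¹} := by
  classical
  induction S using Finset.induction_on with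
  | empty => exact fun x => subset_closure ⟨x, rfl, by simp⟩
  | @insert T S hT ih =>
    intro x
    have h1 := ih (fun T' h => hinv T' (Finset.mem_insert_of_mem h))
      (fun T' h T'' h' => hcomm T' (Finset.mem_insert_of_mem h) T'' (Finset.mem_insert_of_mem h')) x
    refine (closure_le _).mpr ?_ h1
    rintro _ ⟨u, rfl, hu⟩
    have hTT := hinv T (Finset.mem_insert_self T S)
    obtain ⟨e, he⟩ : ∃ e : ℕ, ∀ y : P, π y ^ e * π y ^ e = π y := by
      obtain ⟨m, hm⟩ := (Fact.out : p.Prime).odd_of_ne_two hp2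
      refine ⟨m + 1, fun y => ?_⟩
      rw [← pow_add, show m + 1 + (m + 1) = p + 1 by omega, pow_succ, Q_pow hP, one_mul]
    have hsign : ∀ T' ∈ S, (π (T' u) = π u ∧ π (T' (T u)) = π (T u)) ∨
        (π (T' u) = (π u)⁻¹ ∧ π (T' (T u)) = (π (T u))⁻¹) := by
      intro T' hT'
      rw [hcomm T' (Finset.mem_insert_of_mem hT') T (Finset.mem_insert_self T S)]
      rcases hu T' hT' with h | h
      · exact Or.inl ⟨h, π_congr T h⟩
      · refine Or.inr ⟨h, ?_⟩
        rw [← map_inv] at h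
        rw [π_congr T h, map_inv T, map_inv]
    set a := (u * T u) ^ e with ha
    set b := (u * (T u)⁻¹) ^ e with hb
    have hc : Commute (π u) (π (T u)) := Q_comm hP u (T u)
    have hab : π u = π a * π b := by
      rw [ha, hb, map_pow, map_pow, map_mul, map_mul, map_inv, hc.mul_pow, hc.inv_right.mul_pow]
      calc π u = π u ^ e * π u ^ e := (he u).symm
        _ = π u ^ e * (π (T u) ^ e * ((π (T u)) ^ e)⁻¹) * π u ^ e := by rw [mul_inv_cancel, mul_one]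
        _ = π u ^ e * π (T u) ^ e * (((π (T u)) ^ e)⁻¹ * π u ^ e) := by group
        _ = _ := by rw [inv_pow, ((hc.pow_pow e e).inv_right).eq]
    show π u ∈ Subgroup.closure _
    rw [hab]
    refine mul_mem (subset_closure ⟨a, rfl, ?_⟩) (subset_closure ⟨b, rfl, ?_⟩) <;> intro T' hT' <;>
      rcases Finset.mem_insert.mp hT' with rfl | hT'
    · left
      rw [ha, map_pow, map_mul, hTT, map_pow, map_pow, map_mul, map_mul, hc.eq]
    · rcases hsign T' hT' with ⟨h, h'⟩ | ⟨h, h'⟩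
      · left
        rw [ha, map_pow, map_mul, map_pow, map_pow, map_mul, map_mul, h, h']
      · right
        rw [ha, map_pow, map_mul, map_pow, map_pow, map_mul, map_mul, h, h', ← mul_inv_rev, inv_pow, hc.eq]
    · right
      rw [hb, map_pow, map_mul, map_inv T', hTT, map_pow, map_pow, map_mul, map_mul, map_inv, map_inv, ← inv_pow,
        mul_inv_rev, inv_inv]
    · rcases hsign T' hT' with ⟨h, h'⟩ | ⟨h, h'⟩
      · left
        rw [hb, map_pow, map_mul, map_inv T', map_pow, map_pow, map_mul, map_mul, map_inv, map_inv, h, h']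
      · right
        rw [hb, map_pow, map_mul, map_inv T', map_pow, map_pow, map_mul, map_mul, map_inv, map_inv, h, h', ← inv_pow,
          mul_inv_rev, inv_inv, hc.inv_left.eq]

end frattiniQuotient

set_option maxHeartbeats 4000000 in
theorem goal (hp2 : p ≠ 2) (hP : IsPGroup p P) (I : Subgroup (MulAut P)) (hI : Cfsg.IsElementaryAbelian 2 I)
    (hI8 : Nat.card I = 8) (I₀ : Subgroup (MulAut P)) (hI₀ : I₀ < I) (hdisj : ∀ T ∈ I₀, T ≠ 1 → Cyc T)
    (hprod : ∀ T ∈ I, ∀ T' ∈ I, T ≠ 1 → T' ≠ 1 → ¬ Cyc T → ¬ Cyc T' → T * T' ∈ I₀) :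
    IsMulCommutative P ∧ (∃ a b c : P, Subgroup.closure {a, b, c} = ⊤) ∧ (¬ ∃ a b : P, Subgroup.closure {a, b} = ⊤) ∧
      Nat.card {T : MulAut P // T ∈ I ∧ T ≠ 1 ∧ ¬ Cyc T} = 3 ∧
      Subgroup.closure {T : MulAut P | T ∈ I ∧ T ≠ 1 ∧ ¬ Cyc T} = I ∧
      (I₀ : Set (MulAut P)) = {S : MulAut P | ∃ T T' : MulAut P, T ∈ I ∧ T' ∈ I ∧ T ≠ 1 ∧ T' ≠ 1 ∧ ¬ Cyc T ∧ ¬ Cyc T' ∧ S = T * T'} := by
  classical
  set π := QuotientGroup.mk' (frattini P) with hπ
  have hsq : ∀ T ∈ I, T * T = 1 := fun T hT => by rw [← pow_two]; exact hI.2 T hT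
  have hcm : ∀ T ∈ I, ∀ T' ∈ I, T * T' = T' * T := fun T hT T' hT' =>
    congrArg Subtype.val (hI.1.is_comm.comm ⟨T, hT⟩ ⟨T', hT'⟩)
  have hinv : ∀ T ∈ I, ∀ x, T (T x) = x := fun T hT x => DFunLike.congr_fun (hsq T hT) x
  let F : Finset (MulAut P) := ((I : Set (MulAut P)).toFinite).toFinset
  have hgen := eigen_generate hP hp2 F (fun T hT => hinv T (by simpa [F] using hT))
    (fun T hT T' hT' x => DFunLike.congr_fun (hcm T (by simpa [F] using hT) T' (by simpa [F] using hT')) x)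
  let Eig : P → Prop := fun u => ∀ T ∈ I, π (T u) = π u ∨ π (T u) = (π u)⁻¹
  have hgenQ : ∀ x : P, π x ∈ Subgroup.closure {v | ∃ u : P, π u = v ∧ Eig u} := fun x => by
    refine closure_mono ?_ (hgen x)
    rintro v ⟨u, rfl, hu⟩
    exact ⟨u, rfl, fun T hT => hu T (by simpa [F] using hT)⟩
  have hNP : Group.IsNilpotent P := hP.isNilpotent
  -- a non-trivial element moves some eigenvector
  have hfaith : ∀ T ∈ I, T ≠ 1 → ∃ u, Eig u ∧ π u ≠ 1 ∧ π (T u) = (π u)⁻¹ ∧ π (T u) ≠ π u := by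
    intro T hT hT1
    by_contra hcon
    push Not at hcon
    refine hT1 (MulEquiv.ext fun x => ?_)
    have hall : ∀ x : P, π (T x) = π x := by
      intro x
      let H : Subgroup (P ⧸ frattini P) := MonoidHom.eqLocus
        (QuotientGroup.map (frattini P) (frattini P) T.toMonoidHom (fun a ha => ((Subgroup.characteristic_iff_map_eq.mp (frattini_characteristic (G := P))) T).le ⟨a, ha, rfl⟩))
        (MonoidHom.id _)
      have hle : Subgroup.closure {v | ∃ u : P, π u = v ∧ Eig u} ≤ H := by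
        refine (closure_le _).mpr ?_
        rintro _ ⟨u, rfl, hu⟩
        show π (T u) = π u
        by_cases h1 : π u = 1
        · rw [π_congr T (show π u = π 1 by rw [h1, map_one]), map_one, map_one, h1]
        rcases hu T hT with h | h
        · exact h
        · exact hcon u hu h1 h
      exact hle (hgenQ x)
    let Fix : Subgroup P := MonoidHom.eqLocus T.toMonoidHom (MonoidHom.id P)
    have htop : Fix ⊔ frattini P = ⊤ := eq_top_iff.mpr fun y _ => by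
      obtain ⟨z, hz, hzy⟩ := lift_fixed hP hp2 (hinv T hT) (N := frattini P)
        (QuotientGroup.eq.mp (hall y).symm)
      have h1 : z⁻¹ * y ∈ frattini P := QuotientGroup.eq.mp hzy
      have := mul_mem (mem_sup_left (T := frattini P) (show z ∈ Fix from hz)) (mem_sup_right h1)
      rwa [mul_inv_cancel_left] at this
    exact (frattini_nongenerating htop ▸ mem_top x : x ∈ Fix)
  have hneg : ∀ u, Eig u → ∀ T ∈ I, π (T u) ≠ π u → π (T u) = (π u)⁻¹ := fun u hu T hT h => (hu T hT).resolve_left h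
  have hmul : ∀ u, Eig u → ∀ S ∈ I, ∀ T ∈ I, π (T u) ≠ π u → π (S u) ≠ π u → π ((S * T) u) = π u := by
    intro u hu S hS T hT h1 h2
    show π (S (T u)) = π u
    have h3 := hneg u hu T hT h1
    rw [← map_inv] at h3
    rw [π_congr S h3, map_inv S, map_inv, hneg u hu S hS h2, inv_inv]
  have hmulp : ∀ u, Eig u → ∀ S ∈ I, ∀ T ∈ I, π (T u) = π u → π (S u) = π u → π ((S * T) u) = π u := by
    intro u hu S hS T hT h1 h2
    show π (S (T u)) = π u
    rw [π_congr S h1, h2]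
  have hmulm : ∀ u, Eig u → ∀ S ∈ I, ∀ T ∈ I, π (T u) = π u → π (S u) ≠ π u → π ((S * T) u) ≠ π u := by
    intro u hu S hS T hT h1 h2
    show π (S (T u)) ≠ π u
    rw [π_congr S h1]; exact h2
  -- equal sign patterns
  have hsame : ∀ u, Eig u → ∀ S ∈ I, ∀ T ∈ I, (π (S u) = π u ↔ π (T u) = π u) → π ((S * T) u) = π u := by
    intro u hu S hS T hT h
    by_cases h1 : π (T u) = π u
    · exact hmulp u hu S hS T hT h1 (h.mpr h1)
    · exact hmul u hu S hS T hT h1 (fun h2 => h1 (h.mp h2))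
  haveI : Nontrivial I := by
    rw [← Finite.one_lt_card_iff_nontrivial, hI8]; norm_num
  obtain ⟨⟨T₀, hT₀⟩, hT₀1⟩ := exists_ne (1 : I)
  obtain ⟨u₁, hu₁, hu₁1, -, hT₀u₁⟩ := hfaith T₀ hT₀ fun e => hT₀1 (Subtype.ext e)
  have hI4 : ∀ u v, Eig u → Eig v → ∃ T ∈ I, T ≠ 1 ∧ π (T u) = π u ∧ π (T v) = π v := by
    intro u v hu hv
    have hlt : Nat.card (Bool × Bool) < Nat.card I := by rw [hI8, Nat.card_prod, Nat.card_eq_fintype_card]; simp
    by_contra hcon
    push Not at hcon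
    have hinj : Function.Injective fun T : I => (decide (π ((T : MulAut P) u) = π u), decide (π ((T : MulAut P) v) = π v)) := by
      intro S T h
      simp only [Prod.mk.injEq, decide_eq_decide] at h
      by_contra hne
      refine hcon ((S : MulAut P) * T) (mul_mem S.2 T.2) (fun e => hne ?_) (hsame u hu S S.2 T T.2 h.1) (hsame v hv S S.2 T T.2 h.2)
      refine Subtype.ext ?_
      calc (S : MulAut P) = S * ((T : MulAut P) * T) := by rw [hsq T T.2, mul_one]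
        _ = T := by rw [← mul_assoc, e, one_mul]
    exact absurd (Nat.card_le_card_of_injective _ hinj) (not_le.mpr hlt)
  obtain ⟨S₁, hS₁, hS₁1, hS₁u, -⟩ := hI4 u₁ u₁ hu₁ hu₁
  obtain ⟨u₂, hu₂, hu₂1, -, hS₁u₂⟩ := hfaith S₁ hS₁ hS₁1
  obtain ⟨T₃, hT₃, hT₃1, hT₃u₁, hT₃u₂⟩ := hI4 u₁ u₂ hu₁ hu₂
  obtain ⟨u₃, hu₃, hu₃1, -, hT₃u₃⟩ := hfaith T₃ hT₃ hT₃1
  obtain ⟨T₂, hT₂, hT₂u₁, hT₂u₂, hT₂u₃⟩ : ∃ T ∈ I, π (T u₁) = π u₁ ∧ π (T u₂) ≠ π u₂ ∧ π (T u₃) = π u₃ := by
    by_cases h : π (S₁ u₃) = π u₃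
    · exact ⟨S₁, hS₁, hS₁u, hS₁u₂, h⟩
    · exact ⟨S₁ * T₃, mul_mem hS₁ hT₃, hmulp u₁ hu₁ S₁ hS₁ T₃ hT₃ hT₃u₁ hS₁u,
        hmulm u₂ hu₂ S₁ hS₁ T₃ hT₃ hT₃u₂ hS₁u₂, hmul u₃ hu₃ S₁ hS₁ T₃ hT₃ hT₃u₃ h⟩
  obtain ⟨T₁, hT₁, hT₁u₁, hT₁u₂, hT₁u₃⟩ : ∃ T ∈ I, π (T u₁) ≠ π u₁ ∧ π (T u₂) = π u₂ ∧ π (T u₃) = π u₃ := by
    obtain ⟨U, hU, hUu₁, hUu₂⟩ : ∃ U ∈ I, π (U u₁) ≠ π u₁ ∧ π (U u₂) = π u₂ := by
      by_cases h : π (T₀ u₂) = π u₂
      · exact ⟨T₀, hT₀, hT₀u₁, h⟩
      · exact ⟨T₀ * T₂, mul_mem hT₀ hT₂, hmulm u₁ hu₁ T₀ hT₀ T₂ hT₂ hT₂u₁ hT₀u₁, hmul u₂ hu₂ T₀ hT₀ T₂ hT₂ hT₂u₂ h⟩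
    by_cases h : π (U u₃) = π u₃
    · exact ⟨U, hU, hUu₁, hUu₂, h⟩
    · exact ⟨U * T₃, mul_mem hU hT₃, hmulm u₁ hu₁ U hU T₃ hT₃ hT₃u₁ hUu₁, hmulp u₂ hu₂ U hU T₃ hT₃ hT₃u₂ hUu₂,
        hmul u₃ hu₃ U hU T₃ hT₃ hT₃u₃ h⟩
  have hT₁1 : T₁ ≠ 1 := fun e => hT₁u₁ (by rw [e]; rfl)
  have hT₂1 : T₂ ≠ 1 := fun e => hT₂u₂ (by rw [e]; rfl)
  -- broad elements
  have hbroad : ∀ T ∈ I, ∀ u v, π (T u) = π u → π (T v) = π v → π u ≠ 1 →
      π v ∉ zpowers (π u) → ¬ Cyc T := by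
    rintro T hT u v hu hv hu1 huv ⟨g, hg⟩
    obtain ⟨a, ha, hau⟩ := lift_fixed hP hp2 (hinv T hT) (N := frattini P) (QuotientGroup.eq.mp hu.symm)
    obtain ⟨b, hb, hbv⟩ := lift_fixed hP hp2 (hinv T hT) (N := frattini P) (QuotientGroup.eq.mp hv.symm)
    obtain ⟨i, hi⟩ := (hg a).mp ha
    obtain ⟨j, hj⟩ := (hg b).mp hb
    have hau' : π g ^ i = π u := by rw [← map_zpow]; exact (congrArg π hi).trans hau
    have hbv' : π g ^ j = π v := by rw [← map_zpow]; exact (congrArg π hj).trans hbv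
    have hgu : zpowers (π u) = zpowers (π g) := by
      refine eq_of_le_of_card_ge (zpowers_le.mpr ⟨i, hau'⟩) ?_
      rw [Nat.card_zpowers, Nat.card_zpowers, orderOf_eq_prime (Q_pow hP u) hu1]
      exact Nat.le_of_dvd (Fact.out : p.Prime).pos (orderOf_dvd_of_pow_eq_one (Q_pow hP g))
    exact huv (hgu ▸ ⟨j, hbv'⟩)
  have hline : ∀ (T : MulAut P) (u v : P), π (T u) = π u → π v ∈ zpowers (π u) → π (T v) = π v := by
    intro T u v hu hv
    obtain ⟨i, hi⟩ := hv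
    have hi' : π v = π (u ^ i) := by rw [map_zpow]; exact hi.symm
    rw [π_congr T hi', map_zpow T, map_zpow, hu, hi', map_zpow]
  have hne32 : π u₃ ∉ zpowers (π u₂) := fun h => hT₃u₃ (hline T₃ u₂ u₃ hT₃u₂ h)
  have hne31 : π u₃ ∉ zpowers (π u₁) := fun h => hT₃u₃ (hline T₃ u₁ u₃ hT₃u₁ h)
  have hne21 : π u₂ ∉ zpowers (π u₁) := fun h => hT₂u₂ (hline T₂ u₁ u₂ hT₂u₁ h)
  have hb1 : ¬ Cyc T₁ := hbroad T₁ hT₁ u₂ u₃ hT₁u₂ hT₁u₃ hu₂1 hne32
  have hb2 : ¬ Cyc T₂ := hbroad T₂ hT₂ u₁ u₃ hT₂u₁ hT₂u₃ hu₁1 hne31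
  have hb3 : ¬ Cyc T₃ := hbroad T₃ hT₃ u₁ u₂ hT₃u₁ hT₃u₂ hu₁1 hne21
  have h12 := hprod T₁ hT₁ T₂ hT₂ hT₁1 hT₂1 hb1 hb2
  have h13 := hprod T₁ hT₁ T₃ hT₃ hT₁1 hT₃1 hb1 hb3
  have h23 := hprod T₂ hT₂ T₃ hT₃ hT₂1 hT₃1 hb2 hb3
  have hI₀I : I₀ ≤ I := hI₀.le
  -- all elements
  let list : Bool × Bool × Bool → MulAut P := fun b =>
    (bif b.1 then T₁ else 1) * ((bif b.2.1 then T₂ else 1) * (bif b.2.2 then T₃ else 1))
  have hlistmem : ∀ b, list b ∈ I := by
    rintro ⟨b1, b2, b3⟩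
    cases b1 <;> cases b2 <;> cases b3 <;>
      simp only [list, cond_true, cond_false, one_mul, mul_one] <;>
      first | exact one_mem _ | assumption | exact mul_mem hT₁ hT₂ | exact mul_mem hT₁ hT₃ | exact mul_mem hT₂ hT₃ |
        exact mul_mem hT₁ (mul_mem hT₂ hT₃)
  have hone : ∀ u : P, π ((1 : MulAut P) u) = π u := fun u => rfl
  have hsign : ∀ b, ((π (list b u₁) = π u₁) ↔ b.1 = false) ∧ ((π (list b u₂) = π u₂) ↔ b.2.1 = false) ∧
      ((π (list b u₃) = π u₃) ↔ b.2.2 = false) := by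
    rintro ⟨b1, b2, b3⟩
    have h23u₁ := hmulp u₁ hu₁ T₂ hT₂ T₃ hT₃ hT₃u₁ hT₂u₁
    have h23u₂ := hmulm u₂ hu₂ T₂ hT₂ T₃ hT₃ hT₃u₂ hT₂u₂
    have h23u₃ : π ((T₂ * T₃) u₃) ≠ π u₃ := by rw [hcm T₂ hT₂ T₃ hT₃]; exact hmulm u₃ hu₃ T₃ hT₃ T₂ hT₂ hT₂u₃ hT₃u₃
    have h13u₁ : π ((T₁ * T₃) u₁) ≠ π u₁ := hmulm u₁ hu₁ T₁ hT₁ T₃ hT₃ hT₃u₁ hT₁u₁
    have h13u₂ := hmulp u₂ hu₂ T₁ hT₁ T₃ hT₃ hT₃u₂ hT₁u₂
    have h13u₃ : π ((T₁ * T₃) u₃) ≠ π u₃ := by rw [hcm T₁ hT₁ T₃ hT₃]; exact hmulm u₃ hu₃ T₃ hT₃ T₁ hT₁ hT₁u₃ hT₃u₃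
    have h12u₁ : π ((T₁ * T₂) u₁) ≠ π u₁ := hmulm u₁ hu₁ T₁ hT₁ T₂ hT₂ hT₂u₁ hT₁u₁
    have h12u₂ : π ((T₁ * T₂) u₂) ≠ π u₂ := by rw [hcm T₁ hT₁ T₂ hT₂]; exact hmulm u₂ hu₂ T₂ hT₂ T₁ hT₁ hT₁u₂ hT₂u₂
    have h12u₃ := hmulp u₃ hu₃ T₁ hT₁ T₂ hT₂ hT₂u₃ hT₁u₃
    have h123u₁ : π ((T₁ * (T₂ * T₃)) u₁) ≠ π u₁ := hmulm u₁ hu₁ T₁ hT₁ _ (mul_mem hT₂ hT₃) h23u₁ hT₁u₁
    have h123u₂ : π ((T₁ * (T₂ * T₃)) u₂) ≠ π u₂ := by
      rw [hcm T₁ hT₁ _ (mul_mem hT₂ hT₃)]; exact hmulm u₂ hu₂ _ (mul_mem hT₂ hT₃) T₁ hT₁ hT₁u₂ h23u₂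
    have h123u₃ : π ((T₁ * (T₂ * T₃)) u₃) ≠ π u₃ := by
      rw [hcm T₁ hT₁ _ (mul_mem hT₂ hT₃)]; exact hmulm u₃ hu₃ _ (mul_mem hT₂ hT₃) T₁ hT₁ hT₁u₃ h23u₃
    cases b1 <;> cases b2 <;> cases b3 <;>
      simp only [list, cond_true, cond_false, one_mul, mul_one] <;>
      refine ⟨?_, ?_, ?_⟩ <;> simp only [Bool.true_eq_false, iff_false, iff_true, eq_self_iff_true] <;>
      first | assumption | exact hone _
  have hlistinj : Function.Injective list := by
    intro b c h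
    obtain ⟨a1, a2, a3⟩ := hsign b
    obtain ⟨c1, c2, c3⟩ := hsign c
    rw [h] at a1 a2 a3
    obtain ⟨b1, b2, b3⟩ := b
    obtain ⟨d1, d2, d3⟩ := c
    have e1 := a1.symm.trans c1
    have e2 := a2.symm.trans c2
    have e3 := a3.symm.trans c3
    have key : ∀ b d : Bool, (b = false ↔ d = false) → b = d := by decide
    simp only at e1 e2 e3
    rw [key _ _ e1, key _ _ e2, key _ _ e3]
  have hall : ∀ T ∈ I, ∃ b, list b = T := by
    intro T hT
    have hbij : Function.Bijective fun b => (⟨list b, hlistmem b⟩ : I) :=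
      Function.Injective.bijective_of_nat_card_le (fun b c h => hlistinj (congrArg Subtype.val h))
        (by rw [hI8, Nat.card_eq_fintype_card]; simp)
    obtain ⟨b, hb⟩ := hbij.2 ⟨T, hT⟩
    exact ⟨b, congrArg Subtype.val hb⟩
  have hI₀list : ∀ T, T ∈ I₀ ↔ T = 1 ∨ T = T₁ * T₂ ∨ T = T₁ * T₃ ∨ T = T₂ * T₃ := by
    intro T
    refine ⟨fun hT => ?_, ?_⟩
    · have n1 : T₁ ∉ I₀ := fun h => hb1 (hdisj _ h hT₁1)
      have n2 : T₂ ∉ I₀ := fun h => hb2 (hdisj _ h hT₂1)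
      have n3 : T₃ ∉ I₀ := fun h => hb3 (hdisj _ h hT₃1)
      have n123 : T₁ * (T₂ * T₃) ∉ I₀ := fun h => n1 (by
        have := mul_mem h (inv_mem h23); rwa [mul_inv_cancel_right] at this)
      obtain ⟨⟨b1, b2, b3⟩, rfl⟩ := hall T (hI₀I hT)
      cases b1 <;> cases b2 <;> cases b3 <;>
        simp only [list, cond_true, cond_false, one_mul, mul_one] at hT ⊢ <;>
        first | exact absurd hT n1 | exact absurd hT n2 | exact absurd hT n3 | exact absurd hT n123 |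
          tauto
    · rintro (rfl | rfl | rfl | rfl)
      exacts [one_mem _, h12, h13, h23]
  -- every eigenvector is a multiple of one of the three
  set R : Subgroup (P ⧸ frattini P) := Subgroup.closure {π u₁, π u₂, π u₃} with hR
  have hR1 : π u₁ ∈ R := subset_closure (by simp)
  have hR2 : π u₂ ∈ R := subset_closure (by simp)
  have hR3 : π u₃ ∈ R := subset_closure (by simp)
  have hpair : ∀ S ∈ I₀, S ≠ 1 → ∀ u v, π (S u) = π u → π (S v) = π v → π u ≠ 1 → π u ∈ R → π v ∈ R := by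
    intro S hS hS1 u v hu hv hu1 huR
    by_contra hvR
    exact hbroad S (hI₀I hS) u v hu hv hu1 (fun h => hvR (zpowers_le.mpr huR h)) (hdisj S hS hS1)
  have hsgn12 : π ((T₁ * T₂) u₁) ≠ π u₁ ∧ π ((T₁ * T₂) u₂) ≠ π u₂ ∧ π ((T₁ * T₂) u₃) = π u₃ := by
    simpa only [list, cond_true, cond_false, one_mul, mul_one, Bool.true_eq_false, iff_false, iff_true, eq_self_iff_true] using hsign (true, true, false)
  have hsgn13 : π ((T₁ * T₃) u₁) ≠ π u₁ ∧ π ((T₁ * T₃) u₂) = π u₂ ∧ π ((T₁ * T₃) u₃) ≠ π u₃ := by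
    simpa only [list, cond_true, cond_false, one_mul, mul_one, Bool.true_eq_false, iff_false, iff_true, eq_self_iff_true] using hsign (true, false, true)
  have hsgn23 : π ((T₂ * T₃) u₁) = π u₁ ∧ π ((T₂ * T₃) u₂) ≠ π u₂ ∧ π ((T₂ * T₃) u₃) ≠ π u₃ := by
    simpa only [list, cond_true, cond_false, one_mul, mul_one, Bool.true_eq_false, iff_false, iff_true, eq_self_iff_true] using hsign (false, true, true)
  have h12ne : T₁ * T₂ ≠ 1 := fun e => hsgn12.1 (by rw [e]; exact hone u₁)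
  have h13ne : T₁ * T₃ ≠ 1 := fun e => hsgn13.1 (by rw [e]; exact hone u₁)
  have h23ne : T₂ * T₃ ≠ 1 := fun e => hsgn23.2.1 (by rw [e]; exact hone u₂)
  have heigR : ∀ v, Eig v → π v ∈ R := by
    intro v hv
    by_cases h12v : π ((T₁ * T₂) v) = π v
    · exact hpair _ h12 h12ne u₃ v hsgn12.2.2 h12v hu₃1 hR3
    by_cases h23v : π ((T₂ * T₃) v) = π v
    · exact hpair _ h23 h23ne u₁ v hsgn23.1 h23v hu₁1 hR1
    have h13v : π ((T₁ * T₃) v) = π v := by
      have := hmul v hv _ (hI₀I h12) _ (hI₀I h23) h23v h12v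
      rwa [mul_assoc T₁ T₂, ← mul_assoc T₂ T₂, hsq T₂ hT₂, one_mul] at this
    exact hpair _ h13 h13ne u₂ v hsgn13.2.1 h13v hu₂1 hR2
  have hRtop : ∀ x, π x ∈ R := by
    intro x
    refine (closure_le _).mpr ?_ (hgenQ x)
    rintro _ ⟨u, rfl, hu⟩
    exact heigR u hu
  set Gen : Subgroup P := Subgroup.closure {u₁, u₂, u₃} with hGen
  have hGenπ : Gen.map π = R := by
    rw [hGen, MonoidHom.map_closure, Set.image_insert_eq, Set.image_pair]
  have hGtop : Gen = ⊤ := by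
    refine frattini_nongenerating (eq_top_iff.mpr fun x _ => ?_)
    obtain ⟨y, hy, hyx⟩ := hGenπ.ge (hRtop x)
    have h1 : y⁻¹ * x ∈ frattini P := QuotientGroup.eq.mp hyx
    have := mul_mem (mem_sup_left (T := frattini P) hy) (mem_sup_right h1)
    rwa [mul_inv_cancel_left] at this
  have hnotwo : ¬ ∃ a b : P, Subgroup.closure {a, b} = ⊤ := by
    rintro ⟨a, b, hab⟩
    have htop : Subgroup.closure {π a, π b} = ⊤ := by
      rw [← Set.image_pair, ← MonoidHom.map_closure, hab, ← MonoidHom.range_eq_map,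
        MonoidHom.range_eq_top.mpr (QuotientGroup.mk'_surjective _)]
    have hle : Nat.card (P ⧸ frattini P) ≤ p ^ 2 := by
      have hnz : zpowers (π b) ≤ normalizer ((zpowers (π a) : Subgroup (P ⧸ frattini P)) : Set (P ⧸ frattini P)) := by
        intro g _
        refine mem_normalizer_iff.mpr fun z => ?_
        obtain ⟨g, rfl⟩ := QuotientGroup.mk'_surjective _ g
        obtain ⟨z, rfl⟩ := QuotientGroup.mk'_surjective _ z
        rw [Q_comm hP g z, mul_inv_cancel_right]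
      have h1 : Subgroup.closure {π a, π b} ≤ zpowers (π a) ⊔ zpowers (π b) := (closure_le _).mpr (by
        rintro _ (rfl | rfl)
        · exact mem_sup_left (mem_zpowers _)
        · exact mem_sup_right (mem_zpowers _))
      rw [htop, top_le_iff] at h1
      rw [← Subgroup.card_top (G := P ⧸ frattini P), ← h1]
      show Nat.card ((zpowers (π a) ⊔ zpowers (π b) : Subgroup (P ⧸ frattini P)) : Set (P ⧸ frattini P)) ≤ _
      rw [Subgroup.coe_mul_of_right_le_normalizer_left _ _ hnz]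
      refine Set.natCard_mul_le.trans ?_
      rw [pow_two]
      refine Nat.mul_le_mul ?_ ?_ <;> rw [SetLike.coe_sort_coe, Nat.card_zpowers] <;>
        exact Nat.le_of_dvd (Fact.out : p.Prime).pos (orderOf_dvd_of_pow_eq_one (Q_pow hP _))
    have hinj3 : Function.Injective fun t : zpowers (π u₁) × zpowers (π u₂) × zpowers (π u₃) =>
        (t.1 : P ⧸ frattini P) * ((t.2.1 : P ⧸ frattini P) * t.2.2) := by
      rintro ⟨⟨_, i, rfl⟩, ⟨_, j, rfl⟩, ⟨_, k, rfl⟩⟩ ⟨⟨_, i', rfl⟩, ⟨_, j', rfl⟩, ⟨_, k', rfl⟩⟩ h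
      simp only [← map_zpow, ← map_mul] at h
      have hfixz : ∀ (T : MulAut P) (u : P) (n : ℤ), π (T u) = π u → π (T (u ^ n)) = π (u ^ n) := fun T u n h => by
        rw [map_zpow T, map_zpow, h, map_zpow]
      have hnegz : ∀ T ∈ I, ∀ u : P, Eig u → ∀ n : ℤ, π (T u) ≠ π u → π (T (u ^ n)) = (π (u ^ n))⁻¹ := fun T hT u hu n h => by
        rw [map_zpow T, map_zpow, hneg u hu T hT h, map_zpow, inv_zpow]
      have e1 := π_congr T₁ h
      rw [map_mul T₁, map_mul T₁, map_mul T₁, map_mul T₁, map_mul, map_mul, map_mul, map_mul, hnegz T₁ hT₁ u₁ hu₁ i hT₁u₁,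
        hnegz T₁ hT₁ u₁ hu₁ i' hT₁u₁, hfixz T₁ u₂ j hT₁u₂, hfixz T₁ u₂ j' hT₁u₂, hfixz T₁ u₃ k hT₁u₃, hfixz T₁ u₃ k' hT₁u₃] at e1
      rw [map_mul, map_mul, map_mul, map_mul] at h
      have hzero : ∀ x x' : P, π x * ((π x)) = π x' * π x' → π x = π x' := by
        intro x x' hxx
        have h2 : π (x * x'⁻¹) = (π (x * x'⁻¹))⁻¹ := by
          refine eq_inv_of_mul_eq_one_left ?_
          rw [map_mul, map_inv]
          calc π x * (π x')⁻¹ * (π x * (π x')⁻¹) = π x * ((π x')⁻¹ * π x) * (π x')⁻¹ := by group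
            _ = π x * (π x * (π x')⁻¹) * (π x')⁻¹ := by rw [((show Commute (π x') (π x) from Q_comm hP x' x).inv_left).eq]
            _ = π x' * π x' * ((π x')⁻¹ * (π x')⁻¹) := by rw [← hxx]; group
            _ = 1 := by group
        have := Q_sq hP hp2 h2
        rwa [map_mul, map_inv, mul_inv_eq_one] at this
      have hA : π (u₁ ^ i) = π (u₁ ^ i') := by
        refine hzero _ _ ?_
        set W := π (u₂ ^ j) * π (u₃ ^ k)
        set W' := π (u₂ ^ j') * π (u₃ ^ k')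
        have e2 : π (u₁ ^ i) * π (u₁ ^ i) = (π (u₁ ^ i) * W) * ((π (u₁ ^ i))⁻¹ * W)⁻¹ := by group
        rw [e2, e1, h]
        group
      rw [hA] at h
      have hB := mul_left_cancel h
      have e1' : π (T₂ (u₂ ^ j * u₃ ^ k)) = π (T₂ (u₂ ^ j' * u₃ ^ k')) := π_congr T₂ (by rw [map_mul, map_mul]; exact hB)
      rw [map_mul T₂, map_mul T₂, map_mul, map_mul, hnegz T₂ hT₂ u₂ hu₂ j hT₂u₂, hnegz T₂ hT₂ u₂ hu₂ j' hT₂u₂,
        hfixz T₂ u₃ k hT₂u₃, hfixz T₂ u₃ k' hT₂u₃] at e1'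
      have hJ : π (u₂ ^ j) = π (u₂ ^ j') := by
        refine hzero _ _ ?_
        have e2 : π (u₂ ^ j) * π (u₂ ^ j) = (π (u₂ ^ j) * π (u₃ ^ k)) * ((π (u₂ ^ j))⁻¹ * π (u₃ ^ k))⁻¹ := by group
        rw [e2, e1', hB]
        group
      rw [hJ] at hB
      have hK := mul_left_cancel hB
      simp only [Prod.mk.injEq, Subtype.mk.injEq, ← map_zpow]
      exact ⟨hA, hJ, hK⟩
    have h3 := Nat.card_le_card_of_injective _ hinj3
    rw [Nat.card_prod, Nat.card_prod, Nat.card_zpowers, Nat.card_zpowers, Nat.card_zpowers,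
      orderOf_eq_prime (Q_pow hP u₁) hu₁1, orderOf_eq_prime (Q_pow hP u₂) hu₂1, orderOf_eq_prime (Q_pow hP u₃) hu₃1] at h3
    have := (Fact.out : p.Prime).two_le
    have h4 := h3.trans hle
    rw [pow_two] at h4
    nlinarith [Nat.mul_le_mul_left (p * p) this]
  have hchar : ∀ (T : MulAut P) (x : P), x ∈ commutator P → T x ∈ commutator P := fun T x hx =>
    (Subgroup.characteristic_iff_map_eq.mp inferInstance T).le ⟨x, hx, rfl⟩
  have hab : ∀ x y : P, x * y = y * x := by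
    set D := commutator P with hD
    set G₀ : Set P := {z : P | ∃ x y : P, y ∈ D ∧ z = ⁅x, y⁆} ∪ {z | ∃ y ∈ D, z = y ^ p} with hG₀
    set N := normalClosure G₀ with hN
    have hG₀D : G₀ ⊆ D := by
      rintro z (⟨x, y, hy, hz⟩ | ⟨y, hy, hz⟩) <;> rw [hz]
      · exact commutator_mem_commutator (mem_top x) (mem_top y)
      · exact pow_mem hy p
    have hND : N ≤ D := normalClosure_le_normal hG₀D
    have hNT : ∀ (T : MulAut P) x, x ∈ N → T x ∈ N := by
      intro T x hx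
      have hle : N ≤ N.comap T.toMonoidHom := by
        haveI : (N.comap T.toMonoidHom).Normal := normalClosure_normal.comap _
        refine normalClosure_le_normal ?_
        rintro z (⟨a, y, hy, hz⟩ | ⟨y, hy, hz⟩) <;> rw [hz]
        · exact subset_normalClosure (Or.inl ⟨T a, T y, hchar T y hy, map_commutatorElement T.toMonoidHom a y⟩)
        · exact subset_normalClosure (Or.inr ⟨T y, hchar T y hy, map_pow T y p⟩)
      exact hle hx
    set ρ := QuotientGroup.mk' N with hρ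
    have hρcongr : ∀ (T : MulAut P) {a b : P}, ρ a = ρ b → ρ (T a) = ρ (T b) := fun T a b h => by
      have h1 : a⁻¹ * b ∈ N := QuotientGroup.eq.mp h
      refine QuotientGroup.eq.mpr ?_
      rw [← map_inv T, ← map_mul T]
      exact hNT T _ h1
    have hcen : ∀ x y, y ∈ D → Commute (ρ x) (ρ y) := fun x y hy => by
      show ρ x * ρ y = ρ y * ρ x
      rw [← commutatorElement_eq_one_iff_mul_comm, ← map_commutatorElement]
      exact (QuotientGroup.eq_one_iff _).mpr (subset_normalClosure (Or.inl ⟨x, y, hy, rfl⟩))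
    have hDmem : ∀ x y : P, ⁅x, y⁆ ∈ D := fun x y => commutator_mem_commutator (mem_top x) (mem_top y)
    have hpowc : ∀ x y : P, Commute (ρ (x ^ p)) (ρ y) := by
      intro x y
      have hc := hcen x _ (hDmem x y)
      have hcy := hcen y _ (hDmem x y)
      have hp1 : ρ ⁅x, y⁆ ^ p = 1 := by
        rw [← map_pow]; exact (QuotientGroup.eq_one_iff _).mpr (subset_normalClosure (Or.inr ⟨_, hDmem x y, rfl⟩))
      have hconj : ρ y * ρ x * (ρ y)⁻¹ = (ρ ⁅x, y⁆)⁻¹ * ρ x := by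
        rw [map_commutatorElement, commutatorElement_def]; group
      have h2 : ρ y * ρ (x ^ p) * (ρ y)⁻¹ = ρ (x ^ p) := by
        rw [map_pow, ← conj_pow, hconj, hc.symm.inv_left.mul_pow, inv_pow, hp1, inv_one, one_mul]
      exact (mul_inv_eq_iff_eq_mul.mp h2).symm
    have hΦc : ∀ y ∈ frattini P, ∀ x, Commute (ρ y) (ρ x) := by
      intro y hy x
      have hle : frattini P ≤ (Subgroup.center (P ⧸ N)).comap ρ := by
        refine CfsgLib.RankFrattini.frattini_le_of_elementary hP _ (fun a b => ?_) (fun a => ?_)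
        · refine mem_center_iff.mpr fun g => ?_
          obtain ⟨g, rfl⟩ := QuotientGroup.mk'_surjective N g
          exact (hcen g _ (hDmem a b)).eq
        · refine mem_center_iff.mpr fun g => ?_
          obtain ⟨g, rfl⟩ := QuotientGroup.mk'_surjective N g
          exact (hpowc a g).symm.eq
      exact (mem_center_iff.mp (hle hy) (ρ x)).symm
    have hcase : ∀ (Si Sj Tk : MulAut P) (ui uj uk : P), Si * Sj ∈ I₀ → Si * Sj ≠ 1 → Tk ∈ I → π ((Si * Sj) ui) = (π ui)⁻¹ →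
        π ((Si * Sj) uj) = (π uj)⁻¹ → π ((Si * Sj) uk) = π uk → π (Tk uk) = (π uk)⁻¹ →
        π (Tk ui) = π ui → π (Tk uj) = π uj → π uk ≠ 1 → Commute (ρ ui) (ρ uj) := by
      intro Si Sj Tk ui uj uk hS hS1 hTk hSi hSj hSk hTkk hTki hTkj huk1
      set S := Si * Sj with hSdef
      have hact : ∀ (T : MulAut P) (a b a' b' : P), π (T a) = π a' → π (T b) = π b' → ρ (T ⁅a, b⁆) = ρ ⁅a', b'⁆ := by
        intro T a b a' b' ha hb
        have ha' : (a'⁻¹ * T a) ∈ frattini P := QuotientGroup.eq.mp ha.symm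
        have hb' : (b'⁻¹ * T b) ∈ frattini P := QuotientGroup.eq.mp hb.symm
        rw [map_commutatorElement T]
        obtain ⟨φ, hφ, e1⟩ : ∃ φ ∈ frattini P, T a = a' * φ := ⟨_, ha', by group⟩
        obtain ⟨ψ, hψ, e2⟩ : ∃ ψ ∈ frattini P, T b = b' * ψ := ⟨_, hb', by group⟩
        rw [e1, e2, map_commutatorElement, map_commutatorElement, map_mul, map_mul]
        have c1 := hΦc φ hφ
        have c2 := hΦc ψ hψ
        rw [commutatorElement_def, commutatorElement_def]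
        have x1 : ρ φ * (ρ b' * ρ ψ) = (ρ b' * ρ ψ) * ρ φ := ((c1 b').mul_right (c1 ψ)).eq
        have x2 : ρ ψ * (ρ a')⁻¹ = (ρ a')⁻¹ * ρ ψ := ((c2 a').inv_right).eq
        calc ρ a' * ρ φ * (ρ b' * ρ ψ) * (ρ a' * ρ φ)⁻¹ * (ρ b' * ρ ψ)⁻¹
            = ρ a' * (ρ φ * (ρ b' * ρ ψ)) * (ρ φ)⁻¹ * (ρ a')⁻¹ * (ρ ψ)⁻¹ * (ρ b')⁻¹ := by group
          _ = ρ a' * ρ b' * (ρ ψ * (ρ a')⁻¹) * (ρ ψ)⁻¹ * (ρ b')⁻¹ := by rw [x1]; group
          _ = _ := by rw [x2]; group
      have hz : ρ (S ⁅ui, uj⁆) = ρ ⁅ui, uj⁆ := by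
        rw [hact S ui uj ui⁻¹ uj⁻¹ (by rw [hSi, map_inv]) (by rw [hSj, map_inv]), map_commutatorElement, map_inv, map_inv,
          map_commutatorElement, commutatorElement_def, commutatorElement_def]
        have hcc := hcen (ui * uj) _ (hDmem ui uj)
        rw [map_commutatorElement, commutatorElement_def, map_mul] at hcc
        have h9 := hcc.eq
        calc (ρ ui)⁻¹ * (ρ uj)⁻¹ * (ρ ui)⁻¹⁻¹ * (ρ uj)⁻¹⁻¹
            = (ρ ui * ρ uj)⁻¹ * (ρ ui * ρ uj) * ((ρ ui)⁻¹ * (ρ uj)⁻¹ * ρ ui * ρ uj) * 1 := by group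
          _ = _ := by
            calc _ = (ρ uj)⁻¹ * (ρ ui)⁻¹ * ((ρ ui * ρ uj) * ((ρ ui)⁻¹ * (ρ uj)⁻¹)) * ρ ui * ρ uj := by group
              _ = (ρ uj)⁻¹ * (ρ ui)⁻¹ * ((ρ ui * ρ uj * (ρ ui)⁻¹ * (ρ uj)⁻¹) * (ρ ui * ρ uj)) := by group
              _ = _ := by rw [← h9]; group
      obtain ⟨g, hg⟩ := hdisj S hS hS1
      obtain ⟨c, hc, hcz⟩ := lift_fixed hP hp2 (hinv S (hI₀I hS)) (N := N) (x := ⁅ui, uj⁆) (QuotientGroup.eq.mp hz.symm)
      obtain ⟨w, hw, hwk⟩ := lift_fixed hP hp2 (hinv S (hI₀I hS)) (N := frattini P) (x := uk) (QuotientGroup.eq.mp hSk.symm)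
      obtain ⟨m, hm⟩ := (hg c).mp hc
      obtain ⟨l, hl⟩ := (hg w).mp hw
      have hcD : π c = 1 := by
        have h1 : c⁻¹ * ⁅ui, uj⁆ ∈ N := QuotientGroup.eq.mp hcz
        refine (QuotientGroup.eq_one_iff c).mpr ?_
        have h2 : c⁻¹ * ⁅ui, uj⁆ ∈ frattini P := CfsgLib.commutator_le_frattini_pGroup hP (hND h1)
        have h3 := mul_mem (CfsgLib.commutator_le_frattini_pGroup hP (hDmem ui uj)) (inv_mem h2)
        rwa [mul_inv_rev, inv_inv, mul_inv_cancel_left] at h3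
      have hgw : π g ^ l = π uk := by rw [← map_zpow]; exact (congrArg π hl).trans hwk
      have hg1 : π g ≠ 1 := fun e => huk1 (by rw [← hgw, e, one_zpow])
      have hgo : orderOf (π g) = p := orderOf_eq_prime (Q_pow hP g) hg1
      have hpm : (p : ℤ) ∣ m := by
        rw [← hgo, orderOf_dvd_iff_zpow_eq_one, ← map_zpow]
        exact (congrArg π hm).trans hcD
      have hRg : S (Tk g) = Tk g := by
        have := DFunLike.congr_fun (hcm S (hI₀I hS) Tk hTk) g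
        refine this.trans ?_
        show Tk (S g) = Tk g
        rw [(hg g).mpr (mem_zpowers g)]
      obtain ⟨n, hn⟩ := (hg (Tk g)).mp hRg
      have hgk : π (Tk g) = (π g)⁻¹ := by
        obtain ⟨i, hi⟩ : ∃ i : ℤ, π g = π uk ^ i := by
          have h1 : zpowers (π uk) = zpowers (π g) := eq_of_le_of_card_ge (zpowers_le.mpr ⟨l, hgw⟩)
            (by rw [Nat.card_zpowers, Nat.card_zpowers, hgo, orderOf_eq_prime (Q_pow hP uk) huk1])
          obtain ⟨i, hi⟩ := h1.ge (mem_zpowers (π g))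
          exact ⟨i, hi.symm⟩
        rw [π_congr Tk (show π g = π (uk ^ i) by rw [map_zpow]; exact hi), map_zpow Tk, map_zpow, hTkk, inv_zpow, ← hi]
      have hpn : (p : ℤ) ∣ n + 1 := by
        rw [← hgo, orderOf_dvd_iff_zpow_eq_one, zpow_add, zpow_one, ← map_zpow, show π (g ^ n) = π (Tk g) from congrArg π hn, hgk,
          inv_mul_cancel]
      have hzTk : ρ (Tk c) = ρ c := by
        rw [hρcongr Tk (show ρ c = ρ ⁅ui, uj⁆ from hcz), hact Tk ui uj ui uj hTki hTkj]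
        exact hcz.symm
      have hzTk' : Tk c = c ^ n := by
        rw [← hm]
        show Tk (g ^ m) = (g ^ m) ^ n
        rw [map_zpow Tk, ← hn, ← zpow_mul, ← zpow_mul, mul_comm]
      rw [hzTk', map_zpow] at hzTk
      have hzp : ρ c ^ p = 1 := by
        rw [show ρ c = ρ ⁅ui, uj⁆ from hcz, ← map_pow]
        exact (QuotientGroup.eq_one_iff _).mpr (subset_normalClosure (Or.inr ⟨_, hDmem ui uj, rfl⟩))
      obtain ⟨t, ht⟩ := hpn
      have hz2 : ρ c ^ (2 : ℕ) = 1 := by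
        have h1 : ρ c ^ (n + 1) = ρ c * ρ c := by rw [zpow_add, zpow_one, hzTk]
        rw [ht, zpow_mul, zpow_natCast, hzp, one_zpow] at h1
        rw [pow_two, ← h1]
      have hz1 : ρ c = 1 := orderOf_eq_one_iff.mp (Nat.eq_one_of_dvd_coprimes
        ((Nat.coprime_primes (Fact.out : p.Prime) Nat.prime_two).mpr hp2) (orderOf_dvd_of_pow_eq_one hzp) (orderOf_dvd_of_pow_eq_one hz2))
      rw [show ρ c = ρ ⁅ui, uj⁆ from hcz, map_commutatorElement] at hz1
      exact commutatorElement_eq_one_iff_mul_comm.mp hz1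
    have hn : ∀ T ∈ I, ∀ u, Eig u → π (T u) ≠ π u → π (T u) = (π u)⁻¹ := fun T hT u hu h => hneg u hu T hT h
    have c12 : Commute (ρ u₁) (ρ u₂) := hcase T₁ T₂ T₃ u₁ u₂ u₃ h12 h12ne hT₃
      (hn _ (hI₀I h12) u₁ hu₁ hsgn12.1)
      (hn _ (hI₀I h12) u₂ hu₂ hsgn12.2.1)
      hsgn12.2.2 (hn _ hT₃ u₃ hu₃ hT₃u₃) hT₃u₁ hT₃u₂ hu₃1
    have c13 : Commute (ρ u₁) (ρ u₃) := hcase T₁ T₃ T₂ u₁ u₃ u₂ h13 h13ne hT₂
      (hn _ (hI₀I h13) u₁ hu₁ hsgn13.1)
      (hn _ (hI₀I h13) u₃ hu₃ hsgn13.2.2)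
      hsgn13.2.1 (hn _ hT₂ u₂ hu₂ hT₂u₂) hT₂u₁ hT₂u₃ hu₂1
    have c23 : Commute (ρ u₂) (ρ u₃) := hcase T₂ T₃ T₁ u₂ u₃ u₁ h23 h23ne hT₁
      (hn _ (hI₀I h23) u₂ hu₂ hsgn23.2.1)
      (hn _ (hI₀I h23) u₃ hu₃ hsgn23.2.2)
      hsgn23.1 (hn _ hT₁ u₁ hu₁ hT₁u₁) hT₁u₂ hT₁u₃ hu₁1
    have hgen2 : ∀ x y, Commute (ρ x) (ρ y) := by
      have h1 : ∀ g ∈ ({u₁, u₂, u₃} : Set P), ∀ y, Commute (ρ g) (ρ y) := by
        intro g hg y
        have hle : Gen ≤ (centralizer {ρ g}).comap ρ := by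
          refine (closure_le _).mpr fun v hv => ?_
          rw [SetLike.mem_coe, mem_comap, mem_centralizer_singleton_iff]
          rcases hg with rfl | rfl | rfl <;> rcases hv with rfl | rfl | rfl <;>
            first | rfl | exact c12.eq | exact c12.eq.symm | exact c13.eq | exact c13.eq.symm | exact c23.eq | exact c23.eq.symm
        have h2 : y ∈ (centralizer {ρ g}).comap ρ := hle (hGtop ▸ mem_top y)
        exact (mem_centralizer_singleton_iff.mp h2).symm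
      intro x y
      have hle : Gen ≤ (centralizer {ρ y}).comap ρ := by
        refine (closure_le _).mpr fun v hv => ?_
        rw [SetLike.mem_coe, mem_comap, mem_centralizer_singleton_iff]
        exact (h1 v hv y).eq
      exact mem_centralizer_singleton_iff.mp (hle (hGtop ▸ mem_top x))
    have hDN : D ≤ N := by
      refine commutator_le.mpr fun x _ y _ => ?_
      rw [← QuotientGroup.eq_one_iff]
      show ρ ⁅x, y⁆ = 1
      rw [map_commutatorElement, commutatorElement_eq_one_iff_mul_comm]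
      exact (hgen2 x y).eq
    set E := (⁅(⊤ : Subgroup P), D⁆ : Subgroup P) with hE
    have hED : E ≤ D := Subgroup.commutator_mono le_rfl le_top
    set F := (frattini ↥D).map D.subtype with hF
    haveI : E.Normal := inferInstance
    haveI : F.Normal := inferInstance
    have hle : D ≤ E ⊔ F := hDN.trans (normalClosure_le_normal (by
      rintro z (⟨x, y, hy, rfl⟩ | ⟨y, hy, rfl⟩)
      · exact mem_sup_left (commutator_mem_commutator (mem_top x) hy)
      · exact mem_sup_right ⟨⟨y, hy⟩ ^ p, CfsgLib.pow_mem_frattini_pGroup (hP.to_subgroup D) _, by simp⟩))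
    have hDE : D ≤ E := by
      have htop' : E.subgroupOf D ⊔ frattini ↥D = ⊤ := by
        refine eq_top_iff.mpr fun d _ => ?_
        obtain ⟨e, he, _, ⟨f, hf, rfl⟩, hef⟩ := Subgroup.mem_sup_of_normal_left.mp (hle d.2)
        rw [show d = (⟨e, hED he⟩ : D) * f from Subtype.ext hef.symm]
        exact mul_mem (mem_sup_left (show (⟨e, hED he⟩ : D) ∈ E.subgroupOf D from he)) (mem_sup_right hf)
      exact subgroupOf_eq_top.mp (frattini_nongenerating htop')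
    obtain ⟨c, hc⟩ := Subgroup.nilpotent_iff_lowerCentralSeries.mp hNP
    have hlow : ∀ k, D ≤ (⊤ : Subgroup P).lowerCentralSeries k := by
      intro k
      induction k with
      | zero => exact le_top
      | succ k ih => exact hDE.trans ((Subgroup.commutator_comm_le _ _).trans (Subgroup.commutator_mono ih le_rfl))
    intro x y
    have := hlow c (hDmem x y)
    rw [hc, mem_bot, commutatorElement_eq_one_iff_mul_comm] at this
    exact this
  have hcyc123 : Cyc (T₁ * (T₂ * T₃)) := by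
    set T := T₁ * (T₂ * T₃) with hT
    have hTI : T ∈ I := mul_mem hT₁ (mul_mem hT₂ hT₃)
    have hs := hsign (true, true, true)
    simp only [list, cond_true, cond_false, one_mul, mul_one, Bool.true_eq_false, iff_false] at hs
    have hinvπ : ∀ x, π (T x) = (π x)⁻¹ := by
      intro x
      let H : Subgroup (P ⧸ frattini P) := {
        carrier := {v | ∀ y, π y = v → π (T y) = v⁻¹}
        one_mem' := fun y hy => by rw [π_congr T (hy.trans (map_one π).symm), map_one, map_one, inv_one]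
        mul_mem' := fun {v w} hv hw y hy => by
          obtain ⟨a, rfl⟩ := QuotientGroup.mk'_surjective _ v
          obtain ⟨b, rfl⟩ := QuotientGroup.mk'_surjective _ w
          rw [π_congr T (show π y = π (a * b) by rw [map_mul]; exact hy), map_mul T, map_mul, hv a rfl, hw b rfl,
            mul_inv_rev]
          exact (show Commute (π a) (π b) from Q_comm hP a b).inv_inv.eq
        inv_mem' := fun {v} hv y hy => by
          obtain ⟨a, rfl⟩ := QuotientGroup.mk'_surjective _ v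
          rw [π_congr T (show π y = π a⁻¹ by rw [map_inv]; exact hy), map_inv T, map_inv, hv a rfl] }
      have hle : R ≤ H := by
        refine (closure_le _).mpr ?_
        rintro _ (rfl | rfl | rfl) y hy
        · rw [π_congr T hy]; exact hneg u₁ hu₁ T hTI hs.1
        · rw [π_congr T hy]; exact hneg u₂ hu₂ T hTI hs.2.1
        · rw [π_congr T hy]; exact hneg u₃ hu₃ T hTI hs.2.2
      exact hle (hRtop x) x rfl
    let pw : P →* P := { toFun := fun x => x ^ p, map_one' := one_pow p, map_mul' := fun a b => (show Commute a b from hab a b).mul_pow p }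
    have hΦp : frattini P ≤ pw.range := CfsgLib.RankFrattini.frattini_le_of_elementary hP _
      (fun a b => by rw [commutatorElement_eq_one_iff_mul_comm.mpr (hab a b)]; exact one_mem _) (fun a => ⟨a, rfl⟩)
    have hroot : ∀ x, T x = x → ∃ y, T y = y ∧ y ^ p = x := by
      intro x hx
      have h1 : π x = 1 := Q_sq hP hp2 (by rw [← hinvπ x, hx])
      obtain ⟨h, hh⟩ := hΦp ((QuotientGroup.eq_one_iff x).mp h1)
      have hh' : h ^ p = x := hh
      obtain ⟨e, he⟩ := half hP hp2 x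
      refine ⟨(h * T h) ^ e, ?_, ?_⟩
      · rw [map_pow, map_mul, hinv T hTI, hab]
      · have h2 : (h * T h) ^ p = x * x := by
          rw [(show Commute h (T h) from hab _ _).mul_pow, ← map_pow, hh', hx]
        rw [← pow_mul, mul_comm, pow_mul, h2, (Commute.refl x).mul_pow, he]
    have hfix1 : ∀ k, ∀ x, T x = x → ∃ y, y ^ p ^ k = x := by
      intro k
      induction k with
      | zero => exact fun x _ => ⟨x, by simp⟩
      | succ k ih =>
        intro x hx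
        suffices h : ∀ k, ∀ x, T x = x → ∃ y, T y = y ∧ y ^ p ^ k = x by
          obtain ⟨y, -, hy⟩ := h (k + 1) x hx; exact ⟨y, hy⟩
        intro j
        induction j with
        | zero => exact fun x hx => ⟨x, hx, by simp⟩
        | succ j ihj =>
          intro x hx
          obtain ⟨y, hy, hyx⟩ := ihj x hx
          obtain ⟨z, hz, hzy⟩ := hroot y hy
          exact ⟨z, hz, by rw [pow_succ', pow_mul, hzy, hyx]⟩
    obtain ⟨k, hk⟩ := IsPGroup.iff_card.mp hP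
    refine ⟨1, fun x => ⟨fun hx => ?_, fun hx => ?_⟩⟩
    · obtain ⟨y, hy⟩ := hfix1 k x hx
      rw [← hk, pow_card_eq_one'] at hy
      rw [← hy]; exact one_mem _
    · rw [zpowers_one_eq_bot, mem_bot] at hx
      rw [hx, map_one]
  have hBset : ∀ T, (T ∈ I ∧ T ≠ 1 ∧ ¬ Cyc T) ↔ T ∈ ({T₁, T₂, T₃} : Set (MulAut P)) := by
    intro T
    simp only [Set.mem_insert_iff, Set.mem_singleton_iff]
    constructor
    · rintro ⟨hT, hT1, hTb⟩
      obtain ⟨⟨b1, b2, b3⟩, rfl⟩ := hall T hT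
      cases b1 <;> cases b2 <;> cases b3 <;>
        simp only [list, cond_true, cond_false, one_mul, mul_one] at hT1 hTb ⊢ <;>
        first | exact absurd rfl hT1 | exact Or.inl trivial | exact Or.inr (Or.inl trivial) | exact Or.inr (Or.inr trivial) |
          exact absurd (hdisj _ h12 h12ne) hTb | exact absurd (hdisj _ h13 h13ne) hTb |
          exact absurd (hdisj _ h23 h23ne) hTb | exact absurd hcyc123 (by assumption)
    · rintro (rfl | rfl | rfl)
      exacts [⟨hT₁, hT₁1, hb1⟩, ⟨hT₂, hT₂1, hb2⟩, ⟨hT₃, hT₃1, hb3⟩]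
  have hBeq : {T : MulAut P | T ∈ I ∧ T ≠ 1 ∧ ¬ Cyc T} = {T₁, T₂, T₃} := Set.ext hBset
  refine ⟨⟨⟨hab⟩⟩, ⟨u₁, u₂, u₃, hGtop⟩, hnotwo, ?_, ?_, ?_⟩
  · show Nat.card ↥{T : MulAut P | T ∈ I ∧ T ≠ 1 ∧ ¬ Cyc T} = 3
    rw [hBeq, Nat.card_coe_set_eq]
    refine Set.ncard_eq_three.mpr ⟨T₁, T₂, T₃, fun e => hT₂u₂ (e ▸ hT₁u₂), fun e => hT₃u₃ (e ▸ hT₁u₃), fun e => hT₃u₃ (e ▸ hT₂u₃), rfl⟩
  · rw [hBeq]
    refine le_antisymm ((closure_le _).mpr ?_) fun T hT => ?_
    · rintro _ (rfl | rfl | rfl) <;> assumption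
    · obtain ⟨⟨b1, b2, b3⟩, rfl⟩ := hall T hT
      have m1 : T₁ ∈ Subgroup.closure ({T₁, T₂, T₃} : Set (MulAut P)) := subset_closure (by simp)
      have m2 : T₂ ∈ Subgroup.closure ({T₁, T₂, T₃} : Set (MulAut P)) := subset_closure (by simp)
      have m3 : T₃ ∈ Subgroup.closure ({T₁, T₂, T₃} : Set (MulAut P)) := subset_closure (by simp)
      cases b1 <;> cases b2 <;> cases b3 <;>
        simp only [list, cond_true, cond_false, one_mul, mul_one] <;>
        first | exact one_mem _ | assumption | exact mul_mem m1 m2 | exact mul_mem m1 m3 | exact mul_mem m2 m3 |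
          exact mul_mem m1 (mul_mem m2 m3)
  · ext S
    simp only [SetLike.mem_coe, Set.mem_setOf_eq]
    rw [hI₀list]
    constructor
    · rintro (rfl | rfl | rfl | rfl)
      · exact ⟨T₁, T₁, hT₁, hT₁, hT₁1, hT₁1, hb1, hb1, (hsq T₁ hT₁).symm⟩
      · exact ⟨T₁, T₂, hT₁, hT₂, hT₁1, hT₂1, hb1, hb2, rfl⟩
      · exact ⟨T₁, T₃, hT₁, hT₃, hT₁1, hT₃1, hb1, hb3, rfl⟩
      · exact ⟨T₂, T₃, hT₂, hT₃, hT₂1, hT₃1, hb2, hb3, rfl⟩
    · rintro ⟨T, T', hT, hT', hT1, hT'1, hTb, hT'b, rfl⟩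
      exact (hI₀list _).mp (hprod T hT T' hT' hT1 hT'1 hTb hT'b)

end Aux

/-- Let p be an odd prime, P a finite p-group and I an elementary abelian subgroup of order 8 of Aut(P). Call T ∈ I, T ≠ 1, broad when its fixed-point subgroup C_P(T) is not cyclic. Suppose I has a proper subgroup I₀ containing no broad element such that the product of any two broad elements lies in I₀. Then P is abelian of rank exactly 3 (generated by three elements but not by two), there are exactly three broad elements and they generate I, and I₀ is exactly the set of products of two broad elements. -/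
theorem result
    {P : Type*} [Group P] [Finite P] (p : ℕ) (hp : p.Prime) (hp2 : p ≠ 2) (hP : IsPGroup p P)
    (I : Subgroup (MulAut P)) (hI : Cfsg.IsElementaryAbelian 2 I) (hI8 : Nat.card ↥I = 8)
    (I₀ : Subgroup (MulAut P)) (hI₀ : I₀ < I)
    (hdisj : ∀ T ∈ I₀, T ≠ 1 → ∃ g : P, ∀ x : P, (T x = x ↔ x ∈ Subgroup.zpowers g))
    (hprod : ∀ T ∈ I, ∀ T' ∈ I, T ≠ 1 → T' ≠ 1 → (¬ ∃ g : P, ∀ x : P, (T x = x ↔ x ∈ Subgroup.zpowers g)) →
      (¬ ∃ g : P, ∀ x : P, (T' x = x ↔ x ∈ Subgroup.zpowers g)) → T * T' ∈ I₀) :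
    IsMulCommutative P ∧ (∃ a b c : P, Subgroup.closure {a, b, c} = ⊤) ∧ (¬ ∃ a b : P, Subgroup.closure {a, b} = ⊤) ∧
      Nat.card {T : MulAut P // T ∈ I ∧ T ≠ 1 ∧ ¬ ∃ g : P, ∀ x : P, (T x = x ↔ x ∈ Subgroup.zpowers g)} = 3 ∧
      Subgroup.closure {T : MulAut P | T ∈ I ∧ T ≠ 1 ∧ ¬ ∃ g : P, ∀ x : P, (T x = x ↔ x ∈ Subgroup.zpowers g)} = I ∧
      (I₀ : Set (MulAut P)) = {S : MulAut P | ∃ T T' : MulAut P, T ∈ I ∧ T' ∈ I ∧ T ≠ 1 ∧ T' ≠ 1 ∧
        (¬ ∃ g : P, ∀ x : P, (T x = x ↔ x ∈ Subgroup.zpowers g)) ∧ (¬ ∃ g : P, ∀ x : P, (T' x = x ↔ x ∈ Subgroup.zpowers g)) ∧ S = T * T'} := by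
  haveI := Fact.mk hp
  exact Aux.goal hp2 hP I hI hI8 I₀ hI₀ hdisj hprod

end Cfsg.Agent.S4412
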