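import Cfsg.Statements.S4413
import Mathlib
import Cfsg.Agent.Lib.ExtraspecialTwo
-- import your own Cfsg.Agent.* helpers here

set_option autoImplicit false
open Cfsg

namespace Cfsg.Agent.S4413

namespace Aux

open scoped commutatorElement

universe u
variable {P : Type u} [Group P] {z : P}

abbrev Tup := Bool × Bool × Bool × Bool × Bool

/-- A power with a Boolean exponent. -/
def p (b : Bool) (x : P) : P := bif b then x else 1

@[simp] theorem p_true (x : P) : p true x = x := rfl
@[simp] theorem p_false (x : P) : p false x = 1 := rfl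

theorem p_merge {x : P} (hx : x * x = 1) (a b : Bool) : p a x * p b x = p (a ^^ b) x := by
  cases a <;> cases b <;> simp [hx]

theorem p_comm {x : P} (h : ∀ g, Commute g x) (a : Bool) (g : P) : Commute g (p a x) := by
  cases a <;> simp [h g]

/-- Four involutions, any two of them with commutator `z`. -/
structure Good (z : P) (e : Fin 4 → P) : Prop where
  invol : ∀ i, e i * e i = 1
  swap : ∀ i j, i ≠ j → e j * e i = e i * e j * z

def F (z : P) (e : Fin 4 → P) (s : Tup) : P :=
  p s.1 (e 0) * (p s.2.1 (e 1) * (p s.2.2.1 (e 2) * (p s.2.2.2.1 (e 3) * p s.2.2.2.2 z)))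

/-- The multiplication of the normal forms. -/
def law (s t : Tup) : Tup :=
  (s.1 ^^ t.1, s.2.1 ^^ t.2.1, s.2.2.1 ^^ t.2.2.1, s.2.2.2.1 ^^ t.2.2.2.1,
    s.2.2.2.2 ^^ t.2.2.2.2 ^^ ((s.2.1 ^^ s.2.2.1 ^^ s.2.2.2.1) && t.1) ^^ ((s.2.2.1 ^^ s.2.2.2.1) && t.2.1) ^^
      (s.2.2.2.1 && t.2.2.1))

theorem move {x y : P} (hz : ∀ g : P, Commute g z) (hs : y * x = x * y * z) (a b : Bool) (w : P) :
    p a y * (p b x * w) = p b x * (p a y * (p (a && b) z * w)) := by
  cases a <;> cases b <;> simp [← mul_assoc, hs]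

theorem F_mul {e : Fin 4 → P} (h : Good z e) (hz : ∀ g : P, Commute g z) (hzz : z * z = 1) (s t : Tup) :
    F z e s * F z e t = F z e (law s t) := by
  obtain ⟨a, b, c, d, f⟩ := s
  obtain ⟨a', b', c', d', f'⟩ := t
  have m := fun (i j : Fin 4) (hij : i ≠ j) (k l : Bool) (w : P) => move hz (h.swap i j hij) k l w
  have zl : ∀ (k : Bool) (g w : P), p k z * (g * w) = g * (p k z * w) := fun k g w => by
    rw [← mul_assoc, ← mul_assoc, (p_comm hz k g).eq]
  have mg : ∀ (i : Fin 4) (k l : Bool) (w : P), p k (e i) * (p l (e i) * w) = p (k ^^ l) (e i) * w := fun i k l w => by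
    rw [← mul_assoc, p_merge (h.invol i)]
  have mz : ∀ (k l : Bool) (w : P), p k z * (p l z * w) = p (k ^^ l) z * w := fun k l w => by
    rw [← mul_assoc, p_merge hzz]
  simp only [F, law, mul_assoc]
  rw [zl f (p a' (e 0)), m 0 3 (by decide), m 0 2 (by decide), m 0 1 (by decide), mg 0]
  congr 1
  simp only [zl _ (p d (e 3)), zl _ (p c (e 2)), zl _ (p c' (e 2)), zl _ (p b' (e 1)), zl _ (p d' (e 3)), mz]
  rw [m 1 3 (by decide), m 1 2 (by decide), mg 1]
  congr 1
  simp only [zl _ (p d (e 3)), zl _ (p c (e 2)), zl _ (p c' (e 2)), zl _ (p b' (e 1)), zl _ (p d' (e 3)), mz]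
  rw [m 2 3 (by decide), mg 2]
  congr 1
  simp only [zl _ (p d (e 3)), zl _ (p d' (e 3)), mz, mg 3, p_merge hzz]
  congr 2
  cases a' <;> cases b' <;> cases c' <;> cases b <;> cases c <;> cases d <;> cases f <;> cases f' <;> rfl

/-- The four distinguished normal forms, the fifth one, and their signed versions. -/
def E5 : Fin 5 → Tup :=
  ![(true, false, false, false, false), (false, true, false, false, false), (false, false, true, false, false),
    (false, false, false, true, false), (true, true, true, true, false)]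

def ztup : Tup := (false, false, false, false, true)

def sgn (b : Bool) : Tup := (false, false, false, false, b)

theorem F_sgn (e : Fin 4 → P) (b : Bool) : F z e (sgn b) = p b z := by simp [F, sgn]

theorem F_E5 (e : Fin 4 → P) : F z e (E5 0) = e 0 ∧ F z e (E5 1) = e 1 ∧ F z e (E5 2) = e 2 ∧ F z e (E5 3) = e 3 := by
  simp [F, E5]

theorem E5_swap : ∀ i j : Fin 5, i ≠ j → law (E5 j) (E5 i) = law (law (E5 i) (E5 j)) ztup := by decide

theorem E5_invol : ∀ i : Fin 5, law (E5 i) (E5 i) = (false, false, false, false, false) := by decide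

theorem singular : ∀ a b c d f : Bool, law (a, b, c, d, f) (a, b, c, d, f) = (false, false, false, false, false) →
    (a, b, c, d) ≠ (false, false, false, false) → ∃ i b', (a, b, c, d, f) = law (E5 i) (sgn b') := by decide

theorem comm_bits : ∀ a b c d f : Bool, ∀ i : Fin 5, law (E5 i) (a, b, c, d, f) = law (a, b, c, d, f) (E5 i) ↔
    law (E5 i) (a, b, c, d, false) = law (a, b, c, d, false) (E5 i) := by decide

def cb (q : Bool × Bool × Bool × Bool) (i : Fin 4) : Bool :=
  decide (law (E5 i.castSucc) (q.1, q.2.1, q.2.2.1, q.2.2.2, false) = law (q.1, q.2.1, q.2.2.1, q.2.2.2, false) (E5 i.castSucc))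

theorem comm_det : ∀ q q' : Bool × Bool × Bool × Bool, (∀ i : Fin 4, cb q i = cb q' i) → q = q' := by decide +kernel

theorem E5_unique : ∀ i j : Fin 5, ∀ b c : Bool, law (E5 i) (sgn b) = law (E5 j) (sgn c) → i = j ∧ b = c := by decide

/-- A quadruple gives a bijection from the normal forms. -/
theorem F_bij [Finite P] {e : Fin 4 → P} (h : Good z e) (hz : ∀ g : P, Commute g z) (hzz : z * z = 1) (hz1 : z ≠ 1)
    (h32 : Nat.card P = 32) : Function.Bijective (F z e) := by
  refine Function.Injective.bijective_of_nat_card_le ?_ (by rw [h32, Nat.card_eq_fintype_card]; simp)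
  intro s t hst
  have key : ∀ u, F z e (law s u) = F z e (law t u) ∧ F z e (law u s) = F z e (law u t) := fun u => by
    rw [← F_mul h hz hzz, ← F_mul h hz hzz, ← F_mul h hz hzz, ← F_mul h hz hzz, hst]; exact ⟨rfl, rfl⟩
  -- the commutator with each generator
  have hzF : ∀ u : Tup, F z e (law u ztup) = F z e u * z := fun u => by
    rw [← F_mul h hz hzz]; simp [F, ztup]
  have hcomm : ∀ i : Fin 5, (law (E5 i) s = law s (E5 i) ↔ law (E5 i) t = law t (E5 i)) := by
    intro i
    have dich : ∀ (a b c d f : Bool) (i : Fin 5), law (E5 i) (a, b, c, d, f) = law (a, b, c, d, f) (E5 i) ∨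
        law (E5 i) (a, b, c, d, f) = law (law (a, b, c, d, f) (E5 i)) ztup := by decide
    obtain ⟨k1, k2⟩ := key (E5 i)
    rcases dich s.1 s.2.1 s.2.2.1 s.2.2.2.1 s.2.2.2.2 i with e1 | e1 <;>
      rcases dich t.1 t.2.1 t.2.2.1 t.2.2.2.1 t.2.2.2.2 i with e2 | e2
    · exact ⟨fun _ => e2, fun _ => e1⟩
    · exfalso
      rw [e1, e2, hzF, k1] at k2
      exact hz1 (left_eq_mul.mp k2)
    · exfalso
      rw [e1, e2, hzF, k1] at k2
      exact hz1 (mul_eq_left.mp k2)
    · have ne : ∀ u : Tup, law u ztup ≠ u := by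
        rintro ⟨a, b, c, d, f⟩
        cases f <;> simp [law, ztup]
      exact ⟨fun e => absurd (e1.symm.trans e) (ne _), fun e => absurd (e2.symm.trans e) (ne _)⟩
  obtain ⟨a, b, c, d, f⟩ := s
  obtain ⟨a', b', c', d', f'⟩ := t
  have e4 := comm_det (a, b, c, d) (a', b', c', d') fun i => decide_eq_decide.mpr
    ((comm_bits a b c d f _).symm.trans ((hcomm i.castSucc).trans (comm_bits a' b' c' d' f' _)))
  simp only [Prod.mk.injEq] at e4
  obtain ⟨rfl, rfl, rfl, rfl⟩ := e4
  simp only [F, mul_right_inj] at hst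
  cases f <;> cases f' <;> first | rfl | exact absurd hst.symm hz1 | exact absurd hst hz1

/-- Five involutions as required, from a group of minus type. -/
theorem exists_good [Finite P] (h : CfsgLib.ExtraTwo.Ext2 P z) (h32 : Nat.card P = 32)
    (hminus : ∀ A : Subgroup P, Cfsg.IsElementaryAbelian 2 A → Nat.card ↥A ≤ 4) : ∃ e : Fin 4 → P, Good z e := by
  classical
  obtain ⟨x, hx, hxc⟩ : ∃ x : P, x * x = 1 ∧ x ∉ Subgroup.center P := by
    by_contra hcon
    push Not at hcon
    rcases (CfsgLib.ExtraTwo.small_cases h hcon).2 with ⟨e, -⟩ | ⟨e, -⟩ <;> omega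
  have hsw : ∀ {a b : P}, a * b ≠ b * a → b * a = a * b * z := by
    intro a b hab
    have hc := (h.comm_cases b a).resolve_left fun e => hab (commutatorElement_eq_one_iff_mul_comm.mp e).symm
    calc b * a = ⁅b, a⁆ * (a * b) := by rw [commutatorElement_def]; group
      _ = a * b * z := by rw [hc, (h.z_comm (a * b)).eq]
  obtain ⟨y₀, hy₀⟩ : ∃ y, x * y ≠ y * x := by
    by_contra hall
    push Not at hall
    exact hxc (Subgroup.mem_center_iff.mpr fun g => (hall g).symm)
  obtain ⟨y, hy, hxy⟩ : ∃ y, y * y = 1 ∧ x * y ≠ y * x := by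
    rcases h.sq y₀ with e | e
    · exact ⟨y₀, e, hy₀⟩
    refine ⟨x * y₀, ?_, fun hc => hy₀ ?_⟩
    · calc x * y₀ * (x * y₀) = x * (y₀ * x) * y₀ := by group
        _ = x * x * y₀ * (z * y₀) := by rw [hsw hy₀]; group
        _ = 1 := by rw [hx, one_mul, ← (h.z_comm y₀).eq, ← mul_assoc, e, h.zz]
    · exact mul_left_cancel (hc.trans (mul_assoc x y₀ x))
  obtain ⟨δ, hδz, hδx, hδy, -⟩ := CfsgLib.ExtraTwo.exists_dihedral_hom h hx hy hxy
  set C := Subgroup.centralizer (δ.range : Set P) with hC
  have hcardC : 8 ≤ Nat.card C := by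
    have h1 := h.card_mul_card_centralizer (A := δ.range) ⟨_, hδz⟩
    have h2 : Nat.card δ.range ≤ 8 := by
      have := Nat.card_le_card_of_surjective _ δ.rangeRestrict_surjective
      rwa [DihedralGroup.nat_card] at this
    rw [h32] at h1
    nlinarith [Nat.card_pos (α := C)]
  have hCx : ∀ {c}, c ∈ C → x * c = c * x ∧ y * c = c * y := fun {c} hc =>
    ⟨Subgroup.mem_centralizer_iff.mp hc x ⟨_, hδx⟩, Subgroup.mem_centralizer_iff.mp hc y ⟨_, hδy⟩⟩
  have hsqC : ∀ c ∈ C, c ≠ 1 → c ≠ z → c * c = z := by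
    intro c hc hc1 hcz
    refine (h.sq c).resolve_left fun hcc => ?_
    let f : Bool × Bool × Bool → P := fun t => p t.1 x * (p t.2.1 c * p t.2.2 z)
    let A : Subgroup P := Subgroup.closure {x, c, z}
    have hgen : ∀ a ∈ ({x, c, z} : Set P), a * a = 1 ∧ ∀ b ∈ ({x, c, z} : Set P), a * b = b * a := by
      rintro a (rfl | rfl | rfl) <;> refine ⟨by first | assumption | exact h.zz, ?_⟩ <;> rintro b (rfl | rfl | rfl) <;>
        first | rfl | exact (hCx hc).1 | exact (hCx hc).1.symm | exact (h.z_comm _).eq | exact (h.z_comm _).eq.symm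
    have hAc : IsMulCommutative A := Subgroup.isMulCommutative_closure fun a ha b hb => (hgen a ha).2 b hb
    have hA : Cfsg.IsElementaryAbelian 2 A := by
      refine ⟨hAc, fun a ha => ?_⟩
      induction ha using Subgroup.closure_induction with
      | mem a ha => rw [pow_two]; exact (hgen a ha).1
      | one => exact one_pow 2
      | mul a b ha hb e1 e2 =>
        have : Commute a b := congrArg Subtype.val (hAc.is_comm.comm ⟨a, ha⟩ ⟨b, hb⟩)
        rw [this.mul_pow, e1, e2, one_mul]
      | inv a ha e1 => rw [inv_pow, e1, inv_one]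
    have hfA : ∀ t, f t ∈ A := by
      rintro ⟨a, b, d⟩
      refine mul_mem ?_ (mul_mem ?_ ?_)
      · cases a; exacts [one_mem A, Subgroup.subset_closure (by simp)]
      · cases b; exacts [one_mem A, Subgroup.subset_closure (by simp)]
      · cases d; exacts [one_mem A, Subgroup.subset_closure (by simp)]
    have hinj : Function.Injective fun t => (⟨f t, hfA t⟩ : A) := by
      rintro ⟨a, b, d⟩ ⟨a', b', d'⟩ e
      have e0 : f (a, b, d) = f (a', b', d') := congrArg Subtype.val e
      have hcom : ∀ b d, y * (p b c * p d z) = (p b c * p d z) * y := fun b d => by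
        have e1 : Commute y (p b c) := by cases b <;> simp [Commute, SemiconjBy, (hCx hc).2]
        exact e1.mul_right (p_comm h.z_comm d y)
      have ha : a = a' := by
        by_contra hne
        have hx' : x * (p b c * p d z) = p b' c * p d' z ∨ x * (p b' c * p d' z) = p b c * p d z := by
          cases a <;> cases a' <;> first
            | exact absurd rfl hne
            | (left; simpa only [f, p_true, p_false, one_mul] using e0)
            | (right; simpa only [f, p_true, p_false, one_mul] using e0.symm)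
        rcases hx' with e1 | e1
        · have e2 := hcom b' d'
          rw [← e1, mul_assoc x _ y, ← hcom b d] at e2
          simp only [← mul_assoc] at e2
          exact hxy (mul_right_cancel (mul_right_cancel e2)).symm
        · have e2 := hcom b d
          rw [← e1, mul_assoc x _ y, ← hcom b' d'] at e2
          simp only [← mul_assoc] at e2
          exact hxy (mul_right_cancel (mul_right_cancel e2)).symm
      subst ha
      have e1 : p b c * p d z = p b' c * p d' z := mul_left_cancel e0
      have hcz' : c * z ≠ 1 := fun e => hcz ((eq_inv_of_mul_eq_one_left e).trans (inv_eq_of_mul_eq_one_right h.zz))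
      cases b <;> cases b' <;> cases d <;> cases d' <;>
        simp [h.ne, h.ne.symm, hc1, Ne.symm hc1, hcz, Ne.symm hcz, hcz', Ne.symm hcz', mul_eq_left, left_eq_mul,
          mul_eq_right, right_eq_mul] at e1 ⊢
    have h3 := (Nat.card_le_card_of_injective _ hinj).trans (hminus A hA)
    simp [Nat.card_eq_fintype_card] at h3
  obtain ⟨i, hi, j, hj, hij⟩ : ∃ i ∈ C, ∃ j ∈ C, i * j ≠ j * i := by
    by_contra hcon
    push Not at hcon
    obtain ⟨c, hc, hc1, hcz⟩ : ∃ c ∈ C, c ≠ 1 ∧ c ≠ z := by
      by_contra hcon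
      push Not at hcon
      have : Nat.card C ≤ 2 := by
        refine (Nat.card_le_card_of_injective (fun t : C => decide ((t : P) = 1)) ?_).trans (by simp)
        intro s t e
        simp only [decide_eq_decide] at e
        apply Subtype.ext
        by_cases hs : (s : P) = 1
        · rw [hs, e.mp hs]
        · rw [hcon _ s.2 hs, hcon _ t.2 fun e' => hs (e.mpr e')]
      omega
    have hall : ∀ d ∈ C, d = 1 ∨ d = z ∨ d = c ∨ d = c * z := by
      intro d hd
      by_cases hd1 : d = 1
      · exact Or.inl hd1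
      by_cases hdz : d = z
      · exact Or.inr (Or.inl hdz)
      have h2 : c * d * (c * d) = 1 := by
        calc c * d * (c * d) = c * (d * c) * d := by group
          _ = c * c * (d * d) := by rw [hcon d hd c hc]; group
          _ = 1 := by rw [hsqC c hc hc1 hcz, hsqC d hd hd1 hdz, h.zz]
      have hd' : d = c⁻¹ * (c * d) := by group
      have hci : c⁻¹ = c * z := inv_eq_of_mul_eq_one_right (by rw [← mul_assoc, hsqC c hc hc1 hcz, h.zz])
      by_cases h3 : c * d = 1
      · right; right; right; rw [hd', h3, hci, mul_one]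
      by_cases h4 : c * d = z
      · right; right; left; rw [hd', h4, hci, mul_assoc, h.zz, mul_one]
      exact absurd h2 (by rw [hsqC _ (mul_mem hc hd) h3 h4]; exact h.ne)
    have : Nat.card C ≤ 4 := by
      refine (Nat.card_le_card_of_surjective (fun t : Bool × Bool => (⟨p t.1 c * p t.2 z, ?_⟩ : C)) ?_).trans (by simp)
      · refine mul_mem (by cases t.1; exacts [one_mem C, hc]) (by
          cases t.2
          exacts [one_mem C, Subgroup.mem_centralizer_iff.mpr fun g _ => (h.z_comm g).eq])
      · rintro ⟨d, hd⟩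
        rcases hall d hd with rfl | rfl | rfl | rfl
        exacts [⟨(false, false), Subtype.ext (by simp)⟩, ⟨(false, true), Subtype.ext (by simp)⟩,
          ⟨(true, false), Subtype.ext (by simp)⟩, ⟨(true, true), Subtype.ext (by simp)⟩]
    omega
  have hne : ∀ {c d : P}, c ∈ C → d ∈ C → c * d ≠ d * c → c * c = z := fun {c d} hc _ hcd =>
    hsqC c hc (fun e => hcd (by rw [e, one_mul, mul_one])) (fun e => hcd (by rw [e]; exact (h.z_comm d).eq.symm))
  have hi2 := hne hi hj hij
  have hj2 := hne hj hi (Ne.symm hij)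
  set a := x * y with ha
  have ha2 : a * a = z := by
    calc a * a = x * (y * x) * y := by rw [ha]; group
      _ = x * x * y * (z * y) := by rw [hsw hxy]; group
      _ = z := by rw [hx, one_mul, ← (h.z_comm y).eq, ← mul_assoc, hy, one_mul]
  have hac : ∀ {c}, c ∈ C → Commute a c := fun hc => Commute.mul_left (hCx hc).1 (hCx hc).2
  have hinv : ∀ {c}, c ∈ C → c * c = z → a * c * (a * c) = 1 := fun {c} hc hcc => by
    rw [(hac hc).symm.mul_mul_mul_comm a c, ha2, hcc, h.zz]
  have hxa : x * a ≠ a * x := fun e => hxy (by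
    rw [ha] at e
    exact mul_left_cancel (e.trans (mul_assoc x y x)))
  have hya : y * a ≠ a * y := fun e => hxy (by
    rw [ha, ← mul_assoc] at e
    exact (mul_right_cancel e).symm)
  have hnc : ∀ {g c}, c ∈ C → g * c = c * g → g * a ≠ a * g → g * (a * c) ≠ a * c * g := fun {g c} _ hgc hga e =>
    hga (mul_right_cancel (by rw [mul_assoc, e, mul_assoc a g c, hgc, ← mul_assoc] : g * a * c = a * g * c))
  have hij' : a * i * (a * j) ≠ a * j * (a * i) := fun e => hij (by
    rw [(hac hi).symm.mul_mul_mul_comm a j, (hac hj).symm.mul_mul_mul_comm a i] at e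
    exact mul_left_cancel e)
  refine ⟨![x, y, a * i, a * j], fun k => ?_, fun k l hkl => ?_⟩
  · fin_cases k
    exacts [hx, hy, hinv hi hi2, hinv hj hj2]
  · have n02 := hnc hi (hCx hi).1 hxa
    have n03 := hnc hj (hCx hj).1 hxa
    have n12 := hnc hi (hCx hi).2 hya
    have n13 := hnc hj (hCx hj).2 hya
    fin_cases k <;> fin_cases l <;>
      first | exact absurd rfl hkl | exact hsw hxy | exact hsw n02 | exact hsw n03 | exact hsw n12 | exact hsw n13 |
        exact hsw hij' | exact hsw (Ne.symm hxy) | exact hsw (Ne.symm n02) | exact hsw (Ne.symm n03) |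
        exact hsw (Ne.symm n12) | exact hsw (Ne.symm n13) | exact hsw (Ne.symm hij')

theorem goal [Finite P] (hex : Cfsg.IsExtraspecial 2 P) (h32 : Nat.card P = 32)
    (hminus : ∀ A : Subgroup P, Cfsg.IsElementaryAbelian 2 A → Nat.card ↥A ≤ 4)
    [(MulAut.conj : P →* MulAut P).range.Normal] :
    Nat.card ↥(MulAut.conj : P →* MulAut P).range = 16 ∧ Nat.card (MulAut P) = 1920 ∧
      Nonempty ((MulAut P ⧸ (MulAut.conj : P →* MulAut P).range) ≃* Equiv.Perm (Fin 5)) := by
  classical
  obtain ⟨z, h⟩ := CfsgLib.ExtraTwo.ofExtraspecial hex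
  obtain ⟨e, he⟩ := exists_good h h32 hminus
  have hzc := h.z_comm
  set E : Tup → P := F z e with hEdef
  have hE : Function.Bijective E := F_bij he hzc h.zz h.ne h32
  have hmul : ∀ s t, E s * E t = E (law s t) := F_mul he hzc h.zz
  have hE0 : E (false, false, false, false, false) = 1 := by simp [E, F]
  have hEz : ∀ b, E (sgn b) = p b z := F_sgn e
  set V : Fin 5 → P := fun i => E (E5 i) with hV
  have hVswap : ∀ i j, i ≠ j → V j * V i = V i * V j * z := fun i j hij => by
    have := hEz true
    simp only [p_true] at this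
    rw [← this, hmul, hmul, hmul, E5_swap i j hij]
    rfl
  have hVinv : ∀ i, V i * V i = 1 := fun i => by rw [hmul, E5_invol, hE0]
  have hVuniq : ∀ i j b c, V i * p b z = V j * p c z → i = j ∧ b = c := fun i j b c e' => by
    rw [← hEz, ← hEz, hmul, hmul] at e'
    exact E5_unique i j b c (hE.1 e')
  -- automorphisms permute the five classes
  have hφz : ∀ φ : MulAut P, φ z = z := fun φ => by
    refine ((h.center_iff (φ z)).mp ?_).resolve_left fun e1 => h.ne (φ.injective (e1.trans (map_one φ).symm))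
    refine Subgroup.mem_center_iff.mpr fun g => ?_
    obtain ⟨g, rfl⟩ := φ.surjective g
    rw [← map_mul, ← map_mul, (hzc g).eq]
  have hφp : ∀ (φ : MulAut P) b, φ (p b z) = p b z := fun φ b => by cases b <;> simp [hφz]
  have hperm : ∀ (φ : MulAut P) (i : Fin 5), ∃ q : Fin 5 × Bool, φ (V i) = V q.1 * p q.2 z := by
    intro φ i
    obtain ⟨⟨a, b, c, d, f⟩, hs⟩ := hE.2 (φ (V i))
    have hsq : law (a, b, c, d, f) (a, b, c, d, f) = (false, false, false, false, false) := hE.1 (by
      rw [← hmul, hs, ← map_mul, hVinv, map_one, hE0])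
    have hnc : (a, b, c, d) ≠ (false, false, false, false) := by
      intro e1
      simp only [Prod.mk.injEq] at e1
      obtain ⟨rfl, rfl, rfl, rfl⟩ := e1
      have h1 : φ (V i) = φ (p f z) := by rw [← hs, hφp]; exact hEz f
      have h2 : E (E5 i) = E (sgn f) := (φ.injective h1).trans (hEz f).symm
      have h3 := hE.1 h2
      revert h3
      cases f <;> fin_cases i <;> decide
    obtain ⟨j, b', hj⟩ := singular a b c d f hsq hnc
    exact ⟨(j, b'), by rw [← hs, hj, ← hmul, hEz]⟩
  choose τ hτ using hperm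
  have hτmul : ∀ φ ψ i, (τ (φ * ψ) i).1 = (τ φ (τ ψ i).1).1 := by
    intro φ ψ i
    have h1 : (φ * ψ) (V i) = φ (V (τ ψ i).1) * p (τ ψ i).2 z := by
      show φ (ψ (V i)) = _
      rw [hτ ψ i, map_mul, hφp]
    rw [hτ φ, hτ (φ * ψ) i, mul_assoc, p_merge h.zz] at h1
    exact (hVuniq _ _ _ _ h1).1
  have hτone : ∀ i, (τ 1 i).1 = i := fun i => by
    have h1 : V i * p false z = V (τ 1 i).1 * p (τ 1 i).2 z := by rw [← hτ 1 i]; simp
    exact (hVuniq _ _ _ _ h1).1.symm
  let σ : MulAut P →* Equiv.Perm (Fin 5) := MonoidHom.mk'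
    (fun φ => ⟨fun i => (τ φ i).1, fun i => (τ φ⁻¹ i).1,
      fun i => by show (τ φ⁻¹ (τ φ i).1).1 = i; rw [← hτmul, inv_mul_cancel, hτone],
      fun i => by show (τ φ (τ φ⁻¹ i).1).1 = i; rw [← hτmul, mul_inv_cancel, hτone]⟩)
    (fun φ ψ => Equiv.ext fun i => hτmul φ ψ i)
  have hsurj : Function.Surjective σ := by
    intro π
    set f : Fin 4 → P := fun k => V (π k.castSucc) with hf
    have hgood : Good z f := ⟨fun k => hVinv _, fun k l hkl => hVswap _ _ fun e1 => hkl (Fin.castSucc_injective _ (π.injective e1))⟩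
    have hfb := F_bij hgood hzc h.zz h.ne h32
    set ε := (Equiv.ofBijective E hE).symm.trans (Equiv.ofBijective (F z f) hfb) with hε
    have hεE : ∀ s, ε (E s) = F z f s := fun s => by
      simp [hε, Equiv.ofBijective_symm_apply_apply]
    have hεmul : ∀ a b, ε (a * b) = ε a * ε b := fun a b => by
      obtain ⟨s, rfl⟩ := hE.2 a
      obtain ⟨t, rfl⟩ := hE.2 b
      rw [hmul, hεE, hεE, hεE, F_mul hgood hzc h.zz]
    let φ : MulAut P := { ε with map_mul' := hεmul }
    refine ⟨φ, ?_⟩
    have hφV : ∀ i : Fin 4, φ (V i.castSucc) = V (π i.castSucc) := by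
      intro i
      show ε (E (E5 i.castSucc)) = _
      rw [hεE]
      obtain ⟨a0, a1, a2, a3⟩ := F_E5 (z := z) f
      fin_cases i
      exacts [a0, a1, a2, a3]
    have h4 : ∀ i : Fin 4, σ φ i.castSucc = π i.castSucc := fun i => by
      have h1 : V (π i.castSucc) * p false z = V (τ φ i.castSucc).1 * p (τ φ i.castSucc).2 z := by
        rw [← hτ φ, hφV]; simp
      exact (hVuniq _ _ _ _ h1).1.symm
    refine Equiv.ext fun i => ?_
    refine Fin.lastCases ?_ h4 i
    by_contra hne
    obtain ⟨k, hk⟩ := π.surjective (σ φ (Fin.last 4))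
    obtain ⟨k', rfl⟩ | rfl := Fin.eq_castSucc_or_eq_last k
    · rw [← h4 k'] at hk
      exact Fin.castSucc_ne_last k' ((σ φ).injective hk)
    · exact hne hk.symm
  -- the inner automorphisms
  have hcard16 : Nat.card ↥(MulAut.conj : P →* MulAut P).range = 16 := by
    have h1 := (MulAut.conj : P →* MulAut P).ker.card_mul_index
    rw [Subgroup.index_ker] at h1
    have h2 : (MulAut.conj : P →* MulAut P).ker = Subgroup.center P := by
      ext g
      rw [MonoidHom.mem_ker, Subgroup.mem_center_iff, MulEquiv.ext_iff]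
      refine forall_congr' fun x => ?_
      show g * x * g⁻¹ = x ↔ x * g = g * x
      rw [mul_inv_eq_iff_eq_mul, eq_comm]
    rw [h2, h.card_center, h32] at h1
    omega
  have hconj : (MulAut.conj : P →* MulAut P).range ≤ σ.ker := by
    rintro _ ⟨g, rfl⟩
    refine MonoidHom.mem_ker.mpr (Equiv.ext fun i => ?_)
    have hg : g * V i * g⁻¹ = V i ∨ g * V i * g⁻¹ = V i * z := by
      rcases h.comm_cases g (V i) with e1 | e1
      · left; rw [show g * V i * g⁻¹ = ⁅g, V i⁆ * V i by rw [commutatorElement_def]; group, e1, one_mul]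
      · right; rw [show g * V i * g⁻¹ = ⁅g, V i⁆ * V i by rw [commutatorElement_def]; group, e1, (hzc (V i)).eq]
    have h1 := hτ (MulAut.conj g) i
    rw [MulAut.conj_apply] at h1
    rcases hg with e1 | e1
    · have h2 : V (τ (MulAut.conj g) i).1 * p (τ (MulAut.conj g) i).2 z = V i * p false z := by rw [← h1, e1]; simp
      exact (hVuniq _ _ _ _ h2).1
    · have h2 : V (τ (MulAut.conj g) i).1 * p (τ (MulAut.conj g) i).2 z = V i * p true z := by rw [← h1, e1]; simp
      exact (hVuniq _ _ _ _ h2).1
  have hker16 : Nat.card σ.ker ≤ 16 := by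
    refine (Nat.card_le_card_of_injective (fun φ : σ.ker => fun i : Fin 4 => (τ (φ : MulAut P) i.castSucc).2) ?_).trans
      (by simp)
    intro φ ψ hb
    refine Subtype.ext (MulEquiv.ext fun x => ?_)
    have hV4 : ∀ i : Fin 4, (φ : MulAut P) (V i.castSucc) = (ψ : MulAut P) (V i.castSucc) := by
      intro i
      have e1 : (τ (φ : MulAut P) i.castSucc).1 = i.castSucc := DFunLike.congr_fun (MonoidHom.mem_ker.mp φ.2) _
      have e2 : (τ (ψ : MulAut P) i.castSucc).1 = i.castSucc := DFunLike.congr_fun (MonoidHom.mem_ker.mp ψ.2) _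
      rw [hτ, hτ, e1, e2, show (τ (φ : MulAut P) i.castSucc).2 = (τ (ψ : MulAut P) i.castSucc).2 from congrFun hb i]
    obtain ⟨⟨a, b, c, d, f⟩, rfl⟩ := hE.2 x
    have he4 : ∀ i : Fin 4, V i.castSucc = e i := by
      intro i
      obtain ⟨a0, a1, a2, a3⟩ := F_E5 (z := z) e
      fin_cases i
      exacts [a0, a1, a2, a3]
    have k : ∀ i, (φ : MulAut P) (e i) = (ψ : MulAut P) (e i) := fun i => by rw [← he4]; exact hV4 i
    simp only [E, F, map_mul, hφp]
    cases a <;> cases b <;> cases c <;> cases d <;> simp [k]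
  have hkereq : (MulAut.conj : P →* MulAut P).range = σ.ker :=
    Subgroup.eq_of_le_of_card_ge hconj (hker16.trans hcard16.ge)
  refine ⟨hcard16, ?_, ⟨(QuotientGroup.quotientMulEquivOfEq hkereq).trans (QuotientGroup.quotientKerEquivOfSurjective σ hsurj)⟩⟩
  have h1 := σ.ker.card_mul_index
  rw [Subgroup.index_ker, MonoidHom.range_eq_top.mpr hsurj, Subgroup.card_top, ← hkereq, hcard16, Nat.card_perm] at h1
  rw [← h1]
  simp [Nat.factorial]

end Aux

/-- Let P be an extraspecial 2-group of order 32 with no elementary abelian subgroup of order 8 (the central product of a dihedral and a quaternion group of order 8). Then the inner automorphism group of P has order 16 and the outer automorphism group Aut(P)/Inn(P) is isomorphic to the symmetric group of degree 5; in particular Aut(P) has order 1920. -/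
theorem result {P : Type*} [Group P] [Finite P]
    (hex : Cfsg.IsExtraspecial 2 P) (h32 : Nat.card P = 32)
    (hminus : ∀ A : Subgroup P, Cfsg.IsElementaryAbelian 2 A → Nat.card ↥A ≤ 4)
    [(MulAut.conj : P →* MulAut P).range.Normal] :
    Nat.card ↥(MulAut.conj : P →* MulAut P).range = 16 ∧ Nat.card (MulAut P) = 1920 ∧
      Nonempty ((MulAut P ⧸ (MulAut.conj : P →* MulAut P).range) ≃* Equiv.Perm (Fin 5)) := by
  exact Aux.goal hex h32 hminus

end Cfsg.Agent.S4413
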