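import Cfsg.Statements.S4414
import Mathlib
import Cfsg.Agent.Lib.TwoFixedOrbits
-- import your own Cfsg.Agent.* helpers here

set_option autoImplicit false
open Cfsg

namespace Cfsg.Agent.S4414

open scoped TensorProduct commutatorElement

/-- Let S be a finite solvable group whose order is divisible only by the primes 2, p, q (p, q distinct odd primes), with a Sylow system S₂, S_p, S_q (pairwise permutable Sylow subgroups) such that: S_p is a minimal normal subgroup of S of order p or p²; S_q has order q and [S_p, S_q] = S_p; and O₂(S) = 1. Let E be an irreducible module for S over the field with two elements on which S_p acts faithfully, and E₀ the subspace of fixed points of S₂. Then either E₀ has at least 8 elements, or E₀ has exactly 4 elements and S_q does not leave E₀ invariant. -/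
theorem result {S : Type*} [Group S] [Finite S]
    [Group.IsSolvable S] (p q : ℕ) (hp : p.Prime) (hq : q.Prime) (hp2 : p ≠ 2) (hq2 : q ≠ 2) (hpq : p ≠ q)
    (hπ : ∀ r : ℕ, r.Prime → r ∣ Nat.card S → r = 2 ∨ r = p ∨ r = q)
    (S₂ : Sylow 2 S) (Sp : Sylow p S) (Sq : Sylow q S)
    (h2q : Nat.card ↥((S₂ : Subgroup S) ⊔ (Sq : Subgroup S)) = Nat.card ↥S₂ * Nat.card ↥Sq)
    (h2p : Nat.card ↥((S₂ : Subgroup S) ⊔ (Sp : Subgroup S)) = Nat.card ↥S₂ * Nat.card ↥Sp)
    (hpq' : Nat.card ↥((Sp : Subgroup S) ⊔ (Sq : Subgroup S)) = Nat.card ↥Sp * Nat.card ↥Sq)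
    (hSpN : (Sp : Subgroup S).Normal) (hSpmin : ∀ N : Subgroup S, N.Normal → N ≤ (Sp : Subgroup S) → N = ⊥ ∨ N = (Sp : Subgroup S))
    (hSpcard : Nat.card ↥Sp = p ∨ Nat.card ↥Sp = p ^ 2)
    (hSq : Nat.card ↥Sq = q) (hcomm : ⁅(Sp : Subgroup S), (Sq : Subgroup S)⁆ = (Sp : Subgroup S))
    (hO2 : Cfsg.pCore 2 S = ⊥)
    {E : Type*} [AddCommGroup E] [Module (ZMod 2) E] [Finite E] (ρ : Representation (ZMod 2) S E) (hE : Nontrivial E)
    (hirr : ∀ N : Submodule (ZMod 2) E, (∀ s : S, ∀ m ∈ N, ρ s m ∈ N) → N = ⊥ ∨ N = ⊤)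
    (hfaith : ∀ x ∈ (Sp : Subgroup S), ρ x = 1 → x = 1) :
    8 ≤ Nat.card {v : E // ∀ s ∈ (S₂ : Subgroup S), ρ s v = v} ∨
      (Nat.card {v : E // ∀ s ∈ (S₂ : Subgroup S), ρ s v = v} = 4 ∧
        ∃ x ∈ (Sq : Subgroup S), ∃ v : E, (∀ s ∈ (S₂ : Subgroup S), ρ s v = v) ∧ ¬ ∀ s ∈ (S₂ : Subgroup S), ρ s (ρ x v) = ρ x v) := by
  classical
  haveI := Fact.mk hp
  haveI := Fact.mk hq
  haveI := Fact.mk Nat.prime_two
  haveI := hSpN
  set A : Subgroup S := (Sp : Subgroup S) with hA
  set H : Subgroup S := (S₂ : Subgroup S) ⊔ (Sq : Subgroup S) with hH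
  have hA0 : A ≠ ⊥ := by
    intro h
    have h1 : Nat.card ↥Sp = 1 := by
      show Nat.card ↥(Sp : Subgroup S) = 1
      rw [← hA, h, Subgroup.card_bot]
    have h2 := Nat.one_lt_pow (n := 2) two_ne_zero hp.one_lt
    have := hp.one_lt
    rcases hSpcard with h' | h' <;> omega
  have hAc : ∀ a ∈ A, ∀ b ∈ A, a * b = b * a := by
    have hlt := Group.IsSolvable.commutator_lt_of_ne_bot (G := S) hA0
    rcases hSpmin ⁅A, A⁆ inferInstance hlt.le with h | h
    · intro a ha b hb
      have := Subgroup.commutator_mem_commutator (H₁ := A) (H₂ := A) ha hb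
      rw [h, Subgroup.mem_bot] at this
      exact commutatorElement_eq_one_iff_mul_comm.mp this
    · exact absurd h hlt.ne
  have hodd : Odd (Nat.card A) := by
    rcases hSpcard with h | h
    · show Odd (Nat.card ↥Sp); rw [h]; exact hp.odd_of_ne_two hp2
    · show Odd (Nat.card ↥Sp); rw [h]; exact (hp.odd_of_ne_two hp2).pow
  have hfix : ∀ v : E, (∀ a ∈ A, ρ a v = v) → v = 0 := by
    intro v hv
    rcases hirr (CfsgLib.TwoFixedOrbits.fixedSub ρ (A : Set S)) (fun g w hw => by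
      rw [CfsgLib.TwoFixedOrbits.mem_fixedSub] at hw ⊢
      intro a ha
      have h1 : g⁻¹ * a * g ∈ A := by simpa using hSpN.conj_mem a ha g⁻¹
      calc ρ a (ρ g w) = ρ g (ρ (g⁻¹ * a * g) w) := by
            rw [← Module.End.mul_apply, ← Module.End.mul_apply, ← map_mul, ← map_mul]; group
        _ = ρ g w := by rw [hw _ h1]) with h | h
    · exact (Submodule.mem_bot _).mp (h ▸ CfsgLib.TwoFixedOrbits.mem_fixedSub.mpr hv)
    · exfalso
      refine hA0 ((Subgroup.eq_bot_iff_forall A).mpr fun a ha => hfaith a ha (LinearMap.ext fun w => ?_))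
      exact CfsgLib.TwoFixedOrbits.mem_fixedSub.mp (h ▸ Submodule.mem_top (x := w)) a ha
  have hqH : q ∣ Nat.card H := by rw [h2q, hSq]; exact dvd_mul_left _ _
  have hfpf : ∀ l : A →* (CfsgLib.TwoFixedOrbits.K)ˣ, (∀ x ∈ (Sq : Subgroup S), ∀ a : A,
      l ⟨x * a * x⁻¹, Subgroup.Normal.conj_mem inferInstance a.1 a.2 x⟩ = l a) → l = 1 := by
    intro l hl
    have hle : A ≤ l.ker.map A.subtype := by
      conv_lhs => rw [← hcomm]
      rw [Subgroup.commutator_le]
      intro a ha x hx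
      have hmem : ⁅a, x⁆ ∈ A := by
        rw [commutatorElement_def, mul_assoc a, mul_assoc a]
        exact A.mul_mem ha (hSpN.conj_mem _ (A.inv_mem ha) x)
      refine ⟨⟨⁅a, x⁆, hmem⟩, ?_, rfl⟩
      show l ⟨⁅a, x⁆, hmem⟩ = 1
      have e : (⟨⁅a, x⁆, hmem⟩ : A) = ⟨a, ha⟩ * ⟨x * ((⟨a, ha⟩⁻¹ : A) : S) * x⁻¹,
          Subgroup.Normal.conj_mem inferInstance _ ((⟨a, ha⟩⁻¹ : A)).2 x⟩ := Subtype.ext (by
        simp [commutatorElement_def, mul_assoc])
      rw [e, map_mul, hl x hx, ← map_mul, mul_inv_cancel, map_one]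
    ext a
    obtain ⟨b, hb, hba⟩ := hle a.2
    obtain rfl : b = a := Subtype.ext hba
    rw [MonoidHom.mem_ker.mp hb]
    rfl
  haveI : Nontrivial E := hE
  obtain ⟨hd2, hd3, hno⟩ := CfsgLib.TwoFixedOrbits.main ρ A hAc hodd hfix H (S₂ : Subgroup S) le_sup_left
    S₂.isPGroup' q hq hq2 hqH Sq hSq hfpf
  set d := Module.finrank (ZMod 2) (CfsgLib.TwoFixedOrbits.fixedSub ρ ((S₂ : Subgroup S) : Set S)) with hd
  have hcard : Nat.card {v : E // ∀ s ∈ (S₂ : Subgroup S), ρ s v = v} = 2 ^ d := by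
    have h := Module.natCard_eq_pow_finrank (K := ZMod 2)
      (V := CfsgLib.TwoFixedOrbits.fixedSub ρ ((S₂ : Subgroup S) : Set S))
    rw [Nat.card_zmod] at h
    rw [hd, ← h]
    exact Nat.card_congr (Equiv.subtypeEquivRight fun v => (CfsgLib.TwoFixedOrbits.mem_fixedSub).symm)
  rcases Nat.lt_or_ge d 3 with hlt | hge
  swap
  · exact Or.inl (hcard ▸ le_trans (by norm_num) (Nat.pow_le_pow_right two_pos hge))
  refine Or.inr ⟨by rw [hcard, show d = 2 by omega]; norm_num, ?_⟩
  by_contra hkeep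
  push Not at hkeep
  have hcardH : Nat.card H = Nat.card ↥(S₂ : Subgroup S) * q := by rw [h2q, hSq]; rfl
  have hnn : ¬ H ≤ Subgroup.normalizer ((S₂ : Subgroup S) : Set S) := fun h => by have := hd3 h; omega
  obtain ⟨x, hx, hxN⟩ : ∃ x ∈ (Sq : Subgroup S), x ∉ Subgroup.normalizer ((S₂ : Subgroup S) : Set S) := by
    by_contra h
    push Not at h
    exact hnn (sup_le Subgroup.le_normalizer h)
  set J : Subgroup S := (S₂ : Subgroup S) ⊔ (S₂ : Subgroup S).map (MulAut.conj x).toMonoidHom with hJ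
  have hxH : x ∈ H := Subgroup.mem_sup_right hx
  have hJH : J ≤ H := by
    refine sup_le le_sup_left ?_
    rintro _ ⟨t, ht, rfl⟩
    exact H.mul_mem (H.mul_mem hxH (Subgroup.mem_sup_left ht)) (H.inv_mem hxH)
  have hJne : (S₂ : Subgroup S) ≠ J := by
    intro h
    refine hxN ?_
    have hle : (S₂ : Subgroup S).map (MulAut.conj x).toMonoidHom ≤ (S₂ : Subgroup S) := le_sup_right.trans h.ge
    have heq : (S₂ : Subgroup S).map (MulAut.conj x).toMonoidHom = (S₂ : Subgroup S) :=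
      Subgroup.eq_of_le_of_card_ge hle (Subgroup.card_map_of_injective (MulAut.conj x).injective).ge
    refine Subgroup.mem_normalizer_iff.mpr fun t => ⟨fun ht => hle ⟨t, ht, rfl⟩, fun ht => ?_⟩
    obtain ⟨u, hu, hu'⟩ := heq.ge ht
    obtain rfl : u = t := (MulAut.conj x).injective hu'
    exact hu
  have hJeq : J = H := by
    refine Subgroup.eq_of_le_of_card_ge hJH ?_
    obtain ⟨m, hm⟩ := Subgroup.card_dvd_of_le (show (S₂ : Subgroup S) ≤ J from le_sup_left)
    obtain ⟨m', hm'⟩ := Subgroup.card_dvd_of_le hJH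
    have h2 : m * m' = q := by
      have : Nat.card ↥(S₂ : Subgroup S) * (m * m') = Nat.card ↥(S₂ : Subgroup S) * q := by rw [← mul_assoc, ← hm, ← hm', hcardH]
      exact Nat.eq_of_mul_eq_mul_left Nat.card_pos this
    rcases (Nat.dvd_prime hq).mp ⟨m', h2.symm⟩ with rfl | rfl
    · exact absurd (Subgroup.eq_of_le_of_card_ge le_sup_left (by rw [hm, mul_one])) hJne
    · rw [hm, hcardH]
  have hHfix : ∀ v : E, (∀ s ∈ (S₂ : Subgroup S), ρ s v = v) → ∀ h ∈ H, ρ h v = v := by
    intro v hv h hh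
    rw [← hJeq] at hh
    let St : Subgroup S :=
      { carrier := {g | ρ g v = v}
        one_mem' := by show ρ 1 v = v; rw [map_one]; rfl
        mul_mem' := fun {a b} (ha : ρ a v = v) (hb : ρ b v = v) => by
          show ρ (a * b) v = v
          rw [map_mul, Module.End.mul_apply, hb, ha]
        inv_mem' := fun {a} (ha : ρ a v = v) => by
          show ρ a⁻¹ v = v
          conv_lhs => rw [← ha]
          rw [← Module.End.mul_apply, ← map_mul, inv_mul_cancel, map_one]; rfl }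
    refine (show J ≤ St from sup_le hv ?_) hh
    rintro _ ⟨t, ht, rfl⟩
    show ρ (x * t * x⁻¹) v = v
    have h1 := hkeep x⁻¹ ((Sq : Subgroup S).inv_mem hx) v hv t ht
    rw [map_mul, map_mul, Module.End.mul_apply, Module.End.mul_apply, h1, ← Module.End.mul_apply, ← map_mul,
      mul_inv_cancel, map_one]; rfl
  obtain ⟨v, hv, hv0⟩ : ∃ v : E, (∀ s ∈ (S₂ : Subgroup S), ρ s v = v) ∧ v ≠ 0 := by
    by_contra h
    push Not at h
    have : CfsgLib.TwoFixedOrbits.fixedSub ρ ((S₂ : Subgroup S) : Set S) = ⊥ := (Submodule.eq_bot_iff _).mpr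
      fun v hv => h v (CfsgLib.TwoFixedOrbits.mem_fixedSub.mp hv)
    rw [hd, this, finrank_bot] at hd2
    omega
  have htop : A ⊔ H = ⊤ := by
    rw [← Subgroup.index_eq_one]
    by_contra h
    obtain ⟨r, hr, hrd⟩ := Nat.exists_prime_and_dvd h
    have hrS : r ∣ Nat.card S := hrd.trans (Subgroup.index_dvd_card _)
    have key : ∀ {t : ℕ} [Fact t.Prime] (T : Sylow t S), (T : Subgroup S) ≤ A ⊔ H → ¬ t ∣ (A ⊔ H).index :=
      fun T hT hd => T.not_dvd_index' (by exact Subgroup.index_ne_zero_of_finite) (hd.trans (Subgroup.index_dvd_of_le hT))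
    rcases hπ r hr hrS with rfl | rfl | rfl
    · exact key S₂ (le_sup_left.trans le_sup_right) hrd
    · exact key Sp le_sup_left hrd
    · exact key Sq (le_sup_right.trans le_sup_right) hrd
  have hspan : Submodule.span (ZMod 2) (Set.range fun a : A => ρ a v) = ⊤ := by
    refine (hirr _ fun g w hw => ?_).resolve_left fun h => hv0 ?_
    · have hg : g ∈ A ⊔ H := htop ▸ Subgroup.mem_top g
      obtain ⟨a, ha, h, hh, rfl⟩ := Subgroup.mem_sup_of_normal_left.mp hg
      induction hw using Submodule.span_induction with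
      | mem w hw =>
        obtain ⟨b, rfl⟩ := hw
        refine Submodule.subset_span ⟨⟨a * (h * b * h⁻¹), A.mul_mem ha (hSpN.conj_mem _ b.2 h)⟩, ?_⟩
        show ρ (a * (h * b * h⁻¹)) v = ρ (a * h) (ρ b v)
        conv_lhs => rw [← hHfix v hv h hh]
        rw [← Module.End.mul_apply, ← Module.End.mul_apply, ← map_mul, ← map_mul]
        group
      | zero => rw [map_zero]; exact Submodule.zero_mem _
      | add a b _ _ ha' hb' => rw [map_add]; exact Submodule.add_mem _ ha' hb'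
      | smul c a _ ha' => rw [map_smul]; exact Submodule.smul_mem _ _ ha'
    · have h1 : ρ (1 : A) v ∈ Submodule.span (ZMod 2) (Set.range fun a : A => ρ a v) := Submodule.subset_span ⟨1, rfl⟩
      rw [h, Submodule.mem_bot] at h1
      simpa using h1
  refine hno v hspan ?_
  -- the fixed vectors of `S₂` are fixed by `H`
  let T := CfsgLib.TwoFixedOrbits.fixedSub ρ ((S₂ : Subgroup S) : Set S)
  let b := Module.finBasis (ZMod 2) T
  let emb : Fin (Module.finrank (ZMod 2) T) → TensorProduct (ZMod 2) CfsgLib.TwoFixedOrbits.K E :=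
    fun i => (1 : CfsgLib.TwoFixedOrbits.K) ⊗ₜ[ZMod 2] ((b i : T) : E)
  have hmem : ∀ i, emb i ∈ CfsgLib.TwoFixedOrbits.fixedSub (CfsgLib.TwoFixedOrbits.ext ρ) (H : Set S) := fun i =>
    CfsgLib.TwoFixedOrbits.mem_fixedSub.mpr fun g hg => by
      rw [CfsgLib.TwoFixedOrbits.ext_apply, hHfix _ (CfsgLib.TwoFixedOrbits.mem_fixedSub.mp (b i).2) g hg]
  have hli : LinearIndependent CfsgLib.TwoFixedOrbits.K emb :=
    (Module.Flat.linearIndependent_one_tmul (b.linearIndependent.map' T.subtype T.ker_subtype))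
  have hli' : LinearIndependent CfsgLib.TwoFixedOrbits.K
      (fun i => (⟨emb i, hmem i⟩ : CfsgLib.TwoFixedOrbits.fixedSub (CfsgLib.TwoFixedOrbits.ext ρ) (H : Set S))) :=
    LinearIndependent.of_comp (Submodule.subtype _) hli
  have := hli'.fintype_card_le_finrank
  rw [Fintype.card_fin] at this
  exact this

end Cfsg.Agent.S4414
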