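import Cfsg.Statements.S4415
import Cfsg.Agent.Lib.JordanThree.Outer
import Cfsg.Agent.Lib.Coprime
import Cfsg.Agent.Lib.Blocks.HallHigman
import Cfsg.Agent.Lib.PLocal.SolvableSeparable
import Cfsg.Agent.Lib.SymplecticTypeP

set_option autoImplicit false
open Cfsg

namespace Cfsg.Agent.S4415

open JordanThree

open scoped commutatorElement

theorem extraspecial_of_data {S : Type*} [Group S] [Finite S] {R : Subgroup S} (h : ExtraData R) :
    Cfsg.IsExtraspecial 2 R ∧ Nat.card R = 32 ∧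
      ∃ A : Subgroup S, A ≤ R ∧ Cfsg.IsElementaryAbelian 2 A ∧ Nat.card A = 8 := by
  classical
  have : Fact (Nat.Prime 2) := ⟨Nat.prime_two⟩
  obtain ⟨hc, ⟨z, hzR, hz2, hz1, hsq, hzc, hcen⟩, A, hAR, hab, hA2, hA8⟩ := h
  refine ⟨?_, hc, A, hAR, ⟨⟨⟨fun a c => Subtype.ext (hab a a.2 c c.2)⟩⟩,
    fun a ha => by rw [pow_two]; exact hA2 a ha⟩, hA8⟩
  set z' : R := ⟨z, hzR⟩ with hz'
  have hz'2 : orderOf z' = 2 :=
    orderOf_eq_prime (Subtype.ext (by simpa [pow_two] using hz2)) fun h => hz1 (congrArg Subtype.val h)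
  have hmem : ∀ g : R, (g : S) = 1 ∨ (g : S) = z → g ∈ Subgroup.zpowers z' := by
    rintro g (h | h)
    · rw [show g = 1 from Subtype.ext h]; exact Subgroup.one_mem _
    · rw [show g = z' from Subtype.ext h]; exact Subgroup.mem_zpowers _
  have hsq' : ∀ g : R, g * g ∈ Subgroup.zpowers z' := fun g => hmem _ (hsq g g.2)
  refine CfsgLib.SymplecticTypeP.isExtraspecial_of (IsPGroup.of_card (n := 5) (by rw [hc]; norm_num))
    hz'2 (fun g => by rw [pow_two]; exact hsq' g) (fun g k => ?_) (fun g hg => ?_) ?_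
  · rw [show ⁅g, k⁆ = (g * g) * ((g⁻¹ * k) * (g⁻¹ * k)) * (k * k)⁻¹ by
      rw [commutatorElement_def]; group]
    exact Subgroup.mul_mem _ (Subgroup.mul_mem _ (hsq' _) (hsq' _)) (Subgroup.inv_mem _ (hsq' _))
  · exact hmem g (hcen g g.2 fun k hk => congrArg Subtype.val (hg ⟨k, hk⟩).eq)
  · by_contra hcon
    push Not at hcon
    have htop : ∀ g : R, g ∈ Subgroup.zpowers z' := fun g =>
      hmem g (hcen g g.2 fun k hk => congrArg Subtype.val (hcon g ⟨k, hk⟩).eq)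
    have h1 : Nat.card R = 2 := by
      rw [← hz'2, ← Nat.card_zpowers, (Subgroup.eq_top_iff' _).2 htop, Subgroup.card_top]
    omega

theorem fourData_of {S : Type*} [Group S] {H R : Subgroup S} (hRH : R ≤ H)
    (h : FourData (R.subgroupOf H)) : Cfsg.IsElementaryAbelian 2 R ∧ Nat.card R = 4 := by
  obtain ⟨hc, hab, hsq⟩ := h
  rw [Nat.card_congr (Subgroup.subgroupOfEquivOfLe hRH).toEquiv] at hc
  refine ⟨⟨⟨⟨fun a c => Subtype.ext ?_⟩⟩, fun a ha => ?_⟩, hc⟩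
  · show (a : S) * c = c * a
    exact congrArg Subtype.val (hab ⟨a, hRH a.2⟩ a.2 ⟨c, hRH c.2⟩ c.2)
  · rw [pow_two]; exact congrArg Subtype.val (hsq ⟨a, hRH ha⟩ ha)

theorem extraData_of {S : Type*} [Group S] {H R : Subgroup S} (hRH : R ≤ H)
    (h : ExtraData (R.subgroupOf H)) : ExtraData R := by
  obtain ⟨hc, ⟨z, hzR, hz2, hz1, hsq, hzc, hcen⟩, A, hAR, hab, hA2, hA8⟩ := h
  rw [Nat.card_congr (Subgroup.subgroupOfEquivOfLe hRH).toEquiv] at hc
  refine ⟨hc, ⟨z, hzR, congrArg Subtype.val hz2, fun h => hz1 (Subtype.ext h), fun g hg => ?_,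
    fun g hg => congrArg Subtype.val (hzc ⟨g, hRH hg⟩ hg), fun g hg hall => ?_⟩, A.map H.subtype, ?_, ?_, ?_, ?_⟩
  · exact (hsq ⟨g, hRH hg⟩ hg).imp (congrArg Subtype.val) (congrArg Subtype.val)
  · exact (hcen ⟨g, hRH hg⟩ hg fun k hk => Subtype.ext (hall k hk)).imp (congrArg Subtype.val)
      (congrArg Subtype.val)
  · rintro _ ⟨a, ha, rfl⟩; exact hAR ha
  · rintro _ ⟨a, ha, rfl⟩ _ ⟨c, hc', rfl⟩; exact congrArg Subtype.val (hab a ha c hc')
  · rintro _ ⟨a, ha, rfl⟩; exact congrArg Subtype.val (hA2 a ha)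
  · rw [Subgroup.card_map_of_injective H.subtype_injective]; exact hA8

theorem four_of_norm {S : Type*} [Group S] [Finite S] {Q : Subgroup S} (hQ : Cfsg.IsElementaryAbelian 2 Q)
    (hQ4 : Nat.card Q = 4) {b q : S} (hb3 : b ^ 3 = 1) (hbQ : b ∈ Subgroup.normalizer (Q : Set S))
    (hq : q ∈ Q) (hne : b * q * b⁻¹ ≠ q) : Four b q := by
  classical
  obtain ⟨hab, hsq⟩ := hQ
  have hcomm : ∀ x ∈ Q, ∀ y ∈ Q, x * y = y * x := fun x hx y hy =>
    congrArg Subtype.val (hab.is_comm.comm ⟨x, hx⟩ ⟨y, hy⟩)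
  have h2 : ∀ x ∈ Q, x * x = 1 := fun x hx => by rw [← pow_two]; exact hsq x hx
  have hconj : ∀ x ∈ Q, b * x * b⁻¹ ∈ Q := fun x hx => (Subgroup.mem_normalizer_iff.1 hbQ x).1 hx
  set q₁ := b * q * b⁻¹ with hq₁
  have hq₁Q : q₁ ∈ Q := hconj q hq
  set q₂ := b * q₁ * b⁻¹ with hq₂
  have hq₂Q : q₂ ∈ Q := hconj q₁ hq₁Q
  have hq1 : q ≠ 1 := fun h => hne (by rw [hq₁, h]; group)
  have hq₁1 : q₁ ≠ 1 := fun h => hq1 (by
    have := congrArg (fun x => b⁻¹ * x * b) h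
    simpa [hq₁, mul_assoc] using this)
  have hq₂1 : q₂ ≠ 1 := fun h => hq₁1 (by
    have := congrArg (fun x => b⁻¹ * x * b) h
    simpa [hq₂, mul_assoc] using this)
  have hq₂q₁ : q₂ ≠ q₁ := fun h => hne (by
    have := congrArg (fun x => b⁻¹ * x * b) h
    simpa [hq₂, hq₁, mul_assoc] using this)
  have hq₂q : q₂ ≠ q := fun h => hne (by
    have hbbb : b * b * b = 1 := by rw [← hb3]; simp [pow_succ]
    calc q₁ = b * q₂ * b⁻¹ := by rw [h]
      _ = (b * b * b) * q * (b * b * b)⁻¹ := by rw [hq₂, hq₁]; group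
      _ = q := by rw [hbbb]; group)
  refine ⟨h2 q hq, hne, ?_, hcomm q hq q₁ hq₁Q⟩
  show q * q₁ = q₂
  by_contra hcon
  have hprod1 : q * q₁ ≠ 1 := fun h => hne (by
    calc q₁ = (q * q) * q₁ := by rw [h2 q hq, one_mul]
      _ = q := by rw [mul_assoc, h, mul_one])
  have := Fintype.ofFinite Q
  have h5 : ({⟨1, Q.one_mem⟩, ⟨q, hq⟩, ⟨q₁, hq₁Q⟩, ⟨q * q₁, Q.mul_mem hq hq₁Q⟩, ⟨q₂, hq₂Q⟩} : Finset Q).card = 5 := by
    have e1 : q * q₁ ≠ q := fun h => hq₁1 (mul_eq_left.1 h)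
    have e2 : q * q₁ ≠ q₁ := fun h => hq1 (mul_eq_right.1 h)
    repeat rw [Finset.card_insert_of_notMem]
    · simp
    all_goals simp [Subtype.ext_iff]
    all_goals tauto
  have h6 := Finset.card_le_univ
    ({⟨1, Q.one_mem⟩, ⟨q, hq⟩, ⟨q₁, hq₁Q⟩, ⟨q * q₁, Q.mul_mem hq hq₁Q⟩, ⟨q₂, hq₂Q⟩} : Finset Q)
  rw [h5, ← Nat.card_eq_fintype_card, hQ4] at h6
  omega

/-- Let S be a finite solvable group acting faithfully on a finite-dimensional space E over the field with three elements, with O₃(S) = 1. Let B ≤ S have order 3 and suppose: E = E₀ ⊕ E₁ with B fixing E₁ pointwise, E₀ B-invariant of order 27 and indecomposable under B (a generator of B has a single Jordan block on E₀); B normalizes but does not centralize some subgroup Q of S that is elementary abelian of order 4; and B is the centre of a Sylow 3-subgroup of S. Put R = [O_{3'}(S), B]. Then R is elementary abelian of order 4 or extraspecial of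 order 32 containing an elementary abelian subgroup of order 8 (a central product of two quaternion groups), and E is the direct sum of a subspace fixed pointwise by R and an RB-invariant subspace on which the subgroup RB acts faithfully and irreducibly. -/
theorem result {S : Type*} [Group S] [Finite S]
    [Group.IsSolvable S] {E : Type*} [AddCommGroup E] [Module (ZMod 3) E] [Finite E] (ρ : Representation (ZMod 3) S E)
    (hfaith : Function.Injective ρ) (hO3 : Cfsg.pCore 3 S = ⊥)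
    (B : Subgroup S) (hB : Nat.card ↥B = 3) (b : S) (hb : Subgroup.zpowers b = B)
    (E₀ E₁ : Submodule (ZMod 3) E) (hE01 : E₀ ⊓ E₁ = ⊥) (hE01' : E₀ ⊔ E₁ = ⊤)
    (hE1 : ∀ v ∈ E₁, ρ b v = v) (hE0inv : ∀ v ∈ E₀, ρ b v ∈ E₀) (hE0 : Nat.card ↥E₀ = 27)
    (hind : ∃ v ∈ E₀, ρ b (ρ b v - v) - (ρ b v - v) ≠ 0)
    (Q : Subgroup S) (hQ : Cfsg.IsElementaryAbelian 2 Q) (hQ4 : Nat.card ↥Q = 4)
    (hBQ : B ≤ Subgroup.normalizer (Q : Set S)) (hBQ' : ¬ B ≤ Subgroup.centralizer (Q : Set S))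
    (P : Sylow 3 S) (hBZ : (Subgroup.center ↥(P : Subgroup S)).map (P : Subgroup S).subtype = B) :
    ((Cfsg.IsElementaryAbelian 2 ⁅Cfsg.pPrimeCore 3 S, B⁆ ∧ Nat.card ↥⁅Cfsg.pPrimeCore 3 S, B⁆ = 4) ∨
      (Cfsg.IsExtraspecial 2 ↥⁅Cfsg.pPrimeCore 3 S, B⁆ ∧ Nat.card ↥⁅Cfsg.pPrimeCore 3 S, B⁆ = 32 ∧
        ∃ A : Subgroup S, A ≤ ⁅Cfsg.pPrimeCore 3 S, B⁆ ∧ Cfsg.IsElementaryAbelian 2 A ∧ Nat.card ↥A = 8)) ∧
    ∃ F₀ F₁ : Submodule (ZMod 3) E, F₀ ⊓ F₁ = ⊥ ∧ F₀ ⊔ F₁ = ⊤ ∧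
      (∀ r ∈ ⁅Cfsg.pPrimeCore 3 S, B⁆, ∀ v ∈ F₁, ρ r v = v) ∧ (∀ r ∈ ⁅Cfsg.pPrimeCore 3 S, B⁆ ⊔ B, ∀ v ∈ F₀, ρ r v ∈ F₀) ∧
      (∀ r ∈ ⁅Cfsg.pPrimeCore 3 S, B⁆ ⊔ B, (∀ v ∈ F₀, ρ r v = v) → r = 1) ∧
      (∀ N : Submodule (ZMod 3) E, N ≤ F₀ → (∀ r ∈ ⁅Cfsg.pPrimeCore 3 S, B⁆ ⊔ B, ∀ v ∈ N, ρ r v ∈ N) → N = ⊥ ∨ N = F₀) := by
  classical
  have : Fact (Nat.Prime 3) := ⟨Nat.prime_three⟩
  set W := Cfsg.pPrimeCore 3 S with hW
  have hWc : (Nat.card W).Coprime 3 := CfsgLib.card_pPrimeCore_coprime 3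
  have hbB : b ∈ B := hb ▸ Subgroup.mem_zpowers b
  have hob : orderOf b = 3 := by rw [← Nat.card_zpowers, hb]; exact hB
  have hb3 : b ^ 3 = 1 := hob ▸ pow_orderOf_eq_one b
  have hBN : B ≤ Subgroup.normalizer (W : Set S) := fun x _ => Subgroup.mem_normalizer_iff.2 fun y =>
    ⟨fun hy => (inferInstance : W.Normal).conj_mem y hy x, fun hy => by
      simpa [mul_assoc] using (inferInstance : W.Normal).conj_mem _ hy x⁻¹⟩
  have hcopBW : (Nat.card B).Coprime (Nat.card W) := by rw [hB]; exact hWc.symm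
  set f := QuotientGroup.mk' W with hf
  have hbO : f b ∈ Cfsg.pCore 3 (S ⧸ W) := by
    refine CfsgLib.Blocks.hall_higman (CfsgLib.PLocal.isPSolvable_of_isSolvable _ _ rfl inferInstance)
      (CfsgLib.pPrimeCore_quotient_eq_bot 3) ?_
    intro x hx
    have hx' := CfsgLib.pCore_le_sylow (P.mapSurjective (QuotientGroup.mk'_surjective W)) hx
    obtain ⟨y, hy, rfl⟩ := hx'
    rw [← hBZ] at hbB
    obtain ⟨c, hc, rfl⟩ := hbB
    rw [hf, ← map_mul, ← map_mul]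
    exact congrArg _ (congrArg Subtype.val (Subgroup.mem_center_iff.1 hc ⟨y, hy⟩))
  have hQW' : ∀ q ∈ Q, ⁅q, b⁆ ∈ W := by
    intro q hq
    have hO : (Cfsg.pCore 3 (S ⧸ W)).Normal := CfsgLib.Blocks.pCore_normal'
    have hmem : f ⁅q, b⁆ ∈ Cfsg.pCore 3 (S ⧸ W) := by
      rw [map_commutatorElement, commutatorElement_def]
      exact Subgroup.mul_mem _ (hO.conj_mem _ hbO _) (Subgroup.inv_mem _ hbO)
    have hin : ⁅q, b⁆ ∈ Q := by
      rw [commutatorElement_def, show q * b * q⁻¹ * b⁻¹ = q * (b * q⁻¹ * b⁻¹) by group]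
      exact Q.mul_mem hq ((Subgroup.mem_normalizer_iff.1 (hBQ hbB) _).1 (Q.inv_mem hq))
    have h2 : f ⁅q, b⁆ ^ 2 = 1 := by rw [← map_pow, hQ.2 _ hin, map_one]
    obtain ⟨k, hk⟩ := (CfsgLib.isPGroup_pCore 3) ⟨_, hmem⟩
    have hk' : f ⁅q, b⁆ ^ (3 ^ k) = 1 := congrArg Subtype.val hk
    rw [← QuotientGroup.eq_one_iff (N := W), ← QuotientGroup.mk'_apply]
    exact orderOf_eq_one_iff.1 (Nat.eq_one_of_dvd_coprimes
      (Nat.Coprime.pow_right k (by norm_num : Nat.Coprime 2 3))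
      (orderOf_dvd_of_pow_eq_one h2) (orderOf_dvd_of_pow_eq_one hk'))
  obtain ⟨q, hqQ, hqb⟩ : ∃ q ∈ Q, b * q * b⁻¹ ≠ q := by
    by_contra hcon
    push Not at hcon
    apply hBQ'
    rw [← hb, Subgroup.zpowers_le, Subgroup.mem_centralizer_iff]
    intro x hx
    have h1 := hcon x hx
    rw [mul_inv_eq_iff_eq_mul] at h1
    exact h1.symm
  have F : Four b q := four_of_norm hQ hQ4 hb3 (hBQ hbB) hqQ hqb
  set R := ⁅W, B⁆ with hR
  have hRW : R ≤ W := Subgroup.commutator_le_left W B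
  have hBR : B ≤ Subgroup.normalizer (R : Set S) := CfsgLib.right_le_normalizer_commutator B W
  have hQR : q ∈ R := by
    have h1 : ⁅q, b⁆ = q * (b * q * b⁻¹) := by
      have hqi : q⁻¹ = q := inv_eq_of_mul_eq_one_right F.sq
      rw [commutatorElement_def, hqi]; group
    have hqW : q ∈ W := by
      have h2 := (inferInstance : W.Normal).conj_mem _ (hQW' q hqQ) b
      rw [h1, show b * (q * (b * q * b⁻¹)) * b⁻¹ = (b * q * b⁻¹) * (b * (b * q * b⁻¹) * b⁻¹) by group,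
        ← F.rel, F.com, ← mul_assoc, F.rot.sq, one_mul] at h2
      exact h2
    have h3 : ⁅q, b⁆ ∈ R := Subgroup.commutator_mem_commutator hqW hbB
    have h4 := (Subgroup.mem_normalizer_iff.1 (hBR hbB) _).1 h3
    rw [h1, show b * (q * (b * q * b⁻¹)) * b⁻¹ = (b * q * b⁻¹) * (b * (b * q * b⁻¹) * b⁻¹) by group,
      ← F.rel, F.com, ← mul_assoc, F.rot.sq, one_mul] at h4
    exact h4
  have hcop : ¬ 3 ∣ Nat.card R := fun h =>
    (Nat.prime_three.coprime_iff_not_dvd.1 hWc.symm) (h.trans (Subgroup.card_dvd_of_le hRW))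
  have hcomm : ⁅R, B⁆ = R :=
    CfsgLib.coprime_commutator_commutator hBN hcopBW (Or.inr inferInstance)
  have hcube : ∀ x, dd ρ b (dd ρ b (dd ρ b x)) = 0 := by
    intro x
    have h3 : ρ b (ρ b (ρ b x)) = x := by
      rw [← sigma_mul, ← sigma_mul, show b * b * b = b ^ 3 by simp [pow_succ], hb3, map_one]; rfl
    simp only [dd_apply, map_sub]
    rw [h3]
    have h := three_smul_zero (ρ b x)
    have h' := three_smul_zero (ρ b (ρ b x))
    calc x - ρ b (ρ b x) - (ρ b (ρ b x) - ρ b x) - (ρ b (ρ b x) - ρ b x - (ρ b x - x))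
        = (ρ b x + ρ b x + ρ b x) - (ρ b (ρ b x) + ρ b (ρ b x) + ρ b (ρ b x)) := by abel
      _ = 0 := by rw [h, h', sub_zero]
  obtain ⟨v, hv, hvne⟩ := hind
  have hcubic : dd ρ b (dd ρ b v) ≠ 0 := by simpa [dd_apply] using hvne
  have hdd0 : ∀ x ∈ E₀, dd ρ b x ∈ E₀ := fun x hx => E₀.sub_mem (hE0inv x hx) hx
  have hdim : Module.finrank (ZMod 3) (LinearMap.range (dd ρ b)) ≤ 2 := by
    have h3 : Module.finrank (ZMod 3) E₀ = 3 := by
      have h := Module.natCard_eq_pow_finrank (K := ZMod 3) (V := E₀)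
      rw [hE0, Nat.card_zmod] at h
      exact (Nat.pow_right_injective (le_refl 2 |>.trans (by norm_num : 2 ≤ 3))
        (show (3 : ℕ) ^ 3 = 3 ^ _ from h)).symm
    set g := (dd ρ b).comp E₀.subtype with hg
    have hrange : LinearMap.range (dd ρ b) ≤ LinearMap.range g := by
      rintro _ ⟨x, rfl⟩
      have hx : x ∈ E₀ ⊔ E₁ := hE01'.symm ▸ Submodule.mem_top
      obtain ⟨a, ha, c, hc, rfl⟩ := Submodule.mem_sup.1 hx
      refine ⟨⟨a, ha⟩, ?_⟩
      show dd ρ b a = dd ρ b (a + c)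
      rw [map_add, dd_apply ρ b c, hE1 c hc, sub_self, add_zero]
    have hker : 1 ≤ Module.finrank (ZMod 3) (LinearMap.ker g) := by
      refine Submodule.one_le_finrank_iff.2 ((Submodule.ne_bot_iff _).2
        ⟨⟨dd ρ b (dd ρ b v), hdd0 _ (hdd0 v hv)⟩, hcube v, fun h => hcubic (congrArg Subtype.val h)⟩)
    have h := LinearMap.finrank_range_add_finrank_ker g
    have h' := Submodule.finrank_mono hrange
    omega
  obtain ⟨F₀, F₁, hinf, hsup, hfix, hinv, hfa, hirr, σ, hset⟩ := module_split hfaith hb3 (hb ▸ hBR) hcop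
    (by rw [hb]; exact hcomm) hdim ⟨v, hcubic⟩ F hQR
  rw [hb] at hinv hfa hirr
  refine ⟨?_, F₀, F₁, hinf, hsup, hfix, hinv, hfa, hirr⟩
  have hRH : R ≤ R ⊔ Subgroup.zpowers b := le_sup_left
  set H := R ⊔ Subgroup.zpowers b with hH
  set b' : H := ⟨b, Subgroup.mem_sup_right (Subgroup.mem_zpowers b)⟩ with hb'
  set q' : H := ⟨q, hRH hQR⟩ with hq'
  have F' : Four b' q' := ⟨Subtype.ext F.sq, fun h => F.ne (congrArg Subtype.val h), Subtype.ext F.rel,
    Subtype.ext F.com⟩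
  have hdata : FourData (R.subgroupOf H) ∨ ExtraData (R.subgroupOf H) := by
    by_cases hex : ∃ A : Subgroup H, A.Normal ∧ A ≤ R.subgroupOf H ∧ (∀ x ∈ A, ∀ y ∈ A, x * y = y * x) ∧
        (∀ x ∈ A, x * x = 1) ∧ ∃ w' ∈ A, Four b' w'
    · obtain ⟨A, hAn, hAR, hab, hsq, w', hw', hF⟩ := hex
      exact hset.monomial hF A hAR hab hsq hw'
    · exact (hset.impossible F' hQR fun A hAn hAR hab hsq w' hw' hF =>
        hex ⟨A, hAn, hAR, hab, hsq, w', hw', hF⟩).elim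
  rcases hdata with h | h
  · exact Or.inl (fourData_of hRH h)
  · exact Or.inr (extraspecial_of_data (extraData_of hRH h))

end Cfsg.Agent.S4415
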