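import Cfsg.Statements.S4416
import Mathlib
import Cfsg.Agent.Lib.ExtraspecialTwo
-- import your own Cfsg.Agent.* helpers here

set_option autoImplicit false
open Cfsg

namespace Cfsg.Agent.S4416

universe u

theorem invariants' (E : Type u) [Group E] [Finite E] (hE : Cfsg.IsExtraspecial 2 E) :
    ∃ (z : E) (n : ℕ), CfsgLib.ExtraTwo.Ext2 E z ∧ 1 ≤ n ∧ Nat.card E = 2 ^ (2 * n + 1) ∧
      ((CfsgLib.ExtraTwo.rootCount E = 2 ^ (2 * n) + 2 ^ n ∧ Cfsg.PRankAtLeast 2 (n + 1) E) ∨
        (CfsgLib.ExtraTwo.rootCount E + 2 ^ n = 2 ^ (2 * n) ∧ Cfsg.PRankAtLeast 2 n E)) := by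
  obtain ⟨z, hz⟩ := CfsgLib.ExtraTwo.ofExtraspecial hE
  obtain ⟨n, hn, hc⟩ := CfsgLib.ExtraTwo.invariants _ E z rfl hz
  have h1 : 1 ≤ n := by
    by_contra h0
    obtain rfl : n = 0 := by omega
    obtain ⟨⟨-, -, hcomm⟩, hcard⟩ := hE
    have htop : Subgroup.center E = ⊤ := Subgroup.eq_top_of_card_eq _ (hcard.trans hn.symm)
    have : commutator E = ⊥ := by
      rw [commutator_def, Subgroup.commutator_eq_bot_iff_le_centralizer]
      intro a _
      exact Subgroup.mem_centralizer_iff.mpr fun b _ => Subgroup.mem_center_iff.mp (htop ▸ Subgroup.mem_top a) b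
    rw [← hcomm, this, Subgroup.card_bot] at hcard
    omega
  exact ⟨z, n, hz, h1, hn, hc.imp id fun h => h.2⟩

/-- Classification of extraspecial 2-groups in intrinsic form. An extraspecial 2-group has order 2^(2m+1) for some m ≥ 1, and the number of its elements squaring to the identity is either 2^(2m) + 2^m or 2^(2m) − 2^m; two extraspecial 2-groups of the same order with the same number of such elements are isomorphic. (The two cases are the central products of m dihedral groups of order 8, and of m − 1 dihedral groups with one quaternion group.) -/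
theorem result (E : Type*) [Group E] [Finite E] (hE : Cfsg.IsExtraspecial 2 E) :
    (∃ m : ℕ, 1 ≤ m ∧ Nat.card E = 2 ^ (2 * m + 1) ∧
      (Nat.card {x : E // x ^ 2 = 1} = 2 ^ (2 * m) + 2 ^ m ∨ Nat.card {x : E // x ^ 2 = 1} = 2 ^ (2 * m) - 2 ^ m)) ∧
    ∀ (E' : Type*) [Group E'] [Finite E'], Cfsg.IsExtraspecial 2 E' → Nat.card E' = Nat.card E →
      Nat.card {x : E' // x ^ 2 = 1} = Nat.card {x : E // x ^ 2 = 1} → Nonempty (E ≃* E') := by
  obtain ⟨z, n, hz, h1, hn, hc⟩ := invariants' E hE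
  simp only [CfsgLib.ExtraTwo.rootCount_eq]
  refine ⟨⟨n, h1, hn, hc.imp (fun h => h.1) fun h => by omega⟩, fun E' _ _ hE' hcard hroot => ?_⟩
  obtain ⟨z', hz'⟩ := CfsgLib.ExtraTwo.ofExtraspecial hE'
  exact CfsgLib.ExtraTwo.nonempty_equiv _ E E' z z' rfl hcard hz hz' hroot.symm

end Cfsg.Agent.S4416
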