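import Cfsg.Statements.S4417
import Mathlib
import Cfsg.Agent.Lib.PLinearDerived
-- import your own Cfsg.Agent.* helpers here

set_option autoImplicit false
open Cfsg

namespace Cfsg.Agent.S4417

section

open CfsgLib.PLinear

universe u v w

/-- Bound for a representation over an arbitrary field, through its algebraic closure. -/
theorem bound_any {K : Type v} [Field K] {p : ℕ} [Fact p.Prime] {P : Type u} [Group P] [Finite P] (hP : IsPGroup p P)
    {V : Type w} [AddCommGroup V] [Module K V] [FiniteDimensional K V] (ρ : P →* Module.End K V) :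
    Triv ρ (derivedSeries P (Nat.log 2 (Module.finrank K V) + 1)) := by
  classical
  let L := AlgebraicClosure K
  let b := Module.finBasis K V
  let e : Module.End K V →* Module.End L (Fin (Module.finrank K V) → L) :=
    (((Matrix.toLinAlgEquiv' : Matrix _ _ L ≃ₐ[L] _).toAlgHom.toRingHom.comp (algebraMap K L).mapMatrix).comp
      (LinearMap.toMatrixAlgEquiv b).toAlgHom.toRingHom).toMonoidHom
  have he : Function.Injective e := fun x y h => by
    have h1 := (Matrix.toLinAlgEquiv' : Matrix _ _ L ≃ₐ[L] _).injective h
    refine (LinearMap.toMatrixAlgEquiv b).injective ?_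
    ext i j
    exact (algebraMap K L).injective (congrFun (congrFun h1 i) j)
  have h := derived_bound (K := L) hP (e.comp ρ)
  rw [Module.finrank_fin_fun] at h
  intro g hg
  exact he (by rw [map_one]; exact h g hg)

theorem refined {F : Type v} [Field F] [Finite F] {p : ℕ} [Fact p.Prime] {q e : ℕ} (hq : Nat.card F = q)
    (hpq : ¬ p ∣ q) (he : e = orderOf (q : ZMod p)) :
    ∀ (n : ℕ) {P : Type u} [Group P] [Finite P] (_ : IsPGroup p P) {V : Type w} [AddCommGroup V] [Module F V]
      [FiniteDimensional F V] (ρ : P →* Module.End F V), Module.finrank F V = n →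
      Triv ρ (derivedSeries P (Nat.log 2 (n / e) + 1)) := by
  classical
  intro n
  induction n using Nat.strong_induction_on with
  | _ n ih =>
    intro P _ _ hP V _ _ _ ρ hn
    have hp0 : (p : F) ≠ 0 := by
      intro h
      haveI := Fintype.ofFinite F
      obtain ⟨l, hl⟩ := CharP.exists F
      obtain ⟨m, hl', hm⟩ := FiniteField.card F l
      have hpl : l = p := (Nat.prime_dvd_prime_iff_eq hl' Fact.out).mp ((CharP.cast_eq_zero_iff F l p).mp h)
      subst hpl
      exact hpq (by rw [← hq, Nat.card_eq_fintype_card, hm]; exact dvd_pow_self _ m.pos.ne')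
    by_cases hred : ∃ W : Submodule F V, W ≠ ⊥ ∧ W ≠ ⊤ ∧ ∀ g, ∀ w ∈ W, ρ g w ∈ W
    · obtain ⟨W, hW0, hW1, hW⟩ := hred
      have h1 : Module.finrank F W < n := hn ▸ Submodule.finrank_lt hW1
      have h2 : Module.finrank F (V ⧸ W) < n := by
        have h3 := Submodule.finrank_quotient_add_finrank W
        have h4 : 0 < Module.finrank F W := by
          rw [Nat.pos_iff_ne_zero, Ne, Submodule.finrank_eq_zero]; exact hW0
        omega
      refine triv_of_coprime ρ hW ?_ ?_ hp0 hP
      · exact (ih _ h1 hP (sub ρ W hW) rfl).mono
          (derived_mono (Nat.succ_le_succ (Nat.log_mono_right (Nat.div_le_div_right h1.le))))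
      · exact (ih _ h2 hP (quot ρ W hW) rfl).mono
          (derived_mono (Nat.succ_le_succ (Nat.log_mono_right (Nat.div_le_div_right h2.le))))
    push Not at hred
    by_cases htriv : ρ.ker = ⊤
    · intro g _
      exact MonoidHom.mem_ker.mp (htriv.ge (Subgroup.mem_top g))
    haveI : Nontrivial (P ⧸ ρ.ker) := QuotientGroup.nontrivial_iff.mpr htriv
    haveI := (hP.to_quotient ρ.ker).center_nontrivial
    obtain ⟨k, hk0, hk⟩ := ((hP.to_quotient ρ.ker).to_subgroup (Subgroup.center (P ⧸ ρ.ker))).nontrivial_iff_card.mp inferInstance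
    obtain ⟨⟨x, hx⟩, hxo⟩ := exists_prime_orderOf_dvd_card' (G := Subgroup.center (P ⧸ ρ.ker)) p
      (hk ▸ dvd_pow_self p (Nat.pos_iff_ne_zero.mp hk0))
    obtain ⟨a, rfl⟩ := QuotientGroup.mk_surjective x
    rw [Subgroup.orderOf_mk] at hxo
    have hap : ρ a ^ p = 1 := by
      rw [← map_pow]
      refine MonoidHom.mem_ker.mp ((QuotientGroup.eq_one_iff _).mp ?_)
      rw [QuotientGroup.mk_pow, ← hxo, pow_orderOf_eq_one]
    have ha1 : ρ a ≠ 1 := fun h => (Fact.out : p.Prime).ne_one (by
      rw [← hxo, orderOf_eq_one_iff]; exact (QuotientGroup.eq_one_iff a).mpr h)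
    have hcomm : ∀ g, Commute (ρ a) (ρ g) := by
      intro g
      have h1 := (QuotientGroup.eq_one_iff (N := ρ.ker) (a * g * (g * a)⁻¹)).mp (by
        rw [QuotientGroup.mk_mul, QuotientGroup.mk_inv, QuotientGroup.mk_mul, QuotientGroup.mk_mul,
          Subgroup.mem_center_iff.mp hx (g : P ⧸ ρ.ker), mul_inv_cancel])
      have h2 : ρ (a * g * (g * a)⁻¹) * ρ (g * a) = ρ (a * g) := by rw [← map_mul]; congr 1; group
      rw [MonoidHom.mem_ker.mp h1, one_mul, map_mul, map_mul] at h2
      exact h2.symm
    let A := Algebra.adjoin F ({ρ a} : Set (Module.End F V))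
    have hAc : ∀ x ∈ A, ∀ g, Commute x (ρ g) := by
      intro x hx g
      induction hx using Algebra.adjoin_induction with
      | mem y hy => rw [Set.mem_singleton_iff.mp hy]; exact hcomm g
      | algebraMap r => exact Algebra.commutes r (ρ g)
      | add y z _ _ hy hz => exact hy.add_left hz
      | mul y z _ _ hy hz => exact hy.mul_left hz
    haveI : Nontrivial V := by
      by_contra hV
      rw [not_nontrivial_iff_subsingleton] at hV
      exact ha1 (LinearMap.ext fun v => Subsingleton.elim _ _)
    letI : CommRing A := { (inferInstance : Ring A) with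
      mul_comm := fun x y => Subtype.ext (by
        have hy : ∀ z ∈ A, Commute (z : Module.End F V) (ρ a) := fun z hz => hAc z hz a
        have : ∀ z ∈ A, Commute (x : Module.End F V) z := fun z hz => by
          induction hz using Algebra.adjoin_induction with
          | mem w hw => rw [Set.mem_singleton_iff.mp hw]; exact hy x x.2
          | algebraMap r => exact (Algebra.commutes r (x : Module.End F V)).symm
          | add w z _ _ hw hz => exact hw.add_right hz
          | mul w z _ _ hw hz => exact hw.mul_right hz
        exact (this y y.2).eq) }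
    have hinj : ∀ x : A, x ≠ 0 → Function.Injective ⇑(x : Module.End F V) := by
      intro x hx
      rw [← LinearMap.ker_eq_bot]
      by_contra hker
      have hne : LinearMap.ker (x : Module.End F V) ≠ ⊤ := fun e => hx (Subtype.ext (LinearMap.ker_eq_top.mp e))
      obtain ⟨g, w, hw, hgw⟩ := hred _ hker hne
      refine hgw ?_
      rw [LinearMap.mem_ker] at hw ⊢
      have := LinearMap.congr_fun (hAc x x.2 g).eq w
      rw [Module.End.mul_apply, Module.End.mul_apply, hw, map_zero] at this
      exact this
    haveI : Finite V := Module.finite_of_finite F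
    haveI : Finite (Module.End F V) := Finite.of_injective (fun f => (f : V → V)) DFunLike.coe_injective
    haveI : Finite A := Subtype.finite
    haveI : Nontrivial A := ⟨⟨0, 1, fun h => by
      obtain ⟨v, hv⟩ := exists_ne (0 : V)
      exact hv (LinearMap.congr_fun (congrArg Subtype.val h) v).symm⟩⟩
    haveI : NoZeroDivisors A := ⟨fun {x y} hxy => by
      by_contra h
      push Not at h
      refine h.2 (Subtype.ext (LinearMap.ext fun v => hinj x h.1 ?_))
      have := LinearMap.congr_fun (congrArg Subtype.val hxy) v
      simpa [Module.End.mul_apply] using this⟩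
    haveI : IsDomain A := NoZeroDivisors.to_isDomain A
    letI : Field A := (Finite.isField_of_domain A).toField
    letI : Module A V := Module.compHom V (A.val : A →ₐ[F] Module.End F V).toRingHom
    haveI : FiniteDimensional A V := Module.Finite.of_finite
    have hlin : ∀ (g : P) (x : A) (v : V), ρ g (x • v) = x • ρ g v := fun g x v =>
      (LinearMap.congr_fun (hAc x x.2 g).eq v).symm
    let σ : P →* Module.End A V :=
      { toFun := fun g => { toFun := ρ g, map_add' := map_add (ρ g), map_smul' := hlin g }
        map_one' := LinearMap.ext fun v => show ρ 1 v = v by rw [map_one]; rfl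
        map_mul' := fun x y => LinearMap.ext fun v => rho_mul ρ x y v }
    have hdim : Module.finrank A V ≤ n / e := by
      set d := Module.finrank F A
      have hcard : Nat.card A = q ^ d := by rw [← hq]; exact Module.natCard_eq_pow_finrank
      have hu : (⟨ρ a, Algebra.subset_adjoin rfl⟩ : A) ^ p = 1 := Subtype.ext (by simpa using hap)
      set u : A := ⟨ρ a, Algebra.subset_adjoin rfl⟩
      have hu0 : u ≠ 0 := fun h => by rw [h, zero_pow (Fact.out : p.Prime).ne_zero] at hu; exact zero_ne_one hu
      have hord : orderOf (Units.mk0 u hu0) = p := orderOf_eq_prime (Units.ext (by simpa using hu))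
        (fun h => ha1 (congrArg Subtype.val (congrArg Units.val h)))
      haveI := Fintype.ofFinite A
      have hdvd : p ∣ q ^ d - 1 := by
        rw [← hord, ← hcard, ← Nat.card_units]
        exact orderOf_dvd_natCard _
      have hed : e ∣ d := by
        rw [he]
        refine orderOf_dvd_of_pow_eq_one ?_
        have hqpos : 1 ≤ q ^ d := by rw [← hcard]; exact Nat.card_pos
        have := (ZMod.natCast_eq_zero_iff _ _).mpr hdvd
        rw [Nat.cast_sub hqpos, Nat.cast_pow, Nat.cast_one, sub_eq_zero] at this
        exact this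
      have hdpos : 0 < d := Module.finrank_pos
      have he0 : 0 < e := Nat.pos_of_dvd_of_pos hed hdpos
      have hn' : d * Module.finrank A V = n := by
        refine Nat.pow_right_injective (a := q) (by rw [← hq]; exact Finite.one_lt_card) ?_
        show q ^ (d * Module.finrank A V) = q ^ n
        rw [pow_mul, ← hcard, ← Module.natCard_eq_pow_finrank, ← hn, ← hq, ← Module.natCard_eq_pow_finrank]
      rw [Nat.le_div_iff_mul_le he0, ← hn', mul_comm]
      exact Nat.mul_le_mul_right _ (Nat.le_of_dvd hdpos hed)
    have h := (bound_any hP σ).mono (derived_mono (Nat.succ_le_succ (Nat.log_mono_right hdim)))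
    intro g hg
    exact LinearMap.ext fun v => LinearMap.congr_fun (h g hg) v

end

/-- Let F be a field with q elements, p a prime not dividing q, and e the multiplicative order of q modulo p; assume e ≤ n. Then every p-subgroup of GL_n(F) has derived length at most ⌊log₂(n/e)⌋ + 1: that term of its derived series is trivial (n/e is the integer quotient). -/
theorem result {F : Type*} [Field F] [Fintype F] (q : ℕ) (hF : Fintype.card F = q) (p : ℕ) [Fact p.Prime] (hpq : ¬ p ∣ q) (n e : ℕ) (he : e = orderOf (q : ZMod p)) (hen : e ≤ n) (P : Subgroup (GL (Fin n) F)) (hP : IsPGroup p P) : derivedSeries ↥P (Nat.log 2 (n / e) + 1) = ⊥ := by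
  classical
  let ρ : P →* Module.End F (Fin n → F) :=
    ((Matrix.toLinAlgEquiv' : Matrix (Fin n) (Fin n) F ≃ₐ[F] _).toAlgHom.toRingHom.toMonoidHom.comp
      (Units.coeHom _)).comp P.subtype
  have h := refined (by rw [Nat.card_eq_fintype_card, hF]) hpq he n hP ρ (Module.finrank_fin_fun F)
  rw [Subgroup.eq_bot_iff_forall]
  intro g hg
  refine Subtype.ext (Units.ext ((Matrix.toLinAlgEquiv' : Matrix (Fin n) (Fin n) F ≃ₐ[F] _).injective ?_))
  have h1 : ρ g = 1 := h g hg
  show ρ g = _
  rw [h1, OneMemClass.coe_one, Units.val_one, map_one]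

end Cfsg.Agent.S4417
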