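import Cfsg.Statements.S4419
import Mathlib
import Cfsg.Agent.Lib.CyclicSylowAbelian.Simple
import Cfsg.Agent.Lib.PComplement
import Cfsg.Agent.Lib.CoprimeGen
import Cfsg.Agent.Lib.Elementary
-- import your own Cfsg.Agent.* helpers here

set_option autoImplicit false
open Cfsg

namespace Cfsg.Agent.S4419

open Subgroup CfsgLib
open scoped commutatorElement

universe u

/-- The Frattini quotient of a subgroup of a metacyclic `p`-group has order at most `p²`. -/
theorem card_frattini_quotient_le {S : Type u} [Group S] [Finite S] {p : ℕ} [hp : Fact p.Prime] (hS : IsPGroup p S)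
    (hm : IsMetacyclic S) (Q : Subgroup S) : Nat.card (Q ⧸ frattini Q) ≤ p * p := by
  obtain ⟨N, hN, hNc, hqc⟩ := hm
  have hQp : IsPGroup p Q := hS.to_subgroup Q
  have hcomm : ∀ a b : Q ⧸ frattini Q, a * b = b * a := by
    intro a b
    induction a using QuotientGroup.induction_on with
    | H a =>
      induction b using QuotientGroup.induction_on with
      | H b =>
        rw [← QuotientGroup.mk_mul, ← QuotientGroup.mk_mul, QuotientGroup.eq]
        refine commutator_le_frattini_pGroup hQp ?_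
        have := Subgroup.commutator_mem_commutator (Subgroup.mem_top b⁻¹) (Subgroup.mem_top a⁻¹)
        simpa [commutatorElement_def, commutator_def, mul_assoc] using this
  -- two generators
  set A := N.subgroupOf Q with hA
  haveI : IsCyclic A := by
    refine isCyclic_of_injective (((Q.subtype.comp A.subtype).codRestrict N) fun a => a.2) ?_
    intro a b e
    exact Subtype.ext (Subtype.ext (congrArg (Subtype.val (p := (· ∈ N))) e))
  let f : Q →* S ⧸ N := (QuotientGroup.mk' N).comp Q.subtype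
  haveI : IsCyclic f.range := Subgroup.isCyclic f.range
  obtain ⟨a, ha⟩ := IsCyclic.exists_generator (α := A)
  obtain ⟨⟨_, b, rfl⟩, hb⟩ := IsCyclic.exists_generator (α := f.range)
  have hdec : ∀ x : Q, ∃ i j : ℤ, x = (a : Q) ^ i * b ^ j := by
    intro x
    obtain ⟨j, hj⟩ := hb ⟨f x, x, rfl⟩
    have hj' : (f b) ^ j = f x := by simpa using congrArg Subtype.val hj
    have hxA : x * (b ^ j)⁻¹ ∈ A := by
      rw [hA, Subgroup.mem_subgroupOf, ← QuotientGroup.eq_one_iff]
      show f (x * (b ^ j)⁻¹) = 1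
      rw [map_mul, map_inv, map_zpow, hj', mul_inv_cancel]
    obtain ⟨i, hi⟩ := ha ⟨_, hxA⟩
    refine ⟨i, j, ?_⟩
    rw [show (a : Q) ^ i = x * (b ^ j)⁻¹ by simpa using congrArg Subtype.val hi, inv_mul_cancel_right]
  set π := QuotientGroup.mk' (frattini Q)
  have hpw : ∀ (y : Q) (i : ℤ), (π y) ^ i = (π y) ^ ((i % p).toNat) := by
    intro y i
    have h0 : (π y) ^ (p : ℤ) = 1 := by
      rw [zpow_natCast, ← map_pow]; exact (QuotientGroup.eq_one_iff _).mpr (pow_mem_frattini_pGroup hQp y)
    conv_lhs => rw [← Int.mul_ediv_add_emod i p, zpow_add, zpow_mul, h0, one_zpow, one_mul]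
    rw [← zpow_natCast, Int.toNat_of_nonneg (Int.emod_nonneg _ (by exact_mod_cast hp.out.ne_zero))]
  have hsurj : Function.Surjective (fun ij : Fin p × Fin p => (π (a : Q)) ^ (ij.1 : ℕ) * (π b) ^ (ij.2 : ℕ)) := by
    intro z
    obtain ⟨x, rfl⟩ := QuotientGroup.mk'_surjective _ z
    obtain ⟨i, j, rfl⟩ := hdec x
    have hlt : ∀ k : ℤ, (k % p).toNat < p := fun k => by
      have := Int.emod_lt_of_pos k (show (0 : ℤ) < p by exact_mod_cast hp.out.pos)
      have := hp.out.pos
      omega
    exact ⟨(⟨_, hlt i⟩, ⟨_, hlt j⟩), by rw [map_mul, map_zpow, map_zpow, hpw _ i, hpw _ j]⟩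
  exact (Nat.card_le_card_of_surjective _ hsurj).trans (by simp [Nat.card_prod])

theorem key {G : Type u} [Group G] [Finite G] {p : ℕ} [hp : Fact p.Prime] (S : Sylow p G)
    (hm : IsMetacyclic (S : Subgroup G)) {q : ℕ} [hq : Fact q.Prime] (hqp : q ≠ p) (hq2 : ¬ q ∣ p ^ 2 - 1)
    (Q : Subgroup G) (hQ : IsPGroup p Q) (g : G) (hg : g ∈ normalizer (Q : Set G)) (hgq : IsPGroup q (zpowers g)) :
    g ∈ centralizer (Q : Set G) := by
  classical
  -- transport `Q` into `S`
  obtain ⟨R, hR⟩ := hQ.exists_le_sylow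
  obtain ⟨c, hc⟩ := MulAction.exists_smul_eq G R S
  have hcard : Nat.card (Q ⧸ frattini Q) ≤ p * p := by
    let Q' := (Q.map (MulAut.conj c).toMonoidHom).subgroupOf (S : Subgroup G)
    have hle : Q.map (MulAut.conj c).toMonoidHom ≤ (S : Subgroup G) := by
      rw [← hc, Sylow.coe_subgroup_smul]
      exact Subgroup.map_mono hR
    let e : Q ≃* Q' := (Subgroup.equivMapOfInjective Q (MulAut.conj c).toMonoidHom (MulAut.conj c).injective).trans
      (Subgroup.subgroupOfEquivOfLe hle).symm
    have he : (frattini Q).map e.toMonoidHom = frattini Q' := by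
      refine le_antisymm (Subgroup.map_le_iff_le_comap.mpr ?_) fun x hx => ⟨e.symm x, ?_, e.apply_symm_apply x⟩
      · intro x hx
        exact Subgroup.mem_iInf.mpr fun M => Subgroup.mem_iInf.mpr fun hM =>
          (frattini_le_coatom (Subgroup.isCoatom_comap_of_surjective (φ := e.toMonoidHom) e.surjective hM) hx : _)
      · exact Subgroup.mem_iInf.mpr fun M => Subgroup.mem_iInf.mpr fun hM =>
          (frattini_le_coatom (Subgroup.isCoatom_comap_of_surjective (φ := e.symm.toMonoidHom) e.symm.surjective hM) hx : _)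
    rw [Nat.card_congr (QuotientGroup.congr (frattini Q) (frattini Q') e he).toEquiv]
    exact card_frattini_quotient_le S.2 hm Q'
  set V := Q ⧸ frattini Q with hV
  have hVp : IsPGroup p V := hQ.to_quotient _
  obtain ⟨k, hk⟩ := hVp.exists_card_eq
  have hk2 : k ≤ 2 := (Nat.pow_le_pow_iff_right hp.out.one_lt).mp (by rw [← hk, pow_two]; exact hcard)
  let gQ : normalizer (Q : Set G) := ⟨g, hg⟩
  have hfix : ∀ ψ : V ≃* V, IsPGroup q (zpowers (ψ : MulAut V)) → ∀ v, ψ v = v := by
    intro ψ hψ
    let F : Subgroup V := (ψ.toMonoidHom).eqLocus (MonoidHom.id V)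
    have e := hψ.card_modEq_card_fixedPoints V
    have hF : Nat.card (MulAction.fixedPoints (zpowers (ψ : MulAut V)) V) = Nat.card F := by
      refine Nat.card_congr (Equiv.subtypeEquivRight fun v => ?_)
      constructor
      · intro hv; exact hv ⟨ψ, mem_zpowers _⟩
      · rintro (hv : ψ v = v) ⟨_, n, rfl⟩
        have hmem : (ψ : MulAut V) ∈ MulAction.stabilizer (MulAut V) v := hv
        exact zpow_mem hmem n
    rw [hF, hk] at e
    obtain ⟨j, hj, hFj⟩ := (Nat.dvd_prime_pow hp.out).mp (hk ▸ Subgroup.card_subgroup_dvd_card F)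
    suffices hFtop : F = ⊤ from fun v => (hFtop ▸ Subgroup.mem_top v : v ∈ F)
    refine Subgroup.eq_top_of_card_eq F ?_
    rw [hFj, hk]
    rw [hFj] at e
    by_contra hne
    have hjk : j < k := lt_of_le_of_ne hj fun e' => hne (by rw [e'])
    have hd := (Nat.modEq_iff_dvd' (Nat.pow_le_pow_right hp.out.pos hj)).mp e.symm
    have hfac : p ^ k - p ^ j = p ^ j * (p ^ (k - j) - 1) := by
      rw [Nat.mul_sub, ← pow_add, mul_one, Nat.add_sub_cancel' hj]
    rw [hfac] at hd
    rcases hq.out.dvd_mul.mp hd with h1 | h1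
    · exact hqp ((Nat.prime_dvd_prime_iff_eq hq.out hp.out).mp (hq.out.dvd_of_dvd_pow h1))
    · refine hq2 (h1.trans ?_)
      obtain e' | e' : k - j = 1 ∨ k - j = 2 := by omega
      · rw [e', pow_one, show p ^ 2 - 1 = (p + 1) * (p - 1) by rw [← Nat.sq_sub_sq, one_pow]]
        exact dvd_mul_left _ _
      · rw [e']
  obtain ⟨ψ, hψdef⟩ : ∃ ψ : V ≃* V, ψ = QuotientGroup.congr (frattini Q) (frattini Q) (Q.normalizerMonoidHom gQ)
      (Subgroup.characteristic_iff_map_eq.mp inferInstance _) := ⟨_, rfl⟩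
  have hψapp : ∀ x : Q, ψ (QuotientGroup.mk x) = QuotientGroup.mk (Q.normalizerMonoidHom gQ x) := fun x => by
    rw [hψdef]; rfl
  have hψq : IsPGroup q (zpowers (ψ : MulAut V)) := by
    obtain ⟨n, hn⟩ := hgq ⟨g, mem_zpowers g⟩
    have hn' : g ^ q ^ n = 1 := congrArg Subtype.val hn
    have hiter : ∀ m : ℕ, ∀ x : Q, ((ψ : MulAut V) ^ m) (QuotientGroup.mk x) =
        QuotientGroup.mk (((Q.normalizerMonoidHom gQ) ^ m) x) := by
      intro m
      induction m with
      | zero => intro x; rfl
      | succ m ih =>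
        intro x
        rw [pow_succ, pow_succ, MulAut.mul_apply, MulAut.mul_apply, hψapp, ih]
    have h1 : (ψ : MulAut V) ^ q ^ n = 1 := by
      apply MulEquiv.ext
      intro v
      induction v using QuotientGroup.induction_on with
      | H x =>
        rw [hiter, ← map_pow, show gQ ^ q ^ n = 1 from Subtype.ext (by rw [SubgroupClass.coe_pow]; exact hn'), map_one]
        rfl
    obtain ⟨i, -, hi⟩ := (Nat.dvd_prime_pow hq.out).mp (orderOf_dvd_of_pow_eq_one h1)
    exact IsPGroup.of_card (n := i) (by rw [Nat.card_zpowers, hi])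
  have htriv := hfix ψ hψq
  have hA : zpowers g ≤ centralizer (Q : Set G) := by
    refine centralize_of_trivial_mod_frattini (Subgroup.zpowers_le.mpr hg) ?_ ?_
    · obtain ⟨i, hi⟩ := hgq.exists_card_eq
      obtain ⟨j, hj⟩ := (hQ.to_subgroup (frattini Q)).exists_card_eq
      rw [hi, hj]
      exact ((Nat.coprime_primes hq.out hp.out).mpr hqp).pow _ _
    · have hgen : ∀ y : Q, (⟨g * y * g⁻¹, (Subgroup.mem_normalizer_iff.mp hg y).mp y.2⟩ : Q) * y⁻¹ ∈ frattini Q := by
        intro y
        have h1 := htriv (QuotientGroup.mk y)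
        rw [hψapp] at h1
        rw [← QuotientGroup.eq_one_iff, QuotientGroup.mk_mul, QuotientGroup.mk_inv, mul_inv_eq_one, ← h1]
        rfl
      intro a ha k hk
      obtain ⟨m, rfl⟩ := ((isOfFinOrder_of_finite g).mem_powers_iff_mem_zpowers).mpr ha
      induction m with
      | zero => simp
      | succ m ih =>
        have hm' := ih (pow_mem (mem_zpowers g) m)
        have hk' : g ^ m * k * (g ^ m)⁻¹ ∈ Q :=
          (Subgroup.mem_normalizer_iff.mp ((normalizer (Q : Set G)).pow_mem hg m) k).mp hk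
        have h2 : g * (g ^ m * k * (g ^ m)⁻¹) * g⁻¹ * (g ^ m * k * (g ^ m)⁻¹)⁻¹ ∈ (frattini Q).map Q.subtype :=
          ⟨_, hgen ⟨_, hk'⟩, rfl⟩
        have h3 := Subgroup.mul_mem _ h2 hm'
        have e : g ^ (m + 1) * k * (g ^ (m + 1))⁻¹ * k⁻¹ =
            g * (g ^ m * k * (g ^ m)⁻¹) * g⁻¹ * (g ^ m * k * (g ^ m)⁻¹)⁻¹ * (g ^ m * k * (g ^ m)⁻¹ * k⁻¹) := by
          rw [pow_succ']; group
        show g ^ (m + 1) * k * (g ^ (m + 1))⁻¹ * k⁻¹ ∈ _
        rw [e]; exact h3
  exact hA (mem_zpowers g)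

/-- Let p be a prime and G a finite group whose Sylow p-subgroups are metacyclic (a cyclic normal subgroup with cyclic quotient). Then G has a normal p-complement if and only if the order of G/O_{p′,p}(G) is coprime to p² − 1. -/
theorem result {G : Type*} [Group G] [Finite G] (p : ℕ) [Fact p.Prime] (S : Sylow p G) (hS : Cfsg.IsMetacyclic ↥(S : Subgroup G)) : Cfsg.HasNormalPComplement p G ↔ Nat.Coprime (Nat.card (G ⧸ Cfsg.pPrimePCore p G)) (p ^ 2 - 1) := by
  classical
  have hp := (Fact.out : p.Prime)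
  have hnorm : (pPrimePCore p G).Normal := by unfold Cfsg.pPrimePCore; infer_instance
  have hM : ∀ x : G, x ∈ pPrimePCore p G ↔ QuotientGroup.mk' (pPrimeCore p G) x ∈ pCore p (G ⧸ pPrimeCore p G) :=
    fun x => Iff.rfl
  constructor
  · intro h
    have hq := isPGroup_quotient_of_hasNormalPComplement h
    have htop : pPrimePCore p G = ⊤ := by
      rw [eq_top_iff]
      intro x _
      rw [hM]
      exact le_pCore (N := (⊤ : Subgroup (G ⧸ pPrimeCore p G))) (hq.to_subgroup _) (Subgroup.mem_top _)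
    rw [← Subgroup.index_eq_card, htop, Subgroup.index_top]
    exact Nat.coprime_one_left _
  · intro hcop
    refine hasNormalPComplement_of_frobeniusCond fun Q hQ g hg hgp => ?_
    induction hn : orderOf g using Nat.strong_induction_on generalizing g with
    | _ n ih =>
      subst hn
      by_cases h1 : orderOf g = 1
      · rw [orderOf_eq_one_iff.mp h1]; exact one_mem _
      obtain ⟨q, hq, hqd⟩ := Nat.exists_prime_and_dvd h1
      have := Fact.mk hq
      obtain ⟨a, b, hab, ha, hb, hap, hbp⟩ := CycSyl.split (p := q) g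
      have haN := (Subgroup.zpowers_le.mpr hg) ha
      have hbN := (Subgroup.zpowers_le.mpr hg) hb
      have hda : orderOf a ∣ orderOf g := by
        rw [← Nat.card_zpowers, ← Nat.card_zpowers g]; exact Subgroup.card_dvd_of_le (Subgroup.zpowers_le.mpr ha)
      have hdb : orderOf b ∣ orderOf g := by
        rw [← Nat.card_zpowers, ← Nat.card_zpowers g]; exact Subgroup.card_dvd_of_le (Subgroup.zpowers_le.mpr hb)
      have hqp : q ≠ p := fun e => hp.ne_one (Nat.eq_one_of_dvd_coprimes hgp (e ▸ hqd) dvd_rfl)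
      have hbC : b ∈ centralizer (Q : Set G) := by
        refine ih _ (lt_of_le_of_ne (Nat.le_of_dvd (orderOf_pos g) hdb) fun e => ?_) b hbN
          (hgp.coprime_dvd_left hdb) rfl
        exact hq.ne_one (Nat.eq_one_of_dvd_coprimes hbp (e ▸ hqd) dvd_rfl)
      have haC : a ∈ centralizer (Q : Set G) := by
        obtain ⟨j, hj⟩ := hap
        have haq : IsPGroup q (zpowers a) := by
          obtain ⟨i, -, hi⟩ := (Nat.dvd_prime_pow hq).mp (orderOf_dvd_of_pow_eq_one hj)
          exact IsPGroup.of_card (n := i) (by rw [Nat.card_zpowers, hi])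
        by_cases hq2 : q ∣ p ^ 2 - 1
        · -- then `a` lies in `O_{p'}(G)`
          have haM : a ∈ pPrimePCore p G := by
            rw [← QuotientGroup.eq_one_iff]
            show QuotientGroup.mk' (pPrimePCore p G) a = 1
            have h2 : orderOf (QuotientGroup.mk' (pPrimePCore p G) a) ∣ q ^ j :=
              orderOf_dvd_of_pow_eq_one (by
                rw [QuotientGroup.mk'_apply, ← QuotientGroup.mk_pow, hj, QuotientGroup.mk_one])
            refine orderOf_eq_one_iff.mp (Nat.eq_one_of_dvd_coprimes ?_ (orderOf_dvd_natCard _) h2)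
            exact ((hcop.coprime_dvd_right hq2).pow_right j)
          have haK : a ∈ pPrimeCore p G := by
            rw [← QuotientGroup.eq_one_iff]
            rw [hM] at haM
            obtain ⟨i, hi⟩ := isPGroup_pCore (p := p) (G := G ⧸ pPrimeCore p G) ⟨_, haM⟩
            have hi' : (QuotientGroup.mk' (pPrimeCore p G) a) ^ p ^ i = 1 := congrArg Subtype.val hi
            refine orderOf_eq_one_iff.mp (Nat.eq_one_of_dvd_coprimes
              (((Nat.coprime_primes hp hq).mpr hqp.symm).pow i j) (orderOf_dvd_of_pow_eq_one hi')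
              (orderOf_dvd_of_pow_eq_one (by rw [← QuotientGroup.mk_pow, hj, QuotientGroup.mk_one])))
          refine Subgroup.mem_centralizer_iff.mpr fun x hx => ?_
          have h3 : a * x * a⁻¹ * x⁻¹ ∈ Q := Q.mul_mem ((Subgroup.mem_normalizer_iff.mp haN x).mp hx) (Q.inv_mem hx)
          have h4 : a * x * a⁻¹ * x⁻¹ ∈ pPrimeCore p G := by
            rw [show a * x * a⁻¹ * x⁻¹ = a * (x * a⁻¹ * x⁻¹) by group]
            exact Subgroup.mul_mem _ haK ((inferInstance : (pPrimeCore p G).Normal).conj_mem _ (Subgroup.inv_mem _ haK) x)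
          have h5 := CycSyl.eq_one_of_pow (p := p) (a := a * x * a⁻¹ * x⁻¹)
            (by obtain ⟨i, hi⟩ := hQ ⟨_, h3⟩; exact ⟨i, congrArg Subtype.val hi⟩)
            ((card_pPrimeCore_coprime p).coprime_dvd_left (Subgroup.orderOf_dvd_natCard _ h4))
          exact (mul_inv_eq_iff_eq_mul.mp (mul_inv_eq_one.mp h5)).symm
        · exact key S hS hqp hq2 Q hQ a haN haq
      rw [← hab]
      exact mul_mem haC hbC

end Cfsg.Agent.S4419
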