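import Cfsg.Statements.S4420
import Mathlib
-- import your own Cfsg.Agent.* helpers here

set_option autoImplicit false
open Cfsg

namespace Cfsg.Agent.S4420

/-- Structure of groups in which every element outside some proper subgroup has square 1. Let H be a finite group with a proper subgroup A such that every element outside A has square 1. Then H has an abelian normal subgroup B of index 2 such that every element outside B is an involution inverting every element of B; and if H is not an elementary abelian 2-group, B is the only abelian normal subgroup of index 2 with this property. -/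
theorem result {H : Type*} [Group H] [Finite H] (A : Subgroup H) (hA : A ≠ ⊤) (hD : ∀ x : H, x ∉ A → x ^ 2 = 1) :
    ∃ B : Subgroup H, B.Normal ∧ IsMulCommutative ↥B ∧ B.index = 2 ∧
      (∀ x : H, x ∉ B → x ^ 2 = 1 ∧ ∀ b ∈ B, x * b * x⁻¹ = b⁻¹) ∧
      (¬ (IsMulCommutative H ∧ ∀ x : H, x ^ 2 = 1) →
        ∀ B' : Subgroup H, B'.Normal → IsMulCommutative ↥B' → B'.index = 2 →
          (∀ x : H, x ∉ B' → x ^ 2 = 1 ∧ ∀ b ∈ B', x * b * x⁻¹ = b⁻¹) → B' = B) := by
  classical
  obtain ⟨x₀, hx₀⟩ : ∃ x, x ∉ A := not_forall.mp fun h => hA ((Subgroup.eq_top_iff' A).mpr h)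
  have hinv : ∀ x, x ∉ A → ∀ a ∈ A, x * a * x⁻¹ = a⁻¹ := by
    intro x hx a ha
    have hxa : x * a ∉ A := fun h => hx (by simpa using mul_mem h (inv_mem ha))
    have h1 := hD _ hxa
    have h2 := hD _ hx
    rw [pow_two] at h1 h2
    rw [inv_eq_of_mul_eq_one_right h2]
    apply eq_inv_of_mul_eq_one_left
    simpa [mul_assoc] using h1
  have hcomm : IsMulCommutative A := ⟨⟨fun a b => Subtype.ext (by
    have h1 := hinv x₀ hx₀ _ (mul_mem a.2 b.2)
    have e : x₀ * ((a : H) * b) * x₀⁻¹ = (x₀ * a * x₀⁻¹) * (x₀ * b * x₀⁻¹) := by group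
    rw [e, hinv x₀ hx₀ _ a.2, hinv x₀ hx₀ _ b.2] at h1
    have := congrArg (fun t : H => t⁻¹) h1
    simpa [mul_inv_rev] using this.symm)⟩⟩
  have hunion : ∀ C : Subgroup H, C ≠ ⊤ → ∀ D : Subgroup H, D ≠ ⊤ → ∃ y, y ∉ C ∧ y ∉ D := by
    intro C hC D hDt
    by_contra hcon
    push Not at hcon
    obtain ⟨a, ha⟩ : ∃ a, a ∉ C := not_forall.mp fun h => hC ((Subgroup.eq_top_iff' C).mpr h)
    obtain ⟨b, hb⟩ : ∃ b, b ∉ D := not_forall.mp fun h => hDt ((Subgroup.eq_top_iff' D).mpr h)
    have haD : a ∈ D := hcon a ha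
    have hbC : b ∈ C := by_contra fun h => hb (hcon b h)
    have hab : a * b ∉ C := fun h => ha (by simpa using mul_mem h (inv_mem hbC))
    exact hb (by simpa using mul_mem (inv_mem haD) (hcon _ hab))
  by_cases hall : ∀ x : H, x ^ 2 = 1
  · have hc : ∀ a b : H, a * b = b * a := fun a b => by
      have ha := hall a; have hb := hall b; have hab := hall (a * b)
      rw [pow_two] at ha hb hab
      calc a * b = (a * b)⁻¹ := eq_inv_of_mul_eq_one_left hab
        _ = b⁻¹ * a⁻¹ := mul_inv_rev _ _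
        _ = b * a := by rw [inv_eq_of_mul_eq_one_right ha, inv_eq_of_mul_eq_one_right hb]
    have hp : IsPGroup 2 H := fun g => ⟨1, by simpa using hall g⟩
    have hne : Nontrivial H := ⟨x₀, 1, fun e => hx₀ (e ▸ one_mem A)⟩
    obtain ⟨n, hn⟩ := (IsPGroup.iff_card (p := 2)).mp hp
    have hn1 : 1 ≤ n := by
      rcases Nat.eq_zero_or_pos n with h0 | h0
      · rw [h0, pow_zero] at hn
        have := (Nat.card_eq_one_iff_unique.mp hn).1
        exact absurd (Subsingleton.elim x₀ 1) (fun e => hx₀ (e ▸ one_mem A))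
      · exact h0
    have := Fact.mk Nat.prime_two
    obtain ⟨B, hB⟩ := Sylow.exists_subgroup_card_pow_prime (G := H) 2 (n := n - 1)
      (by rw [hn]; exact pow_dvd_pow 2 (Nat.sub_le _ _))
    refine ⟨B, ⟨fun b hb g => by rw [hc g b, mul_inv_cancel_right]; exact hb⟩,
      ⟨⟨fun a b => Subtype.ext (hc a b)⟩⟩, ?_, fun x hx => ⟨hall x, fun b hb => ?_⟩,
      fun h => absurd ⟨⟨⟨hc⟩⟩, hall⟩ h⟩
    · have := B.card_mul_index
      rw [hB, hn] at this
      have e : 2 ^ n = 2 ^ (n - 1) * 2 := by rw [← pow_succ, Nat.sub_add_cancel hn1]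
      rw [e] at this
      exact Nat.eq_of_mul_eq_mul_left (Nat.two_pow_pos _) this
    · rw [hc x b, mul_inv_cancel_right]
      exact eq_inv_of_mul_eq_one_left (by simpa [pow_two] using hall b)
  have hind : A.index = 2 := by
    rw [Subgroup.index_eq_two_iff]
    refine ⟨x₀, fun b => ?_⟩
    by_cases hb : b ∈ A
    · refine Or.inr ⟨hb, fun h => hx₀ (by simpa using mul_mem (inv_mem hb) h)⟩
    refine Or.inl ⟨?_, hb⟩
    by_contra hbx
    refine hall fun x => ?_
    by_cases hx : x ∈ A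
    swap
    · exact hD x hx
    have h1 := hinv _ hbx x hx
    have e : b * x₀ * x * (b * x₀)⁻¹ = b * (x₀ * x * x₀⁻¹) * b⁻¹ := by group
    rw [e, hinv x₀ hx₀ x hx, hinv b hb _ (inv_mem hx), inv_inv] at h1
    rw [pow_two]; nth_rw 1 [h1]; exact inv_mul_cancel x
  refine ⟨A, Subgroup.normal_of_index_eq_two hind, hcomm, hind,
    fun x hx => ⟨hD x hx, hinv x hx⟩, fun hne B' hB'n hB'c hB'i hB' => ?_⟩
  by_contra hBA
  apply hall
  have hB'top : B' ≠ ⊤ := fun e => by rw [e, Subgroup.index_top] at hB'i; omega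
  by_cases hle : A ≤ B'
  · exact absurd (Subgroup.relIndex_eq_one.mp (by
      have := Subgroup.relIndex_mul_index hle
      rw [hB'i, hind] at this
      omega) : B' ≤ A) (fun h => hBA (le_antisymm h hle))
  obtain ⟨a₀, ha₀, ha₀B⟩ := SetLike.not_le_iff_exists.mp hle
  have hsq : ∀ x, x ∉ B' → x ^ 2 = 1 := fun x hx => (hB' x hx).1
  intro x
  by_cases hx : x ∈ A
  swap
  · exact hD x hx
  by_cases hxB : x ∈ B'
  swap
  · exact hsq x hxB
  have h1 : x * a₀ ∉ B' := fun h => ha₀B (by simpa using mul_mem (inv_mem hxB) h)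
  have h2 := hsq _ h1
  have hc2 : Commute x a₀ := congrArg Subtype.val (hcomm.is_comm.comm ⟨x, hx⟩ ⟨a₀, ha₀⟩)
  rw [hc2.mul_pow, hsq _ ha₀B, mul_one] at h2
  exact h2

end Cfsg.Agent.S4420
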