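import Cfsg.Statements.S4421
import Mathlib
-- import your own Cfsg.Agent.* helpers here

set_option autoImplicit false
open Cfsg

namespace Cfsg.Agent.S4421

/-- A factorization of a normalizer from two-step control of fusion. Let `G` be a finite group and `A ≤ S ≤ H` subgroups of `G` such that: (i) `S` controls the `G`-fusion of `A` in the sense that every `G`-conjugate of `A` lying in `S` is an `S`-conjugate of `A`; (ii) `H` controls the `G`-fusion of `S` in the same sense; (iii) every conjugate of `S` by an element of the normalizer of `A` lies in `H`. Then `N_G(A) = N_H(A) · (N_G(S) ∩ N_G(A))`: every element of the normalizer of `A` is a product of an element of `H` normalizing `A` and an element normalizing both `S` and `A`. -/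
theorem result {G : Type*} [Group G] [Finite G] (A S H : Subgroup G)
    (hAS : A ≤ S) (hSH : S ≤ H)
    (h1 : ∀ g : G, A.map (MulAut.conj g).toMonoidHom ≤ S → ∃ s ∈ S, A.map (MulAut.conj g).toMonoidHom = A.map (MulAut.conj s).toMonoidHom)
    (h2 : ∀ g : G, S.map (MulAut.conj g).toMonoidHom ≤ H → ∃ y ∈ H, S.map (MulAut.conj g).toMonoidHom = S.map (MulAut.conj y).toMonoidHom)
    (h3 : ∀ x ∈ Subgroup.normalizer (A : Set G), S.map (MulAut.conj x).toMonoidHom ≤ H) :
    ∀ x ∈ Subgroup.normalizer (A : Set G), ∃ y ∈ H ⊓ Subgroup.normalizer (A : Set G),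
      ∃ z ∈ Subgroup.normalizer (S : Set G) ⊓ Subgroup.normalizer (A : Set G), x = y * z := by
  intro x hx
  have hconj : ∀ (u : G) (L : Subgroup G) (k : G), k ∈ L.map (MulAut.conj u).toMonoidHom ↔
      u⁻¹ * k * u ∈ L := by
    intro u L k
    simp only [Subgroup.mem_map_equiv, MulAut.conj_symm_apply]
  have hnorm : ∀ (u v : G) (L : Subgroup G),
      L.map (MulAut.conj u).toMonoidHom = L.map (MulAut.conj v).toMonoidHom →
        v⁻¹ * u ∈ Subgroup.normalizer (L : Set G) := by
    intro u v L e
    rw [Subgroup.mem_normalizer_iff]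
    intro k
    have := SetLike.ext_iff.mp e (u * k * u⁻¹)
    rw [hconj, hconj] at this
    simpa [mul_assoc] using this
  obtain ⟨y, hy, hye⟩ := h2 x (h3 x hx)
  have hw := hnorm x y S hye
  obtain ⟨s, hs, hse⟩ := h1 (y⁻¹ * x) (by
    intro k hk
    rw [hconj] at hk
    have := (Subgroup.mem_normalizer_iff.mp (inv_mem hw) k).mpr (by simpa using hAS hk)
    exact this)
  have hz1 := hnorm (y⁻¹ * x) s A hse
  have hz2 : s⁻¹ * (y⁻¹ * x) ∈ Subgroup.normalizer (S : Set G) :=
    mul_mem (inv_mem (Subgroup.le_normalizer hs)) hw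
  refine ⟨y * s, ⟨mul_mem hy (hSH hs), ?_⟩, s⁻¹ * (y⁻¹ * x), ⟨hz2, hz1⟩, by group⟩
  have := mul_mem hx (inv_mem hz1)
  simpa [mul_assoc] using this

end Cfsg.Agent.S4421
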