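import Cfsg.Statements.S4422
import Mathlib
-- import your own Cfsg.Agent.* helpers here

set_option autoImplicit false
open Cfsg

namespace Cfsg.Agent.S4422

/-- Primitive divisors of `q^e - 1` are congruent to 1 modulo `e`. Let `q ≥ 2` and `e ≥ 1` be natural numbers and let `m` be a divisor of `q^e - 1` that is coprime to `q^i - 1` for every `1 ≤ i < e` (so `m` divides the primitive part of `q^e - 1`, the largest such divisor). Then `m ≡ 1 (mod e)`. -/
theorem result (q e m : ℕ) (hq : 2 ≤ q) (he : 1 ≤ e)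
    (hm : m ∣ q ^ e - 1) (hcop : ∀ i : ℕ, 1 ≤ i → i < e → Nat.Coprime m (q ^ i - 1)) :
    m % e = 1 % e := by
  have hpos : q ^ e - 1 ≠ 0 := by
    have := Nat.one_lt_pow (by omega : e ≠ 0) (by omega : 1 < q)
    omega
  have hprime : ∀ r : ℕ, r.Prime → r ∣ m → r % e = 1 % e := by
    intro r hr hrm
    have := Fact.mk hr
    have hcast : ∀ i, r ∣ q ^ i - 1 ↔ (q : ZMod r) ^ i = 1 := fun i => by
      rw [← ZMod.natCast_eq_zero_iff, Nat.cast_sub (Nat.one_le_pow _ _ (by omega)), sub_eq_zero,
        Nat.cast_pow, Nat.cast_one]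
    have he1 := (hcast e).mp (hrm.trans hm)
    have hne : (q : ZMod r) ≠ 0 := fun h0 => by
      rw [h0, zero_pow (by omega)] at he1
      exact zero_ne_one he1
    have hord : orderOf (q : ZMod r) = e := by
      have hd := orderOf_dvd_of_pow_eq_one he1
      refine le_antisymm (Nat.le_of_dvd he hd) (le_of_not_gt fun hlt => hr.ne_one ?_)
      have hp : 0 < orderOf (q : ZMod r) := Nat.pos_of_dvd_of_pos hd he
      exact Nat.eq_one_of_dvd_coprimes (hcop _ hp hlt) hrm ((hcast _).mpr (pow_orderOf_eq_one _))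
    have hdvd := ZMod.orderOf_dvd_card_sub_one hne
    rw [hord] at hdvd
    exact ((Nat.modEq_iff_dvd' hr.one_le).mpr hdvd).symm
  clear hcop
  induction m using induction_on_primes with
  | zero => exact absurd (Nat.eq_zero_of_zero_dvd hm) hpos
  | one => rfl
  | prime_mul r a hr ih =>
    rw [Nat.mul_mod, hprime r hr (dvd_mul_right r a),
      ih ((dvd_mul_left a r).trans hm) (fun s hs hsa => hprime s hs (dvd_mul_of_dvd_right hsa r)),
      ← Nat.mul_mod, one_mul]

end Cfsg.Agent.S4422
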