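import Cfsg.Statements.S4424
import Cfsg.Agent.Lib.Blocks.RegInt

set_option autoImplicit false
set_option linter.style.haveILetI false
open Cfsg

namespace Cfsg.Agent.S4424

open CfsgLib.Blocks CfsgLib.CharTheory

/-- Let χ be an irreducible character of the finite group G lying in the p-block B (relative to a maximal ideal M of the algebraic integers containing p), and let p^a be the p-part of the order of G. Then the class function that equals p^a · χ on the p-regular elements and vanishes on the p-singular elements is an integer combination of the irreducible characters in B: there are integers a_ψ, zero for ψ outside B, with that function equal to Σ a_ψ ψ. -/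
theorem result {G : Type*} [Group G] [Finite G] (p : ℕ) [Fact p.Prime] (M : Ideal Cfsg.AlgInt) (hM : Cfsg.IsPModular p M) (B : Set (Cfsg.IrrCharacter G)) (hB : Cfsg.IsPBlock M B) (χ : Cfsg.IrrCharacter G) (hχ : χ ∈ B) : ∃ a : Cfsg.IrrCharacter G → ℤ, (∀ ψ, ψ ∉ B → a ψ = 0) ∧ (fun x : G => if p ∣ orderOf x then (0 : ℂ) else ((p ^ (Nat.card G).factorization p : ℕ) : ℂ) * (χ : G → ℂ) x) = fun x => ∑ᶠ ψ : Cfsg.IrrCharacter G, (a ψ : ℂ) * (ψ : G → ℂ) x := by
  classical
  haveI := Fintype.ofFinite G
  choose n hn using fun ψ : Cfsg.IrrCharacter G => exists_int_regS (Fact.out : p.Prime) χ ψ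
  refine ⟨fun ψ => if ψ ∈ B then n ψ else 0, fun ψ hψ => if_neg hψ, ?_⟩
  funext x
  rw [finsum_eq_sum_of_fintype]
  have h := sum_regS_mul hM hB χ x
  have hG : (Nat.card G : ℂ) = ((p ^ (Nat.card G).factorization p : ℕ) : ℂ) *
      ((Nat.card G / p ^ (Nat.card G).factorization p : ℕ) : ℂ) := by
    exact_mod_cast (Nat.ordProj_mul_ordCompl_eq_self (Nat.card G) p).symm
  have hK : ((Nat.card G / p ^ (Nat.card G).factorization p : ℕ) : ℂ) ≠ 0 :=
    Nat.cast_ne_zero.2 (Nat.ordCompl_pos p Nat.card_pos.ne').ne'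
  rw [ind_of_mem hχ, one_mul] at h
  refine mul_left_cancel₀ hK ?_
  refine Eq.trans ?_ (Eq.trans h.symm ?_)
  · split_ifs
    · rw [mul_zero]
    · rw [← mul_assoc, mul_comm (Nat.cast _) (Nat.cast _), ← hG]
  · rw [Finset.mul_sum]
    refine Eq.trans ?_ (Finset.sum_subset (Finset.subset_univ (bset B)) fun ψ _ hψ => ?_)
    · refine Finset.sum_congr rfl fun ψ hψ => ?_
      dsimp only
      rw [if_pos (mem_bset.1 hψ), hn, mul_assoc]
    · dsimp only
      rw [if_neg (mt mem_bset.2 hψ)]
      simp

end Cfsg.Agent.S4424
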