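import Cfsg.Statements.S4425
import Cfsg.Agent.Lib.Blocks.RegularParts
import Cfsg.Agent.Lib.Blocks.DefectZeroCount

set_option autoImplicit false
open Cfsg CfsgLib.CharTheory CfsgLib.Blocks CfsgLib.Blocks.RegularParts
open scoped ComplexConjugate

set_option linter.unusedVariables false

namespace Cfsg.Agent.S4425

/-- Let χ be an irreducible character of the finite group G, p a prime, p^a the p-part of the order of G and p^b the p-part of the degree χ(1). Let χ̃ be the class function equal to p^a · χ on p-regular elements and zero on p-singular elements. Then p^(−b) · χ̃ is a generalized character of G, while p^(−(b+1)) · χ̃ is not. -/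
theorem result {G : Type*} [Group G] [Finite G] (p : ℕ) [Fact p.Prime] (χ : Cfsg.IrrCharacter G) : Cfsg.IsGeneralizedCharacter G (fun x : G => if p ∣ orderOf x then (0 : ℂ) else ((p ^ ((Nat.card G).factorization p - (Cfsg.charDegree (χ : G → ℂ)).factorization p) : ℕ) : ℂ) * (χ : G → ℂ) x) ∧ ¬ Cfsg.IsGeneralizedCharacter G (fun x : G => if p ∣ orderOf x then (0 : ℂ) else ((p ^ (Nat.card G).factorization p : ℕ) : ℂ) / ((p ^ ((Cfsg.charDegree (χ : G → ℂ)).factorization p + 1) : ℕ) : ℂ) * (χ : G → ℂ) x) := by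
  classical
  haveI := Fintype.ofFinite G
  obtain ⟨M, hM⟩ := exists_pModular (Fact.out : p.Prime)
  set a := (Nat.card G).factorization p with ha
  set B := blockOf M (χ : G → ℂ) with hBdef
  set v := minDv p B with hv
  have hχB : χ ∈ B := mem_blockOf_self hM χ
  have hvd : v ≤ dv p (χ : G → ℂ) := minDv_le hχB
  have hp := (Fact.out : p.Prime)
  have hp0 : (p : ℂ) ≠ 0 := Nat.cast_ne_zero.2 hp.ne_zero
  have hdeg : (Cfsg.charDegree (χ : G → ℂ)).factorization p = dv p (χ : G → ℂ) := rfl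
  have hle : dv p (χ : G → ℂ) ≤ a := by
    obtain ⟨n, ρ, hirr, hρ⟩ := χ.2
    haveI := hirr
    refine (Nat.factorization_le_iff_dvd (irr_charDegree_pos χ).ne' Nat.card_pos.ne').2 ?_ p
    have e : Cfsg.charDegree (χ : G → ℂ) = Module.finrank ℂ (Fin n → ℂ) := by
      have h1 := irr_charDegree_cast χ
      rw [← hρ, Representation.char_one] at h1
      rw [← hρ]
      exact_mod_cast h1
    rw [e]; exact finrank_dvd_card ρ
  obtain ⟨e, he⟩ : ∃ e, dv p (χ : G → ℂ) = v + e := Nat.le.dest hvd |>.imp fun _ h => h.symm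
  obtain ⟨f, hf⟩ : ∃ f, a = dv p (χ : G → ℂ) + f := Nat.le.dest hle |>.imp fun _ h => h.symm
  rw [hdeg]
  refine ⟨isGenChar_iff_coeff_int.2 ⟨?_, fun ψ hψ => ?_⟩, fun h => ?_⟩
  · intro x y
    have : orderOf (y * x * y⁻¹) = orderOf x := conj_orderOf y x
    simp only [this, irr_isClassFun χ x y]
  · obtain ⟨q, hq, h0, hd⟩ := inner_regular_coeff hM χ ⟨ψ, hψ⟩
    have hdq : (p : ℤ) ^ e ∣ q := by
      by_cases hm : (⟨ψ, hψ⟩ : IrrCharacter G) ∈ B
      · have := (hd hm).1
        rwa [← hv, he, Nat.add_sub_cancel_left] at this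
      · rw [h0 hm]; exact dvd_zero _
    obtain ⟨c, rfl⟩ := hdq
    refine ⟨c, ?_⟩
    rw [classInner_regular _ _ ⟨ψ, hψ⟩]
    rw [← ha, hf, he, ← hv, pow_add, pow_add] at hq
    rw [show a - dv p (χ : G → ℂ) = f by omega]
    push_cast at hq ⊢
    refine mul_left_cancel₀ (mul_ne_zero (pow_ne_zero v hp0) (pow_ne_zero e hp0)) ?_
    linear_combination hq
  · obtain ⟨ξ, hξ, hξ0⟩ := exists_height_zero hM (blockOf_isPBlock (M := M) χ)
    obtain ⟨z, hz⟩ := (isGenChar_iff_coeff_int.1 h).2 ξ ξ.2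
    obtain ⟨q, hq, -, hd⟩ := inner_regular_coeff hM χ ξ
    obtain ⟨-, -, h3, -⟩ := hd hξ
    refine (h3 hξ0).2 ?_
    rw [← hv, he, Nat.add_sub_cancel_left]
    refine ⟨z, ?_⟩
    rw [classInner_regular] at hz
    rw [← ha, ← hv, mul_div_assoc] at hq
    push_cast at hz
    rw [mul_div_assoc, div_mul_eq_mul_div, hq, div_eq_iff (pow_ne_zero _ hp0), he,
      show v + e + 1 = v + (e + 1) by ring, pow_add _ v] at hz
    have h4 : (q : ℂ) = (p : ℂ) ^ (e + 1) * (z : ℂ) := by
      refine mul_left_cancel₀ (pow_ne_zero v hp0) ?_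
      linear_combination hz
    exact_mod_cast h4

end Cfsg.Agent.S4425
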