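import Cfsg.Statements.S4426
import Cfsg.Agent.Lib.Blocks.RegularParts

set_option autoImplicit false
open Cfsg CfsgLib.CharTheory CfsgLib.Blocks CfsgLib.Blocks.RegularParts
open scoped ComplexConjugate

set_option linter.unusedVariables false

namespace Cfsg.Agent.S4426

/-- Let χ be an irreducible character in the p-block B of the finite group G (relative to a maximal ideal M of the algebraic integers containing p), let p^a be the p-part of the order of G, and let χ̃ be the class function equal to p^a · χ on p-regular elements and zero elsewhere. For ξ ∈ B the inner product [χ̃, ξ] is an integer. The following are equivalent: (a) χ has height zero in B; (b) for some ξ ∈ B the integer [χ̃, ξ] is nonzero and the exact power of p dividing it equals the exact power of p dividing ξ(1); (c) the same holds for every ξ ∈ B. -/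
theorem result {G : Type*} [Group G] [Fintype G] (p : ℕ) [Fact p.Prime] (M : Ideal Cfsg.AlgInt) (hM : Cfsg.IsPModular p M) (B : Set (Cfsg.IrrCharacter G)) (hB : Cfsg.IsPBlock M B) (χ : Cfsg.IrrCharacter G) (hχ : χ ∈ B) : (Cfsg.blockHeight p B (χ : G → ℂ) = 0 ↔ ∃ ξ ∈ B, ∃ n : ℤ, Cfsg.classInner (fun x : G => if p ∣ orderOf x then (0 : ℂ) else ((p ^ (Nat.card G).factorization p : ℕ) : ℂ) * (χ : G → ℂ) x) (ξ : G → ℂ) = (n : ℂ) ∧ n ≠ 0 ∧ padicValInt p n = (Cfsg.charDegree (ξ : G → ℂ)).factorization p) ∧ (Cfsg.blockHeight p B (χ : G → ℂ) = 0 ↔ ∀ ξ ∈ B, ∃ n : ℤ, Cfsg.classInner (fun x : G => if p ∣ orderOf x then (0 : ℂ) else ((p ^ (Nat.card G).factorization p : ℕ) : ℂ) * (χ : G → ℂ) x) (ξ : G → ℂ) = (n : ℂ) ∧ n ≠ 0 ∧ padicValInt p n = (Cfsg.charDegree (ξ : G → ℂ)).factorization p) := by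
  classical
  have hp := (Fact.out : p.Prime)
  have hp0 : (p : ℂ) ≠ 0 := Nat.cast_ne_zero.2 hp.ne_zero
  have hBe : B = blockOf M (χ : G → ℂ) := eq_blockOf hM hB hχ
  subst hBe
  set v := minDv p (blockOf M (χ : G → ℂ)) with hv
  have key : ∀ ξ ∈ blockOf M (χ : G → ℂ), ∃ q : ℤ,
      Cfsg.classInner (fun x : G => if p ∣ orderOf x then (0 : ℂ) else ((p ^ (Nat.card G).factorization p : ℕ) : ℂ) * (χ : G → ℂ) x) (ξ : G → ℂ) = (((p : ℤ) ^ v * q : ℤ) : ℂ) ∧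
      (dv p (χ : G → ℂ) = v → q ≠ 0 ∧ padicValInt p ((p : ℤ) ^ v * q) = dv p (ξ : G → ℂ)) ∧
      (v < dv p (χ : G → ℂ) → q ≠ 0 → padicValInt p ((p : ℤ) ^ v * q) ≠ dv p (ξ : G → ℂ)) := by
    intro ξ hξ
    obtain ⟨q, hq, -, hd⟩ := inner_regular_coeff hM χ ξ
    obtain ⟨-, h1', -, h4, h5⟩ := hd hξ
    have hξv : v ≤ dv p (ξ : G → ℂ) := minDv_le hξ
    refine ⟨q, ?_, fun h => ?_, fun h hq0 => ?_⟩
    · rw [classInner_regular]; push_cast; rw [← hq]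
    · obtain ⟨hq0, hn⟩ := h4 h
      refine ⟨hq0, ?_⟩
      have hd1 : (p : ℤ) ^ dv p (ξ : G → ℂ) ∣ (p : ℤ) ^ v * q := by
        rw [show dv p (ξ : G → ℂ) = v + (dv p (ξ : G → ℂ) - v) by omega, pow_add]
        exact mul_dvd_mul_left _ h1'
      have hd2 : ¬ (p : ℤ) ^ (dv p (ξ : G → ℂ) + 1) ∣ (p : ℤ) ^ v * q := by
        rw [show dv p (ξ : G → ℂ) + 1 = v + (dv p (ξ : G → ℂ) - v + 1) by omega, pow_add]
        exact fun hc => hn ((mul_dvd_mul_iff_left (pow_ne_zero _ (Int.natCast_ne_zero.2 hp.ne_zero))).1 hc)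
      rw [padicValInt_dvd_iff] at hd1 hd2
      have hne : (p : ℤ) ^ v * q ≠ 0 := mul_ne_zero (pow_ne_zero _ (Int.natCast_ne_zero.2 hp.ne_zero)) hq0
      omega
    · have hd2 : (p : ℤ) ^ (dv p (ξ : G → ℂ) + 1) ∣ (p : ℤ) ^ v * q := by
        rw [show dv p (ξ : G → ℂ) + 1 = v + (dv p (ξ : G → ℂ) - v + 1) by omega, pow_add]
        exact mul_dvd_mul_left _ (h5 h)
      rw [padicValInt_dvd_iff] at hd2
      have hne : (p : ℤ) ^ v * q ≠ 0 := mul_ne_zero (pow_ne_zero _ (Int.natCast_ne_zero.2 hp.ne_zero)) hq0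
      omega
  have hfwd : Cfsg.blockHeight p (blockOf M (χ : G → ℂ)) (χ : G → ℂ) = 0 → ∀ ξ ∈ blockOf M (χ : G → ℂ), ∃ n : ℤ,
      Cfsg.classInner (fun x : G => if p ∣ orderOf x then (0 : ℂ) else ((p ^ (Nat.card G).factorization p : ℕ) : ℂ) * (χ : G → ℂ) x) (ξ : G → ℂ) = (n : ℂ) ∧ n ≠ 0 ∧
        padicValInt p n = (Cfsg.charDegree (ξ : G → ℂ)).factorization p := by
    intro h0 ξ hξ
    obtain ⟨q, hq, h1, -⟩ := key ξ hξ
    obtain ⟨hq0, hval⟩ := h1 ((height_zero_iff hχ).1 h0)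
    exact ⟨_, hq, mul_ne_zero (pow_ne_zero _ (Int.natCast_ne_zero.2 hp.ne_zero)) hq0, hval⟩
  have hbwd : (∃ ξ ∈ blockOf M (χ : G → ℂ), ∃ n : ℤ,
      Cfsg.classInner (fun x : G => if p ∣ orderOf x then (0 : ℂ) else ((p ^ (Nat.card G).factorization p : ℕ) : ℂ) * (χ : G → ℂ) x) (ξ : G → ℂ) = (n : ℂ) ∧ n ≠ 0 ∧
        padicValInt p n = (Cfsg.charDegree (ξ : G → ℂ)).factorization p) →
      Cfsg.blockHeight p (blockOf M (χ : G → ℂ)) (χ : G → ℂ) = 0 := by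
    rintro ⟨ξ, hξ, n, hn, hn0, hval⟩
    obtain ⟨q, hq, -, h2⟩ := key ξ hξ
    have e : n = (p : ℤ) ^ v * q := by exact_mod_cast hn.symm.trans hq
    subst e
    rw [height_zero_iff hχ]
    by_contra hne
    exact h2 (lt_of_le_of_ne (minDv_le hχ) (Ne.symm hne)) (right_ne_zero_of_mul hn0) hval
  refine ⟨⟨fun h => ?_, hbwd⟩, ⟨hfwd, fun h => ?_⟩⟩
  · obtain ⟨ξ, hξ⟩ := block_nonempty hM hB
    exact ⟨ξ, hξ, hfwd h ξ hξ⟩
  · obtain ⟨ξ, hξ⟩ := block_nonempty hM hB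
    exact hbwd ⟨ξ, hξ, h ξ hξ⟩

end Cfsg.Agent.S4426
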