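import Cfsg.Statements.S4431
import Cfsg.Agent.Lib.Blocks.RegularParts

set_option autoImplicit false
open Cfsg CfsgLib.CharTheory CfsgLib.Blocks CfsgLib.Blocks.RegularParts
open scoped ComplexConjugate

set_option linter.unusedVariables false

namespace Cfsg.Agent.S4431

/-- Let H be a subgroup of the finite group G and b a block of H whose induced block B₀ in G is defined (relative to a maximal ideal M of the algebraic integers containing p). Let χ be an irreducible character of G, ψ ∈ b, and let η be the class function on H equal to p^a · χ on the p-regular elements of H and zero elsewhere, p^a being the p-part of the order of H. Then (a) if χ ∉ B₀, the number [η, ψ]/ψ(1) lies in the local ideal at M; (b) if χ ∈ B₀ has height zero, it does not. -/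
theorem result {G : Type*} [Group G] [Fintype G] (p : ℕ) [Fact p.Prime] (M : Ideal Cfsg.AlgInt) (hM : Cfsg.IsPModular p M) (H : Subgroup G) [Fintype H] (b : Set (Cfsg.IrrCharacter H)) (B₀ : Set (Cfsg.IrrCharacter G)) (hind : Cfsg.IsInducedBlock M H b B₀) (χ : Cfsg.IrrCharacter G) (ψ : Cfsg.IrrCharacter H) (hψ : ψ ∈ b) : (χ ∉ B₀ → Cfsg.MemLocalIdeal M (Cfsg.classInner (fun h : H => if p ∣ orderOf h then (0 : ℂ) else ((p ^ (Nat.card H).factorization p : ℕ) : ℂ) * (χ : G → ℂ) h) (ψ : H → ℂ) / (ψ : H → ℂ) 1)) ∧ (χ ∈ B₀ → Cfsg.blockHeight p B₀ (χ : G → ℂ) = 0 → ¬ Cfsg.MemLocalIdeal M (Cfsg.classInner (fun h : H => if p ∣ orderOf h then (0 : ℂ) else ((p ^ (Nat.card H).factorization p : ℕ) : ℂ) * (χ : G → ℂ) h) (ψ : H → ℂ) / (ψ : H → ℂ) 1)) := by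
  classical
  haveI := res_isDomain hM
  have hp := (Fact.out : p.Prime)
  set a := (Nat.card H).factorization p with ha
  set m := Nat.card H / p ^ a with hm
  have hmp : ¬ p ∣ m := Nat.not_dvd_ordCompl hp Nat.card_pos.ne'
  have hH : (Nat.card H : ℂ) = (p : ℂ) ^ a * (m : ℂ) := by
    exact_mod_cast (Nat.ordProj_mul_ordCompl_eq_self (Nat.card H) p).symm
  obtain ⟨φ, hφ⟩ := block_nonempty hM hind.2.1
  set f := regFn p (fun h : H => (χ : G → ℂ) h)
  have hfcl : IsClassFunction H f := by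
    intro x y
    have h1 := regFn_isClassFunction (p := p) χ (x : G) (y : G)
    simp only [f, regFn] at h1 ⊢
    simpa [← Subgroup.orderOf_coe] using h1
  have hfm : ∀ x, MemLocalRing M (f x) := fun x => by
    simp only [f, regFn]; split_ifs
    · exact (loc hM).zero_mem
    · exact memRing_irr hM χ _
  have e : Cfsg.classInner (fun h : H => if p ∣ orderOf h then (0 : ℂ) else ((p ^ a : ℕ) : ℂ) * (χ : G → ℂ) h) (ψ : H → ℂ) / (ψ : H → ℂ) 1 =
      (m : ℂ)⁻¹ * omega (ψ : H → ℂ) f := by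
    rw [classInner_regular, omega, hH]
    have h1 : regS p (fun h : H => (χ : G → ℂ) h) (ψ : H → ℂ) = ∑ g, f g * (ψ : H → ℂ) g :=
      regS_comm _ _
    rw [h1]
    have hp0 : ((p : ℂ) ^ a) ≠ 0 := pow_ne_zero _ (Nat.cast_ne_zero.2 hp.ne_zero)
    have hm0 : (m : ℂ) ≠ 0 := Nat.cast_ne_zero.2 fun h => hmp (h ▸ dvd_zero p)
    push_cast
    field_simp
  have hmem := (loc hM).mul_mem (natCast_inv_mem hM hmp) (memRing_omega hM hfcl hfm ψ)
  have hres : res hM ((m : ℂ)⁻¹ * omega (ψ : H → ℂ) f) =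
      res hM (m : ℂ)⁻¹ * res hM (omega (φ : G → ℂ) (regFn p (χ : G → ℂ))) := by
    rw [res_mul hM (natCast_inv_mem hM hmp) (memRing_omega hM hfcl hfm ψ),
      res_induced_regFn hM H hind hψ hφ χ]
  refine ⟨fun hχ => ?_, fun hχ h0 => ?_⟩ <;> rw [e, ← res_eq_zero_iff hM hmem, hres]
  · rw [omega_regFn, regS_eq_zero hM fun h => hχ ?_, zero_div, res_zero, mul_zero]
    rw [eq_blockOf hM hind.2.1 hφ]
    exact h
  · refine mul_ne_zero ?_ fun h => not_memIdeal_omega_regFn hM hind.2.1 hχ hφ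
      ((height_zero_iff hχ).1 h0) ((res_eq_zero_iff hM (memRing_omega_regFn hM φ χ)).1 h)
    intro h
    have h1 : res hM ((m : ℂ) * (m : ℂ)⁻¹) = 1 := by
      rw [mul_inv_cancel₀ (Nat.cast_ne_zero.2 (fun h0 : m = 0 => hmp (h0 ▸ dvd_zero p))), res_one]
    rw [res_mul hM (memRing_natCast hM m) (natCast_inv_mem hM hmp), h, mul_zero] at h1
    exact zero_ne_one h1

end Cfsg.Agent.S4431
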