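import Cfsg.Statements.S4433
import Cfsg.Agent.Lib.Blocks.Inflation
import Cfsg.Agent.Lib.Blocks.MinMax
import Cfsg.Agent.Lib.Blocks.Covering

set_option autoImplicit false
open Cfsg CfsgLib.CharTheory CfsgLib.Blocks CfsgLib.Blocks.Inflation
open scoped ComplexConjugate

set_option linter.unusedVariables false

namespace Cfsg.Agent.S4433

/-- Let N be a normal subgroup of the finite group G and write Ḡ = G/N; fix a maximal ideal M of the algebraic integers containing p. Let B̄ be a block of Ḡ contained in the block B of G, in the sense that the inflation of every member of B̄ lies in B, and let D̄ be a defect group of B̄. Then B has a defect group P whose image in Ḡ contains D̄. -/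
theorem result {G : Type*} [Group G] [Finite G] (p : ℕ) [Fact p.Prime] (M : Ideal Cfsg.AlgInt) (hM : Cfsg.IsPModular p M) (N : Subgroup G) [N.Normal] (Bbar : Set (Cfsg.IrrCharacter (G ⧸ N))) (hBbar : Cfsg.IsPBlock M Bbar) (B : Set (Cfsg.IrrCharacter G)) (hB : Cfsg.IsPBlock M B) (hsub : ∀ χ ∈ Bbar, ∀ ψ : Cfsg.IrrCharacter G, (ψ : G → ℂ) = (χ : G ⧸ N → ℂ) ∘ QuotientGroup.mk → ψ ∈ B) (Dbar : Subgroup (G ⧸ N)) (hDbar : Cfsg.IsDefectGroup p M Bbar Dbar) : ∃ P : Subgroup G, Cfsg.IsDefectGroup p M B P ∧ Dbar ≤ P.map (QuotientGroup.mk' N) := by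
  classical
  haveI := Fintype.ofFinite G
  haveI := Fintype.ofFinite (G ⧸ N)
  haveI := res_isDomain hM
  have hp : p.Prime := hM.1
  obtain ⟨χ, hχ⟩ := block_nonempty hM hBbar
  have hψB : inflIrr N χ ∈ B := hsub χ hχ _ rfl
  obtain ⟨g, he, hc⟩ : ∃ g : G, ¬ MemLocalIdeal M (blockCoeff B g) ∧
      ¬ MemLocalIdeal M (clv g (inflIrr N χ)) := by
    by_contra hno
    push Not at hno
    haveI : Fintype (ConjClasses G) := Fintype.ofFinite _
    have h1 : omega (inflIrr N χ : G → ℂ) (blockCoeff B) = 1 := by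
      rw [← cf_ind, omega_cf, ind_of_mem hψB]
    apply not_memIdeal_one hM
    rw [← h1, omega_eq_sum_classes (blockCoeff_isClassFunction B)]
    refine memIdeal_sum hM fun C _ => ?_
    show MemLocalIdeal M (blockCoeff B (crep C) * clv (crep C) (inflIrr N χ))
    by_cases hC : MemLocalIdeal M (blockCoeff B (crep C))
    · rw [mul_comm]; exact memIdeal_mul_left hM (memRing_clv hM _ _) hC
    · exact memIdeal_mul_left hM (memRing_blockCoeff hM hB _) (hno _ hC)
  rw [clv_inflIrr] at hc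
  set Cg := Subgroup.centralizer ({g} : Set G) with hCg
  set Cb := Subgroup.centralizer ({(g : G ⧸ N)} : Set (G ⧸ N)) with hCb
  set T := Cb.comap (QuotientGroup.mk' N) with hT
  have hrel : ¬ p ∣ Cg.relIndex T := by
    intro hd
    haveI := res_charP hM
    apply hc
    rw [← res_eq_zero_iff hM ((loc hM).mul_mem (memRing_natCast hM _) (memRing_clv hM _ _)),
      res_mul hM (memRing_natCast hM _) (memRing_clv hM _ _), res_natCast,
      (CharP.cast_eq_zero_iff _ p _).2 hd, zero_mul]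
  have hcbar : ¬ MemLocalIdeal M (clv (g : G ⧸ N) χ) := fun h =>
    hc (memIdeal_mul_left hM (memRing_natCast hM _) h)
  have hle : Cg ≤ T := centralizer_le_comap N g
  obtain ⟨S⟩ : Nonempty (Sylow p Cg) := inferInstance
  set S0 := (S : Subgroup Cg).map Cg.subtype with hS0
  have hS0C : S0 ≤ Cg := by rintro _ ⟨r, -, rfl⟩; exact r.2
  have hS0p : IsPGroup p S0 := S.2.map _
  have hcard : Nat.card (S0.subgroupOf T) = p ^ (Nat.card T).factorization p := by
    rw [Nat.card_congr (Subgroup.subgroupOfEquivOfLe (hS0C.trans hle)).toEquiv,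
      Subgroup.card_map_of_injective Cg.subtype_injective, S.card_eq_multiplicity,
      ← Subgroup.relIndex_bot_left T, ← Subgroup.relIndex_mul_relIndex ⊥ Cg T bot_le hle,
      Subgroup.relIndex_bot_left, Nat.factorization_mul Nat.card_pos.ne'
        (fun h : Cg.relIndex T = 0 => hrel (h.symm ▸ dvd_zero p)), Finsupp.add_apply,
      Nat.factorization_eq_zero_of_not_dvd hrel, add_zero]
  set f : T →* Cb := ((QuotientGroup.mk' N).comp T.subtype).codRestrict Cb fun t => t.2 with hf
  have hfs : Function.Surjective f := by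
    rintro ⟨c, hc'⟩
    obtain ⟨x, rfl⟩ := QuotientGroup.mk'_surjective N c
    exact ⟨⟨x, hc'⟩, rfl⟩
  set U : Sylow p Cb := (Sylow.ofCard (S0.subgroupOf T) hcard).mapSurjective hfs with hU
  have hUle : (U : Subgroup Cb).map Cb.subtype ≤ S0.map (QuotientGroup.mk' N) := by
    rintro _ ⟨u, hu, rfl⟩
    rw [hU, Sylow.coe_mapSurjective, Sylow.coe_ofCard] at hu
    obtain ⟨t, ht, rfl⟩ := hu
    exact ⟨(t : G), ht, rfl⟩
  obtain ⟨P, hP, hS0P⟩ := exists_defectGroup_ge hM hB he hS0p hS0C
  have hDp := defectGroup_isPGroup hDbar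
  obtain ⟨c, hc', Q, rfl⟩ := hDbar
  obtain ⟨x, hx⟩ := sylow_le_conj hM hBbar hχ hcbar hc'.2.1 hDp
    (by rintro _ ⟨r, -, rfl⟩; exact r.2) U
  obtain ⟨y, rfl⟩ := QuotientGroup.mk'_surjective N x
  refine ⟨_, isDefectGroup_conj hP y⁻¹, fun d hd => ?_⟩
  have h1 : (QuotientGroup.mk' N y) * d * (QuotientGroup.mk' N y)⁻¹ ∈
      S0.map (QuotientGroup.mk' N) := hUle (hx (conjMap_mem_iff.2 (by simpa [mul_assoc] using hd)))
  obtain ⟨s, hs, hse⟩ := h1
  refine ⟨y⁻¹ * s * y, conjMap_mem_iff.2 (by simpa [mul_assoc] using hS0P hs), ?_⟩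
  rw [map_mul, map_mul, map_inv, hse]
  group

end Cfsg.Agent.S4433
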