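import Cfsg.Statements.S4434
import Cfsg.Agent.Lib.Blocks.Inflation
import Cfsg.Agent.Lib.Blocks.MinMax
import Cfsg.Agent.Lib.Blocks.InducedChar

set_option autoImplicit false
open Cfsg CfsgLib.CharTheory CfsgLib.Blocks CfsgLib.Blocks.Inflation CfsgLib.Blocks.InducedChar
open scoped ComplexConjugate

set_option linter.unusedVariables false

namespace Cfsg.Agent.S4434

/-- Let N be a normal p-subgroup of the finite group G and write Ḡ = G/N; fix a maximal ideal M of the algebraic integers containing p. Then every block B of G contains a block B̄ of Ḡ (the inflation of every member of B̄ lies in B) whose defect groups are exactly the images in Ḡ of the defect groups of B. -/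
theorem result {G : Type*} [Group G] [Finite G] (p : ℕ) [Fact p.Prime] (M : Ideal Cfsg.AlgInt) (hM : Cfsg.IsPModular p M) (N : Subgroup G) [N.Normal] (hN : IsPGroup p N) (B : Set (Cfsg.IrrCharacter G)) (hB : Cfsg.IsPBlock M B) : ∃ Bbar : Set (Cfsg.IrrCharacter (G ⧸ N)), Cfsg.IsPBlock M Bbar ∧ (∀ χ ∈ Bbar, ∀ ψ : Cfsg.IrrCharacter G, (ψ : G → ℂ) = (χ : G ⧸ N → ℂ) ∘ QuotientGroup.mk → ψ ∈ B) ∧ ∀ Dbar : Subgroup (G ⧸ N), Cfsg.IsDefectGroup p M Bbar Dbar ↔ ∃ P : Subgroup G, Cfsg.IsDefectGroup p M B P ∧ Dbar = P.map (QuotientGroup.mk' N) := by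
  classical
  haveI := Fintype.ofFinite G
  haveI := Fintype.ofFinite (G ⧸ N)
  haveI := res_isDomain hM
  have hp : p.Prime := hM.1
  obtain ⟨g, hg⟩ := exists_defectClass hM hB
  have hgreg := isDefectClass_regular hM hB hg
  have hgN : g ∈ Subgroup.centralizer (N : Set G) := mem_centralizer_normal hM hB hN hg.2.1
  have hgn : ∀ n ∈ N, g * n = n * g := fun n hn =>
    ((Subgroup.mem_centralizer_iff.1 hgN) n hn).symm
  -- the lift is unique
  have huniq : ∀ n ∈ N, ¬ p ∣ orderOf (g * n) → n = 1 := by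
    intro n hn hr
    obtain ⟨k, hk⟩ := IsPGroup.iff_orderOf.1 hN ⟨n, hn⟩
    obtain ⟨e1, -⟩ := pPart_unique hp (show Commute n g from (hgn n hn).symm)
      (Commute.one_left (g * n)) ⟨k, (Subgroup.orderOf_coe ⟨n, hn⟩).trans hk⟩ ⟨0, by simp⟩ hgreg hr
      (by rw [one_mul, hgn n hn])
    exact e1
  have hcomap : (Subgroup.centralizer ({(g : G ⧸ N)} : Set (G ⧸ N))).comap (QuotientGroup.mk' N) =
      Subgroup.centralizer ({g} : Set G) := by
    refine le_antisymm (fun x hx => ?_) (centralizer_le_comap N g)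
    rw [Subgroup.mem_comap, Subgroup.mem_centralizer_singleton_iff, QuotientGroup.mk'_apply] at hx
    rw [Subgroup.mem_centralizer_singleton_iff]
    have hu : g⁻¹ * (x * g * x⁻¹) ∈ N := by
      rw [← QuotientGroup.eq_one_iff]
      simp only [QuotientGroup.mk_mul, QuotientGroup.mk_inv]
      rw [hx]; group
    have e1 := huniq _ hu (by rw [mul_inv_cancel_left, conj_orderOf]; exact hgreg)
    rw [inv_mul_eq_one, eq_mul_inv_iff_mul_eq] at e1
    exact e1.symm
  have hclv : ∀ χ : IrrCharacter (G ⧸ N), clv g (inflIrr N χ) = clv (g : G ⧸ N) χ := fun χ => by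
    rw [clv_inflIrr, hcomap, Subgroup.relIndex_self, Nat.cast_one, one_mul]
  set S : Set (IrrCharacter (G ⧸ N)) := {χ | inflIrr N χ ∈ B} with hS
  -- the image of the block idempotent
  set f : G ⧸ N → ℂ := fun c => ∑ x ∈ Finset.univ.filter (fun x : G => (x : G ⧸ N) = c),
    blockCoeff B x with hf
  have hfcl : IsClassFunction (G ⧸ N) f := by
    intro c d
    obtain ⟨y, rfl⟩ := QuotientGroup.mk_surjective d
    simp only [hf]
    refine Finset.sum_equiv (MulAut.conj y⁻¹).toEquiv (fun x => ?_) fun x _ => ?_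
    · simp only [Finset.mem_filter, Finset.mem_univ, true_and, MulEquiv.toEquiv_eq_coe,
        EquivLike.coe_coe, MulAut.conj_apply, inv_inv, QuotientGroup.mk_mul, QuotientGroup.mk_inv]
      exact ⟨fun h => by rw [h]; group, fun h => by rw [← h]; group⟩
    · exact (blockCoeff_isClassFunction B x y⁻¹).symm
  have hfS : f = cf (ind S) := by
    have e : (fun χ : IrrCharacter (G ⧸ N) => omega (χ : G ⧸ N → ℂ) f) = ind S := by
      funext χ
      have h1 : omega (χ : G ⧸ N → ℂ) f = omega (inflIrr N χ : G → ℂ) (blockCoeff B) := by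
        simp only [omega, inflIrr_apply, QuotientGroup.mk_one, hf, Finset.sum_mul]
        congr 1
        rw [← Finset.sum_fiberwise Finset.univ (fun x : G => (x : G ⧸ N))
          (fun x => blockCoeff B x * (χ : G ⧸ N → ℂ) (x : G ⧸ N))]
        refine Finset.sum_congr rfl fun c _ => Finset.sum_congr rfl fun x hx => ?_
        rw [(Finset.mem_filter.1 hx).2]
      rw [h1, ← cf_ind, omega_cf]
      by_cases h : χ ∈ S
      · rw [ind_of_mem h, ind_of_mem (show inflIrr N χ ∈ B from h)]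
      · rw [ind_of_notMem h, ind_of_notMem (show inflIrr N χ ∉ B from h)]
    rw [← e, cf_omega hfcl]
  have hfg : f (g : G ⧸ N) = blockCoeff B g := by
    simp only [hf]
    refine Finset.sum_eq_single g (fun x hx hne => ?_) fun h => absurd (by simp) h
    refine blockCoeff_of_dvd_orderOf hM hB ?_
    by_contra hr
    apply hne
    have hmem : g⁻¹ * x ∈ N := QuotientGroup.eq.1 ((Finset.mem_filter.1 hx).2).symm
    have := huniq _ hmem (by rwa [mul_inv_cancel_left])
    exact (inv_mul_eq_one.1 this).symm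
  set Bl : Finset (Set (IrrCharacter (G ⧸ N))) :=
    (Finset.univ.filter (· ∈ S)).image (fun χ : IrrCharacter (G ⧸ N) => blockOf M (χ : G ⧸ N → ℂ))
    with hBl
  have hsub : ∀ χ ∈ S, ∀ χ' ∈ blockOf M (χ : G ⧸ N → ℂ), χ' ∈ S := by
    intro χ hχ χ' hχ'
    show inflIrr N χ' ∈ B
    rw [eq_blockOf hM hB hχ]
    exact (sameBlock_iff_res hM _ _).2 fun x =>
      res_clv_ascend hM N x ((sameBlock_iff_res hM χ χ').1 hχ' _)
  have hpart : ind S = ∑ b ∈ Bl, ind b := by
    funext χ
    rw [Finset.sum_apply]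
    by_cases h : χ ∈ S
    · rw [ind_of_mem h, Finset.sum_eq_single (blockOf M (χ : G ⧸ N → ℂ)) (fun b hb hne => ?_)
        (fun hb => absurd (Finset.mem_image.2 ⟨χ, by simp [h], rfl⟩) hb),
        ind_of_mem (mem_blockOf_self hM χ)]
      refine ind_of_notMem fun hm => hne ?_
      obtain ⟨φ, -, rfl⟩ := Finset.mem_image.1 hb
      exact eq_blockOf hM (blockOf_isPBlock φ) hm
    · rw [ind_of_notMem h, Finset.sum_eq_zero]
      intro b hb
      refine ind_of_notMem fun hm => h ?_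
      obtain ⟨φ, hφ, rfl⟩ := Finset.mem_image.1 hb
      exact hsub φ (Finset.mem_filter.1 hφ).2 χ hm
  obtain ⟨b, hb, hbu⟩ : ∃ b ∈ Bl, ¬ MemLocalIdeal M (blockCoeff b (g : G ⧸ N)) := by
    by_contra hno
    push Not at hno
    apply hg.2.1
    rw [← hfg, hfS, hpart, cf_sum, Finset.sum_apply]
    exact memIdeal_sum hM fun b hb => by rw [cf_ind]; exact hno b hb
  obtain ⟨χ₀, hχ₀, rfl⟩ := Finset.mem_image.1 hb
  have hbb : IsPBlock M (blockOf M (χ₀ : G ⧸ N → ℂ)) := blockOf_isPBlock χ₀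
  have hbS : ∀ χ ∈ blockOf M (χ₀ : G ⧸ N → ℂ), χ ∈ S := hsub χ₀ (Finset.mem_filter.1 hχ₀).2
  have hdc : IsDefectClass M (blockOf M (χ₀ : G ⧸ N → ℂ)) (g : G ⧸ N) := by
    refine ⟨memRing_blockCoeff hM hbb _, hbu, fun χ hχ => ?_⟩
    have := hg.2.2 _ (hbS χ hχ)
    change ¬ MemLocalIdeal M (clv g (inflIrr N χ)) at this
    rwa [hclv] at this
  refine ⟨_, hbb, fun χ hχ ψ hψ => ?_, ?_⟩
  · rw [show ψ = inflIrr N χ from Subtype.ext hψ]; exact hbS χ hχ
  set Cg := Subgroup.centralizer ({g} : Set G) with hCg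
  set Cb := Subgroup.centralizer ({(g : G ⧸ N)} : Set (G ⧸ N)) with hCb
  obtain ⟨P₀⟩ : Nonempty (Sylow p Cg) := inferInstance
  set S0 := (P₀ : Subgroup Cg).map Cg.subtype with hS0
  set φ : Cg →* Cb := ((QuotientGroup.mk' N).comp Cg.subtype).codRestrict Cb
    (fun t => centralizer_le_comap N g t.2) with hφ
  have hfs : Function.Surjective φ := by
    rintro ⟨c, hc'⟩
    obtain ⟨x, rfl⟩ := QuotientGroup.mk'_surjective N c
    exact ⟨⟨x, hcomap.le hc'⟩, rfl⟩
  have hD0 : IsDefectGroup p M (blockOf M (χ₀ : G ⧸ N → ℂ)) (S0.map (QuotientGroup.mk' N)) := by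
    refine ⟨_, hdc, P₀.mapSurjective hfs, ?_⟩
    rw [Sylow.coe_mapSurjective, Subgroup.map_map, Subgroup.map_map]
    rfl
  have hP0 : IsDefectGroup p M B S0 := ⟨g, hg, P₀, rfl⟩
  have hconj : ∀ y : G, (S0.map (MulAut.conj y).toMonoidHom).map (QuotientGroup.mk' N) =
      (S0.map (QuotientGroup.mk' N)).map (MulAut.conj (y : G ⧸ N)).toMonoidHom := by
    intro y
    generalize S0 = T
    rw [Subgroup.map_map, Subgroup.map_map]
    refine congrArg (fun F : G →* G ⧸ N => T.map F) ?_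
    ext z
    simp
  intro Dbar
  constructor
  · intro hDb
    obtain ⟨x, rfl⟩ := defectGroup_conjugate hM hbb hD0 hDb
    obtain ⟨y, rfl⟩ := QuotientGroup.mk_surjective x
    exact ⟨_, isDefectGroup_conj hP0 y, (hconj y).symm⟩
  · rintro ⟨P, hP, rfl⟩
    obtain ⟨y, rfl⟩ := defectGroup_conjugate hM hB hP0 hP
    rw [hconj]
    exact isDefectGroup_conj hD0 _

end Cfsg.Agent.S4434
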