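import Cfsg.Statements.S4437
import Cfsg.Agent.Lib.Blocks.PCent

set_option autoImplicit false
set_option linter.style.haveILetI false
open Cfsg

namespace Cfsg.Agent.S4437

open CfsgLib.Blocks CfsgLib.CharTheory

/-- Let P be a p-subgroup of the finite group G, H = P·C_G(P), and b a block of H (relative to a maximal ideal M of the algebraic integers containing p) having P as a defect group; let B be the block of G induced by b. Let T be the stabilizer of b in N_G(P): the elements g of N_G(P) such that the g-conjugate of every member of b is again a member of b. Then B has defect group P if and only if p does not divide the index of H in T. -/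
theorem result {G : Type*} [Group G] [Fintype G] (p : ℕ) [Fact p.Prime] (M : Ideal Cfsg.AlgInt) (hM : Cfsg.IsPModular p M) (P : Subgroup G) (hP : IsPGroup p P) (H : Subgroup G) [Fintype H] (hH : H = P ⊔ Subgroup.centralizer (P : Set G)) (b : Set (Cfsg.IrrCharacter H)) (hb : Cfsg.IsPBlock M b) (hbP : Cfsg.IsDefectGroup p M b (P.subgroupOf H)) (B : Set (Cfsg.IrrCharacter G)) (hind : Cfsg.IsInducedBlock M H b B) (T : Subgroup G) (hT : ∀ g : G, g ∈ T ↔ (g ∈ Subgroup.normalizer (P : Set G) ∧ ∀ θ ∈ b, ∀ θ' : Cfsg.IrrCharacter H, (∀ h h' : H, (h' : G) = g * h * g⁻¹ → (θ' : H → ℂ) h' = (θ : H → ℂ) h) → θ' ∈ b)) : Cfsg.IsDefectGroup p M B P ↔ ¬ p ∣ H.relIndex T := by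
  have hPH : P ≤ H := hH ▸ le_sup_left
  have hC : Subgroup.centralizer (P : Set G) ≤ H := hH ▸ le_sup_right
  have hN : H ≤ Subgroup.normalizer (P : Set G) := hH ▸ pcent_le_normalizer P
  obtain ⟨a, ha, e, hae, hbmax, he, -⟩ := exists_pair_at hM hPH hC hb hbP
  have hBpair := (induced_iff_pair hM hP hPH hC hN hae hbmax.1 hind.2.1).1 hind
  have hTeq : T = pairStab P e := by
    ext g
    rw [hT g]
    constructor
    · rintro ⟨hg, hst⟩
      have hgH : g ∈ Subgroup.normalizer (H : Set G) := by
        have h := normalizer_le_normalizer_pcent P hg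
        rwa [← hH] at h
      refine (pcent_image_eq_iff hM hH hae hbmax hP hg hgH).1 ?_
      refine Set.eq_of_subset_of_ncard_le ?_
        (le_of_eq (Set.ncard_image_of_injective _ (irrPull_injective _)).symm) (Set.toFinite _)
      rintro _ ⟨θ, hθ, rfl⟩
      refine hst θ hθ _ fun h h' hh => ?_
      rw [irrPull_apply]
      refine congrArg _ ?_
      apply Subtype.ext
      show g⁻¹ * (h' : G) * g = h
      rw [hh]; group
    · intro hgst
      have hg := ((mem_pairStab g).1 hgst).1
      have hgH : g ∈ Subgroup.normalizer (H : Set G) := by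
        have h := normalizer_le_normalizer_pcent P hg
        rwa [← hH] at h
      refine ⟨hg, fun θ hθ θ' h' => ?_⟩
      rw [← (pcent_image_eq_iff hM hH hae hbmax hP hg hgH).2 hgst]
      refine ⟨θ, hθ, ?_⟩
      apply Subtype.ext
      funext k
      refine (h' (conjE hgH k) k ?_).symm
      show (k : G) = g * (g⁻¹ * (k : G) * g) * g⁻¹
      group
  subst hTeq
  have hHT : H ≤ pairStab P e := hH ▸ le_pairStab_pcent hM e
  have hTN : pairStab P e ≤ Subgroup.normalizer (P : Set G) := fun y hy => ((mem_pairStab y).1 hy).1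
  constructor
  · intro hD
    have hmax := pair_at_defect_maximal hM hBpair hD
    haveI := Fintype.ofFinite (pairStab P e)
    obtain ⟨F, hF, hcoef⟩ := exists_stabBlock hM hP he (self_le_pairStab hM P e)
      (cent_le_pairStab P e) le_rfl
    obtain ⟨D, hFD⟩ := exists_defectGroup hM hF
    obtain ⟨hPD, g, hg, hstep⟩ := exists_step_of_defect hM hP he (self_le_pairStab hM P e) le_rfl
      hF hcoef hFD
    have hPD' : P = D.map (pairStab P e).subtype := by
      by_contra hne
      exact (maximal_iff_no_step hM hBpair).1 hmax _ g (lt_of_le_of_ne hPD hne) hstep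
    have hinf : P ⊓ Subgroup.normalizer (P : Set G) = P := inf_eq_left.2 Subgroup.le_normalizer
    have hDeq : (P ⊓ Subgroup.normalizer (P : Set G)).subgroupOf (pairStab P e) = D := by
      rw [hinf]
      exact (congrArg (fun K : Subgroup G => K.subgroupOf (pairStab P e)) hPD').trans
        (Subgroup.comap_map_eq_self_of_injective Subtype.coe_injective D)
    have hcard := card_autInducedBy_normP hM hP he hF hcoef
      (hinf.le.trans (self_le_pairStab hM P e)) (hDeq ▸ hFD)
    rw [← card_autInducedBy_eq_index Subgroup.le_normalizer,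
      ← card_autInducedBy_eq_index hTN] at hcard
    change (Subgroup.centralizer (P : Set G)).relIndex P =
      p ^ ((Subgroup.centralizer (P : Set G)).relIndex (pairStab P e)).factorization p at hcard
    have h3 := Subgroup.relIndex_mul_relIndex _ _ _ hC hHT
    have h4 : (Subgroup.centralizer (P : Set G)).relIndex H =
        (Subgroup.centralizer (P : Set G)).relIndex P := by rw [hH, relIndex_cent_pcent]
    intro hdvd
    have hne : (Subgroup.centralizer (P : Set G)).relIndex (pairStab P e) ≠ 0 :=
      Subgroup.index_ne_zero_of_finite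
    have h6 : p ^ (((Subgroup.centralizer (P : Set G)).relIndex (pairStab P e)).factorization p + 1)
        ∣ (Subgroup.centralizer (P : Set G)).relIndex (pairStab P e) := by
      obtain ⟨c, hc⟩ := hdvd
      refine ⟨c, ?_⟩
      conv_lhs => rw [← h3, h4, hcard, hc]
      ring
    have := (hM.1.pow_dvd_iff_le_factorization hne).1 h6
    omega
  · intro hnd
    refine maximal_isDefectGroup hM (e := e) ((maximal_iff_no_step hM hBpair).2 ?_)
    intro R g hlt hs
    have hRp : IsPGroup p R := hs.2.1.1
    haveI : (H.subgroupOf (pairStab P e)).Normal :=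
      ⟨fun n hn t => (Subgroup.mem_normalizer_iff.1
        (hH ▸ normalizer_le_normalizer_pcent P (hTN t.2) : (t : G) ∈ Subgroup.normalizer (H : Set G)) n).1 hn⟩
    have hRH : R ≤ H := by
      intro r hr
      have hrT : r ∈ pairStab P e := (mem_pairStab r).2 ⟨hs.2.2.2.1 hr, hs.2.2.2.2.1 r hr⟩
      obtain ⟨k, hk⟩ := hRp ⟨r, hr⟩
      let q : pairStab P e ⧸ H.subgroupOf (pairStab P e) :=
        QuotientGroup.mk (⟨r, hrT⟩ : pairStab P e)
      have hq : q ^ (p ^ k) = 1 := by
        rw [← QuotientGroup.mk_pow]
        rw [show (⟨r, hrT⟩ : pairStab P e) ^ (p ^ k) = 1 from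
          Subtype.ext (by simpa using congrArg Subtype.val hk)]
        rfl
      have h1 : orderOf q = 1 := Nat.eq_one_of_dvd_coprimes
        ((hM.1.coprime_iff_not_dvd.2 hnd).pow_left k) (orderOf_dvd_of_pow_eq_one hq)
        (orderOf_dvd_natCard q)
      exact (QuotientGroup.eq_one_iff (N := H.subgroupOf (pairStab P e)) _).1
        (orderOf_eq_one_iff.1 h1)
    have hmap := le_map_subtype_of_eq hae
    obtain ⟨c, hc, hce, hcb⟩ := exists_upIdx (H := H) hRH
      ((centralizer_anti hlt.le).trans hC) hs.2.1.2
    have h1 : Cfsg.NormalSubpairRel p M (upIdx a ha) (upIdx c hc) := by rw [hae, hce]; exact hs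
    refine (maximal_iff_no_step hM hbmax.1).1 hbmax c.1 c.2 ?_
      (normalSubpair_down ha hc hbmax.1.1.2 hcb h1)
    rw [← Subgroup.map_lt_map_iff_of_injective (f := H.subtype) Subtype.coe_injective, hmap,
      le_map_subtype_of_eq hce]
    exact hlt

end Cfsg.Agent.S4437
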