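import Cfsg.Statements.S4439
import Cfsg.Agent.Lib.Blocks.FongReduction
import Cfsg.Agent.Lib.SylowExtra
import Cfsg.Agent.Lib.Glauberman.Mult

set_option autoImplicit false
open Cfsg

open CfsgLib
namespace Cfsg.Agent.S4439

open CfsgLib.Blocks CfsgLib.CharTheory

universe u

theorem center_index_congr {A : Type*} {C : Type*} [Group A] [Group C] (e : A ≃* C) :
    (Subgroup.center A).index = (Subgroup.center C).index := by
  have h : (Subgroup.center A).map e.toMonoidHom = Subgroup.center C := by
    ext x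
    rw [Subgroup.mem_map]
    constructor
    · rintro ⟨y, hy, rfl⟩
      rw [Subgroup.mem_center_iff] at hy ⊢
      intro g
      obtain ⟨z, rfl⟩ := e.surjective g
      show e z * e y = e y * e z
      rw [← map_mul, ← map_mul, hy z]
    · intro hx
      rw [Subgroup.mem_center_iff] at hx
      refine ⟨e.symm x, Subgroup.mem_center_iff.2 fun g => ?_, e.apply_symm_apply x⟩
      apply e.injective
      simp [hx]
  rw [← h]
  exact (Subgroup.index_map_of_bijective e.bijective _).symm

theorem main {p : ℕ} [Fact p.Prime] {M : Ideal AlgInt} (hM : IsPModular p M) :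
    ∀ (n : ℕ) (G : Type u) [Group G] [Fintype G], Nat.card G = n → IsPSolvable p G →
    ∀ (B : Set (IrrCharacter G)), IsPBlock M B → ∀ P : Subgroup G, IsDefectGroup p M B P →
    ∀ χ ∈ B, blockHeight p B ((χ : IrrCharacter G) : G → ℂ) ≤
      ((Subgroup.center P).index).factorization p := by
  intro n
  induction n using Nat.strong_induction_on with
  | _ n ih =>
  intro G _ _ hn hsolv B hB P hP χ hχ
  classical
  rcases fong_reduction hM hsolv hB hP with
    ⟨θ, _, hθ, hinv, hmem, S, hS⟩ | ⟨T, _, B', D', x, hT, hB', hD', hx, f, hf⟩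
  swap
  · obtain ⟨ψ, hψ⟩ := f.surjective ⟨χ, hχ⟩
    obtain ⟨-, hh⟩ := hf ψ
    rw [hψ] at hh
    rw [hh]
    have hlt : Nat.card T < n := by
      rw [← hn]
      refine lt_of_le_of_ne (Subgroup.card_le_card_group T) fun e => hT ?_
      exact Subgroup.eq_top_of_card_eq T e
    have e : D' ≃* P := (Subgroup.equivMapOfInjective D' T.subtype T.subtype_injective).trans
      ((Subgroup.equivMapOfInjective _ (MulAut.conj x).toMonoidHom (MulAut.conj x).injective).trans
        (MulEquiv.subgroupCongr hx))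
    rw [← center_index_congr e]
    exact ih _ hlt T rfl (isPSolvable_subgroup hM.1 hsolv T) B' hB' D' hD' ψ.1 ψ.2
  subst hS
  set L := pPrimePCore p G with hL
  haveI := pPrimePCore_normal' (G := G) (p := p)
  have hKL : (pPrimeCore p G) ≤ L := pPrimeCore_le_pPrimePCore
  set π := QuotientGroup.mk' (pPrimeCore p G)
  haveI : (L.map π).Normal :=
    Subgroup.Normal.map inferInstance _ (QuotientGroup.mk'_surjective (pPrimeCore p G))
  set N := (L.map π ⊓ Subgroup.centralizer ((L.map π : Subgroup (G ⧸ (pPrimeCore p G))) : Set (G ⧸ (pPrimeCore p G)))).comap π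
    with hNdef
  haveI : N.Normal := by
    haveI : (L.map π ⊓ Subgroup.centralizer ((L.map π : Subgroup (G ⧸ (pPrimeCore p G))) : Set (G ⧸ (pPrimeCore p G)))).Normal :=
      Subgroup.normal_inf_normal _ _
    exact Subgroup.Normal.comap inferInstance _
  have hKN : (pPrimeCore p G) ≤ N := fun k hk => by
    rw [hNdef, Subgroup.mem_comap, show π k = 1 from (QuotientGroup.eq_one_iff k).2 hk]
    exact Subgroup.one_mem _
  have hNL : N ≤ L := fun y hy => by
    obtain ⟨l, hl, e⟩ := hy.1
    have h1 : l⁻¹ * y ∈ (pPrimeCore p G) := QuotientGroup.eq.1 e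
    simpa using L.mul_mem hl (hKL h1)
  haveI := Fintype.ofFinite N
  set K₁ := (pPrimeCore p G).subgroupOf N with hK₁
  haveI := Fintype.ofFinite K₁
  have hab : ∀ x y : N, x * y * x⁻¹ * y⁻¹ ∈ K₁ := by
    intro x y
    show ((x * y * x⁻¹ * y⁻¹ : N) : G) ∈ (pPrimeCore p G)
    rw [← QuotientGroup.eq_one_iff]
    have h : π (y : G) * π x = π x * π y :=
      Subgroup.mem_centralizer_iff.1 (show π (x : G) ∈ L.map π ⊓ _ from x.2).2 _
        (show π (y : G) ∈ L.map π ⊓ Subgroup.centralizer ((L.map π : Subgroup _) : Set _) from y.2).1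
    show π ((x : G) * y * (x : G)⁻¹ * (y : G)⁻¹) = 1
    simp [← h]
  -- the centre of the defect group lies in `N`
  have hQL := not_dvd_relIndex_of_sylow (G := G) S L
  have hQL' : ¬ p ∣ ((S : Subgroup G) ⊓ L).relIndex L := by
    rw [Subgroup.inf_relIndex_right]; exact hQL
  have hCQ := centralizer_le_pPrimePCore hsolv (inf_le_right : (S : Subgroup G) ⊓ L ≤ L) hQL'
  have hLsup : L ≤ (pPrimeCore p G) ⊔ ((S : Subgroup G) ⊓ L) := by
    obtain ⟨k, hk⟩ := relIndex_pPrimePCore (G := G) (p := p)
    set X := (pPrimeCore p G) ⊔ ((S : Subgroup G) ⊓ L) with hX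
    have hXL : X ≤ L := sup_le hKL inf_le_right
    have h1 : X.relIndex L ∣ (pPrimeCore p G).relIndex L := Subgroup.relIndex_dvd_of_le_left L le_sup_left
    have h2 : X.relIndex L ∣ ((S : Subgroup G) ⊓ L).relIndex L :=
      Subgroup.relIndex_dvd_of_le_left L le_sup_right
    have hcop : (p ^ k).Coprime (((S : Subgroup G) ⊓ L).relIndex L) :=
      ((Fact.out : p.Prime).coprime_iff_not_dvd.2 hQL').pow_left k
    rw [show (pPrimeCore p G).relIndex L = p ^ k from hk] at h1
    exact Subgroup.relIndex_eq_one.1 (Nat.eq_one_of_dvd_coprimes hcop h1 h2)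
  have hZ : (Subgroup.center (S : Subgroup G)).map (S : Subgroup G).subtype ≤ N := by
    rintro _ ⟨z, hz, rfl⟩
    rw [Subgroup.coe_subtype]
    have hcomm : ∀ q ∈ (S : Subgroup G), q * (z : G) = (z : G) * q := fun q hq =>
      congrArg Subtype.val (Subgroup.mem_center_iff.1 hz ⟨q, hq⟩)
    have hzL : (z : G) ∈ L := hCQ (Subgroup.mem_centralizer_iff.2 fun q hq => hcomm q hq.1)
    refine ⟨⟨z, hzL, rfl⟩, Subgroup.mem_centralizer_iff.2 ?_⟩
    rintro _ ⟨l, hl, rfl⟩
    have hl' := hLsup hl
    rw [Subgroup.mem_sup_of_normal_left] at hl'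
    obtain ⟨k, hk, q, hq, rfl⟩ := hl'
    rw [map_mul, show π k = 1 from (QuotientGroup.eq_one_iff k).2 hk, one_mul, ← map_mul, ← map_mul,
      hcomm q hq.1]
  -- a constituent on `N`
  have hc := (hmem χ).1 hχ
  obtain ⟨η, hη, hηc⟩ := exists_constituent (isCharacter_restrict (isCharacter_of_irr χ.2) N)
    (fun e => irr_ne_zero χ.2 (congrFun e 1))
  obtain ⟨e, he, hdvd⟩ := degree_ratio_dvd χ.2 hη hηc
  let eK : K₁ ≃* (pPrimeCore p G) := Subgroup.subgroupOfEquivOfLe hKN
  have hθ₁ : IsIrrCharacter K₁ (fun y => θ (eK y)) :=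
    isIrrCharacter_comp_surjective hθ eK.toMonoidHom eK.surjective
  have hinv₁ : ∀ g : N, conjNormFun K₁ g (fun y => θ (eK y)) = fun y => θ (eK y) := fun g =>
    funext fun y => congrFun (hinv (g : G)) (eK y)
  have hc₁ : classInner (fun y : K₁ => η y) (fun y => θ (eK y)) ≠ 0 := by
    intro h0
    obtain ⟨φ, hφ, hφc⟩ := exists_constituent (isCharacter_restrict (isCharacter_of_irr hη) K₁)
      (fun e => irr_ne_zero hη (congrFun e 1))
    have hne : φ ≠ fun y => θ (eK y) := fun e => hφc (e ▸ h0)
    -- every constituent of `η` on `(pPrimeCore p G)` is a constituent of `χ`, hence equals `θ`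
    have hχφ : classInner (fun y : K₁ => (χ : G → ℂ) (y : N)) φ ≠ 0 := by
      have hmul := CfsgLib.Glauberman.mult_comp N.subtype K₁.subtype χ ⟨φ, hφ⟩
      rw [CfsgLib.Glauberman.mult_spec (N.subtype.comp K₁.subtype) χ ⟨φ, hφ⟩ |>.trans
        (congrArg Nat.cast hmul) |> fun q => show classInner (fun y : K₁ => (χ : G → ℂ) (y : N)) φ = _
          from q]
      rw [Nat.cast_ne_zero]
      intro hs
      have h1 := (Finset.sum_eq_zero_iff.1 hs) ⟨η, hη⟩ (Finset.mem_univ _)
      rcases mul_eq_zero.1 h1 with h2 | h2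
      · refine hηc ?_
        have := CfsgLib.Glauberman.mult_spec N.subtype χ ⟨η, hη⟩
        rwa [h2, Nat.cast_zero] at this
      · refine hφc ?_
        have := CfsgLib.Glauberman.mult_spec K₁.subtype ⟨η, hη⟩ ⟨φ, hφ⟩
        rwa [h2, Nat.cast_zero] at this
    refine hχφ ?_
    have h2 := clifford_invariant (pPrimeCore p G) χ.2 hθ hc hinv
    have e2 : (fun y : K₁ => (χ : G → ℂ) (y : N)) =
        classInner (fun n : (pPrimeCore p G) => (χ : G → ℂ) n) θ • fun y => θ (eK y) :=
      funext fun y => congrFun h2 (eK y)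
    rw [e2, classInner_smul_left, classInner_irr_ne hθ₁ hφ hne.symm, mul_zero]
  have hpK : ¬ p ∣ Nat.card (pPrimeCore p G) := not_dvd_card_pPrimeCore'
  have hη1 : η 1 = θ 1 := by
    have := degree_eq_of_coprime_abelian (K := K₁) hab ?_ hθ₁ hinv₁ hη hc₁
    · rwa [map_one] at this
    · rw [Nat.card_congr eK.toEquiv]
      obtain ⟨k, hk⟩ := relIndex_pPrimePCore (G := G) (p := p)
      have hd : K₁.index ∣ p ^ k := by
        rw [← hk, ← Subgroup.relIndex_mul_relIndex (pPrimeCore p G) N L hKN hNL]
        exact dvd_mul_right _ _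
      exact (((Fact.out : p.Prime).coprime_iff_not_dvd.2 hpK).pow_left k).coprime_dvd_left hd
  obtain ⟨d, hd, hd1⟩ := irr_degree_pos hθ
  have hdK : d ∣ Nat.card (pPrimeCore p G) := by
    obtain ⟨m, ρ, hρ, rfl⟩ := hθ
    rw [ρ.char_one] at hd1
    rw [← (Nat.cast_inj (R := ℂ)).1 hd1]
    exact finrank_dvd_card ρ
  have hdeg : charDegree (χ : G → ℂ) = e * d := by
    have := irr_charDegree_cast χ
    rw [he, hη1, hd1] at this
    exact_mod_cast this
  have he0 : e ≠ 0 := fun h0 => (irr_charDegree_pos χ).ne' (by rw [hdeg, h0, zero_mul])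
  refine le_trans (Nat.sub_le _ _) ?_
  rw [hdeg, Nat.factorization_mul he0 hd.ne', Finsupp.add_apply,
    Nat.factorization_eq_zero_of_not_dvd (fun h => hpK (h.trans hdK)), add_zero]
  refine le_trans ((Nat.factorization_le_iff_dvd he0 Subgroup.index_ne_zero_of_finite).2 hdvd p) ?_
  -- compare with the centre
  have h1 : Nat.card (Subgroup.center (S : Subgroup G)) ∣ Nat.card N := by
    rw [← Subgroup.card_map_of_injective (K := Subgroup.center (S : Subgroup G))
      (S : Subgroup G).subtype_injective]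
    exact Subgroup.card_dvd_of_le hZ
  have h2 := congrArg (fun t => t.factorization p) N.card_mul_index
  have h3 := congrArg (fun t => t.factorization p) (Subgroup.center (S : Subgroup G)).card_mul_index
  simp only [Nat.factorization_mul Nat.card_pos.ne' Subgroup.index_ne_zero_of_finite,
    Finsupp.add_apply] at h2 h3
  have h4 := (Nat.factorization_le_iff_dvd Nat.card_pos.ne' Nat.card_pos.ne').2 h1 p
  have h5 : (Nat.card (S : Subgroup G)).factorization p = (Nat.card G).factorization p := by
    rw [S.card_eq_multiplicity, Nat.Prime.factorization_pow (Fact.out : p.Prime),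
      Finsupp.single_eq_same]
  omega


/-- Let G be a finite p-solvable group and B a p-block of G with defect group P (relative to a maximal ideal M of the algebraic integers containing p). Then the height of every irreducible character in B is at most the exponent of p in the index of the centre of P in P. -/
theorem result {G : Type*} [Group G] [Finite G] (p : ℕ) [Fact p.Prime] (M : Ideal Cfsg.AlgInt) (hM : Cfsg.IsPModular p M) (hsolv : Cfsg.IsPSolvable p G) (B : Set (Cfsg.IrrCharacter G)) (hB : Cfsg.IsPBlock M B) (P : Subgroup G) (hP : Cfsg.IsDefectGroup p M B P) (χ : Cfsg.IrrCharacter G) (hχ : χ ∈ B) : Cfsg.blockHeight p B (χ : G → ℂ) ≤ ((Subgroup.center P).index).factorization p := by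
  haveI := Fintype.ofFinite G
  exact main hM _ G rfl hsolv B hB P hP χ hχ

end Cfsg.Agent.S4439
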