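import Cfsg.Statements.S4442
import Cfsg.Agent.Lib.Blocks.DefectOneBlocks

set_option autoImplicit false
open Cfsg
open CfsgLib.Blocks CfsgLib.Blocks.DefectOne CfsgLib.CharTheory CfsgLib.CharTheory.SmallDegree

namespace Cfsg.Agent.S4442

/-- Blocks of defect one. Let p be an odd prime and G a finite group whose Sylow p-subgroup P has order p; let C = C_G(P) and N = N_G(P), and fix a maximal ideal M of the algebraic integers containing p. Let B be a block of G with defect group P, b a block of C inducing B, and θ the member of b having P in its kernel (there is exactly one). Let T be the stabilizer of θ in N (the elements g ∈ N with θ(g c g⁻¹) = θ(c) for all c ∈ C) and e the index of C in T. Then e divides p − 1 and B contains exactly e + (p − 1)/e irreducible characters. Moreover B is the disjoint union of a set X of e characters and a set Y of (p − 1)/e characters such that, with f the index of C in N: every χ ∈ X has χ(1) ≡ ±(f/e)·θ(1) (mod p), there is one sign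 ε with ψ(1) ≡ ε f θ(1) (mod p) for all ψ ∈ Y, and all members of Y agree on the p-regular elements of G. -/
theorem result {G : Type*} [Group G] [Finite G] (p : ℕ) [Fact p.Prime] (M : Ideal Cfsg.AlgInt) (hM : Cfsg.IsPModular p M) (hodd : p ≠ 2) (P : Sylow p G) (hP : Nat.card P = p) (B : Set (Cfsg.IrrCharacter G)) (hB : Cfsg.IsPBlock M B) (hBP : Cfsg.IsDefectGroup p M B P) (b : Set (Cfsg.IrrCharacter (Subgroup.centralizer ((P : Subgroup G) : Set G)))) (hind : Cfsg.IsInducedBlock M (Subgroup.centralizer ((P : Subgroup G) : Set G)) b B) (θ : Cfsg.IrrCharacter (Subgroup.centralizer ((P : Subgroup G) : Set G))) (hθ : θ ∈ b) (hθP : ∀ x : Subgroup.centralizer ((P : Subgroup G) : Set G), (x : G) ∈ (P : Subgroup G) → (θ : Subgroup.centralizer ((P : Subgroup G) : Set G) → ℂ) x = (θ : Subgroup.centralizer ((P : Subgroup G) : Set G) → ℂ) 1) (T : Subgroup G) (hT : ∀ g : G, g ∈ T ↔ (g ∈ Subgroup.normalizer ((P : Subgroup G) : Set G) ∧ ∀ c c' : Subgroup.centralizer ((P : Subgroup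 G) : Set G), (c' : G) = g * c * g⁻¹ → (θ : Subgroup.centralizer ((P : Subgroup G) : Set G) → ℂ) c' = (θ : Subgroup.centralizer ((P : Subgroup G) : Set G) → ℂ) c)) (e f : ℕ) (he : (Subgroup.centralizer ((P : Subgroup G) : Set G)).relIndex T = e) (hf : (Subgroup.centralizer ((P : Subgroup G) : Set G)).relIndex (Subgroup.normalizer ((P : Subgroup G) : Set G)) = f) : e ∣ p - 1 ∧ Nat.card B = e + (p - 1) / e ∧ ∃ X Y : Set (Cfsg.IrrCharacter G), B = X ∪ Y ∧ Disjoint X Y ∧ Nat.card X = e ∧ Nat.card Y = (p - 1) / e ∧ (∀ χ ∈ X, (Cfsg.charDegree (χ : G → ℂ) : ℤ) ≡ ((f / e * Cfsg.charDegree (θ : Subgroup.centralizer ((P : Subgroup G) : Set G) → ℂ) : ℕ) : ℤ) [ZMOD p] ∨ (Cfsg.charDegree (χ : G → ℂ) : ℤ) ≡ -((f / e * Cfsg.charDegree (θ : Subgroup.centralizer ((P : Subgroup G) : Set G) → ℂ) : ℕ) : ℤ) [ZMOD p]) ∧ (∃ ε : ℤ, (ε = 1 ∨ ε = -1) ∧ ∀ ψ ∈ Y, (Cfsg.charDegree (ψ : G → ℂ) : ℤ) ≡ ε * ((f * Cfsg.charDegree (θ : Subgroup.centralizer ((P : Subgroup G) : Set G) → ℂ) : ℕ) : ℤ)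 [ZMOD p]) ∧ ∀ ψ ∈ Y, ∀ ψ' ∈ Y, ∀ g : G, ¬ p ∣ orderOf g → (ψ : G → ℂ) g = (ψ' : G → ℂ) g := by
  classical
  haveI := Fintype.ofFinite G
  haveI : Fintype (P : Subgroup G) := Fintype.ofFinite _
  haveI : Fintype (cen (P : Subgroup G)) := Fintype.ofFinite _
  have h := setup_sylow P hP
  obtain ⟨H, hH⟩ := exists_Compl h
  haveI : Fintype H := Fintype.ofFinite _
  have hr : Root hM h hH B θ := by
    refine ⟨hP, funext fun x => ?_, ?_⟩
    · show (θ : cen (P : Subgroup G) → ℂ) _ / _ = 1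
      rw [hθP ⟨x, h.le_cent x.2⟩ x.2]
      exact div_self (irr_ne_zero θ.2)
    · rw [← eq_blockOf hM hind.1 hθ]
      exact hind
  have hTeq : T = stab θ := by
    ext g
    rw [hT g]
    constructor
    · rintro ⟨hg, hc⟩
      exact ⟨hg, Subtype.ext (funext fun c => hc c (cEquiv hg c) rfl)⟩
    · rintro ⟨hg, e⟩
      exact ⟨hg, fun c c' hcc => stab_comm (θ := θ) ⟨hg, e⟩ c c' hcc⟩
  subst hTeq
  obtain ⟨X, Y, ε, a, τ, S⟩ := exists_shape hM h hH hr
  have hX : X.card = e := S.cardX.trans he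
  have he0 : 0 < e := by
    rw [← he]; exact Nat.pos_of_ne_zero Subgroup.index_ne_zero_of_finite
  have hY : Y.card = (p - 1) / e := by
    rw [← S.cardY, show (cen (P : Subgroup G)).relIndex (stab θ) = e from he,
      Nat.mul_div_cancel _ he0]
  refine ⟨⟨Y.card, by rw [← S.cardY, show (cen (P : Subgroup G)).relIndex (stab θ) = e from he, mul_comm]⟩,
    ?_, (X : Set _), (Y : Set _), S.union.symm, Finset.disjoint_coe.2 S.disj, (card_coe X).trans hX,
    (card_coe Y).trans hY, fun χ hχ => ?_, ⟨ε, S.hε, fun ψ hψ => ?_⟩,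
    fun ψ hψ ψ' hψ' g hg => S.agree hM hr hψ hψ' hg⟩
  · rw [← S.union, card_union_coe S.disj, hX, hY]
  · have h1 := S.degX hM hr hχ
    rw [show (cen (P : Subgroup G)).relIndex (stab θ) = e from he,
      show (cen (P : Subgroup G)).relIndex (Subgroup.normalizer ((P : Subgroup G) : Set G)) = f from hf] at h1
    rcases S.ha χ hχ with e1 | e1 <;> rw [e1] at h1
    · exact Or.inr (by simpa using h1)
    · exact Or.inl (by simpa using h1)
  · have h1 := S.degY hM hr hψ
    rwa [show (cen (P : Subgroup G)).relIndex (Subgroup.normalizer ((P : Subgroup G) : Set G)) = f from hf] at h1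

end Cfsg.Agent.S4442
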