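import Cfsg.Statements.S4443
import Cfsg.Agent.Lib.Blocks.DefectZeroCount
import Cfsg.Agent.Lib.Blocks.MinMax
-- import your own Cfsg.Agent.* helpers here

set_option autoImplicit false
open Cfsg

namespace Cfsg.Agent.S4443

open CfsgLib.Blocks CfsgLib.CharTheory

set_option linter.style.haveILetI false
set_option linter.unusedSimpArgs false

universe u

theorem rank_of_factor {F : Type*} [Field F] {m r : Type*} [Fintype m] [DecidableEq m] [Fintype r]
    [DecidableEq r] (P : Matrix m r F) (Q : Matrix r m F) (L : Matrix r m F) (R : Matrix m r F)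
    (hL : L * P = 1) (hR : Q * R = 1) : (P * Q).rank = Fintype.card r := by
  refine le_antisymm ((Matrix.rank_mul_le_left P Q).trans (Matrix.rank_le_card_width P)) ?_
  have h : L * (P * Q) * R = 1 := by
    rw [← Matrix.mul_assoc, hL, Matrix.one_mul, hR]
  calc Fintype.card r = (L * (P * Q) * R).rank := by rw [h, Matrix.rank_one]
    _ ≤ (L * (P * Q)).rank := Matrix.rank_mul_le_left _ _
    _ ≤ (P * Q).rank := Matrix.rank_mul_le_right _ _

theorem exists_factor {F : Type*} [Field F] {m : Type*} [Fintype m] [DecidableEq m]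
    (A : Matrix m m F) : ∃ (r : ℕ) (P : Matrix m (Fin r) F) (Q : Matrix (Fin r) m F)
      (L : Matrix (Fin r) m F) (R : Matrix m (Fin r) F), L * P = 1 ∧ Q * R = 1 ∧ P * Q = A := by
  set f := Matrix.toLin' A with hf
  set e := Module.finBasis F (LinearMap.range f)
  set b := Pi.basisFun F m with hb
  obtain ⟨g, hg⟩ := LinearMap.exists_leftInverse_of_injective (LinearMap.range f).subtype
    (Submodule.ker_subtype _)
  obtain ⟨h, hh⟩ := LinearMap.exists_rightInverse_of_surjective f.rangeRestrict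
    f.range_rangeRestrict
  refine ⟨_, LinearMap.toMatrix e b (LinearMap.range f).subtype, LinearMap.toMatrix b e f.rangeRestrict,
    LinearMap.toMatrix b e g, LinearMap.toMatrix e b h, ?_, ?_, ?_⟩
  · rw [← LinearMap.toMatrix_comp, hg, LinearMap.toMatrix_id]
  · rw [← LinearMap.toMatrix_comp, hh, LinearMap.toMatrix_id]
  · rw [← LinearMap.toMatrix_comp, LinearMap.subtype_comp_codRestrict, hf, hb,
      LinearMap.toMatrix_eq_toMatrix', LinearMap.toMatrix'_toLin']

theorem rank_map_field {F K : Type*} [Field F] [Field K] (f : F →+* K) {m : Type*} [Fintype m]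
    [DecidableEq m] (A : Matrix m m F) : (A.map f).rank = A.rank := by
  obtain ⟨r, P, Q, L, R, hL, hR, hA⟩ := exists_factor A
  subst hA
  rw [rank_of_factor P Q L R hL hR, Matrix.map_mul,
    rank_of_factor (P.map f) (Q.map f) (L.map f) (R.map f)
      (by rw [← Matrix.map_mul, hL, Matrix.map_one _ f.map_zero f.map_one])
      (by rw [← Matrix.map_mul, hR, Matrix.map_one _ f.map_zero f.map_one])]

variable {p : ℕ} [hp : Fact p.Prime] {M : Ideal Cfsg.AlgInt} {G : Type u} [Group G] [Fintype G]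

theorem clv_isConj {g h : G} (e : IsConj g h) (χ : Cfsg.IrrCharacter G) : clv g χ = clv h χ := by
  classical
  simp only [clv, centralChar_eq_sum]
  congr 1
  exact Finset.sum_congr (Finset.filter_congr fun y _ => ⟨fun a => e.symm.trans a, e.trans⟩)
    fun _ _ => rfl

theorem centralizer_inv (x : G) :
    Subgroup.centralizer ({x⁻¹} : Set G) = Subgroup.centralizer ({x} : Set G) := by
  ext g
  simp only [Subgroup.mem_centralizer_singleton_iff]
  exact Commute.inv_right_iff

/-- Blocks in which both an idempotent coefficient and a central character are units. -/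
theorem defect_of_units (hM : Cfsg.IsPModular p M) {D : Subgroup G}
    {x y : G} (Q : Sylow p (Subgroup.centralizer ({x} : Set G)))
    (hQ : (Q : Subgroup (Subgroup.centralizer ({x} : Set G))).map
      (Subgroup.centralizer ({x} : Set G)).subtype = D)
    (R : Sylow p (Subgroup.centralizer ({y} : Set G)))
    (hR : (R : Subgroup (Subgroup.centralizer ({y} : Set G))).map
      (Subgroup.centralizer ({y} : Set G)).subtype = D)
    {B : Set (Cfsg.IrrCharacter G)} (hB : Cfsg.IsPBlock M B)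
    (hb : ¬ Cfsg.MemLocalIdeal M (Cfsg.blockCoeff B x)) {χ : Cfsg.IrrCharacter G} (hχ : χ ∈ B)
    (hcl : ¬ Cfsg.MemLocalIdeal M (Cfsg.centralChar (χ : G → ℂ) y)) :
    Cfsg.IsDefectGroup p M B D := by
  obtain ⟨E, hE, hDE⟩ := exists_defectGroup_ge hM hB hb (Q.isPGroup'.map _)
    (Subgroup.map_subtype_le _)
  rw [hQ] at hDE
  obtain ⟨g0, hg0, R0, hR0⟩ := hE
  obtain ⟨z, hz⟩ := sylow_le_conj hM hB hχ (h := y) (l := g0) hcl hg0.2.1
    (hR0 ▸ R0.isPGroup'.map _) (hR0 ▸ Subgroup.map_subtype_le _) R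
  rw [hR] at hz
  have hcard : Nat.card E ≤ Nat.card D := by
    rw [← Subgroup.card_map_of_injective (f := (MulAut.conj z).toMonoidHom) (MulAut.conj z).injective (K := E)]
    exact Nat.card_le_card_of_injective _ (Subgroup.inclusion_injective hz)
  rw [Subgroup.eq_of_le_of_card_ge hDE hcard]
  exact ⟨g0, hg0, R0, hR0⟩

theorem entry (hM : Cfsg.IsPModular p M) (D : Subgroup G) (hD : IsPGroup p D) (S : Sylow p G)
    (Ci Cj : ConjClasses G) (xi xj : G) (hi : ConjClasses.mk xi = Ci) (hj : ConjClasses.mk xj = Cj)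
    (hreg : ¬ p ∣ orderOf xi) (Qi : Sylow p (Subgroup.centralizer ({xi} : Set G)))
    (hQi : (Qi : Subgroup (Subgroup.centralizer ({xi} : Set G))).map
      (Subgroup.centralizer ({xi} : Set G)).subtype = D)
    (Qj : Sylow p (Subgroup.centralizer ({xj} : Set G)))
    (hQj : (Qj : Subgroup (Subgroup.centralizer ({xj} : Set G))).map
      (Subgroup.centralizer ({xj} : Set G)).subtype = D)
    [Fintype {B : Set (Cfsg.IrrCharacter G) // Cfsg.IsPBlock M B ∧ Cfsg.IsDefectGroup p M B D}]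
    (c : {B : Set (Cfsg.IrrCharacter G) // Cfsg.IsPBlock M B ∧ Cfsg.IsDefectGroup p M B D} →
      Cfsg.IrrCharacter G) (hc : ∀ B, c B ∈ B.1) :
    ((Nat.card {yz : G × G // yz.1 ∈ Ci.carrier ∧ yz.2 ∈ Cj.carrier ∧
        yz.2 * yz.1⁻¹ ∈ (S : Subgroup G)} / p ^ ((Nat.card G).factorization p -
          (Nat.card D).factorization p) : ℕ) : Cfsg.AlgInt ⧸ M) *
      ((Nat.card (Subgroup.centralizer ({xi} : Set G)) /
        p ^ (Nat.card D).factorization p : ℕ) : Cfsg.AlgInt ⧸ M) =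
      (((S : Subgroup G).index : ℕ) : Cfsg.AlgInt ⧸ M) *
        ∑ B : {B : Set (Cfsg.IrrCharacter G) // Cfsg.IsPBlock M B ∧ Cfsg.IsDefectGroup p M B D},
          res hM (Cfsg.blockCoeff B.1 xi) * res hM (clv xj (c B)) := by
  classical
  haveI := res_charP hM
  set N := Nat.card {yz : G × G // yz.1 ∈ Ci.carrier ∧ yz.2 ∈ Cj.carrier ∧
        yz.2 * yz.1⁻¹ ∈ (S : Subgroup G)} with hN
  set Sf : Finset G := Finset.univ.filter (· ∈ (S : Subgroup G)) with hSf
  set C := Nat.card (Subgroup.centralizer ({xi} : Set G)) with hC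
  set a := (Nat.card G).factorization p with ha
  set d := (Nat.card D).factorization p with hd
  have hmi : ∀ y, y ∈ Ci.carrier ↔ IsConj xi y := fun y => by
    rw [ConjClasses.mem_carrier_iff_mk_eq, ← hi, eq_comm, ConjClasses.mk_eq_mk_iff_isConj]
  have hmj : ∀ y, y ∈ Cj.carrier ↔ IsConj xj y := fun y => by
    rw [ConjClasses.mem_carrier_iff_mk_eq, ← hj, eq_comm, ConjClasses.mk_eq_mk_iff_isConj]
  have hcount : N = ∑ u ∈ Sf, pairCount xj xi⁻¹ u := by
    simp only [hN, pairCount, Nat.card_eq_fintype_card]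
    rw [← Finset.sum_coe_sort Sf, ← Fintype.card_sigma]
    refine Fintype.card_congr
      { toFun := fun w => ⟨⟨w.1.2 * w.1.1⁻¹, by simp [hSf, w.2.2.2]⟩, ⟨w.1.2, (hmj _).1 w.2.2.1, by
          rw [show (w.1.2)⁻¹ * (w.1.2 * w.1.1⁻¹) = w.1.1⁻¹ by group]
          exact CfsgLib.Blocks.isConj_inv ((hmi _).1 w.2.1)⟩⟩
        invFun := fun w => ⟨((w.1 : G)⁻¹ * (w.2 : G), (w.2 : G)), (hmi _).2 (by
            simpa using CfsgLib.Blocks.isConj_inv w.2.2.2), (hmj _).2 w.2.2.1, by
            show (w.2 : G) * ((w.1 : G)⁻¹ * (w.2 : G))⁻¹ ∈ (S : Subgroup G)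
            rw [show (w.2 : G) * ((w.1 : G)⁻¹ * (w.2 : G))⁻¹ = (w.1 : G) by group]
            exact (Finset.mem_filter.1 w.1.2).2⟩
        left_inv := fun w => Subtype.ext (Prod.ext (by simp) rfl)
        right_inv := fun w => by
          obtain ⟨⟨u, hu⟩, ⟨a, h1, h2⟩⟩ := w
          refine Sigma.subtype_ext ?_ rfl
          exact Subtype.ext (by simp [mul_inv_rev]) }
  have hm : ∀ χ : Cfsg.IrrCharacter G, ∃ m : ℕ,
      ∑ u ∈ Sf, starRingEnd ℂ ((χ : G → ℂ) u) = (Nat.card S : ℂ) * m := by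
    intro χ
    haveI := Fintype.ofFinite (S : Subgroup G)
    obtain ⟨m, hm⟩ := classInner_char_nat isCharacter_one
      (isCharacter_restrict (isCharacter_of_irr χ.2) (S : Subgroup G))
    refine ⟨m, ?_⟩
    rw [← hm, Cfsg.classInner, ← mul_assoc,
      mul_inv_cancel₀ (Nat.cast_ne_zero.2 Nat.card_pos.ne'), one_mul]
    simp only [one_mul]
    exact (Finset.sum_subtype Sf (fun u => by simp [Sf]) (fun u => starRingEnd ℂ ((χ : G → ℂ) u)))
  choose m hm using hm
  set F : Cfsg.IrrCharacter G → ℂ := fun χ => clv xj χ * ((χ : G → ℂ) xi⁻¹ * (m χ : ℂ)) with hF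
  have hsum : ((N * C : ℕ) : ℂ) = ((p ^ a : ℕ) : ℂ) * ∑ χ : Cfsg.IrrCharacter G, F χ := by
    rw [hcount, Nat.cast_mul, Nat.cast_sum, Finset.sum_mul, hC, ← centralizer_inv xi]
    simp only [pairCount_mul]
    rw [Finset.sum_comm]
    simp only [← Finset.mul_sum, hm, S.card_eq_multiplicity, ← ha, hF]
    rw [Finset.mul_sum]
    exact Finset.sum_congr rfl fun χ _ => by ring
  have hFint : ∀ χ, IsIntegral ℤ (F χ) := fun χ => (isIntegral_clv xj χ).mul
    ((isIntegral_of_char (isCharacter_of_irr χ.2) _).mul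
      (by simpa using (isIntegral_algebraMap : IsIntegral ℤ (algebraMap ℤ ℂ (m χ : ℤ)))))
  obtain ⟨z, hz⟩ := exists_int_of_isIntegral_ratCast (q := ((N * C : ℕ) : ℚ) / (p ^ a : ℕ)) (by
    rw [show (((((N * C : ℕ) : ℚ) / (p ^ a : ℕ)) : ℚ) : ℂ) = ∑ χ, F χ by
      push_cast
      rw [div_eq_iff (pow_ne_zero _ (Nat.cast_ne_zero.2 hp.out.ne_zero))]
      have := hsum
      push_cast at this
      rw [this]; ring]
    exact IsIntegral.sum _ fun χ _ => hFint χ)
  have hzN : (N * C : ℤ) = (p : ℤ) ^ a * z := by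
    have h0 : ((p ^ a : ℕ) : ℚ) ≠ 0 := Nat.cast_ne_zero.2 (pow_ne_zero _ hp.out.ne_zero)
    have h1 : ((N * C : ℕ) : ℚ) = (z : ℚ) * (p ^ a : ℕ) := by rw [← hz, div_mul_cancel₀ _ h0]
    have h2 : ((N * C : ℤ) : ℚ) = (((p : ℤ) ^ a * z : ℤ) : ℚ) := by
      push_cast at h1 ⊢
      rw [h1]; ring
    exact_mod_cast h2
  have hCd : C.factorization p = d := by
    rw [hC, hd, ← hQi, Subgroup.card_map_of_injective (Subgroup.subtype_injective _),
      Qi.card_eq_multiplicity, Nat.Prime.factorization_pow hp.out, Finsupp.single_eq_same]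
  have hCmul : p ^ d * (C / p ^ d) = C := Nat.mul_div_cancel' (hCd ▸ Nat.ordProj_dvd C p)
  have hda : d ≤ a := by
    rw [ha, ← hCd, hC]
    exact (Nat.factorization_le_iff_dvd Nat.card_pos.ne' Nat.card_pos.ne').2
      (Subgroup.card_subgroup_dvd_card _) p
  have hNc : ((N * (C / p ^ d) : ℕ) : ℤ) = (p : ℤ) ^ (a - d) * z := by
    refine mul_left_cancel₀ (pow_ne_zero d (show (p : ℤ) ≠ 0 by exact_mod_cast hp.out.ne_zero)) ?_
    rw [← mul_assoc _ _ z, ← pow_add, show d + (a - d) = a by omega, ← hzN]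
    rw [show (p : ℤ) ^ d * ((N * (C / p ^ d) : ℕ) : ℤ) = (N : ℤ) * ((p ^ d * (C / p ^ d) : ℕ) : ℤ) by
      rw [Nat.cast_mul, Nat.cast_mul, Nat.cast_pow]; ring, hCmul]
  have hdiv : p ^ (a - d) ∣ N := by
    have h1 : ((p ^ (a - d) : ℕ) : ℤ) ∣ ((N * (C / p ^ d) : ℕ) : ℤ) :=
      ⟨z, by rw [hNc, Nat.cast_pow]⟩
    refine (Nat.Coprime.pow_left _ ((Nat.Prime.coprime_iff_not_dvd hp.out).2 ?_)).dvd_of_dvd_mul_right
      (Int.natCast_dvd_natCast.1 h1)
    rw [← hCd]
    exact Nat.not_dvd_ordCompl hp.out Nat.card_pos.ne'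
  have hzeq : ((N / p ^ (a - d) * (C / p ^ d) : ℕ) : ℂ) = ∑ χ, F χ := by
    have hpa : ((p ^ a : ℕ) : ℂ) ≠ 0 := Nat.cast_ne_zero.2 (pow_ne_zero _ hp.out.ne_zero)
    refine mul_left_cancel₀ hpa ?_
    rw [← hsum, ← Nat.cast_mul, Nat.cast_inj]
    calc p ^ a * (N / p ^ (a - d) * (C / p ^ d)) =
        (p ^ (a - d) * (N / p ^ (a - d))) * (p ^ d * (C / p ^ d)) := by
          rw [show p ^ a = p ^ (a - d) * p ^ d by rw [← pow_add]; congr 1; omega]; ring
      _ = N * C := by rw [Nat.mul_div_cancel' hdiv, hCmul]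
  -- collect the characters by block
  set idx := ((S : Subgroup G).index : ℕ) with hidx
  have hblock : ∀ B : Set (Cfsg.IrrCharacter G), Cfsg.IsPBlock M B → ∀ χ0 ∈ B,
      ∑ χ ∈ bset B, res hM (F χ) =
        (idx : Cfsg.AlgInt ⧸ M) * res hM (Cfsg.blockCoeff B xi) * res hM (clv xj χ0) := by
    intro B hB χ0 h0
    have hval : ∑ χ ∈ bset B, (χ : G → ℂ) xi⁻¹ * (m χ : ℂ) = (idx : ℂ) * Cfsg.blockCoeff B xi := by
      have hS0 : (Nat.card S : ℂ) ≠ 0 := Nat.cast_ne_zero.2 Nat.card_pos.ne'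
      refine mul_left_cancel₀ hS0 ?_
      rw [← mul_assoc, ← Nat.cast_mul, hidx, Subgroup.card_mul_index, Finset.mul_sum]
      have e : ∀ χ : Cfsg.IrrCharacter G, (Nat.card S : ℂ) * ((χ : G → ℂ) xi⁻¹ * (m χ : ℂ)) =
          ∑ u ∈ Sf, (χ : G → ℂ) xi⁻¹ * (χ : G → ℂ) u⁻¹ := fun χ => by
        rw [mul_left_comm, ← hm χ, Finset.mul_sum]
        simp only [irr_inv]
      simp only [e]
      rw [Finset.sum_comm, Finset.sum_eq_single (1 : G)]
      · rw [Cfsg.blockCoeff, finsum_mem_bset, ← mul_assoc,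
          mul_inv_cancel₀ (Nat.cast_ne_zero.2 Nat.card_pos.ne'), one_mul]
        exact Finset.sum_congr rfl fun χ _ => by rw [irr_conjInv, inv_one, mul_comm]
      · intro u hu hu1
        refine weak_orth hM hB (by rwa [orderOf_inv]) ?_
        rw [orderOf_inv]
        obtain ⟨k, hk⟩ := S.isPGroup' ⟨u, (Finset.mem_filter.1 hu).2⟩
        obtain ⟨k', -, hk'⟩ := (Nat.dvd_prime_pow hp.out).1 (orderOf_dvd_iff_pow_eq_one.2
          (congrArg Subtype.val hk))
        have hk'' : orderOf u = p ^ k' := hk'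
        rw [hk'']
        exact dvd_pow_self p fun e => hu1 (orderOf_eq_one_iff.1 (by rw [hk'', e, pow_zero]))
      · exact fun h => absurd (Finset.mem_filter.2 ⟨Finset.mem_univ _, one_mem _⟩) h
    have hl : ∀ χ : Cfsg.IrrCharacter G, Cfsg.MemLocalRing M ((χ : G → ℂ) xi⁻¹ * (m χ : ℂ)) :=
      fun χ => (loc hM).mul_mem (memRing_irr hM χ _) (memRing_natCast hM _)
    rw [Finset.sum_congr rfl fun χ hχ => show res hM (F χ) =
        res hM (clv xj χ0) * res hM ((χ : G → ℂ) xi⁻¹ * (m χ : ℂ)) by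
      rw [hF, res_mul hM (memRing_clv hM xj χ) (hl χ)]
      congr 1
      exact (sameBlock_iff_res hM χ χ0).1 (sameBlock_of_mem hM hB (mem_bset.1 hχ) h0) xj,
      ← Finset.mul_sum, ← res_sum hM (fun χ _ => hl χ), hval,
      res_mul hM (memRing_natCast hM _) (memRing_blockCoeff hM hB xi), res_natCast]
    ring
  rw [← Nat.cast_mul, ← res_natCast hM, hzeq, res_sum hM (fun χ _ => memRing_of_isIntegral hM (hFint χ)),
    ← Finset.sum_fiberwise Finset.univ (fun χ : Cfsg.IrrCharacter G => Cfsg.blockOf M (χ : G → ℂ)),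
    Finset.mul_sum]
  refine (Finset.sum_bij_ne_zero (fun B _ _ => B.1) (fun B _ _ => Finset.mem_univ _)
    (fun B _ _ B' _ _ e => Subtype.ext e) (fun B _ hB => ?_) (fun B _ _ => ?_)).symm
  · have hne : ∃ χ0 : Cfsg.IrrCharacter G, Cfsg.blockOf M (χ0 : G → ℂ) = B := by
      by_contra h
      push Not at h
      exact hB (Finset.sum_eq_zero fun χ hχ => absurd (Finset.mem_filter.1 hχ).2 (h χ))
    obtain ⟨χ0, rfl⟩ := hne
    have hBb : Cfsg.IsPBlock M (Cfsg.blockOf M (χ0 : G → ℂ)) := blockOf_isPBlock χ0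
    have hfib : (Finset.univ.filter fun χ : Cfsg.IrrCharacter G =>
        Cfsg.blockOf M (χ : G → ℂ) = Cfsg.blockOf M (χ0 : G → ℂ)) = bset (Cfsg.blockOf M (χ0 : G → ℂ)) := by
      ext χ
      rw [Finset.mem_filter, mem_bset]
      exact ⟨fun h => h.2 ▸ mem_blockOf_self hM χ,
        fun h => ⟨Finset.mem_univ _, (eq_blockOf hM hBb h).symm⟩⟩
    rw [hfib, hblock _ hBb χ0 (mem_blockOf_self hM χ0)] at hB
    have hdef : Cfsg.IsDefectGroup p M (Cfsg.blockOf M (χ0 : G → ℂ)) D :=
      defect_of_units hM Qi hQi Qj hQj hBb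
        (fun h => hB (by rw [(res_eq_zero_iff hM (memRing_blockCoeff hM hBb xi)).2 h]; ring))
        (mem_blockOf_self hM χ0)
        (fun h => hB (by
          rw [show res hM (clv xj χ0) = 0 from (res_eq_zero_iff hM (memRing_clv hM xj χ0)).2 h]; ring))
    refine ⟨⟨_, hBb, hdef⟩, Finset.mem_univ _, fun h => hB ?_, rfl⟩
    rw [← mul_assoc] at h
    have e : res hM (clv xj (c ⟨_, hBb, hdef⟩)) = res hM (clv xj χ0) :=
      ((sameBlock_iff_res hM χ0 _).1 (hc ⟨_, hBb, hdef⟩) xj).symm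
    rwa [← e]
  · have hfib : (Finset.univ.filter fun χ : Cfsg.IrrCharacter G =>
        Cfsg.blockOf M (χ : G → ℂ) = B.1) = bset B.1 := by
      ext χ
      rw [Finset.mem_filter, mem_bset]
      exact ⟨fun h => h.2 ▸ mem_blockOf_self hM χ,
        fun h => ⟨Finset.mem_univ _, (eq_blockOf hM B.2.1 h).symm⟩⟩
    rw [hfib, hblock _ B.2.1 (c B) (hc B), mul_assoc]

theorem main (hM : Cfsg.IsPModular p M) (D : Subgroup G) [D.Normal] (hD : IsPGroup p D)
    (S : Sylow p G) {ι : Type*} [Fintype ι] [DecidableEq ι] (K : ι → ConjClasses G)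
    (hKinj : Function.Injective K)
    (hK : ∀ C : ConjClasses G, (∃ i, K i = C) ↔ ∃ x ∈ C.carrier, ¬ p ∣ orderOf x ∧ ∃ Q : Sylow p (Subgroup.centralizer ({x} : Set G)), (Q : Subgroup (Subgroup.centralizer ({x} : Set G))).map (Subgroup.centralizer ({x} : Set G)).subtype = D) :
    Nat.card {B : Set (Cfsg.IrrCharacter G) // Cfsg.IsPBlock M B ∧ Cfsg.IsDefectGroup p M B D} = (Matrix.of fun i j : ι => ((Nat.card {yz : G × G // yz.1 ∈ (K i).carrier ∧ yz.2 ∈ (K j).carrier ∧ yz.2 * yz.1⁻¹ ∈ (S : Subgroup G)} / p ^ ((Nat.card G).factorization p - (Nat.card D).factorization p) : ℕ) : ZMod p)).rank := by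
  classical
  haveI := res_charP hM
  haveI : M.IsMaximal := hM.2.1
  letI : Field (Cfsg.AlgInt ⧸ M) := Ideal.Quotient.field M
  set t := (Nat.card G).factorization p - (Nat.card D).factorization p with ht
  have hrep : ∀ i, ∃ x, ConjClasses.mk x = K i ∧ ¬ p ∣ orderOf x ∧
      ∃ Q : Sylow p (Subgroup.centralizer ({x} : Set G)),
        (Q : Subgroup (Subgroup.centralizer ({x} : Set G))).map
          (Subgroup.centralizer ({x} : Set G)).subtype = D := fun i => by
    obtain ⟨x, hx, h⟩ := (hK (K i)).1 ⟨i, rfl⟩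
    exact ⟨x, ConjClasses.mem_carrier_iff_mk_eq.1 hx, h⟩
  choose x hxK hxreg Q hQ using hrep
  set 𝓑 := {B : Set (Cfsg.IrrCharacter G) // Cfsg.IsPBlock M B ∧ Cfsg.IsDefectGroup p M B D} with h𝓑
  haveI : Fintype 𝓑 := Fintype.ofFinite 𝓑
  have hmem : ∀ B : 𝓑, ∃ χ, χ ∈ B.1 := fun B => block_nonempty hM B.2.1
  choose c hc using hmem
  set U : Matrix ι 𝓑 (Cfsg.AlgInt ⧸ M) := Matrix.of fun i B => res hM (clv (x i) (c B)) with hU
  set W : Matrix 𝓑 ι (Cfsg.AlgInt ⧸ M) := Matrix.of fun B i => res hM (Cfsg.blockCoeff B.1 (x i))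
    with hW
  have hnormal : ∀ y : G, D.map (MulAut.conj y).toMonoidHom = D := fun y =>
    Subgroup.eq_of_le_of_card_ge (by
      rintro _ ⟨d, hd, rfl⟩
      exact ‹D.Normal›.conj_mem d hd y)
      (Subgroup.card_map_of_injective (MulAut.conj y).injective).ge
  -- orthogonality of the two families
  have horth : W * U = 1 := by
    ext B' B
    rw [Matrix.mul_apply, Matrix.one_apply]
    have h1 : omega ((c B) : G → ℂ) (Cfsg.blockCoeff B'.1) = ind B'.1 (c B) := by
      rw [← cf_ind, omega_cf]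
    rw [omega_eq_sum_classes (blockCoeff_isClassFunction B'.1)] at h1
    have hmem2 : ∀ C : ConjClasses G, MemLocalRing M
        (Cfsg.blockCoeff B'.1 (crep C) * Cfsg.centralChar ((c B) : G → ℂ) (crep C)) := fun C =>
      (loc hM).mul_mem (memRing_blockCoeff hM B'.2.1 _) (memRing_clv hM (crep C) (c B))
    have h2 := congrArg (res hM) h1
    rw [res_sum hM (fun C _ => hmem2 C)] at h2
    have h3 : res hM (ind B'.1 (c B)) = if B' = B then 1 else 0 := by
      by_cases h : B' = B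
      · subst h; rw [if_pos rfl, ind_of_mem (hc B'), res_one]
      · rw [if_neg h, ind_of_notMem, res_zero]
        intro hm
        exact h (Subtype.ext ((eq_blockOf hM B'.2.1 hm).trans (eq_blockOf hM B.2.1 (hc B)).symm))
    rw [← h3, ← h2]
    have hfn : ∀ i, crep (K i) = crep (ConjClasses.mk (x i)) := fun i => by rw [hxK]
    refine Finset.sum_bij_ne_zero (fun i _ _ => K i) (fun i _ _ => Finset.mem_univ _)
      (fun i _ _ j _ _ e => hKinj e) (fun C _ hC => ?_) (fun i _ _ => ?_)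
    · set g := crep C with hg
      rw [show Cfsg.centralChar ((c B) : G → ℂ) g = clv g (c B) from rfl] at hC
      rw [res_mul hM (memRing_blockCoeff hM B'.2.1 g) (memRing_clv hM g (c B))] at hC
      have hb : ¬ Cfsg.MemLocalIdeal M (Cfsg.blockCoeff B'.1 g) := fun h =>
        hC (by rw [(res_eq_zero_iff hM (memRing_blockCoeff hM B'.2.1 g)).2 h, zero_mul])
      have hcl : ¬ Cfsg.MemLocalIdeal M (Cfsg.centralChar ((c B) : G → ℂ) g) := fun h =>
        hC (by
          rw [show res hM (clv g (c B)) = 0 from (res_eq_zero_iff hM (memRing_clv hM g (c B))).2 h,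
            mul_zero])
      obtain ⟨R⟩ : Nonempty (Sylow p (Subgroup.centralizer ({g} : Set G))) := inferInstance
      set R' := (R : Subgroup (Subgroup.centralizer ({g} : Set G))).map
        (Subgroup.centralizer ({g} : Set G)).subtype with hR'
      obtain ⟨E, hE, hRE⟩ := exists_defectGroup_ge hM B'.2.1 hb (R.isPGroup'.map _)
        (Subgroup.map_subtype_le _)
      obtain ⟨y, hy⟩ := defectGroup_conjugate hM B'.2.1 B'.2.2 hE
      rw [hnormal] at hy
      obtain ⟨g0, hg0, R0, hR0⟩ := B.2.2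
      obtain ⟨z, hz⟩ := sylow_le_conj hM B.2.1 (hc B) (h := g) (l := g0) hcl hg0.2.1 hD
        (hR0 ▸ Subgroup.map_subtype_le _) R
      rw [hnormal] at hz
      have hRD : R' = D := le_antisymm (hy ▸ hRE) hz
      have hgreg : ¬ p ∣ orderOf g := by
        intro h
        apply hb
        have h0 : Cfsg.blockCoeff B'.1 g = 0 := by
          simp only [Cfsg.blockCoeff, finsum_mem_bset]
          rw [weak_orth_conj hM B'.2.1 (x := 1) (by simpa using hM.1.not_dvd_one) h, mul_zero]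
        rw [h0]; exact memIdeal_zero hM
      obtain ⟨i, hi⟩ := (hK C).2
        ⟨g, ConjClasses.mem_carrier_iff_mk_eq.2 (mk_crep C), hgreg, R, hRD⟩
      refine ⟨i, Finset.mem_univ _, ?_, hi⟩
      have e : IsConj g (x i) := by
        rw [← ConjClasses.mk_eq_mk_iff_isConj, hg, mk_crep, hxK, hi]
      simp only [hW, hU, Matrix.of_apply]
      rw [← classFun_eq_of_isConj (blockCoeff_isClassFunction B'.1) e,
        show clv (x i) (c B) = clv g (c B) from (clv_isConj e (c B)).symm]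
      exact hC
    · have e : IsConj (crep (K i)) (x i) := by rw [hfn]; exact isConj_crep (x i)
      simp only [hW, hU, Matrix.of_apply]
      rw [← classFun_eq_of_isConj (blockCoeff_isClassFunction B'.1) e,
        show clv (x i) (c B) = clv (crep (K i)) (c B) from (clv_isConj e (c B)).symm,
        ← res_mul hM (memRing_blockCoeff hM B'.2.1 _) (memRing_clv hM _ (c B))]
      rfl
  -- the entries
  set cf' : ι → ℕ := fun i =>
    Nat.card (Subgroup.centralizer ({x i} : Set G)) / p ^ (Nat.card D).factorization p with hcf'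
  have hCp : ∀ i, (Nat.card (Subgroup.centralizer ({x i} : Set G))).factorization p =
      (Nat.card D).factorization p := fun i => by
    rw [← hQ i, Subgroup.card_map_of_injective (Subgroup.subtype_injective _),
      (Q i).card_eq_multiplicity, Nat.Prime.factorization_pow hp.out, Finsupp.single_eq_same]
  have hcfu : ∀ i, ((cf' i : ℕ) : Cfsg.AlgInt ⧸ M) ≠ 0 := fun i => by
    rw [Ne, CharP.cast_eq_zero_iff (Cfsg.AlgInt ⧸ M) p, hcf']
    show ¬ p ∣ _ / p ^ (Nat.card D).factorization p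
    rw [← hCp i]
    exact Nat.not_dvd_ordCompl hp.out Nat.card_pos.ne'
  have hidx : (((S : Subgroup G).index : ℕ) : Cfsg.AlgInt ⧸ M) ≠ 0 := by
    rw [Ne, CharP.cast_eq_zero_iff (Cfsg.AlgInt ⧸ M) p]
    exact S.not_dvd_index
  have hentry : ∀ i j, ((Nat.card {yz : G × G // yz.1 ∈ (K i).carrier ∧ yz.2 ∈ (K j).carrier ∧
      yz.2 * yz.1⁻¹ ∈ (S : Subgroup G)} / p ^ t : ℕ) : Cfsg.AlgInt ⧸ M) * (cf' i : Cfsg.AlgInt ⧸ M) =
      (((S : Subgroup G).index : ℕ) : Cfsg.AlgInt ⧸ M) * ∑ B : 𝓑, W B i * U j B := by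
    intro i j
    exact entry hM D hD S (K i) (K j) (x i) (x j) (hxK i) (hxK j) (hxreg i) (Q i) (hQ i) (Q j)
      (hQ j) c hc
  set A : Matrix ι ι (ZMod p) := Matrix.of fun i j => ((Nat.card {yz : G × G // yz.1 ∈ (K i).carrier ∧ yz.2 ∈ (K j).carrier ∧ yz.2 * yz.1⁻¹ ∈ (S : Subgroup G)} / p ^ t : ℕ) : ZMod p) with hA
  have hfac : A.map (ZMod.castHom (dvd_refl p) (Cfsg.AlgInt ⧸ M)) =
      (Matrix.diagonal (fun i => (((S : Subgroup G).index : ℕ) : Cfsg.AlgInt ⧸ M) *
        ((cf' i : ℕ) : Cfsg.AlgInt ⧸ M)⁻¹) * W.transpose) * U.transpose := by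
    ext i j
    rw [Matrix.map_apply, hA, Matrix.of_apply, map_natCast, Matrix.mul_assoc, Matrix.diagonal_mul,
      Matrix.mul_apply]
    simp only [Matrix.transpose_apply]
    rw [eq_comm, mul_right_comm, ← hentry i j, mul_inv_cancel_right₀ (hcfu i)]
  rw [← rank_map_field (ZMod.castHom (dvd_refl p) (Cfsg.AlgInt ⧸ M)) A, hfac,
    rank_of_factor _ _ (U.transpose * Matrix.diagonal (fun i => ((cf' i : ℕ) : Cfsg.AlgInt ⧸ M) *
      (((S : Subgroup G).index : ℕ) : Cfsg.AlgInt ⧸ M)⁻¹)) W.transpose ?_ ?_,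
    Nat.card_eq_fintype_card]
  · rw [Matrix.mul_assoc, ← Matrix.mul_assoc (Matrix.diagonal _), Matrix.diagonal_mul_diagonal]
    have : (fun i => ((cf' i : ℕ) : Cfsg.AlgInt ⧸ M) *
        (((S : Subgroup G).index : ℕ) : Cfsg.AlgInt ⧸ M)⁻¹ *
        ((((S : Subgroup G).index : ℕ) : Cfsg.AlgInt ⧸ M) *
          ((cf' i : ℕ) : Cfsg.AlgInt ⧸ M)⁻¹)) = fun _ => (1 : Cfsg.AlgInt ⧸ M) := funext fun i => by
      field_simp [hcfu i]
    rw [this, Matrix.diagonal_one, Matrix.one_mul, ← Matrix.transpose_mul, horth,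
      Matrix.transpose_one]
  · rw [← Matrix.transpose_mul, horth, Matrix.transpose_one]


/-- Let D be a normal p-subgroup of the finite group G, of order p^d, let p^a be the p-part of the order of G, and fix a Sylow p-subgroup S and a maximal ideal M of the algebraic integers containing p. Index by a finite type ι (via an injective map K) exactly the conjugacy classes of p-regular elements x of G for which D is a Sylow p-subgroup of C_G(x). For classes K_i, K_j let ω(i, j) be the number of pairs (y, z) ∈ K_i × K_j with z y⁻¹ ∈ S; this number is divisible by p^(a−d). Then the number of p-blocks of G having D as a defect group equals the rank over ℤ/pℤ of the matrix with (i, j) entry ω(i, j)/p^(a−d) reduced modulo p. -/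
theorem result {G : Type*} [Group G] [Finite G] (p : ℕ) [Fact p.Prime] (M : Ideal Cfsg.AlgInt) (hM : Cfsg.IsPModular p M) (D : Subgroup G) [D.Normal] (hD : IsPGroup p D) (S : Sylow p G) {ι : Type*} [Fintype ι] [DecidableEq ι] (K : ι → ConjClasses G) (hKinj : Function.Injective K) (hK : ∀ C : ConjClasses G, (∃ i, K i = C) ↔ ∃ x ∈ C.carrier, ¬ p ∣ orderOf x ∧ ∃ Q : Sylow p (Subgroup.centralizer ({x} : Set G)), (Q : Subgroup (Subgroup.centralizer ({x} : Set G))).map (Subgroup.centralizer ({x} : Set G)).subtype = D) : Nat.card {B : Set (Cfsg.IrrCharacter G) // Cfsg.IsPBlock M B ∧ Cfsg.IsDefectGroup p M B D} = (Matrix.of fun i j : ι => ((Nat.card {yz : G × G // yz.1 ∈ (K i).carrier ∧ yz.2 ∈ (K j).carrier ∧ yz.2 * yz.1⁻¹ ∈ (S : Subgroup G)} / p ^ ((Nat.card G).factorization p - (Nat.card D).factorization p) : ℕ) : ZMod p)).rank := by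
  classical
  haveI := Fintype.ofFinite G
  exact main hM D hD S K hKinj hK

end Cfsg.Agent.S4443
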