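import Cfsg.Statements.S4445
import Cfsg.Agent.Lib.Glauberman.Ambient

set_option autoImplicit false
open Cfsg

namespace Cfsg.Agent.S4445

/-- Inside a finite group Γ let the solvable subgroup S normalise G with the orders of G and S coprime. Then the number of S-invariant irreducible characters of G (χ(s g s⁻¹) = χ(g) for all s ∈ S, g ∈ G) equals the number of conjugacy classes of G mapped to themselves by conjugation by every element of S. -/
theorem result {Γ : Type*} [Group Γ] [Fintype Γ] (G S : Subgroup Γ) [Fintype G] (hnorm : ∀ s ∈ S, ∀ g ∈ G, s * g * s⁻¹ ∈ G) (hcop : (Nat.card G).Coprime (Nat.card S)) (hsolv : Group.IsSolvable S) : Nat.card {χ : Cfsg.IrrCharacter G // (∀ s ∈ S, ∀ g g' : G, (g' : Γ) = s * g * s⁻¹ → (χ : G → ℂ) g' = (χ : G → ℂ) g)} = Nat.card {K : ConjClasses G // ∀ s ∈ S, ∀ g g' : G, (g' : Γ) = s * g * s⁻¹ → ConjClasses.mk g = K → ConjClasses.mk g' = K} := by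
  classical
  obtain ⟨φ, hφ⟩ : ∃ φ, φ = CfsgLib.Glauberman.conjHom G S hnorm := ⟨_, rfl⟩
  haveI : Finite Γ := inferInstance
  haveI : Group.IsSolvable φ.range := solvable_of_surjective φ.rangeRestrict_surjective
  have hc : (Nat.card φ.range).Coprime (Nat.card G) :=
    Nat.Coprime.coprime_dvd_left (Subgroup.card_range_dvd φ) hcop.symm
  have h := CfsgLib.Glauberman.card_inv_eq_card_fixed_classes (Nat.card φ.range) G φ.range rfl hc
  refine Eq.trans ?_ (h.trans (Nat.card_congr (Equiv.subtypeEquivRight fun K => ?_)))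
  · exact Nat.card_congr (Equiv.subtypeEquivRight fun χ => by
      rw [CfsgLib.Glauberman.inv_iff G S hnorm, ← hφ, CfsgLib.Glauberman.inv_range_iff])
  · constructor
    · intro hK s hs g g' e hg
      have h1 := hK (φ ⟨s, hs⟩) ⟨⟨s, hs⟩, rfl⟩
      rw [← hg, CfsgLib.Glauberman.classMap_mk] at h1
      rw [← hg, ← h1]
      congr 1
      subst hφ
      exact Subtype.ext e
    · rintro hK _ ⟨s, rfl⟩
      obtain ⟨g, rfl⟩ := ConjClasses.mk_surjective K
      rw [CfsgLib.Glauberman.classMap_mk]
      subst hφ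
      exact hK s s.2 g _ (CfsgLib.Glauberman.conjHom_coe G S hnorm s g) rfl

end Cfsg.Agent.S4445
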