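import Cfsg.Statements.S4446
import Cfsg.Agent.Lib.Glauberman.Cyclic

set_option autoImplicit false
open Cfsg
open CfsgLib.CharTheory CfsgLib.Glauberman.Cyclic

namespace Cfsg.Agent.S4446

/-- Let the finite group Γ be generated by a normal subgroup G and a cyclic subgroup S of coprime orders, C = G ⊓ C(S), and let χ be an S-invariant irreducible character of G with canonical extension χ̂ to Γ (the extension whose determinantal order is coprime to the order of S). Then there are exactly one irreducible character β of C and one sign ε such that χ̂(c s) = ε β(c) for every c ∈ C and every generator s of S; this β is a constituent of the restriction of χ to C; distinct S-invariant χ give distinct β; and every irreducible character of C arises in this way. -/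
theorem result {Γ : Type*} [Group Γ] [Fintype Γ] (G S : Subgroup Γ) [Fintype G] (hnorm : ∀ s ∈ S, ∀ g ∈ G, s * g * s⁻¹ ∈ G) (hcop : (Nat.card G).Coprime (Nat.card S)) (htop : G ⊔ S = ⊤) (hcyc : IsCyclic S) (C : Subgroup Γ) [Fintype C] (hC : C = G ⊓ Subgroup.centralizer (S : Set Γ)) (hCG : C ≤ G) : (∀ (χ : Cfsg.IrrCharacter G) (χh : Cfsg.IrrCharacter Γ), (∀ s ∈ S, ∀ g g' : G, (g' : Γ) = s * g * s⁻¹ → (χ : G → ℂ) g' = (χ : G → ℂ) g) → (∀ g : G, (χh : Γ → ℂ) g = (χ : G → ℂ) g) → (Cfsg.detOrder (χh : Γ → ℂ)).Coprime (Nat.card S) → (∃! βε : Cfsg.IrrCharacter C × ℤ, (βε.2 = 1 ∨ βε.2 = -1) ∧ ∀ c : C, ∀ s : Γ, Subgroup.zpowers s = S → (χh : Γ → ℂ) ((c : Γ) * s) = (βε.2 : ℂ) * (βε.1 : C → ℂ) c) ∧ ∀ β : Cfsg.IrrCharacter C, ∀ ε : ℤ, (ε = 1 ∨ ε = -1) → (∀ c : C, ∀ s : Γ, Subgroup.zpowers s = S → (χh : Γ → ℂ) ((c : Γ) * s) = (ε : ℂ) * (β : C → ℂ) c) → Cfsg.classInner (fun c : C => (χ : G → ℂ) ⟨c, hCG c.2⟩)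 (β : C → ℂ) ≠ 0) ∧ (∀ (χ χ' : Cfsg.IrrCharacter G) (χh χh' : Cfsg.IrrCharacter Γ), (∀ s ∈ S, ∀ g g' : G, (g' : Γ) = s * g * s⁻¹ → (χ : G → ℂ) g' = (χ : G → ℂ) g) → (∀ s ∈ S, ∀ g g' : G, (g' : Γ) = s * g * s⁻¹ → (χ' : G → ℂ) g' = (χ' : G → ℂ) g) → (∀ g : G, (χh : Γ → ℂ) g = (χ : G → ℂ) g) → (∀ g : G, (χh' : Γ → ℂ) g = (χ' : G → ℂ) g) → (Cfsg.detOrder (χh : Γ → ℂ)).Coprime (Nat.card S) → (Cfsg.detOrder (χh' : Γ → ℂ)).Coprime (Nat.card S) → ∀ β : Cfsg.IrrCharacter C, ∀ ε ε' : ℤ, (ε = 1 ∨ ε = -1) → (ε' = 1 ∨ ε' = -1) → (∀ c : C, ∀ s : Γ, Subgroup.zpowers s = S → (χh : Γ → ℂ) ((c : Γ) * s) = (ε : ℂ) * (β : C → ℂ) c) → (∀ c : C, ∀ s : Γ, Subgroup.zpowers s = S → (χh' : Γ → ℂ) ((c : Γ) * s) = (ε' : ℂ) * (β : C → ℂ) c) → χ = χ') ∧ (∀ β : Cfsg.IrrCharacter C, ∃ (χ : Cfsg.IrrCharacter G) (χh : Cfsg.IrrCharacter Γ) (ε : ℤ), (∀ s ∈ S, ∀ g g' : G, (g' : Γ) = s * g * s⁻¹ → (χ : G → ℂ) g' = (χ : G → ℂ) g) ∧ (∀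 g : G, (χh : Γ → ℂ) g = (χ : G → ℂ) g) ∧ (Cfsg.detOrder (χh : Γ → ℂ)).Coprime (Nat.card S) ∧ (ε = 1 ∨ ε = -1) ∧ ∀ c : C, ∀ s : Γ, Subgroup.zpowers s = S → (χh : Γ → ℂ) ((c : Γ) * s) = (ε : ℂ) * (β : C → ℂ) c) := by
  classical
  have D := mk_data G S hnorm hcop htop hcyc
  obtain ⟨s, hs⟩ : ∃ s : Γ, Subgroup.zpowers s = S :=
    ⟨(hcyc.exists_generator.choose : Γ), le_antisymm (Subgroup.zpowers_le.2 hcyc.exists_generator.choose.2)
      fun x hx => by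
        obtain ⟨i, hi⟩ := Subgroup.mem_zpowers_iff.1 (hcyc.exists_generator.choose_spec ⟨x, hx⟩)
        exact Subgroup.mem_zpowers_iff.2 ⟨i, by simpa using congrArg Subtype.val hi⟩⟩
  have hsS : s ∈ S := hs ▸ Subgroup.mem_zpowers s
  have uniq : ∀ (f : C → ℂ) (β β' : IrrCharacter C) (ε ε' : ℤ), (ε = 1 ∨ ε = -1) →
      (ε' = 1 ∨ ε' = -1) → (∀ c, f c = (ε : ℂ) * (β : C → ℂ) c) →
      (∀ c, f c = (ε' : ℂ) * (β' : C → ℂ) c) → β = β' ∧ ε = ε' := by
    intro f β β' ε ε' hε hε' h h'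
    obtain ⟨d, hd, ed⟩ := irr_degree_pos β.2
    obtain ⟨d', hd', ed'⟩ := irr_degree_pos β'.2
    have e1 := (h 1).symm.trans (h' 1)
    rw [ed, ed'] at e1
    have e2 : ε * (d : ℤ) = ε' * (d' : ℤ) := by exact_mod_cast e1
    have e3 : ε = ε' := by
      rcases hε with rfl | rfl <;> rcases hε' with rfl | rfl <;> omega
    subst e3
    refine ⟨Subtype.ext (funext fun c => ?_), rfl⟩
    refine mul_left_cancel₀ ?_ ((h c).symm.trans (h' c))
    rcases hε with rfl | rfl <;> simp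
  refine ⟨fun χ χh hinv hext hdet => ?_, ?_, fun β₀ => ?_⟩
  · have hh := isCanon_of_coprime (S := S) (isCharacter_of_irr χ.2) χh.2 hext hdet
    obtain ⟨β, ε, hε, hval⟩ := exists_correspondent D hC hs χ hh
    refine ⟨⟨(β, ε), ⟨hε, fun c t ht => hval t ht c⟩, ?_⟩, fun β' ε' hε' h' =>
      constituent hC hCG hsS (isCharacter_of_irr χh.2) hext β' hε' fun c => h' c s hs⟩
    rintro ⟨β', ε'⟩ ⟨hε', h'⟩
    obtain ⟨rfl, rfl⟩ := uniq _ β β' ε ε' hε hε' (hval s hs) (fun c => h' c s hs)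
    rfl
  · intro χ χ' χh χh' hinv hinv' hext hext' hdet hdet' β ε ε' hε hε' h h'
    by_contra hne
    have ho := slice_orth D hC hs
      (isCanon_of_coprime (S := S) (isCharacter_of_irr χ.2) χh.2 hext hdet)
      (isCanon_of_coprime (S := S) (isCharacter_of_irr χ'.2) χh'.2 hext' hdet')
    rw [if_neg hne, show slice C s (χh : Γ → ℂ) = (ε : ℂ) • (β : C → ℂ) from funext fun c => h c s hs,
      show slice C s (χh' : Γ → ℂ) = (ε' : ℂ) • (β : C → ℂ) from funext fun c => h' c s hs,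
      classInner_smul_left, classInner_smul_right, classInner_irr_self β.2] at ho
    rcases hε with rfl | rfl <;> rcases hε' with rfl | rfl <;> simp at ho
  · let I := {χ : IrrCharacter G // ∀ t ∈ S, ∀ g g' : G, (g' : Γ) = t * g * t⁻¹ →
      (χ : G → ℂ) g' = (χ : G → ℂ) g}
    choose ext h1 h2 h3 using fun χ : I => exists_canon D χ.1.2 χ.2
    have hh := fun χ : I => isCanon_of_coprime (S := S) (isCharacter_of_irr χ.1.2) (h1 χ) (h2 χ) (h3 χ)
    choose b e he hb using fun χ : I => exists_correspondent D hC hs χ.1 (hh χ)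
    have hinj : Function.Injective b := by
      intro χ χ' hbb
      by_contra hne
      have ho := slice_orth D hC hs (hh χ) (hh χ')
      rw [if_neg (fun q => hne (Subtype.ext q)),
        show slice C s (ext χ) = (e χ : ℂ) • (b χ : C → ℂ) from funext fun c => hb χ s hs c,
        show slice C s (ext χ') = (e χ' : ℂ) • (b χ' : C → ℂ) from funext fun c => hb χ' s hs c,
        hbb, classInner_smul_left, classInner_smul_right, classInner_irr_self (b χ').2] at ho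
      rcases he χ with h | h <;> rcases he χ' with h' | h' <;> simp [h, h'] at ho
    have hbij := (Nat.bijective_iff_injective_and_card b).2
      ⟨hinj, card_invariant D hnorm hC⟩
    obtain ⟨χ, rfl⟩ := hbij.2 β₀
    exact ⟨χ.1, ⟨ext χ, h1 χ⟩, e χ, χ.2, h2 χ, h3 χ, he χ, fun c t ht => hb χ t ht c⟩

end Cfsg.Agent.S4446
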