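import Cfsg.Statements.S4447
import Cfsg.Agent.Lib.Glauberman.Invariant

set_option autoImplicit false
open Cfsg

namespace Cfsg.Agent.S4447

/-- Inside a finite group Γ let S normalise G and also normalise a normal subgroup N of G, with the order of S coprime to the index of N in G and S or G/N solvable. Then for every S-invariant irreducible character χ of G, the restriction of χ to N has an S-invariant irreducible constituent. -/
theorem result {Γ : Type*} [Group Γ] [Fintype Γ] (G S N : Subgroup Γ) [Fintype G] [Fintype N] (hnorm : ∀ s ∈ S, ∀ g ∈ G, s * g * s⁻¹ ∈ G) (hNG : N ≤ G) [hNn : (N.subgroupOf G).Normal] (hNS : ∀ s ∈ S, ∀ n ∈ N, s * n * s⁻¹ ∈ N) (hcop : (N.relIndex G).Coprime (Nat.card S)) (hsolv : Group.IsSolvable S ∨ Group.IsSolvable (G ⧸ N.subgroupOf G)) (χ : Cfsg.IrrCharacter G) (hinv : (∀ s ∈ S, ∀ g g' : G, (g' : Γ) = s * g * s⁻¹ → (χ : G → ℂ) g' = (χ : G → ℂ) g)) : ∃ θ : Cfsg.IrrCharacter N, Cfsg.classInner (fun n : N =>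 (χ : G → ℂ) ⟨n, hNG n.2⟩) (θ : N → ℂ) ≠ 0 ∧ (∀ s ∈ S, ∀ g g' : N, (g' : Γ) = s * g * s⁻¹ → (θ : N → ℂ) g' = (θ : N → ℂ) g) := by
  classical
  set U : Subgroup Γ := G ⊔ S with hU
  have hGN : ∀ g ∈ G, ∀ n ∈ N, g * n * g⁻¹ ∈ N := fun g hg n hn =>
    hNn.conj_mem ⟨n, hNG hn⟩ hn ⟨g, hg⟩
  have hUle : ∀ (K : Subgroup Γ), (∀ g ∈ G, ∀ k ∈ K, g * k * g⁻¹ ∈ K) →
      (∀ g ∈ S, ∀ k ∈ K, g * k * g⁻¹ ∈ K) → U ≤ Subgroup.normalizer (K : Set Γ) := by
    intro K h1 h2
    refine sup_le ?_ ?_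
    · exact fun g hg => Subgroup.mem_normalizer_iff.2 fun k =>
        ⟨fun hk => h1 g hg k hk, fun hk => by simpa [mul_assoc] using h1 g⁻¹ (G.inv_mem hg) _ hk⟩
    · exact fun g hg => Subgroup.mem_normalizer_iff.2 fun k =>
        ⟨fun hk => h2 g hg k hk, fun hk => by simpa [mul_assoc] using h2 g⁻¹ (S.inv_mem hg) _ hk⟩
  have hNU := hUle N hGN hNS
  have hGU := hUle G (fun g hg k hk => G.mul_mem (G.mul_mem hg hk) (G.inv_mem hg)) hnorm
  set G₀ := G.subgroupOf U with hG₀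
  set N₀ := N.subgroupOf U with hN₀
  haveI : G₀.Normal := ⟨fun x hx u => (Subgroup.mem_normalizer_iff.1 (hGU u.2) (x : Γ)).1 hx⟩
  haveI : N₀.Normal := ⟨fun x hx u => (Subgroup.mem_normalizer_iff.1 (hNU u.2) (x : Γ)).1 hx⟩
  -- conjugation on `N`
  let c : U → N → N := fun u n =>
    ⟨u * n * (u : Γ)⁻¹, (Subgroup.mem_normalizer_iff.1 (hNU u.2) (n : Γ)).1 n.2⟩
  have cmul : ∀ u v n, c (u * v) n = c u (c v n) := fun u v n => Subtype.ext (by simp [c, mul_assoc])
  have cone : ∀ n, c 1 n = n := fun n => Subtype.ext (by simp [c])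
  let χN : N → ℂ := fun n => (χ : G → ℂ) ⟨n, hNG n.2⟩
  -- the restriction of `χ` is invariant
  let I : Subgroup U :=
    { carrier := {u | ∀ n, χN (c u n) = χN n}
      one_mem' := fun n => by rw [cone]
      mul_mem' := fun {u v} hu hv n => by rw [cmul, hu, hv]
      inv_mem' := fun {u} hu n => by
        rw [← hu (c u⁻¹ n), ← cmul, mul_inv_cancel, cone] }
  have hI : ∀ u : U, ∀ n, χN (c u n) = χN n := by
    suffices h : U ≤ I.map U.subtype by
      intro u
      obtain ⟨v, hv, e⟩ := h u.2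
      rwa [← show v = u from Subtype.ext e]
    refine sup_le (fun g hg => ⟨⟨g, Subgroup.mem_sup_left hg⟩, fun n => ?_, rfl⟩)
      (fun s hs => ⟨⟨s, Subgroup.mem_sup_right hs⟩, fun n => ?_, rfl⟩)
    · exact CfsgLib.CharTheory.isClassFunction_irr χ.2 ⟨n, hNG n.2⟩ ⟨g, hg⟩
    · exact hinv s hs ⟨n, hNG n.2⟩ ⟨_, hNG (c ⟨s, Subgroup.mem_sup_right hs⟩ n).2⟩ rfl
  -- a constituent
  have hresc : IsCharacter N χN :=
    CfsgLib.CharTheory.isCharacter_comp (CfsgLib.CharTheory.isCharacter_of_irr χ.2)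
      (Subgroup.inclusion hNG)
  obtain ⟨θ₀, hθ₀, hθc⟩ := CfsgLib.CharTheory.exists_constituent hresc (fun e0 =>
    CfsgLib.CharTheory.irr_ne_zero χ.2 (by
      exact congrFun e0 1))
  let tw : U → IrrCharacter N := fun u => ⟨fun n => θ₀ (c u n),
    CfsgLib.CharTheory.isIrrCharacter_comp_surjective hθ₀
      { toFun := c u, map_one' := Subtype.ext (by simp [c])
        map_mul' := fun a b => Subtype.ext (by simp [c, mul_assoc]) }
      fun n => ⟨c u⁻¹ n, by show c u (c u⁻¹ n) = n; rw [← cmul, mul_inv_cancel, cone]⟩⟩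
  have htw : ∀ u, classInner χN (tw u : N → ℂ) ≠ 0 := by
    intro u
    refine Eq.trans_ne ?_ hθc
    unfold classInner
    congr 1
    refine Fintype.sum_equiv
      { toFun := c u, invFun := c u⁻¹, left_inv := fun n => by rw [← cmul, inv_mul_cancel, cone]
        right_inv := fun n => by rw [← cmul, mul_inv_cancel, cone] } _ _ fun n => ?_
    show χN n * _ = χN (c u n) * _
    rw [hI u n]
    rfl
  let H : Subgroup U :=
    { carrier := {u | ∀ n, θ₀ (c u n) = θ₀ n}
      one_mem' := fun n => by rw [cone]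
      mul_mem' := fun {u v} hu hv n => by rw [cmul, hu, hv]
      inv_mem' := fun {u} hu n => by
        rw [← hu (c u⁻¹ n), ← cmul, mul_inv_cancel, cone] }
  have hN₀H : N₀ ≤ H := fun u hu n =>
    (congrArg θ₀ (Subtype.ext rfl : c u n = (⟨u, hu⟩ : N) * n * (⟨u, hu⟩ : N)⁻¹)).trans
      (CfsgLib.CharTheory.isClassFunction_irr hθ₀ n ⟨u, hu⟩)
  -- transitivity
  set N' := N.subgroupOf G with hN'
  haveI := Fintype.ofFinite N'
  let e : N' ≃* N := Subgroup.subgroupOfEquivOfLe hNG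
  have hcong : ∀ f : N → ℂ, classInner (fun x : N' => (χ : G → ℂ) x) (fun x => f (e x)) =
      classInner χN f := by
    intro f
    simp only [classInner]
    rw [Nat.card_congr e.toEquiv]
    congr 1
    exact Fintype.sum_equiv e.toEquiv _ _ fun x => rfl
  have htrans : ∀ u : U, ∃ g : G, (⟨g, Subgroup.mem_sup_left g.2⟩ : U) * u⁻¹ ∈ H := by
    intro u
    have hirr : IsIrrCharacter N' (fun x => θ₀ (e x)) :=
      CfsgLib.CharTheory.isIrrCharacter_comp_surjective hθ₀ e.toMonoidHom e.surjective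
    have h1 : classInner (fun x : N' => (χ : G → ℂ) x) (fun x => θ₀ (e x)) ≠ 0 := by
      rw [hcong]; exact hθc
    have h2 : classInner (fun x : N' => (χ : G → ℂ) x) (fun x => (tw u : N → ℂ) (e x)) ≠ 0 := by
      rw [hcong]; exact htw u
    have hirr2 : IsIrrCharacter N' (fun x => (tw u : N → ℂ) (e x)) :=
      CfsgLib.CharTheory.isIrrCharacter_comp_surjective (tw u).2 e.toMonoidHom e.surjective
    obtain ⟨g, hg⟩ : ∃ g : G, CfsgLib.CharTheory.conjNormFun N' g (fun x => θ₀ (e x)) =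
        fun x => (tw u : N → ℂ) (e x) := by
      rw [← CfsgLib.CharTheory.mem_conjOrbit]
      by_contra hno
      refine h2 ?_
      rw [CfsgLib.CharTheory.clifford N' χ.2 hirr h1, CfsgLib.CharTheory.classInner_smul_left,
        CfsgLib.CharTheory.classInner_sum_left, Finset.sum_eq_zero, mul_zero]
      intro ψ hψ
      obtain ⟨a, rfl⟩ := (CfsgLib.CharTheory.mem_conjOrbit N').1 hψ
      exact CfsgLib.CharTheory.classInner_irr_ne (CfsgLib.CharTheory.isIrr_conjNormFun N' a hirr)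
        hirr2 fun q => hno (q ▸ hψ)
    refine ⟨g, fun n => ?_⟩
    have h3 := congrFun hg (e.symm (c u⁻¹ n))
    simp only [MulEquiv.apply_symm_apply] at h3
    have h4 : (tw u : N → ℂ) (c u⁻¹ n) = θ₀ n := by
      show θ₀ (c u (c u⁻¹ n)) = θ₀ n
      rw [← cmul, mul_inv_cancel, cone]
    rw [h4] at h3
    refine Eq.trans ?_ h3
    rw [cmul]
    exact congrArg θ₀ (Subtype.ext rfl)
  let π := QuotientGroup.mk' N₀
  have hsurj := QuotientGroup.mk'_surjective N₀
  haveI : (G₀.map π).Normal := Subgroup.Normal.map inferInstance _ hsurj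
  have hGS : G₀ ⊔ S.subgroupOf U = ⊤ := by
    rw [hG₀, hU, ← Subgroup.subgroupOf_sup le_sup_left le_sup_right, Subgroup.subgroupOf_self]
  have hQS : G₀.map π ⊔ (S.subgroupOf U).map π = ⊤ := by
    rw [← Subgroup.map_sup, hGS, Subgroup.map_top_of_surjective π hsurj]
  have hQH : G₀.map π ⊔ H.map π = ⊤ := by
    rw [← Subgroup.map_sup, eq_top_iff]
    rintro x -
    obtain ⟨u, rfl⟩ := hsurj x
    refine ⟨u, ?_, rfl⟩
    obtain ⟨g, hg⟩ := htrans u
    have hm : ((⟨g, Subgroup.mem_sup_left g.2⟩ : U) * u⁻¹)⁻¹ * ⟨g, Subgroup.mem_sup_left g.2⟩ ∈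
        G₀ ⊔ H :=
      Subgroup.mul_mem _ (Subgroup.inv_mem _ (Subgroup.mem_sup_right hg))
        (Subgroup.mem_sup_left g.2)
    simpa using hm
  have hcard : Nat.card (G₀.map π) = N.relIndex G := by
    rw [← Subgroup.relIndex_ker, QuotientGroup.ker_mk', hN₀, hG₀,
      Subgroup.relIndex_subgroupOf le_sup_left]
  obtain ⟨g₀, hg₀⟩ := CfsgLib.Glauberman.Invariant.exists_conj_le (G₀.map π)
    ((S.subgroupOf U).map π) (H.map π) (by
      rw [hcard]
      refine hcop.coprime_dvd_right ((Subgroup.card_map_dvd _ _).trans ?_)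
      rw [Nat.card_congr (Subgroup.subgroupOfEquivOfLe (le_sup_right : S ≤ U)).toEquiv])
    hQS hQH (by
      rcases hsolv with h | h
      · refine Or.inr ?_
        let f : S →* (U ⧸ N₀) ⧸ G₀.map π := (QuotientGroup.mk' _).comp
          (π.comp (Subgroup.inclusion (le_sup_right : S ≤ U)))
        refine Group.isSolvable_of_surjective (f := f) fun y => ?_
        obtain ⟨x, rfl⟩ := QuotientGroup.mk'_surjective _ y
        obtain ⟨u, rfl⟩ := hsurj x
        have hu : u ∈ G₀ ⊔ S.subgroupOf U := hGS ▸ Subgroup.mem_top u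
        rw [Subgroup.mem_sup_of_normal_left] at hu
        obtain ⟨a, ha, b, hb, rfl⟩ := hu
        refine ⟨⟨(b : Γ), hb⟩, ?_⟩
        show QuotientGroup.mk' (G₀.map π) (π b) = QuotientGroup.mk' (G₀.map π) (π (a * b))
        rw [map_mul, map_mul, show QuotientGroup.mk' (G₀.map π) (π a) = 1 from
          (QuotientGroup.eq_one_iff _).2 (Subgroup.mem_map_of_mem π ha), one_mul]
      · refine Or.inl ?_
        let f : G →* G₀.map π :=
          (π.subgroupMap G₀).comp (Subgroup.subgroupOfEquivOfLe (le_sup_left : G ≤ U)).symm.toMonoidHom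
        refine Group.isSolvable_of_surjective (f := QuotientGroup.lift N' f fun x hx => ?_) fun y => ?_
        · apply Subtype.ext
          exact (QuotientGroup.eq_one_iff _).2 hx
        · obtain ⟨z, rfl⟩ := π.subgroupMap_surjective G₀ y
          exact ⟨(⟨(z : U), z.2⟩ : G), rfl⟩)
  obtain ⟨g, rfl⟩ := hsurj g₀
  refine ⟨tw g, htw g, fun s hs n n' hn => ?_⟩
  obtain ⟨h, hh, hhe⟩ := hg₀ (π ⟨s, Subgroup.mem_sup_right hs⟩) ⟨⟨s, Subgroup.mem_sup_right hs⟩, hs, rfl⟩
  have hmem : g * ⟨s, Subgroup.mem_sup_right hs⟩ * g⁻¹ ∈ H := by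
    have h1 : h⁻¹ * (g * ⟨s, Subgroup.mem_sup_right hs⟩ * g⁻¹) ∈ N₀ := by
      rw [← QuotientGroup.eq_one_iff]
      show π (h⁻¹ * _) = 1
      rw [map_mul, map_inv, hhe, map_mul, map_mul, map_inv, inv_mul_cancel]
    simpa using H.mul_mem hh (hN₀H h1)
  show θ₀ (c g n') = θ₀ (c g n)
  rw [← hmem (c g n), ← cmul]
  refine congrArg θ₀ (Subtype.ext ?_)
  simp [c, hn, mul_assoc]

end Cfsg.Agent.S4447
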