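import Cfsg.Statements.S4448
import Cfsg.Agent.Lib.Glauberman.Invariant

set_option autoImplicit false
open Cfsg

namespace Cfsg.Agent.S4448

/-- Inside a finite group Γ let S normalise G and also normalise a normal subgroup N of G, with the order of S coprime to the index of N in G and G/N solvable. Then for every S-invariant irreducible character ϑ of N, the induced character ϑ^G has an S-invariant irreducible constituent. -/
theorem result {Γ : Type*} [Group Γ] [Fintype Γ] (G S N : Subgroup Γ) [Fintype G] [Fintype N] (hnorm : ∀ s ∈ S, ∀ g ∈ G, s * g * s⁻¹ ∈ G) (hNG : N ≤ G) [hNn : (N.subgroupOf G).Normal] (hNS : ∀ s ∈ S, ∀ n ∈ N, s * n * s⁻¹ ∈ N) (hcop : (N.relIndex G).Coprime (Nat.card S)) (hsolv : Group.IsSolvable (G ⧸ N.subgroupOf G)) (θ : Cfsg.IrrCharacter N) (hinv : (∀ s ∈ S, ∀ g g' : N, (g' : Γ) = s * g * s⁻¹ → (θ : N → ℂ) g' = (θ : N → ℂ) g)) : ∃ χ : Cfsg.IrrCharacter G, Cfsg.classInner (fun n : N => (χ : G → ℂ) ⟨n,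 hNG n.2⟩) (θ : N → ℂ) ≠ 0 ∧ (∀ s ∈ S, ∀ g g' : G, (g' : Γ) = s * g * s⁻¹ → (χ : G → ℂ) g' = (χ : G → ℂ) g) := by
  classical
  set φ := CfsgLib.Glauberman.conjHom G S hnorm with hφ
  set N' := N.subgroupOf G with hN'
  haveI := Fintype.ofFinite N'
  let e : N' ≃* N := Subgroup.subgroupOfEquivOfLe hNG
  let θ' : IrrCharacter N' := ⟨fun x => (θ : N → ℂ) (e x),
    CfsgLib.CharTheory.isIrrCharacter_comp_surjective θ.2 e.toMonoidHom e.surjective⟩
  obtain ⟨i, hi⟩ := Group.IsSolvable.solvable (G := G ⧸ N')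
  obtain ⟨χ, hχ, hm⟩ := CfsgLib.Glauberman.Invariant.exists_inv_over_of_solvable N'.index φ ⊥ N' rfl
    (fun s x hx => hNS s s.2 x hx)
    (fun k hk => ⟨1, N'.one_mem, fun g => by
      rw [Subgroup.mem_bot.1 hk, map_one]; simp⟩)
    (by rw [Subgroup.index_bot]; exact hcop.symm)
    ⟨i, fun x hx => by
      rw [← QuotientGroup.eq_one_iff, ← Subgroup.mem_bot, ← hi,
        ← map_derivedSeries_eq (f := QuotientGroup.mk' N') (QuotientGroup.mk'_surjective N')]
      exact ⟨x, hx, rfl⟩⟩ θ'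
    (fun s x y hxy => hinv s s.2 (e x) (e y) (congrArg Subtype.val hxy))
  refine ⟨χ, fun h0 => hm ?_, (CfsgLib.Glauberman.inv_iff G S hnorm (χ : G → ℂ)).2 hχ⟩
  rw [CfsgLib.Glauberman.mult_congr (Subgroup.inclusion hNG) N'.subtype e (fun x => rfl) χ θ θ'
    (fun x => rfl)]
  apply CfsgLib.Glauberman.mult_eq
  rw [Nat.cast_zero]
  exact h0

end Cfsg.Agent.S4448
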