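import Cfsg.Statements.S4449
import Cfsg.Agent.Lib.Glauberman.Ambient

set_option autoImplicit false
open Cfsg

namespace Cfsg.Agent.S4449

/-- Inside a finite group Γ let the solvable subgroup S normalise G with the orders of G and S coprime, and let N be a normal subgroup of G normalised by S. Then for every S-invariant irreducible character ϑ of N, the induced character ϑ^G has an S-invariant irreducible constituent. -/
theorem result {Γ : Type*} [Group Γ] [Fintype Γ] (G S N : Subgroup Γ) [Fintype G] [Fintype N] (hnorm : ∀ s ∈ S, ∀ g ∈ G, s * g * s⁻¹ ∈ G) (hNG : N ≤ G) (hNnormal : ∀ g ∈ G, ∀ n ∈ N, g * n * g⁻¹ ∈ N) (hNS : ∀ s ∈ S, ∀ n ∈ N, s * n * s⁻¹ ∈ N) (hcop : (Nat.card G).Coprime (Nat.card S)) (hsolv : Group.IsSolvable S) (θ : Cfsg.IrrCharacter N) (hinv : (∀ s ∈ S, ∀ g g' : N, (g' : Γ) = s * g * s⁻¹ → (θ : N → ℂ) g' = (θ : N → ℂ) g)) : ∃ χ : Cfsg.IrrCharacter G, Cfsg.classInner (fun n : N => (χ : G → ℂ) ⟨n,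 hNG n.2⟩) (θ : N → ℂ) ≠ 0 ∧ (∀ s ∈ S, ∀ g g' : G, (g' : Γ) = s * g * s⁻¹ → (χ : G → ℂ) g' = (χ : G → ℂ) g) := by
  classical
  obtain ⟨φ, hφ⟩ : ∃ φ, φ = CfsgLib.Glauberman.conjHom G S hnorm := ⟨_, rfl⟩
  haveI : Group.IsSolvable φ.range := solvable_of_surjective φ.rangeRestrict_surjective
  have hc : (Nat.card φ.range).Coprime (Nat.card G) :=
    Nat.Coprime.coprime_dvd_left (Subgroup.card_range_dvd φ) hcop.symm
  haveI hNn : (N.subgroupOf G).Normal := ⟨fun n hn g => hNnormal g g.2 n hn⟩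
  haveI := Fintype.ofFinite (N.subgroupOf G)
  let e : ↥(N.subgroupOf G) ≃* ↥N := Subgroup.subgroupOfEquivOfLe hNG
  let θ' : Cfsg.IrrCharacter ↥(N.subgroupOf G) :=
    ⟨fun x => (θ : N → ℂ) (e x),
      CfsgLib.CharTheory.isIrrCharacter_comp_surjective θ.2 e.toMonoidHom e.surjective⟩
  obtain ⟨χ, hi, hm⟩ := CfsgLib.Glauberman.exists_inv_over (Nat.card φ.range) G φ.range rfl hc
    (N.subgroupOf G) (by
      rintro _ ⟨s, rfl⟩ x hx
      subst hφ
      exact hNS s s.2 x hx) θ' (by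
      rintro _ ⟨s, rfl⟩ x y hxy
      subst hφ
      exact hinv s s.2 (e x) (e y) (congrArg Subtype.val hxy))
  refine ⟨χ, fun h0 => hm ?_, ?_⟩
  · let ι : ↥N →* ↥G := Subgroup.inclusion hNG
    rw [CfsgLib.Glauberman.mult_congr ι (N.subgroupOf G).subtype e (fun x => rfl) χ θ θ'
      (fun x => rfl)]
    apply CfsgLib.Glauberman.mult_eq
    rw [Nat.cast_zero]
    exact h0
  · rw [CfsgLib.Glauberman.inv_iff G S hnorm, ← hφ, CfsgLib.Glauberman.inv_range_iff]
    exact hi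

end Cfsg.Agent.S4449
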