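import Cfsg.Statements.S4450
import Cfsg.Agent.Lib.Glauberman.InvariantOver

set_option autoImplicit false
open Cfsg

namespace Cfsg.Agent.S4450

/-- Let N ≤ G be normal subgroups of the finite group Γ with the index of G in Γ coprime to the index of N in G, and Γ/G or G/N solvable. Then for every irreducible character ϑ of N invariant under conjugation by Γ, the induced character ϑ^G has an irreducible constituent invariant under conjugation by Γ. -/
theorem result {Γ : Type*} [Group Γ] [Fintype Γ] (G N : Subgroup Γ) [hG : G.Normal] [hN : N.Normal] [Fintype G] [Fintype N] (hNG : N ≤ G) (hcop : (G.index).Coprime (N.relIndex G)) (hsolv : Group.IsSolvable (Γ ⧸ G) ∨ Group.IsSolvable (G ⧸ N.subgroupOf G)) (θ : Cfsg.IrrCharacter N) (hinv : ∀ (x : Γ) (n : N), (θ : N → ℂ) ⟨x * n * x⁻¹, hN.conj_mem n n.2 x⟩ = (θ : N → ℂ) n) : ∃ χ : Cfsg.IrrCharacter G, Cfsg.classInner (fun n : N => (χ : G → ℂ) ⟨n, hNG n.2⟩) (θ : N → ℂ) ≠ 0 ∧ ∀ (x : Γ) (g : G), (χ : G → ℂ) ⟨x * g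 * x⁻¹, hG.conj_mem g g.2 x⟩ = (χ : G → ℂ) g := by
  classical
  rcases hsolv with hs | hs
  · exact CfsgLib.Glauberman.Invariant.exists_inv_of_solvable_top G N hNG hcop hs θ hinv
  -- a complement of `G` modulo `N`
  set π := QuotientGroup.mk' N with hπ
  have hsurj := QuotientGroup.mk'_surjective N
  haveI : (G.map π).Normal := Subgroup.Normal.map inferInstance _ hsurj
  have hcard : Nat.card (G.map π) = N.relIndex G := by
    rw [← Subgroup.relIndex_ker, QuotientGroup.ker_mk']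
  have hidx : (G.map π).index = G.index :=
    Subgroup.index_map_eq G hsurj (by rw [QuotientGroup.ker_mk']; exact hNG)
  obtain ⟨L, hL⟩ := Subgroup.exists_right_complement'_of_coprime (N := G.map π)
    (by rw [hcard, hidx]; exact hcop.symm)
  set S := L.comap π with hS
  have hdec : ∀ x : Γ, ∃ g ∈ G, ∃ s ∈ S, g * s = x := by
    intro x
    have hx : π x ∈ G.map π ⊔ L := hL.sup_eq_top ▸ Subgroup.mem_top _
    rw [Subgroup.mem_sup_of_normal_left] at hx
    obtain ⟨_, ⟨g, hg, rfl⟩, l, hl, e⟩ := hx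
    refine ⟨g, hg, g⁻¹ * x, ?_, mul_inv_cancel_left g x⟩
    show π (g⁻¹ * x) ∈ L
    rw [map_mul, map_inv, ← e, inv_mul_cancel_left]
    exact hl
  set φ : S →* MulAut G := (MulAut.conjNormal : Γ →* MulAut G).comp S.subtype with hφ
  set K := N.subgroupOf S with hK
  have hNS : N ≤ S := fun n hn => by
    show π n ∈ L
    rw [show π n = 1 from (QuotientGroup.eq_one_iff n).2 hn]
    exact L.one_mem
  have hKidx : K.index = G.index := by
    show N.relIndex S = _
    have h : π.ker.relIndex S = Nat.card (S.map π) := Subgroup.relIndex_ker (f := π) (K := S)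
    rw [QuotientGroup.ker_mk'] at h
    rw [h, hS, Subgroup.map_comap_eq_self_of_surjective hsurj, ← hL.symm.index_eq_card, hidx]
  set N' := N.subgroupOf G with hN'
  haveI := Fintype.ofFinite N'
  let e : N' ≃* N := Subgroup.subgroupOfEquivOfLe hNG
  let θ' : IrrCharacter N' := ⟨fun x => (θ : N → ℂ) (e x),
    CfsgLib.CharTheory.isIrrCharacter_comp_surjective θ.2 e.toMonoidHom e.surjective⟩
  obtain ⟨i, hi⟩ := Group.IsSolvable.solvable (G := G ⧸ N')
  obtain ⟨χ, hχ, hm⟩ := CfsgLib.Glauberman.Invariant.exists_inv_over_of_solvable N'.index φ K N' rfl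
    (fun s x hx => hN.conj_mem _ hx (s : Γ))
    (fun k hk => ⟨⟨k, hNG hk⟩, hk, fun g => Subtype.ext rfl⟩)
    (by rw [hKidx]; exact hcop)
    ⟨i, fun x hx => by
      rw [← QuotientGroup.eq_one_iff, ← Subgroup.mem_bot, ← hi,
        ← map_derivedSeries_eq (f := QuotientGroup.mk' N') (QuotientGroup.mk'_surjective N')]
      exact ⟨x, hx, rfl⟩⟩ θ'
    (fun s x y hxy => by
      show (θ : N → ℂ) (e y) = (θ : N → ℂ) (e x)
      rw [← hinv (s : Γ) (e x)]
      refine congrArg _ (Subtype.ext ?_)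
      exact congrArg (fun u : G => (u : Γ)) hxy)
  refine ⟨χ, fun h0 => hm ?_, fun x g => ?_⟩
  · rw [CfsgLib.Glauberman.mult_congr (Subgroup.inclusion hNG) N'.subtype e (fun x => rfl) χ θ θ'
      (fun x => rfl)]
    apply CfsgLib.Glauberman.mult_eq
    rw [Nat.cast_zero]
    exact h0
  · obtain ⟨a, ha, s, hs, rfl⟩ := hdec x
    have h1 := CfsgLib.CharTheory.isClassFunction_irr χ.2
      ⟨s * g * s⁻¹, hG.conj_mem (g : Γ) g.2 s⟩ ⟨a, ha⟩
    rw [show (χ : G → ℂ) ⟨s * g * s⁻¹, hG.conj_mem (g : Γ) g.2 s⟩ = (χ : G → ℂ) g from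
      hχ ⟨s, hs⟩ g] at h1
    refine Eq.trans (congrArg _ (Subtype.ext ?_)) h1
    show a * s * g * (a * s)⁻¹ = a * (s * g * s⁻¹) * a⁻¹
    rw [mul_inv_rev]
    simp only [mul_assoc]

end Cfsg.Agent.S4450
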