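import Cfsg.Statements.S4451
import Cfsg.Agent.Lib.Glauberman.Cyclic

set_option autoImplicit false
open Cfsg

open CfsgLib.CharTheory CfsgLib.Glauberman.Cyclic
open scoped ComplexConjugate
namespace Cfsg.Agent.S4451

theorem roots_aux (r : Multiset ℂ) (hr : ∀ x ∈ r, IsIntegral ℤ x) :
    ∃ e w : ℂ, IsIntegral ℤ e ∧ IsIntegral ℤ w ∧ IsIntegral ℤ (r.map (· ^ 1)).sum ∧
      (r.map (· ^ 2)).sum = (r.map (· ^ 1)).sum ^ 2 - 2 * e ∧
      (r.map (· ^ 4)).sum = (r.map (· ^ 2)).sum ^ 2 - 2 * e ^ 2 + 4 * w := by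
  induction r using Multiset.induction_on with
  | empty => exact ⟨0, 0, isIntegral_zero, isIntegral_zero, by simp [isIntegral_zero], by simp,
      by simp⟩
  | cons x r ih =>
    obtain ⟨e, w, he, hw, h1, h2, h4⟩ := ih fun y hy => hr y (Multiset.mem_cons_of_mem hy)
    have hx := hr x (Multiset.mem_cons_self x r)
    refine ⟨e + x * (r.map (· ^ 1)).sum, w + x ^ 2 * e + e * x * (r.map (· ^ 1)).sum,
      he.add (hx.mul h1), (hw.add ((hx.pow 2).mul he)).add ((he.mul hx).mul h1), ?_, ?_, ?_⟩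
    · simpa using hx.add h1
    · simp only [Multiset.map_cons, Multiset.sum_cons]; rw [h2]; ring
    · simp only [Multiset.map_cons, Multiset.sum_cons]; rw [h4, h2]; ring

/-- The congruence modulo four. -/
theorem four_eq {X : Type*} [Group X] [Finite X] {F : X → ℂ} (hF : IsCharacter X F) (x : X)
    {a b c : ℤ} (ha : F x = a) (hb : F (x ^ 2) = b) (hc : F (x ^ 4) = c) (ha1 : a * a = 1)
    (hb1 : b * b = 1) (hc1 : c * c = 1) : c = b := by
  obtain ⟨r, hr, hpow⟩ := exists_roots_pow hF x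
  obtain ⟨e, w, he, hw, -, h2, h4⟩ := roots_aux r fun y hy =>
    IsIntegral.of_pow Nat.card_pos (by rw [hr y hy]; exact isIntegral_one)
  rw [← hpow, ← hpow, pow_one, ha, hb] at h2
  rw [← hpow, ← hpow, hb, hc] at h4
  have ha' : (a : ℂ) ^ 2 = 1 := by rw [pow_two]; exact_mod_cast ha1
  have hb' : (b : ℂ) ^ 2 = 1 := by rw [pow_two]; exact_mod_cast hb1
  rw [ha'] at h2
  rw [hb'] at h4
  have he' : e = (1 - (b : ℂ)) / 2 := by linear_combination h2 / 2
  have hw' : w = ((((c - b : ℤ) : ℚ) / 4 : ℚ) : ℂ) := by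
    push_cast
    rw [he'] at h4
    linear_combination (-(1 : ℂ) / 4) * h4 + ((1 : ℂ) / 8) * hb'
  obtain ⟨k, hk⟩ := exists_int_of_isIntegral_ratCast (hw' ▸ hw)
  have hk' : c - b = 4 * k := by
    have h : ((c - b : ℤ) : ℚ) = ((4 * k : ℤ) : ℚ) := by
      rw [Int.cast_mul (4 : ℤ) k, ← hk]; push_cast; ring
    exact_mod_cast h
  rcases mul_self_eq_one_iff.1 hb1 with rfl | rfl <;>
    rcases mul_self_eq_one_iff.1 hc1 with rfl | rfl <;> omega

theorem char_degree_nat {X : Type*} [Group X] {F : X → ℂ} (hF : IsCharacter X F) :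
    ∃ d : ℕ, F 1 = d := by
  obtain ⟨n, ρ, rfl⟩ := hF
  exact ⟨_, ρ.char_one⟩


/-- Let the finite group Γ be generated by a normal subgroup G and a cyclic subgroup S of coprime orders such that every non-identity element of S has the same centraliser C = G ⊓ C(S) in G. Let χ be an S-invariant irreducible character of G, χ̂ its canonical extension to Γ (determinantal order coprime to the order of S), and β the irreducible character of C with χ̂(c s) = ε₀ β(c) for c ∈ C and generators s of S (ε₀ = ±1). Then there are a sign ε = ±1, which may differ from ε₀, and a linear character μ of S with μ² = 1, such that: (a) χ̂(c x) = ε β(c) μ(x) for all c ∈ C and all x ∈ S other than 1; (b) the restriction of χ to C equals |S|·ϑ + ε β for some character ϑ of C or ϑ = 0; (c) |S| divides χ(1) − ε β(1). -/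
theorem result {Γ : Type*} [Group Γ] [Fintype Γ] (G S : Subgroup Γ) [Fintype G] (hnorm : ∀ s ∈ S, ∀ g ∈ G, s * g * s⁻¹ ∈ G) (hcop : (Nat.card G).Coprime (Nat.card S)) (htop : G ⊔ S = ⊤) (hcyc : IsCyclic S) (C : Subgroup Γ) [Fintype C] (hC : C = G ⊓ Subgroup.centralizer (S : Set Γ)) (hCG : C ≤ G) (hfpf : ∀ x ∈ S, x ≠ 1 → G ⊓ Subgroup.centralizer ({x} : Set Γ) = C) (χ : Cfsg.IrrCharacter G) (hinv : (∀ s ∈ S, ∀ g g' : G, (g' : Γ) = s * g * s⁻¹ → (χ : G → ℂ) g' = (χ : G → ℂ) g)) (χh : Cfsg.IrrCharacter Γ) (hext : (∀ g : G, (χh : Γ → ℂ) g = (χ : G → ℂ) g)) (hdet : (Cfsg.detOrder (χh : Γ → ℂ)).Coprime (Nat.card S)) (β : Cfsg.IrrCharacter C) (ε₀ : ℤ) (hε₀ : ε₀ = 1 ∨ ε₀ = -1) (hβ : ∀ c : C, ∀ s : Γ, Subgroup.zpowers s = S → (χh : Γ → ℂ) ((c : Γ) * s) = (ε₀ : ℂ) * (β : C → ℂ) c) : ∃ ε : ℤ, (ε = 1 ∨ ε = -1) ∧ (∃ μ : S → ℂ, Cfsg.IsCharacter S μ ∧ μ 1 = 1 ∧ (∀ x : S, μ x * μ x = 1) ∧ ∀ c : C, ∀ x : S, x ≠ 1 → (χh : Γ → ℂ) ((c : Γ) * x) = (ε : ℂ) * (β : C →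 ℂ) c * μ x) ∧ (∃ ϑ : C → ℂ, Cfsg.IsCharacter C ϑ ∧ (fun c : C => (χ : G → ℂ) ⟨c, hCG c.2⟩) = fun c => (Nat.card S : ℂ) * ϑ c + (ε : ℂ) * (β : C → ℂ) c) ∧ (Nat.card S : ℤ) ∣ (Cfsg.charDegree (χ : G → ℂ) : ℤ) - ε * (Cfsg.charDegree (β : C → ℂ) : ℤ) := by
  classical
  haveI := Fintype.ofFinite S
  have D := mk_data G S hnorm hcop htop hcyc
  have hh := isCanon_of_coprime (S := S) (isCharacter_of_irr χ.2) χh.2 hext hdet
  obtain ⟨g, hg⟩ := hcyc.exists_generator
  have hs : Subgroup.zpowers (g : Γ) = S := le_antisymm (Subgroup.zpowers_le.2 g.2) fun x hx => by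
    obtain ⟨i, hi⟩ := Subgroup.mem_zpowers_iff.1 (hg ⟨x, hx⟩)
    exact Subgroup.mem_zpowers_iff.2 ⟨i, by simpa using congrArg Subtype.val hi⟩
  -- the operator characters
  let F : IrrCharacter C → S → ℂ := fun γ t =>
    classInner (slice C (t : Γ) (χh : Γ → ℂ)) (γ : C → ℂ)
  have hF : ∀ γ, IsCharacter S (F γ) := fun γ =>
    exists_operator_char hC (isCharacter_of_irr χh.2) γ
  choose z hz using fun (γ : IrrCharacter C) (t : S) =>
    slice_coeff_int D hC t.2 χ.2 hh γ
  have hF' : ∀ γ t, F γ t = z γ t := hz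
  have hnorm : ∀ t : S, t ≠ 1 → ∑ γ, z γ t * z γ t = 1 := by
    intro t ht
    have htΓ : (t : Γ) ≠ 1 := fun e => ht (Subtype.ext e)
    have h := slice_orth_of_centralizer D hC t.2 (hfpf t t.2 htΓ).le hh hh
    rw [if_pos rfl, classInner_eq_sum_irr (slice_class hC t.2 (isClassFunction_irr χh.2))] at h
    have h' : ∑ γ, ((z γ t : ℂ) * (z γ t : ℂ)) = 1 := by
      rw [← h]
      exact Finset.sum_congr rfl fun γ _ => by rw [← classInner_comm (slice C _ _), hz]; simp
    exact_mod_cast h'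
  have hzle : ∀ t : S, t ≠ 1 → ∀ γ, z γ t * z γ t ≤ 1 := fun t ht γ => by
    rw [← hnorm t ht]
    exact Finset.single_le_sum (f := fun γ => z γ t * z γ t) (fun i _ => mul_self_nonneg _)
      (Finset.mem_univ γ)
  have hgen : ∀ γ, z γ g = if γ = β then ε₀ else 0 := by
    intro γ
    have e : slice C (g : Γ) (χh : Γ → ℂ) = (ε₀ : ℂ) • (β : C → ℂ) := funext fun c => hβ c g hs
    have h := hz γ g
    rw [e, classInner_smul_left] at h
    split_ifs with hγ
    · subst hγ
      rw [classInner_irr_self γ.2, mul_one] at h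
      exact_mod_cast h.symm
    · rw [classInner_irr_ne β.2 γ.2 (fun q => hγ (Subtype.ext q.symm)), mul_zero] at h
      exact_mod_cast h.symm
  have hmod : ∀ γ (y : S) {p : ℕ}, p.Prime → z γ (y ^ p) ≡ z γ y [ZMOD p] := by
    intro γ y p hp
    haveI : Fact p.Prime := ⟨hp⟩
    exact genChar_frob_modEq (isGenChar_of_char (hF γ)) y 1 (hF' γ y) (by rw [pow_one]; exact hF' γ _)
  -- support
  have hzero : ∀ k : ℕ, g ^ k ≠ 1 → ∀ γ, γ ≠ β → z γ (g ^ k) = 0 := by
    intro k
    induction k using Nat.strong_induction_on with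
    | _ k ih =>
    intro hk γ hγ
    rcases eq_or_ne k 1 with rfl | h1
    · rw [pow_one, hgen, if_neg hγ]
    have h0 : k ≠ 0 := fun e => hk (by rw [e, pow_zero])
    obtain ⟨p, hp, l, rfl⟩ := Nat.exists_prime_and_dvd h1
    have hl : g ^ l ≠ 1 := fun e => hk (by rw [mul_comm, pow_mul, e, one_pow])
    have hlt : l < p * l := lt_mul_left (Nat.pos_of_ne_zero fun e => h0 (by rw [e, mul_zero])) hp.one_lt
    have h := hmod γ (g ^ l) hp
    rw [ih l hlt hl γ hγ, ← pow_mul, mul_comm l p] at h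
    have hle := hzle _ hk γ
    obtain ⟨w, hw⟩ := (Int.modEq_zero_iff_dvd.1 h)
    have hp2 : (2 : ℤ) ≤ p := by exact_mod_cast hp.two_le
    rw [hw] at hle ⊢
    by_contra hne
    have hw0 : w ≠ 0 := fun e => hne (by rw [e, mul_zero])
    have := mul_self_pos.2 hw0
    nlinarith [mul_le_mul hp2 hp2 (by norm_num) (by positivity)]
  have hpm : ∀ k : ℕ, g ^ k ≠ 1 → z β (g ^ k) * z β (g ^ k) = 1 := by
    intro k hk
    have h := hnorm _ hk
    rwa [Finset.sum_eq_single β (fun γ _ hγ => by rw [hzero k hk γ hγ, mul_zero])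
      (fun hn => absurd (Finset.mem_univ _) hn)] at h
  have hodd : ∀ k : ℕ, Odd k → ∀ l : ℕ, g ^ (l * k) ≠ 1 → z β (g ^ (l * k)) = z β (g ^ l) := by
    intro k
    induction k using Nat.strong_induction_on with
    | _ k ih =>
    intro ho l hk
    rcases eq_or_ne k 1 with rfl | h1
    · rw [mul_one]
    obtain ⟨p, hp, m, rfl⟩ := Nat.exists_prime_and_dvd h1
    obtain ⟨hop, hom⟩ := Nat.odd_mul.1 ho
    have hl : g ^ (l * m) ≠ 1 := fun e => hk (by
      rw [show l * (p * m) = (l * m) * p by ring, pow_mul, e, one_pow])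
    have hlt : m < p * m := lt_mul_left hom.pos hp.one_lt
    rw [← ih m hlt hom l hl]
    have h := hmod β (g ^ (l * m)) hp
    rw [← pow_mul, show l * m * p = l * (p * m) by ring] at h
    obtain ⟨w, hw⟩ := Int.modEq_iff_dvd.1 h.symm
    have hp2 : (3 : ℤ) ≤ p := by
      have := hp.two_le
      obtain ⟨r, hr⟩ := hop
      omega
    rcases mul_self_eq_one_iff.1 (hpm _ hk) with e | e <;>
      rcases mul_self_eq_one_iff.1 (hpm _ hl) with e' | e' <;> rw [e, e'] at hw ⊢ <;>
      · have h3 : w = 0 := by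
          rcases lt_trichotomy w 0 with hw0 | hw0 | hw0
          · nlinarith
          · exact hw0
          · nlinarith
        rw [h3, mul_zero] at hw
        omega
  have heven : ∀ k : ℕ, g ^ (2 * k) ≠ 1 → z β (g ^ (2 * k)) = z β (g ^ 2) := by
    intro k
    induction k using Nat.strong_induction_on with
    | _ k ih =>
    intro hk
    rcases Nat.even_or_odd k with ⟨m, rfl⟩ | ho
    · have hm0 : m ≠ 0 := fun e => hk (by simp [e])
      have hm2 : g ^ (2 * m) ≠ 1 := fun e => hk (by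
        rw [show 2 * (m + m) = (2 * m) * 2 by ring, pow_mul, e, one_pow])
      have hm1 : g ^ m ≠ 1 := fun e => hm2 (by rw [mul_comm, pow_mul, e, one_pow])
      rw [← ih m (by omega) hm2]
      exact four_eq (hF β) (g ^ m) (hF' β _) (by rw [← pow_mul, mul_comm]; exact hF' β _)
        (by rw [← pow_mul, show m * 4 = 2 * (m + m) by ring]; exact hF' β _)
        (hpm _ hm1) (hpm _ hm2) (hpm _ hk)
    · exact hodd k ho 2 hk
  -- the sign and the linear character
  set ε : ℤ := if g ^ 2 = 1 then ε₀ else z β (g ^ 2) with hεdef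
  have hε : ε = 1 ∨ ε = -1 := by
    rw [hεdef]; split_ifs with h
    · exact hε₀
    · exact mul_self_eq_one_iff.1 (hpm 2 h)
  have hord : orderOf g = Nat.card S := orderOf_eq_card_of_forall_mem_zpowers hg
  set δ : ℤ := ε₀ * ε with hδdef
  have hδ1 : δ * δ = 1 := by
    rcases hε₀ with e | e <;> rcases hε with e' | e' <;> rw [hδdef, e, e'] <;> norm_num
  have hδS : δ ^ Nat.card S = 1 := by
    rcases Nat.even_or_odd (Nat.card S) with he | ho
    · obtain ⟨r, hr⟩ := he
      rw [hr, pow_add, ← mul_pow, hδ1, one_pow]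
    · suffices δ = 1 by rw [this, one_pow]
      have : ε = ε₀ := by
        rw [hεdef]; split_ifs with h
        · rfl
        · have e : g ^ (1 * (2 + Nat.card S)) = g ^ 2 := by
            rw [one_mul, pow_add, pow_card_eq_one', mul_one]
          have := hodd (2 + Nat.card S) (by
            obtain ⟨r, hr⟩ := ho; exact ⟨r + 1, by omega⟩) 1 (by rw [e]; exact h)
          rwa [e, pow_one, hgen, if_pos rfl] at this
      rcases hε₀ with e | e <;> rw [hδdef, this, e] <;> norm_num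
  let u : ℂˣ := ⟨(δ : ℂ), (δ : ℂ), by exact_mod_cast hδ1, by exact_mod_cast hδ1⟩
  have hu : orderOf u ∣ orderOf g := by
    rw [hord]
    refine orderOf_dvd_of_pow_eq_one (Units.ext ?_)
    rw [Units.val_pow_eq_pow_val, Units.val_one]
    show (δ : ℂ) ^ Nat.card S = 1
    exact_mod_cast hδS
  set f := monoidHomOfForallMemZpowers hg hu with hfdef
  have hfk : ∀ k : ℕ, ((f (g ^ k) : ℂˣ) : ℂ) = (δ : ℂ) ^ k := fun k => by
    rw [map_pow, hfdef, monoidHomOfForallMemZpowers_apply_gen, Units.val_pow_eq_pow_val]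
  have hnat : ∀ t : S, ∃ k : ℕ, g ^ k = t := fun t => mem_powers_iff_mem_zpowers.2 (hg t)
  have hval : ∀ t : S, t ≠ 1 → ∀ γ, (z γ t : ℂ) =
      (if γ = β then 1 else 0) * ((ε : ℂ) * (f t : ℂ)) := by
    intro t ht γ
    obtain ⟨k, rfl⟩ := hnat t
    rw [hfk]
    split_ifs with hγ
    · subst hγ
      rw [one_mul]
      have hεε : (ε : ℤ) * ε = 1 := by rcases hε with e | e <;> rw [e] <;> norm_num
      rcases Nat.even_or_odd k with ⟨m, rfl⟩ | ho
      · rw [show (δ : ℂ) ^ (m + m) = 1 by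
          rw [pow_add, ← mul_pow]; rw [show (δ : ℂ) * δ = 1 by exact_mod_cast hδ1, one_pow], mul_one]
        rw [show m + m = 2 * m by ring] at ht ⊢
        have h2 : g ^ 2 ≠ 1 := fun e => ht (by rw [pow_mul, e, one_pow])
        rw [heven m ht, hεdef, if_neg h2]
      · obtain ⟨r, rfl⟩ := ho
        rw [show (δ : ℂ) ^ (2 * r + 1) = δ by
          rw [pow_succ, pow_mul, pow_two, show (δ : ℂ) * δ = 1 by exact_mod_cast hδ1, one_pow,
            one_mul]]
        have := hodd (2 * r + 1) ⟨r, rfl⟩ 1 (by rw [one_mul]; exact ht)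
        rw [one_mul, pow_one, hgen, if_pos rfl] at this
        rw [this, hδdef]
        push_cast
        rw [mul_left_comm, show (ε : ℂ) * ε = 1 by exact_mod_cast hεε, mul_one]
    · rw [hzero k ht γ hγ]; simp
  -- multiplicities
  have hμchar := isIrrCharacter_linear f
  obtain ⟨ν, hν⟩ := classInner_char_nat (isCharacter_of_irr hμchar)
    (isCharacter_of_irr (isIrrCharacter_one (G := S)))
  choose n hn using fun γ => classInner_char_nat (hF γ)
    (isCharacter_of_irr (isIrrCharacter_one (G := S)))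
  have hS0 : (Nat.card S : ℂ) ≠ 0 := Nat.cast_ne_zero.2 Nat.card_pos.ne'
  have hm : ∀ γ, F γ 1 = (Nat.card S : ℂ) * ((n γ : ℂ) - (if γ = β then 1 else 0) * ((ε : ℂ) * ν)) +
      (if γ = β then 1 else 0) * (ε : ℂ) := by
    intro γ
    set c : ℂ := if γ = β then 1 else 0 with hc
    have e : ∑ t : S, (F γ t - c * ((ε : ℂ) * (f t : ℂ))) = F γ 1 - c * ε := by
      rw [Finset.sum_eq_single 1]
      · rw [map_one, Units.val_one, mul_one]
      · intro t _ ht
        rw [hF', hval t ht γ, ← hc, sub_self]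
      · exact fun hn => absurd (Finset.mem_univ _) hn
    have h1 := hn γ
    have h2 := hν
    simp only [classInner, map_one, mul_one] at h1 h2
    rw [Finset.sum_sub_distrib, ← Finset.mul_sum, ← Finset.mul_sum,
      show ∑ t : S, F γ t = (Nat.card S : ℂ) * n γ by rw [← h1, mul_inv_cancel_left₀ hS0],
      show ∑ t : S, ((f t : ℂˣ) : ℂ) = (Nat.card S : ℂ) * ν by rw [← h2, mul_inv_cancel_left₀ hS0]] at e
    linear_combination -e
  have hmnat : ∀ γ, ∃ m : ℕ, (n γ : ℂ) - (if γ = β then 1 else 0) * ((ε : ℂ) * ν) = m := by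
    intro γ
    by_cases hγ : γ = β
    · subst hγ
      obtain ⟨d, hd⟩ := classInner_char_nat (hF γ) (isCharacter_of_irr (isIrrCharacter_one (G := S)))
      have h1 := hm γ
      rw [if_pos rfl, one_mul, one_mul] at h1
      obtain ⟨d1, hd1⟩ := char_degree_nat (hF γ)
      rw [hd1] at h1
      have h2 : (d1 : ℤ) = (Nat.card S : ℤ) * ((n γ : ℤ) - ε * ν) + ε := by exact_mod_cast h1
      rw [if_pos rfl, one_mul]
      refine ⟨((n γ : ℤ) - ε * ν).toNat, ?_⟩
      have hpos : 0 ≤ (n γ : ℤ) - ε * ν := by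
        by_contra hneg
        have hS1 : (1 : ℤ) ≤ Nat.card S := by exact_mod_cast Nat.card_pos
        have hle : (Nat.card S : ℤ) * ((n γ : ℤ) - ε * ν) ≤ -(Nat.card S : ℤ) := by nlinarith
        have hd10 : d1 = 0 := by rcases hε with e | e <;> rw [e] at h2 hle <;> omega
        have hcard : Nat.card S = 1 := by rcases hε with e | e <;> rw [e] at h2 hle <;> omega
        haveI := (Nat.card_eq_one_iff_unique.1 hcard).1
        have h3 := hgen γ
        rw [if_pos rfl] at h3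
        have h4 := hF' γ g
        rw [Subsingleton.elim g 1, hd1, hd10, Nat.cast_zero] at h4
        rw [Subsingleton.elim g 1] at h3
        rw [h3] at h4
        rcases hε₀ with e | e <;> rw [e] at h4 <;> norm_num at h4
      exact_mod_cast (Int.toNat_of_nonneg hpos).symm
    · exact ⟨n γ, by rw [if_neg hγ, zero_mul, sub_zero]⟩
  choose m hm' using hmnat
  refine ⟨ε, hε, ⟨fun t => (f t : ℂ), isCharacter_of_irr hμchar, by simp, fun t => ?_,
    fun c x hx => ?_⟩, ?_⟩
  · obtain ⟨k, rfl⟩ := hnat t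
    simp only [hfk]; rw [← mul_pow, show (δ : ℂ) * δ = 1 by exact_mod_cast hδ1, one_pow]
  · have e := congrFun (eq_sum_irr (slice_class hC x.2 (isClassFunction_irr χh.2))) c
    rw [show slice C (x : Γ) (χh : Γ → ℂ) c = (χh : Γ → ℂ) ((c : Γ) * x) from rfl,
      Finset.sum_apply, Finset.sum_eq_single β] at e
    · rw [e, Pi.smul_apply, hz, hval x hx, if_pos rfl, smul_eq_mul]; ring
    · intro γ _ hγ
      rw [Pi.smul_apply, hz, hval x hx, if_neg hγ, zero_mul, zero_smul]
    · exact fun hn => absurd (Finset.mem_univ _) hn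
  have hslice1 : slice C ((1 : S) : Γ) (χh : Γ → ℂ) = fun c : C => (χ : G → ℂ) ⟨c, hCG c.2⟩ :=
    funext fun c => by
      show (χh : Γ → ℂ) ((c : Γ) * ((1 : S) : Γ)) = _
      rw [OneMemClass.coe_one, mul_one]
      exact hext ⟨c, hCG c.2⟩
  let ϑ : C → ℂ := fun c => ∑ γ : IrrCharacter C, (m γ : ℂ) * (γ : C → ℂ) c
  have hϑ : IsCharacter C ϑ := by
    have e : ϑ = ∑ γ : IrrCharacter C, (m γ : ℂ) • (γ : C → ℂ) := funext fun c => by
      simp [ϑ]
    rw [e]
    exact isCharacter_sum _ _ fun γ _ => isCharacter_nsmul (isCharacter_of_irr γ.2) _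
  have hres : (fun c : C => (χ : G → ℂ) ⟨c, hCG c.2⟩) =
      fun c => (Nat.card S : ℂ) * ϑ c + (ε : ℂ) * (β : C → ℂ) c := by
    rw [← hslice1, eq_sum_irr (slice_class hC (1 : S).2 (isClassFunction_irr χh.2))]
    funext c
    simp only [Finset.sum_apply, Pi.smul_apply, smul_eq_mul]
    rw [Finset.sum_congr rfl fun γ _ => by rw [show classInner (slice C ((1 : S) : Γ) (χh : Γ → ℂ))
      (γ : C → ℂ) = F γ 1 from rfl, hm, hm' γ, add_mul]]
    rw [Finset.sum_add_distrib, Finset.mul_sum]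
    congr 1
    · exact Finset.sum_congr rfl fun γ _ => by ring
    · simp [Finset.sum_ite_eq', ite_mul]
  refine ⟨⟨ϑ, hϑ, hres⟩, ?_⟩
  obtain ⟨d, hd⟩ := char_degree_nat hϑ
  obtain ⟨a, -, ha⟩ := irr_degree_pos χ.2
  obtain ⟨b, -, hb⟩ := irr_degree_pos β.2
  have h1 := congrFun hres 1
  rw [show (⟨((1 : C) : Γ), hCG (1 : C).2⟩ : G) = 1 from rfl] at h1
  simp only [ha, hd, hb] at h1
  have h1' : (a : ℤ) = (Nat.card S : ℤ) * d + ε * b := by exact_mod_cast h1
  rw [charDegree, charDegree, ha, hb, Complex.natCast_re, Complex.natCast_re, Nat.floor_natCast,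
    Nat.floor_natCast]
  exact ⟨d, by rw [h1']; ring⟩

end Cfsg.Agent.S4451
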