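import Cfsg.Statements.S4453
import Cfsg.Agent.Lib.ParityCorr.Reduce

set_option autoImplicit false
open Cfsg

namespace Cfsg.Agent.S4453

/-- Inside a finite group Γ let S normalise the solvable subgroup G of odd order with the orders of G and S coprime, let C = G ⊓ C(S), and let L ≤ K be S-invariant normal subgroups of G with K/L abelian, G = KC and H = LC (so C ≤ H ≤ G). Then for each S-invariant irreducible character χ of G there is exactly one S-invariant irreducible character ψ of H whose multiplicity in the restriction of χ to H is odd, and χ ↦ ψ is a bijection from the S-invariant irreducible characters of G onto those of H (distinct χ give distinct ψ, and every S-invariant ψ arises). -/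
theorem result {Γ : Type*} [Group Γ] [Fintype Γ] (G S : Subgroup Γ) [Fintype G] (hnorm : ∀ s ∈ S, ∀ g ∈ G, s * g * s⁻¹ ∈ G) (hcop : (Nat.card G).Coprime (Nat.card S)) (hGsolv : Group.IsSolvable G) (hodd : Odd (Nat.card G)) (C : Subgroup Γ) [Fintype C] (hC : C = G ⊓ Subgroup.centralizer (S : Set Γ)) (hCG : C ≤ G) (K L H : Subgroup Γ) [Fintype H] (hLK : L ≤ K) (hKG : K ≤ G) (hKn : ∀ g ∈ G, ∀ k ∈ K, g * k * g⁻¹ ∈ K) (hLn : ∀ g ∈ G, ∀ l ∈ L, g * l * g⁻¹ ∈ L) (hKS : ∀ s ∈ S, ∀ k ∈ K, s * k * s⁻¹ ∈ K) (hLS : ∀ s ∈ S, ∀ l ∈ L, s * l * s⁻¹ ∈ L) (hab : ∀ a ∈ K, ∀ b ∈ K, a * b * a⁻¹ * b⁻¹ ∈ L) (hGKC : K ⊔ C = G) (hH : H = L ⊔ C) (hHG : H ≤ G) : (∀ χ : Cfsg.IrrCharacter G, (∀ s ∈ S, ∀ g g' : G, (g' : Γ) = s * g * s⁻¹ → (χ : G → ℂ) g' = (χ : G → ℂ) g) → ∃! ψ : Cfsg.IrrCharacter H, (∀ s ∈ S, ∀ g g' : H, (g' : Γ) = s * g * s⁻¹ → (ψ : H → ℂ) g' = (ψ : H → ℂ) g) ∧ ∃ m : ℕ, Cfsg.classInner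 (fun h : H => (χ : G → ℂ) ⟨h, hHG h.2⟩) (ψ : H → ℂ) = (m : ℂ) ∧ Odd m) ∧ (∀ χ χ' : Cfsg.IrrCharacter G, (∀ s ∈ S, ∀ g g' : G, (g' : Γ) = s * g * s⁻¹ → (χ : G → ℂ) g' = (χ : G → ℂ) g) → (∀ s ∈ S, ∀ g g' : G, (g' : Γ) = s * g * s⁻¹ → (χ' : G → ℂ) g' = (χ' : G → ℂ) g) → ∀ ψ : Cfsg.IrrCharacter H, (∀ s ∈ S, ∀ g g' : H, (g' : Γ) = s * g * s⁻¹ → (ψ : H → ℂ) g' = (ψ : H → ℂ) g) → ∀ m m' : ℕ, Cfsg.classInner (fun h : H => (χ : G → ℂ) ⟨h, hHG h.2⟩) (ψ : H → ℂ) = (m : ℂ) → Odd m → Cfsg.classInner (fun h : H => (χ' : G → ℂ) ⟨h, hHG h.2⟩) (ψ : H → ℂ) = (m' : ℂ) → Odd m' → χ = χ') ∧ (∀ ψ : Cfsg.IrrCharacter H, (∀ s ∈ S, ∀ g g' : H, (g' : Γ) = s * g * s⁻¹ → (ψ : H → ℂ) g' = (ψ : H → ℂ) g) → ∃ χ : Cfsg.IrrCharacter G, (∀ s ∈ S, ∀ g g' : G, (g' : Γ) = s * g * s⁻¹ → (χ : G → ℂ) g' = (χ : G → ℂ) g) ∧ ∃ m : ℕ, Cfsg.classInner (fun h : H => (χ : G → ℂ) ⟨h, hHG h.2⟩) (ψ : H → ℂ) = (m :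 ℂ) ∧ Odd m) := by
  classical
  let φS := CfsgLib.Glauberman.conjHom G S hnorm
  set C₀ : Subgroup G := CfsgLib.ParityCorr.fixedPts φS with hC₀
  set L₀ : Subgroup G := L.subgroupOf G ⊔ (K.subgroupOf G ⊓ C₀) with hL₀
  set K₀ : Subgroup G := K.subgroupOf G with hK₀
  set H₀ : Subgroup G := H.subgroupOf G with hH₀
  have hfix : ∀ x : G, (∀ s, φS s x = x) ↔ (x : Γ) ∈ C := fun x => by
    rw [hC]
    constructor
    · intro h
      refine ⟨x.2, Subgroup.mem_centralizer_iff.2 fun s hs => ?_⟩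
      have := congrArg Subtype.val (h ⟨s, hs⟩)
      rw [CfsgLib.Glauberman.conjHom_coe] at this
      exact mul_inv_eq_iff_eq_mul.1 this
    · intro h s
      refine Subtype.ext ?_
      rw [CfsgLib.Glauberman.conjHom_coe]
      exact mul_inv_eq_iff_eq_mul.2 (Subgroup.mem_centralizer_iff.1 h.2 s s.2)
  haveI hKnor : K₀.Normal := ⟨fun k hk g => hKn g g.2 k hk⟩
  haveI hLnor : (L.subgroupOf G).Normal := ⟨fun l hl g => hLn g g.2 l hl⟩
  have hcomm : ∀ x ∈ K₀, ∀ y ∈ K₀, x * y * x⁻¹ * y⁻¹ ∈ L.subgroupOf G :=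
    fun x hx y hy => hab x hx y hy
  have hprod : ∀ g : G, ∃ k ∈ K₀, ∃ c, (∀ s, φS s c = c) ∧ g = k * c := fun g => by
    have hg : (g : Γ) ∈ K ⊔ C := by rw [hGKC]; exact g.2
    have hCn : C ≤ Subgroup.normalizer (K : Set Γ) := fun c hc => by
      rw [Subgroup.mem_normalizer_iff]
      refine fun x => ⟨fun hx => hKn c (hCG hc) x hx, fun hx => ?_⟩
      have := hKn c⁻¹ (G.inv_mem (hCG hc)) _ hx
      simpa [mul_assoc] using this
    obtain ⟨k, hk, c, hc, e⟩ := CfsgLib.mem_sup_of_le_normalizer hCn hg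
    exact ⟨⟨k, hKG hk⟩, hk, ⟨c, hCG hc⟩, (hfix _).2 hc, Subtype.ext e.symm⟩
  have hLK₀ : L₀ ≤ K₀ := sup_le (fun x hx => hLK hx) inf_le_left
  have hL₀n : L₀.Normal := ⟨fun x hx g => by
    obtain ⟨k, hk, c, hc, rfl⟩ := hprod g
    have h1 : c * x * c⁻¹ ∈ L₀ := by
      rw [hL₀, Subgroup.mem_sup_of_normal_left] at hx ⊢
      obtain ⟨l, hl, z, hz, rfl⟩ := hx
      refine ⟨c * l * c⁻¹, hLnor.conj_mem l hl c, c * z * c⁻¹,
        ⟨hKnor.conj_mem z hz.1 c, C₀.mul_mem (C₀.mul_mem hc hz.2) (C₀.inv_mem hc)⟩, ?_⟩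
      group
    have h2 : k * (c * x * c⁻¹) * k⁻¹ * (c * x * c⁻¹)⁻¹ ∈ L.subgroupOf G :=
      hcomm k hk _ (hKnor.conj_mem x (hLK₀ hx) c)
    have h3 := L₀.mul_mem (Subgroup.mem_sup_left h2) h1
    rw [inv_mul_cancel_right] at h3
    simpa [mul_assoc, mul_inv_rev] using h3⟩
  have hcopS : (Nat.card S).Coprime (Nat.card G) := hcop.symm
  have hL₀S : ∀ s, ∀ x ∈ L₀, φS s x ∈ L₀ := fun s x hx => by
    rw [hL₀, Subgroup.mem_sup_of_normal_left] at hx ⊢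
    obtain ⟨l, hl, z, hz, rfl⟩ := hx
    exact ⟨φS s l, hLS s s.2 l hl, z, hz, by rw [map_mul, hz.2 s]⟩
  haveI := hL₀n
  have D : CfsgLib.ParityCorr.Setup φS K₀ L₀ H₀ :=
    { odd := hodd
      cop := hcopS
      leK := hLK₀
      normK := hKnor
      normL := hL₀n
      comm := fun x hx y hy => Subgroup.mem_sup_left (hcomm x hx y hy)
      stabK := fun s x hx => hKS s s.2 x hx
      stabL := hL₀S
      fp := fun k hk h => by
        obtain ⟨c, hcK, hc, hkc⟩ := CfsgLib.ParityCorr.lift_fixed φS hcopS hGsolv K₀ L₀ hLK₀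
          (fun a ha n hn => hL₀n.conj_mem n hn a) (fun s x hx => hKS s s.2 x hx) hL₀S hk h
        have hcL : c ∈ L₀ := Subgroup.mem_sup_right ⟨hcK, hc⟩
        have := L₀.mul_mem hcL (L₀.inv_mem hkc)
        rwa [mul_inv_rev, inv_inv, mul_inv_cancel_left] at this
      memH := fun h => by
        have hLC : ∀ c ∈ C, c ∈ Subgroup.normalizer (L : Set Γ) := fun c hc => by
          rw [Subgroup.mem_normalizer_iff]
          refine fun x => ⟨fun hx => hLn c (hCG hc) x hx, fun hx => ?_⟩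
          have := hLn c⁻¹ (G.inv_mem (hCG hc)) _ hx
          simpa [mul_assoc] using this
        constructor
        · intro hh
          rw [hH₀, Subgroup.mem_subgroupOf, hH] at hh
          obtain ⟨l, hl, c, hc, e⟩ := CfsgLib.mem_sup_of_le_normalizer hLC hh
          exact ⟨⟨l, hKG (hLK hl)⟩, Subgroup.mem_sup_left (show l ∈ L from hl), ⟨c, hCG hc⟩,
            (hfix _).2 hc, Subtype.ext e.symm⟩
        · rintro ⟨l, hl, c, hc, rfl⟩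
          rw [hH₀, Subgroup.mem_subgroupOf, hH]
          rw [hL₀, Subgroup.mem_sup_of_normal_left] at hl
          obtain ⟨a, ha, z, hz, rfl⟩ := hl
          push_cast
          exact mul_mem (mul_mem (Subgroup.mem_sup_left ha)
            (Subgroup.mem_sup_right ((hfix z).1 hz.2))) (Subgroup.mem_sup_right ((hfix c).1 hc))
      prod := hprod }
  haveI := Fintype.ofFinite K₀
  haveI := Fintype.ofFinite L₀
  haveI := Fintype.ofFinite H₀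
  obtain ⟨hA, hB, hC'⟩ := D.main hGsolv
  let e : H₀ ≃* H := Subgroup.subgroupOfEquivOfLe hHG
  let toH : Cfsg.IrrCharacter H₀ → Cfsg.IrrCharacter H := fun ψ =>
    ⟨_, CfsgLib.CharTheory.isIrrCharacter_comp_surjective ψ.2 e.symm.toMonoidHom e.symm.surjective⟩
  let toH₀ : Cfsg.IrrCharacter H → Cfsg.IrrCharacter H₀ := fun ψ =>
    ⟨_, CfsgLib.CharTheory.isIrrCharacter_comp_surjective ψ.2 e.toMonoidHom e.surjective⟩
  have hm : ∀ (χ : G → ℂ) (ψ : Cfsg.IrrCharacter H),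
      Cfsg.classInner (fun h : H₀ => χ h) (toH₀ ψ : H₀ → ℂ) =
        Cfsg.classInner (fun h : H => χ ⟨h, hHG h.2⟩) (ψ : H → ℂ) := fun χ ψ =>
    CfsgLib.FullyRamified.classInner_equiv e (fun h : H => χ ⟨h, hHG h.2⟩) (ψ : H → ℂ)
  have hInv : ∀ χ : G → ℂ,
      (∀ s ∈ S, ∀ g g' : G, (g' : Γ) = s * g * s⁻¹ → χ g' = χ g) ↔
        CfsgLib.Glauberman.Inv φS χ :=
    CfsgLib.Glauberman.inv_iff G S hnorm
  have hInvH : ∀ ψ : Cfsg.IrrCharacter H,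
      (∀ s ∈ S, ∀ g g' : H, (g' : Γ) = s * g * s⁻¹ → (ψ : H → ℂ) g' = (ψ : H → ℂ) g) ↔
        CfsgLib.ParityCorr.InvOn φS H₀ (toH₀ ψ : H₀ → ℂ) := fun ψ => by
    constructor
    · intro h s x y hxy
      exact h s s.2 (e x) (e y) (congrArg Subtype.val hxy)
    · intro h s hs x y hxy
      have := h ⟨s, hs⟩ (e.symm x) (e.symm y) (Subtype.ext hxy)
      simpa [toH₀] using this
  have hback : ∀ ψ, toH₀ (toH ψ) = ψ := fun ψ => Subtype.ext (funext fun x => by simp [toH, toH₀])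
  have hforth : ∀ ψ, toH (toH₀ ψ) = ψ := fun ψ => Subtype.ext (funext fun x => by simp [toH, toH₀])
  refine ⟨fun χ hχ => ?_, fun χ χ' hχ hχ' ψ hψ m m' h1 h2 h3 h4 => ?_, fun ψ hψ => ?_⟩
  · obtain ⟨ψ, ⟨hψ, m, hψm, hmo⟩, huniq⟩ := hA χ ((hInv _).1 hχ)
    refine ⟨toH ψ, ⟨(hInvH _).2 (by rw [hback]; exact hψ), m, ?_, hmo⟩, fun η hη => ?_⟩
    · rw [← hm, hback]; exact hψm
    · obtain ⟨hη, n, hn, hno⟩ := hη
      rw [← huniq (toH₀ η) ⟨(hInvH η).1 hη, n, by rw [hm]; exact hn, hno⟩, hforth]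
  · exact hB χ χ' ((hInv _).1 hχ) ((hInv _).1 hχ') (toH₀ ψ) ((hInvH ψ).1 hψ) m m'
      (by rw [hm]; exact h1) h2 (by rw [hm]; exact h3) h4
  · obtain ⟨χ, hχ, m, hχm, hmo⟩ := hC' (toH₀ ψ) ((hInvH ψ).1 hψ)
    exact ⟨χ, (hInv _).2 hχ, m, by rw [← hm]; exact hχm, hmo⟩

end Cfsg.Agent.S4453
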