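import Cfsg.Statements.S4460
import Cfsg.Agent.Lib.CharTheory.ThreeDegrees
-- import your own Cfsg.Agent.* helpers here

set_option autoImplicit false
open Cfsg

namespace Cfsg.Agent.S4460

/-- A finite group with exactly three distinct irreducible character degrees is solvable of derived length at most 3: its third derived subgroup is trivial. -/
theorem result {G : Type*} [Group G] [Finite G] (hcd : Nat.card {n : ℕ // ∃ χ : Cfsg.IrrCharacter G, Cfsg.charDegree (χ : G → ℂ) = n} = 3) : derivedSeries G 3 = ⊥ := by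
  classical
  have := Fintype.ofFinite G
  set S := {n : ℕ | ∃ χ : Cfsg.IrrCharacter G, Cfsg.charDegree (χ : G → ℂ) = n} with hS
  have hS3 : S.ncard = 3 := hcd
  have h1 : 1 ∈ S := ⟨⟨fun _ => 1, CfsgLib.CharTheory.isIrrCharacter_one⟩, by simp [Cfsg.charDegree]⟩
  obtain ⟨x, y, z, -, -, -, hxyz⟩ := Set.ncard_eq_three.mp hS3
  have key : ∀ a b : ℕ, S ⊆ {1, a, b} → derivedSeries G 3 = ⊥ := fun a b hab =>
    CfsgLib.CharTheory.ThreeDegrees.derivedSeries_three (Nat.card G) G le_rfl a b fun χ hχ => by
      simpa using hab (⟨⟨χ, hχ⟩, rfl⟩ : Cfsg.charDegree χ ∈ S)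
  rw [hxyz] at h1
  rcases h1 with rfl | rfl | h1
  · exact key y z hxyz.le
  · exact key x z fun n hn => by
      rw [hxyz] at hn; simp only [Set.mem_insert_iff, Set.mem_singleton_iff] at hn ⊢; tauto
  · rw [Set.mem_singleton_iff] at h1
    subst h1
    exact key x y fun n hn => by
      rw [hxyz] at hn; simp only [Set.mem_insert_iff, Set.mem_singleton_iff] at hn ⊢; tauto

end Cfsg.Agent.S4460
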