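import Cfsg.Statements.S4465
import Cfsg.Agent.Lib.LinearGroups.Blichfeldt
import Cfsg.Agent.Lib.CharTheory.More

set_option autoImplicit false
open Cfsg
open CfsgLib.CharTheory

namespace Cfsg.Agent.S4465

theorem result {G : Type*} [Group G] [Finite G] (χ : G → ℂ) (hχ : Cfsg.IsCharacter G χ) (hfaith : ∀ g : G, χ g = χ 1 → g = 1) (n : ℕ) (hn : Cfsg.charDegree χ = n) : ∃ A : Subgroup G, (∀ x ∈ A, ∀ y ∈ A, x * y = y * x) ∧ (∀ q : ℕ, q.Prime → q ∣ Nat.card A → n + 1 < q) ∧ ∀ q : ℕ, q.Prime → q ∣ A.index → q ≤ n + 1 := by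
  haveI := Fintype.ofFinite G
  obtain ⟨d, hd⟩ := char_one_eq_natCast hχ
  have hdn : d = n := by
    rw [← hn]; simp [Cfsg.charDegree, hd]
  obtain ⟨H, hH⟩ := CfsgLib.LinearGroups.exists_abHall (n := n) (Nat.card G) G rfl
    ⟨χ, hχ, hfaith, d, hd, hdn.le⟩
  refine ⟨H, hH.comm, fun q hq hd => (hH.pi q hq hd).2, fun q hq hd => ?_⟩
  by_contra hlt
  exact hH.idx q hq ⟨hq, by omega⟩ hd

end Cfsg.Agent.S4465
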