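import Cfsg.Statements.S4470
import Cfsg.Agent.Lib.LinearGroups.Small
import Cfsg.Agent.Lib.CharTheory.Linear
import Cfsg.Agent.Lib.Blocks.Central

set_option autoImplicit false
open Cfsg

namespace Cfsg.Agent.S4470

/-- Let the finite group G have a faithful character of degree n. Then G has an abelian normal subgroup A such that every abelian subgroup H of G satisfies [H : H ⊓ A] ≤ 12^n. -/
theorem result {G : Type*} [Group G] [Finite G] (χ : G → ℂ) (hχ : Cfsg.IsCharacter G χ) (hfaith : ∀ g : G, χ g = χ 1 → g = 1) (n : ℕ) (hn : Cfsg.charDegree χ = n) : ∃ A : Subgroup G, A.Normal ∧ (∀ x ∈ A, ∀ y ∈ A, x * y = y * x) ∧ ∀ H : Subgroup G, (∀ x ∈ H, ∀ y ∈ H, x * y = y * x) → (A.subgroupOf H).index ≤ 12 ^ n := by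
  obtain ⟨d, ρ, rfl⟩ := hχ
  have hd : d = n := by
    have h := CfsgLib.Blocks.charDegree_cast (G := G) (χ := ρ.character) ⟨d, ρ, rfl⟩
    rw [hn, ρ.char_one, Module.finrank_fintype_fun_eq_card, Fintype.card_fin] at h
    exact_mod_cast h.symm
  subst hd
  have hinj : Function.Injective ρ := by
    intro a b hab
    have h1 : ρ (a⁻¹ * b) = 1 := by rw [map_mul, ← hab, ← map_mul, inv_mul_cancel, map_one]
    have h2 := hfaith (a⁻¹ * b) (by
      simp only [Representation.character, h1, map_one])
    exact inv_mul_eq_one.1 h2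
  exact CfsgLib.LinearGroups.exists_abelian_normal_of_faithful ρ hinj

end Cfsg.Agent.S4470
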