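import Cfsg.Statements.S4471
import Cfsg.Agent.Lib.SmallPSylow.Main
-- import your own Cfsg.Agent.* helpers here

set_option autoImplicit false
open Cfsg

namespace Cfsg.Agent.S4471

/-- Let p ≥ 7 be a prime and let the finite group G have a faithful irreducible character of degree n with n < 2p and n ≠ p. If the Sylow p-subgroups of G are non-abelian then p² does not divide the index of O_p(G) in G; consequently, in every case G/O_p(G) has abelian Sylow p-subgroups. -/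
theorem result {G : Type*} [Group G] [Finite G] (χ : Cfsg.IrrCharacter G) (hfaith : ∀ g : G, (χ : G → ℂ) g = (χ : G → ℂ) 1 → g = 1) (n : ℕ) (hn : Cfsg.charDegree (χ : G → ℂ) = n) (p : ℕ) (hp : p.Prime) (h7 : 7 ≤ p) (hn2 : n < 2 * p) (hnp : n ≠ p) : ((∃ P : Sylow p G, ∃ x ∈ (P : Subgroup G), ∃ y ∈ (P : Subgroup G), x * y ≠ y * x) → ¬ p ^ 2 ∣ (Cfsg.pCore p G).index) ∧ ∀ Q : Sylow p (G ⧸ Cfsg.pCore p G), ∀ x ∈ (Q : Subgroup (G ⧸ Cfsg.pCore p G)), ∀ y ∈ (Q : Subgroup (G ⧸ Cfsg.pCore p G)), x * y = y * x := by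
  haveI := Fact.mk hp
  obtain ⟨m, ρ, hirr, hρχ⟩ := χ.2
  haveI := hirr
  have hm : m = n := by
    rw [← hn, Cfsg.charDegree, ← hρχ, ρ.char_one, Module.finrank_fintype_fun_eq_card, Fintype.card_fin,
      Complex.natCast_re, Nat.floor_natCast]
  subst hm
  have hρ : Function.Injective ρ := by
    intro a b hab
    have h1 : (χ : G → ℂ) (a⁻¹ * b) = (χ : G → ℂ) 1 := by
      rw [← hρχ]
      show LinearMap.trace ℂ _ (ρ (a⁻¹ * b)) = LinearMap.trace ℂ _ (ρ 1)
      rw [map_mul, ← hab, ← map_mul, inv_mul_cancel]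
    exact inv_mul_eq_one.1 (hfaith _ h1)
  have hmain : (∃ P : Sylow p G, ∃ x ∈ (P : Subgroup G), ∃ y ∈ (P : Subgroup G), x * y ≠ y * x) →
      ¬ p ^ 2 ∣ (Cfsg.pCore p G).index := fun ⟨P, hna⟩ =>
    CfsgLib.SmallPSylow.not_sq_dvd_index ρ hρ h7 hn2 hnp P.2 hna
  refine ⟨hmain, fun Q x hx y hy => ?_⟩
  haveI : (Cfsg.pCore p G).Normal := inferInstance
  by_cases hna : ∃ P : Sylow p G, ∃ x ∈ (P : Subgroup G), ∃ y ∈ (P : Subgroup G), x * y ≠ y * x
  · obtain ⟨a, ha⟩ := Q.2.exists_card_eq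
    have hd : p ^ a ∣ (Cfsg.pCore p G).index := by
      rw [Subgroup.index_eq_card, ← ha]; exact Subgroup.card_subgroup_dvd_card _
    have ha1 : a ≤ 1 := by
      by_contra hlt
      exact hmain hna ((pow_dvd_pow p (by omega)).trans hd)
    haveI : IsCyclic (Q : Subgroup (G ⧸ Cfsg.pCore p G)) := by
      rcases Nat.le_one_iff_eq_zero_or_eq_one.1 ha1 with rfl | rfl
      · haveI : Subsingleton (Q : Subgroup (G ⧸ Cfsg.pCore p G)) :=
          (Nat.card_eq_one_iff_unique.1 (by simpa using ha)).1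
        infer_instance
      · exact isCyclic_of_prime_card (p := p) (by simpa using ha)
    exact congrArg Subtype.val (IsCyclic.commGroup.mul_comm (⟨x, hx⟩ : (Q : Subgroup _)) ⟨y, hy⟩)
  · push Not at hna
    obtain ⟨P, rfl⟩ := Sylow.mapSurjective_surjective (QuotientGroup.mk'_surjective (Cfsg.pCore p G)) p Q
    obtain ⟨u, hu, rfl⟩ := hx
    obtain ⟨v, hv, rfl⟩ := hy
    rw [← map_mul, ← map_mul, hna P u hu v hv]

end Cfsg.Agent.S4471
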