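import Cfsg.Statements.S4478
import Cfsg.Agent.Lib.Blocks.ThreePrimes
import Cfsg.Agent.Lib.Blocks.DefectZeroProducts
import Cfsg.Agent.Lib.CharTheory.FrobeniusSchur

set_option autoImplicit false
open Cfsg CfsgLib.Blocks CfsgLib.CharTheory
open scoped ComplexConjugate

set_option linter.unusedVariables false

namespace Cfsg.Agent.S4478

/-- Let G be a finite group of even order and χ an irreducible character of G whose degree x is divisible by the full power of 2 dividing the order of G and, for every odd prime p such that G has an element of order 2p, by the full power of p dividing the order of G. Then all involutions of G are conjugate, the centralizer of every involution has order exactly x with x coprime to its index, and the Frobenius–Schur indicator of χ equals 1. -/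
theorem result {G : Type*} [Group G] [Fintype G] (heven : Even (Nat.card G)) (χ : Cfsg.IrrCharacter G) (h2 : 2 ^ (Nat.card G).factorization 2 ∣ Cfsg.charDegree (χ : G → ℂ)) (hp : ∀ p : ℕ, p.Prime → p ≠ 2 → (∃ g : G, orderOf g = 2 * p) → p ^ (Nat.card G).factorization p ∣ Cfsg.charDegree (χ : G → ℂ)) : (∀ s t : G, orderOf s = 2 → orderOf t = 2 → IsConj s t) ∧ (∀ s : G, orderOf s = 2 → Nat.card (Subgroup.centralizer ({s} : Set G)) = Cfsg.charDegree (χ : G → ℂ) ∧ (Nat.card (Subgroup.centralizer ({s} : Set G))).Coprime (Subgroup.centralizer ({s} : Set G)).index) ∧ (Nat.card G : ℂ)⁻¹ * ∑ g : G, (χ : G → ℂ) (g * g) = 1 := by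
  classical
  set n : ℕ := Nat.card G with hn
  set x : ℕ := Cfsg.charDegree (χ : G → ℂ) with hx
  have hx1 : (χ : G → ℂ) 1 = (x : ℂ) := (irr_charDegree_cast χ).symm
  have hxdvd : x ∣ n := charDegree_dvd_card χ
  have hxpos : 0 < x := irr_charDegree_pos χ
  have hnpos : 0 < n := Nat.card_pos
  have hfull : ∀ r : ℕ, r.Prime → r ^ n.factorization r ∣ x → x.factorization r = n.factorization r :=
    fun r hr h => le_antisymm ((Nat.factorization_le_iff_dvd hxpos.ne' hnpos.ne').2 hxdvd r)
      ((hr.pow_dvd_iff_le_factorization hxpos.ne').1 h)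
  have hvan : ∀ r : ℕ, r.Prime → r ^ n.factorization r ∣ x → ∀ y : G, r ∣ orderOf y →
      (χ : G → ℂ) y = 0 := fun r hr h y hy => by
    obtain ⟨M, hM⟩ := exists_pModular hr
    exact ThreePrimes.vanish_of_defZero hM χ (hfull r hr h) hy
  have hev : ∀ g : G, (χ : G → ℂ) (g * g) ≠ 0 → Odd (orderOf g) ∨ orderOf g = 2 := by
    intro g hg
    rcases Nat.even_or_odd (orderOf g) with he | ho
    swap
    · exact Or.inl ho
    obtain ⟨m, hm⟩ := he
    have hm0 : 0 < m := by have := orderOf_pos g; omega
    have hgg : orderOf (g * g) = m := by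
      rw [← pow_two, orderOf_pow' g two_ne_zero, hm, show m + m = 2 * m by ring, Nat.gcd_mul_right_left,
        Nat.mul_div_cancel_left _ two_pos]
    rcases eq_or_ne m 1 with hm1 | hm1
    · exact Or.inr (by omega)
    exfalso
    obtain ⟨r, hr, hrm⟩ := Nat.exists_prime_and_dvd hm1
    rcases eq_or_ne r 2 with rfl | hr2
    · exact hg (hvan 2 Nat.prime_two h2 _ (hgg ▸ hrm))
    refine hg (hvan r hr (hp r hr hr2 ⟨g ^ (m / r), ?_⟩) _ (hgg ▸ hrm))
    obtain ⟨c, rfl⟩ := hrm
    rw [Nat.mul_div_cancel_left _ hr.pos]
    have hc : c ≠ 0 := fun h => by simp [h] at hm0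
    rw [orderOf_pow' g hc, hm, show r * c + r * c = (2 * r) * c by ring, Nat.gcd_mul_left_left,
      Nat.mul_div_cancel _ (Nat.pos_of_ne_zero hc)]
  set O : Finset G := Finset.univ.filter (fun g : G => Odd (orderOf g)) with hO
  set I : Finset G := Finset.univ.filter (fun g : G => orderOf g = 2) with hI
  have hx2 : (χ : G → ℂ) ≠ fun _ => 1 := by
    intro e
    have h1 : x = 1 := by
      have := congrFun e 1
      rw [hx1] at this; exact_mod_cast this
    rw [h1, Nat.dvd_one, Nat.pow_eq_one] at h2
    have := Nat.Prime.factorization_pos_of_dvd Nat.prime_two hnpos.ne' heven.two_dvd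
    omega
  have hodd : ∑ g ∈ O, (χ : G → ℂ) (g * g) = 0 := by
    have e : ∑ g ∈ O, (χ : G → ℂ) (g * g) = ∑ g ∈ O, (χ : G → ℂ) g := by
      refine Finset.sum_bij (fun g _ => g * g) ?_ ?_ ?_ (fun _ _ => rfl)
      · intro g hg
        simp only [hO, Finset.mem_filter, Finset.mem_univ, true_and] at hg ⊢
        rw [← pow_two]; exact hg.of_dvd_nat (orderOf_pow_dvd _)
      · intro a ha b hb e
        simp only [hO, Finset.mem_filter, Finset.mem_univ, true_and] at ha hb
        have key : ∀ c : G, Odd (orderOf c) → c ∈ Subgroup.zpowers (c * c) := by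
          intro c hc
          obtain ⟨j, hj⟩ := exists_pow_eq_self_of_coprime (x := c) (n := 2) (Nat.coprime_two_left.2 hc)
          rw [← pow_two]
          have h := Subgroup.npow_mem_zpowers (c ^ 2) j
          rwa [hj] at h
        obtain ⟨i, hi⟩ := exists_pow_eq_self_of_coprime (x := a) (n := 2)
          (Nat.coprime_two_left.2 ha)
        obtain ⟨j, hj⟩ := exists_pow_eq_self_of_coprime (x := b) (n := 2)
          (Nat.coprime_two_left.2 hb)
        simp only [← pow_two] at e
        have hab : Commute a b := by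
          rw [← hi, ← hj, ← e]; exact Commute.pow_pow (Commute.refl _) _ _
        have h2o : orderOf (a * b⁻¹) ∣ 2 := by
          apply orderOf_dvd_of_pow_eq_one
          rw [hab.inv_right.mul_pow, e, inv_pow, mul_inv_cancel]
        have h2d : orderOf (a * b⁻¹) ∣ orderOf a * orderOf b := by
          refine (hab.inv_right.orderOf_mul_dvd_mul_orderOf).trans ?_
          rw [orderOf_inv]
        have : orderOf (a * b⁻¹) = 1 :=
          Nat.dvd_one.1 ((Nat.coprime_two_left.2 (ha.mul hb)) ▸ Nat.dvd_gcd h2o h2d)
        rwa [orderOf_eq_one_iff, mul_inv_eq_one] at this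
      · intro b hb
        simp only [hO, Finset.mem_filter, Finset.mem_univ, true_and] at hb ⊢
        obtain ⟨j, hj⟩ := exists_pow_eq_self_of_coprime (x := b) (n := 2) (Nat.coprime_two_left.2 hb)
        refine ⟨b ^ j, hb.of_dvd_nat (orderOf_pow_dvd _), ?_⟩
        rw [← pow_two, ← pow_mul, mul_comm, pow_mul, hj]
    have h3 : classInner (χ : G → ℂ) (fun _ : G => (1 : ℂ)) = 0 :=
      classInner_irr_ne χ.2 isIrrCharacter_one hx2
    simp only [classInner, map_one, mul_one, mul_eq_zero, inv_eq_zero, Nat.cast_eq_zero] at h3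
    rw [e, Finset.sum_subset (Finset.subset_univ O)
      (fun g _ hg => hvan 2 Nat.prime_two h2 g (by
        simp only [hO, Finset.mem_filter, Finset.mem_univ, true_and, Nat.not_odd_iff_even] at hg
        exact hg.two_dvd))]
    exact h3.resolve_left hnpos.ne'
  have hsum : ∑ g : G, (χ : G → ℂ) (g * g) = (I.card : ℂ) * (x : ℂ) := by
    rw [← Finset.sum_filter_add_sum_filter_not Finset.univ (fun g : G => Odd (orderOf g)), ← hO, hodd,
      zero_add]
    have : ∀ g ∈ Finset.univ.filter (fun g : G => ¬ Odd (orderOf g)), g ∉ I →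
        (χ : G → ℂ) (g * g) = 0 := by
      intro g hg hgI
      by_contra hne
      simp only [Finset.mem_filter, Finset.mem_univ, true_and] at hg
      rcases hev g hne with h | h
      · exact hg h
      · exact hgI (by simp [hI, h])
    rw [← Finset.sum_subset (s₁ := I) (fun g hg => by
      simp only [hI, Finset.mem_filter, Finset.mem_univ, true_and] at hg ⊢
      rw [hg]; decide) this, Finset.sum_congr rfl fun g hg => ?_, Finset.sum_const, nsmul_eq_mul]
    simp only [hI, Finset.mem_filter, Finset.mem_univ, true_and] at hg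
    rw [← pow_two, ← hg, pow_orderOf_eq_one, hx1]
  have hIpos : 0 < I.card := by
    haveI : Fact (Nat.Prime 2) := ⟨Nat.prime_two⟩
    obtain ⟨s, hs⟩ := exists_prime_orderOf_dvd_card' (G := G) 2 heven.two_dvd
    exact Finset.card_pos.2 ⟨s, by simp [hI, hs]⟩
  have hkey : I.card * x = n := by
    obtain ⟨k, ρ, hρ, hρχ⟩ := χ.2
    haveI := hρ
    rcases frobenius_schur ρ with ⟨-, h⟩ | ⟨ε, hε, -, h, -⟩
    · rw [hρχ, hsum, ← Nat.cast_mul, Nat.cast_eq_zero] at h
      exact absurd h (Nat.mul_pos hIpos hxpos).ne'
    · rw [hρχ, hsum] at h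
      rcases hε with rfl | rfl
      · rw [one_mul] at h; exact_mod_cast h
      · exfalso
        have h' : ((I.card * x + n : ℕ) : ℂ) = 0 := by push_cast; rw [h]; simp [hn]
        rw [Nat.cast_eq_zero] at h'; omega
  have hC : ∀ s : G, orderOf s = 2 →
      Nat.card (Subgroup.centralizer ({s} : Set G)) ∣ x ∧
        ∀ r : ℕ, r.Prime → r ∣ Nat.card (Subgroup.centralizer ({s} : Set G)) →
          r ^ n.factorization r ∣ x := by
    intro s hs
    have h' : ∀ r : ℕ, r.Prime → r ∣ Nat.card (Subgroup.centralizer ({s} : Set G)) →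
          r ^ n.factorization r ∣ x := by
      intro r hr hd
      rcases eq_or_ne r 2 with rfl | hr2
      · exact h2
      haveI : Fact r.Prime := ⟨hr⟩
      obtain ⟨c, hc⟩ := exists_prime_orderOf_dvd_card' r hd
      refine hp r hr hr2 ⟨s * (c : G), ?_⟩
      have hcs : Commute s (c : G) := by
        have := c.2
        rw [Subgroup.mem_centralizer_singleton_iff] at this
        first | exact this | exact this.symm
      rw [hcs.orderOf_mul_eq_mul_orderOf_of_coprime, hs, Subgroup.orderOf_coe, hc]
      rw [hs, Subgroup.orderOf_coe, hc]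
      exact Nat.coprime_two_left.2 (hr.odd_of_ne_two hr2)
    refine ⟨(Nat.factorization_le_iff_dvd Nat.card_pos.ne' hxpos.ne').1 fun r => ?_, h'⟩
    by_cases hr : r.Prime
    swap
    · simp [Nat.factorization_eq_zero_of_not_prime _ hr]
    by_cases hd : r ∣ Nat.card (Subgroup.centralizer ({s} : Set G))
    · exact ((Nat.factorization_le_iff_dvd Nat.card_pos.ne' hnpos.ne').2
        (Subgroup.card_subgroup_dvd_card _) r).trans (hfull r hr (h' r hr hd)).ge
    · rw [Nat.factorization_eq_zero_of_not_dvd hd]; exact Nat.zero_le _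
  have hcls : ∀ s : G, orderOf s = 2 → (∀ t : G, orderOf t = 2 → IsConj s t) ∧
      Nat.card (Subgroup.centralizer ({s} : Set G)) = x := by
    intro s hs
    set K : Finset G := Finset.univ.filter (fun t : G => IsConj s t) with hK
    have hKI : K ⊆ I := by
      intro t ht
      simp only [hK, hI, Finset.mem_filter, Finset.mem_univ, true_and] at ht ⊢
      obtain ⟨c, rfl⟩ := isConj_iff.1 ht
      rw [conj_orderOf, hs]
    have hKc : K.card = (Subgroup.centralizer ({s} : Set G)).index := by
      rw [index_centralizer_eq]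
      rw [Nat.card_eq_fintype_card, hK]
      symm
      refine Fintype.card_of_subtype _ fun t => ?_
      simp [ConjClasses.mem_carrier_iff_mk_eq, ConjClasses.mk_eq_mk_iff_isConj, isConj_comm]
    set c : ℕ := Nat.card (Subgroup.centralizer ({s} : Set G)) with hc
    have hm : c * K.card = n := by rw [hKc]; exact Subgroup.card_mul_index _
    have h1 : c ≤ x := Nat.le_of_dvd hxpos (hC s hs).1
    have h3 : K.card ≤ I.card := Finset.card_le_card hKI
    have h4 : K.card = I.card ∧ c = x := by
      have : c * K.card = I.card * x := hm.trans hkey.symm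
      constructor <;> nlinarith
    refine ⟨fun t ht => ?_, h4.2⟩
    have hmem : t ∈ K := by
      rw [Finset.eq_of_subset_of_card_le hKI h4.1.ge]
      simp [hI, ht]
    simpa [hK] using hmem
  refine ⟨fun s t hs ht => (hcls s hs).1 t ht, fun s hs => ⟨(hcls s hs).2, ?_⟩, ?_⟩
  · refine Nat.coprime_of_dvd fun r hr hrC hrI => ?_
    have h5 := hfull r hr ((hC s hs).2 r hr hrC)
    have h6 : (Nat.card (Subgroup.centralizer ({s} : Set G)) *
        (Subgroup.centralizer ({s} : Set G)).index).factorization r = n.factorization r := by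
      rw [Subgroup.card_mul_index]
    rw [Nat.factorization_mul Nat.card_pos.ne' Subgroup.index_ne_zero_of_finite,
      Finsupp.add_apply, (hcls s hs).2, h5] at h6
    have := hr.factorization_pos_of_dvd Subgroup.index_ne_zero_of_finite hrI
    omega
  · rw [hsum, ← Nat.cast_mul, hkey]
    exact inv_mul_cancel₀ (Nat.cast_ne_zero.2 hnpos.ne')

end Cfsg.Agent.S4478
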