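import Cfsg.Statements.S4484
import Cfsg.Agent.Lib.TwoPrimeBound.Main
import Cfsg.Agent.Lib.CharTheory.Degree
import Cfsg.Agent.Lib.Blocks.DefectZeroCount
import Mathlib.GroupTheory.SpecificGroups.Cyclic

set_option autoImplicit false
open Cfsg

open Cfsg CfsgLib.CharTheory CfsgLib.Blocks CfsgLib.TwoPrimeBound

namespace Cfsg.Agent.S4484

/-- The multiplicities of the eigenvalues of an element of prime order. -/
theorem exists_mult {G : Type*} [Group G] [Finite G] {p : ℕ} (hp : p.Prime) {n : ℕ}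
    (ρ : Representation ℂ G (Fin n → ℂ)) {z : G} (hz : orderOf z = p) {ζ : ℂ}
    (hζ : IsPrimitiveRoot ζ p) :
    ∃ m : ℕ → ℕ, (∑ k ∈ Finset.range p, m k = n) ∧
      (∀ s : ℕ, ρ.character (z ^ s) = ∑ k ∈ Finset.range p, (m k : ℂ) * (ζ ^ k) ^ s) ∧
      ((∀ v, ∃ w : ℕ → (Fin n → ℂ),
          v = ∑ k ∈ (Finset.range p).filter (fun k => m k ≠ 0), w k ∧
          ∀ k ∈ (Finset.range p).filter (fun k => m k ≠ 0), ρ z (w k) = ζ ^ k • w k) ∧
        ∀ k ∈ Finset.range p, m k ≠ 0 → ∃ v, v ≠ 0 ∧ ρ z v = ζ ^ k • v) := by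
  classical
  have hζp : ζ ^ p = 1 := hζ.pow_eq_one
  have hζ0 : ζ ≠ 0 := hζ.ne_zero hp.ne_zero
  have hp' : (p : ℂ) ≠ 0 := Nat.cast_ne_zero.2 hp.ne_zero
  set P : ℕ → ((Fin n → ℂ) →ₗ[ℂ] (Fin n → ℂ)) := fun k =>
    (p : ℂ)⁻¹ • ∑ s ∈ Finset.range p, (ζ⁻¹ ^ k) ^ s • ρ (z ^ s) with hP
  have hinv : ∀ t : ℕ, ρ (z ^ t) = ∑ k ∈ Finset.range p, (ζ ^ k) ^ t • P k := by
    intro t
    simp only [hP, Finset.smul_sum, smul_smul]
    rw [Finset.sum_comm, Finset.sum_eq_single (t % p)]
    · rw [← Finset.sum_smul]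
      have e : ∀ k ∈ Finset.range p, (ζ ^ k) ^ t * ((p : ℂ)⁻¹ * (ζ⁻¹ ^ k) ^ (t % p)) = (p : ℂ)⁻¹ := by
        intro k _
        have : (ζ ^ k) ^ t = (ζ ^ k) ^ (t % p) := pow_eq_pow_mod t (by
          rw [← pow_mul, mul_comm, pow_mul, hζp, one_pow])
        rw [this, inv_pow ζ k, inv_pow, mul_left_comm, mul_inv_cancel₀ (pow_ne_zero _ (pow_ne_zero _ hζ0)), mul_one]
      rw [Finset.sum_congr rfl e, Finset.sum_const, Finset.card_range, nsmul_eq_mul,
        mul_inv_cancel₀ hp', one_smul, ← hz, pow_mod_orderOf]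
    · intro s hs hst
      rw [← Finset.sum_smul]
      have e : ∀ k ∈ Finset.range p, (ζ ^ k) ^ t * ((p : ℂ)⁻¹ * (ζ⁻¹ ^ k) ^ s) =
          (p : ℂ)⁻¹ * (ζ ^ t * ζ⁻¹ ^ s) ^ k := by
        intro k _
        rw [mul_pow, ← pow_mul, ← pow_mul, ← pow_mul, ← pow_mul, mul_comm t k, mul_comm s k]
        ring
      rw [Finset.sum_congr rfl e, ← Finset.mul_sum]
      have hne : ζ ^ t * ζ⁻¹ ^ s ≠ 1 := by
        intro h
        refine hst ?_
        rw [inv_pow, mul_inv_eq_one₀ (pow_ne_zero _ hζ0), pow_eq_pow_mod t hζp] at h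
        exact (hζ.pow_inj (Nat.mod_lt _ hp.pos) (Finset.mem_range.1 hs) h).symm
      rw [geom_sum_eq hne, mul_pow, ← pow_mul, ← pow_mul, mul_comm t p, mul_comm s p, pow_mul,
        pow_mul, inv_pow, hζp]
      simp
    · exact fun h => absurd (Finset.mem_range.2 (Nat.mod_lt _ hp.pos)) h
  have hzp : z ^ p = 1 := hz ▸ pow_orderOf_eq_one z
  have heig : ∀ k, ρ z * P k = ζ ^ k • P k := by
    intro k
    simp only [hP, Finset.smul_sum, Finset.mul_sum, mul_smul_comm, smul_smul]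
    set f : ℕ → ((Fin n → ℂ) →ₗ[ℂ] (Fin n → ℂ)) := fun s =>
      (ζ ^ k * ((p : ℂ)⁻¹ * (ζ⁻¹ ^ k) ^ s)) • ρ (z ^ s) with hf
    have e : ∀ s, ((p : ℂ)⁻¹ * (ζ⁻¹ ^ k) ^ s) • (ρ z * ρ (z ^ s)) = f (s + 1) := by
      intro s
      simp only [hf]
      rw [← map_mul, ← pow_succ', pow_succ' (ζ⁻¹ ^ k), inv_pow ζ k]
      congr 1
      field_simp
    rw [Finset.sum_congr rfl fun s _ => e s]
    have hper : f p = f 0 := by
      simp only [hf, hzp, pow_zero]
      rw [← pow_mul, mul_comm k p, pow_mul, inv_pow, hζp, inv_one, one_pow]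
    obtain ⟨j, rfl⟩ : ∃ j, p = j + 1 := ⟨p - 1, by have := hp.pos; omega⟩
    rw [Finset.sum_range_succ (fun s => f (s + 1)), hper, ← Finset.sum_range_succ' f]
  have hpow : ∀ k s : ℕ, ρ (z ^ s) * P k = (ζ ^ k) ^ s • P k := by
    intro k s
    induction s with
    | zero => simp
    | succ s ih => rw [pow_succ, map_mul, mul_assoc, heig, mul_smul_comm, ih, smul_smul, ← pow_succ']
  have hidem : ∀ k, IsIdempotentElem (P k) := by
    intro k
    show P k * P k = P k
    have e : ∀ s ∈ Finset.range p, ((p : ℂ)⁻¹ * (ζ⁻¹ ^ k) ^ s) • (ρ (z ^ s) * P k) =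
        (p : ℂ)⁻¹ • P k := by
      intro s _
      rw [hpow, smul_smul, mul_assoc, ← mul_pow, inv_pow, inv_mul_cancel₀ (pow_ne_zero _ hζ0),
        one_pow, mul_one]
    conv_lhs => arg 1; simp only [hP, Finset.smul_sum, smul_smul]
    rw [Finset.sum_mul, Finset.sum_congr rfl fun s hs => (smul_mul_assoc _ _ _).trans (e s hs),
      Finset.sum_const, Finset.card_range, ← Nat.cast_smul_eq_nsmul ℂ, smul_smul,
      mul_inv_cancel₀ hp', one_smul]
  set m : ℕ → ℕ := fun k => Module.finrank ℂ (LinearMap.range (P k)) with hm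
  have htr : ∀ k, LinearMap.trace ℂ _ (P k) = (m k : ℂ) := fun k =>
    LinearMap.IsProj.trace (LinearMap.isProj_range_iff_isIdempotentElem (P k) |>.2 (hidem k))
  have hchar : ∀ s : ℕ, ρ.character (z ^ s) = ∑ k ∈ Finset.range p, (m k : ℂ) * (ζ ^ k) ^ s := by
    intro s
    rw [Representation.character, hinv s, map_sum]
    exact Finset.sum_congr rfl fun k _ => by rw [map_smul, htr, smul_eq_mul, mul_comm]
  refine ⟨m, ?_, hchar, fun v => ⟨fun k => P k v, ?_, fun k _ => LinearMap.congr_fun (heig k) v⟩,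
    fun k _ hk => ?_⟩
  · have h1 := hchar 0
    simp only [pow_zero, mul_one, Representation.char_one, Module.finrank_fin_fun] at h1
    exact_mod_cast h1.symm
  · have h1 := LinearMap.congr_fun (hinv 0) v
    simp only [pow_zero, map_one, one_smul, Module.End.one_apply, LinearMap.sum_apply] at h1
    refine h1.trans (Finset.sum_filter_of_ne (p := fun k => m k ≠ 0) fun k _ hne h0 => hne ?_).symm
    have h2 : P k v ∈ LinearMap.range (P k) := LinearMap.mem_range_self _ v
    rw [Submodule.finrank_eq_zero.1 h0, Submodule.mem_bot] at h2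
    exact h2
  · obtain ⟨w, ⟨v, rfl⟩, hw⟩ := Submodule.exists_mem_ne_zero_of_ne_bot
      (show LinearMap.range (P k) ≠ ⊥ from fun h => hk (Submodule.finrank_eq_zero.2 h))
    exact ⟨P k v, hw, LinearMap.congr_fun (heig k) v⟩

/-- A refinement of Burnside's result on simple groups of order divisible by only two primes. Let G be a finite simple group of order p^a · q^b · g₀ with p, q distinct primes, a > 0, g₀ coprime to p and q, and the order of G different from p. Then g₀ − 1 > log p / log 6, that is 6^(g₀ − 1) > p. -/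
theorem result {G : Type*} [Group G] [Finite G] [IsSimpleGroup G] (p q a b g₀ : ℕ) (hp : p.Prime) (hq : q.Prime) (hpq : p ≠ q) (ha : 0 < a) (hg : Nat.card G = p ^ a * q ^ b * g₀) (hcop : ¬ p ∣ g₀) (hcoq : ¬ q ∣ g₀) (hne : Nat.card G ≠ p) : p < 6 ^ (g₀ - 1) := by
  classical
  haveI := Fintype.ofFinite G
  haveI : Fact p.Prime := ⟨hp⟩
  by_contra hle
  push Not at hle
  -- arithmetic
  have hdp : p ∣ Nat.card G := by
    rw [hg]; exact ((dvd_pow_self p ha.ne').mul_right _).mul_right _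
  have hg0 : 0 < g₀ := by
    rcases Nat.eq_zero_or_pos g₀ with h | h
    · exact absurd (dvd_zero p) (h ▸ hcop)
    · exact h
  have hbig : 6 ^ (g₀ - 1) < p := by
    rcases Nat.eq_zero_or_pos (g₀ - 1) with h | h
    · rw [h, pow_zero]; exact hp.one_lt
    · refine lt_of_le_of_ne hle fun e => ?_
      have h6 : 6 ∣ p := e ▸ dvd_pow_self 6 h.ne'
      rcases hp.eq_one_or_self_of_dvd 6 h6 with h' | h'
      · omega
      · rw [← h'] at hp; norm_num at hp
  have hgp : g₀ < p := by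
    have := Nat.lt_pow_self (n := g₀ - 1) (show 1 < 6 by norm_num)
    omega
  have hncomm : ¬ ∀ x y : G, x * y = y * x := fun h => by
    letI : CommGroup G := { ‹Group G› with mul_comm := h }
    have h1 : (Nat.card G).Prime := IsSimpleGroup.prime_card
    exact hne ((Nat.prime_dvd_prime_iff_eq hp h1).1 hdp).symm
  have hcenter : ∀ x : G, (∀ g, x * g = g * x) → x = 1 := fun x hx => by
    rcases Subgroup.Normal.eq_bot_or_eq_top (H := Subgroup.center G) inferInstance with h | h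
    · have : x ∈ Subgroup.center G := Subgroup.mem_center_iff.2 fun g => (hx g).symm
      rwa [h, Subgroup.mem_bot] at this
    · exact absurd (fun a b => (Subgroup.mem_center_iff.1 (h ▸ Subgroup.mem_top a : a ∈ Subgroup.center G) b).symm) hncomm
  -- an element of order `p` in the centre of a Sylow subgroup
  obtain ⟨P⟩ := (inferInstance : Nonempty (Sylow p G))
  have hfac : (Nat.card G).factorization p = a := by
    rw [hg, Nat.factorization_mul (mul_ne_zero (pow_ne_zero _ hp.ne_zero) (pow_ne_zero _ hq.ne_zero))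
      hg0.ne', Nat.factorization_mul (pow_ne_zero _ hp.ne_zero) (pow_ne_zero _ hq.ne_zero)]
    simp [hp.factorization_pow, hq.factorization_pow, hpq,
      Nat.factorization_eq_zero_of_not_dvd hcop]
  have hPcard : Nat.card (P : Subgroup G) = p ^ a := by rw [P.card_eq_multiplicity, hfac]
  have hPidx : (P : Subgroup G).index = q ^ b * g₀ := by
    have h1 := (P : Subgroup G).card_mul_index
    rw [hPcard, hg, mul_assoc] at h1
    exact Nat.eq_of_mul_eq_mul_left (pow_pos hp.pos a) h1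
  haveI : Nontrivial (P : Subgroup G) :=
    Finite.one_lt_card_iff_nontrivial.1 (hPcard ▸ Nat.one_lt_pow ha.ne' hp.one_lt)
  haveI := P.2.center_nontrivial
  obtain ⟨z', hz'⟩ : ∃ z' : Subgroup.center (P : Subgroup G), orderOf z' = p := by
    refine exists_prime_orderOf_dvd_card' p ?_
    have h1 := Finite.one_lt_card (α := Subgroup.center (P : Subgroup G))
    obtain ⟨k, hk⟩ := IsPGroup.iff_card.1 (P.2.to_subgroup (Subgroup.center (P : Subgroup G)))
    rcases Nat.eq_zero_or_pos k with h | h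
    · rw [hk, h, pow_zero] at h1; omega
    · rw [hk]; exact dvd_pow_self p h.ne'
  set z : G := ((z' : (P : Subgroup G)) : G) with hzdef
  have hzord : orderOf z = p := by
    rw [hzdef, Subgroup.orderOf_coe, Subgroup.orderOf_coe, hz']
  have hidx : ∀ s : ℕ, (Subgroup.centralizer ({z ^ s} : Set G)).index ∣ q ^ b * g₀ := by
    intro s
    rw [← hPidx]
    refine Subgroup.index_dvd_of_le fun y hy => Subgroup.mem_centralizer_singleton_iff.2 ?_
    have h1 := Subgroup.mem_center_iff.1 z'.2 ⟨y, hy⟩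
    have h2 : Commute y z := congrArg Subtype.val h1
    exact (h2.pow_right s).eq
  -- a character in the principal block of degree prime to `q`
  obtain ⟨M, hM⟩ := exists_pModular hp
  obtain ⟨χ, hχB, hχne, hqχ⟩ : ∃ χ : IrrCharacter G, χ ∈ principalBlock M G ∧ χ ≠ oneIrr G ∧
      ¬ q ∣ charDegree (χ : G → ℂ) := by
    by_contra hcon
    push Not at hcon
    have hsum := weak_orth hM (principalBlock_isPBlock (M := M) (G := G)) (x := 1) (y := z)
      (by rw [orderOf_one]; exact hp.not_dvd_one) (by rw [hzord])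
    rw [← Finset.add_sum_erase _ _ (mem_bset.2 (oneIrr_mem hM))] at hsum
    rw [show ((oneIrr G : IrrCharacter G) : G → ℂ) 1 = 1 from rfl,
      show ((oneIrr G : IrrCharacter G) : G → ℂ) z = 1 from rfl, mul_one] at hsum
    set S := (bset (principalBlock M G)).erase (oneIrr G) with hS
    have h1 : ∑ χ ∈ S, (χ : G → ℂ) 1 * (χ : G → ℂ) z =
        (q : ℂ) * ∑ χ ∈ S, ((charDegree (χ : G → ℂ) / q : ℕ) : ℂ) * (χ : G → ℂ) z := by
      rw [Finset.mul_sum]
      refine Finset.sum_congr rfl fun χ hχ => ?_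
      obtain ⟨hne', hmem⟩ := Finset.mem_erase.1 hχ
      have hd := hcon χ (mem_bset.1 hmem) hne'
      rw [← mul_assoc, ← Nat.cast_mul, Nat.mul_div_cancel' hd, ← irr_charDegree_cast χ]
    have h2 : IsIntegral ℤ (∑ χ ∈ S, ((charDegree (χ : G → ℂ) / q : ℕ) : ℂ) * (χ : G → ℂ) z) :=
      IsIntegral.sum _ fun χ _ => (isIntegral_algebraMap (R := ℤ) (x := ((charDegree (χ : G → ℂ) / q : ℕ) : ℤ))).mul
        (by obtain ⟨n, ρ, -, e⟩ := χ.2; rw [← e]; exact isIntegral_character ρ z)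
    rw [h1] at hsum
    have h3 : IsIntegral ℤ ((((-1 : ℚ) / q : ℚ)) : ℂ) := by
      convert h2 using 1
      push_cast
      rw [div_eq_iff (Nat.cast_ne_zero.2 hq.ne_zero)]
      linear_combination -hsum
    obtain ⟨k, hk⟩ := exists_int_of_isIntegral_ratCast h3
    rw [div_eq_iff (Nat.cast_ne_zero.2 hq.ne_zero)] at hk
    have h4 : (-1 : ℤ) = k * q := by exact_mod_cast hk
    have h5 : (q : ℤ) ∣ 1 := ⟨-k, by linarith⟩
    exact hq.not_dvd_one (by exact_mod_cast h5)
  obtain ⟨n, ρ, hirr, hρχ⟩ := χ.2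
  haveI := hirr
  have hdeg : charDegree (χ : G → ℂ) = n := by
    have h1 := irr_charDegree_cast χ
    rw [← hρχ, Representation.char_one, Module.finrank_fin_fun] at h1
    rw [← hρχ]; exact_mod_cast h1
  have hn : 0 < n := by
    rcases Nat.eq_zero_or_pos n with h | h
    · exact absurd (dvd_zero q) (h ▸ hdeg ▸ hqχ)
    · exact h
  have hn' : (n : ℂ) ≠ 0 := Nat.cast_ne_zero.2 hn.ne'
  -- integrality
  have hint : ∀ s : ℕ, IsIntegral ℤ ((g₀ : ℂ) * ρ.character (z ^ s) / n) := by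
    intro s
    have h1 := isIntegral_index_mul_div ρ (z ^ s)
    rw [Module.finrank_fin_fun] at h1
    obtain ⟨t, ht⟩ := hidx s
    have hcast : ∀ k : ℤ, IsIntegral ℤ (k : ℂ) := fun k => isIntegral_algebraMap (x := k)
    have h2 : IsIntegral ℤ (((q ^ b : ℕ) : ℂ) * ((g₀ : ℂ) * ρ.character (z ^ s) / n)) := by
      have h3 := (hcast (t : ℤ)).mul h1
      rw [show ((q ^ b : ℕ) : ℂ) * ((g₀ : ℂ) * ρ.character (z ^ s) / n) =
        ((t : ℤ) : ℂ) * (((Subgroup.centralizer ({z ^ s} : Set G)).index : ℂ) *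
          ρ.character (z ^ s) / n) from ?_]
      · exact h3
      have h4 : ((q ^ b * g₀ : ℕ) : ℂ) =
          (((Subgroup.centralizer ({z ^ s} : Set G)).index * t : ℕ) : ℂ) := congrArg _ ht
      push_cast at h4 ⊢
      linear_combination (ρ.character (z ^ s) / n) * h4
    have hco : Nat.Coprime (q ^ b) n :=
      Nat.Coprime.pow_left b (hq.coprime_iff_not_dvd.2 (hdeg ▸ hqχ))
    have hbez := Nat.gcd_eq_gcd_ab (q ^ b) n
    rw [hco.gcd_eq_one] at hbez
    have hbez' : (1 : ℂ) = ((q ^ b : ℕ) : ℂ) * ((Nat.gcdA (q ^ b) n : ℤ) : ℂ) +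
        (n : ℂ) * ((Nat.gcdB (q ^ b) n : ℤ) : ℂ) := by
      exact_mod_cast congrArg (fun z : ℤ => (z : ℂ)) hbez
    have e : (g₀ : ℂ) * ρ.character (z ^ s) / n =
        ((Nat.gcdA (q ^ b) n : ℤ) : ℂ) * (((q ^ b : ℕ) : ℂ) * ((g₀ : ℂ) * ρ.character (z ^ s) / n)) +
        ((Nat.gcdB (q ^ b) n : ℤ) : ℂ) * (((g₀ : ℤ) : ℂ) * ρ.character (z ^ s)) := by
      push_cast at hbez' ⊢
      field_simp
      linear_combination ((g₀ : ℂ) * ρ.character (z ^ s)) * hbez'
    rw [e]
    exact ((hcast _).mul h2).add ((hcast _).mul ((hcast _).mul (isIntegral_character ρ _)))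
  -- congruence
  have hcongr : MemLocalIdeal M ((g₀ : ℂ) * ρ.character z / n - g₀) := by
    obtain ⟨t, ht⟩ := pow_one z ▸ hidx 1
    have h0 : SameBlock M (fun _ : G => (1 : ℂ)) (χ : G → ℂ) := hχB
    have h1 := h0 z
    unfold centralChar at h1
    rw [← hρχ, Representation.char_one, Module.finrank_fin_fun, mul_one, div_one] at h1
    have h2 := memIdeal_neg hM (memIdeal_mul_left hM (memRing_natCast hM t) h1)
    have h3 : ((q ^ b : ℕ) : ℂ) * ((g₀ : ℂ) * ρ.character z / n - g₀) =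
        -((t : ℂ) * (((Subgroup.centralizer ({z} : Set G)).index : ℂ) -
          ((Subgroup.centralizer ({z} : Set G)).index : ℂ) * ρ.character z / n)) := by
      have h4 : ((q ^ b * g₀ : ℕ) : ℂ) =
          (((Subgroup.centralizer ({z} : Set G)).index * t : ℕ) : ℂ) := congrArg _ ht
      push_cast at h4 ⊢
      field_simp
      linear_combination (ρ.character z - (n : ℂ)) * h4
    rw [← h3] at h2
    have hq0 : ¬ MemLocalIdeal M ((q ^ b : ℕ) : ℂ) := fun hc => by
      haveI := res_charP hM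
      have h5 := (res_eq_zero_iff hM (memRing_natCast hM _)).2 hc
      rw [res_natCast, CharP.cast_eq_zero_iff (AlgInt ⧸ M) p] at h5
      exact hpq ((Nat.prime_dvd_prime_iff_eq hp hq).1 (hp.dvd_of_dvd_pow h5))
    have h6 := memIdeal_mul_left hM (memRing_inv hM (memRing_natCast hM _) hq0) h2
    rwa [← mul_assoc, inv_mul_cancel₀ (Nat.cast_ne_zero.2 (pow_ne_zero _ hq.ne_zero)), one_mul] at h6
  -- eigenvalues
  set ζ : ℂ := Complex.exp (2 * Real.pi * Complex.I / p) with hζdef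
  have hζ : IsPrimitiveRoot ζ p := Complex.isPrimitiveRoot_exp p hp.ne_zero
  obtain ⟨m, hm, hmχ, hmv⟩ := exists_mult hp ρ hzord hζ
  have hsupp := support_small hp hM hn hg0 hgp hζ m hm
    (fun s => by rw [← hmχ]; exact hint s) (by
      have := hmχ 1
      simp only [pow_one] at this
      rw [← this]; exact hcongr)
  set T := (Finset.range p).filter fun k => m k ≠ 0 with hT
  obtain ⟨k₀, hk₀⟩ : T.Nonempty := by
    rw [Finset.nonempty_iff_ne_empty]
    intro h
    have : ∑ k ∈ Finset.range p, m k = 0 := Finset.sum_eq_zero fun k hk => by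
      by_contra hk'
      have : k ∈ T := Finset.mem_filter.2 ⟨hk, hk'⟩
      rw [h] at this; simp at this
    omega
  obtain ⟨d, hd0, hdlt, hdT⟩ := exists_dilation hp.pos hbig hsupp hk₀
  have hzd1 : z ^ d ≠ 1 := fun h => by
    have := Nat.le_of_dvd hd0 (hzord ▸ orderOf_dvd_of_pow_eq_one h)
    omega
  have hzdp : (z ^ d) ^ p = 1 := by
    rw [← pow_mul, mul_comm, pow_mul, ← hzord, pow_orderOf_eq_one, one_pow]
  have hζpow : ∀ k : ℕ, ((ζ ^ k) ^ d) ^ p = 1 := fun k => by
    rw [← pow_mul, ← pow_mul, show k * (d * p) = p * (k * d) by ring, pow_mul, hζ.pow_eq_one, one_pow]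
  obtain ⟨hdecz, hk0v⟩ := hmv
  obtain ⟨v₀, hv₀, hv₀e⟩ := hk0v k₀ (Finset.mem_filter.1 hk₀).1 (Finset.mem_filter.1 hk₀).2
  have hpow : ∀ (k : ℕ) (v : Fin n → ℂ), ρ z v = ζ ^ k • v → ρ (z ^ d) v = (ζ ^ k) ^ d • v := by
    intro k v hv
    have : ∀ e : ℕ, ρ (z ^ e) v = (ζ ^ k) ^ e • v := by
      intro e
      induction e with
      | zero => simp
      | succ e ih =>
        rw [pow_succ', map_mul, Module.End.mul_apply, ih, map_smul, hv, smul_smul, ← pow_succ]
    exact this d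
  have hscal := scalar_of_concentrated ρ hp.pos hzdp hzd1 (ω := (ζ ^ k₀) ^ d) (hζpow k₀) hv₀
    (hpow k₀ v₀ hv₀e) (ι := ↥T) (fun k => (ζ ^ (k : ℕ)) ^ d) (fun k => hζpow k) (fun k => by
      right
      obtain ⟨D, hD, c, hc⟩ := hdT k k.2
      have hζ0 : ζ ≠ 0 := Complex.exp_ne_zero _
      have e : (ζ ^ (k : ℕ)) ^ d = (ζ ^ k₀) ^ d * ζ ^ D := by
        have e1 : ((k : ℕ) : ℤ) * d = (k₀ : ℤ) * d + D + p * c := by linarith
        calc (ζ ^ (k : ℕ)) ^ d = ζ ^ (((k : ℕ) : ℤ) * d) := by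
              rw [zpow_mul, zpow_natCast, zpow_natCast]
          _ = ζ ^ ((k₀ : ℤ) * d) * ζ ^ D * (ζ ^ (p : ℤ)) ^ c := by
              rw [e1, zpow_add₀ hζ0, zpow_add₀ hζ0, zpow_mul ζ (p : ℤ) c]
          _ = _ := by rw [zpow_natCast ζ p, hζ.pow_eq_one, one_zpow, mul_one, zpow_mul,
                zpow_natCast, zpow_natCast]
      rw [e, show (ζ ^ k₀) ^ d * ζ ^ D - (ζ ^ k₀) ^ d = (ζ ^ k₀) ^ d * (ζ ^ D - 1) by ring,
        norm_mul, Complex.norm_eq_one_of_pow_eq_one (hζpow k₀) hp.ne_zero, one_mul]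
      exact norm_root_sub_one hp.pos hD)
    (fun v => by
      obtain ⟨w, hw, hwe⟩ := hdecz v
      exact ⟨fun k => w k, by rw [hw, ← Finset.sum_coe_sort], fun k => hpow k _ (hwe k k.2)⟩)
  -- the element would be central
  refine hzd1 (hcenter _ fun g => ?_)
  have hker : ∀ y : G, ρ y = 1 → y = 1 := by
    intro y hy
    rcases Subgroup.Normal.eq_bot_or_eq_top (H := (MonoidHom.ker ρ)) inferInstance with h | h
    · have : y ∈ MonoidHom.ker ρ := MonoidHom.mem_ker.2 hy
      rwa [h, Subgroup.mem_bot] at this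
    · exfalso
      have hall : ∀ y : G, ρ y = 1 := fun y =>
        MonoidHom.mem_ker.1 (h ▸ Subgroup.mem_top y : y ∈ MonoidHom.ker ρ)
      have h1 : (χ : G → ℂ) = fun _ => (n : ℂ) := by
        rw [← hρχ]; funext y
        have : ρ.character y = ρ.character 1 := by
          simp only [Representation.character, hall]
        rw [this, Representation.char_one, Module.finrank_fin_fun]
      have h2 := classInner_irr_ne χ.2 (oneIrr G).2 (fun e => hχne (Subtype.ext e))
      rw [h1] at h2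
      simp [classInner, oneIrr, hn.ne'] at h2
  have h3 : ρ (z ^ d * g * (g * z ^ d)⁻¹) = 1 := by
    have e1 : ρ (z ^ d * g) = ρ (g * z ^ d) := by
      refine LinearMap.ext fun v => ?_
      rw [map_mul, map_mul, Module.End.mul_apply, Module.End.mul_apply, hscal, hscal, map_smul]
    rw [map_mul, e1, ← map_mul, mul_inv_cancel, map_one]
  exact mul_inv_eq_one.1 (hker _ h3)

end Cfsg.Agent.S4484
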