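import Cfsg.Statements.S4488
import Cfsg.Agent.Lib.CharTheory.PRational
import Cfsg.Agent.Lib.Blocks.Central

set_option autoImplicit false
open Cfsg CfsgLib.CharTheory
open scoped ComplexConjugate

set_option linter.unusedVariables false

namespace Cfsg.Agent.S4488

/-- Let the finite group G have a faithful p-rational character χ of degree n (all values of χ lie in the field generated over ℚ by a root of unity of order prime to p), and let p^a be the order of a Sylow p-subgroup of G. Then a ≤ Σ_{i ≥ 0} ⌊n / ((p − 1)·p^i)⌋ (a finite sum; the terms vanish once (p − 1)p^i > n). -/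
theorem result {G : Type*} [Group G] [Finite G] (p : ℕ) (hp : p.Prime) (χ : G → ℂ) (hχ : Cfsg.IsCharacter G χ) (hfaith : ∀ g : G, χ g = χ 1 → g = 1) (hrat : (∃ r : ℕ, 0 < r ∧ ¬ p ∣ r ∧ ∀ g : G, χ g ∈ IntermediateField.adjoin ℚ ({Complex.exp (2 * Real.pi * Complex.I / r)} : Set ℂ))) (n : ℕ) (hn : Cfsg.charDegree χ = n) : (Nat.card G).factorization p ≤ ∑ i ∈ Finset.range (n + 1), n / ((p - 1) * p ^ i) := by
  classical
  haveI := Fintype.ofFinite G
  haveI : Fact p.Prime := ⟨hp⟩
  obtain ⟨r, hr, hpr, hmem⟩ := hrat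
  obtain ⟨P⟩ : Nonempty (Sylow p G) := inferInstance
  haveI : Fintype (P : Subgroup G) := Fintype.ofFinite _
  have hn1 : χ 1 = (n : ℂ) := hn ▸ (CfsgLib.Blocks.charDegree_cast hχ).symm
  set k := n / (p - 1) with hk
  have hdvd := schur_bound hp P.card_eq_multiplicity (isCharacter_restrict hχ (P : Subgroup G))
    (n := n) (by rw [Subgroup.coe_one]; exact hn1)
    (fun g h => Subtype.ext (hfaith g (by rwa [Subgroup.coe_one] at h)))
    (fun g m hm => by
      obtain ⟨e, he⟩ := IsPGroup.iff_orderOf.1 P.2 g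
      rw [Subgroup.coe_pow]
      exact pow_invariant_of_mem_adjoin hχ hp hr hpr (by rw [Subgroup.orderOf_coe]; exact he) (hmem g) hm)
  rw [hp.pow_dvd_iff_le_factorization (Nat.mul_ne_zero (pow_ne_zero _ hp.ne_zero) (Nat.factorial_ne_zero _)),
    Nat.factorization_mul (pow_ne_zero _ hp.ne_zero) (Nat.factorial_ne_zero _), Finsupp.add_apply,
    hp.factorization_pow, Finsupp.single_eq_same] at hdvd
  have h2 : (Nat.factorial k).factorization p = ∑ i ∈ Finset.Ico 1 (n + 1), k / p ^ i := by
    rw [Nat.factorization_def _ hp, padicValNat_factorial]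
    exact Nat.lt_succ_of_le ((Nat.log_le_self p k).trans (Nat.div_le_self _ _))
  rw [← hk, h2] at hdvd
  · refine hdvd.trans ?_
    rw [Finset.sum_range_succ', Finset.range_eq_Ico]
    simp only [pow_zero, mul_one]
    rw [← hk, add_comm]
    refine Nat.add_le_add_right (le_of_eq ?_) _
    rw [Finset.sum_Ico_eq_sum_range, Nat.add_sub_cancel, ← Finset.range_eq_Ico]
    refine Finset.sum_congr rfl fun i _ => ?_
    rw [hk, Nat.div_div_eq_div_mul, add_comm 1 i]

end Cfsg.Agent.S4488
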