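import Cfsg.Statements.S4491
import Cfsg.Agent.Lib.Blocks.Proj

set_option autoImplicit false
set_option linter.style.haveILetI false
open Cfsg

namespace Cfsg.Agent.S4491

open CfsgLib.Blocks CfsgLib.CharTheory

/-- Let B be a p-block of defect d of the finite group G (relative to a maximal ideal M of the algebraic integers containing p), and let p^a be the p-part of the order of G. Then the exact power of p dividing the sum of the squares of the degrees of the irreducible characters in B is p^(2a − d). -/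
theorem result {G : Type*} [Group G] [Finite G] (p : ℕ) [Fact p.Prime] (M : Ideal Cfsg.AlgInt) (hM : Cfsg.IsPModular p M) (B : Set (Cfsg.IrrCharacter G)) (hB : Cfsg.IsPBlock M B) : (∑ᶠ χ ∈ B, Cfsg.charDegree (χ : G → ℂ) ^ 2).factorization p = 2 * (Nat.card G).factorization p - Cfsg.blockDefect p B := by
  classical
  haveI := Fintype.ofFinite G
  haveI := res_isDomain hM
  have hp : p.Prime := Fact.out
  obtain ⟨χ, hχ, h0⟩ := exists_height_zero hM hB
  set v := minDv p B with hv
  set a := (Nat.card G).factorization p with ha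
  have hva : v ≤ a := minDv_le_card hM hB
  set K := Nat.card G / p ^ a with hK
  have hp0 : (p : ℂ) ≠ 0 := Nat.cast_ne_zero.2 hp.ne_zero
  have hG : (Nat.card G : ℂ) = (p : ℂ) ^ a * (K : ℂ) := by
    exact_mod_cast (Nat.ordProj_mul_ordCompl_eq_self (Nat.card G) p).symm
  set U := omega (χ : G → ℂ) (regFn p (χ : G → ℂ)) with hU
  have hUm := memRing_omega_regFn hM (p := p) χ χ
  have hUu := not_memIdeal_omega_regFn hM hB hχ hχ h0
  have hpv : (p ^ v : ℕ) ≠ 0 := pow_ne_zero _ hp.ne_zero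
  have hdivmem : ∀ ψ ∈ B, MemLocalRing M ((ψ : G → ℂ) 1 / (p : ℂ) ^ v) := by
    intro ψ hψ
    have h := (natDiv_mem_loc hM (p := p) (irr_charDegree_pos ψ).ne' hpv (by
      rw [Nat.Prime.factorization_pow hp, Finsupp.single_eq_same]; exact minDv_le hψ)).1
    rw [irr_charDegree_cast ψ] at h
    push_cast at h
    exact h
  set c : Cfsg.IrrCharacter G → ℂ := fun ψ =>
    (ψ : G → ℂ) 1 / (p : ℂ) ^ v * (omega (ψ : G → ℂ) (regFn p (χ : G → ℂ)) - U) with hc
  have hcI : ∀ ψ ∈ bset B, MemLocalIdeal M (c ψ) := by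
    intro ψ hψ
    refine memIdeal_mul_left hM (hdivmem ψ (mem_bset.1 hψ)) ?_
    rw [memIdeal_sub_iff hM (memRing_omega_regFn hM ψ χ) hUm]
    exact res_omega_regFn_congr hM (sameBlock_of_mem hM hB (mem_bset.1 hψ) hχ) χ
  set N : ℕ := ∑ ψ ∈ bset B, Cfsg.charDegree (ψ : G → ℂ) ^ 2 with hN
  have hcsum : ∀ y : G, ∑ ψ ∈ bset B, c ψ * (ψ : G → ℂ) y =
      ((if p ∣ orderOf y then 0 else (Nat.card G : ℂ) * (χ : G → ℂ) y) -
        U * ∑ ψ ∈ bset B, (ψ : G → ℂ) 1 * (ψ : G → ℂ) y) / (p : ℂ) ^ v := by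
    intro y
    have h := sum_regS_mul hM hB χ y
    rw [ind_of_mem hχ, one_mul] at h
    rw [← h, Finset.mul_sum, ← Finset.sum_sub_distrib, Finset.sum_div]
    refine Finset.sum_congr rfl fun ψ _ => ?_
    simp only [hc, omega_regFn, regS_comm (χ : G → ℂ)]
    field_simp [irr_one_ne_zero ψ]
  obtain ⟨S⟩ : Nonempty (Sylow p G) := inferInstance
  haveI : Fintype (S : Subgroup G) := Fintype.ofFinite _
  have h1 := vanishing_value hM (S : Subgroup G) S.isPGroup' (x := (1 : G))
    (Subgroup.one_mem _) (by rw [orderOf_one]; exact hp.not_dvd_one) (bset B) c hcI (fun y hy => by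
      rw [hcsum, if_pos hy, weak_orth hM hB (x := (1 : G))
        (by rw [orderOf_one]; exact hp.not_dvd_one) hy]
      simp)
  rw [hcsum, if_neg (by rw [orderOf_one]; exact hp.not_dvd_one), ← Nat.card_eq_fintype_card,
    S.card_eq_multiplicity] at h1
  push_cast at h1
  have hNc : (∑ ψ ∈ bset B, (ψ : G → ℂ) 1 * (ψ : G → ℂ) 1) = (N : ℂ) := by
    rw [hN]; push_cast
    exact Finset.sum_congr rfl fun ψ _ => by rw [irr_charDegree_cast ψ]; ring
  have e : ((Nat.card G : ℂ) * (χ : G → ℂ) 1 - U * (N : ℂ)) / (p : ℂ) ^ v / (p : ℂ) ^ a =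
      (K : ℂ) * ((χ : G → ℂ) 1 / (p : ℂ) ^ v) - U * ((N : ℂ) / ((p ^ (a + v) : ℕ) : ℂ)) := by
    rw [hG]; push_cast; rw [pow_add]; field_simp
  rw [hNc, e] at h1
  have hχu : ¬ MemLocalIdeal M ((χ : G → ℂ) 1 / (p : ℂ) ^ v) := by
    have h := (natDiv_mem_loc hM (p := p) (irr_charDegree_pos χ).ne' hpv (by
      rw [Nat.Prime.factorization_pow hp, Finsupp.single_eq_same]; exact minDv_le hχ)).2.2
      (by rw [Nat.Prime.factorization_pow hp, Finsupp.single_eq_same]; exact h0.symm)
    rw [irr_charDegree_cast χ] at h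
    push_cast at h
    exact h
  have hA : MemLocalRing M ((K : ℂ) * ((χ : G → ℂ) 1 / (p : ℂ) ^ v)) :=
    (loc hM).mul_mem (memRing_natCast hM K) (hdivmem χ hχ)
  have hUX : MemLocalRing M (U * ((N : ℂ) / ((p ^ (a + v) : ℕ) : ℂ))) := by
    have := (loc hM).sub_mem hA (MemLocalIdeal.memRing h1)
    rw [sub_sub_cancel] at this
    exact this
  have hU0 : U ≠ 0 := fun h => hUu (by rw [← hU, h]; exact memIdeal_zero hM)
  have hXm : MemLocalRing M ((N : ℂ) / ((p ^ (a + v) : ℕ) : ℂ)) := by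
    have := (loc hM).mul_mem (memRing_inv hM hUm hUu) hUX
    rwa [← mul_assoc, inv_mul_cancel₀ hU0, one_mul] at this
  have hXu : ¬ MemLocalIdeal M ((N : ℂ) / ((p ^ (a + v) : ℕ) : ℂ)) := by
    intro hX
    rw [memIdeal_sub_iff hM hA hUX, res_mul hM hUm hXm, (res_eq_zero_iff hM hXm).2 hX, mul_zero,
      res_mul hM (memRing_natCast hM K) (hdivmem χ hχ), mul_eq_zero] at h1
    rcases h1 with h1 | h1
    · haveI := res_charP hM
      rw [res_natCast, CharP.cast_eq_zero_iff (AlgInt ⧸ M) p] at h1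
      exact Nat.not_dvd_ordCompl hp Nat.card_pos.ne' h1
    · exact hχu ((res_eq_zero_iff hM (hdivmem χ hχ)).1 h1)
  have hN0 : N ≠ 0 := fun h => hXu (by rw [h, Nat.cast_zero, zero_div]; exact memIdeal_zero hM)
  have hfac : N.factorization p = a + v := by
    have hpav : (p ^ (a + v)).factorization p = a + v := by
      rw [Nat.Prime.factorization_pow hp, Finsupp.single_eq_same]
    rcases lt_trichotomy (N.factorization p) (a + v) with hlt | heq | hgt
    · have h2 := (natDiv_mem_loc hM (p := p) (pow_ne_zero (a + v) hp.ne_zero) hN0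
        (by omega)).2.1 (by omega)
      have h3 := memIdeal_mul_left hM hXm h2
      exfalso
      apply not_memIdeal_one hM
      convert h3 using 1
      have : ((p ^ (a + v) : ℕ) : ℂ) ≠ 0 := Nat.cast_ne_zero.2 (pow_ne_zero _ hp.ne_zero)
      have : (N : ℂ) ≠ 0 := Nat.cast_ne_zero.2 hN0
      field_simp
    · exact heq
    · exact absurd ((natDiv_mem_loc hM (p := p) hN0 (pow_ne_zero (a + v) hp.ne_zero)
        (by omega)).2.1 (by omega)) hXu
  rw [finsum_mem_eq_finite_toFinset_sum _ (Set.toFinite _), blockDefect_eq,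
    show (Set.toFinite B).toFinset = bset B by ext; simp [mem_bset], ← hN, hfac, ← ha, ← hv]
  omega

end Cfsg.Agent.S4491
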