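import Cfsg.Statements.S4494
import Cfsg.Agent.Lib.Blocks.Proj

set_option autoImplicit false
set_option linter.style.haveILetI false
open Cfsg

namespace Cfsg.Agent.S4494

open CfsgLib.Blocks CfsgLib.CharTheory

/-- The Brauer–Feit bound. Let B be a p-block of the finite group G (relative to a maximal ideal M of the algebraic integers containing p) and let d be its defect. Then the number k(B) of irreducible characters in B satisfies k(B) ≤ p^(2d)/4 + 1, stated here as 4·k(B) ≤ p^(2d) + 4. -/
theorem result {G : Type*} [Group G] [Finite G] (p : ℕ) [Fact p.Prime] (M : Ideal Cfsg.AlgInt) (hM : Cfsg.IsPModular p M) (B : Set (Cfsg.IrrCharacter G)) (hB : Cfsg.IsPBlock M B) : 4 * Nat.card B ≤ p ^ (2 * Cfsg.blockDefect p B) + 4 := by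
  classical
  haveI := Fintype.ofFinite G
  have h := brauer_feit hM hB
  have hle : ((bset B).card : ℤ) ≤ ∑ ψ ∈ bset B,
      ((p : ℤ) ^ (dv p (ψ : G → ℂ) - minDv p B)) ^ 2 := by
    rw [Finset.card_eq_sum_ones]
    push_cast
    exact Finset.sum_le_sum fun ψ _ =>
      one_le_pow₀ (one_le_pow₀ (by exact_mod_cast (Fact.out : p.Prime).one_lt.le))
  have hc : Nat.card B = (bset B).card := by
    rw [Nat.card_coe_set_eq, Set.ncard_eq_toFinset_card _ (Set.toFinite B)]
    congr 1
  rw [hc, pow_mul']
  have : 4 * ((bset B).card : ℤ) ≤ ((p : ℤ) ^ Cfsg.blockDefect p B) ^ 2 + 4 := by linarith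
  exact_mod_cast this

end Cfsg.Agent.S4494
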