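import Cfsg.Statements.S4496
import Mathlib

set_option autoImplicit false
open Cfsg

namespace Cfsg.Agent.S4496

/-- Let the finite group G contain an element x of prime order p with C_G(x) = ⟨x⟩. Then: (a) every normal subgroup of order divisible by p contains the commutator subgroup; (b) every normal subgroup S of order prime to p has order dividing the number of subgroups of order p of G and congruent to 1 modulo p, and in G/S the image of x again has prime order p and commutes only with its own powers. -/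
theorem result {G : Type*} [Group G] [Finite G] (p : ℕ) (hp : p.Prime) (x : G) (hx : orderOf x = p) (hC : Subgroup.centralizer ({x} : Set G) = Subgroup.zpowers x) (S : Subgroup G) [S.Normal] : (p ∣ Nat.card S → commutator G ≤ S) ∧ (¬ p ∣ Nat.card S → Nat.card S ∣ Nat.card {H : Subgroup G // Nat.card H = p} ∧ Nat.card S % p = 1 ∧ orderOf (QuotientGroup.mk x : G ⧸ S) = p ∧ Subgroup.centralizer ({(QuotientGroup.mk x : G ⧸ S)} : Set (G ⧸ S)) = Subgroup.zpowers (QuotientGroup.mk x : G ⧸ S)) := by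
  classical
  haveI := Fact.mk hp
  have hxC : x ∈ Subgroup.centralizer ({x} : Set G) := Subgroup.mem_centralizer_singleton_iff.mpr rfl
  set X := Subgroup.zpowers x with hX
  have hXc : Nat.card X = p := by rw [Nat.card_zpowers, hx]
  -- the Sylow subgroup is generated by `x`
  obtain ⟨P, hP⟩ := (IsPGroup.of_card (n := 1) (hXc.trans (pow_one p).symm)).exists_le_sylow
  have hPX : (P : Subgroup G) = X := by
    refine le_antisymm ?_ hP
    haveI : Nontrivial (P : Subgroup G) := ⟨⟨⟨x, hP (Subgroup.mem_zpowers x)⟩, 1, fun h => by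
      have := congrArg Subtype.val h
      simp only [OneMemClass.coe_one] at this
      rw [this, orderOf_one] at hx; exact hp.one_lt.ne hx⟩⟩
    obtain ⟨z, hzc, hz1⟩ := (Subgroup.bot_or_exists_ne_one (Subgroup.center (P : Subgroup G))).resolve_left
      ((Subgroup.nontrivial_iff_ne_bot _).mp P.isPGroup'.center_nontrivial)
    have hzX : (z : G) ∈ X := hC ▸ Subgroup.mem_centralizer_singleton_iff.mpr
      (congrArg Subtype.val (Subgroup.mem_center_iff.mp hzc ⟨x, hP (Subgroup.mem_zpowers x)⟩)).symm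
    have hXz : X = Subgroup.zpowers (z : G) := by
      refine (Subgroup.eq_of_le_of_card_ge (Subgroup.zpowers_le.mpr hzX) ?_).symm
      rw [hXc, Nat.card_zpowers]
      have h1 := Subgroup.card_dvd_of_le (Subgroup.zpowers_le.mpr hzX)
      rw [hXc, Nat.card_zpowers] at h1
      rcases (Nat.dvd_prime hp).mp h1 with h | h
      · exact absurd (Subtype.ext (orderOf_eq_one_iff.mp h)) hz1
      · omega
    intro y hy
    rw [← hC, Subgroup.mem_centralizer_singleton_iff]
    obtain ⟨i, hi⟩ := Subgroup.mem_zpowers_iff.mp (hXz ▸ Subgroup.mem_zpowers x : x ∈ Subgroup.zpowers (z : G))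
    rw [← hi]
    exact ((show Commute y (z : G) from congrArg Subtype.val
      (Subgroup.mem_center_iff.mp hzc ⟨y, hy⟩)).zpow_right i).eq
  have hnorm : ∀ g, g ∈ Subgroup.normalizer (X : Set G) → ∃ i : ℤ, g * x * g⁻¹ = x ^ i := fun g hg => by
    obtain ⟨i, hi⟩ := Subgroup.mem_zpowers_iff.mp ((Subgroup.mem_normalizer_iff.mp hg x).mp (Subgroup.mem_zpowers x))
    exact ⟨i, hi.symm⟩
  constructor
  · intro hpS
    obtain ⟨y, hy⟩ := exists_prime_orderOf_dvd_card' (G := S) p hpS
    have hy' : orderOf (y : G) = p := by rw [Subgroup.orderOf_coe, hy]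
    obtain ⟨Q, hQ⟩ := (IsPGroup.of_card (n := 1)
      (by rw [Nat.card_zpowers, hy', pow_one] : Nat.card (Subgroup.zpowers (y : G)) = p ^ 1)).exists_le_sylow
    have hcQ : Nat.card (Q : Subgroup G) = p := (Nat.card_congr (Q.equiv P).toEquiv).trans (hPX ▸ hXc)
    have hQS : (Q : Subgroup G) ≤ S := by
      rw [← Subgroup.eq_of_le_of_card_ge hQ (by rw [hcQ, Nat.card_zpowers, hy'])]
      exact Subgroup.zpowers_le.mpr y.2
    have hPS : (P : Subgroup G) ≤ S := by
      obtain ⟨g, hg⟩ := MulAction.exists_smul_eq G Q P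
      rw [← hg, Sylow.coe_subgroup_smul]
      exact Subgroup.map_le_iff_le_comap.mpr fun q hq =>
        Subgroup.Normal.conj_mem inferInstance q (hQS hq) g
    have htop := P.normalizer_sup_eq_top' hPS
    rw [← P.coe_coe, hPX] at htop
    rw [commutator_def, Subgroup.commutator_le]
    intro a _ b _
    obtain ⟨n, hn, s, hs, rfl⟩ : ∃ n ∈ Subgroup.normalizer (X : Set G), ∃ s ∈ S, n * s = a := by
      have : a ∈ (↑(Subgroup.normalizer (X : Set G) ⊔ S) : Set G) := htop ▸ Subgroup.mem_top a
      rw [Subgroup.mul_normal] at this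
      obtain ⟨n, hn, s, hs, he⟩ := this
      exact ⟨n, hn, s, hs, he⟩
    obtain ⟨m, hm, t, ht, rfl⟩ : ∃ m ∈ Subgroup.normalizer (X : Set G), ∃ t ∈ S, m * t = b := by
      have : b ∈ (↑(Subgroup.normalizer (X : Set G) ⊔ S) : Set G) := htop ▸ Subgroup.mem_top b
      rw [Subgroup.mul_normal] at this
      obtain ⟨n, hn, s, hs, he⟩ := this
      exact ⟨n, hn, s, hs, he⟩
    have hcS : n * m * n⁻¹ * m⁻¹ ∈ S := by
      apply (hPX ▸ hPS : X ≤ S)
      rw [← hC, Subgroup.mem_centralizer_singleton_iff]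
      obtain ⟨i, hi⟩ := hnorm n⁻¹ (inv_mem hn)
      obtain ⟨j, hj⟩ := hnorm m⁻¹ (inv_mem hm)
      have key : n⁻¹ * m⁻¹ * x * (n⁻¹ * m⁻¹)⁻¹ = m⁻¹ * n⁻¹ * x * (m⁻¹ * n⁻¹)⁻¹ := by
        calc n⁻¹ * m⁻¹ * x * (n⁻¹ * m⁻¹)⁻¹ = MulAut.conj n⁻¹ (m⁻¹ * x * m⁻¹⁻¹) := by
              rw [MulAut.conj_apply]; group
          _ = (n⁻¹ * x * n⁻¹⁻¹) ^ j := by rw [hj, map_zpow, MulAut.conj_apply]
          _ = (m⁻¹ * x * m⁻¹⁻¹) ^ i := by rw [hi, hj, ← zpow_mul, ← zpow_mul, mul_comm]
          _ = MulAut.conj m⁻¹ (n⁻¹ * x * n⁻¹⁻¹) := by rw [hi, map_zpow, MulAut.conj_apply]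
          _ = m⁻¹ * n⁻¹ * x * (m⁻¹ * n⁻¹)⁻¹ := by rw [MulAut.conj_apply]; group
      calc n * m * n⁻¹ * m⁻¹ * x
          = n * m * (n⁻¹ * m⁻¹ * x * (n⁻¹ * m⁻¹)⁻¹) * (n⁻¹ * m⁻¹) := by group
        _ = n * m * (m⁻¹ * n⁻¹ * x * (m⁻¹ * n⁻¹)⁻¹) * (n⁻¹ * m⁻¹) := by rw [key]
        _ = x * (n * m * n⁻¹ * m⁻¹) := by group
    rw [← QuotientGroup.eq_one_iff] at hs ht hcS ⊢
    simp only [commutatorElement_def, QuotientGroup.mk_mul, QuotientGroup.mk_inv, hs, ht, mul_one,
      mul_inv_rev, one_mul] at hcS ⊢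
    simpa [hs, ht] using hcS
  · intro hpS
    -- the centralizer of `x` meets `S` trivially
    have hCS : ∀ s ∈ S, s * x = x * s → s = 1 := fun s hs hsx => by
      have h1 : s ∈ X := hC ▸ Subgroup.mem_centralizer_singleton_iff.mpr hsx
      have h2 : Nat.card (S ⊓ X : Subgroup G) = 1 := by
        rcases (Nat.dvd_prime hp).mp (hXc ▸ Subgroup.card_dvd_of_le inf_le_right) with h | h
        · exact h
        · exact absurd (h ▸ Subgroup.card_dvd_of_le inf_le_left) hpS
      exact Subgroup.mem_bot.mp (Subgroup.card_eq_one.mp h2 ▸ ⟨hs, h1⟩)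
    have hx1 : (QuotientGroup.mk x : G ⧸ S) ≠ 1 := fun h => by
      rw [QuotientGroup.eq_one_iff] at h
      exact hpS (hx ▸ Subgroup.orderOf_dvd_natCard _ h)
    have hord : orderOf (QuotientGroup.mk x : G ⧸ S) = p :=
      orderOf_eq_prime (by rw [← QuotientGroup.mk_pow, ← hx, pow_orderOf_eq_one]; rfl) hx1
    have hmod : Nat.card S % p = 1 := by
      let act : MulAction X S :=
        { smul := fun g s => MulAut.conjNormal (g : G) s
          one_smul := fun s => by show MulAut.conjNormal ((1 : X) : G) s = s; simp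
          mul_smul := fun g h s => by
            show MulAut.conjNormal ((g * h : X) : G) s = MulAut.conjNormal (g : G) (MulAut.conjNormal (h : G) s)
            rw [Subgroup.coe_mul, map_mul, MulAut.mul_apply] }
      have h1 := (IsPGroup.of_card (n := 1) (hXc.trans (pow_one p).symm)).card_modEq_card_fixedPoints (α := S)
      have h2 : Nat.card (MulAction.fixedPoints X S) = 1 := by
        rw [Nat.card_eq_one_iff_unique]
        refine ⟨⟨fun a b => ?_⟩, ⟨⟨1, fun g => map_one _⟩⟩⟩
        have key : ∀ c : MulAction.fixedPoints X S, c.1 = 1 := fun c => by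
          have h3 := congrArg Subtype.val (c.2 ⟨x, Subgroup.mem_zpowers x⟩)
          rw [show (⟨x, Subgroup.mem_zpowers x⟩ : X) • c.1 = MulAut.conjNormal x c.1 from rfl,
            MulAut.conjNormal_apply, mul_inv_eq_iff_eq_mul] at h3
          exact Subtype.ext (hCS _ c.1.2 h3.symm)
        exact Subtype.ext ((key a).trans (key b).symm)
      rw [h2] at h1
      rw [h1, Nat.one_mod_eq_one]
      exact hp.ne_one
    have hSylow : Nat.card {H : Subgroup G // Nat.card H = p} =
        (Subgroup.normalizer (X : Set G)).index := by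
      have hcard : ∀ Q : Sylow p G, Nat.card (Q : Subgroup G) = p := fun Q =>
        (Nat.card_congr (Q.equiv P).toEquiv).trans (hPX ▸ hXc)
      have e : Sylow p G ≃ {H : Subgroup G // Nat.card H = p} := by
        refine Equiv.ofBijective (fun Q => ⟨Q, hcard Q⟩) ⟨fun Q Q' h => ?_, ?_⟩
        · exact Sylow.ext (congrArg Subtype.val h)
        · rintro ⟨H, hH⟩
          obtain ⟨Q, hQ⟩ := (IsPGroup.of_card (n := 1) (hH.trans (pow_one p).symm)).exists_le_sylow
          exact ⟨Q, Subtype.ext (Subgroup.eq_of_le_of_card_ge hQ (by rw [hcard Q, hH])).symm⟩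
      rw [← Nat.card_congr e, P.card_eq_index_normalizer, ← P.coe_coe, hPX]
    have hdisj : S ⊓ Subgroup.normalizer (X : Set G) = ⊥ := by
      rw [Subgroup.eq_bot_iff_forall]
      rintro s ⟨hs, hsN⟩
      refine hCS s hs ?_
      have h1 : s * x * s⁻¹ * x⁻¹ ∈ S := by
        rw [mul_assoc s x, mul_assoc s]
        exact mul_mem hs (Subgroup.Normal.conj_mem inferInstance _ (inv_mem hs) x)
      obtain ⟨i, hi⟩ := hnorm s hsN
      have h2 : s * x * s⁻¹ * x⁻¹ ∈ X := by
        rw [hi]; exact mul_mem (Subgroup.zpow_mem _ (Subgroup.mem_zpowers x) i) (inv_mem (Subgroup.mem_zpowers x))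
      have h3 : (s * x * s⁻¹ * x⁻¹) * x = x * (s * x * s⁻¹ * x⁻¹) :=
        Subgroup.mem_centralizer_singleton_iff.mp (hC.symm ▸ h2)
      have h4 := hCS _ h1 h3
      rw [mul_inv_eq_one, mul_inv_eq_iff_eq_mul] at h4
      exact h4
    refine ⟨?_, hmod, hord, ?_⟩
    · rw [hSylow]
      have h1 : Nat.card S = (Subgroup.normalizer (X : Set G)).relIndex (S ⊔ Subgroup.normalizer (X : Set G)) := by
        set N := Subgroup.normalizer (X : Set G)
        have e1 := Subgroup.relIndex_mul_relIndex ⊥ S (S ⊔ N) bot_le le_sup_left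
        have e2 := Subgroup.relIndex_mul_relIndex ⊥ N (S ⊔ N) bot_le le_sup_right
        rw [Subgroup.relIndex_bot_left, Subgroup.relIndex_bot_left] at e1 e2
        have e3 : S.relIndex (S ⊔ N) = Nat.card N := by
          rw [sup_comm, Subgroup.relIndex_sup_right, ← Subgroup.inf_relIndex_right, hdisj,
            Subgroup.relIndex_bot_left]
        rw [e3, ← e2, mul_comm] at e1
        exact Nat.eq_of_mul_eq_mul_left Nat.card_pos e1
      rw [h1]
      exact Subgroup.relIndex_dvd_index_of_le le_sup_right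
    · refine le_antisymm (fun q hq => ?_) (Subgroup.zpowers_le.mpr
        (Subgroup.mem_centralizer_singleton_iff.mpr rfl))
      obtain ⟨g, rfl⟩ := QuotientGroup.mk_surjective q
      rw [Subgroup.mem_centralizer_singleton_iff, ← QuotientGroup.mk_mul, ← QuotientGroup.mk_mul,
        QuotientGroup.eq] at hq
      -- the conjugate lies in `S ⊔ X`, so Sylow's theorem applies
      set T := S ⊔ X
      have hgT : g * x * g⁻¹ ∈ T := by
        have h1 : x * g * (g * x)⁻¹ ∈ S := by
          have := Subgroup.Normal.conj_mem inferInstance _ hq (g * x)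
          convert this using 1
          group
        rw [show g * x * g⁻¹ = (x * g * (g * x)⁻¹)⁻¹ * x by group]
        exact mul_mem (inv_mem (Subgroup.mem_sup_left h1)) (Subgroup.mem_sup_right (Subgroup.mem_zpowers x))
      obtain ⟨t, ht, htg⟩ : ∃ t ∈ T, ∃ i : ℤ, t * (g * x * g⁻¹) * t⁻¹ = x ^ i := by
        let PT : Sylow p T := P.subtype (hPX.le.trans le_sup_right)
        have ho : orderOf (⟨_, hgT⟩ : T) = p := by
          rw [← Subgroup.orderOf_coe, Subgroup.coe_mk]
          exact (SemiconjBy.orderOf_eq g (by simp [SemiconjBy] : SemiconjBy g x (g * x * g⁻¹))).symm.trans hx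
        obtain ⟨Q, hQ⟩ := (IsPGroup.of_card (n := 1) (by rw [Nat.card_zpowers, ho, pow_one] :
          Nat.card (Subgroup.zpowers (⟨_, hgT⟩ : T)) = p ^ 1)).exists_le_sylow
        obtain ⟨t, ht⟩ := MulAction.exists_smul_eq T Q PT
        have h1 : (t : T) * ⟨_, hgT⟩ * t⁻¹ ∈ (PT : Subgroup T) := by
          rw [← ht, Sylow.coe_subgroup_smul]
          exact Subgroup.smul_mem_pointwise_smul _ (MulAut.conj t) _ (hQ (Subgroup.mem_zpowers _))
        have h2 : (t : G) * (g * x * g⁻¹) * (t : G)⁻¹ ∈ X := hPX ▸ h1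
        obtain ⟨i, hi⟩ := Subgroup.mem_zpowers_iff.mp h2
        exact ⟨t, t.2, i, hi.symm⟩
      obtain ⟨i, hi⟩ := htg
      have hti : t * g ∈ Subgroup.normalizer (X : Set G) := by
        have h0 : MulAut.conj (t * g) x = x ^ i := by rw [MulAut.conj_apply, ← hi]; group
        rw [Subgroup.mem_normalizer_iff]
        have hmap : X.map (MulAut.conj (t * g)).toMonoidHom = X := by
          rw [MonoidHom.map_zpowers, MulEquiv.coe_toMonoidHom, h0]
          refine Subgroup.eq_of_le_of_card_ge (Subgroup.zpowers_le.mpr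
            (Subgroup.zpow_mem _ (Subgroup.mem_zpowers x) i)) ?_
          rw [hXc, Nat.card_zpowers, ← h0, ← MulEquiv.coe_toMonoidHom,
            orderOf_injective _ (MulAut.conj (t * g)).injective, hx]
        intro y
        conv_rhs => rw [← hmap]
        rw [← MulAut.conj_apply]
        exact (Subgroup.mem_map_iff_mem (MulAut.conj (t * g)).injective).symm
      obtain ⟨s, hs, y, hy, rfl⟩ : ∃ s ∈ S, ∃ y ∈ X, s * y = t := by
        have : t ∈ (↑(S ⊔ X) : Set G) := ht
        rw [Subgroup.normal_mul] at this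
        obtain ⟨s, hs, y, hy, he⟩ := this
        exact ⟨s, hs, y, hy, he⟩
      set n := s * y * g
      have hgn : (g : G ⧸ S) = (QuotientGroup.mk y)⁻¹ * (n : G ⧸ S) := by
        simp [n, (QuotientGroup.eq_one_iff s).mpr hs]
      obtain ⟨j, hj⟩ := hnorm n hti
      have hnx : n * x = x * n := by
        have hS1 : (n : G ⧸ S) * x = x * n := by
          have hgx : (g : G ⧸ S) * x = x * g := by
            rw [← QuotientGroup.mk_mul, ← QuotientGroup.mk_mul, QuotientGroup.eq]; exact hq
          have hyx : (y : G ⧸ S) * x = x * y := by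
            obtain ⟨a, rfl⟩ := Subgroup.mem_zpowers_iff.mp hy
            rw [← QuotientGroup.mk_mul, ← QuotientGroup.mk_mul, ← zpow_add_one, ← zpow_one_add, add_comm]
          have : (n : G ⧸ S) = y * g := by simp [n, (QuotientGroup.eq_one_iff s).mpr hs]
          rw [this, mul_assoc, hgx, ← mul_assoc, hyx, mul_assoc]
        have h1 : n * x * n⁻¹ * x⁻¹ ∈ S := by
          rw [← QuotientGroup.eq_one_iff]
          simp only [QuotientGroup.mk_mul, QuotientGroup.mk_inv, hS1]
          group
        have h2 : n * x * n⁻¹ * x⁻¹ ∈ X := by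
          rw [hj]; exact mul_mem (Subgroup.zpow_mem _ (Subgroup.mem_zpowers x) j) (inv_mem (Subgroup.mem_zpowers x))
        have h4 := hCS _ h1 (Subgroup.mem_centralizer_singleton_iff.mp (hC.symm ▸ h2))
        rwa [mul_inv_eq_one, mul_inv_eq_iff_eq_mul] at h4
      have hnX : n ∈ X := hC ▸ Subgroup.mem_centralizer_singleton_iff.mpr hnx
      rw [hgn, ← QuotientGroup.mk_inv, ← QuotientGroup.mk_mul]
      obtain ⟨k, hk⟩ := Subgroup.mem_zpowers_iff.mp (mul_mem (inv_mem hy) hnX : y⁻¹ * n ∈ X)
      exact Subgroup.mem_zpowers_iff.mpr ⟨k, by rw [← QuotientGroup.mk_zpow, hk]⟩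

end Cfsg.Agent.S4496
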