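import Cfsg.Statements.S4497
import Cfsg.Agent.Lib.SelfCent.Basic

set_option autoImplicit false
open Cfsg CfsgLib.SelfCent
open scoped ComplexConjugate

set_option linter.unusedVariables false

namespace Cfsg.Agent.S4497

/-- Let the finite group G contain an element x of prime order p with C_G(x) = ⟨x⟩, let t be the number of conjugacy classes of elements of order p, and let S* = O_{p′}(G) be the largest normal subgroup of order prime to p. Then S* ≤ G′; if t ≠ p − 1 the quotient G′/S* is simple (in particular non-trivial); if t = p − 1 then G′ = S*. -/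
theorem result {G : Type*} [Group G] [Finite G] (p : ℕ) (hp : p.Prime) (x : G) (hx : orderOf x = p) (hC : Subgroup.centralizer ({x} : Set G) = Subgroup.zpowers x) (t : ℕ) (ht : Nat.card {C : ConjClasses G // ∃ g ∈ C.carrier, orderOf g = p} = t) : Cfsg.pPrimeCore p G ≤ commutator G ∧ (t ≠ p - 1 → ∀ h : ((Cfsg.pPrimeCore p G).subgroupOf (commutator G)).Normal, IsSimpleGroup (↥(commutator G) ⧸ (Cfsg.pPrimeCore p G).subgroupOf (commutator G))) ∧ (t = p - 1 → commutator G = Cfsg.pPrimeCore p G) := by
  have h : Hyp p x := ⟨hp, hx, hC⟩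
  have hiff := h.ee_eq_one_iff
  rw [ht] at hiff
  refine ⟨?_, fun hne hn => ?_, fun he => (h.of_ee_one (hiff.2 he)).1⟩
  · by_cases he : ee x = 1
    · exact (h.of_ee_one he).1.ge
    · exact h.pPrimeCore_le_commutator he
  haveI := hn
  have he : ee x ≠ 1 := fun e => hne (hiff.1 e)
  have hxG := h.mem_commutator he
  set K := Cfsg.pPrimeCore p G with hK
  set K' := K.subgroupOf (commutator G) with hK'
  set f := QuotientGroup.mk' K' with hf
  haveI : Nontrivial (↥(commutator G) ⧸ K') := by
    refine ⟨⟨f ⟨x, hxG⟩, 1, fun e => ?_⟩⟩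
    rw [hf, QuotientGroup.mk'_apply, QuotientGroup.eq_one_iff] at e
    have hxK : x ∈ K := e
    exact hp.ne_one (Nat.eq_one_of_dvd_coprimes (CfsgLib.card_pPrimeCore_coprime p)
      (hx ▸ Subgroup.orderOf_dvd_natCard K hxK) dvd_rfl)
  refine ⟨fun H hH => ?_⟩
  haveI := hH
  set R := H.comap f with hR
  have hKR : ∀ k : ↥(commutator G), (k : G) ∈ K → k ∈ R := fun k hk => by
    rw [hR, Subgroup.mem_comap, hf, QuotientGroup.mk'_apply,
      (QuotientGroup.eq_one_iff k).2 hk]
    exact one_mem _
  set R0 := R.map (commutator G).subtype with hR0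
  by_cases hd : p ∣ Nat.card R
  · right
    -- every conjugate of `R` contains `x`, so the core is everything
    have hxgen : ∀ g : G, g⁻¹ * x * g ∈ commutator G := fun g => by
      simpa using (inferInstance : (commutator G).Normal).conj_mem _ hxG g⁻¹
    have key : ∀ g : G, g⁻¹ * x * g ∈ R0 := by
      intro g
      haveI : Fact p.Prime := ⟨hp⟩
      obtain ⟨y, hy⟩ := exists_prime_orderOf_dvd_card' (G := R) p hd
      obtain ⟨P, hP⟩ := h.exists_sylow
      have hz : IsPGroup p (Subgroup.zpowers (g⁻¹ * x * g)) :=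
        IsPGroup.of_card (n := 1) (by
          rw [Nat.card_zpowers, pow_one, ← hx]
          simpa using MulEquiv.orderOf_eq (MulAut.conj g⁻¹) x)
      -- both `y` and the conjugate of `x` generate Sylow subgroups of the commutator subgroup
      set c : ↥(commutator G) := ⟨g⁻¹ * x * g, hxgen g⟩
      have hcy : ∃ a : ↥(commutator G), a * c * a⁻¹ ∈ R := by
        have hy' : IsPGroup p (Subgroup.zpowers (y : ↥(commutator G))) :=
          IsPGroup.of_card (n := 1) (by rw [Nat.card_zpowers, Subgroup.orderOf_coe, hy, pow_one])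
        have hc' : IsPGroup p (Subgroup.zpowers c) :=
          IsPGroup.of_card (n := 1) (by
            rw [Nat.card_zpowers, pow_one, ← hx, ← Subgroup.orderOf_coe]
            simpa [c] using MulEquiv.orderOf_eq (MulAut.conj g⁻¹) x)
        obtain ⟨S, hS⟩ := hy'.exists_le_sylow
        obtain ⟨U, hU⟩ := hc'.exists_le_sylow
        obtain ⟨a, ha⟩ := MulAction.exists_smul_eq (↥(commutator G)) U S
        have hScard : Nat.card (S : Subgroup ↥(commutator G)) ≤ p := by
          obtain ⟨Q, hQ⟩ := (S.2.map (commutator G).subtype).exists_le_sylow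
          obtain ⟨b, hb⟩ := MulAction.exists_smul_eq G P Q
          rw [← Subgroup.card_map_of_injective (commutator G).subtype_injective]
          refine (Subgroup.card_le_of_le hQ).trans (le_of_eq ?_)
          rw [Sylow.card_eq_multiplicity, ← Sylow.card_eq_multiplicity P, hP, Nat.card_zpowers, hx]
        have hSy : (S : Subgroup ↥(commutator G)) = Subgroup.zpowers (y : ↥(commutator G)) :=
          (Subgroup.eq_of_le_of_card_ge hS (hScard.trans_eq
            (by rw [Nat.card_zpowers, Subgroup.orderOf_coe, hy]))).symm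
        refine ⟨a, Subgroup.zpowers_le.2 y.2 ?_⟩
        rw [← hSy, ← ha, Sylow.coe_subgroup_smul, CfsgLib.SelfCent.mem_smul_conj]
        exact hU (Subgroup.mem_zpowers c)
      obtain ⟨a, ha⟩ := hcy
      exact ⟨c, by simpa [mul_assoc] using (inferInstance : R.Normal).conj_mem _ ha a⁻¹, rfl⟩
    have hcore : x ∈ R0.normalCore := fun g => by simpa using key g⁻¹
    have hle := (h.commutator_le hcore).1
    rw [eq_top_iff]
    intro z _
    obtain ⟨w, rfl⟩ := QuotientGroup.mk'_surjective K' z
    obtain ⟨v, hv, hvw⟩ := (hle.trans (Subgroup.normalCore_le _)) w.2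
    have hv' : v = w := Subtype.ext hvw
    rw [← hv']
    exact hv
  · left
    rw [eq_bot_iff]
    intro z hz
    obtain ⟨w, rfl⟩ := QuotientGroup.mk'_surjective K' z
    rw [Subgroup.mem_bot, QuotientGroup.mk'_apply, QuotientGroup.eq_one_iff]
    show (w : G) ∈ K
    refine CfsgLib.SelfCent.coprime_normal_le (R := R) hp hd (?_ : w ∈ R)
    exact hz

end Cfsg.Agent.S4497
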