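import Cfsg.Statements.S4498
import Cfsg.Agent.Lib.Blocks.Principal
import Cfsg.Agent.Lib.Blocks.Heights

set_option autoImplicit false
open Cfsg

namespace Cfsg.Agent.S4498

open CfsgLib.Blocks CfsgLib.CharTheory
open scoped ComplexConjugate


/-- Let p and q be distinct primes dividing the order of the finite group G, and suppose G has no element of order p·q. Fix maximal ideals M_p over p and M_q over q of the algebraic integers. Then the principal p-block and the principal q-block of G have a non-principal irreducible character in common. -/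
theorem result {G : Type*} [Group G] [Finite G] (p q : ℕ) [Fact p.Prime] [Fact q.Prime] (hpq : p ≠ q) (hp : p ∣ Nat.card G) (hq : q ∣ Nat.card G) (hno : ∀ g : G, orderOf g ≠ p * q) (Mp Mq : Ideal Cfsg.AlgInt) (hMp : Cfsg.IsPModular p Mp) (hMq : Cfsg.IsPModular q Mq) : ∃ χ : Cfsg.IrrCharacter G, (χ : G → ℂ) ≠ (fun _ => 1) ∧ χ ∈ Cfsg.principalBlock Mp G ∧ χ ∈ Cfsg.principalBlock Mq G := by
  classical
  haveI := Fintype.ofFinite G
  by_contra hno'
  push Not at hno'
  have hP := principalBlock_isPBlock (M := Mp) (G := G)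
  have hQ := principalBlock_isPBlock (M := Mq) (G := G)
  obtain ⟨x, hx⟩ := exists_prime_orderOf_dvd_card' p hp
  obtain ⟨y, hy⟩ := exists_prime_orderOf_dvd_card' q hq
  let a : G → ℂ := fun g => ∑ χ ∈ bset (principalBlock Mp G), (χ : G → ℂ) x * (χ : G → ℂ) g
  let b : G → ℂ := fun g => ∑ χ ∈ bset (principalBlock Mq G), (χ : G → ℂ) y * (χ : G → ℂ) g
  -- supports are disjoint
  have h0 : classInner a b = 0 := by
    refine mul_eq_zero_of_right _ (Finset.sum_eq_zero fun g _ => ?_)
    by_cases hgp : p ∣ orderOf g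
    · by_cases hgq : q ∣ orderOf g
      · have hd : p * q ∣ orderOf g :=
          ((Nat.coprime_primes (Fact.out : p.Prime) (Fact.out : q.Prime)).2 hpq).mul_dvd_of_dvd_of_dvd hgp hgq
        exact absurd (orderOf_pow_orderOf_div (orderOf_pos g).ne' hd) (hno _)
      · rw [show b g = 0 from weak_orth' hMq hQ (by rw [hy]; simp [hgq]), map_zero, mul_zero]
    · rw [show a g = 0 from weak_orth' hMp hP (by rw [hx]; simp [hgp]), zero_mul]
  have h1 : classInner a b = 1 := by
    have ea : a = ∑ χ ∈ bset (principalBlock Mp G), ((χ : G → ℂ) x) • (χ : G → ℂ) :=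
      funext fun g => by simp [a]
    have eb : b = ∑ χ ∈ bset (principalBlock Mq G), ((χ : G → ℂ) y) • (χ : G → ℂ) :=
      funext fun g => by simp [b]
    rw [ea, eb, classInner_sum_left]
    simp only [classInner_sum_right, classInner_smul_left, classInner_smul_right]
    rw [Finset.sum_eq_single (oneIrr G), Finset.sum_eq_single (oneIrr G)]
    · rw [classInner_irr_self (oneIrr G).2]
      show conj (1 : ℂ) * ((1 : ℂ) * 1) = 1
      simp
    · intro ψ _ hne
      rw [classInner_irr_ne (oneIrr G).2 ψ.2 fun e => hne (Subtype.ext e.symm)]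
      simp
    · exact fun h => absurd (mem_bset.2 (oneIrr_mem hMq)) h
    · intro χ hχ hne
      refine Finset.sum_eq_zero fun ψ hψ => ?_
      rw [classInner_irr_ne χ.2 ψ.2 fun e => ?_]
      · simp
      · have e' : χ = ψ := Subtype.ext e
        exact hno' χ (fun e1 => hne (Subtype.ext e1)) (mem_bset.1 hχ) (e' ▸ mem_bset.1 hψ)
    · exact fun h => absurd (mem_bset.2 (oneIrr_mem hMp)) h
  exact one_ne_zero (h1.symm.trans h0)

end Cfsg.Agent.S4498
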