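import Cfsg.Statements.S4502
import Cfsg.Agent.Lib.Blocks.DefectOneMcKay
import Cfsg.Agent.Lib.Blocks.DefectZeroCount
import Cfsg.Agent.Lib.CharTheory.Degree

set_option autoImplicit false
open Cfsg CfsgLib.CharTheory CfsgLib.CharTheory.SmallDegree CfsgLib.Blocks
open scoped ComplexConjugate

set_option linter.unusedVariables false

namespace Cfsg.Agent.S4502

/-- Let G be a finite group whose order is divisible by the prime p exactly once, and let P be a Sylow p-subgroup. Then the number of irreducible characters of G of degree not divisible by p equals the number of conjugacy classes of the normalizer of P. -/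
theorem result {G : Type*} [Group G] [Finite G] (p : ℕ) [Fact p.Prime] (hdiv : p ∣ Nat.card G) (hsq : ¬ p ^ 2 ∣ Nat.card G) (P : Sylow p G) : Nat.card {χ : Cfsg.IrrCharacter G // ¬ p ∣ Cfsg.charDegree (χ : G → ℂ)} = Nat.card (ConjClasses (Subgroup.normalizer ((P : Subgroup G) : Set G))) := by
  classical
  haveI := Fintype.ofFinite G
  have hp : p.Prime := Fact.out
  obtain ⟨M, hM⟩ := exists_pModular hp
  have hfac : (Nat.card G).factorization p = 1 := by
    refine le_antisymm (Nat.lt_succ_iff.1 (Nat.lt_of_not_le fun h2 => hsq ?_))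
      (hp.factorization_pos_of_dvd Nat.card_pos.ne' hdiv)
    exact (hp.pow_dvd_iff_le_factorization Nat.card_pos.ne').2 h2
  have hP : Nat.card (P : Subgroup G) = p := by
    rw [P.card_eq_multiplicity, hfac, pow_one]
  haveI : Fintype (P : Subgroup G) := Fintype.ofFinite _
  haveI : Fintype (cen (P : Subgroup G)) := Fintype.ofFinite _
  obtain ⟨H, hH⟩ := DefectOne.exists_Compl (DefectOne.setup_sylow P hP)
  haveI : Fintype H := Fintype.ofFinite _
  haveI : Fintype (Subgroup.normalizer ((P : Subgroup G) : Set G)) := Fintype.ofFinite _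
  set P' := (P : Subgroup G).subgroupOf (Subgroup.normalizer ((P : Subgroup G) : Set G)) with hP'def
  haveI : Fintype P' := Fintype.ofFinite _
  haveI : Fintype (cen P') := Fintype.ofFinite _
  have hP' : Nat.card P' = p :=
    (Nat.card_congr (Subgroup.subgroupOfEquivOfLe Subgroup.le_normalizer).toEquiv).trans hP
  have hidx : ¬ p ∣ P'.index := fun hd => P.not_dvd_index
    (hd.trans (Subgroup.relIndex_dvd_index_of_le Subgroup.le_normalizer))
  have h' := DefectOne.setup_of_card hp hP' hidx
  obtain ⟨H', hH'⟩ := DefectOne.exists_Compl h'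
  haveI : Fintype H' := Fintype.ofFinite _
  have e1 := DefectOne.count_pPrime hM (DefectOne.setup_sylow P hP) hH hP
  have e2 := DefectOne.count_pPrime hM h' hH' hP'
  rw [DefectOne.finsum_weight_cenIrr, ← e1, Nat.cast_inj] at e2
  rw [← e2, ← card_irr_eq_card_conjClasses]
  refine Nat.card_congr (Equiv.subtypeUnivEquiv fun χ hd => hidx ?_)
  refine hd.trans ?_
  obtain ⟨n, ρ, hρ, e⟩ := χ.2
  haveI := hρ
  haveI : P'.Normal := Subgroup.normal_in_normalizer
  have h1 : Cfsg.charDegree (χ : ↥(Subgroup.normalizer ((P : Subgroup G) : Set G)) → ℂ) = Module.finrank ℂ (Fin n → ℂ) := by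
    have h2 := irr_charDegree_cast χ
    rw [← e, Representation.char_one] at h2
    rw [← e]
    exact_mod_cast h2
  rw [h1]
  exact degree_dvd_index_of_abelian_normal ρ P' fun a ha b hb => h'.comm ha hb

end Cfsg.Agent.S4502
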