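import Cfsg.Statements.S4505
import Cfsg.Agent.Lib.Blocks.MinMax
import Cfsg.Agent.Lib.Blocks.DefectZeroCount
import Mathlib.LinearAlgebra.Matrix.Rank

set_option autoImplicit false
open Cfsg

namespace Cfsg.Agent.S4505

open CfsgLib.Blocks CfsgLib.CharTheory

universe u

variable {p : ℕ} [hp : Fact p.Prime] {M : Ideal AlgInt} {G : Type u} [Group G] [Fintype G]

theorem clv_isConj {g h : G} (e : IsConj g h) (χ : IrrCharacter G) : clv g χ = clv h χ := by
  classical
  simp only [clv, centralChar_eq_sum]
  congr 1
  exact Finset.sum_congr (Finset.filter_congr fun y _ => ⟨fun a => e.symm.trans a, e.trans⟩)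
    fun _ _ => rfl

/-- The rows and the columns of the two families are orthogonal. -/
theorem main (hM : IsPModular p M) (σ : ℕ) :
    Nat.card {B : Set (IrrCharacter G) // IsPBlock M B ∧ blockDefect p B = σ} ≤
      Nat.card {C : ConjClasses G // ∃ g : G, ConjClasses.mk g = C ∧ ¬ p ∣ orderOf g ∧
        (Nat.card (Subgroup.centralizer ({g} : Set G))).factorization p = σ} := by
  classical
  haveI := res_charP hM
  haveI : M.IsMaximal := hM.2.1
  letI : Field (AlgInt ⧸ M) := Ideal.Quotient.field M
  set 𝓑 := {B : Set (IrrCharacter G) // IsPBlock M B ∧ blockDefect p B = σ} with h𝓑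
  set ι := {C : ConjClasses G // ∃ g : G, ConjClasses.mk g = C ∧ ¬ p ∣ orderOf g ∧
        (Nat.card (Subgroup.centralizer ({g} : Set G))).factorization p = σ} with hι
  haveI : Fintype 𝓑 := Fintype.ofFinite 𝓑
  haveI : Fintype ι := Fintype.ofFinite ι
  choose c hc using fun B : 𝓑 => block_nonempty hM B.2.1
  set U : Matrix ι 𝓑 (AlgInt ⧸ M) := Matrix.of fun C B => res hM (clv (crep C.1) (c B)) with hU
  set W : Matrix 𝓑 ι (AlgInt ⧸ M) := Matrix.of fun B C => res hM (blockCoeff B.1 (crep C.1))
    with hW
  have horth : W * U = 1 := by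
    ext B' B
    rw [Matrix.mul_apply, Matrix.one_apply]
    have h1 : omega ((c B) : G → ℂ) (blockCoeff B'.1) = ind B'.1 (c B) := by
      rw [← cf_ind, omega_cf]
    rw [omega_eq_sum_classes (blockCoeff_isClassFunction B'.1)] at h1
    have hmem2 : ∀ C : ConjClasses G, MemLocalRing M
        (blockCoeff B'.1 (crep C) * centralChar ((c B) : G → ℂ) (crep C)) := fun C =>
      (loc hM).mul_mem (memRing_blockCoeff hM B'.2.1 _) (memRing_clv hM (crep C) (c B))
    have h2 := congrArg (res hM) h1
    rw [res_sum hM (fun C _ => hmem2 C)] at h2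
    have h3 : res hM (ind B'.1 (c B)) = if B' = B then 1 else 0 := by
      by_cases h : B' = B
      · subst h; rw [if_pos rfl, ind_of_mem (hc B'), res_one]
      · rw [if_neg h, ind_of_notMem, res_zero]
        intro hm
        exact h (Subtype.ext ((eq_blockOf hM B'.2.1 hm).trans (eq_blockOf hM B.2.1 (hc B)).symm))
    rw [← h3, ← h2]
    refine Finset.sum_bij_ne_zero (fun C _ _ => C.1) (fun C _ _ => Finset.mem_univ _)
      (fun C _ _ C' _ _ e => Subtype.ext e) (fun C _ hC => ?_) (fun C _ _ => ?_)
    · set g := crep C with hg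
      rw [show centralChar ((c B) : G → ℂ) g = clv g (c B) from rfl] at hC
      rw [res_mul hM (memRing_blockCoeff hM B'.2.1 g) (memRing_clv hM g (c B))] at hC
      have hb : ¬ MemLocalIdeal M (blockCoeff B'.1 g) := fun h =>
        hC (by rw [(res_eq_zero_iff hM (memRing_blockCoeff hM B'.2.1 g)).2 h, zero_mul])
      have hcl : ¬ MemLocalIdeal M (centralChar ((c B) : G → ℂ) g) := fun h =>
        hC (by
          rw [show res hM (clv g (c B)) = 0 from (res_eq_zero_iff hM (memRing_clv hM g (c B))).2 h,
            mul_zero])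
      obtain ⟨R⟩ : Nonempty (Sylow p (Subgroup.centralizer ({g} : Set G))) := inferInstance
      have hRcard : Nat.card ((R : Subgroup (Subgroup.centralizer ({g} : Set G))).map
          (Subgroup.centralizer ({g} : Set G)).subtype) =
          p ^ (Nat.card (Subgroup.centralizer ({g} : Set G))).factorization p := by
        rw [Subgroup.card_map_of_injective (Subgroup.subtype_injective _), R.card_eq_multiplicity]
      obtain ⟨E, hE, hRE⟩ := exists_defectGroup_ge hM B'.2.1 hb (R.isPGroup'.map _)
        (Subgroup.map_subtype_le _)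
      have hle := Subgroup.card_le_of_le hRE
      rw [hRcard, card_defectGroup hM B'.2.1 hE, B'.2.2] at hle
      obtain ⟨l, hl⟩ := exists_defectClass hM B.2.1
      obtain ⟨S⟩ : Nonempty (Sylow p (Subgroup.centralizer ({l} : Set G))) := inferInstance
      obtain ⟨z, hz⟩ := sylow_le_conj hM B.2.1 (hc B) (h := g) (l := l) hcl hl.2.1
        (S.isPGroup'.map _) (Subgroup.map_subtype_le _) R
      have hge := Subgroup.card_le_of_le hz
      rw [Subgroup.card_map_of_injective (MulAut.conj z).injective, hRcard,
        card_defectGroup hM B.2.1 ⟨l, hl, S, rfl⟩, B.2.2] at hge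
      have hσ : (Nat.card (Subgroup.centralizer ({g} : Set G))).factorization p = σ :=
        le_antisymm ((Nat.pow_le_pow_iff_right hM.1.one_lt).1 hle)
          ((Nat.pow_le_pow_iff_right hM.1.one_lt).1 hge)
      have hgreg : ¬ p ∣ orderOf g := by
        intro h
        apply hb
        have h0 : blockCoeff B'.1 g = 0 := by
          simp only [blockCoeff, finsum_mem_bset]
          rw [weak_orth_conj hM B'.2.1 (x := 1) (by simpa using hM.1.not_dvd_one) h, mul_zero]
        rw [h0]; exact memIdeal_zero hM
      refine ⟨⟨C, g, mk_crep C, hgreg, hσ⟩, Finset.mem_univ _, ?_, rfl⟩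
      simp only [hW, hU, Matrix.of_apply]
      exact hC
    · simp only [hW, hU, Matrix.of_apply]
      rw [← res_mul hM (memRing_blockCoeff hM B'.2.1 _) (memRing_clv hM _ (c B))]
      rfl
  have hr : (W * U).rank = Fintype.card 𝓑 := by rw [horth, Matrix.rank_one]
  rw [Nat.card_eq_fintype_card, Nat.card_eq_fintype_card, ← hr]
  exact (Matrix.rank_mul_le_left W U).trans (Matrix.rank_le_card_width W)


/-- Let G be a finite group, p a prime and M a maximal ideal of the algebraic integers containing p. For every σ, the number of p-blocks of defect exactly σ is at most the number of conjugacy classes of p-regular elements whose centralizer has order divisible by p^σ but not by p^(σ+1). -/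
theorem result {G : Type*} [Group G] [Finite G] (p : ℕ) [Fact p.Prime] (M : Ideal Cfsg.AlgInt) (hM : Cfsg.IsPModular p M) (σ : ℕ) : Nat.card {B : Set (Cfsg.IrrCharacter G) // Cfsg.IsPBlock M B ∧ Cfsg.blockDefect p B = σ} ≤ Nat.card {C : ConjClasses G // ∃ g : G, ConjClasses.mk g = C ∧ ¬ p ∣ orderOf g ∧ (Nat.card (Subgroup.centralizer ({g} : Set G))).factorization p = σ} := by
  haveI := Fintype.ofFinite G
  exact main hM σ

end Cfsg.Agent.S4505
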