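import Cfsg.Statements.S4506
import Cfsg.Agent.Lib.Blocks.PConjugates

set_option autoImplicit false
open Cfsg CfsgLib.CharTheory CfsgLib.Blocks
open scoped ComplexConjugate

set_option linter.unusedVariables false

namespace Cfsg.Agent.S4506

/-- Let G be a finite group, p a prime, p^a the p-part of the order of G and g′ its p′-part. Call two irreducible characters p-conjugate when one is obtained from the other by applying a field automorphism of ℂ that fixes the g′-th roots of unity, and let r be the number of characters p-conjugate to the irreducible character χ (χ included). Then the exponent of p in r·χ(1) is at most a; and if p^a divides r·χ(1) then p^a already divides χ(1). -/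
theorem result {G : Type*} [Group G] [Finite G] (p : ℕ) (hp : p.Prime) (χ : Cfsg.IrrCharacter G) (r : ℕ) (hr : Nat.card {ψ : Cfsg.IrrCharacter G // ∃ σ : ℂ ≃+* ℂ, σ (Complex.exp (2 * Real.pi * Complex.I / ((Nat.card G / p ^ (Nat.card G).factorization p) : ℕ))) = Complex.exp (2 * Real.pi * Complex.I / ((Nat.card G / p ^ (Nat.card G).factorization p) : ℕ)) ∧ (ψ : G → ℂ) = fun g => σ ((χ : G → ℂ) g)} = r) : (r * Cfsg.charDegree (χ : G → ℂ)).factorization p ≤ (Nat.card G).factorization p ∧ (p ^ (Nat.card G).factorization p ∣ r * Cfsg.charDegree (χ : G → ℂ) → p ^ (Nat.card G).factorization p ∣ Cfsg.charDegree (χ : G → ℂ)) := by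
  classical
  haveI := Fintype.ofFinite G
  haveI : NeZero (Nat.card G) := ⟨Nat.card_pos.ne'⟩
  have hd' : Nat.card G / p ^ (Nat.card G).factorization p ∣ Nat.card G :=
    Nat.div_dvd_of_dvd (Nat.ordProj_dvd _ _)
  have hr' : Nat.card (MulAction.orbit (PConjugates.congrOne G hd') χ) = r := by
    rw [← hr]
    exact Nat.card_congr (Equiv.subtypeEquivRight fun ψ =>
      (PConjugates.mem_orbit_iff hd' χ ψ).trans Iff.rfl)
  by_cases hdvd : p ∣ Nat.card G
  · have h := PConjugates.main hp hdvd χ
    simp only at h
    rw [← hr']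
    exact h
  · have ha : (Nat.card G).factorization p = 0 := Nat.factorization_eq_zero_of_not_dvd hdvd
    have hr1 : r = 1 := by
      rw [← hr', Nat.card_eq_one_iff_unique]
      refine ⟨⟨fun x y => Subtype.ext ?_⟩, ⟨⟨χ, MulAction.mem_orbit_self χ⟩⟩⟩
      have key : ∀ ψ ∈ MulAction.orbit (PConjugates.congrOne G hd') χ, ψ = χ := by
        rintro ψ ⟨⟨u, hu⟩, rfl⟩
        refine Subtype.ext (funext fun g => ?_)
        show (χ : G → ℂ) (g ^ (u : ZMod (Nat.card G)).val) = (χ : G → ℂ) g
        have h1 := (PConjugates.mem_congrOne hd').1 hu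
        rw [ha, pow_zero, Nat.div_one, Nat.ModEq] at h1
        rw [← pow_mod_natCard, h1, pow_mod_natCard, pow_one]
      rw [key x x.2, key y y.2]
    rw [hr1, one_mul, ha, pow_zero]
    refine ⟨le_of_eq (Nat.factorization_eq_zero_of_not_dvd fun hd => hdvd ?_), fun _ => one_dvd _⟩
    refine hd.trans ?_
    obtain ⟨m, ρ, hirr, hρ⟩ := χ.2
    haveI := hirr
    have h2 := finrank_dvd_card ρ
    have e : Cfsg.charDegree (χ : G → ℂ) = Module.finrank ℂ (Fin m → ℂ) := by
      have h1 := irr_charDegree_cast χ
      rw [← hρ, Representation.char_one] at h1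
      rw [← hρ]
      exact_mod_cast h1
    rwa [e]

end Cfsg.Agent.S4506
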