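import Cfsg.Statements.S4507
import Cfsg.Agent.Lib.Blocks.DefectOneBlocks

set_option autoImplicit false
open Cfsg
open CfsgLib.Blocks CfsgLib.Blocks.DefectOne CfsgLib.CharTheory CfsgLib.CharTheory.SmallDegree

namespace Cfsg.Agent.S4507

/-- Let G be a finite group whose order g is divisible by the prime p exactly once, g′ = g/p, and fix a maximal ideal M of the algebraic integers containing p. Call two irreducible characters p-conjugate when a field automorphism of ℂ fixing the g′-th roots of unity carries one to the other. Let B be a p-block of positive defect (its defect group is a Sylow p-subgroup). Then B contains a subset Y (the exceptional family) such that: Y is a full p-conjugacy class (its members are pairwise p-conjugate and every p-conjugate of a member of Y lies in Y); every member of B outside Y is p-conjugate only to itself; the size t of Y divides p − 1 and B has exactly t + (p − 1)/t members; and there are signs δ_χ = ±1 (χ ∈ B) such that for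 every p-regular element x and every θ ∈ Y, Σ_{χ ∈ B ∖ Y} δ_χ χ(x) + δ_θ θ(x) = 0. -/
theorem result {G : Type*} [Group G] [Finite G] (p : ℕ) [Fact p.Prime] (M : Ideal Cfsg.AlgInt) (hM : Cfsg.IsPModular p M) (hdiv : p ∣ Nat.card G) (hsq : ¬ p ^ 2 ∣ Nat.card G) (B : Set (Cfsg.IrrCharacter G)) (hB : Cfsg.IsPBlock M B) (hd : 0 < Cfsg.blockDefect p B) : ∃ Y : Set (Cfsg.IrrCharacter G), Y ⊆ B ∧ Y.Nonempty ∧ (∀ θ ∈ Y, ∀ ψ : Cfsg.IrrCharacter G, (∃ σ : ℂ ≃+* ℂ, σ (Complex.exp (2 * Real.pi * Complex.I / ((Nat.card G / p ^ (Nat.card G).factorization p) : ℕ))) = Complex.exp (2 * Real.pi * Complex.I / ((Nat.card G / p ^ (Nat.card G).factorization p) : ℕ)) ∧ (ψ : G → ℂ) = fun g => σ ((θ : G → ℂ) g)) ↔ ψ ∈ Y) ∧ (∀ χ ∈ B, χ ∉ Y → ∀ ψ : Cfsg.IrrCharacter G, (∃ σ : ℂ ≃+* ℂ, σ (Complex.exp (2 * Real.pi * Complex.I / ((Nat.card G / p ^ (Nat.card G).factorization p) : ℕ))) = Complex.exp (2 * Real.pi * Complex.I / ((Nat.card G / p ^ (Nat.card G).factorization p) : ℕ)) ∧ (ψ : G →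 ℂ) = fun g => σ ((χ : G → ℂ) g)) → ψ = χ) ∧ Nat.card Y ∣ p - 1 ∧ Nat.card B = Nat.card Y + (p - 1) / Nat.card Y ∧ ∃ δ : Cfsg.IrrCharacter G → ℤ, (∀ χ ∈ B, δ χ = 1 ∨ δ χ = -1) ∧ ∀ x : G, ¬ p ∣ orderOf x → ∀ θ ∈ Y, (∑ᶠ χ ∈ B \ Y, (δ χ : ℂ) * (χ : G → ℂ) x) + (δ θ : ℂ) * (θ : G → ℂ) x = 0 := by
  classical
  haveI := Fintype.ofFinite G
  have hp : p.Prime := Fact.out
  have hfac : (Nat.card G).factorization p = 1 := by
    refine le_antisymm (Nat.lt_succ_iff.1 (Nat.lt_of_not_le fun h2 => hsq ?_))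
      (hp.factorization_pos_of_dvd Nat.card_pos.ne' hdiv)
    exact (hp.pow_dvd_iff_le_factorization Nat.card_pos.ne').2 h2
  let P : Sylow p G := Classical.arbitrary _
  have hP : Nat.card P = p := by
    rw [P.card_eq_multiplicity, hfac, pow_one]
  haveI : Fintype (P : Subgroup G) := Fintype.ofFinite _
  haveI : Fintype (cen (P : Subgroup G)) := Fintype.ofFinite _
  have h := setup_sylow P hP
  obtain ⟨H, hH⟩ := exists_Compl h
  haveI : Fintype H := Fintype.ofFinite _
  obtain ⟨θ, hr⟩ := exists_root hM h hH hP hB hd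
  obtain ⟨X, Y, ε, a, τ, S⟩ := exists_shape hM h hH hr
  have hY0 : 0 < Y.card := Finset.card_pos.2 (S.nonempty_Y hP)
  refine ⟨(Y : Set _), fun χ hχ => S.mem_Y hχ, Finset.coe_nonempty.2 (S.nonempty_Y hP), fun η hη ψ => ?_,
    fun χ hχ hχY ψ hσ => ?_, ?_, ?_, fun χ => if χ ∈ Y then ε else a χ, fun χ hχ => ?_,
    fun x hx η hη => ?_⟩
  · rw [galOrbit_iff_aut hp hdiv hsq η ψ, S.orbY η hη]
    exact Finset.mem_coe.symm
  · have hX : χ ∈ X := by
      rw [← S.union] at hχ
      exact hχ.resolve_right hχY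
    rw [galOrbit_iff_aut hp hdiv hsq χ ψ, S.orbX χ hX, Finset.mem_singleton] at hσ
    exact hσ
  · rw [card_coe]
    exact ⟨_, S.cardY.symm⟩
  · rw [card_coe, ← S.union, card_union_coe S.disj, S.cardX, ← S.cardY,
      Nat.mul_div_cancel_left _ hY0, add_comm]
  · rw [← S.union] at hχ
    dsimp only
    by_cases hm : χ ∈ Y
    · rw [if_pos hm]; exact S.hε
    · rw [if_neg hm]; exact S.ha χ (hχ.resolve_right hm)
  · have hset : B \ (Y : Set (IrrCharacter G)) = (X : Set (IrrCharacter G)) := by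
      rw [← S.union, Set.union_sdiff_right,
        (Set.disjoint_left.2 fun x h1 h2 => Finset.disjoint_left.1 S.disj h1 h2 : Disjoint
          (X : Set (IrrCharacter G)) Y).sdiff_eq_left]
    dsimp only
    rw [hset, finsum_mem_coe_finset, if_pos (show η ∈ Y from hη), Finset.sum_congr rfl fun χ hχ => by
      rw [if_neg (Finset.disjoint_left.1 S.disj hχ)]]
    exact S.relation hM hr hη hx

end Cfsg.Agent.S4507
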