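import Cfsg.Statements.S4509
import Cfsg.Agent.Lib.SelfCent.Basic

set_option autoImplicit false
open Cfsg CfsgLib.SelfCent
open scoped commutatorElement
open scoped ComplexConjugate

set_option linter.unusedVariables false

namespace Cfsg.Agent.S4509

/-- Let the finite group G contain an element x of prime order p with C_G(x) = ⟨x⟩; let t be the number of conjugacy classes of elements of order p and 1 + n·p the number of subgroups of order p. Then G has a normal subgroup of order 1 + n·p if and only if either t = p − 1, or t < p − 1 and G″ ≠ G′. Moreover, if t = p − 1 then G′ has order 1 + n·p and G/G′ is cyclic of order p; and if t < p − 1 and G″ ≠ G′ then G″ has order 1 + n·p and G′ has order p·(1 + n·p). -/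
theorem result {G : Type*} [Group G] [Finite G] (p : ℕ) (hp : p.Prime) (x : G) (hx : orderOf x = p) (hC : Subgroup.centralizer ({x} : Set G) = Subgroup.zpowers x) (t : ℕ) (ht : Nat.card {C : ConjClasses G // ∃ g ∈ C.carrier, orderOf g = p} = t) (n : ℕ) (hn : Nat.card {H : Subgroup G // Nat.card H = p} = 1 + n * p) : ((∃ S : Subgroup G, S.Normal ∧ Nat.card S = 1 + n * p) ↔ (t = p - 1 ∨ (t < p - 1 ∧ derivedSeries G 2 ≠ derivedSeries G 1))) ∧ (t = p - 1 → Nat.card (commutator G) = 1 + n * p ∧ IsCyclic (G ⧸ commutator G) ∧ (commutator G).index = p) ∧ (t < p - 1 → derivedSeries G 2 ≠ derivedSeries G 1 → Nat.card (derivedSeries G 2) = 1 + n * p ∧ Nat.card (commutator G) = p * (1 + n * p)) := by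
  have h : Hyp p x := ⟨hp, hx, hC⟩
  haveI : Fact p.Prime := ⟨hp⟩
  have hiff := h.ee_eq_one_iff
  rw [ht] at hiff
  have hsyl : (nor x).index = 1 + n * p := h.card_order_p.symm.trans hn
  have htp : t ≤ p - 1 := by
    have h1 := h.classes_mul
    rw [ht] at h1
    exact h1 ▸ Nat.le_mul_of_pos_right t h.ee_pos
  have hds : derivedSeries G 2 = ⁅commutator G, commutator G⁆ := by
    rw [derivedSeries_succ, derivedSeries_one]
  rw [hds, derivedSeries_one]
  have hcop := CfsgLib.card_pPrimeCore_coprime (G := G) p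
  have hcase2 : t < p - 1 → ⁅commutator G, commutator G⁆ ≠ commutator G →
      nor x ⊔ Cfsg.pPrimeCore p G = ⊤ := by
    intro hlt hne
    have he : ee x ≠ 1 := fun e => by have := hiff.1 e; omega
    have hxG := h.mem_commutator he
    have hle : ⁅commutator G, commutator G⁆ ≤ Cfsg.pPrimeCore p G := by
      refine CfsgLib.le_pPrimeCore (hp.coprime_iff_not_dvd.2 fun hd => hne ?_).symm
      exact le_antisymm (Subgroup.commutator_le_self _) (h.commutator_le (h.mem_of_dvd hd)).1
    have hG' : commutator G ≤ Subgroup.zpowers x ⊔ Cfsg.pPrimeCore p G := by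
      intro g hg
      obtain ⟨a, ha, hag⟩ := h.exists_comm hcop
        (hle (Subgroup.commutator_mem_commutator hg hxG) : ⁅g, x⁆ ∈ Cfsg.pPrimeCore p G)
      rw [commutatorElement_def, commutatorElement_def, mul_left_inj] at hag
      have h2 : a⁻¹ * g ∈ Subgroup.zpowers x := h.cent_mem (Subgroup.mem_zpowers x) h.ne_one (by
        calc a⁻¹ * g * x = a⁻¹ * (g * x * g⁻¹) * g := by group
          _ = x * (a⁻¹ * g) := by rw [← hag]; group)
      rw [show g = a * (a⁻¹ * g) by group]
      exact mul_mem (Subgroup.mem_sup_right ha) (Subgroup.mem_sup_left h2)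
    rw [eq_top_iff, ← (h.commutator_le hxG).2.1]
    exact sup_le le_sup_left (hG'.trans (sup_le_sup_right Subgroup.le_normalizer _))
  refine ⟨⟨?_, ?_⟩, fun he => ?_, fun hlt hne => ?_⟩
  · rintro ⟨S, hS, hcard⟩
    haveI := hS
    by_cases he : ee x = 1
    · exact Or.inl (hiff.1 he)
    have hSK : S ≤ Cfsg.pPrimeCore p G := CfsgLib.le_pPrimeCore (by
      rw [hcard]; exact Nat.coprime_add_mul_right_left 1 p n |>.2 (Nat.coprime_one_left p))
    obtain ⟨hc, -⟩ := h.relIndex_core (K := Cfsg.pPrimeCore p G) hcop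
    have htop : nor x ⊔ Cfsg.pPrimeCore p G = ⊤ := by
      rw [← Subgroup.index_eq_one]
      have h1 := Subgroup.card_le_of_le hSK
      rw [hcard, ← hsyl, ← hc] at h1
      have h2 : 0 < (nor x ⊔ Cfsg.pPrimeCore p G).index :=
        Nat.pos_of_ne_zero Subgroup.index_ne_zero_of_finite
      have h3 : (nor x ⊔ Cfsg.pPrimeCore p G).index ≤ 1 :=
        Nat.le_of_mul_le_mul_left (by rwa [mul_one]) (Nat.card_pos (α := Cfsg.pPrimeCore p G))
      omega
    refine Or.inr ⟨lt_of_le_of_ne htp fun e => he (hiff.2 e), fun e => ?_⟩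
    obtain ⟨-, h2, -, -⟩ := h.derived_of_sup he htop
    have hxK : x ∈ Cfsg.pPrimeCore p G := (e.symm.trans h2) ▸ h.mem_commutator he
    exact hp.ne_one (Nat.eq_one_of_dvd_coprimes hcop
      (hx.symm.dvd.trans (Subgroup.orderOf_dvd_natCard _ hxK)) dvd_rfl)
  · rintro (he | ⟨hlt, hne⟩)
    · refine ⟨commutator G, inferInstance, ?_⟩
      rw [(h.of_ee_one (hiff.2 he)).2.2, hsyl]
    · have he : ee x ≠ 1 := fun e => by have := hiff.1 e; omega
      obtain ⟨-, -, h3, -⟩ := h.derived_of_sup he (hcase2 hlt hne)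
      exact ⟨_, inferInstance, h3.trans hsyl⟩
  · obtain ⟨-, hidx, hcard⟩ := h.of_ee_one (hiff.2 he)
    exact ⟨hcard.trans hsyl, isCyclic_of_prime_card (hidx : Nat.card (G ⧸ commutator G) = p), hidx⟩
  · have he : ee x ≠ 1 := fun e => by have := hiff.1 e; omega
    obtain ⟨-, h2, h3, h4⟩ := h.derived_of_sup he (hcase2 hlt hne)
    exact ⟨by rw [h2, h3, hsyl], by rw [h4, h3, hsyl]⟩

end Cfsg.Agent.S4509
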