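import Cfsg.Statements.S4510
import Cfsg.Agent.Lib.Blocks.InducedChar

set_option autoImplicit false
open Cfsg CfsgLib.CharTheory CfsgLib.Blocks CfsgLib.Blocks.BlockBasics CfsgLib.Blocks.InducedChar
open scoped ComplexConjugate

set_option linter.unusedVariables false

namespace Cfsg.Agent.S4510

/-- Let G be a finite group, p a prime, M a maximal ideal of the algebraic integers containing p, and call the defect of a conjugacy class the exponent of p in the order of the centralizer of its elements. Two irreducible characters lying in p-blocks of defect exactly d lie in the same block if and only if their central characters (class size times χ(x)/χ(1)) agree modulo the local ideal at M at every p-regular element x whose class has defect exactly d. -/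
theorem result {G : Type*} [Group G] [Finite G] (p : ℕ) [Fact p.Prime] (M : Ideal Cfsg.AlgInt) (hM : Cfsg.IsPModular p M) (d : ℕ) (χ ψ : Cfsg.IrrCharacter G) (hχ : Cfsg.blockDefect p (Cfsg.blockOf M (χ : G → ℂ)) = d) (hψ : Cfsg.blockDefect p (Cfsg.blockOf M (ψ : G → ℂ)) = d) : Cfsg.SameBlock M (χ : G → ℂ) (ψ : G → ℂ) ↔ ∀ x : G, ¬ p ∣ orderOf x → (Nat.card (Subgroup.centralizer ({x} : Set G))).factorization p = d → Cfsg.MemLocalIdeal M (Cfsg.centralChar (χ : G → ℂ) x - Cfsg.centralChar (ψ : G → ℂ) x) := by
  classical
  haveI := Fintype.ofFinite G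
  refine ⟨fun h x _ _ => h x, fun h => ?_⟩
  haveI := res_isDomain hM
  haveI := Fintype.ofFinite (ConjClasses G)
  set B := blockOf M (χ : G → ℂ) with hBdef
  have hB : IsPBlock M B := blockOf_isPBlock χ
  set Bψ := blockOf M (ψ : G → ℂ) with hBψ
  have hm : ∀ g, MemLocalRing M (blockCoeff B g) := memRing_blockCoeff hM hB
  have hdiff : ∀ C : ConjClasses G,
      res hM (blockCoeff B (crep C) * centralChar (ψ : G → ℂ) (crep C)) =
        res hM (blockCoeff B (crep C) * centralChar (χ : G → ℂ) (crep C)) := by
    intro C
    have hmc : ∀ θ : IrrCharacter G, MemLocalRing M (centralChar (θ : G → ℂ) (crep C)) :=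
      fun θ => memRing_clv hM _ θ
    rw [res_mul hM (hm _) (hmc ψ), res_mul hM (hm _) (hmc χ)]
    by_cases hreg : p ∣ orderOf (crep C)
    · rw [blockCoeff_of_dvd_orderOf hM hB hreg, res_zero, zero_mul, zero_mul]
    set k := (Nat.card (Subgroup.centralizer ({crep C} : Set G))).factorization p with hk
    rcases lt_trichotomy k d with hlt | heq | hgt
    · have hz : ∀ θ : IrrCharacter G, blockDefect p (blockOf M (θ : G → ℂ)) = d →
          res hM (centralChar (θ : G → ℂ) (crep C)) = 0 := by
        intro θ hθ
        by_contra hne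
        obtain ⟨P, hP⟩ := exists_defectGroup hM (blockOf_isPBlock (M := M) θ)
        obtain ⟨x, hx, hxC, -⟩ := exists_conj_center hM (blockOf_isPBlock θ) hP (g := crep C)
          ⟨θ, mem_blockOf_self hM θ, fun h0 => hne ((res_eq_zero_iff hM (hmc θ)).2 h0)⟩
        obtain ⟨c, hc⟩ := isConj_iff.1 hx.symm
        have hle : P.map (MulAut.conj c).toMonoidHom ≤ Subgroup.centralizer ({crep C} : Set G) := by
          rw [← hc]; exact mem_centralizer_conj c hxC
        have h2 := Subgroup.card_dvd_of_le hle
        rw [Subgroup.card_map_of_injective (MulAut.conj c).injective,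
          card_defectGroup hM (blockOf_isPBlock θ) hP, hθ] at h2
        have h3 : d ≤ k := (hM.1.pow_dvd_iff_le_factorization Nat.card_pos.ne').1 h2
        omega
      rw [hz ψ hψ, hz χ hχ]
    · rw [(memIdeal_sub_iff hM (hmc χ) (hmc ψ)).1 (h (crep C) hreg heq)]
    · have h0 : res hM (blockCoeff B (crep C)) = 0 := by
        by_contra hne
        obtain ⟨S⟩ := (inferInstance : Nonempty (Sylow p (Subgroup.centralizer ({crep C} : Set G))))
        have hSle : (S : Subgroup (Subgroup.centralizer ({crep C} : Set G))).map
            (Subgroup.centralizer ({crep C} : Set G)).subtype ≤ Subgroup.centralizer ({crep C} : Set G) := by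
          rintro _ ⟨w, -, rfl⟩; exact w.2
        obtain ⟨D, hD, hle⟩ := exists_defectGroup_ge hM hB
          (fun h0 => hne ((res_eq_zero_iff hM (hm _)).2 h0)) (S.2.map _) hSle
        have h2 := Subgroup.card_le_of_le hle
        rw [Subgroup.card_map_of_injective (Subgroup.subtype_injective _),
          Sylow.card_eq_multiplicity S, card_defectGroup hM hB hD, hχ] at h2
        have h3 : k ≤ d := (Nat.pow_le_pow_iff_right hM.1.one_lt).1 h2
        omega
      rw [h0, zero_mul, zero_mul]
  have hω : res hM (omega (ψ : G → ℂ) (blockCoeff B)) = res hM (omega (χ : G → ℂ) (blockCoeff B)) := by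
    rw [omega_eq_sum_classes (blockCoeff_isClassFunction B), omega_eq_sum_classes (blockCoeff_isClassFunction B),
      res_sum hM (fun C _ => (loc hM).mul_mem (hm _) (show MemLocalRing M (centralChar (ψ : G → ℂ) (crep C)) from memRing_clv hM _ ψ)),
      res_sum hM (fun C _ => (loc hM).mul_mem (hm _) (show MemLocalRing M (centralChar (χ : G → ℂ) (crep C)) from memRing_clv hM _ χ))]
    exact Finset.sum_congr rfl fun C _ => hdiff C
  rw [← cf_ind, omega_cf, omega_cf, ind_of_mem (mem_blockOf_self hM χ)] at hω
  by_contra hne
  rw [ind_of_notMem (show ψ ∉ B from hne), res_zero, res_one] at hω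
  exact zero_ne_one hω

end Cfsg.Agent.S4510
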