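import Cfsg.Statements.S4513
import Cfsg.Agent.Lib.Blocks.SubsectionCount

set_option autoImplicit false
open Cfsg

namespace Cfsg.Agent.S4513

open CfsgLib.Blocks CfsgLib.CharTheory
open scoped ComplexConjugate

theorem order_two_values {G : Type*} [Group G] [Fintype G] {M : Ideal AlgInt} (hM : IsPModular 2 M)
    {x : G} (hx : orderOf x = 2) {B : Set (IrrCharacter G)} (hB : IsPBlock M B)
    (hd : blockDefect 2 B = 1) {H : Subgroup G} [Fintype H] (hH : IsCentr x H)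
    (hH' : H = Subgroup.centralizer ((Subgroup.zpowers x : Subgroup G) : Set G))
    {b : Set (IrrCharacter H)} (hb : IsInducedBlock M H b B)
    (huniq : ∀ b', IsInducedBlock M H b' B → b' = b) (hdb : blockDefect 2 b = 1)
    {θ : IrrCharacter H} (hθ : θ ∈ b) :
    Nat.card B = 2 ∧ (∀ χ ∈ B, ∀ ψ ∈ B, ∀ g : G, ¬ 2 ∣ orderOf g → (χ : G → ℂ) g = (ψ : G → ℂ) g) ∧
      ∃ χ₁ ∈ B, ∃ χ₂ ∈ B, χ₁ ≠ χ₂ ∧ ∃ ε₁ ε₂ : ℤ, (ε₁ = 1 ∨ ε₁ = -1) ∧ (ε₂ = 1 ∨ ε₂ = -1) ∧
        ε₁ * ε₂ = -1 ∧ ∀ y : H, ¬ 2 ∣ orderOf y →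
          (χ₁ : G → ℂ) (x * y) = (ε₁ : ℂ) * (θ : H → ℂ) y ∧
          (χ₂ : G → ℂ) (x * y) = (ε₂ : ℂ) * (θ : H → ℂ) y := by
  classical
  have hk2 := card_eq_two_of_defect_one hM hB hd
  have hkN : Nat.card B = 2 := by
    rw [← hk2, Nat.card_eq_fintype_card]
    exact Fintype.card_of_finset' (bset B) fun χ => mem_bset
  obtain ⟨-, -, hl⟩ := two_chars hM hB hk2
  -- a block of regular rank one with two characters
  have hsame : ∀ {K : Type _} [Group K] [Fintype K] (C : Set (IrrCharacter K)), IsPBlock M C →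
      blockRank 2 C = 1 → (bset C).card = 2 → blockDefect 2 C = 1 →
      ∀ χ ∈ C, ∀ ψ ∈ C, ∀ g : K, ¬ 2 ∣ orderOf g → (χ : K → ℂ) g = (ψ : K → ℂ) g := by
    intro K _ _ C hC hlC hkC hdC χ hχ ψ hψ g hg
    obtain ⟨φ, f, d, n, hf, hφ, hval, hdeg, hdn, hsq⟩ := exists_single_brauer hM hC hlC
    rw [hdC, pow_one] at hsq
    have hpos : ∀ η ∈ bset C, 1 ≤ d η ^ 2 := fun η hη =>
      Nat.one_le_pow _ _ (Nat.pos_of_ne_zero fun h => (irr_charDegree_pos η).ne'
        (by rw [hdeg η (mem_bset.1 hη), h, zero_mul]))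
    have hone : ∀ η ∈ bset C, 1 = d η ^ 2 := by
      refine (Finset.sum_eq_sum_iff_of_le (f := fun _ => 1) (g := fun η => d η ^ 2) hpos).1 ?_
      rw [hsq, Finset.sum_const, hkC, smul_eq_mul]
    have e1 : d χ = 1 := by nlinarith [hone χ (mem_bset.2 hχ)]
    have e2 : d ψ = 1 := by nlinarith [hone ψ (mem_bset.2 hψ)]
    rw [hval χ hχ g hg, hval ψ hψ g hg, e1, e2]
  have hxp : ∃ k : ℕ, orderOf x = 2 ^ k := ⟨1, by rw [hx, pow_one]⟩
  have hx1 : x ≠ 1 := fun h => by rw [h, orderOf_one] at hx; norm_num at hx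
  -- the block of the centralizer
  have hkb := card_eq_two_of_defect_one hM hb.1 hdb
  obtain ⟨-, -, hlb⟩ := two_chars hM hb.1 hkb
  have hregb := hsame b hb.1 hlb hkb hdb
  have hregB := hsame B hB hl hk2 hd
  refine ⟨hkN, hregB, ?_⟩
  have hov : overBlocks M H B = b := by
    ext ψ
    show IsInducedBlock M H (blockOf M (ψ : H → ℂ)) B ↔ ψ ∈ b
    exact ⟨fun h => huniq _ h ▸ mem_blockOf_self hM ψ, fun h => by rwa [← eq_blockOf hM hb.1 h]⟩
  set m : IrrCharacter G → ℂ := fun χ => ∑ ψ ∈ bset b, classInner (sec x H (χ : G → ℂ)) (ψ : H → ℂ)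
    with hm
  have hval : ∀ χ ∈ B, ∀ y : H, ¬ 2 ∣ orderOf y →
      (χ : G → ℂ) (x * y) = m χ * (θ : H → ℂ) y := by
    intro χ hχ y hy
    have h := sec_eq_overBlocks hM hH hxp hB χ hy
    rw [hov, blockPart_apply, ind_of_mem hχ, one_mul] at h
    rw [← h, hm, Finset.sum_mul]
    exact Finset.sum_congr rfl fun ψ hψ => by rw [hregb ψ (mem_bset.1 hψ) θ hθ y hy]
  have hint : ∀ χ, ∃ n : ℤ, m χ = n := by
    intro χ
    have h1 : ∀ ψ : IrrCharacter H, ∃ n : ℤ, classInner (sec x H (χ : G → ℂ)) (ψ : H → ℂ) = n := by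
      intro ψ
      obtain ⟨n, ω, -, hω, hc⟩ := sec_coeff hM hH (k := 1) (hx.trans (pow_one 2).symm) χ ψ
      rw [pow_one, sq, mul_self_eq_one_iff] at hω
      rcases hω with rfl | rfl
      · exact ⟨n, by rw [hc, mul_one]; push_cast; ring⟩
      · exact ⟨-n, by rw [hc]; push_cast; ring⟩
    choose n hn using h1
    exact ⟨∑ ψ ∈ bset b, n ψ, by rw [hm]; push_cast; exact Finset.sum_congr rfl fun ψ _ => hn ψ⟩
  choose n hn using hint
  obtain ⟨χ₁, χ₂, hne, hBset⟩ := Finset.card_eq_two.1 hk2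
  have h1B : χ₁ ∈ B := mem_bset.1 (by rw [hBset]; simp)
  have h2B : χ₂ ∈ B := mem_bset.1 (by rw [hBset]; simp)
  have h1odd : ¬ 2 ∣ orderOf (1 : H) := by rw [orderOf_one]; norm_num
  have h1oddG : ¬ 2 ∣ orderOf (1 : G) := by rw [orderOf_one]; norm_num
  have hθ1 : (θ : H → ℂ) 1 ≠ 0 := irr_one_ne_zero θ
  have horth : (n χ₁ : ℂ) + n χ₂ = 0 := by
    have h := weak_orth hM hB h1oddG (show 2 ∣ orderOf x by rw [hx])
    rw [hBset, Finset.sum_pair hne, hregB χ₂ h2B χ₁ h1B 1 h1oddG, ← mul_add, mul_eq_zero] at h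
    have e1 := hval χ₁ h1B 1 h1odd
    have e2 := hval χ₂ h2B 1 h1odd
    rw [Subgroup.coe_one, mul_one] at e1 e2
    have h' := h.resolve_left (irr_one_ne_zero χ₁)
    rw [e1, e2, ← add_mul, mul_eq_zero] at h'
    have := h'.resolve_right hθ1
    rwa [hn, hn] at this
  have hsq : (n χ₁ : ℂ) ^ 2 + (n χ₂ : ℂ) ^ 2 = 2 := by
    have h := sum_sq_section hM hH hxp hB h1odd h1odd
    rw [hov, hBset, Finset.sum_pair hne, hval χ₁ h1B 1 h1odd, hval χ₂ h2B 1 h1odd,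
      Finset.sum_congr rfl fun ψ hψ => by rw [hregb ψ (mem_bset.1 hψ) θ hθ 1 h1odd],
      Finset.sum_const, hkb, nsmul_eq_mul, hn, hn] at h
    simp only [map_mul, map_intCast, irr_one_conj] at h
    refine mul_right_cancel₀ (pow_ne_zero 2 hθ1) ?_
    push_cast at h ⊢
    linear_combination h
  have hsqZ : n χ₁ ^ 2 + n χ₂ ^ 2 = 2 := by exact_mod_cast hsq
  have horthZ : n χ₁ + n χ₂ = 0 := by exact_mod_cast horth
  have h2eq : n χ₂ = -n χ₁ := by linarith
  have hu : n χ₁ * n χ₁ = 1 := by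
    rw [h2eq, neg_sq, pow_two] at hsqZ
    omega
  refine ⟨χ₁, h1B, χ₂, h2B, hne, n χ₁, n χ₂, mul_self_eq_one_iff.1 hu, ?_, ?_, fun y hy => ?_⟩
  · rw [h2eq]; rcases mul_self_eq_one_iff.1 hu with h | h <;> rw [h] <;> simp
  · rw [h2eq, mul_neg, hu]
  · rw [hval χ₁ h1B y hy, hval χ₂ h2B y hy, hn, hn]
    exact ⟨rfl, rfl⟩


/-- Blocks of defect one for p = 2. Let M be a maximal ideal of the algebraic integers containing 2, B a 2-block of the finite group G whose defect group is the subgroup generated by an involution x, C = C_G(x), b a block of C inducing B and θ a member of b taking the same value at x as at 1 (there is exactly one). Then B consists of exactly two irreducible characters, which agree on every element of odd order, and they can be labelled χ₁, χ₂ with signs ε₁, ε₂ = ±1, ε₁ε₂ = −1, such that χᵢ(x y) = εᵢ θ(y) for every element y of C of odd order. -/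
theorem result {G : Type*} [Group G] [Finite G] (M : Ideal Cfsg.AlgInt) (hM : Cfsg.IsPModular 2 M) (x : G) (hx : orderOf x = 2)
    (B : Set (Cfsg.IrrCharacter G)) (hB : Cfsg.IsPBlock M B) (hBD : Cfsg.IsDefectGroup 2 M B (Subgroup.zpowers x))
    (b : Set (Cfsg.IrrCharacter ↥(Subgroup.centralizer ({x} : Set G)))) (hb : Cfsg.IsInducedBlock M (Subgroup.centralizer ({x} : Set G)) b B)
    (θ : Cfsg.IrrCharacter ↥(Subgroup.centralizer ({x} : Set G))) (hθ : θ ∈ b)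
    (hθx : ∀ z : ↥(Subgroup.centralizer ({x} : Set G)), (z : G) = x → (θ : ↥(Subgroup.centralizer ({x} : Set G)) → ℂ) z = (θ : ↥(Subgroup.centralizer ({x} : Set G)) → ℂ) 1) :
    Nat.card B = 2 ∧ (∀ χ ∈ B, ∀ ψ ∈ B, ∀ g : G, ¬ 2 ∣ orderOf g → (χ : G → ℂ) g = (ψ : G → ℂ) g) ∧
      ∃ χ₁ ∈ B, ∃ χ₂ ∈ B, χ₁ ≠ χ₂ ∧ ∃ ε₁ ε₂ : ℤ, (ε₁ = 1 ∨ ε₁ = -1) ∧ (ε₂ = 1 ∨ ε₂ = -1) ∧ ε₁ * ε₂ = -1 ∧
        ∀ y : ↥(Subgroup.centralizer ({x} : Set G)), ¬ 2 ∣ orderOf y →
          (χ₁ : G → ℂ) (x * y) = (ε₁ : ℂ) * (θ : ↥(Subgroup.centralizer ({x} : Set G)) → ℂ) y ∧ (χ₂ : G → ℂ) (x * y) = (ε₂ : ℂ) * (θ : ↥(Subgroup.centralizer ({x} : Set G)) → ℂ) y := by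
  classical
  haveI := Fintype.ofFinite G
  haveI := Fintype.ofFinite (Subgroup.centralizer ({x} : Set G))
  have hd : Cfsg.blockDefect 2 B = 1 := by
    have h := CfsgLib.Blocks.card_defectGroup hM hB hBD
    rw [Nat.card_zpowers, hx] at h
    exact (Nat.pow_right_injective le_rfl (h.symm.trans (pow_one 2).symm))
  obtain ⟨e, hmax⟩ := CfsgLib.Blocks.exists_maximal_at hM hB hBD
  obtain ⟨f, hf, hfd⟩ := CfsgLib.Blocks.exists_major hM hB hBD (Subgroup.mem_zpowers x)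
    (fun y hy => by
      obtain ⟨i, rfl⟩ := Subgroup.mem_zpowers_iff.1 hy
      exact ((Commute.refl x).zpow_right i).eq)
  have hu0 : ∀ b' : Set (Cfsg.IrrCharacter
      (Subgroup.centralizer ((Subgroup.zpowers x : Subgroup G) : Set G))),
      Cfsg.IsInducedBlock M _ b' B → b' = e := by
    intro b' hb'
    haveI := Fintype.ofFinite
      (Subgroup.centralizer ((Subgroup.zpowers x : Subgroup G) : Set G))
    have hP : IsPGroup 2 (Subgroup.zpowers x) := hmax.1.1.1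
    obtain ⟨n, hn, rfl⟩ := pairs_orbit hM hmax ((induced_centralizer_iff hM hP).1 hb')
    have hnx : n * x * n⁻¹ = x := by
      have h := (Subgroup.mem_normalizer_iff.1 hn x).1 (Subgroup.mem_zpowers x)
      obtain ⟨i, hi⟩ := Subgroup.mem_zpowers_iff.1 h
      have h2 : x ^ 2 = 1 := by rw [← hx]; exact pow_orderOf_eq_one x
      rcases Int.even_or_odd i with ⟨j, hj⟩ | ⟨j, hj⟩
      · exfalso
        have h1 : x ^ i = 1 := by
          rw [hj, ← two_mul, zpow_mul, zpow_ofNat, h2, one_zpow]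
        rw [h1] at hi
        have : x = 1 := conj_eq_one_iff.1 hi.symm
        rw [this, orderOf_one] at hx
        norm_num at hx
      · rw [← hi, hj, zpow_add, zpow_mul, zpow_ofNat, h2, one_zpow, one_mul, zpow_one]
    have hnC : n ∈ Subgroup.centralizer ((Subgroup.zpowers x : Subgroup G) : Set G) :=
      (isCentr_zpowers x n).2 (mul_inv_eq_iff_eq_mul.1 hnx)
    have h1 : conjIdx n (⟨_, e⟩ : BrauerPairIdx G) = ⟨_, e⟩ := cent_le_pairStab _ e hnC
    rw [conjIdx_normalizer hn] at h1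
    exact eq_of_heq (Sigma.mk.inj_iff.1 h1).2
  have key : ∀ (H : Subgroup G), H = Subgroup.centralizer ((Subgroup.zpowers x : Subgroup G) : Set G) →
      ∀ b0 : Set (Cfsg.IrrCharacter H), Cfsg.IsInducedBlock M H b0 B →
      (∀ b' : Set (Cfsg.IrrCharacter H), Cfsg.IsInducedBlock M H b' B → b' = b0) ∧
        Cfsg.blockDefect 2 b0 = 1 := by
    rintro H rfl b0 hb0
    exact ⟨fun b' hb' => (hu0 b' hb').trans (hu0 b0 hb0).symm,
      by rw [(hu0 b0 hb0).trans (hu0 f hf).symm, hfd, hd]⟩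
  obtain ⟨huniq, hdb⟩ := key _ (centralizer_zpowers_eq x).symm b hb
  exact order_two_values hM hx hB hd (isCentr_singleton x) (centralizer_zpowers_eq x).symm hb huniq
    hdb hθ

end Cfsg.Agent.S4513
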