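import Cfsg.Statements.S4514
import Cfsg.Agent.Lib.ConstDiff.Converse
import Cfsg.Agent.Lib.AbPrincipal.Core

set_option autoImplicit false
open Cfsg CfsgLib CfsgLib.CharTheory CfsgLib.Blocks CfsgLib.ConstDiff

namespace Cfsg.Agent.S4514

/-- Let G be a finite group, u an element of G, and fix a maximal ideal M of the algebraic integers containing 2 (defining the 2-blocks). There is a complex number k with χ(1) − χ(u) = k for every non-principal irreducible character χ in the principal 2-block if and only if one of the following holds: u lies in O(G); or G/O(G) has order 2 and u ∉ O(G); or G/O(G) ≅ PSL(2, 2ⁿ) for some n ≥ 2, u ∉ O(G) and u² ∈ O(G). -/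
theorem result {G : Type*} [Group G] [Finite G] (M : Ideal Cfsg.AlgInt) (hM : Cfsg.IsPModular 2 M) (u : G) :
    (∃ k : ℂ, ∀ χ : Cfsg.IrrCharacter G, χ ∈ Cfsg.principalBlock M G → (χ : G → ℂ) ≠ (fun _ => 1) →
        (χ : G → ℂ) 1 - (χ : G → ℂ) u = k) ↔
      (u ∈ Cfsg.oddCore G ∨ (Nat.card (G ⧸ Cfsg.oddCore G) = 2 ∧ u ∉ Cfsg.oddCore G) ∨
        (∃ (F : Type) (_ : Field F) (_ : Fintype F) (n : ℕ), 2 ≤ n ∧ Fintype.card F = 2 ^ n ∧
          Nonempty (G ⧸ Cfsg.oddCore G ≃* Matrix.ProjectiveSpecialLinearGroup (Fin 2) F) ∧ u ∉ Cfsg.oddCore G ∧ u ^ 2 ∈ Cfsg.oddCore G)) := by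
  classical
  haveI := Fintype.ofFinite G
  haveI : Fact (Nat.Prime 2) := ⟨Nat.prime_two⟩
  haveI hNn : (oddCore G).Normal := inferInstance
  haveI := Fintype.ofFinite (G ⧸ oddCore G)
  have hN : ¬ 2 ∣ Nat.card (oddCore G) :=
    Nat.prime_two.coprime_iff_not_dvd.1 (card_pPrimeCore_coprime 2).symm
  have hinfl := AbPrincipal.principalBlock_inflate (oddCore G) hM hN
  have hlift : ∀ k : ℂ, Const M (u : G ⧸ oddCore G) k →
      ∀ χ : IrrCharacter G, χ ∈ principalBlock M G → (χ : G → ℂ) ≠ (fun _ => 1) →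
        (χ : G → ℂ) 1 - (χ : G → ℂ) u = k := by
    intro k hk χ hχ hχ1
    rw [hinfl] at hχ
    obtain ⟨ψ, hψ, rfl⟩ := hχ
    rw [Inflation.inflIrr_apply, Inflation.inflIrr_apply, QuotientGroup.mk_one]
    refine hk ψ hψ fun e => hχ1 (funext fun g => ?_)
    rw [Inflation.inflIrr_apply, e]
  constructor
  · rintro ⟨k, hk⟩
    by_cases hu : u ∈ oddCore G
    · exact Or.inl hu
    refine Or.inr ?_
    have hu' : (u : G ⧸ oddCore G) ≠ 1 := fun e => hu ((QuotientGroup.eq_one_iff u).1 e)
    have hc : Const M (u : G ⧸ oddCore G) k := by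
      intro ψ hψ hψ1
      have h := hk (Inflation.inflIrr (oddCore G) ψ) (hinfl.symm ▸ ⟨ψ, hψ, rfl⟩) fun e => hψ1
        (funext fun x => by
          obtain ⟨g, rfl⟩ := QuotientGroup.mk_surjective x
          exact congrFun e g)
      rwa [Inflation.inflIrr_apply, Inflation.inflIrr_apply, QuotientGroup.mk_one] at h
    rcases (setup_of hM (pPrimeCore_quotient_eq_bot 2) hu' hc default).classify with h2 | ⟨hF, hsq⟩
    · exact Or.inl ⟨h2, hu⟩
    · obtain ⟨F, i1, i2, n, hn, hcard, he⟩ := hF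
      refine Or.inr ⟨F, i1, i2, n, hn, hcard, he, hu, ?_⟩
      rwa [← QuotientGroup.eq_one_iff, QuotientGroup.mk_pow, pow_two]
  · rintro (hu | ⟨h2, hu⟩ | ⟨F, i1, i2, n, hn, hcard, ⟨e⟩, hu, hu2⟩)
    · exact ⟨0, fun χ hχ _ => by rw [principal_kernel hM hN hχ hu, sub_self]⟩
    · refine ⟨2, hlift 2 fun χ hχ hχ1 => ?_⟩
      have hu' : (u : G ⧸ oddCore G) ≠ 1 := fun e => hu ((QuotientGroup.eq_one_iff u).1 e)
      haveI : IsCyclic (G ⧸ oddCore G) := isCyclic_of_prime_card h2
      letI : CommGroup (G ⧸ oddCore G) := IsCyclic.commGroup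
      have hd := degree_one_of_commutative (fun a b : G ⧸ oddCore G => mul_comm a b) χ.2
      obtain ⟨f, hf⟩ := exists_hom_of_degree_one (isCharacter_of_irr χ.2) hd
      have hall : ∀ x : G ⧸ oddCore G, x = 1 ∨ x = (u : G ⧸ oddCore G) := by
        intro x
        by_contra h
        push Not at h
        have := Fintype.two_lt_card_iff.2 ⟨_, _, _, Ne.symm h.1, Ne.symm hu', h.2⟩
        rw [← Nat.card_eq_fintype_card, h2] at this
        omega
      have hsq : (u : G ⧸ oddCore G) ^ 2 = 1 := by rw [← h2]; exact pow_card_eq_one'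
      have hv : ((f (u : G ⧸ oddCore G) : ℂˣ) : ℂ) ^ 2 = 1 := by
        rw [← Units.val_pow_eq_pow_val, ← map_pow, hsq, map_one, Units.val_one]
      rcases sq_eq_one_iff.1 hv with h1 | h1
      · exfalso
        refine hχ1 ?_
        rw [hf]
        funext x
        rcases hall x with rfl | rfl
        · simp
        · exact h1
      · rw [hf]
        simp only [map_one, Units.val_one, h1]
        norm_num
    · haveI : CharP F 2 := charP_of_card_eq_prime_pow hcard
      have h4 : 4 ≤ Fintype.card F := by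
        rw [hcard]; exact le_trans (by norm_num) (Nat.pow_le_pow_right (by norm_num) hn)
      refine ⟨(Fintype.card F : ℂ), hlift _ (const_psl hM h4 hcard e
        (fun e => hu ((QuotientGroup.eq_one_iff u).1 e)) ?_)⟩
      rw [← QuotientGroup.mk_mul, QuotientGroup.eq_one_iff, ← pow_two]
      exact hu2

end Cfsg.Agent.S4514
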