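import Cfsg.Statements.S4518
import Cfsg.Agent.Lib.CharTheory.Clifford
import Cfsg.Agent.Lib.CharTheory.PowerMap

set_option autoImplicit false
open Cfsg CfsgLib.CharTheory
open scoped ComplexConjugate

set_option linter.unusedVariables false

namespace Cfsg.Agent.S4518

/-- Let N be a normal subgroup of the finite group G whose index is not divisible by the prime p, and let k be coprime to the order of G with k ^ (p ^ e) ≡ 1 modulo the order of G for some e (so g ↦ g ^ k induces a field automorphism of p-power order on character values). If an irreducible character χ of G satisfies χ (g ^ k) = χ g for all g, then every irreducible constituent θ of the restriction of χ to N satisfies θ (n ^ k) = θ n for all n. -/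
theorem result {G : Type*} [Group G] [Fintype G] (p : ℕ) [Fact p.Prime] (N : Subgroup G) [N.Normal] [Fintype N] (hidx : ¬ p ∣ N.index) (k e : ℕ) (hk : Nat.Coprime k (Nat.card G)) (hke : k ^ (p ^ e) ≡ 1 [MOD Nat.card G]) (χ : Cfsg.IrrCharacter G) (hχ : ∀ g : G, (χ : G → ℂ) (g ^ k) = (χ : G → ℂ) g) (θ : Cfsg.IrrCharacter N) (hθ : Cfsg.classInner (fun n : N => (χ : G → ℂ) n) (θ : N → ℂ) ≠ 0) : ∀ n : N, (θ : N → ℂ) (n ^ k) = (θ : N → ℂ) n := by
  classical
  have hkN : k.Coprime (Nat.card N) := hk.coprime_dvd_right (Subgroup.card_subgroup_dvd_card N)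
  set O := conjOrbit N (θ : N → ℂ) with hO
  set s : (N → ℂ) → (N → ℂ) := fun ψ n => ψ (n ^ k) with hs
  have hscomm : ∀ (g : G) (ψ : N → ℂ), s (conjNormFun N g ψ) = conjNormFun N g (s ψ) := by
    intro g ψ
    funext n
    simp only [hs, conjNormFun]
    exact congrArg ψ (Subtype.ext (by simp [conj_pow]))
  have hsirr : ∀ ψ ∈ O, s ψ ∈ O := by
    intro ψ hψ
    obtain ⟨g, rfl⟩ := (mem_conjOrbit N).1 hψ
    have hirr : IsIrrCharacter N (s (θ : N → ℂ)) := isIrrCharacter_pow θ.2 hkN
    have hc : classInner (fun n : N => (χ : G → ℂ) n) (s (θ : N → ℂ)) ≠ 0 := by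
      have e : (fun n : N => (χ : G → ℂ) n) = s (fun n : N => (χ : G → ℂ) n) := by
        funext n
        simp only [hs, Subgroup.coe_pow, hχ]
      rw [e, show classInner (s (fun n : N => (χ : G → ℂ) n)) (s (θ : N → ℂ)) =
        classInner (fun n : N => (χ : G → ℂ) n) (θ : N → ℂ) from classInner_pow hkN (fun n : N => (χ : G → ℂ) n) (θ : N → ℂ)]
      exact hθ
    obtain ⟨a, ha⟩ := exists_conj_of_constituents N χ.2 θ.2 hirr hθ hc
    rw [hscomm, ← ha, ← conjNormFun_mul]
    exact (mem_conjOrbit N).2 ⟨_, rfl⟩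
  have hiter : ∀ (j : ℕ) (ψ : N → ℂ), s^[j] ψ = fun n => ψ (n ^ k ^ j) := by
    intro j
    induction j with
    | zero => intro ψ; simp
    | succ j ih =>
      intro ψ
      rw [Function.iterate_succ_apply', ih]
      funext n
      simp only [hs]
      rw [← pow_mul, pow_succ']
  have hid : ∀ ψ : N → ℂ, s^[p ^ e] ψ = ψ := fun ψ => by
    rw [hiter]
    funext n
    congr 1
    apply Subtype.ext
    rw [Subgroup.coe_pow]
    conv_rhs => rw [← pow_one (n : G)]
    exact pow_eq_pow_iff_modEq.2 (hke.of_dvd (orderOf_dvd_natCard _))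
  let f : O → O := fun ψ => ⟨s ψ.1, hsirr _ ψ.2⟩
  have hfi : ∀ j (ψ : O), (f^[j] ψ).1 = s^[j] ψ.1 := by
    intro j
    induction j with
    | zero => intro ψ; rfl
    | succ j ih => intro ψ; rw [Function.iterate_succ_apply', Function.iterate_succ_apply', ← ih]
  have hfid : ∀ ψ : O, f^[p ^ e] ψ = ψ := fun ψ => Subtype.ext (by rw [hfi, hid])
  have hinj : Function.Injective f := by
    have h : Function.LeftInverse (f^[p ^ e - 1]) f := fun ψ => by
      rw [← Function.iterate_succ_apply, Nat.succ_eq_add_one,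
        Nat.sub_add_cancel (pow_pos (Fact.out : p.Prime).pos e), hfid]
    exact h.injective
  let σ : Equiv.Perm O := Equiv.ofBijective f (Finite.injective_iff_bijective.1 hinj)
  have hσ : σ ^ p ^ e = 1 := Equiv.ext fun ψ => by
    rw [Equiv.Perm.coe_pow]
    exact hfid ψ
  have hcard : ¬ p ∣ Fintype.card O := by
    rw [Fintype.card_coe, hO, card_conjOrbit]
    exact fun h => hidx (h.trans (Subgroup.index_dvd_of_le
      (le_inertia N (isClassFunction_irr θ.2))))
  obtain ⟨⟨ψ, hψ⟩, hfix⟩ := Equiv.Perm.exists_fixed_point_of_prime hcard hσ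
  have hfix' : s ψ = ψ := congrArg Subtype.val hfix
  obtain ⟨g, rfl⟩ := (mem_conjOrbit N).1 hψ
  have h2 := congrArg (conjNormFun N g⁻¹) hfix'
  rw [hscomm, conjNormFun_inv, conjNormFun_inv] at h2
  exact fun n => congrFun h2 n

end Cfsg.Agent.S4518
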