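import Cfsg.Statements.S4521
import Cfsg.Agent.Lib.Blocks.AlperinDade
import Cfsg.Agent.Lib.Blocks.Inflation
import Cfsg.Agent.Lib.Blocks.Covering

set_option autoImplicit false
open Cfsg CfsgLib.CharTheory CfsgLib.Blocks CfsgLib.Blocks.BlockBasics
open scoped ComplexConjugate

set_option linter.unusedVariables false

namespace Cfsg.Agent.S4521

/-- Let the finite group G be generated by subgroups U₁ and U₂ that commute elementwise and whose intersection is a p-group, and let M be a maximal ideal of the algebraic integers containing the prime p. If the irreducible character χ of G has the irreducible constituents ψ₁ on U₁ and ψ₂ on U₂, then χ lies in the principal block of G if and only if ψ₁ and ψ₂ lie in the principal blocks of U₁ and U₂. -/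
theorem result {G : Type*} [Group G] [Fintype G] (p : ℕ) [Fact p.Prime] (M : Ideal Cfsg.AlgInt) (hM : Cfsg.IsPModular p M) (U₁ U₂ : Subgroup G) [Fintype U₁] [Fintype U₂] (hcomm : ∀ u ∈ U₁, ∀ v ∈ U₂, u * v = v * u) (hgen : U₁ ⊔ U₂ = ⊤) (hZ : IsPGroup p ↥(U₁ ⊓ U₂)) (χ : Cfsg.IrrCharacter G) (ψ₁ : Cfsg.IrrCharacter U₁) (ψ₂ : Cfsg.IrrCharacter U₂) (h₁ : Cfsg.classInner (fun u : U₁ => (χ : G → ℂ) u) (ψ₁ : U₁ → ℂ) ≠ 0) (h₂ : Cfsg.classInner (fun u : U₂ => (χ : G → ℂ) u) (ψ₂ : U₂ → ℂ) ≠ 0) : χ ∈ Cfsg.principalBlock M G ↔ (ψ₁ ∈ Cfsg.principalBlock M U₁ ∧ ψ₂ ∈ Cfsg.principalBlock M U₂) := by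
  classical
  haveI : Fintype G := inferInstance
  have hp : p.Prime := hM.1
  haveI h1n : U₁.Normal := by
    rw [← Subgroup.normalizer_eq_top_iff, eq_top_iff, ← hgen, sup_le_iff]
    exact ⟨Subgroup.le_normalizer, fun v hv => Subgroup.mem_normalizer_iff.2 fun u =>
      ⟨fun hu => by rwa [← hcomm u hu v hv, mul_inv_cancel_right],
       fun hu => by
        have h := hcomm _ hu v hv
        rw [inv_mul_cancel_right] at h
        rw [mul_left_cancel h]; exact hu⟩⟩
  haveI h2n : U₂.Normal := by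
    rw [← Subgroup.normalizer_eq_top_iff, eq_top_iff, ← hgen, sup_le_iff]
    exact ⟨fun v hv => Subgroup.mem_normalizer_iff.2 fun u =>
      ⟨fun hu => by rwa [hcomm v hv u hu, mul_inv_cancel_right],
       fun hu => by
        have h := hcomm v hv _ hu
        rw [inv_mul_cancel_right] at h
        rw [← mul_left_cancel h]; exact hu⟩, Subgroup.le_normalizer⟩
  have hdec : ∀ g : G, ∃ a ∈ U₁, ∃ b ∈ U₂, a * b = g := fun g => by
    have : g ∈ ((U₁ ⊔ U₂ : Subgroup G) : Set G) := by rw [hgen]; trivial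
    rw [Subgroup.normal_mul] at this
    exact Set.mem_mul.1 this
  have hz1 : ∀ z ∈ U₁ ⊓ U₂, ∃ k : ℕ, orderOf z = p ^ k := fun z hz => by
    obtain ⟨k, hk⟩ := IsPGroup.iff_orderOf.1 hZ ⟨z, hz⟩
    exact ⟨k, (Subgroup.orderOf_coe ⟨z, hz⟩).trans hk⟩
  have huniq : ∀ {u u' v v' : G}, u ∈ U₁ → u' ∈ U₁ → v ∈ U₂ → v' ∈ U₂ → ¬ p ∣ orderOf u →
      ¬ p ∣ orderOf u' → u * v = u' * v' → u = u' ∧ v = v' := by
    intro u u' v v' hu hu' hv hv' hur hur' e
    have e1 : u'⁻¹ * u = v' * v⁻¹ := by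
      rw [eq_mul_inv_iff_mul_eq, mul_assoc, e, inv_mul_cancel_left]
    have hzU : u'⁻¹ * u ∈ U₁ ⊓ U₂ :=
      ⟨U₁.mul_mem (U₁.inv_mem hu') hu, e1 ▸ U₂.mul_mem hv' (U₂.inv_mem hv)⟩
    obtain ⟨-, e2⟩ := pPart_unique hp (show Commute (u'⁻¹ * u) u' from (hcomm u' hu' _ hzU.2).symm)
      (Commute.one_left u) (hz1 _ hzU) ⟨0, by simp⟩ hur' hur
      (by rw [one_mul, ← hcomm u' hu' _ hzU.2, mul_inv_cancel_left])
    subst e2
    exact ⟨rfl, mul_left_cancel e⟩
  have hreg : ∀ g : G, ¬ p ∣ orderOf g → ∃ u : U₁, ∃ v : U₂, (u : G) * v = g ∧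
      ¬ p ∣ orderOf (u : G) ∧ ¬ p ∣ orderOf (v : G) := by
    intro g hg
    obtain ⟨a, ha, b, hb, rfl⟩ := hdec g
    obtain ⟨za, wa, ea, ca, hza, hwa, hzam, hwam⟩ := exists_pPart hp a
    obtain ⟨zb, wb, eb, cb, hzb, hwb, hzbm, hwbm⟩ := exists_pPart hp b
    have m1 : za ∈ U₁ := (Subgroup.zpowers_le.2 ha) hzam
    have m2 : wa ∈ U₁ := (Subgroup.zpowers_le.2 ha) hwam
    have m3 : zb ∈ U₂ := (Subgroup.zpowers_le.2 hb) hzbm
    have m4 : wb ∈ U₂ := (Subgroup.zpowers_le.2 hb) hwbm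
    refine ⟨⟨wa, m2⟩, ⟨wb, m4⟩, ?_, hwa, hwb⟩
    have c1 : Commute za zb := hcomm _ m1 _ m3
    have c2 : Commute za wb := hcomm _ m1 _ m4
    have c3 : Commute wa zb := hcomm _ m2 _ m3
    have c4 : Commute wa wb := hcomm _ m2 _ m4
    have hord : ∃ k : ℕ, orderOf (za * zb) = p ^ k := by
      obtain ⟨i, hi⟩ := hza
      obtain ⟨j, hj⟩ := hzb
      obtain ⟨k, -, hk⟩ := (Nat.dvd_prime_pow hp).1 (show orderOf (za * zb) ∣ p ^ (i + j) from
        (c1.orderOf_mul_dvd_lcm).trans (Nat.lcm_dvd (hi ▸ pow_dvd_pow p (Nat.le_add_right i j))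
          (hj ▸ pow_dvd_pow p (Nat.le_add_left j i))))
      exact ⟨k, hk⟩
    have hord' : ¬ p ∣ orderOf (wa * wb) := fun hd => by
      rcases hp.dvd_mul.1 (hd.trans (c4.orderOf_mul_dvd_lcm.trans (Nat.lcm_dvd_mul _ _))) with h | h
      exacts [hwa h, hwb h]
    obtain ⟨-, e⟩ := pPart_unique hp (show Commute (za * zb) (wa * wb) from
        ((ca.mul_left c3.symm).mul_right (c2.mul_left cb)))
      (Commute.one_left (a * b)) hord ⟨0, by simp⟩ hord' hg (by
        rw [one_mul, ← ea, ← eb, c3.symm.mul_mul_mul_comm])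
    exact e
  set cen : G → Subgroup G := fun g => Subgroup.centralizer ({g} : Set G) with hcen
  have hmem : ∀ x g : G, x ∈ cen g ↔ x * g = g * x := fun x g =>
    Subgroup.mem_centralizer_singleton_iff
  have hidx : ∀ (u : U₁) (v : U₂), ¬ p ∣ orderOf (u : G) →
      (cen ((u : G) * v)).index = (cen (u : G)).index * (cen (v : G)).index := by
    intro u v hu
    have hinf : cen ((u : G) * v) = cen (u : G) ⊓ cen (v : G) := by
      refine le_antisymm (fun x hx => ?_) fun x hx => ?_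
      · obtain ⟨a, ha, b, hb, rfl⟩ := hdec x
        rw [hmem] at hx
        have cb : Commute b (u : G) := (hcomm _ u.2 b hb).symm
        have ca : Commute a (v : G) := hcomm a ha _ v.2
        have hab : Commute a b := hcomm a ha b hb
        have e : (a * (u : G) * a⁻¹) * (b * (v : G) * b⁻¹) = (u : G) * v := by
          have h1 : a * b * ((u : G) * v) * (a * b)⁻¹ = (u : G) * v := by
            rw [hx, mul_inv_cancel_right]
          refine Eq.trans ?_ h1
          have hbu : b * (u : G) = u * b := cb.eq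
          have hab' : b⁻¹ * a⁻¹ = a⁻¹ * b⁻¹ := (hab.inv_inv.eq).symm
          have hav : a⁻¹ * (b * (v : G) * b⁻¹) = (b * (v : G) * b⁻¹) * a⁻¹ :=
            hcomm _ (U₁.inv_mem ha) _ (U₂.mul_mem (U₂.mul_mem hb v.2) (U₂.inv_mem hb))
          calc a * (u : G) * a⁻¹ * (b * v * b⁻¹) = a * (u : G) * (a⁻¹ * (b * v * b⁻¹)) := by
                simp only [mul_assoc]
            _ = a * ((u : G) * b) * v * (b⁻¹ * a⁻¹) := by rw [hav]; simp only [mul_assoc]
            _ = a * b * ((u : G) * v) * (a * b)⁻¹ := by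
                rw [← hbu, mul_inv_rev]; simp only [mul_assoc]
        obtain ⟨e1, e2⟩ := huniq (U₁.mul_mem (U₁.mul_mem ha u.2) (U₁.inv_mem ha)) u.2
          (U₂.mul_mem (U₂.mul_mem hb v.2) (U₂.inv_mem hb)) v.2 (by rwa [conj_orderOf]) hu e
        refine Subgroup.mem_inf.2 ⟨(hmem _ _).2 ?_, (hmem _ _).2 ?_⟩
        · exact (Commute.mul_left (show Commute a (u : G) from mul_inv_eq_iff_eq_mul.1 e1) cb).eq
        · exact (ca.mul_left (show Commute b (v : G) from mul_inv_eq_iff_eq_mul.1 e2)).eq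
      · obtain ⟨h1, h2⟩ := Subgroup.mem_inf.1 hx
        exact (hmem _ _).2 ((show Commute x (u : G) from (hmem _ _).1 h1).mul_right
          (show Commute x (v : G) from (hmem _ _).1 h2)).eq
    rw [hinf, ← Subgroup.relIndex_mul_index (inf_le_left : cen (u : G) ⊓ cen (v : G) ≤ cen (u : G)),
      Subgroup.inf_relIndex_left, mul_comm]
    congr 1
    let f : cen (u : G) ⧸ (cen (v : G)).subgroupOf (cen (u : G)) → G ⧸ cen (v : G) :=
      Quotient.map' (fun c => (c : G)) fun a b h => by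
        rw [QuotientGroup.leftRel_apply] at h ⊢
        exact Subgroup.mem_subgroupOf.1 h
    refine Nat.card_congr (Equiv.ofBijective f ⟨?_, ?_⟩)
    · rintro ⟨a⟩ ⟨b⟩ h
      apply Quotient.sound'
      rw [QuotientGroup.leftRel_apply, Subgroup.mem_subgroupOf]
      exact QuotientGroup.eq.1 h
    · rintro ⟨g⟩
      obtain ⟨a, ha, b, hb, rfl⟩ := hdec g
      refine ⟨QuotientGroup.mk ⟨b, (hmem _ _).2 (hcomm _ u.2 b hb).symm⟩, ?_⟩
      show (QuotientGroup.mk b : G ⧸ cen (v : G)) = QuotientGroup.mk (a * b)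
      rw [QuotientGroup.eq, hcomm a ha b hb, inv_mul_cancel_left]
      exact (hmem _ _).2 (hcomm a ha _ v.2)
  have hval : ∀ (u : U₁) (v : U₂), (χ : G → ℂ) ((u : G) * v) * (χ : G → ℂ) 1 =
      (χ : G → ℂ) u * (χ : G → ℂ) v := by
    intro u v
    have h := CfsgLib.Blocks.sum_conj_mul χ (v : G) (u : G)
    rw [Finset.sum_congr rfl (g := fun _ => (χ : G → ℂ) ((u : G) * v)) fun j _ => ?_,
      Finset.sum_const, Finset.card_univ, nsmul_eq_mul, ← Nat.card_eq_fintype_card] at h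
    · rw [eq_div_iff (irr_one_ne_zero χ), mul_assoc, mul_assoc] at h
      rw [mul_left_cancel₀ (Nat.cast_ne_zero.2 Nat.card_pos.ne') h, mul_comm]
    · obtain ⟨a, ha, b, hb, rfl⟩ := hdec j
      refine Eq.trans ?_ (isClassFunction_irr χ.2 ((u : G) * v) a)
      refine congrArg (χ : G → ℂ) ?_
      have h1 : b * (u : G) = u * b := (hcomm _ u.2 b hb).symm
      have h2 : (v : G) * a⁻¹ = a⁻¹ * v := (hcomm _ (U₁.inv_mem ha) _ v.2).symm
      calc a * b * (u : G) * (a * b)⁻¹ * v = a * (b * (u : G)) * b⁻¹ * (a⁻¹ * v) := by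
            rw [mul_inv_rev]; simp only [mul_assoc]
        _ = a * ((u : G) * v) * a⁻¹ := by rw [h1, ← h2]; simp only [mul_assoc, mul_inv_cancel_left]
  have hprod : ∀ (u : U₁) (v : U₂), ¬ p ∣ orderOf (u : G) →
      clv ((u : G) * v) χ = clv (u : G) χ * clv (v : G) χ := by
    intro u v hu
    have hi := hidx u v hu
    simp only [hcen] at hi
    simp only [clv, centralChar]
    rw [hi, Nat.cast_mul]
    have h0 := irr_one_ne_zero χ
    field_simp
    have h := hval u v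
    linear_combination ((Subgroup.centralizer ({(u : G)} : Set G)).index : ℂ) *
      ((Subgroup.centralizer ({(v : G)} : Set G)).index : ℂ) * h
  have hsub : ∀ (U V : Subgroup G) [Fintype U] [U.Normal],
      (∀ g : G, ∃ a ∈ U, ∃ b ∈ V, a * b = g) → (∀ a ∈ U, ∀ b ∈ V, a * b = b * a) →
      ∀ (φ : IrrCharacter G) (θ : IrrCharacter U),
        classInner (fun n : U => (φ : G → ℂ) n) (θ : U → ℂ) ≠ 0 →
        ∀ u : U, clv (u : G) φ = clv u θ := by
    intro U V _ _ hd hc φ θ hθ u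
    simp only [clv]
    rw [← omega_classInd (u : G) φ, ← omega_classInd u θ,
      omega_eq_of_constituent hθ (isClassFunction_classInd _) (supp_classInd u.2)]
    congr 1
    funext k
    refine if_congr ?_ rfl rfl
    constructor
    · intro h
      obtain ⟨x, hx⟩ := isConj_iff.1 h
      obtain ⟨a, ha, b, hb, rfl⟩ := hd x
      refine isConj_iff.2 ⟨⟨a, ha⟩, Subtype.ext ?_⟩
      show a * (u : G) * a⁻¹ = k
      rw [← hx, mul_inv_rev]
      have h1 : b * (u : G) = u * b := (hc _ u.2 b hb).symm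
      calc a * (u : G) * a⁻¹ = a * ((u : G) * b) * (b⁻¹ * a⁻¹) := by group
        _ = a * b * u * (b⁻¹ * a⁻¹) := by rw [← h1]; simp only [mul_assoc]
    · exact fun h => MonoidHom.map_isConj U.subtype h
  have hd2 : ∀ g : G, ∃ b ∈ U₂, ∃ a ∈ U₁, b * a = g := fun g => by
    obtain ⟨a, ha, b, hb, rfl⟩ := hdec g
    exact ⟨b, hb, a, ha, (hcomm a ha b hb).symm⟩
  have hc2 : ∀ b ∈ U₂, ∀ a ∈ U₁, b * a = a * b := fun b hb a ha => (hcomm a ha b hb).symm
  have hone : ∀ (U : Subgroup G) [Fintype U],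
      classInner (fun n : U => (oneIrr G : G → ℂ) n) (oneIrr U : U → ℂ) ≠ 0 := by
    intro U _
    simp [classInner, oneIrr]
  have hsize1 : ∀ u : U₁, clv (u : G) (oneIrr G) = clv u (oneIrr U₁) :=
    hsub U₁ U₂ hdec hcomm _ _ (hone U₁)
  have hsize2 : ∀ u : U₂, clv (u : G) (oneIrr G) = clv u (oneIrr U₂) :=
    hsub U₂ U₁ hd2 hc2 _ _ (hone U₂)
  have hψ1 := hsub U₁ U₂ hdec hcomm χ ψ₁ h₁
  have hψ2 := hsub U₂ U₁ hd2 hc2 χ ψ₂ h₂
  constructor
  · intro hχ
    have hχ' := (sameBlock_iff_res hM (oneIrr G) χ).1 hχ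
    exact ⟨(sameBlock_iff_res hM (oneIrr U₁) ψ₁).2 fun u => by
        rw [← hψ1, ← hsize1]; exact hχ' _,
      (sameBlock_iff_res hM (oneIrr U₂) ψ₂).2 fun u => by
        rw [← hψ2, ← hsize2]; exact hχ' _⟩
  · rintro ⟨hp1, hp2⟩
    have hp1' := (sameBlock_iff_res hM (oneIrr U₁) ψ₁).1 hp1
    have hp2' := (sameBlock_iff_res hM (oneIrr U₂) ψ₂).1 hp2
    refine sameBlock_of_regular hM (χ := oneIrr G) (χ' := χ) fun g hg => ?_
    obtain ⟨u, v, rfl, hu, hv⟩ := hreg g hg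
    have hi := hidx u v hu
    simp only [hcen] at hi
    rw [hprod u v hu, clv_oneIrr, hi, Nat.cast_mul, ← clv_oneIrr,
      ← clv_oneIrr, res_mul hM (memRing_clv hM _ _) (memRing_clv hM _ _),
      res_mul hM (memRing_clv hM _ _) (memRing_clv hM _ _), hψ1, hψ2, hsize1, hsize2,
      hp1' u, hp2' v]

end Cfsg.Agent.S4521
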