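import Cfsg.Statements.S4538
import Cfsg.Agent.Lib.PSLn.Blocks

set_option autoImplicit false
open Cfsg

namespace Cfsg.Agent.S4538

/-- Let F be a finite field of characteristic p and n ≥ 2. Relative to a maximal ideal M of the algebraic integers containing p, the group SL(n, F) has exactly one p-block of defect zero, and every other p-block has full defect (its defect equals the exponent of p in the order of the group, so its defect groups are Sylow p-subgroups). -/
theorem result {F : Type*} [Field F] [Fintype F] (n : ℕ) (hn : 2 ≤ n) (p : ℕ) [Fact p.Prime] [CharP F p] (M : Ideal Cfsg.AlgInt) (hM : Cfsg.IsPModular p M) : Nat.card {B : Set (Cfsg.IrrCharacter (Matrix.SpecialLinearGroup (Fin n) F)) // Cfsg.IsPBlock M B ∧ Cfsg.blockDefect p B = 0} = 1 ∧ ∀ B : Set (Cfsg.IrrCharacter (Matrix.SpecialLinearGroup (Fin n) F)), Cfsg.IsPBlock M B → Cfsg.blockDefect p B = 0 ∨ Cfsg.blockDefect p B = (Nat.card (Matrix.SpecialLinearGroup (Fin n) F)).factorization p := by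
  classical
  obtain ⟨f, hp, hf⟩ := FiniteField.card F p
  have hn1 : 1 ≤ n := by omega
  have hZp : ¬ p ∣ Nat.card (Subgroup.center (Matrix.SpecialLinearGroup (Fin n) F)) := by
    rw [CfsgLib.SLCard.card_SL_center hn1]
    intro h
    have h1 := h.trans (Nat.gcd_dvd_right _ _)
    have h2 : p ∣ Fintype.card F := hf ▸ dvd_pow_self p f.ne_zero
    have h3 := Nat.dvd_sub h2 h1
    rw [Nat.sub_sub_self (Nat.one_le_of_lt Fintype.one_lt_card)] at h3
    exact hp.not_dvd_one h3
  have hcardU := CfsgLib.PSLn.Radical.card_upper_eq (F := F) (n := n) p hn1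
  have hU : Nat.card (CfsgLib.PSLn.upper F n) = Fintype.card F ^ n.choose 2 := by
    rw [CfsgLib.PSLn.card_upper, Finset.prod_pow_eq_pow_sum, Fin.sum_univ_eq_sum_range (fun k => k) n,
      Finset.sum_range_id, Nat.choose_two_right]
  let St : Cfsg.IrrCharacter (Matrix.SpecialLinearGroup (Fin n) F) := ⟨_, CfsgLib.PSLn.St.stSL_irr p⟩
  have hSt : CfsgLib.Blocks.IsDefZero p St := by
    show (Cfsg.charDegree (CfsgLib.PSLn.St.stSL n F)).factorization p = _
    rw [Cfsg.charDegree, CfsgLib.PSLn.St.stSL_one, ← Nat.cast_pow, Complex.natCast_re, Nat.floor_natCast,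
      ← hU, hcardU, Nat.Prime.factorization_pow hp, Finsupp.single_eq_same]
  have huniq := fun χ ψ hχ hψ =>
    CfsgLib.DefectZeroBN.defZero_unique (CfsgLib.PSLn.Datum.datum (F := F) hn p) χ ψ hχ hψ
  have hblSt : Cfsg.blockOf M (St : Matrix.SpecialLinearGroup (Fin n) F → ℂ) = {St} :=
    (CfsgLib.Blocks.defect_zero_iff hM St).1 hSt
  have hcases := fun B (hB : Cfsg.IsPBlock M B) =>
    CfsgLib.Blocks.CentralRadical.defect_full_or_zero (G := Matrix.SpecialLinearGroup (Fin n) F) hM le_rfl hZp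
      (fun D hD hne hrad => CfsgLib.PSLn.Radical.centralizer_le p hn1 hD hne hrad) hB
  refine ⟨?_, fun B hB => ?_⟩
  · have hpos : 0 < (Nat.card (Matrix.SpecialLinearGroup (Fin n) F)).factorization p := by
      refine hp.factorization_pos_of_dvd Nat.card_pos.ne' ?_
      refine dvd_trans ?_ (Subgroup.card_subgroup_dvd_card (CfsgLib.PSLn.upper F n))
      rw [hU, hf, ← pow_mul]
      exact dvd_pow_self p (Nat.mul_ne_zero f.ne_zero (Nat.choose_pos hn).ne')
    have hd0 : Cfsg.blockDefect p ({St} : Set (Cfsg.IrrCharacter (Matrix.SpecialLinearGroup (Fin n) F))) = 0 := by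
      rw [Cfsg.blockDefect, Set.image_singleton, csInf_singleton, hSt, Nat.sub_self]
    have hone : ∀ B, Cfsg.IsPBlock M B → Cfsg.blockDefect p B = 0 → B = {St} := fun B hB h0 => by
      obtain ⟨χ, hχ, rfl⟩ := (hcases B hB).resolve_left (by omega)
      rw [huniq χ St hχ hSt]
    rw [Nat.card_eq_one_iff_unique]
    exact ⟨⟨fun a b => Subtype.ext ((hone _ a.2.1 a.2.2).trans (hone _ b.2.1 b.2.2).symm)⟩,
      ⟨{St}, hblSt ▸ CfsgLib.Blocks.blockOf_isPBlock St, hd0⟩⟩
  · rcases hcases B hB with h | ⟨χ, hχ, rfl⟩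
    · exact Or.inr (le_antisymm (Nat.sub_le _ _) h)
    · exact Or.inl (by rw [Cfsg.blockDefect, Set.image_singleton, csInf_singleton, hχ, Nat.sub_self])

end Cfsg.Agent.S4538
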