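import Cfsg.Statements.S4549
import Cfsg.Agent.Lib.Blocks.CubingGalois
import Cfsg.Agent.Lib.CharTheory.More

set_option autoImplicit false
open Cfsg
open CfsgLib.Blocks CfsgLib.CharTheory

namespace Cfsg.Agent.S4549

theorem result {G : Type*} [Group G] [Finite G] (M : Ideal Cfsg.AlgInt) (hM : Cfsg.IsPModular 2 M) (k : ℕ) (hk₁ : ∀ g : G, (∃ j : ℕ, orderOf g = 2 ^ j) → g ^ k = g ^ 3) (hk₂ : ∀ g : G, Odd (orderOf g) → g ^ k = g) : Cfsg.HasNormalPComplement 2 G ↔ ∀ χ ∈ Cfsg.principalBlock M G, Odd (Cfsg.charDegree (χ : G → ℂ)) → (∀ g : G, (χ : G → ℂ) (g ^ k) = (χ : G → ℂ) g) → Cfsg.charDegree (χ : G → ℂ) = 1 := by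
  classical
  haveI := Fintype.ofFinite G
  haveI : Fact (Nat.Prime 2) := ⟨Nat.prime_two⟩
  constructor
  · rintro ⟨P, N, hNn, hc⟩ χ hχ hodd -
    haveI := hNn
    obtain ⟨j, hj⟩ := IsPGroup.iff_card.mp P.2
    have hidx : N.index = 2 ^ j := by rw [hc.symm.index_eq_card, hj]
    have hNodd : ¬ 2 ∣ Nat.card N := by
      rw [← hc.index_eq_card]; exact P.not_dvd_index
    have hle : N ≤ charKernel (χ : G → ℂ) (isCharacter_of_irr χ.2) := fun n hn =>
      (mem_charKernel _ n).mpr (principal_kernel hM hNodd hχ hn)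
    have hd : Cfsg.charDegree (χ : G → ℂ) ∣ 2 ^ j :=
      hidx ▸ (charDegree_dvd_index_kernel χ.2).trans (Subgroup.index_dvd_of_le hle)
    obtain ⟨i, -, hi⟩ := (Nat.dvd_prime_pow Nat.prime_two).1 hd
    rw [hi] at hodd ⊢
    rcases i with _ | i
    · rfl
    · exact absurd hodd (by simp [Nat.even_pow, parity_simps])
  · intro h
    obtain ⟨P⟩ : Nonempty (Sylow 2 G) := inferInstance
    haveI := Fintype.ofFinite (P : Subgroup G)
    refine LinearCount.hasNormalPComplement_of_extend P fun lam hlam => ?_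
    obtain ⟨χ, hχ, hodd, hfix, hne⟩ := LinearCount.exists_fixed_odd hk₁ hk₂ hM P lam hlam
    have h1 := h χ hχ hodd hfix
    have hone : (χ : G → ℂ) 1 = 1 := by rw [← irr_charDegree_cast, h1, Nat.cast_one]
    obtain ⟨φ, hφ⟩ := exists_hom_of_degree_one (isCharacter_of_irr χ.2) hone
    refine ⟨φ, fun x => ?_⟩
    have he : (fun x : (P : Subgroup G) => (φ x : ℂ)) = fun x => (lam x : ℂ) := by
      by_contra hc
      refine hne ?_
      rw [hφ]
      exact classInner_irr_ne (isIrrCharacter_linear (φ.comp (P : Subgroup G).subtype))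
        (isIrrCharacter_linear lam) hc
    exact Units.ext (congrFun he x)

end Cfsg.Agent.S4549
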