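import Cfsg.Statements.S4550
import Cfsg.Agent.Lib.Blocks.Principal
import Cfsg.Agent.Lib.CharTheory.PowerMap
import Cfsg.Agent.Lib.Blocks.SecondMain

set_option autoImplicit false
open Cfsg CfsgLib.Blocks CfsgLib.CharTheory
open scoped ComplexConjugate

set_option linter.unusedVariables false

namespace Cfsg.Agent.S4550

/-- Let G be a finite group of even order and M a maximal ideal of the algebraic integers containing 2. Let k be a natural number with g ^ k = g ^ 3 for every 2-element g and g ^ k = g for every element g of odd order (such k exist); an irreducible character χ is unchanged by g ↦ g ^ k exactly when it is fixed by the field automorphism that cubes the 2-power roots of unity and fixes the roots of unity of odd order. Then the number of members χ of the principal 2-block of odd degree with χ (g ^ k) = χ g for all g is even. -/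
theorem result {G : Type*} [Group G] [Finite G] (M : Ideal Cfsg.AlgInt) (hM : Cfsg.IsPModular 2 M) (hev : Even (Nat.card G)) (k : ℕ) (hk₁ : ∀ g : G, (∃ j : ℕ, orderOf g = 2 ^ j) → g ^ k = g ^ 3) (hk₂ : ∀ g : G, Odd (orderOf g) → g ^ k = g) : Even (Nat.card {χ : Cfsg.IrrCharacter G // χ ∈ Cfsg.principalBlock M G ∧ Odd (Cfsg.charDegree (χ : G → ℂ)) ∧ ∀ g : G, (χ : G → ℂ) (g ^ k) = (χ : G → ℂ) g}) := by
  classical
  haveI := Fintype.ofFinite G
  haveI : Fact (Nat.Prime 2) := ⟨Nat.prime_two⟩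
  haveI := res_charP hM
  haveI := res_isDomain hM
  set a : ℕ := (Nat.card G).factorization 2 with ha
  have hcop : k.Coprime (Nat.card G) := by
    refine Nat.coprime_of_dvd fun q hq hqk hqG => ?_
    haveI : Fact q.Prime := ⟨hq⟩
    obtain ⟨g, hg⟩ := exists_prime_orderOf_dvd_card' q hqG
    have h0 : g ^ k = 1 := orderOf_dvd_iff_pow_eq_one.1 (hg ▸ hqk)
    rcases eq_or_ne q 2 with rfl | hq2
    · rw [hk₁ g ⟨1, hg⟩, ← orderOf_dvd_iff_pow_eq_one, hg] at h0
      omega
    · rw [hk₂ g (hg ▸ hq.odd_of_ne_two hq2), ← orderOf_eq_one_iff, hg] at h0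
      exact hq.one_lt.ne' h0
  have hper : ∀ g : G, g ^ k ^ (2 ^ a) = g := by
    intro g
    obtain ⟨x, y, hxy, hc, ⟨j, hj⟩, hy⟩ : ∃ x y : G, x * y = g ∧ Commute x y ∧
        (∃ j : ℕ, orderOf x = 2 ^ j) ∧ ¬ 2 ∣ orderOf y := by
      obtain ⟨x, hx⟩ := exists_pPart (p := 2) Nat.prime_two g
      obtain ⟨y, h1, h2, h3, h4⟩ := hx
      exact ⟨x, y, h1, h2, h3, h4.1⟩
    have hyk : y ^ k = y := hk₂ y (Nat.odd_iff.2 (Nat.two_dvd_ne_zero.1 hy))
    have hxk : ∀ e : ℕ, x ^ k ^ e = x ^ 3 ^ e := by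
      intro e
      induction e with
      | zero => simp
      | succ e ih =>
        rw [pow_succ, pow_succ, pow_mul, pow_mul, ih]
        refine hk₁ _ ?_
        exact ((Nat.dvd_prime_pow Nat.prime_two).1 (hj ▸ orderOf_pow_dvd (3 ^ e))).imp fun i hi => hi.2
    have hyke : ∀ e : ℕ, y ^ k ^ e = y := by
      intro e
      induction e with
      | zero => simp
      | succ e ih => rw [pow_succ, pow_mul, ih, hyk]
    have hja : j ≤ a := by
      have h1 : orderOf x ∣ Nat.card G := orderOf_dvd_natCard x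
      rw [hj] at h1
      exact (Nat.prime_two.pow_dvd_iff_le_factorization Nat.card_pos.ne').1 h1
    rw [← hxy, hc.mul_pow, hyke, hxk]
    congr 1
    refine (pow_eq_pow_iff_modEq.2 ?_).trans (pow_one x)
    rw [hj]
    refine Nat.ModEq.of_dvd (pow_dvd_pow 2 (hja.trans (Nat.le_succ a))) ?_
    clear hja
    induction a with
    | zero => decide
    | succ b ih =>
      simp only [Nat.succ_eq_add_one] at ih ⊢
      obtain ⟨c, hc⟩ := (Nat.modEq_iff_dvd' (Nat.one_le_pow _ _ (by norm_num))).1 ih.symm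
      have h3 : 3 ^ 2 ^ b = 2 ^ (b + 1) * c + 1 := by
        have := Nat.one_le_pow (2 ^ b) 3 (by norm_num); omega
      refine ((Nat.modEq_iff_dvd' (Nat.one_le_pow _ _ (by norm_num))).2 ⟨c * (2 ^ b * c + 1), ?_⟩).symm
      rw [pow_succ 2 b, pow_mul, h3]
      have : (2 ^ (b + 1) * c + 1) ^ 2 = 2 ^ (b + 1 + 1) * (c * (2 ^ b * c + 1)) + 1 := by ring
      omega
  set B := Cfsg.principalBlock M G with hB
  have hBb : Cfsg.IsPBlock M B := principalBlock_isPBlock
  let S := {χ : Cfsg.IrrCharacter G // χ ∈ B ∧ Odd (Cfsg.charDegree (χ : G → ℂ))}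
  have hcentr : ∀ g : G, Subgroup.centralizer ({g ^ k} : Set G) = Subgroup.centralizer ({g} : Set G) := by
    intro g
    ext c
    simp only [Subgroup.mem_centralizer_singleton_iff]
    constructor
    · intro h
      have h' : Commute c (g ^ k) := by first | exact h | exact h.symm
      have h2 := h'.pow_right (k ^ (2 ^ a - 1))
      rw [← pow_mul, ← pow_succ', Nat.sub_add_cancel (Nat.one_le_two_pow), hper] at h2
      first | exact h2 | exact h2.symm
    · intro h
      have h' : Commute c g := by first | exact h | exact h.symm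
      first | exact h'.pow_right k | exact (h'.pow_right k).symm
  have hmem : ∀ χ : Cfsg.IrrCharacter G, χ ∈ B → powIrr hcop χ ∈ B := by
    intro χ hχ g
    have h := hχ (g ^ k)
    simp only [Cfsg.centralChar, hcentr] at h ⊢
    show Cfsg.MemLocalIdeal M (_ - _ * (χ : G → ℂ) (g ^ k) / (χ : G → ℂ) (1 ^ k))
    rw [one_pow]
    exact h
  have hdeg : ∀ χ : Cfsg.IrrCharacter G, Cfsg.charDegree (powIrr hcop χ : G → ℂ) =
      Cfsg.charDegree (χ : G → ℂ) := fun χ => by
    show ⌊((χ : G → ℂ) (1 ^ k)).re⌋₊ = _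
    rw [one_pow]; rfl
  let f : S → S := fun χ => ⟨powIrr hcop χ.1, hmem _ χ.2.1, by rw [hdeg]; exact χ.2.2⟩
  have hinj : Function.Injective f := fun χ ψ e =>
    Subtype.ext ((powIrr_bijective hcop).1 (congrArg Subtype.val e))
  let σ : Equiv.Perm S := Equiv.ofBijective f (Finite.injective_iff_bijective.1 hinj)
  have hσ : ∀ (e : ℕ) (χ : S) (g : G), (((σ ^ e) χ).1 : G → ℂ) g = (χ.1 : G → ℂ) (g ^ k ^ e) := by
    intro e
    induction e with
    | zero => intro χ g; simp
    | succ e ih =>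
      intro χ g
      rw [pow_succ', Equiv.Perm.mul_apply]
      show (((σ ^ e) χ).1 : G → ℂ) (g ^ k) = _
      rw [ih, ← pow_mul, pow_succ']
  have hσ1 : σ ^ 2 ^ a = 1 := by
    ext χ : 1
    exact Subtype.ext (Subtype.ext (funext fun g => by rw [hσ, hper, Equiv.Perm.one_apply]))
  have hfix : Nat.card {χ : Cfsg.IrrCharacter G // χ ∈ B ∧ Odd (Cfsg.charDegree (χ : G → ℂ)) ∧
      ∀ g : G, (χ : G → ℂ) (g ^ k) = (χ : G → ℂ) g} = σ.supportᶜ.card := by
    rw [← Nat.card_eq_finsetCard]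
    refine Nat.card_congr ?_
    refine ⟨fun χ => ⟨⟨χ.1, χ.2.1, χ.2.2.1⟩, ?_⟩, fun χ => ⟨χ.1.1, χ.1.2.1, χ.1.2.2, fun g => ?_⟩,
      fun _ => rfl, fun _ => rfl⟩
    · rw [Finset.mem_compl, Equiv.Perm.notMem_support]
      exact Subtype.ext (Subtype.ext (funext χ.2.2.2))
    · have := χ.2
      rw [Finset.mem_compl, Equiv.Perm.notMem_support] at this
      exact congrFun (congrArg (fun s : S => (s.1 : G → ℂ)) this) g
  rw [hfix, Nat.even_iff]
  have hmod := Equiv.Perm.card_compl_support_modEq (p := 2) hσ1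
  rw [hmod]
  obtain ⟨t, ht⟩ := exists_prime_orderOf_dvd_card' (G := G) 2 hev.two_dvd
  have h0 := weak_orth hM hBb (x := (1 : G)) (by rw [orderOf_one]; norm_num) (show 2 ∣ orderOf t by rw [ht])
  have h1 : (((∑ χ ∈ bset B, Cfsg.charDegree (χ : G → ℂ) ^ 2 : ℕ)) : AlgInt ⧸ M) = 0 := by
    rw [← res_natCast hM, Nat.cast_sum]
    rw [res_sum hM (fun χ _ => memRing_natCast hM _)]
    have e := congrArg (res hM) h0
    rw [res_zero hM, res_sum hM fun χ _ => (loc hM).mul_mem (memRing_irr hM χ 1) (memRing_irr hM χ t)] at e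
    refine Eq.trans (Finset.sum_congr rfl fun χ _ => ?_) e
    rw [res_mul hM (memRing_irr hM χ 1) (memRing_irr hM χ t)]
    have hr := irr_res_pPart hM χ (Commute.one_right t) (k := 1) (by rw [ht]; norm_num)
    rw [mul_one] at hr
    rw [hr, ← res_mul hM (memRing_irr hM χ 1) (memRing_irr hM χ 1), Nat.cast_pow, irr_charDegree_cast, pow_two]
  rw [CharP.cast_eq_zero_iff _ 2, Nat.dvd_iff_mod_eq_zero] at h1
  rw [Finset.sum_nat_mod] at h1
  have h2 : ∀ χ ∈ bset B, Cfsg.charDegree (χ : G → ℂ) ^ 2 % 2 =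
      if Odd (Cfsg.charDegree (χ : G → ℂ)) then 1 else 0 := by
    intro χ _
    split_ifs with h
    · exact Nat.odd_iff.1 h.pow
    · exact Nat.even_iff.1 ((Nat.not_odd_iff_even.1 h).pow_of_ne_zero two_ne_zero)
  rw [Finset.sum_congr rfl h2, Finset.sum_boole, Nat.cast_id] at h1
  rw [show Fintype.card S = Nat.card S from Fintype.card_eq_nat_card]
  show Nat.card {χ : Cfsg.IrrCharacter G // χ ∈ B ∧ Odd (Cfsg.charDegree (χ : G → ℂ))} % 2 = 0
  have h3 : Nat.card {χ : Cfsg.IrrCharacter G // χ ∈ B ∧ Odd (Cfsg.charDegree (χ : G → ℂ))} =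
      ((bset B).filter fun χ : Cfsg.IrrCharacter G => Odd (Cfsg.charDegree (χ : G → ℂ))).card :=
    Nat.subtype_card _ (fun χ => by simp [mem_bset])
  rw [h3]
  exact h1

end Cfsg.Agent.S4550
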