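import Cfsg.Statements.S4553
import Cfsg.Agent.Lib.CharTheory.CanonicalGalois
import Cfsg.Agent.Lib.CharTheory.ResidualDegrees
import Cfsg.Agent.Lib.Blocks.Covering
import Cfsg.Agent.Lib.Blocks.Principal
import Cfsg.Agent.Lib.Blocks.DefectZeroProducts
import Cfsg.Agent.Lib.PResidual

set_option autoImplicit false
open Cfsg CfsgLib.Blocks CfsgLib.CharTheory CfsgLib.Glauberman
open scoped ComplexConjugate

set_option linter.unusedVariables false

namespace Cfsg.Agent.S4553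

/-- Let G be a finite group, p a prime, P a Sylow p-subgroup, N the p-residual of G (the subgroup generated by the elements of order prime to p, the smallest normal subgroup with G/N a p-group), and M a maximal ideal of the algebraic integers containing p; suppose G/N is cyclic and nontrivial. Let k be a natural number with g ^ k = g ^ (1 + p) for every p-element g and g ^ k = g for every element g of order prime to p (so that χ (g ^ k) is the image of χ g under the field automorphism that raises p-power roots of unity to the power 1 + p and fixes the roots of unity of order prime to p). Then the number of members χ of the principal block of G of degree prime to p with χ (g ^ k) = χ g for all g equals p times the number of members θ of the principal block of N of degree prime to p that are invariant under conjugation by P and satisfy θ (n ^ k) = θ n for all n. -/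
theorem result {G : Type*} [Group G] [Finite G] (p : ℕ) [Fact p.Prime] (M : Ideal Cfsg.AlgInt) (hM : Cfsg.IsPModular p M) (P : Sylow p G) (N : Subgroup G) [hN : N.Normal] (hNres : N = Cfsg.pResidual p G) (hcyc : IsCyclic (G ⧸ N)) (hnt : N ≠ ⊤) (k : ℕ) (hk₁ : ∀ g : G, (∃ j : ℕ, orderOf g = p ^ j) → g ^ k = g ^ (1 + p)) (hk₂ : ∀ g : G, Nat.Coprime (orderOf g) p → g ^ k = g) : Nat.card {χ : Cfsg.IrrCharacter G // χ ∈ Cfsg.principalBlock M G ∧ ¬ p ∣ Cfsg.charDegree (χ : G → ℂ) ∧ ∀ g : G, (χ : G → ℂ) (g ^ k) = (χ : G → ℂ) g} = p * Nat.card {θ : Cfsg.IrrCharacter ↥N // θ ∈ Cfsg.principalBlock M ↥N ∧ ¬ p ∣ Cfsg.charDegree (θ : ↥N → ℂ) ∧ (∀ x ∈ (P : Subgroup G), ∀ n : ↥N, (θ : ↥N → ℂ) ⟨x * n * x⁻¹, hN.conj_mem n n.2 x⟩ = (θ : ↥N → ℂ) n) ∧ ∀ n : ↥N, (θ : ↥N → ℂ) (n ^ k) = (θ : ↥N → ℂ) n} := by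
  classical
  haveI := Fintype.ofFinite G
  haveI := Fintype.ofFinite N
  have hp : p.Prime := Fact.out
  haveI := res_isDomain hM
  subst hNres
  set N := Cfsg.pResidual p G with hNdef
  have htop : N ⊔ (P : Subgroup G) = ⊤ := by
    rw [sup_comm]
    exact sup_comm N (P : Subgroup G) ▸ (by simpa [sup_comm] using CfsgLib.PResidual.pResidual_sup_sylow P)
  have hidxP : N.index ∣ Nat.card (P : Subgroup G) := by
    have h : N.relIndex ((P : Subgroup G) ⊔ N) = N.relIndex (P : Subgroup G) := Subgroup.relIndex_sup_right (P : Subgroup G) N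
    rw [sup_comm, htop, Subgroup.relIndex_top_right] at h
    rw [h]
    exact Subgroup.index_dvd_card _
  obtain ⟨j, hj⟩ : ∃ j, N.index = p ^ j := by
    obtain ⟨n, hn⟩ := IsPGroup.iff_card.1 P.2
    obtain ⟨j, -, hj⟩ := (Nat.dvd_prime_pow hp).1 (hn ▸ hidxP)
    exact ⟨j, hj⟩
  have hj0 : j ≠ 0 := fun h => hnt (Subgroup.index_eq_one.1 (by rw [hj, h, pow_zero]))
  have hcop : k.Coprime (Nat.card G) := by
    refine Nat.coprime_of_dvd fun q hq hqk hqG => ?_
    haveI : Fact q.Prime := ⟨hq⟩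
    obtain ⟨g, hg⟩ := exists_prime_orderOf_dvd_card' q hqG
    have h0 : g ^ k = 1 := orderOf_dvd_iff_pow_eq_one.1 (hg ▸ hqk)
    rcases eq_or_ne q p with rfl | hqp
    · rw [hk₁ g ⟨1, by rw [hg, pow_one]⟩, ← orderOf_dvd_iff_pow_eq_one, hg,
        Nat.dvd_add_self_right] at h0
      exact hq.one_lt.ne' (Nat.dvd_one.1 h0)
    · rw [hk₂ g (hg ▸ (Nat.coprime_primes hq hp).2 hqp), ← orderOf_eq_one_iff, hg] at h0
      exact hq.one_lt.ne' h0
  have hkN : k.Coprime (Nat.card N) := hcop.coprime_dvd_right (Subgroup.card_subgroup_dvd_card N)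
  set B := Cfsg.principalBlock M G with hB
  set b := Cfsg.principalBlock M ↥N with hbdef
  have hBb : Cfsg.IsPBlock M B := principalBlock_isPBlock
  have hbb : Cfsg.IsPBlock M b := principalBlock_isPBlock
  have hone : ∃ χ ∈ B, ∃ θ ∈ b, Cfsg.classInner (fun n : N => (χ : G → ℂ) n) (θ : N → ℂ) ≠ 0 := by
    refine ⟨oneIrr G, oneIrr_mem hM, oneIrr N, oneIrr_mem hM, ?_⟩
    show Cfsg.classInner (fun n : N => (oneIrr G : G → ℂ) n) (oneIrr N : N → ℂ) ≠ 0
    rw [show (fun n : N => (oneIrr G : G → ℂ) n) = (oneIrr N : N → ℂ) from rfl,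
      classInner_irr_self (oneIrr N).2]
    exact one_ne_zero
  have hup : ∀ (χ : Cfsg.IrrCharacter G) (θ : Cfsg.IrrCharacter N), θ ∈ b →
      Cfsg.classInner (fun n : N => (χ : G → ℂ) n) (θ : N → ℂ) ≠ 0 → χ ∈ B := by
    intro χ θ hθ hc
    have h := covering_unique hM ⟨j, hj⟩ hbb hBb (blockOf_isPBlock χ) hone
      ⟨χ, mem_blockOf_self hM χ, θ, hθ, hc⟩
    rw [h]; exact mem_blockOf_self hM χ
  have hdown : ∀ (χ : Cfsg.IrrCharacter G) (θ : Cfsg.IrrCharacter N), χ ∈ B →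
      Cfsg.classInner (fun n : N => (χ : G → ℂ) n) (θ : N → ℂ) ≠ 0 → θ ∈ b := by
    intro χ θ hχ hc
    obtain ⟨c, hcb, hθc⟩ := constituent_mem_orbit hM (res_covFn_covers hM hBb hbb hone hχ) hc
    have hcB := isPBlock_covOrb hbb hcb
    obtain ⟨x, rfl⟩ := mem_covOrb.1 hcb
    have h1 : oneIrr N ∈ blockConj x b := ⟨oneIrr N, oneIrr_mem hM, Subtype.ext (by
      rw [irrPull_conjE_eq]; funext n; rfl)⟩
    rw [eq_blockOf hM hcB h1, ← eq_blockOf hM hbb (oneIrr_mem hM)] at hθc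
    exact hθc
  have hcopd : ∀ t : ℕ, ¬ p ∣ t → N.index.Coprime t := fun t ht => by
    rw [hj]; exact ((hp.coprime_iff_not_dvd).2 ht).pow_left j
  have hinv : ∀ θ : Cfsg.IrrCharacter N, (∀ x ∈ (P : Subgroup G), ∀ n : ↥N,
      (θ : ↥N → ℂ) ⟨x * n * x⁻¹, hN.conj_mem n n.2 x⟩ = (θ : ↥N → ℂ) n) →
      ∀ g : G, conjNormFun N g (θ : N → ℂ) = (θ : N → ℂ) := by
    intro θ h g
    rw [← mem_inertia]
    have hle : N ⊔ (P : Subgroup G) ≤ inertia N (θ : N → ℂ) :=
      sup_le (le_inertia N (isClassFunction_irr θ.2)) fun x hx => (mem_inertia N).2 (funext fun n => h x hx n)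
    exact hle (htop ▸ Subgroup.mem_top g)
  let Θ := {θ : Cfsg.IrrCharacter ↥N // θ ∈ b ∧ ¬ p ∣ Cfsg.charDegree (θ : ↥N → ℂ) ∧
      (∀ x ∈ (P : Subgroup G), ∀ n : ↥N, (θ : ↥N → ℂ) ⟨x * n * x⁻¹, hN.conj_mem n n.2 x⟩ =
        (θ : ↥N → ℂ) n) ∧ ∀ n : ↥N, (θ : ↥N → ℂ) (n ^ k) = (θ : ↥N → ℂ) n}
  have hext : ∀ θ : Θ, ∃ χ : G → ℂ, Cfsg.IsIrrCharacter G χ ∧ (∀ n : N, χ n = (θ.1 : N → ℂ) n) ∧
      ∀ g : G, χ (g ^ k) = χ g := fun θ =>
    exists_fixed_extension θ.1.2 (hinv θ.1 θ.2.2.2.1) (irr_charDegree_cast θ.1).symm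
      (hcopd _ θ.2.2.1) (hcopd _ (not_dvd_detOrder_residual θ.1.2)) hcop θ.2.2.2.2
  choose E hEi hEN hEk using hext
  -- the linear characters
  let A := {ν : G ⧸ N →* ℂˣ // ν ^ p = 1}
  have hA : Nat.card A = p := by
    obtain ⟨q, hq⟩ := hcyc.exists_generator
    have hqp : p ∣ orderOf q := by
      rw [orderOf_eq_card_of_forall_mem_zpowers hq, ← Subgroup.index_eq_card, hj]
      exact dvd_pow_self p hj0
    haveI : NeZero p := ⟨hp.ne_zero⟩
    refine Eq.trans (Nat.card_congr (β := rootsOfUnity p ℂ) ?_)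
      (Complex.card_rootsOfUnity p)
    refine ⟨fun ν => ⟨ν.1 q, ?_⟩, fun z => ⟨monoidHomOfForallMemZpowers hq
      (g' := (z : ℂˣ)) ((orderOf_dvd_of_pow_eq_one ((mem_rootsOfUnity p _).1 z.2)).trans hqp), ?_⟩, ?_, ?_⟩
    · rw [mem_rootsOfUnity, ← MonoidHom.pow_apply, ν.2, MonoidHom.one_apply]
    · refine MonoidHom.ext fun a => ?_
      obtain ⟨i, rfl⟩ := Subgroup.mem_zpowers_iff.1 (hq a)
      rw [map_zpow, MonoidHom.pow_apply, monoidHomOfForallMemZpowers_apply_gen,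
        (mem_rootsOfUnity p _).1 z.2, one_zpow, MonoidHom.one_apply]
    · intro ν
      refine Subtype.ext (MonoidHom.ext fun a => ?_)
      obtain ⟨i, rfl⟩ := Subgroup.mem_zpowers_iff.1 (hq a)
      simp only [map_zpow, monoidHomOfForallMemZpowers_apply_gen]
    · intro z
      exact Subtype.ext (by simp only [monoidHomOfForallMemZpowers_apply_gen])
  have hfixν : ∀ ν : G ⧸ N →* ℂˣ, (∀ g : G, (ν (g : G ⧸ N)) ^ k = ν (g : G ⧸ N)) ↔ ν ^ p = 1 := by
    intro ν
    have hx : ∀ x ∈ (P : Subgroup G), (ν (x : G ⧸ N)) ^ k = ν (x : G ⧸ N) * (ν (x : G ⧸ N)) ^ p := by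
      intro x hx
      obtain ⟨i, hi⟩ := IsPGroup.iff_orderOf.1 P.2 ⟨x, hx⟩
      rw [← map_pow, ← QuotientGroup.mk_pow, hk₁ x ⟨i, by rwa [Subgroup.orderOf_mk] at hi⟩,
        pow_add, pow_one, QuotientGroup.mk_mul, map_mul, QuotientGroup.mk_pow, map_pow]
    have hgen : ∀ g : G, ∃ x ∈ (P : Subgroup G), (g : G ⧸ N) = (x : G ⧸ N) := by
      intro g
      have hg : g ∈ ((N ⊔ (P : Subgroup G) : Subgroup G) : Set G) := htop ▸ Subgroup.mem_top g
      rw [Subgroup.normal_mul] at hg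
      obtain ⟨n, hn, x, hx, rfl⟩ := hg
      exact ⟨x, hx, by rw [QuotientGroup.mk_mul, (QuotientGroup.eq_one_iff n).2 hn, one_mul]⟩
    constructor
    · intro h
      refine MonoidHom.ext fun a => ?_
      obtain ⟨g, rfl⟩ := QuotientGroup.mk_surjective a
      obtain ⟨x, hxP, e⟩ := hgen g
      rw [MonoidHom.pow_apply, MonoidHom.one_apply, e]
      have := hx x hxP
      rw [h x] at this
      exact mul_eq_left.1 this.symm
    · intro h g
      obtain ⟨x, hxP, e⟩ := hgen g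
      rw [e, hx x hxP, ← MonoidHom.pow_apply, h, MonoidHom.one_apply, mul_one]
  have hres : ∀ θ : Θ, Cfsg.IsIrrCharacter N (fun n : N => E θ n) := fun θ => by
    rw [show (fun n : N => E θ n) = (θ.1 : N → ℂ) from funext (hEN θ)]; exact θ.1.2
  let lift : (G ⧸ N →* ℂˣ) → G → ℂ := fun ν g => ((ν (g : G ⧸ N) : ℂˣ) : ℂ)
  have hliftk : ∀ ν, ∀ n ∈ N, lift ν n = lift ν 1 := fun ν n hn => by
    simp only [lift, (QuotientGroup.eq_one_iff n).2 hn, QuotientGroup.mk_one]
  have hlifti : ∀ ν, Cfsg.IsIrrCharacter G (lift ν) := fun ν =>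
    isIrrCharacter_linear (ν.comp (QuotientGroup.mk' N))
  have hlift1 : ∀ ν, lift ν 1 = 1 := fun ν => by simp [lift]
  have hprod : ∀ (θ : Θ) ν, Cfsg.IsIrrCharacter G (lift ν * E θ) := fun θ ν =>
    (gallagher N (isCharacter_of_irr (hEi θ)) (hres θ)).1 _ (hlifti ν) (hliftk ν)
  have hprodN : ∀ (θ : Θ) ν (n : N), (lift ν * E θ) (n : G) = (θ.1 : N → ℂ) n := fun θ ν n => by
    rw [Pi.mul_apply, hliftk ν n n.2, hlift1, one_mul, hEN]
  have hdegN : ∀ (χ : Cfsg.IrrCharacter G) (θ : Cfsg.IrrCharacter N),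
      (∀ n : N, (χ : G → ℂ) n = (θ : N → ℂ) n) →
      Cfsg.charDegree (χ : G → ℂ) = Cfsg.charDegree (θ : N → ℂ) := fun χ θ h => by
    simp only [Cfsg.charDegree, ← h, Subgroup.coe_one]
  have hconst : ∀ (χ : Cfsg.IrrCharacter G) (θ : Cfsg.IrrCharacter N),
      (∀ n : N, (χ : G → ℂ) n = (θ : N → ℂ) n) →
      Cfsg.classInner (fun n : N => (χ : G → ℂ) n) (θ : N → ℂ) ≠ 0 := fun χ θ h => by
    rw [show (fun n : N => (χ : G → ℂ) n) = (θ : N → ℂ) from funext h, classInner_irr_self θ.2]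
    exact one_ne_zero
  let L := {χ : Cfsg.IrrCharacter G // χ ∈ B ∧ ¬ p ∣ Cfsg.charDegree (χ : G → ℂ) ∧
      ∀ g : G, (χ : G → ℂ) (g ^ k) = (χ : G → ℂ) g}
  let f : A × Θ → L := fun z => ⟨⟨lift z.1.1 * E z.2, hprod z.2 z.1.1⟩, by
    refine ⟨hup _ z.2.1 z.2.2.1 (hconst _ _ (hprodN z.2 z.1.1)), ?_, fun g => ?_⟩
    · rw [hdegN ⟨_, hprod z.2 z.1.1⟩ z.2.1 (hprodN z.2 z.1.1)]; exact z.2.2.2.1
    · show lift z.1.1 (g ^ k) * E z.2 (g ^ k) = lift z.1.1 g * E z.2 g
      rw [hEk]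
      congr 1
      simp only [lift, QuotientGroup.mk_pow, map_pow, ← Units.val_pow_eq_pow_val]
      rw [(hfixν z.1.1).2 z.1.2 g]⟩
  have hf : Function.Bijective f := by
    constructor
    · rintro ⟨ν, θ⟩ ⟨ν', θ'⟩ h
      have h1 : lift ν.1 * E θ = lift ν'.1 * E θ' := congrArg (fun s : L => (s.1 : G → ℂ)) h
      have hθ : θ = θ' := Subtype.ext (Subtype.ext (funext fun n => by
        rw [← hprodN θ ν.1 n, h1, hprodN θ' ν'.1 n]))
      subst hθ
      have h2 := (gallagher N (isCharacter_of_irr (hEi θ)) (hres θ)).2.1 _ _ (hlifti ν.1) (hliftk ν.1)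
        (hlifti ν'.1) (hliftk ν'.1) h1
      refine Prod.ext (Subtype.ext (MonoidHom.ext fun a => ?_)) rfl
      obtain ⟨g, rfl⟩ := QuotientGroup.mk_surjective a
      exact Units.ext (congrFun h2 g)
    · rintro ⟨χ, hχB, hχd, hχk⟩
      obtain ⟨θ, hθ⟩ := exists_res_constituent (N := N) χ
      obtain ⟨e, he, hei⟩ := degree_ratio_dvd χ.2 θ.2 hθ
      have hdeg : Cfsg.charDegree (χ : G → ℂ) = e * Cfsg.charDegree (θ : N → ℂ) := by
        rw [← irr_charDegree_cast χ, ← irr_charDegree_cast θ] at he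
        exact_mod_cast he
      have he1 : e = 1 := by
        obtain ⟨i, -, rfl⟩ := (Nat.dvd_prime_pow hp).1 (hj ▸ hei)
        rcases i with _ | i
        · rfl
        · exact absurd (hdeg ▸ dvd_mul_of_dvd_left (dvd_pow_self p (Nat.succ_ne_zero i)) _) hχd
      have hχN : (fun n : N => (χ : G → ℂ) n) = (θ : N → ℂ) := by
        refine eq_irr_of_constituent_degree (isCharacter_restrict (isCharacter_of_irr χ.2) N) θ ?_ hθ
        show (χ : G → ℂ) ((1 : N) : G) = (θ : N → ℂ) 1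
        rw [Subgroup.coe_one, he, he1, Nat.cast_one, one_mul]
      have hθfix : ∀ n : N, (θ : N → ℂ) (n ^ k) = (θ : N → ℂ) n := fun n => by
        rw [← congrFun hχN, ← congrFun hχN, Subgroup.coe_pow, hχk]
      have hθinv : ∀ x ∈ (P : Subgroup G), ∀ n : ↥N,
          (θ : ↥N → ℂ) ⟨x * n * x⁻¹, hN.conj_mem n n.2 x⟩ = (θ : ↥N → ℂ) n := fun x _ n => by
        rw [← congrFun hχN, ← congrFun hχN]
        exact isClassFunction_irr χ.2 (n : G) x
      let T : Θ := ⟨θ, hdown χ θ hχB hθ, by rwa [hdegN χ θ (congrFun hχN)] at hχd, hθinv, hθfix⟩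
      obtain ⟨β, hβ, hβk, hβe⟩ := (gallagher N (isCharacter_of_irr (hEi T)) (hres T)).2.2 χ χ.2 (by
        rw [show (fun n : N => E T n) = (θ : N → ℂ) from funext (hEN T)]; exact hθ)
      have hE1 : E T 1 = (χ : G → ℂ) 1 := by
        have h1 := hEN T 1
        have h2 := congrFun hχN 1
        rw [Subgroup.coe_one] at h1 h2
        exact h1.trans h2.symm
      have hβ1 : β 1 = 1 := by
        have h1 := congrFun hβe 1
        rw [Pi.mul_apply, hE1] at h1
        exact (mul_eq_right₀ (irr_one_ne_zero χ)).1 h1.symm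
      obtain ⟨lam, rfl⟩ := exists_hom_of_degree_one (isCharacter_of_irr hβ) hβ1
      have hker : N ≤ lam.ker := fun n hn => Units.ext (by simpa using hβk n hn)
      set ν : G ⧸ N →* ℂˣ := QuotientGroup.lift N lam hker with hν
      have hfix : (fun g : G => ((lam (g ^ k) : ℂˣ) : ℂ)) = fun g => (lam g : ℂ) := by
        refine (gallagher N (isCharacter_of_irr (hEi T)) (hres T)).2.1 _ _ (isIrrCharacter_pow hβ hcop)
          (fun n hn => ?_) hβ hβk ?_
        · show ((lam (n ^ k) : ℂˣ) : ℂ) = ((lam (1 ^ k) : ℂˣ) : ℂ)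
          rw [one_pow, hker (N.pow_mem hn k), map_one]
        · rw [← hβe]
          funext g
          rw [← hχk g, congrFun hβe (g ^ k), Pi.mul_apply, Pi.mul_apply, hEk]
      have hνp : ν ^ p = 1 := (hfixν ν).1 fun g => by
        show (lam g) ^ k = lam g
        rw [← map_pow]
        exact Units.ext (congrFun hfix g)
      refine ⟨(⟨ν, hνp⟩, T), Subtype.ext (Subtype.ext ?_)⟩
      rw [hβe]
      rfl
  show Nat.card L = p * Nat.card Θ
  rw [← Nat.card_eq_of_bijective f hf, Nat.card_prod, hA]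

end Cfsg.Agent.S4553
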