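import Cfsg.Statements.S4558
import Cfsg.Agent.Lib.CharTheory.PowerMap

set_option autoImplicit false
open Cfsg

namespace Cfsg.Agent.S4558

/-- Let χ be a character of the finite group G and g an element of p-power order for the prime p. If χ g = 0, then p divides the degree of χ. -/
theorem result {G : Type*} [Group G] [Finite G] (p : ℕ) [Fact p.Prime] (χ : G → ℂ) (hχ : Cfsg.IsCharacter G χ) (g : G) (hg : ∃ j : ℕ, orderOf g = p ^ j) (h0 : χ g = 0) : p ∣ Cfsg.charDegree χ := by
  have := Fintype.ofFinite G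
  obtain ⟨j, hj⟩ := hg
  obtain ⟨d, hd⟩ := CfsgLib.CharTheory.char_one_eq_natCast hχ
  have e : Cfsg.charDegree χ = d := by simp [Cfsg.charDegree, hd]
  have h1 := CfsgLib.CharTheory.genChar_frob_modEq (p := p) (CfsgLib.CharTheory.isGenChar_of_char hχ) g j
    (a := 0) (b := (d : ℤ)) (by simpa using h0) (by rw [← hj, pow_orderOf_eq_one, hd]; simp)
  rw [e]
  exact Int.natCast_dvd_natCast.mp (Int.modEq_zero_iff_dvd.mp h1)

end Cfsg.Agent.S4558
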