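import Cfsg.Statements.S4560
import Cfsg.Agent.Lib.CharTheory.SmallPartitionChars

set_option autoImplicit false
open Cfsg
open CfsgLib.SmallPartitionChars

namespace Cfsg.Agent.S4560

theorem result (n : ℕ) (hn : 7 ≤ n) : (∃ χ : Cfsg.IrrCharacter (alternatingGroup (Fin n)), (∃ x : alternatingGroup (Fin n), (∃ j : ℕ, orderOf x = 2 ^ j) ∧ (χ : alternatingGroup (Fin n) → ℂ) x = 0) ∧ ∃ ψ : Cfsg.IrrCharacter (Equiv.Perm (Fin n)), ∀ x : alternatingGroup (Fin n), (ψ : Equiv.Perm (Fin n) → ℂ) x = (χ : alternatingGroup (Fin n) → ℂ) x) ∧ (∃ χ : Cfsg.IrrCharacter (alternatingGroup (Fin n)), (∃ y : alternatingGroup (Fin n), orderOf y = 3 ∧ (χ : alternatingGroup (Fin n) → ℂ) y = 0) ∧ ∃ ψ : Cfsg.IrrCharacter (Equiv.Perm (Fin n)), ∀ x : alternatingGroup (Fin n), (ψ : Equiv.Perm (Fin n) → ℂ) x = (χ : alternatingGroup (Fin n) → ℂ) x) := by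
  classical
  have h6 : 6 ≤ n := by omega
  obtain ⟨hsA, htA, hhA⟩ := isIrr_all (G := alternatingGroup (Fin n)) (hasExt_alternating h6) (by omega) (by omega)
  obtain ⟨hsS, htS, hhS⟩ := isIrr_all (G := Equiv.Perm (Fin n)) (hasExt_perm h6) (by omega) (by omega)
  have key : ∀ (m : Multiset ℕ) (L : ℕ), m.lcm = L → m.sum ≤ n → (∀ a ∈ m, 2 ≤ a) →
      Even (m.sum + Multiset.card m) →
      (n - m.sum = 1 ∨ ((n - m.sum = 0 ∨ n - m.sum = 2) ∧ 2 ∉ m)) →
      ∃ χ : Cfsg.IrrCharacter (alternatingGroup (Fin n)), (∃ x : alternatingGroup (Fin n), orderOf x = L ∧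
        (χ : alternatingGroup (Fin n) → ℂ) x = 0) ∧ ∃ ψ : Cfsg.IrrCharacter (Equiv.Perm (Fin n)),
        ∀ x : alternatingGroup (Fin n), (ψ : Equiv.Perm (Fin n) → ℂ) x = (χ : alternatingGroup (Fin n) → ℂ) x := by
    intro m L hL hsum h2 hpar hf
    obtain ⟨x, hx, hfix, hsq⟩ := exists_elem m hsum h2 hpar
    rw [hL] at hx
    rcases hf with hf | ⟨hf | hf, h2m⟩
    · refine ⟨⟨_, hsA⟩, ⟨x, hx, ?_⟩, ⟨_, hsS⟩, fun y => rfl⟩
      show ((Nat.card (MulAction.fixedBy (Fin n) x) : ℕ) : ℂ) - 1 = 0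
      rw [hfix, hf]; norm_num
    · refine ⟨⟨_, htA⟩, ⟨x, hx, ?_⟩, ⟨_, htS⟩, fun y => rfl⟩
      show ((Nat.card (MulAction.fixedBy (SPair n) x) : ℕ) : ℂ) - (Nat.card (MulAction.fixedBy (Fin n) x) : ℕ) = 0
      rw [fix_S x (hsq h2m), hfix, hf]; norm_num
    · refine ⟨⟨_, hhA⟩, ⟨x, hx, ?_⟩, ⟨_, hhS⟩, fun y => rfl⟩
      show (((Nat.card (MulAction.fixedBy (OPair n) x) : ℕ) : ℂ) - (Nat.card (MulAction.fixedBy (SPair n) x) : ℕ)) -
        (((Nat.card (MulAction.fixedBy (Fin n) x) : ℕ) : ℂ) - 1) = 0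
      rw [fix_S x (hsq h2m), fix_O x, hfix, hf]; norm_num
  have hrep : ∀ k a : ℕ, 0 < k → (Multiset.replicate k a).lcm = a := by
    intro k a hk
    exact Nat.dvd_antisymm (Multiset.lcm_dvd.mpr fun b hb => dvd_of_eq (Multiset.eq_of_mem_replicate hb))
      (Multiset.dvd_lcm (Multiset.mem_replicate.mpr ⟨hk.ne', rfl⟩))
  -- cycle type with all parts `b` or one doubled part, for `N = q * b`
  have hcyc : ∀ q b : ℕ, 2 ≤ q → 2 ≤ b → ∀ i : ℕ, b = 2 ^ i →
      ∃ m : Multiset ℕ, (∃ j, m.lcm = 2 ^ j) ∧ m.sum = q * b ∧ (∀ a ∈ m, 2 ≤ a) ∧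
        Even (m.sum + Multiset.card m) ∧ (2 ∈ m → b = 2) := by
    intro q b hq hb i hi
    rcases Nat.even_or_odd q with he | ho
    · refine ⟨Multiset.replicate q b, ⟨i, by rw [hrep q b (by omega), hi]⟩, by simp, ?_, ?_, ?_⟩
      · intro a ha; rw [Multiset.eq_of_mem_replicate ha]; exact hb
      · rw [Multiset.sum_replicate, Multiset.card_replicate, smul_eq_mul]
        exact (he.mul_right b).add he
      · intro h; exact (Multiset.eq_of_mem_replicate h).symm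
    · obtain ⟨r, rfl⟩ : ∃ r, q = r + 3 := ⟨q - 3, by obtain ⟨c, hc⟩ := ho; omega⟩
      refine ⟨(2 * b) ::ₘ Multiset.replicate (r + 1) b, ⟨i + 1, ?_⟩, by simp; ring, ?_, ?_, ?_⟩
      · rw [Multiset.lcm_cons, hrep (r + 1) b (by omega), hi]
        rw [show GCDMonoid.lcm (2 * 2 ^ i) (2 ^ i) = Nat.lcm (2 * 2 ^ i) (2 ^ i) from rfl,
          Nat.lcm_eq_left_iff_dvd.mpr (dvd_mul_left _ _), pow_succ]
        ring
      · intro a ha
        rcases Multiset.mem_cons.mp ha with rfl | ha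
        · omega
        · rw [Multiset.eq_of_mem_replicate ha]; exact hb
      · simp only [Multiset.sum_cons, Multiset.sum_replicate, Multiset.card_cons, Multiset.card_replicate, smul_eq_mul]
        obtain ⟨c, hc⟩ := ho
        have hr : r + 1 + 1 = 2 * c := by omega
        have hb2 : Even (2 * b + (r + 1) * b) := by
          have : Even b := by
            rw [hi]; rcases i with _ | i
            · simp at hi; omega
            · exact ⟨2 ^ i, by rw [pow_succ]; ring⟩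
          exact (even_two_mul b).add (this.mul_left _)
        exact hb2.add ⟨c, by omega⟩
      · intro h
        rcases Multiset.mem_cons.mp h with h | h
        · omega
        · exact (Multiset.eq_of_mem_replicate h).symm
  constructor
  · -- 2-element
    rcases Nat.even_or_odd' n with ⟨k, hk | hk⟩
    · rcases Nat.even_or_odd' k with ⟨q, hq | hq⟩
      · obtain ⟨m, ⟨j, hj⟩, hs, h2, hp, h2m⟩ := hcyc q 4 (by omega) (by omega) 2 (by norm_num)
        obtain ⟨χ, ⟨x, hx, hx0⟩, hψ⟩ := key m _ hj (by omega) h2 hp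
          (Or.inr ⟨Or.inl (by omega), fun h => by have := h2m h; omega⟩)
        exact ⟨χ, ⟨x, ⟨j, hx⟩, hx0⟩, hψ⟩
      · obtain ⟨m, ⟨j, hj⟩, hs, h2, hp, h2m⟩ := hcyc q 4 (by omega) (by omega) 2 (by norm_num)
        obtain ⟨χ, ⟨x, hx, hx0⟩, hψ⟩ := key m _ hj (by omega) h2 hp
          (Or.inr ⟨Or.inr (by omega), fun h => by have := h2m h; omega⟩)
        exact ⟨χ, ⟨x, ⟨j, hx⟩, hx0⟩, hψ⟩
    · obtain ⟨m, ⟨j, hj⟩, hs, h2, hp, -⟩ := hcyc k 2 (by omega) (by omega) 1 (by norm_num)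
      obtain ⟨χ, ⟨x, hx, hx0⟩, hψ⟩ := key m _ hj (by omega) h2 hp (Or.inl (by omega))
      exact ⟨χ, ⟨x, ⟨j, hx⟩, hx0⟩, hψ⟩
  · -- order 3
    have hk : n / 3 ≠ 0 := by omega
    refine key (Multiset.replicate (n / 3) 3) 3 (hrep _ _ (by omega)) (by simp; omega) ?_ ?_ ?_
    · intro a ha; rw [Multiset.eq_of_mem_replicate ha]; omega
    · rw [Multiset.sum_replicate, Multiset.card_replicate, smul_eq_mul]
      exact ⟨2 * (n / 3), by ring⟩
    · rw [Multiset.sum_replicate, smul_eq_mul]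
      have h2m : 2 ∉ Multiset.replicate (n / 3) 3 := fun h => by
        have := Multiset.eq_of_mem_replicate h; omega
      rcases (by omega : n % 3 = 0 ∨ n % 3 = 1 ∨ n % 3 = 2) with h | h | h
      · exact Or.inr ⟨Or.inl (by omega), h2m⟩
      · exact Or.inl (by omega)
      · exact Or.inr ⟨Or.inr (by omega), h2m⟩

end Cfsg.Agent.S4560
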