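import Cfsg.Statements.S4561
import Cfsg.Agent.Lib.CentralTypeEmbed.Main
import Cfsg.Agent.Lib.CharTheory.Degree
-- import your own Cfsg.Agent.* helpers here

set_option autoImplicit false
universe u
open Cfsg

namespace Cfsg.Agent.S4561

/-- For every finite solvable group G there is a finite group H with a faithful irreducible character χ whose degree squared equals the index of the centre Z(H) (so χ is fully ramified over the centre), such that G is isomorphic to a subgroup of H/Z(H), the primes dividing the orders of H, of Z(H) and of G are the same, and the order of Z(H) is squarefree. -/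
theorem result {G : Type u} [Group G] [Finite G] (hsolv : Group.IsSolvable G) : ∃ (H : Type u) (_ : Group H) (_ : Finite H) (χ : Cfsg.IrrCharacter H), (∀ h : H, (χ : H → ℂ) h = (χ : H → ℂ) 1 → h = 1) ∧ (Cfsg.charDegree (χ : H → ℂ)) ^ 2 = (Subgroup.center H).index ∧ (∃ f : G →* H ⧸ Subgroup.center H, Function.Injective f) ∧ (∀ p : ℕ, p.Prime → ((p ∣ Nat.card H ↔ p ∣ Nat.card G) ∧ (p ∣ Nat.card (Subgroup.center H) ↔ p ∣ Nat.card G))) ∧ Squarefree (Nat.card (Subgroup.center H)) := by
  classical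
  obtain ⟨κ, i1, i2, m, H, f, hH, hfH, hfm, hfi, hπ⟩ :=
    CfsgLib.CentralTypeEmbed.hasData (Nat.card G) G le_rfl hsolv
  haveI := hH.ne
  haveI : Finite H := Nat.finite_of_card_ne_zero (by
    rw [hH.card]; exact mul_ne_zero (pow_ne_zero _ Fintype.card_ne_zero) hH.sq.ne_zero)
  haveI := Fintype.ofFinite H
  haveI : Fintype (ULift.{u} H) := Fintype.ofFinite _
  let ρ : Representation ℂ (ULift.{u} H) (κ → ℂ) :=
    { toFun := fun g => Matrix.toLin' ((g.down : GL κ ℂ) : Matrix κ κ ℂ)
      map_one' := by simp [Module.End.one_eq_id]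
      map_mul' := fun a b => by simp [Matrix.toLin'_mul, Module.End.mul_eq_comp] }
  have htr : ∀ g, ρ.character g = ((g.down : GL κ ℂ) : Matrix κ κ ℂ).trace := fun g =>
    Matrix.trace_toLin'_eq _
  let S : Subgroup (ULift.{u} H) :=
    (CfsgLib.CentralTypeEmbed.scalars H).comap (MulEquiv.ulift : ULift.{u} H ≃* H).toMonoidHom
  have hSmem : ∀ g : ULift.{u} H, g ∈ S ↔ ∃ c : ℂ, ((g.down : GL κ ℂ) : Matrix κ κ ℂ) = c • 1 :=
    fun g => Iff.rfl
  have hScard : Nat.card S = m := by
    rw [← CfsgLib.CentralTypeEmbed.card_scalars hH]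
    exact Nat.card_congr
      { toFun := fun g => ⟨(g : ULift.{u} H).down, g.2⟩
        invFun := fun g => ⟨ULift.up (g : H), g.2⟩
        left_inv := fun g => rfl
        right_inv := fun g => rfl }
  have hHcard : Nat.card (ULift.{u} H) = Fintype.card κ ^ 2 * m := by
    rw [Nat.card_congr (MulEquiv.ulift : ULift.{u} H ≃* H).toEquiv, hH.card]
  have hm0 : 0 < m := Nat.pos_of_ne_zero hH.sq.ne_zero
  have hd : (Fintype.card κ : ℂ) ≠ 0 := Nat.cast_ne_zero.2 Fintype.card_ne_zero
  have hnorm : classInner ρ.character ρ.character = 1 := by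
    rw [classInner, ← Finset.sum_subset (Finset.subset_univ (Finset.univ.filter fun g => g ∈ S))
      (fun g _ hg => by
        rw [htr, hH.vanish _ g.down.2 (fun hs => hg (Finset.mem_filter.2 ⟨Finset.mem_univ _, (hSmem g).2 hs⟩)),
          zero_mul]),
      Finset.sum_congr rfl (g := fun _ => (Fintype.card κ : ℂ) ^ 2) (fun g hg => ?_)]
    · rw [Finset.sum_const, ← Fintype.card_subtype, ← Nat.card_eq_fintype_card,
        show Nat.card {g // g ∈ S} = m from hScard, hHcard, nsmul_eq_mul]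
      push_cast
      field_simp [hd, (Nat.cast_ne_zero.2 hm0.ne' : (m : ℂ) ≠ 0)]
    · obtain ⟨c, hc⟩ := (hSmem g).1 (Finset.mem_filter.1 hg).2
      have hc1 : ‖c‖ = 1 := Complex.norm_eq_one_of_pow_eq_one
        ((hH.scal c).1 ⟨_, g.down.2, hc⟩) hm0.ne'
      rw [htr, hc, Matrix.trace_smul, Matrix.trace_one, smul_eq_mul, Complex.mul_conj', norm_mul, hc1,
        one_mul, Complex.norm_natCast]
      norm_num
  have hirr : IsIrrCharacter (ULift.{u} H) ρ.character :=
    CfsgLib.CharTheory.irr_of_char_norm_one (CfsgLib.CharTheory.isCharacter_character ρ) hnorm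
  have hχ1 : ρ.character 1 = (Fintype.card κ : ℂ) := by
    rw [ρ.char_one, Module.finrank_fintype_fun_eq_card]
  have hfaith : ∀ h, ρ.character h = ρ.character 1 → h = 1 := by
    intro h e
    rw [hχ1] at e
    by_cases hs : ∃ c : ℂ, ((h.down : GL κ ℂ) : Matrix κ κ ℂ) = c • 1
    · obtain ⟨c, hc⟩ := hs
      rw [htr, hc, Matrix.trace_smul, Matrix.trace_one, smul_eq_mul] at e
      have : c = 1 := mul_right_cancel₀ hd (e.trans (one_mul _).symm)
      refine ULift.ext _ _ (Subtype.ext (Units.ext ?_))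
      rw [hc, this, one_smul]
      rfl
    · rw [htr, hH.vanish _ h.down.2 hs] at e
      exact absurd e.symm hd
  have hZ : Subgroup.center (ULift.{u} H) = S := by
    refine le_antisymm (fun z hz => ?_) (fun z hz => ?_)
    · by_contra hzS
      have h0 : ρ.character z = 0 := by rw [htr]; exact hH.vanish _ z.down.2 hzS
      obtain ⟨n, σ, hσ, hσχ⟩ := hirr
      haveI := hσ
      obtain ⟨c, hc⟩ := CfsgLib.CharTheory.exists_scalar_of_mem_center σ hz
      rw [← hσχ, Representation.character, hc, map_smul, LinearMap.trace_id, smul_eq_mul] at h0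
      have hn : (Module.finrank ℂ (Fin n → ℂ) : ℂ) = (Fintype.card κ : ℂ) := by
        rw [← σ.char_one, hσχ, hχ1]
      rw [hn] at h0
      have hc0 : c = 0 := (mul_eq_zero.1 h0).resolve_right hd
      have h1 : σ z * σ z⁻¹ = 1 := by rw [← map_mul, mul_inv_cancel, map_one]
      rw [hc, hc0, zero_smul, zero_mul] at h1
      have h2 := LinearMap.trace_one ℂ (Fin n → ℂ)
      rw [← h1, map_zero] at h2
      exact hd (hn.symm.trans h2.symm)
    · obtain ⟨c, hc⟩ := (hSmem z).1 hz
      refine Subgroup.mem_center_iff.2 fun g => ULift.ext _ _ (Subtype.ext (Units.ext ?_))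
      show ((g.down : GL κ ℂ) : Matrix κ κ ℂ) * _ = _ * ((g.down : GL κ ℂ) : Matrix κ κ ℂ)
      rw [hc, mul_smul_comm, mul_one, smul_one_mul]
  refine ⟨ULift.{u} H, inferInstance, inferInstance, ⟨ρ.character, hirr⟩, hfaith, ?_, ?_, ?_, ?_⟩
  · show charDegree ρ.character ^ 2 = _
    rw [charDegree, hχ1, Complex.natCast_re, Nat.floor_natCast, hZ]
    have h1 := S.card_mul_index
    rw [hScard, hHcard, mul_comm _ m] at h1
    exact (Nat.eq_of_mul_eq_mul_left hm0 h1).symm
  · let F : G → ULift.{u} H ⧸ Subgroup.center (ULift.{u} H) := fun g =>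
      QuotientGroup.mk (ULift.up ⟨f g, hfH g⟩)
    refine ⟨MonoidHom.mk' F (fun a b => ?_), fun a b hab => ?_⟩
    · show QuotientGroup.mk _ = QuotientGroup.mk _ * QuotientGroup.mk _
      rw [← QuotientGroup.mk_mul, QuotientGroup.eq, hZ, hSmem]
      obtain ⟨c, hc⟩ := hfm a b
      have hc0 : c ≠ 0 := fun e0 => by
        rw [e0, zero_smul] at hc
        exact Units.ne_zero (f (a * b)) hc
      refine ⟨c⁻¹, ?_⟩
      show (((f (a * b))⁻¹ * (f a * f b) : GL κ ℂ) : Matrix κ κ ℂ) = _
      have h2 : ((f a * f b : GL κ ℂ) : Matrix κ κ ℂ) = c⁻¹ • (f (a * b) : Matrix κ κ ℂ) := by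
        rw [hc, smul_smul, inv_mul_cancel₀ hc0, one_smul, Units.val_mul]
      rw [Units.val_mul, h2, mul_smul_comm, Units.inv_mul]
    · change F a = F b at hab
      rw [QuotientGroup.eq, hZ, hSmem] at hab
      obtain ⟨c, hc⟩ := hab
      change (((f a)⁻¹ * f b : GL κ ℂ) : Matrix κ κ ℂ) = _ at hc
      have hfb : (f b : Matrix κ κ ℂ) = c • (f a : Matrix κ κ ℂ) := by
        calc (f b : Matrix κ κ ℂ) = (f a : Matrix κ κ ℂ) * (((f a)⁻¹ * f b : GL κ ℂ) : Matrix κ κ ℂ) := by
              rw [← Units.val_mul, mul_inv_cancel_left]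
          _ = _ := by rw [hc, mul_smul_comm, mul_one]
      have hc0 : c ≠ 0 := fun e0 => by
        rw [e0, zero_smul] at hfb
        exact Units.ne_zero (f b) hfb
      obtain ⟨d, hd'⟩ := hfm a⁻¹ b
      obtain ⟨d₀, hd₀⟩ := hfm a⁻¹ a
      have hd₀0 : d₀ ≠ 0 := fun e0 => by
        rw [e0, zero_smul] at hd₀
        exact Units.ne_zero (f _) hd₀
      refine inv_mul_eq_one.1 (hfi _ ?_)
      have h1s : ∃ c₁ : ℂ, (f 1 : Matrix κ κ ℂ) = c₁ • 1 := by
        obtain ⟨e, he⟩ := hfm 1 1
        rw [one_mul] at he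
        have he0 : e ≠ 0 := fun e0 => by
          rw [e0, zero_smul] at he
          exact Units.ne_zero (f 1) he
        refine ⟨e⁻¹, ?_⟩
        have h3 := congrArg (fun A => A * (((f 1)⁻¹ : GL κ ℂ) : Matrix κ κ ℂ)) he
        simp only [smul_mul_assoc, mul_assoc, Units.mul_inv, mul_one] at h3
        rw [h3, smul_smul, inv_mul_cancel₀ he0, one_smul]
      obtain ⟨c₁, hc₁⟩ := h1s
      rw [inv_mul_cancel, hc₁] at hd₀
      refine ⟨d * c * d₀⁻¹ * c₁, ?_⟩
      have h4 : (f a⁻¹ : Matrix κ κ ℂ) * (f a : Matrix κ κ ℂ) = (d₀⁻¹ * c₁) • 1 := by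
        rw [← smul_smul, hd₀, smul_smul, inv_mul_cancel₀ hd₀0, one_smul]
      rw [hd', hfb, mul_smul_comm, h4, smul_smul, smul_smul]
      congr 1
      ring
  · intro q hq
    have h2 : Nat.card (Subgroup.center (ULift.{u} H)) = m := by rw [hZ, hScard]
    refine ⟨?_, by rw [h2]; exact hπ q hq⟩
    rw [hHcard, hq.dvd_mul, ← hπ q hq]
    exact ⟨fun h => h.elim (fun h => hH.prime_deg q hq (hq.dvd_of_dvd_pow h)) id, Or.inr⟩
  · rw [hZ, hScard]
    exact hH.sq

end Cfsg.Agent.S4561
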