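import Cfsg.Statements.S4563
import Cfsg.Agent.Lib.FullyRamified.Quotient
import Cfsg.Agent.Lib.Solvable.HallConverse

set_option autoImplicit false
open Cfsg CfsgLib.FullyRamified CfsgLib.CharTheory
open scoped ComplexConjugate

set_option linter.unusedVariables false

namespace Cfsg.Agent.S4563

/-- Let χ be an irreducible character of the finite group H that is fully ramified over the normal subgroup Z: the restriction of χ to Z is e times an irreducible character of Z with e ^ 2 equal to the index of Z. If K is a proper normal subgroup of H containing Z and χ is induced from a character of K, then H/K is solvable; in particular, if K is solvable then so is H. -/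
theorem result {H : Type*} [Group H] [Fintype H] (Z : Subgroup H) [Z.Normal] (χ : Cfsg.IrrCharacter H) (hfr : ∃ (θ : Cfsg.IrrCharacter ↥Z) (e : ℕ), e ^ 2 = Z.index ∧ ∀ z : ↥Z, (χ : H → ℂ) z = (e : ℂ) * (θ : ↥Z → ℂ) z) (K : Subgroup H) [K.Normal] [Fintype K] (hZK : Z ≤ K) (hK : K ≠ ⊤) (φ : ↥K → ℂ) (hφ : Cfsg.IsCharacter ↥K φ) (hind : Cfsg.indFun K φ = (χ : H → ℂ)) : Group.IsSolvable (H ⧸ K) ∧ (Group.IsSolvable ↥K → Group.IsSolvable H) := by
  haveI := Fintype.ofFinite Z
  obtain ⟨θ, e, he, hres⟩ := hfr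
  have R : Ramified Z (θ : Z → ℂ) (χ : H → ℂ) e := ⟨θ.2, χ.2, he, hres⟩
  have hsol : Group.IsSolvable (H ⧸ K) := by
    refine CfsgLib.HallConverse.isSolvable_of_pComplements _ rfl fun p hp => ?_
    haveI : Fact p.Prime := ⟨hp⟩
    obtain ⟨Q, k, hZQ, hk, hQ, hsup⟩ := exists_sylow_above Z K hZK p
    haveI := Fintype.ofFinite Q
    exact R.exists_complement K hZK hZQ hk hQ hsup
      fun η b e' hη h1 h2 h3 h4 _ ξ hξ hc hn =>
        R.mult_one_of_induced K hZK hφ hind hZQ hQ hk η b e' hη h1 h2 h3 h4 ξ hξ hc hn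
  refine ⟨hsol, fun hKs => ?_⟩
  exact solvable_of_ker_le_range K.subtype (QuotientGroup.mk' K) (by simp)

end Cfsg.Agent.S4563
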