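import Cfsg.Statements.S4564
import Cfsg.Agent.Lib.FullyRamified.Quotient
import Cfsg.Agent.Lib.Solvable.HallConverse

set_option autoImplicit false
open Cfsg CfsgLib.FullyRamified CfsgLib.CharTheory
open scoped ComplexConjugate

set_option linter.unusedVariables false

namespace Cfsg.Agent.S4564

/-- Let χ be an irreducible character of the finite group H that is fully ramified over the normal subgroup Z: the restriction of χ to Z is e times an irreducible character of Z with e ^ 2 equal to the index of Z. Let K be a normal subgroup of H containing Z and P a cyclic Sylow p-subgroup of H/K. Then P has a complement in H/K: a subgroup meeting P trivially whose product with P is the whole group. -/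
theorem result {H : Type*} [Group H] [Finite H] (Z : Subgroup H) [Z.Normal] (χ : Cfsg.IrrCharacter H) (hfr : ∃ (θ : Cfsg.IrrCharacter ↥Z) (e : ℕ), e ^ 2 = Z.index ∧ ∀ z : ↥Z, (χ : H → ℂ) z = (e : ℂ) * (θ : ↥Z → ℂ) z) (K : Subgroup H) [K.Normal] (hZK : Z ≤ K) (p : ℕ) [Fact p.Prime] (P : Sylow p (H ⧸ K)) (hcyc : IsCyclic P) : ∃ M : Subgroup (H ⧸ K), M.IsComplement' (P : Subgroup (H ⧸ K)) := by
  haveI := Fintype.ofFinite H
  haveI := Fintype.ofFinite Z
  obtain ⟨θ, e, he, hres⟩ := hfr
  have R : Ramified Z (θ : Z → ℂ) (χ : H → ℂ) e := ⟨θ.2, χ.2, he, hres⟩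
  obtain ⟨Q, k, hZQ, hk, hQ, hsup⟩ := exists_sylow_above Z K hZK p
  haveI := Fintype.ofFinite Q
  haveI := cyclic_section K hZK hZQ hk P hcyc
  obtain ⟨M, hM⟩ := R.exists_complement K hZK hZQ hk hQ hsup
    fun η b e' hη _ _ _ _ _ ξ hξ hc _ => mult_one_of_cyclic (K.subgroupOf Q) inferInstance hη hξ hc
  have hPc : Nat.card P = M.index := by rw [hM]; exact P.card_eq_multiplicity
  refine ⟨M, Subgroup.isComplement'_of_coprime ?_ ?_⟩
  · rw [hPc, Subgroup.card_mul_index]
  · have hPidx : Nat.card M = (P : Subgroup (H ⧸ K)).index := by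
      have h := (P : Subgroup (H ⧸ K)).card_mul_index
      rw [← Subgroup.card_mul_index M, hPc, mul_comm (Nat.card M)] at h
      exact (Nat.eq_of_mul_eq_mul_left (Nat.pos_of_ne_zero Subgroup.index_ne_zero_of_finite) h).symm
    obtain ⟨n, hn⟩ := IsPGroup.iff_card.1 P.2
    rw [hPidx, hn]
    exact ((Nat.Prime.coprime_iff_not_dvd Fact.out).2 P.not_dvd_index).symm.pow_right n

end Cfsg.Agent.S4564
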