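import Cfsg.Statements.S4566
import Cfsg.Agent.Lib.CharTheory.Degree
import Cfsg.Agent.Lib.CharTheory.Clifford
import Mathlib.Tactic.Group

set_option autoImplicit false
open Cfsg

namespace Cfsg.Agent.S4566

/-- Let N be a central subgroup of the finite group G, ψ a faithful irreducible (hence degree-one) character of N, and χ an irreducible character of G whose restriction to N contains ψ. If g ∈ G and some x ∈ G has commutator x⁻¹ g⁻¹ x g in N but different from 1, then χ g = 0. -/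
theorem result {G : Type*} [Group G] [Fintype G] (N : Subgroup G) [Fintype N] (hN : N ≤ Subgroup.center G) (ψ : Cfsg.IrrCharacter ↥N) (hfaith : ∀ n : ↥N, (ψ : ↥N → ℂ) n = (ψ : ↥N → ℂ) 1 → n = 1) (χ : Cfsg.IrrCharacter G) (hover : Cfsg.classInner (fun n : ↥N => (χ : G → ℂ) n) (ψ : ↥N → ℂ) ≠ 0) (g x : G) (hcomm : x⁻¹ * g⁻¹ * x * g ∈ N) (hne : x⁻¹ * g⁻¹ * x * g ≠ 1) : (χ : G → ℂ) g = 0 := by
  classical
  obtain ⟨c, hc, hcdef⟩ : ∃ c ∈ N, c = x⁻¹ * g⁻¹ * x * g := ⟨_, hcomm, rfl⟩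
  haveI : N.Normal := ⟨fun n hn y => by
    rw [Subgroup.mem_center_iff.mp (hN hn) y, mul_inv_cancel_right]; exact hn⟩
  obtain ⟨m, ρ, hρ, hρc⟩ := χ.2
  obtain ⟨ω, hω⟩ := CfsgLib.CharTheory.exists_scalar_of_mem_center ρ (hN hc)
  have hmul : ∀ y, (χ : G → ℂ) (c * y) = ω * (χ : G → ℂ) y := fun y => by
    rw [← hρc]
    simp [Representation.character, map_mul, hω, ← Module.End.one_eq_id]
  have hres := CfsgLib.CharTheory.clifford_invariant N χ.2 ψ.2 hover fun y => by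
    funext n
    show (ψ : N → ℂ) _ = (ψ : N → ℂ) n
    refine congrArg _ (Subtype.ext ?_)
    show y * (n : G) * y⁻¹ = n
    rw [Subgroup.mem_center_iff.mp (hN n.2), mul_inv_cancel_right]
  have hω1 : ω ≠ 1 := by
    intro h1
    have hcn := hmul 1
    rw [mul_one, h1, one_mul] at hcn
    have e1 := congrFun hres ⟨c, hc⟩
    have e2 := congrFun hres 1
    simp only [Pi.smul_apply, smul_eq_mul] at e1 e2
    rw [hcn] at e1
    rw [OneMemClass.coe_one, e1] at e2
    have hψ := hfaith ⟨c, hc⟩ (mul_left_cancel₀ (fun hz => CfsgLib.CharTheory.irr_ne_zero χ.2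
      (by rw [e1, hz, zero_mul])) e2)
    exact hne (hcdef ▸ congrArg Subtype.val hψ)
  have hg : (χ : G → ℂ) g⁻¹ = ω * (χ : G → ℂ) g⁻¹ := by
    have h1 := CfsgLib.CharTheory.isClassFunction_irr χ.2 g⁻¹ x⁻¹
    rw [show x⁻¹ * g⁻¹ * x⁻¹⁻¹ = c * g⁻¹ by rw [hcdef]; group, hmul] at h1
    exact h1.symm
  have h0 : (χ : G → ℂ) g⁻¹ = 0 := by
    have : (1 - ω) * (χ : G → ℂ) g⁻¹ = 0 := by linear_combination hg
    exact (mul_eq_zero.mp this).resolve_left (sub_ne_zero.mpr (Ne.symm hω1))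
  rw [CfsgLib.CharTheory.char_apply_inv (CfsgLib.CharTheory.isCharacter_of_irr χ.2), map_eq_zero] at h0
  exact h0

end Cfsg.Agent.S4566
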