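import Cfsg.Statements.S4567
import Cfsg.Agent.Lib.CharTheory.More
import Cfsg.Agent.Lib.CharTheory.Degree
import Cfsg.Agent.Lib.CharTheory.Fixed
import Mathlib.Tactic.Group

set_option autoImplicit false
open Cfsg

namespace Cfsg.Agent.S4567

set_option maxHeartbeats 800000

/-- A linear character that is faithful on a nontrivial subgroup sums to zero over it. -/
theorem sum_faithful_subgroup {N : Type*} [Group N] [Fintype N] (f : N →* ℂ)
    (hf : ∀ n, f n = 1 → n = 1) (S : Subgroup N) [DecidablePred (· ∈ S)] (hS : S ≠ ⊥) :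
    ∑ n ∈ Finset.univ.filter (· ∈ S), (starRingEnd ℂ) (f n) = 0 := by
  obtain ⟨m, hm, hm1⟩ := (Subgroup.bot_or_exists_ne_one S).resolve_left hS
  have key : f m * ∑ n ∈ Finset.univ.filter (· ∈ S), f n = ∑ n ∈ Finset.univ.filter (· ∈ S), f n := by
    rw [Finset.mul_sum]
    refine Finset.sum_equiv (Equiv.mulLeft m) (fun n => ?_) (fun n _ => by simp [map_mul])
    simp [mul_mem_cancel_left hm]
  have h0 : (f m - 1) * ∑ n ∈ Finset.univ.filter (· ∈ S), f n = 0 := by rw [sub_mul, key, one_mul, sub_self]
  rw [← map_sum, (mul_eq_zero.mp h0).resolve_left (sub_ne_zero.mpr fun h => hm1 (hf m h)), map_zero]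

/-- Let N be a central subgroup of the finite group G and ψ a faithful irreducible (hence degree-one) character of N. Call a coset g N special when every x ∈ G whose commutator x⁻¹ g⁻¹ x g lies in N actually commutes with g (this depends only on the coset). Then the number of irreducible characters of G whose restriction to N contains ψ equals the number of conjugacy classes of G/N consisting of special cosets. -/
theorem result {G : Type*} [Group G] [Fintype G] (N : Subgroup G) [N.Normal] [Fintype N] (hN : N ≤ Subgroup.center G) (ψ : Cfsg.IrrCharacter ↥N) (hfaith : ∀ n : ↥N, (ψ : ↥N → ℂ) n = (ψ : ↥N → ℂ) 1 → n = 1) : Nat.card {χ : Cfsg.IrrCharacter G // Cfsg.classInner (fun n : ↥N => (χ : G → ℂ) n) (ψ : ↥N → ℂ) ≠ 0} = Nat.card {C : ConjClasses (G ⧸ N) // ∃ g : G, ConjClasses.mk (g : G ⧸ N) = C ∧ ∀ x : G, x⁻¹ * g⁻¹ * x * g ∈ N → x * g = g * x} := by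
  classical
  have hc : ∀ n : N, ∀ g : G, g * (n : G) = n * g := fun n => Subgroup.mem_center_iff.mp (hN n.2)
  have hNab : ∀ a b : N, a * b = b * a := fun a b => Subtype.ext (hc b a)
  have hψ1 : (ψ : N → ℂ) 1 = 1 := CfsgLib.CharTheory.degree_one_of_commutative hNab ψ.2
  obtain ⟨f₀, hf₀⟩ := CfsgLib.CharTheory.exists_hom_of_degree_one
    (CfsgLib.CharTheory.isCharacter_of_irr ψ.2) hψ1
  let f : N →* ℂ := (Units.coeHom ℂ).comp f₀
  have hf : ∀ n, (ψ : N → ℂ) n = f n := fun n => by rw [hf₀]; rfl
  have hffaith : ∀ n, f n = 1 → n = 1 := fun n h => hfaith n (by rw [hψ1, hf, h])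
  set T := Finset.univ.filter (fun χ : Cfsg.IrrCharacter G =>
    Cfsg.classInner (fun n : N => (χ : G → ℂ) n) (ψ : N → ℂ) ≠ 0) with hT
  -- every character has scalar restriction
  have hscal : ∀ χ : Cfsg.IrrCharacter G, ∃ w : N → ℂ, (∀ (n : N) g, (χ : G → ℂ) ((n : G) * g) = w n * (χ : G → ℂ) g) ∧
      ∀ a b, w (a * b) = w a * w b := by
    intro χ
    obtain ⟨m, ρ, hρ, hρc⟩ := χ.2
    haveI : Nontrivial (Fin m → ℂ) := by
      by_contra hs
      rw [not_nontrivial_iff_subsingleton] at hs
      refine CfsgLib.CharTheory.irr_ne_zero χ.2 ?_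
      rw [← hρc, ρ.char_one, Module.finrank_zero_of_subsingleton, Nat.cast_zero]
    choose w hw using fun n : N => CfsgLib.CharTheory.exists_scalar_of_mem_center ρ (hN n.2)
    refine ⟨w, fun n g => ?_, fun a b => ?_⟩
    · rw [← hρc]
      simp [Representation.character, map_mul, hw, ← Module.End.one_eq_id]
    · have h1 : ρ ((a * b : N) : G) = ρ (a : G) * ρ (b : G) := by rw [Subgroup.coe_mul, map_mul]
      rw [hw, hw, hw, ← Module.End.one_eq_id, smul_mul_smul_comm, one_mul] at h1
      exact smul_left_injective ℂ (one_ne_zero (α := Module.End ℂ (Fin m → ℂ))) h1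
  choose w hw hwmul using hscal
  have hmem : ∀ χ, χ ∈ T ↔ w χ = fun n => f n := by
    intro χ
    have hres : ∀ n : N, (χ : G → ℂ) n = w χ n * (χ : G → ℂ) 1 := fun n => by
      have := hw χ n 1; rwa [mul_one] at this
    simp only [T, Finset.mem_filter, Finset.mem_univ, true_and]
    have e : Cfsg.classInner (fun n : N => (χ : G → ℂ) n) (ψ : N → ℂ) =
        (χ : G → ℂ) 1 * ((Nat.card N : ℂ)⁻¹ * ∑ n : N, w χ n * (starRingEnd ℂ) (f n)) := by
      simp only [Cfsg.classInner, hres, hf, Finset.mul_sum]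
      exact Finset.sum_congr rfl fun n _ => by ring
    constructor
    · intro hne
      funext m
      by_contra hm
      have key : w χ m * (starRingEnd ℂ) (f m) * ∑ n : N, w χ n * (starRingEnd ℂ) (f n) =
          ∑ n : N, w χ n * (starRingEnd ℂ) (f n) := by
        rw [Finset.mul_sum]
        exact Fintype.sum_equiv (Equiv.mulLeft m) _ _ fun n => by
          show _ = w χ (m * n) * (starRingEnd ℂ) (f (m * n))
          rw [hwmul, map_mul, map_mul]; ring
      have hfm : f m * (starRingEnd ℂ) (f m) = 1 := by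
        have h1 : f m ^ orderOf m = 1 := by rw [← map_pow, pow_orderOf_eq_one, map_one]
        rw [Complex.mul_conj, Complex.normSq_eq_norm_sq,
          Complex.norm_eq_one_of_pow_eq_one h1 (orderOf_pos m).ne']
        simp
      refine hne (e.trans ?_)
      have h0 : (w χ m * (starRingEnd ℂ) (f m) - 1) * ∑ n : N, w χ n * (starRingEnd ℂ) (f n) = 0 := by
        rw [sub_mul, key, one_mul, sub_self]
      rw [(mul_eq_zero.mp h0).resolve_left fun h1 => hm ?_, mul_zero, mul_zero]
      calc w χ m = w χ m * (f m * (starRingEnd ℂ) (f m)) := by rw [hfm, mul_one]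
        _ = f m * (w χ m * (starRingEnd ℂ) (f m)) := by ring
        _ = f m := by rw [sub_eq_zero.mp h1, mul_one]
    · intro hwf
      rw [e]
      have h1 := CfsgLib.CharTheory.classInner_irr_self ψ.2
      simp only [Cfsg.classInner, hf] at h1
      simp only [hwf, h1, mul_one]
      exact CfsgLib.CharTheory.irr_ne_zero χ.2
  -- special elements
  let Sp : G → Prop := fun g => ∀ x : G, x⁻¹ * g⁻¹ * x * g ∈ N → x * g = g * x
  have hSpiff : ∀ g, Sp g ↔ ∀ n : N, IsConj ((n : G) * g) g → n = 1 := by
    intro g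
    constructor
    · intro hg n hn
      obtain ⟨k, hk⟩ := isConj_iff.mp hn.symm
      have hcm : k⁻¹⁻¹ * g⁻¹ * k⁻¹ * g = ((n⁻¹ : N) : G) := by
        have : k * g⁻¹ * k⁻¹ = ((n : G) * g)⁻¹ := by rw [← hk]; group
        rw [inv_inv, this, mul_inv_rev, ← Subgroup.coe_inv, hc n⁻¹ g⁻¹, mul_assoc, inv_mul_cancel, mul_one]
      have h2 := hg k⁻¹ (by rw [hcm]; exact (n⁻¹ : N).2)
      refine inv_eq_one.mp (Subtype.ext ?_)
      rw [OneMemClass.coe_one, ← hcm, mul_assoc, h2]
      group
    · intro hg x hx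
      set cN : N := ⟨_, hx⟩ with hcN
      have e : ((cN⁻¹ : N) : G) * g = x⁻¹ * g * x := by
        rw [← hc cN⁻¹ g, Subgroup.coe_inv]
        show g * (x⁻¹ * g⁻¹ * x * g)⁻¹ = _
        group
      have h2 : IsConj (((cN⁻¹ : N) : G) * g) g := isConj_iff.mpr ⟨x, by rw [e]; group⟩
      have h3 := congrArg Subtype.val (inv_eq_one.mp (hg _ h2))
      simp only [OneMemClass.coe_one, cN] at h3
      calc x * g = g * x * (x⁻¹ * g⁻¹ * x * g) := by group
        _ = g * x := by rw [h3, mul_one]
  let CC : G → ℕ := fun g => Nat.card (Subgroup.centralizer ({g} : Set G))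
  have hsum : ∀ g : G, ∑ χ ∈ T, (χ : G → ℂ) g * (starRingEnd ℂ) ((χ : G → ℂ) g) =
      if Sp g then (CC g : ℂ) / Nat.card N else 0 := by
    intro g
    have h1 : ∀ χ : Cfsg.IrrCharacter G, (Nat.card N : ℂ)⁻¹ * ∑ n : N, (starRingEnd ℂ) (f n) *
        ((χ : G → ℂ) ((n : G) * g) * (starRingEnd ℂ) ((χ : G → ℂ) g)) =
        if χ ∈ T then (χ : G → ℂ) g * (starRingEnd ℂ) ((χ : G → ℂ) g) else 0 := by
      intro χ
      rw [show ∑ n : N, (starRingEnd ℂ) (f n) * ((χ : G → ℂ) ((n : G) * g) * (starRingEnd ℂ) ((χ : G → ℂ) g))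
        = (∑ n : N, w χ n * (starRingEnd ℂ) (f n)) *
          ((χ : G → ℂ) g * (starRingEnd ℂ) ((χ : G → ℂ) g)) by
          rw [Finset.sum_mul]
          exact Finset.sum_congr rfl fun n _ => by rw [hw]; ring]
      split_ifs with hχ
      · have h2 := CfsgLib.CharTheory.classInner_irr_self ψ.2
        simp only [Cfsg.classInner, hf] at h2
        simp only [(hmem χ).mp hχ]
        rw [← mul_assoc, h2, one_mul]
      · have h2 : Cfsg.classInner (fun n : N => (χ : G → ℂ) n) (ψ : N → ℂ) = 0 := by
          simpa [T] using hχ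
        have h3 : Cfsg.classInner (fun n : N => (χ : G → ℂ) n) (ψ : N → ℂ) = (χ : G → ℂ) 1 *
            ((Nat.card N : ℂ)⁻¹ * ∑ n : N, w χ n * (starRingEnd ℂ) (f n)) := by
          simp only [Cfsg.classInner, hf, Finset.mul_sum]
          refine Finset.sum_congr rfl fun n _ => ?_
          have := hw χ n 1; rw [mul_one] at this; rw [this]; ring
        rw [h2, eq_comm, mul_eq_zero] at h3
        rw [← mul_assoc, h3.resolve_left (CfsgLib.CharTheory.irr_ne_zero χ.2), zero_mul]
    have hTsum : ∑ χ ∈ T, (χ : G → ℂ) g * (starRingEnd ℂ) ((χ : G → ℂ) g) =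
        ∑ χ : Cfsg.IrrCharacter G, (Nat.card N : ℂ)⁻¹ * ∑ n : N, (starRingEnd ℂ) (f n) *
          ((χ : G → ℂ) ((n : G) * g) * (starRingEnd ℂ) ((χ : G → ℂ) g)) := by
      simp only [h1]
      rw [← Finset.sum_filter]
      exact Finset.sum_congr (by simp) fun _ _ => rfl
    rw [hTsum, ← Finset.mul_sum, Finset.sum_comm]
    simp only [← Finset.mul_sum, CfsgLib.CharTheory.sum_irr_mul_conj, mul_ite, mul_zero]
    rw [← Finset.sum_filter]
    let Sg : Subgroup N :=
      { carrier := {n | IsConj ((n : G) * g) g}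
        one_mem' := show IsConj (((1 : N) : G) * g) g by rw [OneMemClass.coe_one, one_mul]
        mul_mem' := fun {a b} ha hb => by
          obtain ⟨k, hk⟩ := isConj_iff.mp (ha : IsConj ((a : G) * g) g)
          have h2 : IsConj (((a * b : N) : G) * g) ((b : G) * g) := isConj_iff.mpr ⟨k, by
            rw [Subgroup.coe_mul, show (a : G) * b * g = (b : G) * ((a : G) * g) by
              rw [← mul_assoc, hc a b]]
            rw [show k * ((b : G) * ((a : G) * g)) * k⁻¹ = (b : G) * (k * ((a : G) * g) * k⁻¹) by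
              rw [← mul_assoc k, hc b k]; group, hk]⟩
          exact h2.trans hb
        inv_mem' := fun {a} ha => by
          obtain ⟨k, hk⟩ := isConj_iff.mp (ha : IsConj ((a : G) * g) g).symm
          refine isConj_iff.mpr ⟨k, ?_⟩
          rw [Subgroup.coe_inv, show k * ((a : G)⁻¹ * g) * k⁻¹ = (a : G)⁻¹ * (k * g * k⁻¹) by
            rw [← mul_assoc k, ← Subgroup.coe_inv, hc a⁻¹ k]; group, hk, inv_mul_cancel_left] }
    have hcc : ∀ n : N, CC ((n : G) * g) = CC g := fun n => by
      simp only [CC]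
      congr 2
      ext z
      simp only [Subgroup.mem_centralizer_singleton_iff]
      rw [← mul_assoc, hc n z, mul_assoc, mul_assoc, mul_left_cancel_iff]
    have hflt : Finset.univ.filter (fun n : N => IsConj ((n : G) * g) g) =
        Finset.univ.filter (fun n : N => n ∈ Sg) := Finset.ext fun n => by
      simp only [Finset.mem_filter, Finset.mem_univ, true_and]; exact Iff.rfl
    rw [Finset.sum_congr hflt fun n _ => by
      rw [show Nat.card (Subgroup.centralizer ({(n : G) * g} : Set G)) = CC g from hcc n],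
      ← Finset.sum_mul]
    split_ifs with hsp
    · have hb : Finset.univ.filter (fun n : N => n ∈ Sg) = {1} := by
        ext n
        simp only [Finset.mem_filter, Finset.mem_univ, true_and, Finset.mem_singleton]
        exact ⟨(hSpiff g).mp hsp n, fun h => h ▸ Sg.one_mem⟩
      rw [hb, Finset.sum_singleton, map_one, map_one]
      ring
    · rw [sum_faithful_subgroup f hffaith Sg fun hbot => hsp ((hSpiff g).mpr fun n hn => by
        have : n ∈ Sg := hn
        rw [hbot, Subgroup.mem_bot] at this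
        exact this), zero_mul, mul_zero]
  have hcount : (T.card : ℂ) * Nat.card G = ∑ g : G, if Sp g then (CC g : ℂ) / Nat.card N else 0 := by
    rw [← Finset.sum_congr rfl fun g _ => hsum g, Finset.sum_comm,
      Finset.sum_congr rfl fun χ _ => CfsgLib.CharTheory.sum_mul_conj_irr χ.2, Finset.sum_const, nsmul_eq_mul]
  -- pass to the quotient
  have hNcl : ∀ g, ∀ n : N, Sp g → Sp ((n : G) * g) := fun g n hg x hx => by
    have e : x⁻¹ * ((n : G) * g)⁻¹ * x * ((n : G) * g) = x⁻¹ * g⁻¹ * x * g := by
      have h1 : ((n : G))⁻¹ * x * n = x := by rw [mul_assoc, hc n x, inv_mul_cancel_left]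
      calc x⁻¹ * ((n : G) * g)⁻¹ * x * ((n : G) * g)
          = x⁻¹ * g⁻¹ * ((n : G)⁻¹ * x * n) * g := by group
        _ = _ := by rw [h1]
    rw [e] at hx
    rw [← mul_assoc, hc n x, mul_assoc, hg x hx, ← mul_assoc]
  have hbar : ∀ g h : G, (g : G ⧸ N) = (h : G ⧸ N) → Sp g → Sp h := fun g h e hg => by
    have hmem' : g⁻¹ * h ∈ N := (QuotientGroup.eq.mp e)
    have := hNcl g ⟨_, hmem'⟩ hg
    rwa [show ((⟨_, hmem'⟩ : N) : G) * g = h by rw [← hc ⟨_, hmem'⟩ g]; simp] at this
  have hC : ∀ g : G, Sp g → CC g = Nat.card N * Nat.card (Subgroup.centralizer ({(g : G ⧸ N)} : Set (G ⧸ N))) := by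
    intro g hg
    set B := Subgroup.centralizer ({(g : G ⧸ N)} : Set (G ⧸ N))
    have heq : Subgroup.centralizer ({g} : Set G) = B.comap (QuotientGroup.mk' N) := by
      ext z
      simp only [Subgroup.mem_comap, B, Subgroup.mem_centralizer_singleton_iff, QuotientGroup.mk'_apply,
        ← QuotientGroup.mk_mul, QuotientGroup.eq]
      constructor
      · intro h; rw [h, inv_mul_cancel]; exact one_mem _
      · intro h
        refine hg z ?_
        have h' := inv_mem h
        rwa [mul_inv_rev, inv_inv, mul_inv_rev, ← mul_assoc] at h'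
    simp only [CC]
    have h1 := Subgroup.card_mul_index (Subgroup.centralizer ({g} : Set G))
    rw [heq, Subgroup.index_comap_of_surjective _ (QuotientGroup.mk'_surjective N),
      N.card_eq_card_quotient_mul_card_subgroup, ← Subgroup.card_mul_index B] at h1
    rw [heq]
    exact Nat.eq_of_mul_eq_mul_right (Nat.pos_of_ne_zero Subgroup.index_ne_zero_of_finite)
      (h1.trans (by ring))
  let SpC : ConjClasses (G ⧸ N) → Prop := fun C => ∃ g : G, ConjClasses.mk (g : G ⧸ N) = C ∧ Sp g
  have hSpC : ∀ g : G, SpC (ConjClasses.mk (g : G ⧸ N)) ↔ Sp g := by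
    intro g
    refine ⟨fun ⟨h, he, hh⟩ => ?_, fun h => ⟨g, rfl, h⟩⟩
    obtain ⟨k, hk⟩ := isConj_iff.mp (ConjClasses.mk_eq_mk_iff_isConj.mp he)
    obtain ⟨k, rfl⟩ := QuotientGroup.mk_surjective k
    refine hbar (k * h * k⁻¹) g hk fun x hx => ?_
    have h1 := hh (k⁻¹ * x * k) (by
      have := Subgroup.Normal.conj_mem (inferInstance : N.Normal) _ hx k⁻¹
      convert this using 1
      group)
    calc x * (k * h * k⁻¹) = k * ((k⁻¹ * x * k) * h) * k⁻¹ := by group
      _ = k * (h * (k⁻¹ * x * k)) * k⁻¹ := by rw [h1]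
      _ = _ := by group
  have hR : (∑ g : G, if Sp g then CC g else 0) =
      Nat.card N * (Nat.card G * Nat.card {C : ConjClasses (G ⧸ N) // SpC C}) := by
    have hQ : ∀ q : G ⧸ N, (Finset.univ.filter fun g : G => (g : G ⧸ N) = q).card = Nat.card N := by
      intro q
      obtain ⟨g, rfl⟩ := QuotientGroup.mk_surjective q
      rw [← Fintype.card_subtype, ← Nat.card_eq_fintype_card]
      exact Nat.card_congr
        { toFun := fun z => ⟨g⁻¹ * z.1, QuotientGroup.eq.mp z.2.symm⟩
          invFun := fun n => ⟨g * n, (QuotientGroup.eq.mpr (by simp)).symm⟩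
          left_inv := fun z => Subtype.ext (by simp)
          right_inv := fun n => Subtype.ext (by simp) }
    let cb : G ⧸ N → ℕ := fun q => if SpC (ConjClasses.mk q) then
      Nat.card (Subgroup.centralizer ({q} : Set (G ⧸ N))) else 0
    have h1 : ∀ g : G, (if Sp g then CC g else 0) = Nat.card N * cb (g : G ⧸ N) := fun g => by
      by_cases h : Sp g
      · simp only [cb, if_pos h, if_pos ((hSpC g).mpr h), hC g h]
      · simp only [cb, if_neg h, if_neg (fun e => h ((hSpC g).mp e)), mul_zero]
    rw [Finset.sum_congr rfl fun g _ => h1 g, ← Finset.mul_sum,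
      ← Finset.sum_fiberwise_of_maps_to (g := fun g : G => (g : G ⧸ N)) (t := Finset.univ)
        (fun _ _ => Finset.mem_univ _),
      Finset.sum_congr rfl fun q _ => by
        rw [Finset.sum_congr rfl fun g hg => by rw [(Finset.mem_filter.mp hg).2], Finset.sum_const,
          smul_eq_mul, hQ q],
      ← Finset.mul_sum,
      ← Finset.sum_fiberwise_of_maps_to (g := ConjClasses.mk) (t := Finset.univ)
        (f := cb) (fun _ _ => Finset.mem_univ _)]
    have hcl : ∀ C : ConjClasses (G ⧸ N),
        ∑ q ∈ Finset.univ.filter (fun q => ConjClasses.mk q = C), cb q =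
          if SpC C then Nat.card (G ⧸ N) else 0 := by
      intro C
      obtain ⟨q, rfl⟩ := ConjClasses.mk_surjective C
      rw [Finset.sum_congr rfl fun z hz => show cb z = cb q by
        have hz' := (Finset.mem_filter.mp hz).2
        simp only [cb, hz', CfsgLib.CharTheory.card_centralizer_of_isConj
          (ConjClasses.mk_eq_mk_iff_isConj.mp hz')], Finset.sum_const, smul_eq_mul]
      by_cases h : SpC (ConjClasses.mk q)
      · simp only [cb, if_pos h]
        rw [← CfsgLib.CharTheory.card_isConj_mul_card_centralizer q, Nat.card_eq_fintype_card (α := {x // IsConj q x}),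
          Fintype.card_subtype]
        congr 2
        ext z
        simp only [Finset.mem_filter, Finset.mem_univ, true_and]
        rw [ConjClasses.mk_eq_mk_iff_isConj, isConj_comm]
      · simp only [cb, if_neg h, mul_zero]
    rw [Finset.sum_congr rfl fun C _ => hcl C, ← Finset.sum_filter, Finset.sum_const, smul_eq_mul,
      Nat.card_eq_fintype_card (α := {C : ConjClasses (G ⧸ N) // SpC C}), Fintype.card_subtype,
      N.card_eq_card_quotient_mul_card_subgroup]
    ring
  rw [Nat.card_eq_fintype_card, Fintype.card_subtype, ← hT]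
  apply Nat.eq_of_mul_eq_mul_right (Nat.card_pos (α := G))
  apply Nat.eq_of_mul_eq_mul_left (Nat.card_pos (α := N))
  apply Nat.cast_injective (R := ℂ)
  rw [show Nat.card N * (Nat.card {C : ConjClasses (G ⧸ N) // SpC C} * Nat.card G) =
    ∑ g : G, if Sp g then CC g else 0 by rw [hR]; ring]
  push_cast
  rw [hcount, Finset.mul_sum]
  exact Finset.sum_congr rfl fun g _ => by
    split_ifs with h
    · field_simp
    · simp

end Cfsg.Agent.S4567
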