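import Cfsg.Statements.S4568
import Cfsg.Agent.Lib.AbPrincipal.Prime
-- import your own Cfsg.Agent.* helpers here

set_option autoImplicit false
open Cfsg

namespace Cfsg.Agent.S4568

/-- Let G be a finite group with a commutative Sylow 2-subgroup P, let e be the index of the centralizer of P in the normalizer of P, and let M be a maximal ideal of the algebraic integers containing 2. If e is a prime number, then the principal 2-block has 2-regular rank e (e irreducible Brauer characters), and if moreover G is not solvable it contains exactly as many irreducible characters as P has elements. -/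
theorem result {G : Type*} [Group G] [Finite G] (M : Ideal Cfsg.AlgInt) (hM : Cfsg.IsPModular 2 M) (P : Sylow 2 G) (hab : IsMulCommutative P) (he : ((Subgroup.centralizer ((P : Subgroup G) : Set G)).relIndex (Subgroup.normalizer ((P : Subgroup G) : Set G))).Prime) : Cfsg.blockRank 2 (Cfsg.principalBlock M G) = (Subgroup.centralizer ((P : Subgroup G) : Set G)).relIndex (Subgroup.normalizer ((P : Subgroup G) : Set G)) ∧ (¬ Group.IsSolvable G → Nat.card (Cfsg.principalBlock M G) = Nat.card P) := by
  classical
  haveI := Fintype.ofFinite G
  have hab' : ∀ x ∈ (P : Subgroup G), ∀ y ∈ (P : Subgroup G), x * y = y * x := fun x hx y hy =>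
    congrArg Subtype.val (hab.is_comm.comm ⟨x, hx⟩ ⟨y, hy⟩)
  obtain ⟨h1, h2, h3⟩ :=
    CfsgLib.AbPrincipal.semi_counts hM (CfsgLib.AbPrincipal.semi_of_prime hab' he)
  refine ⟨h1, fun hn => ?_⟩
  have h4 := h3 hn
  refine Nat.eq_of_mul_eq_mul_left he.pos ?_
  change CfsgLib.AbPrincipal.idx P * Nat.card (Cfsg.principalBlock M G) =
    CfsgLib.AbPrincipal.idx P * Nat.card P
  nlinarith [h2, h4]

end Cfsg.Agent.S4568
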