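import Cfsg.Statements.S4570
import Cfsg.Agent.Lib.AbPrincipal.RankOne
import Cfsg.Agent.Lib.AbPrincipal.Tools
-- import your own Cfsg.Agent.* helpers here

set_option autoImplicit false
open Cfsg

namespace Cfsg.Agent.S4570

/-- Let G be a finite group with a commutative Sylow 2-subgroup P and M a maximal ideal of the algebraic integers containing 2, and suppose some involution x of G has the property that the principal 2-block of its centralizer has 2-regular rank one. If P has order 8 then the principal 2-block of G contains exactly 8 irreducible characters, and if P has order 16 it contains 8 or 16. -/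
theorem result {G : Type*} [Group G] [Finite G] (M : Ideal Cfsg.AlgInt) (hM : Cfsg.IsPModular 2 M) (P : Sylow 2 G) (hab : IsMulCommutative P) (x : G) (hx : orderOf x = 2) (hl : Cfsg.blockRank 2 (Cfsg.principalBlock M ↥(Subgroup.centralizer ({x} : Set G))) = 1) : (Nat.card P = 8 → Nat.card (Cfsg.principalBlock M G) = 8) ∧ (Nat.card P = 16 → Nat.card (Cfsg.principalBlock M G) = 8 ∨ Nat.card (Cfsg.principalBlock M G) = 16) := by
  classical
  haveI := Fintype.ofFinite G
  haveI : Fact (Nat.Prime 2) := ⟨Nat.prime_two⟩
  have hab' : ∀ a ∈ (P : Subgroup G), ∀ b ∈ (P : Subgroup G), a * b = b * a := fun a ha b hb =>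
    congrArg Subtype.val (hab.is_comm.comm ⟨a, ha⟩ ⟨b, hb⟩)
  have hp : IsPGroup 2 (Subgroup.zpowers x) :=
    IsPGroup.of_card (n := 1) (by rw [Nat.card_zpowers, hx, pow_one])
  obtain ⟨R, hR⟩ := hp.exists_le_sylow
  obtain ⟨g, hg⟩ := MulAction.exists_smul_eq G R P
  have hy : (MulAut.conj g) x ∈ (P : Subgroup G) := by
    rw [← hg, Sylow.coe_subgroup_smul]
    exact Subgroup.smul_mem_pointwise_smul x _ _ (hR (Subgroup.mem_zpowers x))
  have hy1 : (MulAut.conj g) x ≠ 1 := by
    rw [Ne, MulEquiv.map_eq_one_iff]
    intro e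
    rw [e, orderOf_one] at hx
    omega
  refine CfsgLib.AbPrincipal.rank_one_counts hM P hab' hy hy1 ?_
  haveI := Fintype.ofFinite (Subgroup.centralizer ({x} : Set G))
  haveI := Fintype.ofFinite
    ((Subgroup.centralizer ({x} : Set G)).map (MulAut.conj g : G →* G))
  rw [CfsgLib.AbPrincipal.lc, ← CfsgLib.AbPrincipal.blockRank_principal_congr
      (CfsgLib.AbPrincipal.centralizer_map_singleton (MulAut.conj g) x),
    ← CfsgLib.AbPrincipal.blockRank_equiv ((MulAut.conj g).subgroupMap _)]
  exact hl

end Cfsg.Agent.S4570
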