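import Cfsg.Statements.S4574
import Cfsg.Agent.Lib.CharTheory.More

set_option autoImplicit false
open Cfsg

namespace Cfsg.Agent.S4574

/-- Let χ be an irreducible character of the finite group G, of degree d, and let Z(χ) be the set of elements g with |χ g| = d (the centre of χ). Then χ vanishes on at least (d ^ 2 - 1) · |Z(χ)| elements of G, with equality when every value |χ g| is 0, 1 or d. -/
theorem result {G : Type*} [Group G] [Fintype G] [DecidableEq G] (χ : G → ℂ) (hχ : Cfsg.IsIrrCharacter G χ) : (Cfsg.charDegree χ ^ 2 - 1) * (Finset.univ.filter (fun g : G => ‖χ g‖ = (Cfsg.charDegree χ : ℝ))).card ≤ (Finset.univ.filter (fun g : G => χ g = 0)).card ∧ ((∀ g : G, ‖χ g‖ = 0 ∨ ‖χ g‖ = 1 ∨ ‖χ g‖ = (Cfsg.charDegree χ : ℝ)) → (Cfsg.charDegree χ ^ 2 - 1) * (Finset.univ.filter (fun g : G => ‖χ g‖ = (Cfsg.charDegree χ : ℝ))).card = (Finset.univ.filter (fun g : G => χ g = 0)).card) := by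
  have hc := CfsgLib.CharTheory.isCharacter_of_irr hχ
  set d := Cfsg.charDegree χ with hd
  have hdpos : 0 < d := (CfsgLib.CharTheory.charDegree_spec' hχ).2
  set Z := Finset.univ.filter (fun g : G => ‖χ g‖ = (d : ℝ)) with hZ
  set O := Finset.univ.filter (fun g : G => χ g = 0) with hO
  set A := Finset.univ.filter (fun g : G => ¬ ‖χ g‖ = (d : ℝ) ∧ ¬ χ g = 0) with hA
  have hOsub : Finset.univ.filter (fun g : G => ¬ ‖χ g‖ = (d : ℝ) ∧ χ g = 0) = O := by
    refine Finset.filter_congr fun g _ => and_iff_right_of_imp fun h0 h1 => ?_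
    rw [h0, norm_zero] at h1
    exact hdpos.ne' (by exact_mod_cast h1.symm)
  have hsplit := Finset.sum_filter_add_sum_filter_not Finset.univ
    (fun g : G => ‖χ g‖ = (d : ℝ)) (fun g => ‖χ g‖ ^ 2)
  rw [CfsgLib.CharTheory.sum_norm_sq_irr hχ, ← Finset.sum_filter_add_sum_filter_not
    (Finset.univ.filter fun g : G => ¬ ‖χ g‖ = (d : ℝ)) (fun g => χ g = 0),
    Finset.filter_filter, Finset.filter_filter, hOsub, ← hA, ← hZ,
    Finset.sum_congr rfl fun g (hg : g ∈ Z) => (by simp_all [Z] : ‖χ g‖ ^ 2 = (d : ℝ) ^ 2),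
    Finset.sum_congr rfl fun g (hg : g ∈ O) => (by simp_all [O] : ‖χ g‖ ^ 2 = (0 : ℝ))] at hsplit
  simp only [Finset.sum_const, nsmul_eq_mul, mul_zero, zero_add] at hsplit
  have hcard : Nat.card G = Z.card + O.card + A.card := by
    have h1 := Finset.card_filter_add_card_filter_not (s := (Finset.univ : Finset G))
      (fun g : G => ‖χ g‖ = (d : ℝ))
    have h2 := Finset.card_filter_add_card_filter_not
      (s := Finset.univ.filter fun g : G => ¬ ‖χ g‖ = (d : ℝ)) (fun g => χ g = 0)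
    rw [Finset.filter_filter, Finset.filter_filter, hOsub] at h2
    rw [Finset.card_univ, ← Nat.card_eq_fintype_card] at h1
    rw [← hA] at h2
    rw [← hZ] at h1
    omega
  have hd1 : 1 ≤ d ^ 2 := Nat.one_le_pow _ _ hdpos
  have hle0 : Z.card * d ^ 2 ≤ Nat.card G := by
    have h0 : 0 ≤ ∑ g ∈ A, ‖χ g‖ ^ 2 := Finset.sum_nonneg fun g _ => sq_nonneg _
    exact_mod_cast (show ((Z.card * d ^ 2 : ℕ) : ℝ) ≤ Nat.card G by push_cast; linarith)
  have hle := CfsgLib.CharTheory.card_le_of_char_sum hc A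
    (fun g hg => (Finset.mem_filter.mp hg).2.2) (Nat.card G - Z.card * d ^ 2)
    (by rw [Nat.cast_sub hle0]; push_cast; linarith)
  constructor
  · rw [Nat.sub_mul, one_mul, mul_comm]
    omega
  · intro h
    rw [Finset.sum_congr rfl fun g (hg : g ∈ A) => show ‖χ g‖ ^ 2 = (1 : ℝ) by
      obtain ⟨-, h1, h2⟩ := Finset.mem_filter.mp hg
      rcases h g with h' | h' | h'
      · exact absurd (norm_eq_zero.mp h') h2
      · rw [h', one_pow]
      · exact absurd h' h1] at hsplit
    simp only [Finset.sum_const, nsmul_eq_mul, mul_one] at hsplit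
    have : Z.card * d ^ 2 + A.card = Nat.card G := by exact_mod_cast hsplit
    rw [Nat.sub_mul, one_mul, mul_comm]
    omega

end Cfsg.Agent.S4574
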