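import Cfsg.Statements.S4575
import Cfsg.Agent.Lib.Blocks.TwoBlocks
-- import your own Cfsg.Agent.* helpers here

set_option autoImplicit false
open Cfsg

namespace Cfsg.Agent.S4575

open CfsgLib.Blocks CfsgLib.CharTheory

set_option linter.style.haveILetI false
set_option linter.unusedSimpArgs false


/-- Let B be a 2-block of the finite group G (relative to a maximal ideal M of the algebraic integers containing 2) of defect d with defect group D. Let z be an element of D commuting with every element of D, and let b be a block of the centralizer of z with defect group D that induces B (a major subsection (z, b)). If the number of irreducible characters in B exceeds the 2-regular rank of b by at most three, then B contains at most 2 ^ d irreducible characters. -/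
theorem result {G : Type*} [Group G] [Finite G] (M : Ideal Cfsg.AlgInt) (hM : Cfsg.IsPModular 2 M) (B : Set (Cfsg.IrrCharacter G)) (hB : Cfsg.IsPBlock M B) (D : Subgroup G) (hD : Cfsg.IsDefectGroup 2 M B D) (z : G) (hzD : z ∈ D) (hzc : ∀ d ∈ D, d * z = z * d) (b : Set (Cfsg.IrrCharacter ↥(Subgroup.centralizer ({z} : Set G)))) (hb : Cfsg.IsInducedBlock M (Subgroup.centralizer ({z} : Set G)) b B) (hbD : Cfsg.IsDefectGroup 2 M b (D.subgroupOf (Subgroup.centralizer ({z} : Set G)))) (h : Nat.card B ≤ Cfsg.blockRank 2 b + 3) : Nat.card B ≤ 2 ^ Cfsg.blockDefect 2 B := by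
  classical
  haveI := Fintype.ofFinite G
  haveI := Fintype.ofFinite (Subgroup.centralizer ({z} : Set G))
  have hz : ∃ k : ℕ, orderOf z = 2 ^ k := by
    haveI : Fact (Nat.Prime 2) := ⟨Nat.prime_two⟩
    obtain ⟨k, hk⟩ := (defectGroup_isPGroup hD) ⟨z, hzD⟩
    exact (orderOf_dvd_iff_pow_eq_one.2 (congrArg Subtype.val hk) |> (Nat.dvd_prime_pow Nat.prime_two).1).imp fun _ h => h.2
  have hdef : blockDefect 2 b = blockDefect 2 B := major_defect_eq hM hB hb.1 hD
    (fun d hd => Subgroup.mem_centralizer_singleton_iff.2 (hzc d hd)) hbD
  by_cases h1 : 1 < Nat.card B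
  · have := major_two hM (isCentr_singleton z) hz hb hdef (Or.inr ⟨h, h1⟩)
    omega
  · have := Nat.one_le_two_pow (n := blockDefect 2 B)
    omega

end Cfsg.Agent.S4575
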