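import Cfsg.Statements.S4580
import Cfsg.Agent.Lib.Blocks.Two
import Cfsg.Agent.Lib.CharTheory.Gallagher
import Cfsg.Agent.Lib.CharTheory.AbelianInertia

set_option autoImplicit false
open Cfsg

namespace Cfsg.Agent.S4580

/-- Let N be a normal subgroup of the finite group G, M a maximal ideal of the algebraic integers containing 2, and θ a real-valued irreducible character of N of odd degree that extends to G (some irreducible character of G restricts to θ). Then θ has an extension to G lying in the principal 2-block of G. -/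
theorem result {G : Type*} [Group G] [Finite G] (N : Subgroup G) [N.Normal] (M : Ideal Cfsg.AlgInt) (hM : Cfsg.IsPModular 2 M) (θ : Cfsg.IrrCharacter N) (hreal : ∀ n : N, ((θ : N → ℂ) n).im = 0) (hodd : Odd (Cfsg.charDegree (θ : N → ℂ))) (hext : ∃ η : Cfsg.IrrCharacter G, ∀ n : N, (η : G → ℂ) n = (θ : N → ℂ) n) :
    ∃ η : Cfsg.IrrCharacter G, (∀ n : N, (η : G → ℂ) n = (θ : N → ℂ) n) ∧ η ∈ Cfsg.principalBlock M G := by
  classical
  haveI := Fintype.ofFinite G
  haveI := Fintype.ofFinite N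
  obtain ⟨η, hη⟩ := hext
  have hres : Cfsg.IsIrrCharacter N (fun n : N => (η : G → ℂ) n) := by
    rw [funext hη]; exact θ.2
  -- the conjugate of `η` is a twist of `η`
  have hc : (fun n : N => (CfsgLib.Blocks.conjIrr η : G → ℂ) n) = fun n : N => (η : G → ℂ) n := by
    funext n
    rw [CfsgLib.Blocks.conjIrr_apply, hη n]
    exact Complex.conj_eq_iff_im.2 (hreal n)
  obtain ⟨β, hβ, hβN, hηβ⟩ := (CfsgLib.CharTheory.gallagher N
    (CfsgLib.CharTheory.isCharacter_of_irr η.2) hres).2.2 _ (CfsgLib.Blocks.conjIrr η).2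
    (by rw [hc, CfsgLib.CharTheory.classInner_irr_self hres]; exact one_ne_zero)
  have h1 : (η : G → ℂ) 1 ≠ 0 := CfsgLib.Blocks.irr_one_ne_zero η
  have hβ1 : β 1 = 1 := by
    have h := congrFun hηβ 1
    rw [CfsgLib.Blocks.conjIrr_apply, Pi.mul_apply, ← CfsgLib.Blocks.irr_charDegree_cast,
      map_natCast] at h
    exact mul_right_cancel₀ (b := (Cfsg.charDegree (η : G → ℂ) : ℂ))
      (Nat.cast_ne_zero.2 (CfsgLib.Blocks.irr_charDegree_pos η).ne') (by rw [one_mul]; exact h.symm)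
  obtain ⟨φ, hφ⟩ := CfsgLib.CharTheory.exists_hom_of_degree_one
    (CfsgLib.CharTheory.isCharacter_of_irr hβ) hβ1
  -- an odd part of the order and the twist
  obtain ⟨a, o, ho, hn⟩ := Nat.exists_eq_two_pow_mul_odd (Nat.card_pos (α := G)).ne'
  obtain ⟨m, hm⟩ := ho
  set ν : G →* ℂˣ := φ ^ (m + 1) with hν
  let χ : Cfsg.IrrCharacter G := ⟨(η : G → ℂ) * fun g => (ν g : ℂ),
    CfsgLib.CharTheory.isIrrCharacter_mul_linear η.2
      (CfsgLib.CharTheory.isIrrCharacter_linear ν) (by simp)⟩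
  have hχN : ∀ n : N, (χ : G → ℂ) n = (θ : N → ℂ) n := by
    intro n
    have hφn : φ n = 1 := by
      have h := hβN n n.2
      rw [hβ1, hφ] at h
      exact Units.ext h
    show (η : G → ℂ) n * (ν n : ℂ) = _
    rw [hν, MonoidHom.pow_apply, hφn, one_pow, Units.val_one, mul_one, hη]
  have hdeg : Odd (Cfsg.charDegree (χ : G → ℂ)) := by
    have e : Cfsg.charDegree (χ : G → ℂ) = Cfsg.charDegree (θ : N → ℂ) := by
      unfold Cfsg.charDegree
      rw [show (χ : G → ℂ) 1 = (θ : N → ℂ) 1 by simpa using hχN 1]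
    rw [e]; exact hodd
  refine ⟨χ, hχN, CfsgLib.Blocks.mem_principal_of_sum hM χ ?_⟩
  rw [CfsgLib.Blocks.sum_regFn_two hM fun g hg => ?_]
  · exact CfsgLib.Blocks.res_degree_odd hM χ hdeg
  rw [CfsgLib.Blocks.irr_inv]
  show (starRingEnd ℂ) ((η : G → ℂ) g * (ν g : ℂ)) = (η : G → ℂ) g * (ν g : ℂ)
  have hgo : g ^ (2 * m + 1) = 1 := by
    rw [← orderOf_dvd_iff_pow_eq_one, ← hm]
    refine Nat.Coprime.dvd_of_dvd_mul_left ?_ (hn ▸ orderOf_dvd_natCard g)
    exact ((Nat.prime_two.coprime_iff_not_dvd.2 hg).pow_left a).symm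
  have hφg : (φ g : ℂ) ^ (2 * m + 1) = 1 := by
    rw [← Units.val_pow_eq_pow_val, ← map_pow, hgo, map_one, Units.val_one]
  have hinv : (starRingEnd ℂ) (φ g : ℂ) = (φ g : ℂ) ^ (2 * m) := by
    have hu : (starRingEnd ℂ) (φ g : ℂ) = (φ g : ℂ)⁻¹ :=
      (Complex.inv_eq_conj (Complex.norm_eq_one_of_pow_eq_one hφg (by omega))).symm
    rw [hu, eq_comm, ← mul_right_inj' (Units.ne_zero (φ g)), mul_inv_cancel₀ (Units.ne_zero (φ g)),
      ← pow_succ']
    exact hφg
  have e1 := congrFun hηβ g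
  rw [CfsgLib.Blocks.conjIrr_apply, hφ, Pi.mul_apply] at e1
  rw [map_mul, e1, hν, MonoidHom.pow_apply, Units.val_pow_eq_pow_val, map_pow, hinv, ← pow_mul,
    show 2 * m * (m + 1) = (2 * m + 1) * m + m by ring, pow_add, pow_mul, hφg, one_pow, one_mul]
  ring

end Cfsg.Agent.S4580
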