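import Cfsg.Statements.S4581
import Cfsg.Agent.Lib.RealOdd.Main
import Cfsg.Agent.Lib.PGroup.MetacyclicRank
import Cfsg.Agent.Lib.RankFrattini

set_option autoImplicit false
open Cfsg

namespace Cfsg.Agent.S4581

theorem result {G : Type*} [Group G] [Finite G] [Group.IsSolvable G] (P : Sylow 2 G) :
    Nat.card {χ : Cfsg.IrrCharacter G // (∀ g : G, ((χ : G → ℂ) g).im = 0) ∧ Odd (Cfsg.charDegree (χ : G → ℂ))} =
      Nat.card {ψ : Cfsg.IrrCharacter (Subgroup.normalizer ((P : Subgroup G) : Set G)) // (∀ g, ((ψ : Subgroup.normalizer ((P : Subgroup G) : Set G) → ℂ) g).im = 0) ∧ Odd (Cfsg.charDegree (ψ : Subgroup.normalizer ((P : Subgroup G) : Set G) → ℂ))} ∧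
    ((∀ χ : Cfsg.IrrCharacter G, Odd (Cfsg.charDegree (χ : G → ℂ)) → ∀ g : G, ((χ : G → ℂ) g).im = 0) ↔
      (commutator (P : Subgroup G) = frattini (P : Subgroup G) ∧ Subgroup.normalizer ((P : Subgroup G) : Set G) = (P : Subgroup G))) := by
  classical
  haveI := Fintype.ofFinite G
  haveI := Fact.mk Nat.prime_two
  obtain ⟨h1, h2⟩ := CfsgLib.RealOdd.gow _ G rfl P
  have hc : ∀ (K : Type _) [Group K] [Finite K],
      Nat.card {χ : Cfsg.IrrCharacter K // (∀ g : K, ((χ : K → ℂ) g).im = 0) ∧ Odd (Cfsg.charDegree (χ : K → ℂ))}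
        = CfsgLib.RealOdd.rcount K := fun K _ _ => Nat.card_congr (Equiv.subtypeEquivRight fun χ =>
      and_congr (CfsgLib.RealOdd.re0_iff _) (CfsgLib.RealOdd.oddDeg_iff χ))
  refine ⟨by rw [hc, hc]; exact h1, ?_⟩
  have hall : (∀ χ : Cfsg.IrrCharacter G, Odd (Cfsg.charDegree (χ : G → ℂ)) → ∀ g : G, ((χ : G → ℂ) g).im = 0)
      ↔ CfsgLib.RealOdd.AllReal G := forall_congr' fun χ =>
    imp_congr (CfsgLib.RealOdd.oddDeg_iff χ) (CfsgLib.RealOdd.re0_iff _)
  have hcond : CfsgLib.RealOdd.Cond (P : Subgroup G)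
      ↔ commutator (P : Subgroup G) = frattini (P : Subgroup G) := by
    constructor
    · intro h
      refine le_antisymm (CfsgLib.commutator_le_frattini_pGroup P.isPGroup') ?_
      refine CfsgLib.RankFrattini.frattini_le_of_elementary P.isPGroup' _ (fun a b => Subgroup.commutator_mem_commutator
        (Subgroup.mem_top a) (Subgroup.mem_top b)) fun a => ?_
      have h3 := h _ a.2
      rw [← Subgroup.map_subtype_commutator] at h3
      obtain ⟨y, hy, e⟩ := h3
      rwa [pow_two, show a * a = y from Subtype.ext e.symm]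
    · intro h x hx
      rw [← Subgroup.map_subtype_commutator]
      refine ⟨(⟨x, hx⟩ : (P : Subgroup G)) * ⟨x, hx⟩, ?_, rfl⟩
      rw [SetLike.mem_coe, h, ← pow_two]
      exact CfsgLib.pow_mem_frattini_pGroup P.isPGroup' _
  rw [hall, h2, hcond]

end Cfsg.Agent.S4581
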