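import Cfsg.Statements.S4582
import Cfsg.Agent.Lib.CharTheory.ExtCriteria
import Cfsg.Agent.Lib.CharTheory.Clifford
import Cfsg.Agent.Lib.CharTheory.PowerMap
import Cfsg.Agent.Lib.CharTheory.Linear
import Cfsg.Agent.Lib.Blocks.Orth

set_option autoImplicit false
open Cfsg CfsgLib.CharTheory
open scoped ComplexConjugate

set_option linter.unusedVariables false

namespace Cfsg.Agent.S4582

/-- Let N be a normal subgroup of the finite group G, P a Sylow 2-subgroup of G and Q = P ∩ N. Suppose that P/QP' and Q/Q' are elementary abelian (every square of an element of P lies in the subgroup generated by Q and the derived subgroup of P, and every square of an element of Q lies in the derived subgroup of Q), and that the commutator factor group N/N' has odd order. Then P/P' is elementary abelian. -/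
theorem result {G : Type*} [Group G] [Finite G] (N : Subgroup G) [N.Normal] (P : Sylow 2 G)
    (hP : ∀ x ∈ (P : Subgroup G), x ^ 2 ∈ ((P : Subgroup G) ⊓ N) ⊔ ⁅(P : Subgroup G), (P : Subgroup G)⁆)
    (hQ : ∀ x ∈ (P : Subgroup G) ⊓ N, x ^ 2 ∈ ⁅(P : Subgroup G) ⊓ N, (P : Subgroup G) ⊓ N⁆)
    (hodd : Odd (Nat.card (Abelianization N))) :
    ∀ x ∈ (P : Subgroup G), x ^ 2 ∈ ⁅(P : Subgroup G), (P : Subgroup G)⁆ := by
  classical
  haveI := Fintype.ofFinite G
  haveI := Fintype.ofFinite N
  haveI : Fact (Nat.Prime 2) := ⟨Nat.prime_two⟩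
  intro x hx
  by_contra hx2
  set Q : Subgroup G := (P : Subgroup G) ⊓ N with hQdef
  -- a linear character of `P` nontrivial at `x ^ 2`
  obtain ⟨lam, hlam⟩ : ∃ lam : (P : Subgroup G) →* ℂˣ, lam (⟨x, hx⟩ ^ 2) ≠ 1 := by
    by_contra hno
    push Not at hno
    have h1 : Abelianization.of ((⟨x, hx⟩ : (P : Subgroup G)) ^ 2) = 1 := by
      by_contra hne
      obtain ⟨φ, hφ⟩ := CommGroup.exists_apply_ne_one_of_hasEnoughRootsOfUnity
        (Abelianization (P : Subgroup G)) ℂ hne
      exact hφ (hno (φ.comp Abelianization.of))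
    apply hx2
    rw [← MonoidHom.mem_ker, Abelianization.ker_of] at h1
    have h2 : (P : Subgroup G).subtype ((⟨x, hx⟩ : (P : Subgroup G)) ^ 2) ∈
        (commutator (P : Subgroup G)).map (P : Subgroup G).subtype := Subgroup.mem_map_of_mem _ h1
    rwa [map_pow, commutator_def, Subgroup.map_commutator, ← MonoidHom.range_eq_map,
      Subgroup.range_subtype] at h2
  have hPc : ∀ a (ha : a ∈ ⁅(P : Subgroup G), (P : Subgroup G)⁆) (ha' : a ∈ (P : Subgroup G))
      (φ : (P : Subgroup G) →* ℂˣ), φ ⟨a, ha'⟩ = 1 := by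
    intro a ha ha' φ
    have h2 : (⟨a, ha'⟩ : (P : Subgroup G)) ∈ commutator (P : Subgroup G) := by
      rw [← Subgroup.mem_map_iff_mem (f := (P : Subgroup G).subtype) (Subgroup.subtype_injective _),
        commutator_def, Subgroup.map_commutator, ← MonoidHom.range_eq_map, Subgroup.range_subtype]
      exact ha
    exact Abelianization.commutator_subset_ker φ h2
  let QN : Subgroup N := (P : Subgroup G).subgroupOf N
  haveI : Fintype QN := Fintype.ofFinite _
  let ι : QN →* (P : Subgroup G) :=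
    { toFun := fun q => ⟨((q : N) : G), q.2⟩
      map_one' := rfl
      map_mul' := fun _ _ => rfl }
  let μ : QN →* ℂˣ := lam.comp ι
  have hμ2 : ∀ q : QN, (μ q) ^ 2 = 1 := by
    intro q
    have h1 := hQ ((q : N) : G) (Subgroup.mem_inf.2 ⟨q.2, (q : N).2⟩)
    rw [← map_pow]
    exact hPc _ (Subgroup.commutator_mono inf_le_left inf_le_left h1) _ lam
  have hμreal : ∀ q : QN, conj ((μ q : ℂˣ) : ℂ) = ((μ q : ℂˣ) : ℂ) := by
    intro q
    have h1 : ((μ q : ℂˣ) : ℂ) ^ 2 = 1 := by rw [← Units.val_pow_eq_pow_val, hμ2, Units.val_one]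
    rcases sq_eq_one_iff.1 h1 with h | h <;> rw [h] <;> simp
  -- the twisted Galois exponent
  set v : ℕ := (Nat.card G).factorization 2 with hv
  have hodd' : Nat.Coprime (2 ^ v) (Nat.card G / 2 ^ v) := Nat.coprime_ordCompl Nat.prime_two Nat.card_pos.ne' |>.pow_left v
  obtain ⟨k, hk1, hk2⟩ := Nat.chineseRemainder hodd' (2 ^ v - 1) 1
  have hn : 2 ^ v * (Nat.card G / 2 ^ v) = Nat.card G := Nat.ordProj_mul_ordCompl_eq_self _ _
  have hksq : k * k ≡ 1 [MOD Nat.card G] := by
    rw [← hn]
    refine (Nat.modEq_and_modEq_iff_modEq_mul hodd').1 ⟨(hk1.mul hk1).trans ?_, (hk2.mul hk2).trans (by rw [one_mul])⟩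
    have h1 : 1 ≤ 2 ^ v := Nat.one_le_two_pow
    obtain ⟨w, hw⟩ : ∃ w, 2 ^ v = w + 1 := ⟨2 ^ v - 1, by omega⟩
    rw [hw, Nat.add_sub_cancel]
    rcases w with _ | w
    · exact Nat.modEq_one
    · refine ((Nat.modEq_iff_dvd' (by nlinarith)).2 ⟨w, ?_⟩).symm
      have : (w + 1) * (w + 1) = (w + 1 + 1) * w + 1 := by ring
      omega
  have hcop : k.Coprime (Nat.card G) := Nat.coprime_of_mul_modEq_one k hksq
  have hkinv : ∀ a ∈ (P : Subgroup G), a ^ k = a⁻¹ := by
    intro a ha
    have ho : orderOf a ∣ 2 ^ v := by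
      rw [hv, ← P.card_eq_multiplicity]
      exact Subgroup.orderOf_dvd_natCard _ ha
    rw [eq_inv_iff_mul_eq_one, ← pow_succ, ← orderOf_dvd_iff_pow_eq_one]
    refine Nat.modEq_zero_iff_dvd.1 ((hk1.of_dvd ho).add_right 1 |>.trans ?_)
    rw [Nat.sub_add_cancel Nat.one_le_two_pow]
    exact Nat.modEq_zero_iff_dvd.2 ho
  have hkk : ∀ a : G, (a ^ k) ^ k = a := fun a => by
    rw [← pow_mul]
    exact (pow_eq_pow_iff_modEq.2 (hksq.of_dvd (orderOf_dvd_natCard a))).trans (pow_one a)
  have hcopN : k.Coprime (Nat.card N) := hcop.coprime_dvd_right (Subgroup.card_subgroup_dvd_card N)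
  -- the induced character
  set μc : QN → ℂ := fun q => ((μ q : ℂˣ) : ℂ) with hμc
  have hμci : Cfsg.IsIrrCharacter QN μc := isIrrCharacter_linear μ
  set Φ : N → ℂ := Cfsg.indFun QN μc with hΦ
  have hΦchar : Cfsg.IsCharacter N Φ := isCharacter_indFun QN (isCharacter_of_irr hμci)
  choose m hm using fun θ : Cfsg.IrrCharacter N => classInner_char_nat hΦchar (isCharacter_of_irr θ.2)
  have hm' : ∀ θ : Cfsg.IrrCharacter N,
      Cfsg.classInner μc (fun q : QN => (θ : N → ℂ) q) = (m θ : ℂ) := fun θ => by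
    rw [← frobenius_reciprocity QN μc (isClassFunction_irr θ.2)]
    exact hm θ
  have hsum : ∑ θ : Cfsg.IrrCharacter N, m θ * Cfsg.charDegree (θ : N → ℂ) = QN.index := by
    have h := congrFun (eq_sum_irr (indFun_isClassFunction QN μc)) 1
    rw [indFun_apply_one] at h
    simp only [hμc, map_one, Units.val_one, mul_one, Finset.sum_apply, Pi.smul_apply, smul_eq_mul] at h
    apply Nat.cast_injective (R := ℂ)
    push_cast
    rw [h]
    refine Finset.sum_congr rfl fun θ _ => ?_
    rw [← hm θ, CfsgLib.Blocks.irr_charDegree_cast θ]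
  have hidx : Odd QN.index := by
    rw [← Nat.not_even_iff_odd, even_iff_two_dvd]
    have e : QN.index = (P : Subgroup G).relIndex N := rfl
    have h1 := Subgroup.relIndex_mul_relIndex ((P : Subgroup G) ⊓ N) (P : Subgroup G) (N ⊔ (P : Subgroup G))
      inf_le_left le_sup_right
    have h2 := Subgroup.relIndex_mul_relIndex ((P : Subgroup G) ⊓ N) N (N ⊔ (P : Subgroup G))
      inf_le_right le_sup_left
    rw [Subgroup.inf_relIndex_left, ← h2, Subgroup.inf_relIndex_right,
      show N.relIndex (N ⊔ (P : Subgroup G)) = N.relIndex (P : Subgroup G) by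
        rw [sup_comm, Subgroup.relIndex_sup_right],
      mul_comm, Nat.mul_left_inj (show N.relIndex (P : Subgroup G) ≠ 0 from Subgroup.index_ne_zero_of_finite)] at h1
    rw [e, ← h1]
    exact fun h => P.not_dvd_index (h.trans (Subgroup.relIndex_dvd_index_of_le le_sup_right))
  -- Galois and conjugation
  let S := {θ : Cfsg.IrrCharacter N // Odd (m θ) ∧ Odd (Cfsg.charDegree (θ : N → ℂ))}
  have hScard : Odd (Nat.card S) := by
    rw [← hsum] at hidx
    rw [Nat.odd_iff, Finset.sum_nat_mod] at hidx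
    have e : ∀ θ : Cfsg.IrrCharacter N, m θ * Cfsg.charDegree (θ : N → ℂ) % 2 =
        if Odd (m θ) ∧ Odd (Cfsg.charDegree (θ : N → ℂ)) then 1 else 0 := by
      intro θ
      split_ifs with h
      · exact Nat.odd_iff.1 (h.1.mul h.2)
      · refine Nat.even_iff.1 (Nat.even_mul.2 ?_)
        simp only [← Nat.not_odd_iff_even]
        tauto
    rw [Finset.sum_congr rfl fun θ _ => e θ, Finset.sum_boole, Nat.cast_id, ← Nat.odd_iff] at hidx
    rwa [show Nat.card S = _ from Nat.subtype_card (Finset.univ.filter fun θ : Cfsg.IrrCharacter N => Odd (m θ) ∧ Odd (Cfsg.charDegree (θ : N → ℂ))) (fun θ => by simp)]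
  let gal : Cfsg.IrrCharacter N → Cfsg.IrrCharacter N := powIrr hcopN
  have hgal_deg : ∀ θ, Cfsg.charDegree (gal θ : N → ℂ) = Cfsg.charDegree (θ : N → ℂ) := fun θ => by
    show ⌊((θ : N → ℂ) ((1 : N) ^ k)).re⌋₊ = _
    rw [one_pow]; rfl
  have hgal_m : ∀ θ, m (gal θ) = m θ := fun θ => by
    apply Nat.cast_injective (R := ℂ)
    rw [← hm', ← hm']
    have hq : ∀ q : QN, (gal θ : N → ℂ) (q : N) = conj ((θ : N → ℂ) (q : N)) := fun q => by
      show (θ : N → ℂ) ((q : N) ^ k) = _
      rw [← char_apply_inv (isCharacter_of_irr θ.2)]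
      refine congrArg _ (Subtype.ext ?_)
      show ((q : N) : G) ^ k = ((q : N) : G)⁻¹
      exact hkinv _ q.2
    simp only [Cfsg.classInner, hq, Complex.conj_conj, hμc]
    have hc := congrArg conj (hm' θ)
    rw [Cfsg.classInner, map_natCast] at hc
    simp only [map_mul, map_sum, map_inv₀, map_natCast, Complex.conj_conj, hμc, hμreal] at hc
    rw [hc, ← hm' θ]
    rfl
  let σ : Equiv.Perm S := Function.Involutive.toPerm
    (fun θ => ⟨gal θ.1, by rw [hgal_m, hgal_deg]; exact θ.2⟩)
    (fun θ => Subtype.ext (Subtype.ext (funext fun n => congrArg (θ.1 : N → ℂ)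
      (Subtype.ext (hkk (n : G))))))
  let act : ↥(P : Subgroup G) → Cfsg.IrrCharacter N → Cfsg.IrrCharacter N := fun a θ =>
    ⟨conjNormFun N (a : G)⁻¹ (θ : N → ℂ), isIrr_conjNormFun N _ θ.2⟩
  have hact_deg : ∀ a θ, Cfsg.charDegree (act a θ : N → ℂ) = Cfsg.charDegree (θ : N → ℂ) := fun a θ => by
    show ⌊((conjNormFun N (a : G)⁻¹ (θ : N → ℂ)) 1).re⌋₊ = _
    rw [conjNormFun_apply_one]; rfl
  have hact_m : ∀ a θ, m (act a θ) = m θ := fun a θ => by
    apply Nat.cast_injective (R := ℂ)
    rw [← hm', ← hm']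
    simp only [Cfsg.classInner]
    congr 1
    have hcl : ∀ q : QN, (a : G)⁻¹ * ((q : N) : G) * (a : G) ∈ (P : Subgroup G) := fun q =>
      mul_mem (mul_mem (inv_mem a.2) q.2) a.2
    have hclN : ∀ q : QN, (a : G)⁻¹ * ((q : N) : G) * (a : G) ∈ N := fun q => by
      simpa using (‹N.Normal›).conj_mem _ (q : N).2 (a : G)⁻¹
    have hcl' : ∀ q : QN, (a : G) * ((q : N) : G) * (a : G)⁻¹ ∈ (P : Subgroup G) := fun q =>
      mul_mem (mul_mem a.2 q.2) (inv_mem a.2)
    let ψ : QN ≃ QN :=
      { toFun := fun q => ⟨⟨_, hclN q⟩, hcl q⟩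
        invFun := fun q => ⟨⟨_, (‹N.Normal›).conj_mem _ (q : N).2 (a : G)⟩, hcl' q⟩
        left_inv := fun q => Subtype.ext (Subtype.ext (by
          show (a : G) * ((a : G)⁻¹ * ((q : N) : G) * (a : G)) * (a : G)⁻¹ = _
          group))
        right_inv := fun q => Subtype.ext (Subtype.ext (by
          show (a : G)⁻¹ * ((a : G) * ((q : N) : G) * (a : G)⁻¹) * (a : G) = _
          group)) }
    refine Fintype.sum_equiv ψ _ _ fun q => ?_
    have e1 : μc (ψ q) = μc q := by
      show ((lam (ι (ψ q)) : ℂˣ) : ℂ) = ((lam (ι q) : ℂˣ) : ℂ)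
      rw [show ι (ψ q) = a⁻¹ * ι q * a from Subtype.ext rfl, map_mul, map_mul, mul_comm, ← mul_assoc,
        ← map_mul, mul_inv_cancel, map_one, one_mul]
    rw [e1]
    refine congrArg (fun z => μc q * conj z) ?_
    show (θ : N → ℂ) _ = (θ : N → ℂ) _
    exact congrArg _ (Subtype.ext (by show (a : G)⁻¹ * ((q : N) : G) * (a : G)⁻¹⁻¹ = _; rw [inv_inv]; rfl))
  let F := {θ : S // σ θ = θ}
  have hFodd : Odd (Nat.card F) := by
    have hσ1 : σ ^ 2 ^ 1 = 1 := by
      ext θ : 1
      rw [pow_one, pow_two, Equiv.Perm.mul_apply, Equiv.Perm.one_apply]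
      exact Function.Involutive.toPerm_involutive _ θ
    have h1 := Equiv.Perm.card_compl_support_modEq (p := 2) hσ1
    rw [show Nat.card F = σ.supportᶜ.card from Nat.subtype_card _ (fun θ => by simp)]
    rw [Nat.odd_iff, h1, show Fintype.card S = Nat.card S from Fintype.card_eq_nat_card]
    exact Nat.odd_iff.1 hScard
  have hactF : ∀ (a : (P : Subgroup G)) (θ : F), gal (act a θ.1.1) = act a θ.1.1 := by
    intro a θ
    have h1 : gal θ.1.1 = θ.1.1 := congrArg Subtype.val θ.2
    refine Subtype.ext (funext fun n => ?_)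
    show (θ.1.1 : N → ℂ) _ = (θ.1.1 : N → ℂ) _
    have h2 := congrFun (congrArg Subtype.val h1)
      ⟨(a : G)⁻¹ * n * (a : G)⁻¹⁻¹, (‹N.Normal›).conj_mem (n : G) n.2 _⟩
    refine (congrArg (θ.1.1 : N → ℂ) (Subtype.ext ?_)).trans h2
    show (a : G)⁻¹ * (n : G) ^ k * (a : G)⁻¹⁻¹ = ((a : G)⁻¹ * (n : G) * (a : G)⁻¹⁻¹) ^ k
    rw [conj_pow]
  letI : MulAction (P : Subgroup G) F :=
    { smul := fun a θ => ⟨⟨act a θ.1.1, by rw [hact_m, hact_deg]; exact θ.1.2⟩, Subtype.ext (hactF a θ)⟩
      one_smul := fun θ => Subtype.ext (Subtype.ext (Subtype.ext (by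
        show conjNormFun N ((1 : (P : Subgroup G)) : G)⁻¹ (θ.1.1 : N → ℂ) = _
        rw [OneMemClass.coe_one, inv_one, conjNormFun_one])))
      mul_smul := fun a b θ => Subtype.ext (Subtype.ext (Subtype.ext (by
        show conjNormFun N ((a * b : (P : Subgroup G)) : G)⁻¹ (θ.1.1 : N → ℂ) =
          conjNormFun N (a : G)⁻¹ (conjNormFun N (b : G)⁻¹ (θ.1.1 : N → ℂ))
        rw [Subgroup.coe_mul, _root_.mul_inv_rev, conjNormFun_mul]))) }
  obtain ⟨θF, hθF⟩ := P.2.nonempty_fixed_point_of_prime_not_dvd_card F (by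
    rw [← even_iff_two_dvd, Nat.not_even_iff_odd]; exact hFodd)
  set θ : Cfsg.IrrCharacter N := θF.1.1 with hθdef
  obtain ⟨hmodd, hdodd⟩ := θF.1.2
  have hθgal : ∀ n : N, (θ : N → ℂ) (n ^ k) = (θ : N → ℂ) n := fun n =>
    congrFun (congrArg Subtype.val (congrArg Subtype.val θF.2)) n
  have hθinv : ∀ a ∈ (P : Subgroup G), conjNormFun N a (θ : N → ℂ) = (θ : N → ℂ) := by
    intro a ha
    have h := congrArg (fun f : F => (f.1.1 : N → ℂ)) (hθF ⟨a⁻¹, inv_mem ha⟩)
    have h' : conjNormFun N (a⁻¹)⁻¹ (θ : N → ℂ) = (θ : N → ℂ) := h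
    rwa [inv_inv] at h'
  -- extend to `N P`
  set K : Subgroup G := N ⊔ (P : Subgroup G) with hK
  haveI : Fintype K := Fintype.ofFinite _
  let NK : Subgroup K := N.subgroupOf K
  haveI : Fintype NK := Fintype.ofFinite _
  haveI : NK.Normal := Subgroup.normal_subgroupOf
  let ε : NK ≃* N := Subgroup.subgroupOfEquivOfLe le_sup_left
  set ϑ : NK → ℂ := fun n => (θ : N → ℂ) (ε n) with hϑ
  have hϑi : Cfsg.IsIrrCharacter NK ϑ := isIrrCharacter_comp_surjective θ.2 ε.toMonoidHom ε.surjective
  have hϑinv : ∀ g : K, conjNormFun NK g ϑ = ϑ := by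
    intro g
    have hle : K ≤ inertia N (θ : N → ℂ) :=
      sup_le (le_inertia N (isClassFunction_irr θ.2)) fun a ha => (mem_inertia N).2 (hθinv a ha)
    funext n
    exact (congrArg (θ : N → ℂ) (Subtype.ext rfl)).trans (congrFun ((mem_inertia N).1 (hle g.2)) (ε n))
  obtain ⟨d, ρ, hρ, hρθ⟩ := hϑi
  set δ : NK →* ℂˣ := detHom ρ with hδ
  have hδinv : ∀ (g : K) (n : NK), δ (MulAut.conjNormal g n) = δ n := by
    intro g n
    let ρ' : Representation ℂ NK (Fin d → ℂ) := ρ.comp (MulAut.conjNormal g).toMonoidHom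
    have e : ρ'.character = ρ.character := by
      funext a
      show ρ.character (MulAut.conjNormal g a) = _
      rw [hρθ]
      have := congrFun (hϑinv g) a
      rw [conjNormFun_eq] at this
      exact this
    have h := congrFun ((detChar_eq ρ').symm.trans ((congrArg Cfsg.detChar e).trans (detChar_eq ρ))) n
    exact Units.ext h
  have hδodd : Odd (orderOf δ) := by
    refine hodd.of_dvd_nat (orderOf_dvd_of_pow_eq_one (MonoidHom.ext fun n => ?_))
    let φ : N →* ℂˣ := δ.comp ε.symm.toMonoidHom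
    have e : δ n = Abelianization.lift φ (Abelianization.of (ε n)) := by
      rw [Abelianization.lift_apply_of]
      show δ n = δ (ε.symm (ε n))
      rw [ε.symm_apply_apply]
    rw [MonoidHom.pow_apply, e, ← map_pow, pow_card_eq_one', map_one, MonoidHom.one_apply]
  have hidxK : ∀ t : ℕ, Odd t → NK.index.Coprime t := by
    intro t ht
    have h1 : NK.index ∣ Nat.card (P : Subgroup G) := by
      show N.relIndex (N ⊔ (P : Subgroup G)) ∣ _
      rw [sup_comm, Subgroup.relIndex_sup_right]
      exact Subgroup.index_dvd_card _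
    obtain ⟨e, he⟩ := IsPGroup.iff_card.1 P.2
    rw [he] at h1
    exact Nat.Coprime.coprime_dvd_left h1 ((Nat.coprime_two_left.2 ht).pow_left e)
  obtain ⟨M0, hM0, hM0o, hM0u⟩ := exists_hom_extending_coprime δ hδinv (hidxK _ hδodd)
  have hϑi : Cfsg.IsIrrCharacter NK ϑ := ⟨d, ρ, hρ, hρθ⟩
  have hdeg : ϑ 1 = (Cfsg.charDegree (θ : N → ℂ) : ℂ) := by
    rw [CfsgLib.Blocks.irr_charDegree_cast θ]
    show (θ : N → ℂ) (ε 1) = _
    rw [map_one]
  obtain ⟨η, hη, hηN, hηdet⟩ := exists_extension_det (N := NK) hϑi (fun g n => congrFun (hϑinv g) n)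
    hdeg (hidxK _ hdodd) M0 (fun n => by rw [← hρθ, detChar_eq, hM0])
  have hcopK : k.Coprime (Nat.card K) := hcop.coprime_dvd_right (Subgroup.card_subgroup_dvd_card K)
  have hηk : (fun g : K => η (g ^ k)) = η := by
    refine extension_det_unique (N := NK) hϑi hdeg (hidxK _ hdodd) hη hηN (isIrrCharacter_pow hη hcopK)
      (fun n => ?_) ?_
    · show η (((n : K)) ^ k) = ϑ n
      rw [← Subgroup.coe_pow, hηN, hϑ]
      show (θ : N → ℂ) (ε (n ^ k)) = (θ : N → ℂ) (ε n)
      rw [map_pow, hθgal]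
    · obtain ⟨e, R, hR, hRη⟩ := isIrrCharacter_pow hη hcopK
      obtain ⟨e', R', hR', hRη'⟩ := hη
      -- the determinant of the conjugate is the power of the determinant
      let M1 : K →* ℂˣ := detHom R
      have hM1 : ∀ g : K, M1 g = M0 g ^ k := by
        intro g
        let Y := Subgroup.zpowers g
        let pw : Y →* Y := { toFun := fun a => a ^ k, map_one' := one_pow k,
                             map_mul' := fun a b => (Commute.mul_pow (mul_comm' a b) k) }
        have e1 : Representation.character (R.comp Y.subtype) =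
            Representation.character ((R'.comp Y.subtype).comp pw) := by
          funext a
          show R.character (a : K) = R'.character ((a ^ k : Y) : K)
          rw [hRη, hRη', Subgroup.coe_pow]
        have h := congrFun ((detChar_eq (R.comp Y.subtype)).symm.trans ((congrArg Cfsg.detChar e1).trans
          (detChar_eq ((R'.comp Y.subtype).comp pw)))) ⟨g, Subgroup.mem_zpowers g⟩
        apply Units.ext
        refine h.trans ?_
        show ((detHom R' (g ^ k) : ℂˣ) : ℂ) = _
        have h2 := congrFun ((detChar_eq R').symm.trans ((congrArg Cfsg.detChar hRη').trans hηdet)) g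
        rw [map_pow, Units.val_pow_eq_pow_val, h2, Units.val_pow_eq_pow_val]
      have hM10 : M1 = M0 := by
        refine hM0u M1 (fun n => ?_) (hidxK _ ?_)
        · rw [hM1, ← map_pow, ← Subgroup.coe_pow, hM0, hδ]
          let pw : NK → NK := fun a => a ^ k
          let ρk : Representation ℂ (Subgroup.zpowers n) (Fin d → ℂ) :=
            (ρ.comp (Subgroup.zpowers n).subtype).comp
              { toFun := fun a => a ^ k, map_one' := one_pow k,
                map_mul' := fun a b => (Commute.mul_pow (mul_comm' a b) k) }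
          have e1 : ρk.character = Representation.character (ρ.comp (Subgroup.zpowers n).subtype) := by
            funext a
            show ρ.character ((a ^ k : Subgroup.zpowers n) : NK) = ρ.character (a : NK)
            rw [Subgroup.coe_pow, hρθ]
            show (θ : N → ℂ) (ε ((a : NK) ^ k)) = (θ : N → ℂ) (ε (a : NK))
            rw [map_pow, hθgal]
          have h := congrFun ((detChar_eq ρk).symm.trans ((congrArg Cfsg.detChar e1).trans
            (detChar_eq _))) ⟨n, Subgroup.mem_zpowers n⟩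
          exact Units.ext h
        · refine hδodd.of_dvd_nat (orderOf_dvd_of_pow_eq_one (MonoidHom.ext fun g => ?_))
          rw [MonoidHom.pow_apply, hM1, ← pow_mul, mul_comm, pow_mul, ← hM0o, ← MonoidHom.pow_apply,
            pow_orderOf_eq_one, MonoidHom.one_apply, one_pow]
      show Cfsg.detChar (fun g : K => η (g ^ k)) = Cfsg.detChar η
      rw [← hRη, detChar_eq, hηdet]
      exact funext fun g => congrArg Units.val (congrFun (congrArg DFunLike.coe hM10) g)
  -- restrict to `P`
  let jP : (P : Subgroup G) →* K := Subgroup.inclusion le_sup_right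
  set ψ : ↥(P : Subgroup G) → ℂ := fun a => η (jP a) with hψ
  haveI : Fintype (P : Subgroup G) := Fintype.ofFinite _
  have hψc : Cfsg.IsCharacter (P : Subgroup G) ψ := isCharacter_comp (isCharacter_of_irr hη) jP
  have hψreal : ∀ a, conj (ψ a) = ψ a := by
    intro a
    rw [← char_apply_inv hψc]
    have h := congrFun hηk (jP a)
    show η (jP a⁻¹) = η (jP a)
    refine (congrArg η (Subtype.ext ?_)).trans h
    show ((a⁻¹ : (P : Subgroup G)) : G) = ((jP a : K) : G) ^ k
    rw [show ((jP a : K) : G) = (a : G) from rfl, hkinv _ a.2, Subgroup.coe_inv]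
  choose c hc using fun α : Cfsg.IrrCharacter (P : Subgroup G) => classInner_char_nat hψc (isCharacter_of_irr α.2)
  -- the part over `μ`
  let NP : Subgroup (P : Subgroup G) := N.subgroupOf (P : Subgroup G)
  haveI : Fintype NP := Fintype.ofFinite _
  let τ : NP ≃ QN :=
    { toFun := fun a => ⟨⟨((a : (P : Subgroup G)) : G), a.2⟩, (a : (P : Subgroup G)).2⟩
      invFun := fun q => ⟨⟨((q : N) : G), q.2⟩, (q : N).2⟩
      left_inv := fun _ => rfl
      right_inv := fun _ => rfl }
  set μP : NP → ℂ := fun a => μc (τ a) with hμP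
  have hμPlam : ∀ a : NP, μP a = ((lam (a : (P : Subgroup G)) : ℂˣ) : ℂ) := fun a => rfl
  have hμPi : Cfsg.IsIrrCharacter NP μP := isIrrCharacter_linear (lam.comp NP.subtype)
  choose dd hdd using fun α : Cfsg.IrrCharacter (P : Subgroup G) =>
    classInner_char_nat (isCharacter_restrict (isCharacter_of_irr α.2) NP) (isCharacter_of_irr hμPi)
  have hmθ : m θ = ∑ α : Cfsg.IrrCharacter (P : Subgroup G), c α * dd α := by
    apply Nat.cast_injective (R := ℂ)
    rw [Nat.cast_sum, ← hm']
    have e1 : Cfsg.classInner μc (fun q : QN => (θ : N → ℂ) q) =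
        Cfsg.classInner μP (fun a : NP => ψ a) := by
      simp only [Cfsg.classInner, Nat.card_congr τ]
      congr 1
      refine (Fintype.sum_equiv τ _ _ fun a => ?_).symm
      show μc (τ a) * conj (ψ a) = μc (τ a) * conj ((θ : N → ℂ) (τ a : N))
      congr 2
      exact (congrArg η (Subtype.ext rfl : jP (a : (P : Subgroup G)) = ((⟨jP (a : (P : Subgroup G)), a.2⟩ : NK) : K))).trans
        ((hηN ⟨jP (a : (P : Subgroup G)), a.2⟩).trans (congrArg (θ : N → ℂ) (Subtype.ext rfl)))
    have e2 : (fun a : NP => ψ a) = ∑ α : Cfsg.IrrCharacter (P : Subgroup G),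
        (c α : ℂ) • (fun a : NP => (α : ↥(P : Subgroup G) → ℂ) a) := by
      funext a
      have := congrFun (eq_sum_irr (isClassFunction_char hψc)) (a : (P : Subgroup G))
      simpa [hc] using this
    rw [e1, e2, classInner_sum_right]
    refine Finset.sum_congr rfl fun α _ => ?_
    rw [classInner_smul_right, map_natCast, ← classInner_comm, hdd, map_natCast, Nat.cast_mul]
  let bar : Cfsg.IrrCharacter ↥(P : Subgroup G) → Cfsg.IrrCharacter (P : Subgroup G) := fun α =>
    ⟨_, isIrrCharacter_conjChar α.2⟩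
  have hμPr : ∀ a, conj (μP a) = μP a := fun a => hμreal _
  have hcbar : ∀ α, c (bar α) = c α := fun α => by
    apply Nat.cast_injective (R := ℂ)
    rw [← hc, ← Complex.conj_natCast (c α), ← hc]
    simp only [Cfsg.classInner, map_mul, map_inv₀, map_natCast, map_sum, hψreal, Complex.conj_conj, bar]
  have hdbar : ∀ α, dd (bar α) = dd α := fun α => by
    apply Nat.cast_injective (R := ℂ)
    rw [← hdd, ← Complex.conj_natCast (dd α), ← hdd]
    simp only [Cfsg.classInner, map_mul, map_inv₀, map_natCast, map_sum, hμPr, bar]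
  have hzero : ∑ α : Cfsg.IrrCharacter (P : Subgroup G), ((c α * dd α : ℕ) : ZMod 2) = 0 := by
    refine Finset.sum_involution (fun α _ => bar α) (fun α _ => ?_) (fun α _ hne he => ?_)
      (fun α _ => Finset.mem_univ _) (fun α _ => Subtype.ext (funext fun a => Complex.conj_conj _))
    · rw [hcbar, hdbar]; exact CharTwo.add_self_eq_zero _
    · apply hne
      rw [ZMod.natCast_eq_zero_iff_even, Nat.even_mul]
      right
      by_contra hd
      rw [Nat.not_even_iff_odd] at hd
      have hd0 : Cfsg.classInner (fun a : NP => (α : ↥(P : Subgroup G) → ℂ) a) μP ≠ 0 := by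
        rw [hdd]; exact Nat.cast_ne_zero.2 hd.pos.ne'
      have hinv : ∀ g : (P : Subgroup G), conjNormFun NP g μP = μP := fun g => by
        funext a
        show μP ⟨g * a * g⁻¹, _⟩ = μP a
        rw [hμPlam, hμPlam]
        congr 1
        rw [map_mul, map_mul, mul_comm (lam g), map_inv, mul_inv_cancel_right]
      have hcl := clifford_invariant NP α.2 hμPi hd0 hinv
      have h1 := congrFun hcl 1
      simp only [Pi.smul_apply, smul_eq_mul, hdd, Subgroup.coe_one, hμPlam, map_one, Units.val_one,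
        mul_one] at h1
      have hdeg1 : Cfsg.charDegree (α : ↥(P : Subgroup G) → ℂ) = dd α := by
        rw [← CfsgLib.Blocks.irr_charDegree_cast α] at h1
        exact_mod_cast h1
      have h2 : Cfsg.charDegree (α : ↥(P : Subgroup G) → ℂ) ∣ Nat.card (P : Subgroup G) := by
        obtain ⟨m', ρ', hirr, hχ'⟩ := α.2
        haveI := hirr
        have h := finrank_dvd_card ρ'
        have e : (Cfsg.charDegree (α : ↥(P : Subgroup G) → ℂ) : ℂ) = (Module.finrank ℂ (Fin m' → ℂ) : ℂ) := by
          rw [CfsgLib.Blocks.irr_charDegree_cast, ← hχ', Representation.char_one]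
        rwa [Nat.cast_inj.1 e]
      obtain ⟨e, he'⟩ := IsPGroup.iff_card.1 P.2
      rw [he', hdeg1] at h2
      have hd1 : dd α = 1 := Nat.eq_one_of_dvd_coprimes ((Nat.coprime_two_left.2 hd).pow_left e) h2 dvd_rfl
      rw [hd1, Nat.cast_one] at h1
      obtain ⟨lam', hlam'⟩ := exists_hom_of_degree_one (isCharacter_of_irr α.2) h1
      -- a real extension of `μ` is impossible
      obtain ⟨q, hq, y, hy, hqy⟩ : ∃ q ∈ Q, ∃ y ∈ ⁅(P : Subgroup G), (P : Subgroup G)⁆, q * y = x ^ 2 := by
        have h3 := hP x hx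
        haveI : (⁅(P : Subgroup G), (P : Subgroup G)⁆.subgroupOf (P : Subgroup G)).Normal := by
          rw [show ⁅(P : Subgroup G), (P : Subgroup G)⁆.subgroupOf (P : Subgroup G) = commutator (P : Subgroup G) from ?_]
          · infer_instance
          apply Subgroup.map_injective (Subgroup.subtype_injective (P : Subgroup G))
          rw [Subgroup.subgroupOf, Subgroup.map_comap_eq, commutator_def, Subgroup.map_commutator,
            ← MonoidHom.range_eq_map, Subgroup.range_subtype, inf_eq_right]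
          exact Subgroup.commutator_le_self _
        have h4 : (⟨x ^ 2, pow_mem hx 2⟩ : (P : Subgroup G)) ∈
            (Q.subgroupOf (P : Subgroup G) ⊔ ⁅(P : Subgroup G), (P : Subgroup G)⁆.subgroupOf (P : Subgroup G) : Subgroup (P : Subgroup G)) := by
          rw [← Subgroup.subgroupOf_sup inf_le_left (Subgroup.commutator_le_self _)]
          exact h3
        rw [← SetLike.mem_coe, Subgroup.mul_normal] at h4
        obtain ⟨q, hq, y, hy, e⟩ := h4
        exact ⟨q, hq, y, hy, congrArg Subtype.val e⟩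
      have hqP : q ∈ (P : Subgroup G) := (Subgroup.mem_inf.1 hq).1
      have hyP : y ∈ (P : Subgroup G) := Subgroup.commutator_le_self _ hy
      have hval : ∀ φ : (P : Subgroup G) →* ℂˣ, φ (⟨x, hx⟩ ^ 2) = φ ⟨q, hqP⟩ := by
        intro φ
        rw [show (⟨x, hx⟩ : (P : Subgroup G)) ^ 2 = ⟨q, hqP⟩ * ⟨y, hyP⟩ from Subtype.ext hqy.symm,
          map_mul, hPc y hy hyP φ, mul_one]
      have hsame : lam' ⟨q, hqP⟩ = lam ⟨q, hqP⟩ := by
        have hqN : (⟨q, hqP⟩ : (P : Subgroup G)) ∈ NP := (Subgroup.mem_inf.1 hq).2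
        have h5 := congrFun hcl ⟨_, hqN⟩
        simp only [Pi.smul_apply, smul_eq_mul, hdd] at h5
        simp only [hd1, Nat.cast_one, one_mul, hμPlam, hlam'] at h5
        exact Units.ext h5
      have hreal : (lam' ⟨x, hx⟩) ^ 2 = 1 := by
        have h6 := congrFun (congrArg Subtype.val he) ⟨x, hx⟩
        simp only [bar, hlam'] at h6
        have h7 : ((lam' ⟨x, hx⟩ : ℂˣ) : ℂ) ^ 2 = 1 := by
          have h8 := norm_char_le (isCharacter_of_irr α.2) ⟨x, hx⟩
          have hnorm : ‖((lam' ⟨x, hx⟩ : ℂˣ) : ℂ)‖ = 1 := by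
            refine Complex.norm_eq_one_of_pow_eq_one (n := Nat.card (P : Subgroup G)) ?_ Nat.card_pos.ne'
            rw [← Units.val_pow_eq_pow_val, ← map_pow, pow_card_eq_one', map_one, Units.val_one]
          rw [pow_two]
          conv_lhs => arg 1; rw [← h6]
          rw [Complex.conj_mul', hnorm]
          simp
        apply Units.ext
        rw [Units.val_pow_eq_pow_val, h7, Units.val_one]
      apply hlam
      rw [hval, ← hsame, ← hval lam', map_pow, hreal]
  rw [← Nat.cast_sum, ← hmθ, ZMod.natCast_eq_zero_iff_even] at hzero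
  exact Nat.not_even_iff_odd.2 hmodd hzero

end Cfsg.Agent.S4582
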