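import Cfsg.Statements.S4583
import Cfsg.Agent.Lib.Blocks.PrincipalSums
import Cfsg.Agent.Lib.Blocks.RegularParts
import Cfsg.Agent.Lib.Blocks.Covering

set_option autoImplicit false
open Cfsg CfsgLib.CharTheory CfsgLib.Blocks CfsgLib.Blocks.InducedChar CfsgLib.Blocks.RegularParts CfsgLib.Blocks.PrincipalSums
open scoped ComplexConjugate

set_option linter.unusedVariables false

namespace Cfsg.Agent.S4583

/-- Let N be a normal subgroup of the finite group G, p a prime, M a maximal ideal of the algebraic integers containing p, and P a Sylow p-subgroup of G. Let θ be an irreducible character of N of degree prime to p lying in the principal p-block of N, and suppose θ extends to the subgroup NP (some irreducible character of NP restricts to θ). Then some irreducible character χ of G of degree prime to p in the principal p-block of G lies over θ (θ is a constituent of the restriction of χ to N). -/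
theorem result {G : Type*} [Group G] [Finite G] (N : Subgroup G) [N.Normal] (p : ℕ) [Fact p.Prime] (M : Ideal Cfsg.AlgInt) (hM : Cfsg.IsPModular p M) (P : Sylow p G)
    (θ : Cfsg.IrrCharacter N) (hθ : θ ∈ Cfsg.principalBlock M N) (hdeg : ¬ p ∣ Cfsg.charDegree (θ : N → ℂ))
    (hext : ∃ η : Cfsg.IrrCharacter ↥(N ⊔ (P : Subgroup G)), ∀ n : N, (η : ↥(N ⊔ (P : Subgroup G)) → ℂ) (Subgroup.inclusion le_sup_left n) = (θ : N → ℂ) n) :
    ∃ χ : Cfsg.IrrCharacter G, χ ∈ Cfsg.principalBlock M G ∧ ¬ p ∣ Cfsg.charDegree (χ : G → ℂ) ∧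
      haveI := Fintype.ofFinite N; Cfsg.classInner (fun n : N => (χ : G → ℂ) n) (θ : N → ℂ) ≠ 0 := by
  classical
  haveI := Fintype.ofFinite G
  haveI hFN := Fintype.ofFinite N
  haveI := res_isDomain hM
  haveI := res_charP hM
  set H : Subgroup G := N ⊔ (P : Subgroup G) with hH
  haveI : Fintype H := Fintype.ofFinite _
  obtain ⟨η, hη⟩ := hext
  set B := principalBlock M G with hB
  have hBb : IsPBlock M B := principalBlock_isPBlock
  haveI : (N.subgroupOf H).Normal := inferInstance
  haveI : Fintype (N.subgroupOf H) := Fintype.ofFinite _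
  have hidx : ∃ k : ℕ, (N.subgroupOf H).index = p ^ k := by
    obtain ⟨k, hk⟩ := P.2.exists_card_eq
    have hd : (N.subgroupOf H).index ∣ p ^ k := by
      rw [← hk, show (N.subgroupOf H).index = N.relIndex H from rfl, hH, Subgroup.relIndex_sup_left]
      exact Subgroup.relIndex_dvd_card _ _
    obtain ⟨j, -, hj⟩ := (Nat.dvd_prime_pow hM.1).1 hd
    exact ⟨j, hj⟩
  have hη1 : (η : H → ℂ) 1 = (θ : N → ℂ) 1 := by
    rw [← hη 1, map_one]
  set f : H → ℂ := fun h => blockCoeff B (h : G) with hf
  have homega : omega (η : H → ℂ) f = omega (θ : N → ℂ) (fun n : N => blockCoeff B (n : G)) := by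
    rw [omega, omega, hη1]
    congr 1
    rw [← Finset.sum_subset (Finset.subset_univ (Finset.univ.map
      ⟨Subgroup.inclusion (le_sup_left : N ≤ H), Subgroup.inclusion_injective _⟩)) fun h _ hh => ?_,
      Finset.sum_map]
    · refine Finset.sum_congr rfl fun n _ => ?_
      show blockCoeff B _ * (η : H → ℂ) (Subgroup.inclusion le_sup_left n) = _
      rw [hη n]; rfl
    · have h0 : f h = 0 := by
        refine blockCoeff_of_dvd_orderOf hM hBb ?_
        by_contra hr
        apply hh
        have hm := reg_mem_of_index (N := N.subgroupOf H) hM hidx (g := h)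
          (by rwa [← Subgroup.orderOf_coe])
        exact Finset.mem_map.2 ⟨⟨(h : G), hm⟩, Finset.mem_univ _, Subtype.ext rfl⟩
      rw [h0, zero_mul]
  have hcl : IsClassFunction N (fun n : N => blockCoeff B (n : G)) :=
    fun a b => blockCoeff_isClassFunction B (a : G) (b : G)
  have hfm : ∀ n : N, MemLocalRing M (blockCoeff B (n : G)) := fun n => memRing_blockCoeff hM hBb _
  have hcl' : IsClassFunction H f := fun a b => blockCoeff_isClassFunction B (a : G) (b : G)
  have hfm' : ∀ h : H, MemLocalRing M (f h) := fun h => memRing_blockCoeff hM hBb _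
  have hunit : res hM (omega (η : H → ℂ) f) ≠ 0 := by
    rw [homega, ← Zloc_res_congr hM (v := fun φ : IrrCharacter N =>
      omega (φ : N → ℂ) (fun n : N => blockCoeff B (n : G))) (omega_mem_Zloc hM hcl hfm)
      (χ := oneIrr N) (ψ := θ) hθ]
    simp only [omega, oneIrr, mul_one, div_one]
    exact fun h => not_memIdeal_sum hM N ((res_eq_zero_iff hM (memRing_sum hM fun n _ => hfm n)).1 h)
  choose m hm using fun χ : IrrCharacter G =>
    classInner_char_nat (isCharacter_indFun H (isCharacter_of_irr η.2)) (isCharacter_of_irr χ.2)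
  obtain ⟨χ, hχ, hne⟩ : ∃ χ ∈ bset B, (m χ * charDegree (χ : G → ℂ) : AlgInt ⧸ M) ≠ 0 := by
    refine Finset.exists_ne_zero_of_sum_ne_zero ?_
    have hdegsum : ∑ χ ∈ bset B, ((m χ * charDegree (χ : G → ℂ) : ℕ) : ℂ) =
        ((H.index * charDegree (θ : N → ℂ) : ℕ) : ℂ) * omega (η : H → ℂ) f := by
      have e1 := blockPart_indFun_one H η B
      rw [blockPart, finsum_mem_bset, indFun_apply_one, hη1] at e1
      rw [Nat.cast_mul, irr_charDegree_cast, ← e1]
      refine Finset.sum_congr rfl fun χ _ => ?_
      rw [Nat.cast_mul, irr_charDegree_cast, ← hm χ]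
      congr 1
      exact classInner_congr_inst _ _ _ _
    have h1 := congrArg (res hM) hdegsum
    rw [res_sum hM fun χ _ => memRing_natCast hM _, res_mul hM (memRing_natCast hM _)
      (memRing_omega (G := H) hM hcl' hfm' η)] at h1
    simp only [res_natCast] at h1
    simp only [← Nat.cast_mul]
    rw [h1]
    refine mul_ne_zero ?_ hunit
    rw [Ne, CharP.cast_eq_zero_iff _ p, hM.1.dvd_mul]
    refine not_or.2 ⟨fun h => P.not_dvd_index (h.trans (Subgroup.index_dvd_of_le ?_)), hdeg⟩
    exact le_sup_right
  rw [← Nat.cast_mul, Ne, CharP.cast_eq_zero_iff _ p] at hne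
  refine ⟨χ, mem_bset.1 hχ, fun h => hne (h.mul_left _), ?_⟩
  have hm0 : m χ ≠ 0 := fun h => hne (by simp [h])
  have hres := eq_sum_irr (isClassFunction_char (isCharacter_restrict (isCharacter_of_irr χ.2) H))
  have hexp : (fun n : N => (χ : G → ℂ) n) = ∑ φ : IrrCharacter H,
      classInner (fun h : H => (χ : G → ℂ) h) (φ : H → ℂ) •
        (fun n : N => (φ : H → ℂ) (Subgroup.inclusion le_sup_left n)) := by
    funext n
    have h := congrFun hres (Subgroup.inclusion le_sup_left n)
    simp only [Finset.sum_apply, Pi.smul_apply] at h ⊢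
    exact h
  choose a ha using fun φ : IrrCharacter H => classInner_char_nat
    (isCharacter_restrict (isCharacter_of_irr χ.2) H) (isCharacter_of_irr φ.2)
  choose b hb using fun φ : IrrCharacter H => classInner_char_nat
    (isCharacter_comp (isCharacter_of_irr φ.2) (Subgroup.inclusion (le_sup_left : N ≤ H)))
    (isCharacter_of_irr θ.2)
  have hb' : ∀ φ : IrrCharacter H, classInner (fun n : N => (φ : H → ℂ) (Subgroup.inclusion le_sup_left n)) (θ : N → ℂ) = (b φ : ℂ) := hb
  rw [classInner_congr_inst _ hFN, hexp, classInner_sum_left]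
  simp only [classInner_smul_left, ha]
  rw [Finset.sum_congr rfl fun φ _ => by rw [hb' φ, ← Nat.cast_mul], ← Nat.cast_sum, Nat.cast_ne_zero]
  intro h0
  have h1 := (Finset.sum_eq_zero_iff.1 h0) η (Finset.mem_univ _)
  have hbη : b η = 1 := by
    apply Nat.cast_injective (R := ℂ)
    rw [← hb' η, Nat.cast_one, ← classInner_irr_self θ.2]
    congr 1
    exact funext hη
  have haη : a η = m χ := by
    apply Nat.cast_injective (R := ℂ)
    rw [← hm, frobenius_reciprocity H _ (isClassFunction_irr χ.2),
      ← classInner_comm (fun h : H => (χ : G → ℂ) h), ha, map_natCast]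
  rw [hbη, haη, mul_one] at h1
  exact hm0 h1

end Cfsg.Agent.S4583
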