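import Cfsg.Statements.S4586
import Cfsg.Agent.Lib.PGroupFour

set_option autoImplicit false
open Cfsg

namespace Cfsg.Agent.S4586

/-- Let p be a prime, P a finite p-group and N a normal subgroup of P of index p. For x ∈ P write c(x) for the number of elements n of N whose commutator x n x⁻¹ n⁻¹ lies in the derived subgroup N' (so c(x)/#N' is the order of the centralizer of x acting on N/N'). Then [P : P'] = p² if and only if c(x) = p·#N' for every x ∈ P outside N, and also if and only if c(x) = p·#N' for some x ∈ P outside N. -/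
theorem result {P : Type*} [Group P] [Finite P] (p : ℕ) [Fact p.Prime] (hP : IsPGroup p P) (N : Subgroup P) [N.Normal] (hN : N.index = p) :
    ((commutator P).index = p ^ 2 ↔ ∀ x : P, x ∉ N →
        Nat.card {n : N // x * n * x⁻¹ * (n : P)⁻¹ ∈ (commutator N).map N.subtype} = p * Nat.card (commutator N)) ∧
    ((commutator P).index = p ^ 2 ↔ ∃ x : P, x ∉ N ∧
        Nat.card {n : N // x * n * x⁻¹ * (n : P)⁻¹ ∈ (commutator N).map N.subtype} = p * Nat.card (commutator N)) := by
  have key := fun x hx => CfsgLib.PGroupFour.index_commutator_iff_fixed (p := p) N hN x hx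
  refine ⟨⟨fun h x hx => (key x hx).1 h, fun h => ?_⟩, ⟨fun h => ?_, fun ⟨x, hx, h⟩ => (key x hx).2 h⟩⟩
  · obtain ⟨x, -, hx⟩ := SetLike.exists_of_lt (lt_top_iff_ne_top.2 fun e : N = ⊤ => by
      rw [e, Subgroup.index_top] at hN
      exact (Fact.out : p.Prime).one_lt.ne hN)
    exact (key x hx).2 (h x hx)
  · obtain ⟨x, -, hx⟩ := SetLike.exists_of_lt (lt_top_iff_ne_top.2 fun e : N = ⊤ => by
      rw [e, Subgroup.index_top] at hN
      exact (Fact.out : p.Prime).one_lt.ne hN)
    exact ⟨x, hx, (key x hx).1 h⟩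

end Cfsg.Agent.S4586
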