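import Cfsg.Statements.S4588
import Cfsg.Agent.Lib.Blocks.BrauerFeit
import Cfsg.Agent.Lib.Blocks.Principal
import Cfsg.Agent.Lib.Blocks.CentralDefect
-- import your own Cfsg.Agent.* helpers here

set_option autoImplicit false
open Cfsg

namespace Cfsg.Agent.S4588

open CfsgLib.Blocks CfsgLib.CharTheory

set_option linter.style.haveILetI false
set_option linter.unusedSimpArgs false

universe u

open Cfsg
open scoped ComplexConjugate

variable {p : ℕ} {M : Ideal AlgInt} {G : Type u} [Group G] [Fintype G]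

theorem k0_le_sq_of_rank (hM : Cfsg.IsPModular p M) {x : G} {H : Subgroup G} [Fintype H]
    (hH : IsCentr x H) (hord : orderOf x = p) {b : Set (IrrCharacter H)}
    {B : Set (IrrCharacter G)} (hind : IsInducedBlock M H b B) (hdb : blockDefect p b = 2)
    {r : ℕ} (hl : blockRank p b = r + 2)
    [DecidablePred fun χ : IrrCharacter G => dv p (χ : G → ℂ) = minDv p B] :
    ((bset B).filter fun χ : IrrCharacter G => dv p (χ : G → ℂ) = minDv p B).card ≤ p ^ 2 := by
  classical
  haveI : Fact p.Prime := ⟨hM.1⟩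
  have hb := hind.1
  have hk : orderOf x = p ^ 1 := by rw [pow_one, hord]
  have hx : ∃ k : ℕ, orderOf x = p ^ k := ⟨1, hk⟩
  haveI : NeZero (p ^ 1) := ⟨pow_ne_zero _ hM.1.ne_zero⟩
  have hp0 : (p : ℤ) ≠ 0 := by exact_mod_cast hM.1.ne_zero
  set z : H := ⟨x, hH.self_mem⟩ with hz'
  have hzc : z ∈ Subgroup.center H :=
    Subgroup.mem_center_iff.2 fun g => Subtype.ext ((hH g).1 g.2)
  have hzo : orderOf z = p := by rw [hz', ← Subgroup.orderOf_coe]; exact hord
  set T := kerSet z b with hT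
  have hTb : ∀ ψ ∈ T, ψ ∈ b := fun ψ hψ => mem_bset.1 (Finset.mem_filter.1 hψ).1
  have hproj : ∀ φ φ' : IrrCharacter H, ∑ ψ ∈ T, secQ p b φ ψ * secQ p b ψ φ' =
      (p : ℤ) * secQ p b φ φ' := by
    intro φ φ'
    refine mul_left_cancel₀ hp0 ?_
    rw [secQ_proj hM hzc hzo hb φ φ', hdb]
    ring
  have htr : ∑ ψ ∈ T, secQ p b ψ ψ = (p : ℤ) * ((r + 1 + 1 : ℕ) : ℤ) := by
    refine mul_left_cancel₀ hp0 ?_
    rw [secQ_trace_ker hM hzc hzo hb, hdb, hl]
    ring
  have hz0 : ∀ ψ ∈ b, dv p (ψ : H → ℂ) = minDv p b :=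
    height_zero_of_defect_le_two hM hb (by omega)
  have hne : ∀ ψ ∈ T, secQ p b ψ ψ ≠ (p : ℤ) := by
    intro ψ hψ he
    have h1 := hproj ψ ψ
    simp only [secQ_symm hM hb _ ψ] at h1
    rw [← Finset.add_sum_erase _ _ hψ, he] at h1
    have h2 : 1 < T.card := by
      have := blockRank_le_kerSet hM hzc hzo hb
      rw [← hT, hl] at this
      omega
    obtain ⟨ψ', hψ'⟩ : (T.erase ψ).Nonempty := Finset.card_pos.1 (by
      rw [Finset.card_erase_of_mem hψ]; omega)
    have h3 : 0 < ∑ k ∈ T.erase ψ, secQ p b ψ k * secQ p b ψ k :=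
      Finset.sum_pos' (fun k _ => mul_self_nonneg _) ⟨ψ', hψ', mul_self_pos.2 fun e => by
        have h := secQ_not_dvd hM hb (hTb _ hψ) (hTb _ (Finset.mem_of_mem_erase hψ'))
          (hz0 _ (hTb _ hψ)) (hz0 _ (hTb _ (Finset.mem_of_mem_erase hψ')))
        exact h (e ▸ dvd_zero _)⟩
    linarith
  obtain ⟨ξ, hξ, hξ0⟩ := exists_height_zero hM hb
  obtain ⟨a', b', hab⟩ : IsCoprime (secQ p b ξ ξ) (p : ℤ) :=
    ((Nat.prime_iff_prime_int.1 hM.1).coprime_iff_not_dvd.2
      (secQ_not_dvd hM hb hξ hξ hξ0 hξ0)).symm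
  choose E hE using fun φ ψ : IrrCharacter H => secQ_rank_one hM hb hξ φ ψ
  have hone : ∀ φ ψ : IrrCharacter H, secQ p b φ ψ =
      a' * secQ p b φ ξ * secQ p b ψ ξ + (p : ℤ) * (b' * secQ p b φ ψ + a' * E φ ψ) := by
    intro φ ψ
    rw [secQ_symm hM hb ψ ξ]
    linear_combination a' * hE φ ψ - secQ p b φ ψ * hab
  set coef : IrrCharacter G → IrrCharacter H → rootField (p ^ 1) := fun χ φ =>
    ⟨conj (classInner (sec x H (χ : G → ℂ)) (φ : H → ℂ)),
      (conj_galois (NeZero.ne _) ((rootField (p ^ 1)).val) (coeff_props hM hH hk χ φ).1).1⟩ with hcoef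
  set zK : IrrCharacter G → rootField (p ^ 1) := fun χ =>
    ⟨secPair p x b (χ : G → ℂ) (χ : G → ℂ), (secPair_props hM hH hk hb χ χ).1⟩ with hzK
  have hform : ∀ χ : IrrCharacter G, ∀ σ : rootField (p ^ 1) →ₐ[ℚ] ℂ,
      ∑ φ, ∑ φ', conj (σ (coef χ φ)) * (secQ p b φ φ' : ℂ) * σ (coef χ φ') = σ (zK χ) := by
    intro χ σ
    have hc : ∀ φ : IrrCharacter H, ∃ cK : rootField (p ^ 1),
        (cK : ℂ) = classInner (sec x H (χ : G → ℂ)) (φ : H → ℂ) ∧ σ cK = conj (σ (coef χ φ)) :=
      fun φ => by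
        refine ⟨⟨_, (coeff_props hM hH hk χ φ).1⟩, rfl, ?_⟩
        obtain ⟨hc', he⟩ := conj_galois (NeZero.ne _) σ (coeff_props hM hH hk χ φ).1
        rw [show coef χ φ = ⟨_, hc'⟩ from rfl, he, Complex.conj_conj]
    choose cK hcK hσc using hc
    have e : zK χ = ∑ φ, ∑ φ', cK φ * (secQ p b φ φ' : rootField (p ^ 1)) * coef χ φ' := by
      apply (rootField (p ^ 1)).val.injective
      simp only [map_sum, map_mul, map_intCast]
      show secPair p x b (χ : G → ℂ) (χ : G → ℂ) = ∑ φ, ∑ φ', (cK φ : ℂ) * _ * (coef χ φ' : ℂ)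
      simp only [hcK]
      rw [secPair_eq hM hb, ← Finset.sum_subset (Finset.subset_univ (bset b)) fun φ _ hφ =>
        Finset.sum_eq_zero fun φ' _ => by
          rw [secQ_off (fun h => hφ (mem_bset.2 h.1))]; simp]
      refine Finset.sum_congr rfl fun φ _ => ?_
      rw [← Finset.sum_subset (Finset.subset_univ (bset b)) fun φ' _ hφ' => by
          rw [secQ_off (fun h => hφ' (mem_bset.2 h.2))]; simp]
      exact Finset.sum_congr rfl fun φ' _ => by simp only [hcoef]; ring
    rw [e]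
    simp only [map_sum, map_mul, map_intCast, hσc]
  set S0 := (bset B).filter fun χ : IrrCharacter G => dv p (χ : G → ℂ) = minDv p B with hS0
  have hnn : ∀ χ : IrrCharacter G, ∀ σ : rootField (p ^ 1) →ₐ[ℚ] ℂ, 0 ≤ (σ (zK χ)).re := by
    intro χ σ
    rw [← hform χ σ]
    set v : IrrCharacter H → ℂ := fun φ => σ (coef χ φ)
    have e : (p : ℂ) * ∑ φ, ∑ φ', conj (v φ) * (secQ p b φ φ' : ℂ) * v φ' =
        ∑ ψ ∈ T, (Complex.normSq (∑ φ, (secQ p b ψ φ : ℂ) * v φ) : ℂ) := by
      have h1 : ∀ φ φ', (p : ℂ) * (secQ p b φ φ' : ℂ) =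
          ∑ ψ ∈ T, (secQ p b ψ φ : ℂ) * (secQ p b ψ φ' : ℂ) := fun φ φ' => by
        rw [Finset.sum_congr rfl fun ψ _ => show (secQ p b ψ φ : ℂ) * (secQ p b ψ φ' : ℂ) =
          ((secQ p b φ ψ * secQ p b ψ φ' : ℤ) : ℂ) by rw [secQ_symm hM hb φ ψ]; push_cast; ring,
          ← Int.cast_sum, hproj]
        push_cast; ring
      rw [Finset.mul_sum]
      simp only [Finset.mul_sum, ← Complex.mul_conj, map_sum, map_mul, map_intCast, Finset.sum_mul]
      rw [Finset.sum_comm (s := T)]
      refine Finset.sum_congr rfl fun φ _ => ?_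
      rw [Finset.sum_comm (s := T)]
      refine Finset.sum_congr rfl fun φ' _ => ?_
      rw [show (p : ℂ) * (conj (v φ) * (secQ p b φ φ' : ℂ) * v φ') =
        conj (v φ) * ((p : ℂ) * (secQ p b φ φ' : ℂ)) * v φ' by ring, h1, Finset.mul_sum,
        Finset.sum_mul]
      exact Finset.sum_congr rfl fun ψ _ => by ring
    have h2 := congrArg Complex.re e
    rw [← Complex.ofReal_sum, Complex.ofReal_re, Complex.mul_re, Complex.natCast_re,
      Complex.natCast_im, zero_mul, sub_zero] at h2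
    refine (mul_nonneg_iff_of_pos_left (show (0 : ℝ) < p by exact_mod_cast hM.1.pos)).1 ?_
    rw [h2]
    exact Finset.sum_nonneg fun ψ _ => Complex.normSq_nonneg _
  have hlow : ∀ χ ∈ S0,
      ((r + 1 + 1 : ℕ) : ℝ) * Fintype.card (rootField (p ^ 1) →ₐ[ℚ] ℂ) ≤
        ∑ σ : rootField (p ^ 1) →ₐ[ℚ] ℂ, (σ (zK χ)).re := by
    intro χ hχ
    have hzne : secPair p x b (χ : G → ℂ) (χ : G → ℂ) ≠ 0 := by
      obtain ⟨hχ, hh⟩ := Finset.mem_filter.1 hχ
      intro h
      exact (secPair_res_ne hM hH hx hind (mem_bset.1 hχ) (mem_bset.1 hχ) hh hh).2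
        (by rw [h, res_zero])
    have := RankOne.form_lower_bound p hM.1.ne_zero T (secQ p b) (secQ_symm hM hb) hproj htr hne
      a' (fun φ => secQ p b φ ξ) (fun φ ψ => b' * secQ p b φ ψ + a' * E φ ψ) hone (coef χ)
      (fun φ => (coeff_props hM hH hk χ φ).2.map ((Complex.conjAe.toAlgHom).restrictScalars ℤ))
      (by
        have h := hform χ (rootField (p ^ 1)).val
        intro h0
        exact hzne (h.symm.trans h0))
    simpa only [hform] using this
  have hsum : ∀ σ : rootField (p ^ 1) →ₐ[ℚ] ℂ,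
      ∑ χ ∈ bset B, (σ (zK χ)).re = ((p ^ 2 * (r + 1 + 1) : ℕ) : ℝ) := by
    intro σ
    have e : ∑ χ ∈ bset B, zK χ = ((p ^ 2 * (r + 1 + 1) : ℕ) : rootField (p ^ 1)) := by
      apply (rootField (p ^ 1)).val.injective
      rw [map_sum, map_natCast]
      show ∑ χ ∈ bset B, secPair p x b (χ : G → ℂ) (χ : G → ℂ) = _
      rw [sum_secPair_diag hM hH hx hind, hdb, hl]
      push_cast
      ring
    have h := congrArg σ e
    rw [map_sum, map_natCast] at h
    rw [← Complex.re_sum, h, Complex.natCast_re]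
  have hN : (0 : ℝ) < ((r + 1 + 1 : ℕ) : ℝ) * Fintype.card (rootField (p ^ 1) →ₐ[ℚ] ℂ) :=
    mul_pos (by positivity)
      (by exact_mod_cast Fintype.card_pos_iff.2 ⟨(rootField (p ^ 1)).val⟩)
  have h1 := (Finset.sum_le_sum hlow).trans
    (Finset.sum_le_sum_of_subset_of_nonneg (Finset.filter_subset _ _)
      fun χ _ _ => Finset.sum_nonneg fun σ _ => hnn χ σ)
  rw [Finset.sum_const, nsmul_eq_mul, Finset.sum_comm, Finset.sum_congr rfl fun σ _ => hsum σ,
    Finset.sum_const, nsmul_eq_mul, Finset.card_univ] at h1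
  have h2 : (S0.card : ℝ) * (((r + 1 + 1 : ℕ) : ℝ) *
      Fintype.card (rootField (p ^ 1) →ₐ[ℚ] ℂ)) ≤ ((p ^ 2 : ℕ) : ℝ) * (((r + 1 + 1 : ℕ) : ℝ) *
      Fintype.card (rootField (p ^ 1) →ₐ[ℚ] ℂ)) := by
    refine h1.trans (le_of_eq ?_)
    push_cast
    ring
  exact_mod_cast le_of_mul_le_mul_right h2 hN


theorem dv_one {K : Type*} [Group K] [Fintype K] (p : ℕ) :
    dv p ((oneIrr K : IrrCharacter K) : K → ℂ) = 0 := by
  simp [dv, charDegree, oneIrr]


/-- Let G be a finite group, p a prime and M a maximal ideal of the algebraic integers containing p. If some p-element x of G (possibly x = 1) has centralizer whose order has p-part at most p², then the principal p-block of G contains at most p² irreducible characters of degree prime to p. -/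
theorem result {G : Type*} [Group G] [Finite G] (p : ℕ) [Fact p.Prime] (M : Ideal Cfsg.AlgInt) (hM : Cfsg.IsPModular p M)
    (hx : ∃ x : G, (∃ k : ℕ, orderOf x = p ^ k) ∧ (Nat.card (Subgroup.centralizer ({x} : Set G))).factorization p ≤ 2) :
    Nat.card {χ : Cfsg.IrrCharacter G // χ ∈ Cfsg.principalBlock M G ∧ ¬ p ∣ Cfsg.charDegree (χ : G → ℂ)} ≤ p ^ 2 := by
  classical
  haveI := Fintype.ofFinite G
  obtain ⟨x, ⟨j, hj⟩, hx2⟩ := hx
  set H := Subgroup.centralizer ({x} : Set G) with hHdef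
  haveI : Fintype H := Fintype.ofFinite H
  have hH : IsCentr x H := isCentr_singleton x
  set B := Cfsg.principalBlock M G with hB
  set b := Cfsg.principalBlock M H with hbdef
  have hind : Cfsg.IsInducedBlock M H b B := by
    have h : oneIrr H ∈ overBlocks M H B := by
      rw [hB, overBlocks_principal hM hH ⟨j, hj⟩]; exact oneIrr_mem hM
    exact h
  have hmin : minDv p B = 0 := Nat.le_zero.1 ((minDv_le (oneIrr_mem hM)).trans (le_of_eq (dv_one p)))
  have hdef : ∀ (K : Type _) [Group K] [Fintype K],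
      blockDefect p (Cfsg.principalBlock M K) = (Nat.card K).factorization p := fun K _ _ => by
    rw [blockDefect_eq, Nat.le_zero.1 ((minDv_le (oneIrr_mem hM)).trans (le_of_eq (dv_one p)))]
    rfl
  set S0 := (bset B).filter fun χ : IrrCharacter G => dv p (χ : G → ℂ) = minDv p B with hS0
  have hcard : Nat.card {χ : Cfsg.IrrCharacter G // χ ∈ B ∧ ¬ p ∣ Cfsg.charDegree (χ : G → ℂ)} = S0.card := by
    rw [Nat.subtype_card]
    intro χ
    rw [hS0, Finset.mem_filter, mem_bset, hmin, dv]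
    refine and_congr_right fun _ => ⟨fun h h' => ?_, fun h => Nat.factorization_eq_zero_of_not_dvd h⟩
    rw [Nat.factorization_eq_zero_iff] at h
    rcases h with h | h | h
    · exact h (Fact.out : p.Prime)
    · exact h h'
    · exact (irr_charDegree_pos χ).ne' h
  rw [hcard]
  -- the general bound by the rank
  have hgen : S0.card * S0.card ≤ p ^ (2 * blockDefect p b) * blockRank p b := by
    refine le_of_eq_of_le ?_ (weighted_pairs_le hM hH ⟨j, hj⟩ hind (S0 ×ˢ S0)
      (Finset.product_subset_product (Finset.filter_subset _ _) (Finset.filter_subset _ _))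
      (fun _ => 0) fun i hi => ?_)
    · simp only [pow_zero, one_pow, Finset.sum_const, smul_eq_mul, mul_one, Finset.card_product]
    · obtain ⟨hi1, hi2⟩ := Finset.mem_product.1 hi
      obtain ⟨h1, h1'⟩ := Finset.mem_filter.1 hi1
      obtain ⟨h2, h2'⟩ := Finset.mem_filter.1 hi2
      obtain ⟨-, hne⟩ := secPair_res_ne hM hH ⟨j, hj⟩ hind (mem_bset.1 h1) (mem_bset.1 h2) h1' h2'
      exact ⟨_, by rw [pow_zero, one_mul], (secPair_props hM hH hj hind.1 i.1 i.2).2,
        fun h => hne (by rw [h, res_zero])⟩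
  have hq : blockDefect p b = (Nat.card H).factorization p := hdef H
  have hsq : blockRank p b = 1 → S0.card ≤ p ^ 2 := fun h => by
    rw [h, mul_one, two_mul, pow_add] at hgen
    exact (Nat.mul_self_le_mul_self_iff.1 hgen).trans
      (Nat.pow_le_pow_right (Fact.out : p.Prime).pos (hq.trans_le hx2))
  rcases Nat.eq_zero_or_pos j with rfl | hj0
  · -- the identity element
    have h1 : x = 1 := orderOf_eq_one_iff.1 (by rw [hj, pow_zero])
    have hHG : Nat.card H = Nat.card G := by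
      rw [Subgroup.card_eq_iff_eq_top]
      exact eq_top_iff.2 fun g _ => (hH g).2 (by rw [h1]; exact Commute.one_right g)
    have h := card_le_bfBound hM 2 G B principalBlock_isPBlock (by rw [hdef G, ← hHG]; exact hx2)
    refine le_trans ?_ (h.trans (le_of_eq (by simp [bfBound])))
    rw [← card_bset]
    exact Finset.card_filter_le _ _
  set z : H := ⟨x, hH.self_mem⟩ with hzdef
  have hzc : z ∈ Subgroup.center H :=
    Subgroup.mem_center_iff.2 fun g => Subtype.ext ((hH g).1 g.2)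
  have hzo : orderOf z = p ^ j := by rw [hzdef, ← Subgroup.orderOf_coe]; exact hj
  have hjq : j ≤ (Nat.card H).factorization p := by
    rw [← (Fact.out : p.Prime).pow_dvd_iff_le_factorization Nat.card_pos.ne', ← hzo]
    exact orderOf_dvd_natCard z
  rcases Nat.lt_or_ge j ((Nat.card H).factorization p) with hlt | hge
  · have hj1 : j = 1 := by omega
    by_cases hl : blockRank p b ≤ 1
    · rcases Nat.le_one_iff_eq_zero_or_eq_one.1 hl with h | h
      · rw [h, mul_zero] at hgen
        have : S0.card = 0 := by nlinarith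
        omega
      · exact hsq h
    · refine k0_le_sq_of_rank hM hH (by rw [hj, hj1, pow_one]) hind ?_ (r := blockRank p b - 2) (by omega)
      omega
  · haveI : (Subgroup.zpowers z).Normal := normal_of_central (Subgroup.zpowers_le.2 hzc)
    refine hsq (blockRank_pcent hM (P := Subgroup.zpowers z) (IsPGroup.of_card (n := j) ?_)
      (sup_cent_of_central (Subgroup.zpowers_le.2 hzc)) hind.1 ?_)
    · rw [Nat.card_zpowers, hzo]
    · rw [Nat.card_zpowers, hzo, hq, show j = (Nat.card H).factorization p by omega]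

end Cfsg.Agent.S4588
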