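import Cfsg.Statements.S4604
import Cfsg.Agent.Lib.CharTheory.More
import Cfsg.Agent.Lib.CharTheory.PowerMap
import Mathlib.GroupTheory.Sylow
import Mathlib.Tactic.Group

set_option autoImplicit false
open Cfsg

namespace Cfsg.Agent.S4604

theorem pow_prime_power_cancel {G : Type*} [Group G] [Finite G] {p n : ℕ} (hp : p.Prime) {a b : G}
    (ha : ¬ p ∣ orderOf a) (hb : ¬ p ∣ orderOf b) (h : IsConj (a ^ p ^ n) (b ^ p ^ n)) : IsConj a b := by
  obtain ⟨k, hk⟩ := isConj_iff.mp h
  refine isConj_iff.mpr ⟨k, ?_⟩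
  have hord : orderOf (k * a * k⁻¹) = orderOf a := (MulAut.conj k).orderOf_eq a
  have hcop : Nat.Coprime (p ^ n) (Nat.lcm (orderOf a) (orderOf b)) := by
    refine ((hp.coprime_iff_not_dvd).mpr fun hd => ?_).pow_left n
    exact (hp.dvd_mul.mp (hd.trans (Nat.lcm_dvd_mul _ _))).elim ha hb
  obtain ⟨j, hj⟩ : ∃ j, p ^ n * j ≡ 1 [MOD Nat.lcm (orderOf a) (orderOf b)] := by
    rcases Nat.lt_or_ge 1 (Nat.lcm (orderOf a) (orderOf b)) with h1 | h1
    · obtain ⟨j, -, hj⟩ := Nat.exists_mul_mod_eq_one_of_coprime hcop h1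
      exact ⟨j, by rw [Nat.ModEq, hj, Nat.mod_eq_of_lt h1]⟩
    · refine ⟨0, ?_⟩
      have : Nat.lcm (orderOf a) (orderOf b) = 1 := by
        have := Nat.lcm_pos (orderOf_pos a) (orderOf_pos b); omega
      rw [this]; exact Nat.modEq_one
  have e : ∀ c : G, orderOf c ∣ Nat.lcm (orderOf a) (orderOf b) → (c ^ p ^ n) ^ j = c := fun c hc => by
    rw [← pow_mul]
    conv_rhs => rw [← pow_one c]
    exact pow_eq_pow_iff_modEq.mpr (hj.of_dvd hc)
  rw [← e (k * a * k⁻¹) (hord ▸ Nat.dvd_lcm_left _ _), ← e b (Nat.dvd_lcm_right _ _), conj_pow, hk]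

/-- Let G be a finite group, p a prime and p^a the p-part of the order of G. Let x, y ∈ G and let x′, y′ be their p-regular parts: x′ has order prime to p, commutes with x·x′⁻¹, and x·x′⁻¹ has p-power order (likewise for y). Then x′ and y′ are conjugate in G if and only if for every irreducible character χ of G the algebraic integer χ(x)^(p^a) − χ(y)^(p^a) is p times an algebraic integer. -/
theorem result {G : Type*} [Group G] [Finite G] (p : ℕ) [Fact p.Prime] (x y x' y' : G)
    (hx : (∃ k : ℕ, orderOf (x * x'⁻¹) = p ^ k) ∧ Commute (x * x'⁻¹) x' ∧ ¬ p ∣ orderOf x')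
    (hy : (∃ k : ℕ, orderOf (y * y'⁻¹) = p ^ k) ∧ Commute (y * y'⁻¹) y' ∧ ¬ p ∣ orderOf y') :
    IsConj x' y' ↔ ∀ χ : Cfsg.IrrCharacter G, ∃ γ : Cfsg.AlgInt,
      (χ : G → ℂ) x ^ (p ^ (Nat.card G).factorization p) - (χ : G → ℂ) y ^ (p ^ (Nat.card G).factorization p) = (p : ℂ) * (γ : ℂ) := by
  classical
  have := Fintype.ofFinite G
  have hp : p.Prime := Fact.out
  set n := (Nat.card G).factorization p with hn
  set q := p ^ n with hq
  -- the congruence in terms of the `p'`-parts
  have hpow : ∀ a a' : G, (∃ k : ℕ, orderOf (a * a'⁻¹) = p ^ k) → Commute (a * a'⁻¹) a' →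
      a ^ q = a' ^ q := by
    rintro a a' ⟨k, hk⟩ hc
    have h1 : (a * a'⁻¹) ^ q = 1 := by
      refine orderOf_dvd_iff_pow_eq_one.mp ?_
      rw [hk]
      exact pow_dvd_pow p ((hp.pow_dvd_iff_le_factorization Nat.card_pos.ne').mp (hk ▸ orderOf_dvd_natCard _))
    have h2 := hc.mul_pow q
    rw [inv_mul_cancel_right, h1, one_mul] at h2
    exact h2
  have hxq := hpow x x' hx.1 hx.2.1
  have hyq := hpow y y' hy.1 hy.2.1
  let mkA : ∀ χ : Cfsg.IrrCharacter G, G → Cfsg.AlgInt := fun χ g =>
    ⟨(χ : G → ℂ) g, CfsgLib.CharTheory.isIntegral_of_char (CfsgLib.CharTheory.isCharacter_of_irr χ.2) g⟩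
  set π := Ideal.Quotient.mk (Ideal.span {((p : ℕ) : Cfsg.AlgInt)})
  have hfrob : ∀ (χ : Cfsg.IrrCharacter G) (g : G), π (mkA χ (g ^ q)) = π (mkA χ g ^ q) := fun χ g => by
    rw [map_pow]
    exact CfsgLib.CharTheory.algInt_frob (CfsgLib.CharTheory.isCharacter_of_irr χ.2) g n _ _ rfl rfl
  have hiff : ∀ (A B : Cfsg.AlgInt), π A = π B ↔ ∃ γ : Cfsg.AlgInt, (A : ℂ) - B = (p : ℂ) * γ := by
    intro A B
    rw [Ideal.Quotient.eq, Ideal.mem_span_singleton]
    constructor
    · rintro ⟨γ, hγ⟩
      refine ⟨γ, ?_⟩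
      have := congrArg (fun z : Cfsg.AlgInt => (z : ℂ)) hγ
      push_cast at this
      exact this
    · rintro ⟨γ, hγ⟩
      exact ⟨γ, Subtype.ext (by push_cast; exact hγ)⟩
  constructor
  · intro hc χ
    have h1 : π (mkA χ x ^ q) = π (mkA χ y ^ q) := by
      rw [← hfrob, ← hfrob, hxq, hyq]
      obtain ⟨k, hk⟩ := isConj_iff.mp hc
      congr 1
      exact Subtype.ext ((CfsgLib.CharTheory.isClassFunction_irr χ.2 (x' ^ q) k).symm.trans
        (by rw [← hk, conj_pow]))
    obtain ⟨γ, hγ⟩ := (hiff _ _).mp h1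
    exact ⟨γ, by simpa [mkA] using hγ⟩
  · intro h
    refine pow_prime_power_cancel hp hx.2.2 hy.2.2 (n := n) ?_
    set u := x' ^ q
    set v := y' ^ q
    have hu : ¬ p ∣ orderOf u := fun hd => hx.2.2 (hd.trans (orderOf_pow_dvd q))
    have hv : ¬ p ∣ orderOf v := fun hd => hy.2.2 (hd.trans (orderOf_pow_dvd q))
    have hdiff : ∀ χ : Cfsg.IrrCharacter G, ∃ γ : Cfsg.AlgInt,
        (χ : G → ℂ) u - (χ : G → ℂ) v = (p : ℂ) * γ := fun χ => by
      obtain ⟨γ, hγ⟩ := h χ
      have h1 : π (mkA χ x ^ q) = π (mkA χ y ^ q) := (hiff _ _).mpr ⟨γ, by simpa [mkA] using hγ⟩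
      rw [← hfrob, ← hfrob, hxq, hyq] at h1
      exact (hiff _ _).mp h1
    by_contra hnc
    set C := Subgroup.centralizer ({u} : Set G) with hC
    let R : Sylow p C := default
    have hzord : ∀ z : (R : Subgroup C), ∀ a : G, IsConj a (u * ((z : C) : G)) → ¬ p ∣ orderOf a → z = 1 := by
      intro z a hconj ha
      obtain ⟨k, hk⟩ := IsPGroup.iff_orderOf.mp R.isPGroup' z
      rw [← Subgroup.orderOf_coe, ← Subgroup.orderOf_coe] at hk
      have hcu : Commute u ((z : C) : G) := (Subgroup.mem_centralizer_singleton_iff.mp (z : C).2).symm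
      obtain ⟨c, hc⟩ := isConj_iff.mp hconj
      have ho : orderOf a = orderOf u * p ^ k := by
        rw [← (MulAut.conj c).orderOf_eq a, MulAut.conj_apply, hc,
          hcu.orderOf_mul_eq_mul_orderOf_of_coprime (by
            rw [hk]; exact ((hp.coprime_iff_not_dvd.mpr hu).symm).pow_right k), hk]
      rcases Nat.eq_zero_or_pos k with rfl | hk0
      · rw [pow_zero, orderOf_eq_one_iff] at hk
        exact Subtype.ext (Subtype.ext hk)
      · exact absurd (ho ▸ (dvd_pow_self p hk0.ne').mul_left _) ha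
    let Ψ : G → ℂ := fun g => (Nat.card (R : Subgroup C) : ℂ)⁻¹ *
      ∑ w : G, ∑ z : (R : Subgroup C), if w * g * w⁻¹ = u * ((z : C) : G) then 1 else 0
    have hΨc : Cfsg.IsClassFunction G Ψ := fun g k => by
      simp only [Ψ]
      congr 1
      exact Fintype.sum_equiv (Equiv.mulRight k) _ _ fun w => Finset.sum_congr rfl fun z _ =>
        if_congr (by rw [show (Equiv.mulRight k) w = w * k from rfl,
          show w * k * g * (w * k)⁻¹ = w * (k * g * k⁻¹) * w⁻¹ by group]) rfl rfl
    have hΨv : Ψ v = 0 := by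
      simp only [Ψ]
      rw [Finset.sum_eq_zero fun w _ => Finset.sum_eq_zero fun z _ => if_neg fun he => ?_, mul_zero]
      have hconj : IsConj v (u * ((z : C) : G)) := isConj_iff.mpr ⟨w, he⟩
      rw [hzord z v hconj hv] at hconj
      simp only [OneMemClass.coe_one, mul_one] at hconj
      exact hnc hconj.symm
    have hRdvd : Nat.card (R : Subgroup C) * (R : Subgroup C).index = Nat.card C := Subgroup.card_mul_index _
    have hΨu : Ψ u = ((R : Subgroup C).index : ℂ) := by
      simp only [Ψ]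
      have h1 : ∀ (w : G) (z : (R : Subgroup C)),
          (if w * u * w⁻¹ = u * ((z : C) : G) then (1 : ℂ) else 0) =
          if z = 1 then (if w ∈ C then 1 else 0) else 0 := by
        intro w z
        by_cases hz : z = 1
        · subst hz
          simp only [OneMemClass.coe_one, mul_one, if_true]
          exact if_congr (by rw [Subgroup.mem_centralizer_singleton_iff, mul_inv_eq_iff_eq_mul]) rfl rfl
        · rw [if_neg hz, if_neg fun he => hz (hzord z u (isConj_iff.mpr ⟨w, he⟩) hu)]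
      simp only [h1, Finset.sum_ite_eq', Finset.mem_univ, if_true]
      rw [Finset.sum_boole, ← Fintype.card_subtype, ← Nat.card_eq_fintype_card,
        show Nat.card {w : G // w ∈ C} = Nat.card C from rfl, ← hRdvd, Nat.cast_mul, ← mul_assoc,
        inv_mul_cancel₀ (Nat.cast_ne_zero.mpr Nat.card_pos.ne'), one_mul]
    -- integrality of the coefficients
    have hcoef : ∀ χ : Cfsg.IrrCharacter G, IsIntegral ℤ (Cfsg.classInner Ψ (χ : G → ℂ)) := by
      intro χ
      have e : Cfsg.classInner Ψ (χ : G → ℂ) = (Nat.card (R : Subgroup C) : ℂ)⁻¹ *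
          ∑ z : (R : Subgroup C), (starRingEnd ℂ) ((χ : G → ℂ) (u * ((z : C) : G))) := by
        have h1 : ∀ (w : G) (z : (R : Subgroup C)), ∑ g : G,
            (if w * g * w⁻¹ = u * ((z : C) : G) then (1 : ℂ) else 0) * (starRingEnd ℂ) ((χ : G → ℂ) g) =
            (starRingEnd ℂ) ((χ : G → ℂ) (u * ((z : C) : G))) := by
          intro w z
          rw [Finset.sum_eq_single (w⁻¹ * (u * ((z : C) : G)) * w) (fun g _ hne => by
            rw [if_neg fun he => hne (by rw [← he]; group), zero_mul]) (by simp),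
            if_pos (by group), one_mul]
          congr 1
          have := CfsgLib.CharTheory.isClassFunction_irr χ.2 (u * ((z : C) : G)) w⁻¹
          rwa [inv_inv] at this
        have h2 : ∀ g : G, Ψ g * (starRingEnd ℂ) ((χ : G → ℂ) g) = (Nat.card (R : Subgroup C) : ℂ)⁻¹ *
            ∑ w : G, ∑ z : (R : Subgroup C), (if w * g * w⁻¹ = u * ((z : C) : G) then (1 : ℂ) else 0) *
              (starRingEnd ℂ) ((χ : G → ℂ) g) := fun g => by
          show _ * _ * _ = _
          rw [mul_assoc, Finset.sum_mul]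
          simp_rw [Finset.sum_mul]
        simp only [Cfsg.classInner, h2]
        rw [← Finset.mul_sum, Finset.sum_comm, Finset.sum_congr rfl fun w _ => by
          rw [Finset.sum_comm, Finset.sum_congr rfl fun z _ => h1 w z]]
        rw [Finset.sum_const, Finset.card_univ, nsmul_eq_mul, ← Nat.card_eq_fintype_card]
        field_simp
      let A := Subgroup.zpowers u
      let φ : A × (R : Subgroup C) →* G :=
        { toFun := fun z => (z.1 : G) * ((z.2 : C) : G)
          map_one' := by simp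
          map_mul' := fun z w => by
            have hc : Commute ((z.2 : C) : G) (w.1 : G) := by
              obtain ⟨i, hi⟩ := Subgroup.mem_zpowers_iff.mp w.1.2
              rw [← hi]
              exact Commute.zpow_right (Subgroup.mem_centralizer_singleton_iff.mp (z.2 : C).2) i
            show (z.1 : G) * (w.1 : G) * (((z.2 : C) : G) * ((w.2 : C) : G)) = _
            rw [mul_assoc (z.1 : G), ← mul_assoc (w.1 : G), ← hc.eq]
            simp only [mul_assoc] }
      have := Fintype.ofFinite (A × (R : Subgroup C))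
      let Nr : Subgroup (A × (R : Subgroup C)) := (⊥ : Subgroup A).prod ⊤
      have := Fintype.ofFinite Nr
      have hchar := CfsgLib.CharTheory.isCharacter_cosetAvg Nr (CfsgLib.CharTheory.isCharacter_comp
        (CfsgLib.CharTheory.isCharacter_conj (CfsgLib.CharTheory.isCharacter_of_irr χ.2)) φ)
      have hint := CfsgLib.CharTheory.isIntegral_of_char hchar (⟨u, Subgroup.mem_zpowers u⟩, 1)
      let er : (R : Subgroup C) ≃ Nr :=
        { toFun := fun z => ⟨(1, z), Subgroup.mem_prod.mpr ⟨Subgroup.mem_bot.mpr rfl, Subgroup.mem_top z⟩⟩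
          invFun := fun z => z.1.2
          left_inv := fun z => rfl
          right_inv := fun z => Subtype.ext (Prod.ext (Subgroup.mem_bot.mp (Subgroup.mem_prod.mp z.2).1).symm rfl) }
      rw [e]
      convert hint using 1
      simp only [CfsgLib.CharTheory.cosetAvg]
      rw [Nat.card_congr er]
      congr 1
      refine Fintype.sum_equiv er _ _ fun z => ?_
      simp only [er, φ, Function.comp_apply, Equiv.coe_fn_mk, MonoidHom.coe_mk, OneHom.coe_mk,
        Prod.fst_mul, Prod.snd_mul, one_mul, mul_one]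
    choose γ hγ using hdiff
    have hkey : ((R : Subgroup C).index : ℂ) =
        (p : ℂ) * ∑ χ : Cfsg.IrrCharacter G, Cfsg.classInner Ψ (χ : G → ℂ) * (γ χ : ℂ) := by
      have h1 := congrFun (CfsgLib.CharTheory.eq_sum_irr hΨc) u
      have h2 := congrFun (CfsgLib.CharTheory.eq_sum_irr hΨc) v
      simp only [Finset.sum_apply, Pi.smul_apply, smul_eq_mul] at h1 h2
      rw [hΨu] at h1; rw [hΨv] at h2
      calc ((R : Subgroup C).index : ℂ)
          = ∑ χ : Cfsg.IrrCharacter G, Cfsg.classInner Ψ (χ : G → ℂ) * (χ : G → ℂ) u -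
            ∑ χ : Cfsg.IrrCharacter G, Cfsg.classInner Ψ (χ : G → ℂ) * (χ : G → ℂ) v := by
              rw [← h1, ← h2, sub_zero]
        _ = _ := by
              rw [← Finset.sum_sub_distrib, Finset.mul_sum]
              exact Finset.sum_congr rfl fun χ _ => by rw [← mul_sub, hγ]; ring
    have hint : IsIntegral ℤ ((((R : Subgroup C).index : ℚ) / (p : ℚ) : ℚ) : ℂ) := by
      push_cast
      rw [hkey, mul_div_cancel_left₀ _ (Nat.cast_ne_zero.mpr hp.ne_zero)]
      exact IsIntegral.sum _ fun χ _ => (hcoef χ).mul (γ χ).2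
    obtain ⟨m, hm⟩ := CfsgLib.CharTheory.exists_int_of_isIntegral_ratCast hint
    rw [div_eq_iff (Nat.cast_ne_zero.mpr hp.ne_zero)] at hm
    have hm' : ((R : Subgroup C).index : ℤ) = (p : ℤ) * m := by
      rw [mul_comm]; exact_mod_cast hm
    exact R.not_dvd_index (Int.natCast_dvd_natCast.mp (Dvd.intro m hm'.symm))

end Cfsg.Agent.S4604
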