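import Cfsg.Statements.S4607
import Cfsg.Agent.Lib.Blocks.TwoChars
import Cfsg.Agent.Lib.Blocks.MinMax

set_option autoImplicit false
open Cfsg

namespace Cfsg.Agent.S4607

/-- Let G be a finite group, p a prime, M a maximal ideal of the algebraic integers containing p, and B a p-block of G with defect group D. Then B contains exactly two irreducible characters if and only if D has order 2. -/
theorem result {G : Type*} [Group G] [Finite G] (p : ℕ) [Fact p.Prime] (M : Ideal Cfsg.AlgInt) (hM : Cfsg.IsPModular p M) (B : Set (Cfsg.IrrCharacter G)) (hB : Cfsg.IsPBlock M B) (D : Subgroup G) (hD : Cfsg.IsDefectGroup p M B D) : Nat.card B = 2 ↔ Nat.card D = 2 := by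
  classical
  haveI := Fintype.ofFinite G
  have hc : Nat.card B = (CfsgLib.Blocks.bset B).card := by
    rw [Nat.card_eq_fintype_card]
    exact Fintype.card_of_finset' (CfsgLib.Blocks.bset B) fun χ => CfsgLib.Blocks.mem_bset
  have hD' := CfsgLib.Blocks.card_defectGroup hM hB hD
  constructor
  · intro h
    obtain ⟨rfl, hd, -⟩ := CfsgLib.Blocks.two_chars hM hB (hc ▸ h)
    rw [hD', hd, pow_one]
  · intro h
    rw [hD'] at h
    have hd : Cfsg.blockDefect p B ≠ 0 := fun h0 => by simp [h0] at h
    have hp : p = 2 := (Nat.prime_dvd_prime_iff_eq Fact.out Nat.prime_two).1 (h ▸ dvd_pow_self p hd)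
    subst hp
    rw [hc]
    exact CfsgLib.Blocks.card_eq_two_of_defect_one hM hB
      (Nat.pow_right_injective le_rfl (h.trans (pow_one 2).symm))

end Cfsg.Agent.S4607
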