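import Cfsg.Statements.S4611
import Cfsg.Agent.Lib.Blocks.Principal
import Cfsg.Agent.S4492
import Cfsg.Agent.Lib.PLocal.SolvableSeparable

set_option autoImplicit false
open Cfsg CfsgLib.Blocks CfsgLib.CharTheory
open scoped ComplexConjugate

set_option linter.unusedVariables false

namespace Cfsg.Agent.S4611

/-- Let G be a finite solvable group and π a nonempty set of primes, each dividing the order of G; fix for each p in π a maximal ideal M p of the algebraic integers containing p. Then the only irreducible character lying in the principal p-block for every p in π is the principal character if and only if G is generated by the subgroups O_{p'}(G), p in π (the largest normal subgroups of order prime to p). -/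
theorem result {G : Type*} [Group G] [Finite G] [Group.IsSolvable G] (π : Set ℕ) (hπ : ∀ p ∈ π, p.Prime ∧ p ∣ Nat.card G) (hne : π.Nonempty) (M : ℕ → Ideal Cfsg.AlgInt) (hM : ∀ p ∈ π, Cfsg.IsPModular p (M p)) :
    (∀ χ : Cfsg.IrrCharacter G, (∀ p ∈ π, χ ∈ Cfsg.principalBlock (M p) G) → (χ : G → ℂ) = fun _ => 1) ↔
      ⨆ p ∈ π, Cfsg.pPrimeCore p G = ⊤ := by
  classical
  have := Fintype.ofFinite G
  have hL : (⨆ p ∈ π, Cfsg.pPrimeCore p G).Normal := by
    have : ∀ p, (⨆ _ : p ∈ π, Cfsg.pPrimeCore p G).Normal := fun p => Subgroup.iSup_normal _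
    exact Subgroup.iSup_normal _
  have hmem : ∀ p ∈ π, ∀ χ : IrrCharacter G, χ ∈ principalBlock (M p) G ↔
      ∀ n ∈ pPrimeCore p G, (χ : G → ℂ) n = (χ : G → ℂ) 1 := by
    intro p hp χ
    have : Fact p.Prime := ⟨(hπ p hp).1⟩
    have := Fintype.ofFinite (pPrimeCore p G)
    refine ⟨fun h n hn => principal_kernel (hM p hp)
      (CfsgLib.not_dvd_card_pPrimeCore (hπ p hp).1) h hn, fun h => ?_⟩
    obtain ⟨B₀, hB₀, hB, -⟩ := Cfsg.Agent.S4492.result p (M p) (hM p hp)
      (CfsgLib.PLocal.isPSolvable_of_isSolvable _ G rfl inferInstance) (pPrimeCore p G) rfl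
      ⟨_, isIrrCharacter_one⟩ (fun g n => rfl)
    have hone : oneIrr G ∈ B₀ := (hB _).2 (by
      show classInner (fun _ : pPrimeCore p G => (1 : ℂ)) (fun _ => 1) ≠ 0
      rw [classInner_irr_self isIrrCharacter_one]; exact one_ne_zero)
    rw [show principalBlock (M p) G = B₀ from (eq_blockOf (hM p hp) hB₀ hone).symm]
    refine (hB χ).2 ?_
    rw [show (fun n : pPrimeCore p G => (χ : G → ℂ) n) =
        (χ : G → ℂ) 1 • fun _ : pPrimeCore p G => (1 : ℂ) from
      funext fun n => by simp [h n n.2], classInner_smul_left,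
      classInner_irr_self isIrrCharacter_one, mul_one]
    exact irr_one_ne_zero χ
  have hker : ∀ χ : IrrCharacter G, (∀ p ∈ π, χ ∈ principalBlock (M p) G) ↔
      ∀ n ∈ ⨆ p ∈ π, pPrimeCore p G, (χ : G → ℂ) n = (χ : G → ℂ) 1 := by
    intro χ
    have hc := isCharacter_of_irr χ.2
    constructor
    · intro h n hn
      refine (mem_charKernel hc n).mp ((iSup₂_le fun p hp m hm => ?_ :
        (⨆ p ∈ π, pPrimeCore p G) ≤ charKernel _ hc) hn)
      exact (mem_charKernel hc m).mpr ((hmem p hp χ).mp (h p hp) m hm)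
    · intro h p hp
      exact (hmem p hp χ).mpr fun n hn => h n ((le_iSup₂_of_le (f := fun q (_ : q ∈ π) => pPrimeCore q G) p hp le_rfl) hn)
  constructor
  · intro h
    by_contra hne
    obtain ⟨ψ, hψ, hψ1⟩ : ∃ ψ : G ⧸ (⨆ p ∈ π, pPrimeCore p G) → ℂ,
        IsIrrCharacter _ ψ ∧ ψ ≠ fun _ => 1 := by
      by_contra hall
      push Not at hall
      refine hne (eq_top_iff.mpr fun g _ => ?_)
      refine (QuotientGroup.eq_one_iff g).mp (isConj_one_right.mp ?_)
      refine isConj_of_forall_irr fun χ => ?_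
      rw [hall _ χ.2]
    refine hψ1 ?_
    let χ : IrrCharacter G := ⟨fun g => ψ g, isIrrCharacter_comp_surjective hψ
      (QuotientGroup.mk' _) (QuotientGroup.mk'_surjective _)⟩
    have h2 := h χ ((hker χ).mpr fun n hn => by
      show ψ n = ψ (1 : G)
      rw [(QuotientGroup.eq_one_iff n).mpr hn]; rfl)
    funext q
    obtain ⟨g, rfl⟩ := QuotientGroup.mk_surjective q
    exact congrFun h2 g
  · intro htop χ hχ
    have h := (hker χ).mp hχ
    refine irr_eq_one_of_kernel_top χ.2 fun g => h g ?_
    rw [htop]; exact Subgroup.mem_top g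

end Cfsg.Agent.S4611
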