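import Cfsg.Statements.S4620
import Cfsg.Agent.Lib.SylowNormalize.TI

set_option autoImplicit false
open scoped Pointwise
open Cfsg CfsgLib.SylowNormalize
open scoped ComplexConjugate

set_option linter.unusedVariables false

namespace Cfsg.Agent.S4620

/-- Let H be a finite group with no nontrivial normal p-subgroup and no nontrivial normal subgroup of order prime to p, whose Sylow p-subgroup P is nontrivial and a trivial-intersection set (P meets its conjugates by elements outside N_H(P) trivially). Then H has a unique minimal normal subgroup N; N is non-abelian simple with trivial centralizer in H (so H embeds in Aut(N)), and a Sylow p-subgroup of N is again a nontrivial trivial-intersection set in N. -/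
theorem result {H : Type*} [Group H] [Finite H] (p : ℕ) [Fact p.Prime] (hOp : Cfsg.pCore p H = ⊥) (hOp' : Cfsg.pPrimeCore p H = ⊥) (P : Sylow p H) (hP1 : (P : Subgroup H) ≠ ⊥)
    (hTI : ∀ g : H, g ∉ Subgroup.normalizer ((P : Subgroup H) : Set H) → (P : Subgroup H) ⊓ (MulAut.conj g • (P : Subgroup H)) = ⊥) :
    ∃ N : Subgroup H, N.Normal ∧ N ≠ ⊥ ∧ (∀ K : Subgroup H, K.Normal → K ≠ ⊥ → N ≤ K) ∧
      IsSimpleGroup N ∧ ¬ IsMulCommutative N ∧ Subgroup.centralizer (N : Set H) = ⊥ ∧
      ∀ Q : Sylow p N, (Q : Subgroup N) ≠ ⊥ ∧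
        ∀ n : N, n ∉ Subgroup.normalizer ((Q : Subgroup N) : Set N) → (Q : Subgroup N) ⊓ (MulAut.conj n • (Q : Subgroup N)) = ⊥ := by
  classical
  have hh : TICores p H := by
    refine ⟨hOp, hOp', fun P' g x hg hx hxg => ?_⟩
    obtain ⟨a, rfl⟩ := MulAction.exists_smul_eq H P P'
    rw [Sylow.coe_subgroup_smul, Subgroup.mem_pointwise_smul_iff_inv_smul_mem] at hx hxg
    simp only [MulAut.smul_def, MulAut.conj_symm_apply, map_inv, MulAut.inv_def] at hx hxg
    by_contra hx1
    have h1 := hTI (a⁻¹ * g * a) fun hn => hg ?_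
    · rw [Subgroup.eq_bot_iff_forall] at h1
      refine hx1 ?_
      have h2 := h1 (a⁻¹ * x * a) ⟨hx, CfsgLib.mem_conj_smul_iff.2 (by simpa [mul_assoc] using hxg)⟩
      calc x = a * (a⁻¹ * x * a) * a⁻¹ := by group
        _ = 1 := by rw [h2]; group
    · refine Subgroup.mem_normalizer_iff.2 fun z => ?_
      have h2 := Subgroup.mem_normalizer_iff.1 hn (a⁻¹ * z * a)
      show z ∈ ((a • P : Sylow p H) : Subgroup H) ↔ _ ∈ ((a • P : Sylow p H) : Subgroup H)
      rw [Sylow.coe_subgroup_smul, CfsgLib.mem_conj_smul_iff, CfsgLib.mem_conj_smul_iff, h2]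
      simp [mul_assoc]
  haveI : Nontrivial H := by
    obtain ⟨x, hx, hx1⟩ := (Subgroup.bot_or_exists_ne_one (P : Subgroup H)).resolve_left hP1
    exact ⟨⟨x, 1, hx1⟩⟩
  obtain ⟨N, hN, hN1, hmin⟩ := hh.exists_least
  haveI := hN
  have hN' := hh.restrict (N := N)
  haveI : Nontrivial N := (Subgroup.nontrivial_iff_ne_bot N).2 hN1
  obtain ⟨M0, hM0, hM01, hMmin⟩ := hN'.exists_least
  have hMtop : M0 = ⊤ := by
    have hn : (M0.map N.subtype).Normal := by
      refine ⟨?_⟩
      rintro _ ⟨m, hm, rfl⟩ g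
      -- the image of a least normal subgroup under conjugation is again least
      set φ : N ≃* N := MulAut.conjNormal g
      have hle : M0 ≤ M0.comap φ.toMonoidHom := hMmin _ (hM0.comap _) fun e => hM01 <| by
        rw [eq_bot_iff]
        intro w hw
        have h2 : φ.symm w ∈ M0.comap φ.toMonoidHom := by
          rw [Subgroup.mem_comap]; simpa using hw
        rw [e, Subgroup.mem_bot] at h2
        rw [Subgroup.mem_bot, ← φ.apply_symm_apply w, h2, map_one]
      exact ⟨φ m, hle hm, by simp [φ]⟩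
    have h1 := hmin _ hn fun e => hM01
      ((Subgroup.map_eq_bot_iff_of_injective _ N.subtype_injective).1 e)
    rw [eq_top_iff]
    intro w _
    obtain ⟨m, hm, hmw⟩ := h1 w.2
    rwa [← Subtype.ext hmw]
  have hna : ¬ IsMulCommutative N := by
    intro hc
    obtain ⟨Q⟩ : Nonempty (Sylow p N) := inferInstance
    have hQn : (Q : Subgroup N).Normal := ⟨fun q hq g => by
      rwa [hc.is_comm.comm g q, mul_inv_cancel_right]⟩
    have h2 := CfsgLib.le_pCore (p := p) (N := (Q : Subgroup N)) (hN := hQn) Q.2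
    rw [hN'.opBot, le_bot_iff] at h2
    obtain ⟨x, hx, hxQ, hx1⟩ := hN'.exists_mem (K := (⊤ : Subgroup N)) top_ne_bot Q
    exact hx1 (Subgroup.mem_bot.1 (h2 ▸ hxQ))
  refine ⟨N, hN, hN1, hmin, ⟨fun K hK => ?_⟩, hna, ?_, fun Q => ⟨fun e => ?_, fun n hn => ?_⟩⟩
  · by_cases hK1 : K = ⊥
    · exact Or.inl hK1
    · exact Or.inr (eq_top_iff.2 (hMtop ▸ hMmin K hK hK1))
  · haveI : (Subgroup.centralizer (N : Set H)).Normal := Subgroup.normal_centralizer
    exact hh.eq_bot_of_commute hN1 fun b hb a ha => (hb a ha).symm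
  · obtain ⟨x, hx, hxQ, hx1⟩ := hN'.exists_mem (K := (⊤ : Subgroup N)) top_ne_bot Q
    exact hx1 (Subgroup.mem_bot.1 (e ▸ hxQ))
  · rw [Subgroup.eq_bot_iff_forall]
    exact fun x hx => hN'.ti Q n x hn hx.1 (CfsgLib.mem_conj_smul_iff.1 hx.2)

end Cfsg.Agent.S4620
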