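import Cfsg.Statements.S4621
import Cfsg.Agent.Lib.BaseTwo.Top
import Cfsg.Agent.Lib.BaseTwo.Maschke

set_option autoImplicit false
open Cfsg

namespace Cfsg.Agent.S4621

/-- Let F be a finite field of odd characteristic, V a finite-dimensional vector space over F, and G a finite solvable group acting faithfully and linearly on V with the order of G coprime to the number of vectors of V. Then there are two vectors x, y ∈ V such that the only element of G fixing both x and y is the identity. -/
theorem result {F : Type*} [Field F] [Fintype F] (hF : ringChar F ≠ 2) {V : Type*} [AddCommGroup V] [Module F V] [FiniteDimensional F V] [Finite V]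
    {G : Type*} [Group G] [Finite G] [Group.IsSolvable G] (ρ : Representation F G V) (hfaith : Function.Injective ρ) (hcop : (Nat.card G).Coprime (Nat.card V)) :
    ∃ x y : V, ∀ g : G, ρ g x = x → ρ g y = y → g = 1 := by
  classical
  letI : DistribMulAction G V :=
    { smul := fun g x => ρ g x
      one_smul := fun x => by show ρ 1 x = x; rw [map_one]; rfl
      mul_smul := fun a b x => by show ρ (a * b) x = ρ a (ρ b x); rw [map_mul]; rfl
      smul_zero := fun g => map_zero (ρ g)
      smul_add := fun g x y => map_add (ρ g) x y }
  haveI : FaithfulSMul G V := ⟨fun h => hfaith (LinearMap.ext h)⟩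
  haveI hp : Fact (ringChar F).Prime := ⟨CharP.char_is_prime F (ringChar F)⟩
  have hexp : ∀ x : V, ringChar F • x = 0 := fun x => by
    rw [← Nat.cast_smul_eq_nsmul F, ringChar.Nat.cast_ringChar, zero_smul]
  have hodd : Odd (Nat.card V) := by
    rw [Module.natCard_eq_pow_finrank (K := F), Nat.card_eq_fintype_card]
    exact (Nat.odd_iff.mpr (FiniteField.odd_card_of_char_ne_two hF)).pow
  refine CfsgLib.BaseTwo.exists_two_vectors_coprime (A := G) (V := V) inferInstance hcop hodd fun U hU => ?_
  by_cases hpG : ringChar F ∣ Nat.card G
  · have hV : ∀ x : V, x = 0 := fun x => by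
      by_contra hx
      have h1 : ringChar F ∣ Nat.card V := addOrderOf_eq_prime (hexp x) hx ▸ addOrderOf_dvd_natCard x
      exact hp.out.ne_one (Nat.eq_one_of_dvd_coprimes hcop hpG h1)
    exact ⟨⊤, fun _ _ _ => trivial, eq_bot_iff.mpr fun x _ => AddSubgroup.mem_bot.mpr (hV x), sup_top_eq _⟩
  · exact CfsgLib.BaseTwo.exists_complement (ringChar F) hexp hpG U hU

end Cfsg.Agent.S4621
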