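import Cfsg.Statements.S4625
import Cfsg.Agent.Lib.SylowSquares.Classical
import Cfsg.Agent.Lib.SylowSquares.Linear
import Cfsg.Agent.Lib.SylowSquares.Chevalley
import Cfsg.Agent.Lib.SylowSquares.Twisted
import Cfsg.Agent.Lib.Suzuki.Lie

set_option autoImplicit false
open Cfsg

namespace Cfsg.Agent.S4625

open CfsgLib.SylowSquares
open scoped commutatorElement

theorem suzuki {F : Type*} [Field F] [Fintype F] {m : ℕ} (hF : Fintype.card F = 2 ^ (2 * m + 1))
    (hm : 1 ≤ m) : SqInDerived ↥(Cfsg.Sz F m) := by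
  open CfsgLib.Suzuki in
  refine SqInDerived.of_sylow (Usyl hF hm) ?_
  rw [CfsgLib.Suzuki.coe_Usyl]
  rintro _ ⟨a, b, rfl⟩
  obtain ⟨l, hl0, hl1⟩ := CfsgLib.Suzuki.exists_not_zero_one hF hm
  have hne : CfsgLib.Suzuki.th m l + l ≠ 0 := by
    rw [← CfsgLib.Suzuki.sub_eq hF, sub_ne_zero]
    exact CfsgLib.Suzuki.th_ne_self hF hl0 hl1
  by_cases ha : a = 0
  · subst ha
    rw [CfsgLib.Suzuki.uS_mul, add_zero, mul_zero, add_zero,
      show b + b = 0 by rw [← two_mul, CfsgLib.Suzuki.two_eq_zero hF, zero_mul], CfsgLib.Suzuki.uS_zero]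
    exact one_mem _
  obtain ⟨r, hr⟩ := CfsgLib.Suzuki.th_mul_surj hF (b := CfsgLib.Suzuki.th m a * a / (CfsgLib.Suzuki.th m l + l))
    (div_ne_zero (mul_ne_zero (fun h => ha (CfsgLib.Suzuki.th_eq_zero_iff.mp h)) ha) hne)
  have key := CfsgLib.Suzuki.uS_commutator hF ((r : F) * l) 0 (r : F) 0
  have e : CfsgLib.Suzuki.th m ((r : F) * l) * (r : F) + CfsgLib.Suzuki.th m (r : F) * ((r : F) * l) =
      CfsgLib.Suzuki.th m a * a := by
    rw [CfsgLib.Suzuki.th_mul]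
    have : CfsgLib.Suzuki.th m (r : F) * r * (CfsgLib.Suzuki.th m l + l) = CfsgLib.Suzuki.th m a * a := by
      rw [hr, div_mul_cancel₀ _ hne]
    linear_combination this
  rw [e] at key
  have e2 : CfsgLib.Suzuki.uS hF a b * CfsgLib.Suzuki.uS hF a b =
      CfsgLib.Suzuki.uS hF 0 (CfsgLib.Suzuki.th m a * a) := by
    rw [CfsgLib.Suzuki.uS_mul]
    congr 1
    · rw [← two_mul, CfsgLib.Suzuki.two_eq_zero hF, zero_mul]
    · rw [← two_mul, CfsgLib.Suzuki.two_eq_zero hF, zero_mul, zero_add]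
  rw [e2, ← key, ← commutatorElement_def]
  exact Subgroup.commutator_mem_commutator ⟨_, _, rfl⟩ ⟨_, _, rfl⟩

theorem sqInDerived {G : Type*} [Group G] [Finite G] (hG : Cfsg.IsLieTypeChar 2 G) : SqInDerived G := by
  rcases hG with ⟨F, _, _, _, n, _, _, ⟨e⟩⟩ | ⟨F, _, _, _, m, _, _, ⟨e⟩⟩ | ⟨F, _, _, _, n, q, hF, _, _, ⟨e⟩⟩ |
    ⟨F, _, _, _, m, _, hodd, _⟩ | ⟨F, _, _, _, m, hm, ⟨e⟩⟩ | ⟨F, _, _, _, m, a, b, hm, hab, ⟨e⟩⟩ |
    ⟨F, _, _, _, h⟩ | ⟨K, _, _, _, q, hq, h⟩ | ⟨-, F, _, _, m, hm, hF, ⟨e⟩⟩ | ⟨-, K, _, _, m, hm, hK, ⟨e⟩⟩ |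
    ⟨h, _⟩
  · haveI : Finite _ := Finite.of_equiv G e.toEquiv
    exact (psl inferInstance).equiv e.symm
  · haveI : Finite _ := Finite.of_equiv G e.toEquiv
    exact (psp m).equiv e.symm
  · haveI : Finite _ := Finite.of_equiv G e.toEquiv
    exact (psu n q hF).equiv e.symm
  · exfalso
    haveI := Fact.mk Nat.prime_two
    obtain ⟨f, -, hf⟩ := FiniteField.card F 2
    exact Nat.not_even_iff_odd.mpr hodd (hf ▸ Nat.even_pow.mpr ⟨even_two, f.ne_zero⟩)
  · haveI : Finite _ := Finite.of_equiv G e.toEquiv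
    exact (pomega _ (CfsgLib.Lagrangian.Qp m F) (fun v => (CfsgLib.Lagrangian.Qp_apply v).symm)
      CfsgLib.Lagrangian.Qp_nondeg (by simp; omega)).equiv e.symm
  · haveI : Finite _ := Finite.of_equiv G e.toEquiv
    exact (pomega _ (CfsgLib.StdQuadForms.Qm (m - 1) a b)
      (fun v => (CfsgLib.StdQuadForms.Qm_apply (m - 1) a b v).symm)
      (CfsgLib.StdQuadForms.Qm_nondeg (m - 1) hab) (by simp; omega)).equiv e.symm
  · rcases h with ⟨-, ⟨e⟩⟩ | ⟨⟨e⟩⟩ | ⟨⟨e⟩⟩ | ⟨⟨e⟩⟩ | ⟨⟨e⟩⟩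
    · haveI : Finite _ := Finite.of_equiv G e.toEquiv
      exact (CfsgLib.Chev.Chev.sqInDerived CfsgLib.Chev.chevG2).equiv e.symm
    · haveI : Finite _ := Finite.of_equiv G e.toEquiv
      exact (CfsgLib.Chev.Chev.sqInDerived CfsgLib.Chev.chevF4).equiv e.symm
    · haveI : Finite _ := Finite.of_equiv G e.toEquiv
      exact (CfsgLib.Chev.Chev.sqInDerived CfsgLib.Chev.chevE6).equiv e.symm
    · haveI : Finite _ := Finite.of_equiv G e.toEquiv
      exact (CfsgLib.Chev.Chev.sqInDerived CfsgLib.Chev.chevE7).equiv e.symm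
    · haveI : Finite _ := Finite.of_equiv G e.toEquiv
      exact (CfsgLib.Chev.Chev.sqInDerived CfsgLib.Chev.chevE8).equiv e.symm
  · rcases h with ⟨hK, ⟨e⟩⟩ | ⟨hK, ⟨e⟩⟩
    · haveI : Finite _ := Finite.of_equiv G e.toEquiv
      exact (CfsgLib.Chev.T2E6.sqInDerived hq hK).equiv e.symm
    · haveI : Finite _ := Finite.of_equiv G e.toEquiv
      exact (CfsgLib.Chev.T3D4.sqInDerived hq hK).equiv e.symm
  · let e' := e.trans (CfsgLib.Suzuki.lieEquiv hF hm).symm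
    haveI : Finite _ := Finite.of_equiv G e'.toEquiv
    exact (suzuki hF hm).equiv e'.symm
  · haveI : Finite _ := Finite.of_equiv G e.toEquiv
    exact (CfsgLib.Chev.T2F4.sqInDerived hK hm).equiv e.symm
  · exact absurd h (by norm_num)

/-- Let G be a finite simple group of Lie type in characteristic 2, not counting the Tits group ²F₄(2)′. Then a Sylow 2-subgroup P of G has P/P' elementary abelian: the square of every element of P lies in the derived subgroup of P. -/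
theorem result {G : Type*} [Group G] [Finite G] [IsSimpleGroup G] (hG : Cfsg.IsLieTypeChar 2 G) (P : Sylow 2 G) :
    ∀ x : (P : Subgroup G), x ^ 2 ∈ commutator (P : Subgroup G) := by
  exact (sqInDerived hG).sq_mem_commutator P

end Cfsg.Agent.S4625
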