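import Cfsg.Statements.S4626
import Cfsg.Agent.Lib.Blocks.AlperinDade
import Cfsg.Agent.Lib.CharTheory.More

set_option autoImplicit false
open Cfsg CfsgLib.CharTheory CfsgLib.Blocks
open scoped ComplexConjugate

set_option linter.unusedVariables false

namespace Cfsg.Agent.S4626

/-- Let G be a finite group, p a prime, M a maximal ideal of the algebraic integers containing p, P a Sylow p-subgroup of G and N a normal subgroup of index prime to p containing the centralizer C_G(P). Then every irreducible character of G whose kernel contains N lies in the principal p-block of G. -/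
theorem result {G : Type*} [Group G] [Finite G] (p : ℕ) [Fact p.Prime] (M : Ideal Cfsg.AlgInt) (hM : Cfsg.IsPModular p M) (P : Sylow p G) (N : Subgroup G) [N.Normal] (hidx : ¬ p ∣ N.index)
    (hC : Subgroup.centralizer ((P : Subgroup G) : Set G) ≤ N) (χ : Cfsg.IrrCharacter G) (hker : ∀ n ∈ N, (χ : G → ℂ) n = (χ : G → ℂ) 1) :
    χ ∈ Cfsg.principalBlock M G := by
  classical
  haveI := Fintype.ofFinite G
  haveI := res_charP hM
  have hp := (Fact.out : p.Prime)
  have hdeg : ¬ p ∣ Cfsg.charDegree (χ : G → ℂ) := by
    intro h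
    refine hidx (h.trans ((charDegree_dvd_index_kernel χ.2).trans (Subgroup.index_dvd_of_le ?_)))
    exact fun n hn => (mem_charKernel _ n).2 (hker n hn)
  refine (mem_principal_iff hM χ).2 fun g => ?_
  by_cases hgN : g ∈ N
  · rw [← res_natCast hM]
    congr 1
    rw [clv, centralChar, hker g hgN, mul_div_cancel_right₀ _ (irr_one_ne_zero χ)]
  · have hpd : p ∣ (Subgroup.centralizer ({g} : Set G)).index := by
      by_contra hnd
      refine hgN ?_
      obtain ⟨S⟩ := (inferInstance : Nonempty (Sylow p (Subgroup.centralizer ({g} : Set G))))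
      obtain ⟨T, hT⟩ := (S.2.map (Subgroup.centralizer ({g} : Set G)).subtype).exists_le_sylow
      have heq : (S : Subgroup _).map (Subgroup.centralizer ({g} : Set G)).subtype = (T : Subgroup G) := by
        refine Subgroup.eq_of_le_of_card_ge hT ?_
        rw [Subgroup.card_map_of_injective (Subgroup.subtype_injective _),
          Sylow.card_eq_multiplicity S, Sylow.card_eq_multiplicity T,
          ← factorization_index_add (G := G) p (Subgroup.centralizer ({g} : Set G)),
          Nat.factorization_eq_zero_of_not_dvd hnd, zero_add]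
      obtain ⟨c, hc⟩ := MulAction.exists_smul_eq G T P
      have hcg : c * g * c⁻¹ ∈ Subgroup.centralizer ((P : Subgroup G) : Set G) := by
        refine Subgroup.mem_centralizer_iff.2 fun u hu => ?_
        rw [← hc, Sylow.coe_subgroup_smul, ← heq] at hu
        obtain ⟨_, ⟨w, -, rfl⟩, rfl⟩ := hu
        show c * (w : G) * c⁻¹ * (c * g * c⁻¹) = c * g * c⁻¹ * (c * (w : G) * c⁻¹)
        rw [show c * (w : G) * c⁻¹ * (c * g * c⁻¹) = c * ((w : G) * g) * c⁻¹ by group,
          Subgroup.mem_centralizer_singleton_iff.1 w.2]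
        group
      simpa [mul_assoc] using (inferInstance : N.Normal).conj_mem _ (hC hcg) c⁻¹
    have hm : MemLocalRing M ((Cfsg.charDegree (χ : G → ℂ) : ℂ)⁻¹ * (χ : G → ℂ) g) :=
      (loc hM).mul_mem (natCast_inv_mem hM hdeg) (memRing_irr hM χ g)
    rw [(CharP.cast_eq_zero_iff (Cfsg.AlgInt ⧸ M) p _).2 hpd,
      show clv g χ = ((Subgroup.centralizer ({g} : Set G)).index : ℂ) *
        ((Cfsg.charDegree (χ : G → ℂ) : ℂ)⁻¹ * (χ : G → ℂ) g) by
        rw [clv, centralChar, irr_charDegree_cast]; ring,
      res_mul hM (memRing_natCast hM _) hm, res_natCast,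
      (CharP.cast_eq_zero_iff (Cfsg.AlgInt ⧸ M) p _).2 hpd, zero_mul]

end Cfsg.Agent.S4626
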