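import Cfsg.Statements.S4629
import Cfsg.Agent.Lib.OmegaSylowTwo.Transfer
import Cfsg.Agent.Lib.OmegaSylowTwo.Arith
import Cfsg.Agent.Lib.OrthOrderBase
import Cfsg.Agent.Lib.StdQuadForms
import Cfsg.Agent.Lib.FiniteForms.Standard

set_option autoImplicit false
open Cfsg

namespace Cfsg.Agent.S4629

/-- Let F be a finite field of odd order and m ≥ 3. For the commutator subgroup Ω of the isometry group of the non-singular quadratic form x₀² + Σ x_i y_i in dimension 2m + 1 over F, a Sylow 2-subgroup P of Ω has P/P' elementary abelian: the square of every element of P lies in the derived subgroup of P. -/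
theorem result {F : Type*} [Field F] [Fintype F] (hF : Odd (Fintype.card F)) (m : ℕ) (hm : 3 ≤ m) (P : Sylow 2 (Cfsg.Omega F (Cfsg.quadFormOdd m F))) : ∀ x : (P : Subgroup (Cfsg.Omega F (Cfsg.quadFormOdd m F))), x ^ 2 ∈ commutator (P : Subgroup (Cfsg.Omega F (Cfsg.quadFormOdd m F))) := by
  classical
  have h2 : (2 : F) ≠ 0 := CfsgLib.FiniteForms.two_ne_zero_of_odd rfl hF
  have hq1 : 1 < Fintype.card F := Fintype.one_lt_card
  have hne : ∀ n, (∏ i ∈ Finset.range n, (Fintype.card F ^ (2 * (i + 1)) - 1)) ≠ 0 := fun n =>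
    Finset.prod_ne_zero_iff.mpr fun i _ => by
      have := Nat.one_lt_pow (n := 2 * (i + 1)) (by omega) hq1
      omega
  have hoddq : ∀ e, (Fintype.card F ^ e).factorization 2 = 0 := fun e =>
    Nat.factorization_eq_zero_of_not_dvd fun h => by
      have := Nat.Prime.dvd_of_dvd_pow Nat.prime_two h
      obtain ⟨t, ht⟩ := hF
      omega
  have hf : ⇑(CfsgLib.StdQuadForms.Qo (F := F) m) = Cfsg.quadFormOdd m F :=
    funext (CfsgLib.StdQuadForms.Qo_apply m)
  have hQ := CfsgLib.StdQuadForms.Qo_nondeg (F := F) h2 m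
  refine CfsgLib.OmegaSylowTwo.sq_mem_commutator h2 _ hf hQ m 1 (by omega)
    ![(CfsgLib.FiniteForms.polarMat ⇑(CfsgLib.StdQuadForms.Qo (F := F) m)).det * 2]
    (fun j => by fin_cases j; simpa [h2] using CfsgLib.FiniteForms.polarMat_det_ne_zero hQ)
    (by simp; omega) ?_ ?_ P
  · refine ⟨(CfsgLib.FiniteForms.polarMat ⇑(CfsgLib.StdQuadForms.Qo (F := F) m)).det * 2 ^ (m + 1), ?_⟩
    rw [Fin.prod_univ_one, Matrix.cons_val_zero]
    ring
  · rw [CfsgLib.OrthOrder.card_O_odd hF m, Nat.factorization_mul (by simp) (hne m),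
      Finsupp.add_apply, CfsgLib.OmegaSylowTwo.v2_prod h2, Nat.factorization_mul (by norm_num)
      (pow_ne_zero _ (by omega)), Finsupp.add_apply, hoddq, Nat.Prime.factorization_self Nat.prime_two]
    omega

end Cfsg.Agent.S4629
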