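import Cfsg.Statements.S4630
import Cfsg.Agent.Lib.OmegaSylowTwo.Transfer
import Cfsg.Agent.Lib.OmegaSylowTwo.Arith
import Cfsg.Agent.Lib.OrthOrderBase
import Cfsg.Agent.Lib.StdQuadForms
import Cfsg.Agent.Lib.FiniteForms.Standard

set_option autoImplicit false
open Cfsg

namespace Cfsg.Agent.S4630

/-- Let F be a finite field of odd order and m ≥ 1 with m even or m ≥ 4. For the commutator subgroup Ω of the isometry group of the plus-type quadratic form Σ_{i<m} x_i y_i in dimension 2m over F, a Sylow 2-subgroup P of Ω has P/P' elementary abelian: the square of every element of P lies in the derived subgroup of P. -/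
theorem result {F : Type*} [Field F] [Fintype F] (hF : Odd (Fintype.card F)) (m : ℕ) (hm : 1 ≤ m) (hm' : Even m ∨ 4 ≤ m) (P : Sylow 2 (Cfsg.Omega F (Cfsg.quadFormPlus m F))) : ∀ x : (P : Subgroup (Cfsg.Omega F (Cfsg.quadFormPlus m F))), x ^ 2 ∈ commutator (P : Subgroup (Cfsg.Omega F (Cfsg.quadFormPlus m F))) := by
  classical
  have h2 : (2 : F) ≠ 0 := CfsgLib.FiniteForms.two_ne_zero_of_odd rfl hF
  have hq1 : 1 < Fintype.card F := Fintype.one_lt_card
  have hne : ∀ n, (∏ i ∈ Finset.range n, (Fintype.card F ^ (2 * (i + 1)) - 1)) ≠ 0 := fun n =>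
    Finset.prod_ne_zero_iff.mpr fun i _ => by
      have := Nat.one_lt_pow (n := 2 * (i + 1)) (by omega) hq1
      omega
  have hoddq : ∀ e, (Fintype.card F ^ e).factorization 2 = 0 := fun e =>
    Nat.factorization_eq_zero_of_not_dvd fun h => by
      have := Nat.Prime.dvd_of_dvd_pow Nat.prime_two h
      obtain ⟨t, ht⟩ := hF
      omega
  have hf : ⇑(CfsgLib.Lagrangian.Qp m F) = Cfsg.quadFormPlus m F :=
    funext CfsgLib.Lagrangian.Qp_apply
  have hQ := CfsgLib.Lagrangian.Qp_nondeg (F := F) (m := m)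
  have hdet : (CfsgLib.FiniteForms.polarMat ⇑(CfsgLib.Lagrangian.Qp m F)).det = (-1) ^ m := by
    rw [hf, CfsgLib.OmegaSylowTwo.polarMat_apply_eq _ _ (CfsgLib.FiniteForms.polar_plus m),
      CfsgLib.FiniteForms.det_hypMat]
  have hpm := CfsgLib.OmegaSylowTwo.v2_pow_pm h2 m (by omega)
  have h1m := Nat.one_lt_pow (n := m) (by omega) hq1
  obtain ⟨n, rfl⟩ : ∃ n, m = n + 1 := ⟨m - 1, by omega⟩
  have hv : ∀ a : ℕ, a = Fintype.card F ^ (n + 1) - 1 → (Nat.card (Cfsg.isometryGroup F
      (Cfsg.quadFormPlus (n + 1) F))).factorization 2 = 1 + a.factorization 2 +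
      (n * ((Nat.card (CfsgLib.OmegaSylowTwo.Circ F)).factorization 2 + 1) +
        (n.factorial).factorization 2) := by
    rintro a rfl
    rw [CfsgLib.OrthOrder.card_O_plus _ (by omega), Nat.add_sub_cancel,
      Nat.factorization_mul (by simp; omega) (hne n), Finsupp.add_apply,
      CfsgLib.OmegaSylowTwo.v2_prod h2, Nat.factorization_mul (by simp) (by omega),
      Finsupp.add_apply, Nat.factorization_mul (by norm_num) (pow_ne_zero _ (by omega)),
      Finsupp.add_apply, hoddq, Nat.Prime.factorization_self Nat.prime_two, add_zero]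
  by_cases hs : IsSquare ((-1 : F) ^ (n + 1))
  · refine CfsgLib.OmegaSylowTwo.sq_mem_commutator h2 _ hf hQ (n + 1) 0
      (by rcases hm' with h | h <;> [obtain ⟨t, ht⟩ := h; skip] <;> omega) ![] (fun j => j.elim0)
      (by simp; omega) ?_ ?_ P
    · obtain ⟨t, ht⟩ := hs
      refine ⟨t * 2 ^ (n + 1), ?_⟩
      rw [hdet, ht, Fin.prod_univ_zero]
      ring
    · rw [hv _ rfl, (hpm.1 hs).1, Nat.factorial_succ,
        Nat.factorization_mul (Nat.succ_ne_zero n) n.factorial_ne_zero, Finsupp.add_apply]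
      ring
  · have hodd : ¬ Even (n + 1) := fun h => hs (by rw [h.neg_one_pow]; exact IsSquare.one)
    refine CfsgLib.OmegaSylowTwo.sq_mem_commutator h2 _ hf hQ n 2 (by have := hm'.resolve_left hodd; omega)
      ![1, (-1) ^ (n + 1)] (fun j => by fin_cases j <;> simp) (by simp; omega) ?_ ?_ P
    · refine ⟨(-1) ^ (n + 1) * 2 ^ (n + 1), ?_⟩
      rw [hdet, Fin.prod_univ_two, Matrix.cons_val_zero, Matrix.cons_val_one, Matrix.cons_val_zero]
      ring
    · rw [hv _ rfl, (hpm.2 hs).2]
      ring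

end Cfsg.Agent.S4630
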