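import Cfsg.Statements.S4631
import Cfsg.Agent.Lib.OmegaSylowTwo.Transfer
import Cfsg.Agent.Lib.OmegaSylowTwo.Arith
import Cfsg.Agent.Lib.OrthOrderBase
import Cfsg.Agent.Lib.StdQuadForms
import Cfsg.Agent.Lib.FiniteForms.Standard

set_option autoImplicit false
open Cfsg

namespace Cfsg.Agent.S4631

/-- Let F be a finite field of odd order, m ≥ 4, and a, b ∈ F with z₁² + a z₁ z₂ + b z₂² anisotropic. For the commutator subgroup Ω of the isometry group of the minus-type quadratic form Σ_{i<m−1} x_i y_i + (z₁² + a z₁ z₂ + b z₂²) in dimension 2m over F, a Sylow 2-subgroup P of Ω has P/P' elementary abelian: the square of every element of P lies in the derived subgroup of P. -/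
theorem result {F : Type*} [Field F] [Fintype F] (hF : Odd (Fintype.card F)) (m : ℕ) (hm : 4 ≤ m) (a b : F) (hab : ∀ z₁ z₂ : F, z₁ ^ 2 + a * z₁ * z₂ + b * z₂ ^ 2 = 0 → z₁ = 0 ∧ z₂ = 0) (P : Sylow 2 (Cfsg.Omega F (Cfsg.quadFormMinus (m - 1) F a b))) : ∀ x : (P : Subgroup (Cfsg.Omega F (Cfsg.quadFormMinus (m - 1) F a b))), x ^ 2 ∈ commutator (P : Subgroup (Cfsg.Omega F (Cfsg.quadFormMinus (m - 1) F a b))) := by
  classical
  have h2 : (2 : F) ≠ 0 := CfsgLib.FiniteForms.two_ne_zero_of_odd rfl hF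
  have hq1 : 1 < Fintype.card F := Fintype.one_lt_card
  have hne : ∀ n, (∏ i ∈ Finset.range n, (Fintype.card F ^ (2 * (i + 1)) - 1)) ≠ 0 := fun n =>
    Finset.prod_ne_zero_iff.mpr fun i _ => by
      have := Nat.one_lt_pow (n := 2 * (i + 1)) (by omega) hq1
      omega
  have hoddq : ∀ e, (Fintype.card F ^ e).factorization 2 = 0 := fun e =>
    Nat.factorization_eq_zero_of_not_dvd fun h => by
      have := Nat.Prime.dvd_of_dvd_pow Nat.prime_two h
      obtain ⟨t, ht⟩ := hF
      omega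
  suffices key : ∀ (n : ℕ), 3 ≤ n → ∀ Q : Sylow 2 (Cfsg.Omega F (Cfsg.quadFormMinus n F a b)),
      ∀ x : (Q : Subgroup (Cfsg.Omega F (Cfsg.quadFormMinus n F a b))),
        x ^ 2 ∈ commutator (Q : Subgroup (Cfsg.Omega F (Cfsg.quadFormMinus n F a b))) from
    key (m - 1) (by omega) P
  clear P hm m
  intro n hm P
  have hf : ⇑(CfsgLib.StdQuadForms.Qm n a b) = Cfsg.quadFormMinus n F a b :=
    funext (CfsgLib.StdQuadForms.Qm_apply _ a b)
  have hQ := CfsgLib.StdQuadForms.Qm_nondeg n hab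
  have hdet : (CfsgLib.FiniteForms.polarMat ⇑(CfsgLib.StdQuadForms.Qm n a b)).det =
      (-1) ^ (n + 1) * (a * a - 4 * b) := by
    rw [hf, CfsgLib.OmegaSylowTwo.polarMat_apply_eq _ _ (CfsgLib.FiniteForms.polar_minus n a b),
      CfsgLib.FiniteForms.det_ellMat]
    ring
  have hns := CfsgLib.FiniteForms.not_isSquare_of_anisotropic h2 hab
  have hpm := CfsgLib.OmegaSylowTwo.v2_pow_pm h2 (n + 1) (by omega)
  have hv : ∀ c : ℕ, c = Fintype.card F ^ (n + 1) + 1 → (Nat.card (Cfsg.isometryGroup F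
      (Cfsg.quadFormMinus n F a b))).factorization 2 = 1 + c.factorization 2 +
      (n * ((Nat.card (CfsgLib.OmegaSylowTwo.Circ F)).factorization 2 + 1) +
        (n.factorial).factorization 2) := by
    rintro c rfl
    have h := CfsgLib.OrthOrder.card_O_minus (n + 1) (by omega) a b hab
    rw [show n + 1 - 1 = n from rfl] at h
    rw [h, Nat.factorization_mul (by simp) (hne n), Finsupp.add_apply,
      CfsgLib.OmegaSylowTwo.v2_prod h2, Nat.factorization_mul (by simp) (by omega),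
      Finsupp.add_apply, Nat.factorization_mul (by norm_num) (pow_ne_zero _ (by omega)),
      Finsupp.add_apply, hoddq, Nat.Prime.factorization_self Nat.prime_two, add_zero]
  by_cases hs : IsSquare ((-1 : F) ^ (n + 1))
  · refine CfsgLib.OmegaSylowTwo.sq_mem_commutator h2 _ hf hQ n 2 (by omega)
      ![1, (CfsgLib.FiniteForms.polarMat ⇑(CfsgLib.StdQuadForms.Qm n a b)).det]
      (fun j => by fin_cases j <;> simp [CfsgLib.FiniteForms.polarMat_det_ne_zero hQ])
      (by simp; omega) ?_ ?_ P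
    · refine ⟨(CfsgLib.FiniteForms.polarMat ⇑(CfsgLib.StdQuadForms.Qm n a b)).det * 2 ^ (n + 1), ?_⟩
      rw [Fin.prod_univ_two, Matrix.cons_val_zero, Matrix.cons_val_one, Matrix.cons_val_zero]
      ring
    · rw [hv _ rfl, (hpm.1 hs).2]
      ring
  · refine CfsgLib.OmegaSylowTwo.sq_mem_commutator h2 _ hf hQ (n + 1) 0 (by omega) ![] (fun j => j.elim0)
      (by simp; omega) ?_ ?_ P
    · have hne' : a * a - 4 * b ≠ 0 := fun h => hns (by rw [h]; exact IsSquare.zero)
      have : IsSquare ((-1 : F) ^ (n + 1) * (a * a - 4 * b)) :=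
        (CfsgLib.FiniteForms.isSquare_mul_iff (by simp) hne').2 (by simp [hs, hns])
      obtain ⟨t, ht⟩ := this
      refine ⟨t * 2 ^ (n + 1), ?_⟩
      rw [hdet, ht, Fin.prod_univ_zero]
      ring
    · rw [hv _ rfl, (hpm.2 hs).1, Nat.factorial_succ,
        Nat.factorization_mul (Nat.succ_ne_zero n) n.factorial_ne_zero, Finsupp.add_apply]
      ring

end Cfsg.Agent.S4631
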