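import Cfsg.Statements.S4634
import Cfsg.Agent.Lib.Blocks.CyclicModel
-- import your own Cfsg.Agent.* helpers here

set_option autoImplicit false
open Cfsg

set_option linter.unusedVariables false
set_option linter.style.haveILetI false
open CfsgLib.Blocks

namespace Cfsg.Agent.S4634

/-- Let B be a block of the finite group G relative to a maximal ideal M of the algebraic integers containing the prime p, with a nontrivial cyclic defect group P, let c be a block of C_G(P) inducing B, T the stabilizer of c in N_G(P) and e the index of C_G(P) in T. Let F be any finite group of order #P · e having a cyclic subgroup Q of order #P that is its own centralizer (F is then the semidirect product of Q by a cyclic group of order e acting faithfully). Then there is a perfect isometry from the set of all irreducible characters of F onto B whose signs agree on all the characters of F that do not contain Q in their kernel. -/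
theorem result {G : Type*} [Group G] [Finite G] (p : ℕ) [Fact p.Prime] (M : Ideal Cfsg.AlgInt) (hM : Cfsg.IsPModular p M) (B : Set (Cfsg.IrrCharacter G)) (hB : Cfsg.IsPBlock M B) (P : Subgroup G) (hPD : Cfsg.IsDefectGroup p M B P) (hP1 : P ≠ ⊥) (hcyc : IsCyclic P) (c : Set (Cfsg.IrrCharacter (Subgroup.centralizer (P : Set G)))) (hc : Cfsg.IsInducedBlock M (Subgroup.centralizer (P : Set G)) c B) (T : Subgroup G) (hT : ∀ g : G, g ∈ T ↔ (g ∈ Subgroup.normalizer (P : Set G) ∧ Cfsg.StabilizesBlock (Subgroup.centralizer (P : Set G)) c g)) (e : ℕ) (he : (Subgroup.centralizer (P : Set G)).relIndex T = e) (F : Type*) [Group F] [Finite F] (hF : Nat.card F = Nat.card P * e) (Q : Subgroup F) (hQ : IsCyclic Q) (hQcard : Nat.card Q = Nat.card P) (hQC : Subgroup.centralizer (Q : Set F) = Q) : ∃ (I : Cfsg.IrrCharacter F → Cfsg.IrrCharacter G) (ε : Cfsg.IrrCharacter F → ℤ), Cfsg.IsPerfectIsometry p M (Set.univ : Set (Cfsg.IrrCharacter F)) B I ε ∧ ∀ η η' : Cfsg.IrrCharacter F, (∃ x ∈ Q, (η : F → ℂ) x ≠ (η : F → ℂ) 1) → (∃ x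 ∈ Q, (η' : F → ℂ) x ≠ (η' : F → ℂ) 1) → ε η = ε η' := by
  classical
  haveI := Fintype.ofFinite G
  haveI := Fintype.ofFinite F
  have hPp := defectGroup_isPGroup hPD
  obtain rfl : T = CfsgLib.Blocks.pairStab P c :=
    Subgroup.ext fun g => (hT g).trans (mem_pairStab g).symm
  obtain ⟨n, hn⟩ := IsPGroup.exists_card_eq hPp
  have hn1 : 1 ≤ n := by
    rcases Nat.eq_zero_or_pos n with rfl | h0
    · rw [pow_zero] at hn; exact absurd (Subgroup.eq_bot_of_card_eq P hn) hP1
    · exact h0
  have h := cycData_of_defect hM hPD hc hcyc hn hn1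
  have he' : cycIndex P c = e := he
  have hQn : Nat.card Q = p ^ n := hQcard.trans hn
  have hQe : Q.index = e := by
    refine Nat.eq_of_mul_eq_mul_left (Nat.card_pos (α := Q)) ?_
    rw [Subgroup.card_mul_index, hF, hQcard]
  have hlt : Q.index < p := by rw [hQe, ← he']; exact h.index_lt
  obtain ⟨cF, h', htop, hidx⟩ := model_data hM hn1 hQ hQn hQC hlt
  haveI : Finite (↥P →* ℂˣ) := finite_linearChars P
  haveI : Fintype (↥P →* ℂˣ) := Fintype.ofFinite _
  haveI : Finite (↥Q →* ℂˣ) := finite_linearChars Q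
  haveI : Fintype (↥Q →* ℂˣ) := Fintype.ofFinite _
  obtain ⟨s, m, ζ, δ, α, X, Y, hV, hS⟩ := h.exists_full
  obtain ⟨s', m', ζ', δ', α', X', Y', hV', hS'⟩ := h'.exists_full
  have hee : cycIndex Q cF = cycIndex P c := by rw [hidx, hQe, he']
  obtain ⟨I, ε, hI, hεY, hεX⟩ := h.exists_isometry h' hV hS hV' hS' hee
  refine ⟨I, ε, hI, fun η η' hη hη' => ?_⟩
  rcases Nat.lt_or_ge (cycIndex Q cF) 2 with h1 | h2
  · -- inertial index one: all signs agree
    have h1' : cycIndex Q cF = 1 := by have := h'.index_pos; omega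
    have hall : ∀ ψ : Cfsg.IrrCharacter F, ε ψ = δ * δ' := by
      intro ψ
      rcases (hS'.union ψ).1 (Set.mem_univ ψ) with hX | hY
      · obtain ⟨χ, hχ, e1⟩ := hεX ψ hX
        rw [e1, h.alpha_eq_neg hV hS (hee ▸ h1') hχ, h'.alpha_eq_neg hV' hS' h1' hX]
        ring
      · exact hεY ψ hY
    rw [hall, hall]
  · rcases model_nontrivial h' hQC htop hidx h2 hV' hS' hη hη' with e1 | ⟨e1, e2⟩
    · rw [e1]
    · rw [hεY η e1, hεY η' e2]


end Cfsg.Agent.S4634
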