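import Cfsg.Statements.S4635
import Cfsg.Agent.Lib.Blocks.CyclicCorrespondent
-- import your own Cfsg.Agent.* helpers here

set_option autoImplicit false
open Cfsg

set_option linter.unusedVariables false
set_option linter.style.haveILetI false
open CfsgLib.Blocks

namespace Cfsg.Agent.S4635

/-- Let B be a block of the finite group G relative to a maximal ideal M of the algebraic integers containing the prime p, with a nontrivial cyclic defect group P; let Z be the subgroup of order p of P and H = N_G(Z), which contains N_G(P). Let c be the block of H with defect group P that induces B. Then B and c contain the same number of irreducible characters, have the same p-regular rank, and there is a perfect isometry from c onto B. -/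
theorem result {G : Type*} [Group G] [Finite G] (p : ℕ) [Fact p.Prime] (M : Ideal Cfsg.AlgInt) (hM : Cfsg.IsPModular p M) (B : Set (Cfsg.IrrCharacter G)) (hB : Cfsg.IsPBlock M B) (P : Subgroup G) (hPD : Cfsg.IsDefectGroup p M B P) (hP1 : P ≠ ⊥) (hcyc : IsCyclic P) (Z : Subgroup G) (hZ : Z ≤ P) (hZcard : Nat.card Z = p) (H : Subgroup G) (hH : H = Subgroup.normalizer (Z : Set G)) (c : Set (Cfsg.IrrCharacter H)) (hcD : Cfsg.IsDefectGroup p M c (P.subgroupOf H)) (hc : Cfsg.IsInducedBlock M H c B) : Nat.card c = Nat.card B ∧ Cfsg.blockRank p c = Cfsg.blockRank p B ∧ ∃ (I : Cfsg.IrrCharacter H → Cfsg.IrrCharacter G) (ε : Cfsg.IrrCharacter H → ℤ), Cfsg.IsPerfectIsometry p M c B I ε := by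
  classical
  haveI := Fintype.ofFinite G
  haveI := Fintype.ofFinite H
  haveI := hcyc
  have hPp := defectGroup_isPGroup hPD
  have hNP : Subgroup.normalizer (P : Set G) ≤ H := fun t ht => by
    rw [hH]; exact normalizes_of_cyclic hZ ht
  have hPH : P ≤ H := Subgroup.le_normalizer.trans hNP
  have hmap : (P.subgroupOf H).map H.subtype = P := Subgroup.map_subgroupOf_eq_of_le hPH
  obtain ⟨n, hn⟩ := IsPGroup.exists_card_eq hPp
  have hn1 : 1 ≤ n := by
    rcases Nat.eq_zero_or_pos n with rfl | h0
    · rw [pow_zero] at hn; exact absurd (Subgroup.eq_bot_of_card_eq P hn) hP1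
    · exact h0
  obtain ⟨e, e', h, h', he⟩ := cyc_correspondent hM hc hcD (by rw [hmap]; exact hcyc)
    (by rw [hmap]; exact hNP) (a := n) (by rw [hmap]; exact hn) hn1
  haveI : Finite (↥((P.subgroupOf H).map H.subtype) →* ℂˣ) := finite_linearChars _
  haveI : Fintype (↥((P.subgroupOf H).map H.subtype) →* ℂˣ) := Fintype.ofFinite _
  haveI : Finite (↥(P.subgroupOf H) →* ℂˣ) := finite_linearChars _
  haveI : Fintype (↥(P.subgroupOf H) →* ℂˣ) := Fintype.ofFinite _
  obtain ⟨s, m, ζ, δ, α, X, Y, hV, hS⟩ := h.exists_full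
  obtain ⟨s', m', ζ', δ', α', X', Y', hV', hS'⟩ := h'.exists_full
  obtain ⟨I, ε, hI, -, -⟩ := h.exists_isometry h' hV hS hV' hS' he
  exact ⟨Nat.card_congr (Set.BijOn.equiv I hI.1), by rw [hS'.rank, hS.rank, he], I, ε, hI⟩


end Cfsg.Agent.S4635
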