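import Cfsg.Statements.S4636
import Mathlib

set_option autoImplicit false
open scoped Pointwise
open Cfsg

namespace Cfsg.Agent.S4636

/-- Let P be a nontrivial cyclic p-subgroup of the finite group G and Z its subgroup of order p. For every x outside N_G(Z), P meets its conjugate xPx⁻¹ trivially; consequently N_G(Q) ≤ N_G(Z) for every nontrivial subgroup Q of P. -/
theorem result {G : Type*} [Group G] [Finite G] (p : ℕ) [Fact p.Prime] (P : Subgroup G) (hP : IsPGroup p P) (hP1 : P ≠ ⊥) (hcyc : IsCyclic P) (Z : Subgroup G) (hZ : Z ≤ P) (hZcard : Nat.card Z = p) : (∀ x : G, x ∉ Subgroup.normalizer (Z : Set G) → P ⊓ MulAut.conj x • P = ⊥) ∧ ∀ Q : Subgroup G, Q ≤ P → Q ≠ ⊥ → Subgroup.normalizer (Q : Set G) ≤ Subgroup.normalizer (Z : Set G) := by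
  have hp : p.Prime := Fact.out
  haveI := hcyc
  -- every nontrivial subgroup of `P` contains `Z`
  have hmin : ∀ Q : Subgroup G, Q ≤ P → Q ≠ ⊥ → Z ≤ Q := by
    intro Q hQ hQ1
    obtain ⟨k, hk⟩ := IsPGroup.iff_card.mp (hP.to_le hQ)
    have hk0 : k ≠ 0 := fun h => hQ1 (Subgroup.eq_bot_of_card_eq Q (by rw [hk, h, pow_zero]))
    obtain ⟨y, hy⟩ := exists_prime_orderOf_dvd_card' (G := Q) p (hk ▸ dvd_pow_self p hk0)
    have h1 : (Subgroup.zpowers (y : G)).subgroupOf P = Z.subgroupOf P := by
      classical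
      have := Fintype.ofFinite P
      have key : ∀ H : Subgroup G, H ≤ P → Nat.card H = p →
          (H.subgroupOf P : Set P) = {a : P | a ^ p = 1} := by
        intro H hH hHc
        have hc : Nat.card (H.subgroupOf P) = p := by
          rw [Nat.card_congr (Subgroup.subgroupOfEquivOfLe hH).toEquiv, hHc]
        refine Set.eq_of_subset_of_ncard_le (fun a ha => ?_) ?_ (Set.toFinite _)
        · have h := pow_card_eq_one' (x := (⟨a, ha⟩ : H.subgroupOf P))
          rw [hc] at h
          exact congrArg Subtype.val h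
        · rw [← Nat.card_coe_set_eq (s := (H.subgroupOf P : Set P))]
          show _ ≤ Nat.card (H.subgroupOf P)
          rw [hc, Set.ncard_eq_toFinset_card', Set.toFinset_setOf]
          exact IsCyclic.card_pow_eq_one_le hp.pos
      exact SetLike.coe_injective ((key _ (Subgroup.zpowers_le.mpr (hQ y.2))
        (by rw [Nat.card_zpowers, Subgroup.orderOf_coe, hy])).trans (key Z hZ hZcard).symm)
    intro z hz
    have h2 : (⟨z, hZ hz⟩ : P) ∈ (Subgroup.zpowers (y : G)).subgroupOf P := h1 ▸ hz
    exact (Subgroup.zpowers_le.mpr y.2) h2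
  have huniq : ∀ Y : Subgroup G, Y ≤ P → Nat.card Y = p → Y = Z := fun Y hY hYc => by
    refine (Subgroup.eq_of_le_of_card_ge (hmin Y hY fun h => ?_) (by rw [hYc, hZcard])).symm
    rw [h, Subgroup.card_bot] at hYc
    exact hp.one_lt.ne hYc
  have hconj : ∀ g : G, Nat.card (MulAut.conj g • Z : Subgroup G) = p := fun g =>
    (Nat.card_congr (Subgroup.equivSMul (MulAut.conj g) Z).toEquiv).symm.trans hZcard
  have hnorm : ∀ g : G, MulAut.conj g • Z ≤ P → g ∈ Subgroup.normalizer (Z : Set G) := fun g hg => by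
    have h := huniq _ hg (hconj g)
    rw [Subgroup.mem_normalizer_iff]
    intro y
    conv_rhs => rw [← h]
    rw [← MulAut.conj_apply, ← MulAut.smul_def, Subgroup.smul_mem_pointwise_smul_iff]
  constructor
  · intro x hx
    by_contra hne
    refine hx (hnorm x ?_)
    have h1 : Z ≤ P ⊓ MulAut.conj x • P := hmin _ inf_le_left hne
    have h2 : MulAut.conj x • Z ≤ P ⊓ MulAut.conj x • P := by
      have hQ1 : (MulAut.conj x)⁻¹ • (P ⊓ MulAut.conj x • P) ≠ ⊥ := fun h => hne (by
        rw [inv_smul_eq_iff] at h; rwa [Subgroup.smul_bot] at h)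
      have h3 := hmin _ (Subgroup.pointwise_smul_subset_iff.mpr (by
        rw [inv_inv]; exact inf_le_right)) hQ1
      exact Subgroup.pointwise_smul_subset_iff.mpr h3
    exact h2.trans inf_le_left
  · intro Q hQ hQ1 g hg
    refine hnorm g ?_
    intro y hy
    obtain ⟨z, hz, rfl⟩ := hy
    exact hQ ((Subgroup.mem_normalizer_iff.mp hg z).mp (hmin Q hQ hQ1 hz))

end Cfsg.Agent.S4636
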