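import Cfsg.Statements.S4637
import Cfsg.Agent.Lib.Blocks.KleinBlocks

set_option autoImplicit false
open Cfsg

namespace Cfsg.Agent.S4637

/-- Let B be a block of the finite group G relative to a maximal ideal M of the algebraic integers containing 2, with a Klein four defect group P. Let c be a block of C_G(P) inducing B, T the stabilizer of c in N_G(P) and e the index of C_G(P) in T (the inertial index). Then e is 1 or 3, B contains exactly four irreducible characters, and the 2-regular rank of B (its number of irreducible Brauer characters) equals e. -/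
theorem result {G : Type*} [Group G] [Finite G] (M : Ideal Cfsg.AlgInt) (hM : Cfsg.IsPModular 2 M) (B : Set (Cfsg.IrrCharacter G)) (hB : Cfsg.IsPBlock M B) (P : Subgroup G) (hPD : Cfsg.IsDefectGroup 2 M B P) (hV : IsKleinFour P) (c : Set (Cfsg.IrrCharacter (Subgroup.centralizer (P : Set G)))) (hc : Cfsg.IsInducedBlock M (Subgroup.centralizer (P : Set G)) c B) (T : Subgroup G) (hT : ∀ g : G, g ∈ T ↔ (g ∈ Subgroup.normalizer (P : Set G) ∧ Cfsg.StabilizesBlock (Subgroup.centralizer (P : Set G)) c g)) (e : ℕ) (he : (Subgroup.centralizer (P : Set G)).relIndex T = e) : (e = 1 ∨ e = 3) ∧ Nat.card B = 4 ∧ Cfsg.blockRank 2 B = e := by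
  classical
  haveI := Fintype.ofFinite G
  haveI := Fintype.ofFinite (Subgroup.centralizer (P : Set G))
  have hp : IsPGroup 2 P := IsPGroup.of_card (n := 2) (hV.card_four.trans (by norm_num))
  have hpair := (CfsgLib.Blocks.induced_centralizer_iff hM hp).1 hc
  obtain ⟨⟨R, g⟩, hle, hmax⟩ := CfsgLib.Blocks.exists_maximal_ge hM ⟨P, c⟩ hpair
  obtain rfl : P = R := Subgroup.eq_of_le_of_card_ge
    (CfsgLib.Blocks.subpairLE_le (a := ⟨P, c⟩) (b := ⟨R, g⟩) hle)
    (by
      change Nat.card R ≤ Nat.card P
      rw [CfsgLib.Blocks.card_defectGroup hM hB hPD,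
        CfsgLib.Blocks.card_defectGroup hM hB (CfsgLib.Blocks.maximal_isDefectGroup hM hmax)])
  obtain rfl : c = g := CfsgLib.Blocks.subpair_unique hM hp hmax.1.1.2 hpair.1.2 hmax.1.1.2 hle
    Relation.ReflTransGen.refl
  obtain rfl : T = CfsgLib.Blocks.pairStab P c :=
    Subgroup.ext fun g => (hT g).trans (CfsgLib.Blocks.mem_pairStab g).symm
  subst he
  rw [Subgroup.relIndex, CfsgLib.Blocks.card_autInducedBy_eq_index
    (fun t ht => ((CfsgLib.Blocks.mem_pairStab t).1 ht).1)]
  exact CfsgLib.Blocks.klein_blocks hM hmax hV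

end Cfsg.Agent.S4637
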