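import Cfsg.Statements.S4638
import Cfsg.Agent.Lib.Blocks.KleinIso
import Cfsg.Agent.Lib.Blocks.CyclicCorrespondent
-- import your own Cfsg.Agent.* helpers here

set_option autoImplicit false
open Cfsg

set_option linter.unusedVariables false
set_option linter.style.haveILetI false
open CfsgLib.Blocks

namespace Cfsg.Agent.S4638

/-- Let B be a block of the finite group G relative to a maximal ideal M of the algebraic integers containing 2, with a Klein four defect group P, and let c be its Brauer correspondent: the block of N_G(P) with defect group P that induces B. Then there is a perfect isometry from c onto B. -/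
theorem result {G : Type*} [Group G] [Finite G] (M : Ideal Cfsg.AlgInt) (hM : Cfsg.IsPModular 2 M) (B : Set (Cfsg.IrrCharacter G)) (hB : Cfsg.IsPBlock M B) (P : Subgroup G) (hPD : Cfsg.IsDefectGroup 2 M B P) (hV : IsKleinFour P) (c : Set (Cfsg.IrrCharacter (Subgroup.normalizer (P : Set G)))) (hcD : Cfsg.IsDefectGroup 2 M c (P.subgroupOf (Subgroup.normalizer (P : Set G)))) (hc : Cfsg.IsInducedBlock M (Subgroup.normalizer (P : Set G)) c B) : ∃ (I : Cfsg.IrrCharacter (Subgroup.normalizer (P : Set G)) → Cfsg.IrrCharacter G) (ε : Cfsg.IrrCharacter (Subgroup.normalizer (P : Set G)) → ℤ), Cfsg.IsPerfectIsometry 2 M c B I ε := by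
  classical
  haveI := Fintype.ofFinite G
  haveI : Fintype (Subgroup.normalizer (P : Set G)) := Fintype.ofFinite _
  set D : Subgroup (Subgroup.normalizer (P : Set G)) :=
    P.subgroupOf (Subgroup.normalizer (P : Set G)) with hDdef
  have hmap : D.map (Subgroup.normalizer (P : Set G)).subtype = P :=
    Subgroup.map_subgroupOf_eq_of_le Subgroup.le_normalizer
  obtain ⟨e', hmax⟩ := exists_maximal_at hM hc.1 hcD
  have hND : Subgroup.normalizer
      ((D.map (Subgroup.normalizer (P : Set G)).subtype : Subgroup G) : Set G) ≤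
      Subgroup.normalizer (P : Set G) := by rw [hmap]
  have ha : Subgroup.centralizer
      ((D.map (Subgroup.normalizer (P : Set G)).subtype : Subgroup G) : Set G) ≤
      Subgroup.normalizer (P : Set G) := (Subgroup.centralizer_le_normalizer _).trans hND
  have hDp : IsPGroup 2 (D.map (Subgroup.normalizer (P : Set G)).subtype : Subgroup G) :=
    hmax.1.1.1.map _
  have h : upIdx (⟨D, e'⟩ : Cfsg.BrauerPairIdx (Subgroup.normalizer (P : Set G))) ha =
      ⟨D.map (Subgroup.normalizer (P : Set G)).subtype, CfsgLib.Blocks.irrPull (upE D ha) '' e'⟩ :=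
    rfl
  have hmaxG := (maximal_up_iff hM hND h (pair_of_induced hM hDp h hmax.1 hc) hmax.1).2 hmax
  have hVP : IsKleinFour (D.map (Subgroup.normalizer (P : Set G)).subtype : Subgroup G) := by
    rw [hmap]; exact hV
  set φ : D ≃* (D.map (Subgroup.normalizer (P : Set G)).subtype : Subgroup G) :=
    Subgroup.equivMapOfInjective D (Subgroup.normalizer (P : Set G)).subtype Subtype.coe_injective
    with hφ
  have hVD : IsKleinFour D :=
    ⟨by rw [Nat.card_congr φ.toEquiv, hVP.card_four],
      by rw [Monoid.exponent_eq_of_mulEquiv φ, hVP.exponent_two]⟩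
  refine klein_isometry (klein_data_iso hM hmaxG hVP) (klein_data_iso hM hmax hVD) φ hVP hVD
    (klein_blocks hM hmaxG hVP).2.1 (klein_blocks hM hmax hVD).2.1 fun u v => ⟨?_, ?_⟩
  · rintro ⟨t, ht, e⟩
    exact ⟨t, (mem_pairStab_up_iff ha e' t).1 ht, congrArg Subtype.val e⟩
  · rintro ⟨t, ht, e⟩
    have htH : t ∈ Subgroup.normalizer (P : Set G) := hND ((mem_pairStab t).1 ht).1
    exact ⟨⟨t, htH⟩, (mem_pairStab_up_iff ha e' ⟨t, htH⟩).2 ht, Subtype.ext e⟩


end Cfsg.Agent.S4638
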