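import Cfsg.Statements.S4642
import Cfsg.Agent.Lib.Blocks.FongLocal
-- import your own Cfsg.Agent.* helpers here

set_option autoImplicit false
open Cfsg

namespace Cfsg.Agent.S4642

open CfsgLib.Blocks CfsgLib.CharTheory

set_option linter.style.haveILetI false
set_option linter.unusedSimpArgs false


/-- Let G be a finite group, p a prime, M a maximal ideal of the algebraic integers containing p, K the largest normal subgroup of G of order prime to p, and L the preimage in G of the largest normal p-subgroup of G/K. Let Q be a Sylow p-subgroup of L and suppose C_G(Q) ≤ L. Let θ be an irreducible character of K invariant under conjugation by every element of G, and let B be the set of irreducible characters of G whose restriction to K contains θ. Then B is a block of G, every Sylow p-subgroup of G is a defect group of B, and B is of principal type: for every p-subgroup R of G exactly one block of C_G(R) induces B. -/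
theorem result {G : Type*} [Group G] [Fintype G] (p : ℕ) [Fact p.Prime] (M : Ideal Cfsg.AlgInt) (hM : Cfsg.IsPModular p M) (K : Subgroup G) (hK : K = Cfsg.pPrimeCore p G) [Fintype K] (L : Subgroup G) (hL : L = Cfsg.pPrimePCore p G) (Q : Subgroup G) (hQL : Q ≤ L) (hQp : IsPGroup p Q) (hQS : ¬ p ∣ Q.relIndex L) (hCQ : Subgroup.centralizer (Q : Set G) ≤ L) (θ : Cfsg.IrrCharacter K) (hθ : ∀ g : G, Cfsg.IsConjCharOf K g (θ : K → ℂ) (θ : K → ℂ)) (B : Set (Cfsg.IrrCharacter G)) (hBdef : ∀ χ : Cfsg.IrrCharacter G, χ ∈ B ↔ Cfsg.classInner (fun k : K => (χ : G → ℂ) k) (θ : K → ℂ) ≠ 0) : Cfsg.IsPBlock M B ∧ (∀ S : Sylow p G, Cfsg.IsDefectGroup p M B S) ∧ ∀ R : Subgroup G, IsPGroup p R → ∃! f : Set (Cfsg.IrrCharacter (Subgroup.centralizer (R : Set G))), Cfsg.IsInducedBlock M (Subgroup.centralizer (R : Set G)) f B := by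
  classical
  subst hK
  subst hL
  haveI := pPrimePCore_normal' (G := G) (p := p)
  haveI := Fintype.ofFinite (pPrimePCore p G)
  obtain ⟨B₀, hB₀, hmem, hsyl, hdef⟩ := fong_core hM not_dvd_card_pPrimeCore'
    pPrimeCore_le_pPrimePCore relIndex_pPrimePCore hQL hQp hQS hCQ θ hθ
  have hBB : B = B₀ := Set.ext fun χ => (hBdef χ).trans (hmem χ).symm
  subst hBB
  refine ⟨hB₀, hsyl, fun R hR => ?_⟩
  haveI := Fintype.ofFinite (Subgroup.centralizer (R : Set G))
  obtain ⟨f₀, hf₀⟩ := fong_local_unique hM not_dvd_card_pPrimeCore'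
    pPrimeCore_le_pPrimePCore relIndex_pPrimePCore hQL hQp hQS hCQ θ hθ hR
  have hone := isPBlock_singleton_of_coprime hM (not_dvd_card_pPrimeCore' (G := G) (p := p)) θ
  obtain ⟨χ, hχ⟩ := block_nonempty hM hB₀
  have hcov : ∃ χ ∈ B, ∃ θ' ∈ ({θ} : Set (IrrCharacter (pPrimeCore p G))),
      classInner (fun n : pPrimeCore p G => (χ : G → ℂ) n)
        (θ' : pPrimeCore p G → ℂ) ≠ 0 := ⟨χ, hχ, θ, rfl, (hmem χ).1 hχ⟩
  have hstK : ∀ x : G, StabilizesBlock (pPrimeCore p G) {θ} x := fun x =>
    ⟨mem_normalizer_normal x, fun χ hχ => ⟨θ, rfl, by rw [Set.mem_singleton_iff] at hχ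
                                                      subst hχ
                                                      exact hθ x⟩⟩
  have huniq : ∀ f : Set (IrrCharacter (Subgroup.centralizer (R : Set G))),
      IsInducedBlock M (Subgroup.centralizer (R : Set G)) f B → f = f₀ := by
    intro f hf
    have hp := (induced_centralizer_iff hM hR).1 hf
    obtain ⟨ξ, hξ⟩ := bne hM hp.1.2
    have hn : Nice M R (covFn (G := G) ({θ} : Set (IrrCharacter (pPrimeCore p G)))) :=
      Nice.of_classFun (covFn_cls _) (covFn_mem hM hone)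
    have h1 := lam_conv hM hR (nice_blockCoeff hM hB₀) hn ξ
    rw [conv_blockCoeff_covFn hM hB₀ hone hcov, pairOf_lam hM hp hξ, one_mul,
      covFn_of_stable hstK, ← subgroupBlockCoeff_eq] at h1
    exact hf₀ f hp.1.2 ξ hξ h1.symm
  obtain ⟨S, hS⟩ := hR.exists_le_sylow
  obtain ⟨e, hmax⟩ := exists_maximal_at hM hB₀ (hsyl S)
  obtain ⟨f, ⟨hf, hle⟩, -⟩ := existsUnique_subpair hM hmax.1.1.1 hmax.1.1.2 R hS
  have hpair := (pairOf_subpair_iff hM (a := ⟨R, f⟩) (b := ⟨_, e⟩) hle B).2 hmax.1
  exact ⟨f, (induced_centralizer_iff hM hR).2 hpair,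
    fun g hg => (huniq g hg).trans (huniq f ((induced_centralizer_iff hM hR).2 hpair)).symm⟩

end Cfsg.Agent.S4642
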