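import Cfsg.Statements.S4647
import Cfsg.Agent.Lib.Blocks.MinimalDim
import Cfsg.Agent.Lib.Blocks.BlockAlgebra
import Cfsg.Agent.Lib.Blocks.MinMax
import Cfsg.Agent.Lib.Blocks.Pairs

set_option autoImplicit false
open Cfsg
open CfsgLib.Blocks CfsgLib.CharTheory

namespace Cfsg.Agent.S4647

theorem result {G : Type*} [Group G] [Finite G] (p : ℕ) [Fact p.Prime] (M : Ideal Cfsg.AlgInt) (hM : Cfsg.IsPModular p M) (B : Set (Cfsg.IrrCharacter G)) (hB : Cfsg.IsPBlock M B) (D : Subgroup G) (hD : Cfsg.IsDefectGroup p M B D) (a d : ℕ) (ha : (Nat.card G).factorization p = a) (hd : Nat.card D = p ^ d) (hmin : ∑ᶠ χ ∈ B, Cfsg.charDegree (χ : G → ℂ) ^ 2 = p ^ (2 * a - d)) : Cfsg.IsNilpotentBlock p M B := by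
  classical
  haveI := Fintype.ofFinite G
  haveI := hM.2.1
  letI := Ideal.Quotient.field M
  haveI := res_charP hM
  refine ⟨hB, fun Q e he g hg _ hreg => ?_⟩
  set β : G → ℂ := blockCoeff B with hβ
  have hmem : ∀ z, MemLocalRing M (β z) := memRing_blockCoeff hM hB
  set ε : G → AlgInt ⧸ M := fun z => res hM (β z) with hε
  have hcl : ∀ z x, ε (x * z * x⁻¹) = ε z := fun z x => by
    simp only [hε, hβ, blockCoeff_isClassFunction B z x]
  have hidem : ∀ z, ∑ x, ε x * ε (x⁻¹ * z) = ε z := fun z => by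
    simp only [hε]
    conv_rhs => rw [hβ, ← conv_blockCoeff B]
    simp only [conv]
    rw [res_sum hM fun x _ => (loc hM).mul_mem (hmem _) (hmem _)]
    exact Finset.sum_congr rfl fun x _ => (res_mul hM (hmem _) (hmem _)).symm
  have hnm : ∀ z, ε z ≠ 0 → ¬ MemLocalIdeal M (β z) := fun z hz h =>
    hz ((res_eq_zero_iff hM (hmem z)).2 h)
  obtain ⟨g₀, hg₀⟩ := exists_defectClass hM hB
  have hne : ∃ z, ε z ≠ 0 :=
    ⟨g₀, fun h => hg₀.2.1 ((res_eq_zero_iff hM (hmem g₀)).1 h)⟩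
  obtain ⟨hQp, heB⟩ := he.1
  obtain ⟨S, hS⟩ := hQp.exists_le_sylow
  have hPa : Nat.card (S : Subgroup G) = p ^ a := by rw [S.card_eq_multiplicity, ha]
  have hda : d ≤ a := by
    rw [← ha, ← Nat.Prime.pow_dvd_iff_le_factorization hM.1 Nat.card_pos.ne', ← hd]
    exact Subgroup.card_subgroup_dvd_card D
  have hG : (Nat.card G : ℂ) ≠ 0 := Nat.cast_ne_zero.2 Nat.card_pos.ne'
  have hE : Lmat β * Lmat β = Lmat β := by rw [Lmat_mul, hβ, conv_blockCoeff]
  have hEtr : (Lmat β).trace = ((p ^ (2 * a - d) : ℕ) : ℂ) := by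
    rw [← hmin, finsum_mem_eq_finite_toFinset_sum _ B.toFinite]
    simp only [Matrix.trace, Matrix.diag, Lmat, Matrix.of_apply, mul_inv_cancel]
    rw [Finset.sum_const, Finset.card_univ, ← Nat.card_eq_fintype_card, nsmul_eq_mul, hβ, blockCoeff,
      mul_inv_cancel_left₀ hG, finsum_mem_bset]
    push_cast
    exact Finset.sum_congr rfl fun χ _ => by rw [irr_one_conj, sq, irr_charDegree_cast]
  have hrank := (res_rank hM (Lmat β) (fun i j => hmem _) hE _ hEtr).2
  have hd' : ∀ h, ε h ≠ 0 → ∀ R : Subgroup G, IsPGroup p R →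
      R ≤ Subgroup.centralizer ({h} : Set G) → Nat.card R ≤ p ^ d := by
    intro h hh R hR hRh
    obtain ⟨D', hD', hle⟩ := exists_defectGroup_ge hM hB (hnm h hh) hR hRh
    rw [← hd, card_defectGroup hM hB hD, ← card_defectGroup hM hB hD']
    exact Subgroup.card_le_of_le hle
  obtain ⟨c, hc, hεc⟩ : ∃ c ∈ Subgroup.centralizer (Q : Set G), ε c ≠ 0 := by
    by_contra hno
    push Not at hno
    obtain ⟨ξ, hξ⟩ := block_nonempty hM heB
    have h1 := (forall_memIdeal_iff_lam hM (nice_blockCoeff hM hB) heB hξ).1 he.2.2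
    have h2 : lam hM Q β ξ = 0 := by
      rw [lam_congr hM (nice_blockCoeff hM hB) (Nice.zero hM)
        (fun c hc => by rw [res_zero]; exact hno c hc) ξ, lam_zero]
    exact one_ne_zero (h1.symm.trans h2)
  have hm : Matrix.of (fun x y : G => ε (x * y⁻¹)) = (Lmat β).map (res hM) := by ext i j; rfl
  obtain ⟨y, hy, hyq⟩ := exists_inner_of_minimal ε hcl hidem hne S.1 S.isPGroup' hPa hda
    (by rw [hm]; exact hrank) hd' hS hc hεc hg
  obtain ⟨k, hk⟩ := S.isPGroup' ⟨y, hy⟩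
  exact mem_centralizer_of_inner hg hreg (k := k) (by simpa using congrArg Subtype.val hk) hyq

end Cfsg.Agent.S4647
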