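import Cfsg.Statements.S4648
import Cfsg.Agent.Lib.Blocks.SmallBlocks
import Cfsg.Agent.Lib.Blocks.SmallNilpotent

set_option autoImplicit false
open Cfsg

namespace Cfsg.Agent.S4648

/-- Let B be a block of the finite group G relative to a maximal ideal M of the algebraic integers containing the prime p, with a nontrivial defect group D. If B has p-regular rank 1 and at most four irreducible characters, then B is nilpotent, D has exactly as many elements as B has irreducible characters, and p is 2 or 3. -/
theorem result {G : Type*} [Group G] [Finite G] (p : ℕ) [Fact p.Prime] (M : Ideal Cfsg.AlgInt) (hM : Cfsg.IsPModular p M) (B : Set (Cfsg.IrrCharacter G)) (hB : Cfsg.IsPBlock M B) (D : Subgroup G) (hD : Cfsg.IsDefectGroup p M B D) (hD1 : D ≠ ⊥) (hl : Cfsg.blockRank p B = 1) (hk : Nat.card B ≤ 4) : Cfsg.IsNilpotentBlock p M B ∧ Nat.card D = Nat.card B ∧ (p = 2 ∨ p = 3) := by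
  classical
  haveI := Fintype.ofFinite G
  have hc : Nat.card B = (CfsgLib.Blocks.bset B).card := by
    rw [Nat.card_eq_fintype_card]
    exact Fintype.card_of_finset' (CfsgLib.Blocks.bset B) fun χ => CfsgLib.Blocks.mem_bset
  have hkd := CfsgLib.Blocks.small_block hM hB hl (hc ▸ hk)
  have hcD := CfsgLib.Blocks.card_defectGroup hM hB hD
  have hDk : Nat.card D = Nat.card B := by rw [hcD, hc, hkd]
  have hd : Cfsg.blockDefect p B ≠ 0 := fun h => hD1 (Subgroup.eq_bot_of_card_eq D (by
    rw [hcD, h, pow_zero]))
  refine ⟨CfsgLib.Blocks.nilpotent_of_small hM hB hD hl hDk.symm (hDk ▸ hk), hDk, ?_⟩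
  have h4 : p ^ Cfsg.blockDefect p B ≤ 4 := by rw [← hcD, hDk]; exact hk
  have hp4 : p ≤ 4 := (Nat.le_self_pow hd p).trans h4
  have hp : p.Prime := Fact.out
  interval_cases p <;> simp_all (config := { decide := true })

end Cfsg.Agent.S4648
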