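import Cfsg.Statements.S4687
import Cfsg.Agent.Lib.Blocks.Nilpotent

set_option autoImplicit false
set_option linter.style.haveILetI false
open Cfsg

namespace Cfsg.Agent.S4687

open CfsgLib.Blocks CfsgLib.CharTheory

/-- Fix a prime p and a maximal ideal M of the algebraic integers containing p, and a p-block B of the finite group G with maximal Brauer pair (P, e), P abelian. Then B is nilpotent if and only if its inertial quotient is trivial: every element of N_G(P) stabilizing e centralizes P. -/
theorem result {G : Type*} [Group G] [Fintype G] (p : ℕ) [Fact p.Prime] (M : Ideal Cfsg.AlgInt) (hM : Cfsg.IsPModular p M) (B : Set (Cfsg.IrrCharacter G)) (P : Subgroup G) (e : Set (Cfsg.IrrCharacter (Subgroup.centralizer (P : Set G)))) (hmax : Cfsg.IsMaximalBrauerPair p M B P e) (hab : ∀ x ∈ P, ∀ y ∈ P, x * y = y * x) : Cfsg.IsNilpotentBlock p M B ↔ ∀ x : G, x ∈ Subgroup.normalizer (P : Set G) → Cfsg.StabilizesBlock (Subgroup.centralizer (P : Set G)) e x → x ∈ Subgroup.centralizer (P : Set G) := by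
  classical
  have hF := blockFusion_isBlockFusion hM hmax
  constructor
  · intro hnil x hxN hst
    have h := conjHom_mem_block hF (Relation.ReflTransGen.refl : Cfsg.SubpairLE p M P e P e)
      ((mem_pairStab x).2 ⟨hxN, hst⟩)
    rw [hom_eq_inner_of_nilpotent hM hF hnil P] at h
    obtain ⟨-, u, hu, hux⟩ := h
    intro q hq
    have h1 : x * q * x⁻¹ = u * q * u⁻¹ := hux ⟨q, hq⟩
    rw [hab u hu q hq, mul_inv_cancel_right] at h1
    exact (mul_inv_eq_iff_eq_mul.1 h1).symm
  · intro h
    refine nilpotent_of_hom_eq_inner hM hF fun Q => Set.ext fun φ => ⟨fun hφ => ?_, fun hφ => ?_⟩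
    · obtain ⟨y, hy, hyφ⟩ := exists_extend_abelian hM hF hab hφ
      obtain ⟨hyN, hyst⟩ := (mem_pairStab y).1 hy
      have hyC := h y hyN hyst
      refine ⟨((blockFusion hM hmax).le_of_mem hφ).1, 1, P.one_mem, fun q => ?_⟩
      rw [hyφ q]
      have h1 := hyC (q : G) (((blockFusion hM hmax).le_of_mem hφ).1 q.2)
      rw [← h1, mul_inv_cancel_right]
      simp
    · obtain ⟨hQ, g, hg, hφg⟩ := hφ
      have e1 : φ = Cfsg.conjHom Q g := MonoidHom.ext fun q => hφg q
      rw [e1]
      exact (blockFusion hM hmax).conj_mem hQ hg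

end Cfsg.Agent.S4687
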