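import Cfsg.Statements.S4649
import Cfsg.Agent.Lib.Blocks.CyclicMain
import Cfsg.Agent.S4687
import Cfsg.Agent.Lib.Blocks.AbelianRankOne
-- import your own Cfsg.Agent.* helpers here

set_option autoImplicit false
open Cfsg

set_option linter.unusedVariables false
open CfsgLib.Blocks
namespace Cfsg.Agent.S4649

/-- A block with cyclic defect group, of a finite group relative to a maximal ideal M of the algebraic integers containing the prime p, is nilpotent if and only if its p-regular rank is 1 (it has a unique irreducible Brauer character). -/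
theorem result {G : Type*} [Group G] [Finite G] (p : ℕ) [Fact p.Prime] (M : Ideal Cfsg.AlgInt) (hM : Cfsg.IsPModular p M) (B : Set (Cfsg.IrrCharacter G)) (hB : Cfsg.IsPBlock M B) (P : Subgroup G) (hPD : Cfsg.IsDefectGroup p M B P) (hcyc : IsCyclic P) : Cfsg.IsNilpotentBlock p M B ↔ Cfsg.blockRank p B = 1 := by
  classical
  haveI := Fintype.ofFinite G
  obtain ⟨c, hmax⟩ := exists_maximal_at hM hB hPD
  haveI := hcyc
  have hab : ∀ x ∈ P, ∀ y ∈ P, x * y = y * x := fun x hx y hy => by
    haveI : IsMulCommutative P := IsCyclic.isMulCommutative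
    exact congrArg Subtype.val ((IsMulCommutative.is_comm (M := P)).comm ⟨x, hx⟩ ⟨y, hy⟩)
  rw [Cfsg.Agent.S4687.result p M hM B P c hmax hab]
  have htriv : (∀ x : G, x ∈ Subgroup.normalizer (P : Set G) →
      Cfsg.StabilizesBlock (Subgroup.centralizer (P : Set G)) c x →
        x ∈ Subgroup.centralizer (P : Set G)) ↔
      CfsgLib.Blocks.pairStab P c ≤ Subgroup.centralizer (P : Set G) :=
    ⟨fun h x hx => h x ((mem_pairStab x).1 hx).1 ((mem_pairStab x).1 hx).2,
      fun h x h1 h2 => h ((mem_pairStab x).2 ⟨h1, h2⟩)⟩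
  rw [htriv]
  refine ⟨fun ht => (rank_one_of_abelian_triv hM hmax hab ht).1, fun hl => ?_⟩
  obtain ⟨n, hn⟩ := IsPGroup.exists_card_eq hmax.1.1.1
  rcases Nat.eq_zero_or_pos n with rfl | hpos
  · rw [pow_zero] at hn
    have hb : P = ⊥ := Subgroup.eq_bot_of_card_eq P hn
    intro x _ q hq
    rw [hb, Subgroup.coe_bot, Set.mem_singleton_iff] at hq
    rw [hq, one_mul, mul_one]
  have h : CycData p M B P c n := ⟨hM, hmax, hcyc, hn, hpos⟩
  haveI : Finite (↥P →* ℂˣ) := finite_linearChars P
  haveI : Fintype (↥P →* ℂˣ) := Fintype.ofFinite _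
  obtain ⟨s, m, ζ, δ, α, X, Y, hV, hS⟩ := h.exists_full
  have h1 : cycIndex P c = 1 := by rw [← hS.rank, hl]
  exact Subgroup.relIndex_eq_one.1 h1


end Cfsg.Agent.S4649
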