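import Cfsg.Statements.S4650
import Cfsg.Agent.Lib.Blocks.CyclicPairs
import Cfsg.Agent.Lib.Blocks.FirstMain

set_option autoImplicit false
open Cfsg CfsgLib.Blocks CfsgLib.CharTheory
open scoped ComplexConjugate

set_option linter.unusedVariables false

namespace Cfsg.Agent.S4650

open CfsgLib.Blocks CfsgLib.CharTheory in
theorem inducedIn_of_pair {G : Type*} [Group G] [Fintype G] {p : ℕ} {M : Ideal Cfsg.AlgInt} (hM : IsPModular p M)
    {H : Subgroup G} [Fintype H] (a : BrauerPairIdx H)
    (ha : Subgroup.centralizer ((a.1.map H.subtype : Subgroup G) : Set G) ≤ H)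
    {f : Set (IrrCharacter H)} (h : IsBrauerPairOf p M f a.1 a.2) :
    IsInducedBlockIn M H (Subgroup.centralizer ((a.1.map H.subtype : Subgroup G) : Set G))
      (irrPull (upE a.1 ha) '' a.2) f := by
  classical
  obtain ⟨R, g⟩ := a
  haveI := Fintype.ofFinite (Subgroup.centralizer (R : Set H))
  have h' := (induced_centralizer_iff hM h.1.1).2 h
  haveI := Fintype.ofFinite (Subgroup.centralizer ((R.map H.subtype : Subgroup G) : Set G))
  refine ⟨isPBlock_image _ h'.1, h'.2.1, ?_⟩
  rintro _ ⟨ξ, hξ, rfl⟩ χ hχ t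
  have key : inducedCentralCharIn H
      (Subgroup.centralizer ((R.map H.subtype : Subgroup G) : Set G))
      (irrPull (upE R ha) ξ : _ → ℂ) (t : G) =
      inducedCentralChar (Subgroup.centralizer (R : Set H)) (ξ : _ → ℂ) t := by
    simp only [inducedCentralCharIn, inducedCentralChar]
    refine finsum_mem_eq_of_bijOn (upE R ha) ⟨?_, (upE R ha).injective.injOn, ?_⟩ fun k _ => by
      simp only [irrPull_apply, map_one]
    · rintro k ⟨x, hx⟩
      refine isConj_iff.2 ⟨x⁻¹, Subtype.ext ?_⟩
      show (x : G)⁻¹ * (t : G) * (x : G)⁻¹⁻¹ = (k : G)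
      rw [← hx]; group
    · intro k' hk'
      obtain ⟨y, hy⟩ := isConj_iff.1 (show IsConj t (k' : H) from hk')
      refine ⟨(upE R ha).symm k', ⟨y⁻¹, ?_⟩, (upE R ha).apply_symm_apply k'⟩
      show (y : G)⁻¹ * ((k' : H) : G) * (y : G)⁻¹⁻¹ = (t : G)
      rw [← hy]
      push_cast
      group
  rw [key]
  exact h'.2.2 ξ hξ χ hχ t

open CfsgLib.Blocks CfsgLib.CharTheory in
theorem mem_pairStab_down {G : Type*} [Group G] [Fintype G] {H : Subgroup G} [Fintype H]
    {a : BrauerPairIdx H}
    {ha : Subgroup.centralizer ((a.1.map H.subtype : Subgroup G) : Set G) ≤ H}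
    {P : Subgroup G} {c : Set (IrrCharacter (Subgroup.centralizer (P : Set G)))}
    (h : upIdx a ha = ⟨P, c⟩) {y : H} (hy : (y : G) ∈ pairStab P c) : y ∈ pairStab a.1 a.2 := by
  have hy' : conjIdx (y : G) (upIdx a ha) = upIdx a ha :=
    h.symm ▸ (stab_iff_idx (f := c) (y : G)).1 ((mem_pairStab _).1 hy)
  have hmap : (conjIdx y a).1.map H.subtype = a.1.map H.subtype := by
    have h1 := congrArg Sigma.fst hy'
    exact (map_conj_subtype a.1 y).trans h1
  have hC' : Subgroup.centralizer
      (((conjIdx y a).1.map H.subtype : Subgroup G) : Set G) ≤ H := hmap.symm ▸ ha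
  have e := upIdx_conj a ha y hC'
  rw [hy'] at e
  refine (mem_pairStab _).2 ((stab_iff_idx (f := a.2) y).2 ?_)
  revert e hC' hmap
  generalize conjIdx y a = a'
  intro hmap hC' e
  obtain ⟨R, g⟩ := a
  obtain ⟨R', g'⟩ := a'
  obtain rfl : R' = R := Subgroup.map_injective Subtype.coe_injective hmap
  obtain ⟨-, h2⟩ := Sigma.mk.inj_iff.1 e
  have h3 := Set.image_injective.2 (irrPull_injective _) (eq_of_heq h2)
  subst h3
  rfl


/-- Let B be a block of the finite group G relative to a maximal ideal M of the algebraic integers containing the prime p, with a nontrivial commutative defect group P; let c be a block of C_G(P) inducing B and T the stabilizer of c in N_G(P). Then T/C_G(P) acts freely on the non-identity elements of P (an element of T fixing a non-identity element of P under conjugation lies in C_G(P)) if and only if, for every nontrivial subgroup Q of P, the block of C_G(Q) induced by c inside C_G(Q) is a nilpotent block of C_G(Q). -/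
theorem result {G : Type*} [Group G] [Finite G] (p : ℕ) [Fact p.Prime] (M : Ideal Cfsg.AlgInt) (hM : Cfsg.IsPModular p M) (B : Set (Cfsg.IrrCharacter G)) (hB : Cfsg.IsPBlock M B) (P : Subgroup G) (hPD : Cfsg.IsDefectGroup p M B P) (hPab : ∀ x ∈ P, ∀ y ∈ P, x * y = y * x) (hP1 : P ≠ ⊥) (c : Set (Cfsg.IrrCharacter (Subgroup.centralizer (P : Set G)))) (hc : Cfsg.IsInducedBlock M (Subgroup.centralizer (P : Set G)) c B) (T : Subgroup G) (hT : ∀ g : G, g ∈ T ↔ (g ∈ Subgroup.normalizer (P : Set G) ∧ Cfsg.StabilizesBlock (Subgroup.centralizer (P : Set G)) c g)) : (∀ g ∈ T, ∀ x ∈ P, x ≠ 1 → g * x * g⁻¹ = x → g ∈ Subgroup.centralizer (P : Set G)) ↔ ∀ Q : Subgroup G, Q ≤ P → Q ≠ ⊥ → ∀ f : Set (Cfsg.IrrCharacter (Subgroup.centralizer (Q : Set G))), Cfsg.IsInducedBlockIn M (Subgroup.centralizer (Q : Set G)) (Subgroup.centralizer (P : Set G)) c f → Cfsg.IsNilpotentBlock p M f := by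
  classical
  haveI := Fintype.ofFinite G
  haveI := Fintype.ofFinite (Subgroup.centralizer (P : Set G))
  have hp : IsPGroup p P := defectGroup_isPGroup hPD
  have hmax := pair_at_defect_maximal hM ((induced_centralizer_iff hM hp).1 hc) hPD
  have hcb : IsPBlock M c := hc.1
  obtain rfl : T = pairStab P c :=
    Subgroup.ext fun g => (hT g).trans (mem_pairStab g).symm
  have hPC : ∀ Q : Subgroup G, Q ≤ P → P ≤ Subgroup.centralizer (Q : Set G) :=
    fun Q hQP x hx q hq => hPab q (hQP hq) x hx
  constructor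
  · intro hfree Q hQP hQ1 f hf
    haveI := Fintype.ofFinite (Subgroup.centralizer (Q : Set G))
    obtain ⟨a, ha, hup, hpair⟩ := pairOf_of_inducedIn hM hp (hPC Q hQP) (centralizer_anti hQP) hf
    have hmap : a.1.map (Subgroup.centralizer (Q : Set G)).subtype = P := le_map_subtype_of_eq hup
    refine nilpotent_of_triv hM (maximal_down hM hup hmax hpair) (fun x hx y hy => Subtype.ext
      (hPab _ (hmap ▸ Subgroup.mem_map_of_mem _ hx) _ (hmap ▸ Subgroup.mem_map_of_mem _ hy))) ?_
    intro y hy
    refine (mem_cent_map_iff a.1 y).1 ?_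
    rw [hmap]
    obtain ⟨z, hz, hz1⟩ : ∃ z ∈ Q, z ≠ 1 := by
      by_contra hne
      push Not at hne
      exact hQ1 ((Subgroup.eq_bot_iff_forall Q).2 hne)
    exact hfree _ (pairStab_upIdx hup hy) z (hQP hz) hz1
      (mul_inv_eq_iff_eq_mul.2 (y.2 z hz).symm)
  · intro hnil g hg x hx hx1 hgx
    set Q := Subgroup.zpowers x with hQ
    have hQP : Q ≤ P := Subgroup.zpowers_le.2 hx
    haveI := Fintype.ofFinite (Subgroup.centralizer (Q : Set G))
    obtain ⟨a, ha, hup, hab⟩ := exists_upIdx (H := Subgroup.centralizer (Q : Set G))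
      (hPC Q hQP) (centralizer_anti hQP) hcb
    obtain ⟨R, e⟩ := a
    have hmap : R.map (Subgroup.centralizer (Q : Set G)).subtype = P := le_map_subtype_of_eq hup
    have hRp : IsPGroup p R := (hmap.symm ▸ hp : IsPGroup p
      (R.map (Subgroup.centralizer (Q : Set G)).subtype)).of_equiv
      (Subgroup.equivMapOfInjective R (Subgroup.centralizer (Q : Set G)).subtype
        Subtype.coe_injective).symm
    obtain ⟨f, hf⟩ := exists_block_of_pair hM hRp hab
    have hfin := inducedIn_of_pair hM ⟨R, e⟩ ha hf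
    have hgC : g ∈ Subgroup.centralizer (Q : Set G) := by
      rintro _ ⟨i, rfl⟩
      exact ((show Commute g x from mul_inv_eq_iff_eq_mul.1 hgx).zpow_right i).eq.symm
    set y : Subgroup.centralizer (Q : Set G) := ⟨g, hgC⟩ with hy
    have hyst : y ∈ pairStab R e := mem_pairStab_down hup hg
    obtain ⟨h1, h2⟩ := Sigma.mk.inj_iff.1 hup
    subst h1
    have h3 := eq_of_heq h2
    subst h3
    have hn := hnil Q hQP (Subgroup.zpowers_ne_bot.2 hx1) f hfin
    set k := (orderOf y).factorization p with hk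
    have hreg : IsPRegular p (y ^ p ^ k) := by
      show ¬ p ∣ orderOf (y ^ p ^ k)
      rw [orderOf_pow_of_dvd (pow_ne_zero _ hM.1.ne_zero) (Nat.ordProj_dvd _ _)]
      exact Nat.not_dvd_ordCompl hM.1 (orderOf_pos y).ne'
    have hyk : y ^ p ^ k ∈ pairStab R e := Subgroup.pow_mem _ hyst _
    have hcent : g ^ p ^ k ∈ Subgroup.centralizer
        ((R.map (Subgroup.centralizer (Q : Set G)).subtype : Subgroup G) : Set G) :=
      (mem_cent_map_iff R (y ^ p ^ k)).2
        (hn.2 R e hf _ ((mem_pairStab _).1 hyk).1 ((mem_pairStab _).1 hyk).2 hreg)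
    set P := R.map (Subgroup.centralizer (Q : Set G)).subtype with hP
    set T := pairStab P (irrPull (upE R ha) '' e) with hTdef
    have hN : T ≤ Subgroup.normalizer (P : Set G) := fun s hs => ((mem_pairStab s).1 hs).1
    haveI : ((Subgroup.centralizer (P : Set G)).subgroupOf T).Normal :=
      ⟨fun u hu s => (Subgroup.mem_normalizer_iff.1
        (normalizer_le_normalizer_cent P (hN s.2)) u).1 hu⟩
    have hN' : g ^ Nat.card (autInducedBy T P) ∈ Subgroup.centralizer (P : Set G) := by
      have h := Subgroup.pow_index_mem ((Subgroup.centralizer (P : Set G)).subgroupOf T) ⟨g, hg⟩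
      rw [card_autInducedBy_eq_index hN] at h
      exact h
    set n := Nat.card (autInducedBy T P) with hn'
    obtain ⟨u, v, huv⟩ : IsCoprime (n : ℤ) ((p ^ k : ℕ) : ℤ) := Nat.isCoprime_iff_coprime.2
      (Nat.Coprime.pow_right k ((hM.1.coprime_iff_not_dvd.2 (inertial_coprime hM hmax hPab)).symm))
    rw [show g = (g ^ n) ^ u * (g ^ p ^ k) ^ v from by
      rw [← zpow_natCast, ← zpow_mul, ← zpow_natCast g (p ^ k), ← zpow_mul, ← zpow_add,
        mul_comm (n : ℤ), mul_comm ((p ^ k : ℕ) : ℤ), huv, zpow_one]]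
    exact mul_mem (zpow_mem hN' u) (zpow_mem hcent v)

end Cfsg.Agent.S4650
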