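import Cfsg.Statements.S4654
import Cfsg.Agent.Lib.Blocks.NormalPair

set_option autoImplicit false
set_option linter.style.haveILetI false
open Cfsg

namespace Cfsg.Agent.S4654

open CfsgLib.Blocks CfsgLib.CharTheory

/-- Fix a prime p and a maximal ideal M of the algebraic integers containing p. Let P be a normal p-subgroup of the finite group G, B a p-block of G and e a p-block of C_G(P) such that (P, e) is a Brauer pair of B (as P is normal, this says that e occurs in the idempotent of B, which is supported on C_G(P)). Let T be the stabilizer of e in G under conjugation. Then the idempotent of e is a block idempotent of T: some block E of T has, at every element of T, the same idempotent coefficient as e (zero off C_G(P)); and the idempotent of B is the sum of the distinct G-conjugates of the idempotent of e: its coefficient at g is the sum over all x in G of the coefficient of e at x⁻¹ g x, divided by the order of T. -/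
theorem result {G : Type*} [Group G] [Fintype G] (p : ℕ) [Fact p.Prime] (M : Ideal Cfsg.AlgInt) (hM : Cfsg.IsPModular p M) (P : Subgroup G) [P.Normal] (hP : IsPGroup p P) (B : Set (Cfsg.IrrCharacter G)) (e : Set (Cfsg.IrrCharacter (Subgroup.centralizer (P : Set G)))) (hBe : Cfsg.IsBrauerPairOf p M B P e) (T : Subgroup G) (hT : ∀ x : G, x ∈ T ↔ Cfsg.StabilizesBlock (Subgroup.centralizer (P : Set G)) e x) : (∃ E : Set (Cfsg.IrrCharacter T), Cfsg.IsPBlock M E ∧ ∀ t : T, Cfsg.blockCoeff E t = Cfsg.subgroupBlockCoeff (Subgroup.centralizer (P : Set G)) e (t : G)) ∧ ∀ g : G, Cfsg.blockCoeff B g = (Nat.card T : ℂ)⁻¹ * ∑ x : G, Cfsg.subgroupBlockCoeff (Subgroup.centralizer (P : Set G)) e (x⁻¹ * g * x) := by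
  classical
  haveI := Fintype.ofFinite T
  have hN : ∀ x : G, x ∈ Subgroup.normalizer (P : Set G) := fun x =>
    (Subgroup.normalizer_eq_top (H := P)).ge (Subgroup.mem_top x)
  refine ⟨?_, fun g => ?_⟩
  · obtain ⟨E, hE, hcoef⟩ := exists_localBlock hM hP (T := T)
      (fun x hx => (hT x).2 (stabilizes_self hM e hx))
      (fun x hx => (hT x).2 (stabilizes_of_mem_cent e hx)) (fun x _ => hN x) hBe.1.2
    refine ⟨E, hE, fun t => ?_⟩
    rw [hcoef t, torbFn_of_stable (fun n hn => (hT n).1 hn), subgroupBlockCoeff_eq]
  · rw [sum_conj_eq_orbit e hT g]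
    exact blockCoeff_eq_orbit hM hP hBe g

end Cfsg.Agent.S4654
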