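import Cfsg.Statements.S4657
import Cfsg.Agent.Lib.Blocks.MaxPairs

set_option autoImplicit false
set_option linter.style.haveILetI false
open Cfsg

namespace Cfsg.Agent.S4657

open CfsgLib.Blocks CfsgLib.CharTheory

/-- Fix a prime p and a maximal ideal M of the algebraic integers containing p. Every Brauer pair (P, e) of the finite group G is a Brauer pair of exactly one p-block B of G. -/
theorem result {G : Type*} [Group G] [Fintype G] (p : ℕ) [Fact p.Prime] (M : Ideal Cfsg.AlgInt) (hM : Cfsg.IsPModular p M) (P : Subgroup G) (e : Set (Cfsg.IrrCharacter (Subgroup.centralizer (P : Set G)))) (hPe : Cfsg.IsBrauerPair p M P e) : ∃! B : Set (Cfsg.IrrCharacter G), Cfsg.IsBrauerPairOf p M B P e := by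
  classical
  haveI := res_isDomain hM
  obtain ⟨ξ, hξ⟩ := bne hM hPe.2
  obtain ⟨φ, hφ⟩ := exists_lam_irr hM hPe.1 ξ
  have hB : Cfsg.IsPBlock M (Cfsg.blockOf M (φ : G → ℂ)) := blockOf_isPBlock φ
  refine ⟨_, ⟨hPe, hB, (forall_memIdeal_iff_lam hM (nice_blockCoeff hM hB) hPe.2 hξ).2 ?_⟩,
    fun B hB' => eq_blockOf hM hB'.2.1 (lam_irr_mem hM hB'.2.1 hφ (pairOf_lam hM hB' hξ))⟩
  rw [hφ _ (blockCoeff_isClassFunction _) (memRing_blockCoeff hM hB), ← cf_ind, omega_cf,
    ind_of_mem (mem_blockOf_self hM φ), res_one]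

end Cfsg.Agent.S4657
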