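import Cfsg.Statements.S4664
import Cfsg.Agent.Lib.Blocks.InducedChar
import Cfsg.Agent.Lib.CharTheory.Burnside

set_option autoImplicit false
open Cfsg CfsgLib.CharTheory CfsgLib.Blocks CfsgLib.Blocks.InducedChar
open scoped ComplexConjugate

set_option linter.unusedVariables false

namespace Cfsg.Agent.S4664

/-- Fix a prime p and a maximal ideal M of the algebraic integers containing p, and let B be a p-block of the finite group G. Let m be the p'-part of the order of G and η = exp(2πi/m). Then every coefficient of the idempotent of B lies in the cyclotomic field ℚ(η). -/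
theorem result {G : Type*} [Group G] [Fintype G] (p : ℕ) [Fact p.Prime] (M : Ideal Cfsg.AlgInt) (hM : Cfsg.IsPModular p M) (B : Set (Cfsg.IrrCharacter G)) (hB : Cfsg.IsPBlock M B) (g : G) : Cfsg.blockCoeff B g ∈ IntermediateField.adjoin ℚ ({Complex.exp (2 * Real.pi * Complex.I / ((Nat.card G / p ^ (Nat.card G).factorization p : ℕ) : ℂ))} : Set ℂ) := by
  classical
  set m := Nat.card G / p ^ (Nat.card G).factorization p with hm
  set K := IntermediateField.adjoin ℚ ({Complex.exp (2 * Real.pi * Complex.I / (m : ℂ))} : Set ℂ)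
  by_cases hg : p ∣ orderOf g
  · rw [blockCoeff_of_dvd_orderOf hM hB hg]; exact K.zero_mem
  rw [blockCoeff, finsum_mem_bset]
  refine K.mul_mem (K.inv_mem (natCast_mem K _)) (K.sum_mem fun χ _ => K.mul_mem ?_ ?_)
  · rw [← irr_charDegree_cast χ]; exact natCast_mem K _
  · rw [irr_conjInv]
    obtain ⟨n, ρ, hρ, hχ⟩ := χ.2
    rw [← hχ, character_eq_sum_charRoots]
    refine K.toSubfield.toSubring.toAddSubgroup.multiset_sum_mem _ fun x hx => ?_
    have hx1 := pow_eq_one_of_mem_charRoots ρ g⁻¹ hx
    have hdvd : orderOf g⁻¹ ∣ m := by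
      rw [orderOf_inv]
      have h1 : orderOf g ∣ p ^ (Nat.card G).factorization p * m :=
        (orderOf_dvd_natCard g).trans (Nat.ordProj_mul_ordCompl_eq_self _ p).symm.dvd
      exact ((((Fact.out : p.Prime).coprime_iff_not_dvd).2 hg).symm.pow_right _).dvd_of_dvd_mul_left h1
    have hxm : x ^ m = 1 := by
      obtain ⟨c, hc⟩ := hdvd
      rw [hc, pow_mul, hx1, one_pow]
    have hm0 : m ≠ 0 := (Nat.ordCompl_pos p Nat.card_pos.ne').ne'
    haveI : NeZero m := ⟨hm0⟩
    obtain ⟨i, -, hi⟩ := (Complex.isPrimitiveRoot_exp m hm0).eq_pow_of_pow_eq_one hxm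
    rw [← hi]
    exact K.pow_mem (IntermediateField.mem_adjoin_simple_self ℚ _) i

end Cfsg.Agent.S4664
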