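import Cfsg.Statements.S4665
import Cfsg.Agent.Lib.Blocks.RegularParts

set_option autoImplicit false
open Cfsg CfsgLib.CharTheory CfsgLib.Blocks CfsgLib.Blocks.RegularParts
open scoped ComplexConjugate

set_option linter.unusedVariables false

namespace Cfsg.Agent.S4665

/-- Fix a prime p, a maximal ideal M of the algebraic integers containing p, and a p-block B of the finite group G, and let p^a be the p-part of the order of G. Let χ be an integer combination of the irreducible characters in B. If the function that agrees with χ on p-regular elements and vanishes on p-singular elements is again an integer combination of the irreducible characters in B, then p^a divides χ(1). -/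
theorem result {G : Type*} [Group G] [Fintype G] (p : ℕ) [Fact p.Prime] (M : Ideal Cfsg.AlgInt) (hM : Cfsg.IsPModular p M) (B : Set (Cfsg.IrrCharacter G)) (hB : Cfsg.IsPBlock M B) (χ : G → ℂ) (hχ : (∃ n : Cfsg.IrrCharacter G → ℤ, ∀ g : G, χ g = ∑ᶠ ψ ∈ B, (n ψ : ℂ) * (ψ : G → ℂ) g)) (h0 : (∃ n : Cfsg.IrrCharacter G → ℤ, ∀ g : G, Cfsg.pRegularPart p χ g = ∑ᶠ ψ ∈ B, (n ψ : ℂ) * (ψ : G → ℂ) g)) : ∃ k : ℤ, χ 1 = (p ^ (Nat.card G).factorization p : ℂ) * k := by
  classical
  obtain ⟨n, hn⟩ := h0
  have hg : IsGeneralizedCharacter G (Cfsg.pRegularPart p χ) := by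
    have e : Cfsg.pRegularPart p χ = ∑ ψ ∈ bset B, (n ψ : ℂ) • (ψ : G → ℂ) := by
      funext g
      rw [hn g, finsum_mem_bset]
      simp [Finset.sum_apply]
    rw [e, isGenChar_iff_coeff_int]
    refine ⟨fun g h => by
      simp only [Finset.sum_apply, Pi.smul_apply, smul_eq_mul]
      exact Finset.sum_congr rfl fun ψ _ => by rw [irr_isClassFun ψ g h], fun φ hφ => ?_⟩
    refine ⟨∑ ψ ∈ bset B, if (ψ : G → ℂ) = φ then n ψ else 0, ?_⟩
    rw [classInner_sum_left, Int.cast_sum]
    refine Finset.sum_congr rfl fun ψ _ => ?_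
    rw [classInner_smul_left, classInner_irr ψ.2 hφ]
    split_ifs <;> simp
  obtain ⟨k, hk⟩ := dvd_degree_of_vanish (p := p) hg fun g hg => by
    simp [Cfsg.pRegularPart, Cfsg.IsPRegular, hg]
  refine ⟨k, ?_⟩
  rw [← hk]
  simp [Cfsg.pRegularPart, Cfsg.IsPRegular, (Fact.out : p.Prime).not_dvd_one]

end Cfsg.Agent.S4665
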