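import Cfsg.Statements.S4668
import Cfsg.Agent.Lib.Blocks.NormalPair

set_option autoImplicit false
set_option linter.style.haveILetI false
open Cfsg

namespace Cfsg.Agent.S4668

open CfsgLib.Blocks CfsgLib.CharTheory

/-- Fix a prime p and a maximal ideal M of the algebraic integers containing p. Let Q₀ < Q₁ < ⋯ < Q_m be a strictly increasing chain of p-subgroups of the finite group G and N the intersection of their normalizers. Then every block idempotent of N is supported on C_G(Q_m): for every p-block E of N, the idempotent coefficient of E vanishes at every element of N outside C_G(Q_m). -/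
theorem result {G : Type*} [Group G] [Fintype G] (p : ℕ) [Fact p.Prime] (M : Ideal Cfsg.AlgInt) (hM : Cfsg.IsPModular p M) (m : ℕ) (Q : Fin (m + 1) → Subgroup G) (hQ : StrictMono Q) (hQp : ∀ i, IsPGroup p (Q i)) (N : Subgroup G) (hN : ∀ g : G, g ∈ N ↔ ∀ i, g ∈ Subgroup.normalizer (Q i : Set G)) (E : Set (Cfsg.IrrCharacter N)) (hE : Cfsg.IsPBlock M E) (n : N) (hn : (n : G) ∉ Subgroup.centralizer (Q (Fin.last m) : Set G)) : Cfsg.blockCoeff E n = 0 := by
  haveI := Fintype.ofFinite N
  set R : Subgroup G := Q (Fin.last m) ⊓ N with hR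
  set R' : Subgroup N := R.subgroupOf N with hR'
  haveI : R'.Normal := by
    refine ⟨fun r hr g => ?_⟩
    have h1 : (r : G) ∈ R := hr
    refine ⟨?_, (g * r * g⁻¹).2⟩
    exact (Subgroup.mem_normalizer_iff.1 ((hN g).1 g.2 (Fin.last m)) (r : G)).1 h1.1
  have hR'p : IsPGroup p R' :=
    ((hQp (Fin.last m)).to_le inf_le_left).of_equiv
      (Subgroup.subgroupOfEquivOfLe (inf_le_right : R ≤ N)).symm
  by_contra hne
  have hnR : n ∈ Subgroup.centralizer (R' : Set N) := by
    by_contra h
    exact hne (blockCoeff_off_centralizer hM hR'p hE h)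
  have hreg : ¬ p ∣ orderOf (n : G) := by
    rw [Subgroup.orderOf_coe]
    intro h
    apply hne
    simp only [Cfsg.blockCoeff, finsum_mem_bset]
    rw [weak_orth_conj hM hE (x := 1) (by simpa using hM.1.not_dvd_one) h, mul_zero]
  have hnN : ∀ i, (n : G) ∈ Subgroup.normalizer (Q i : Set G) := (hN n).1 n.2
  have hfix : ∀ y ∈ R, y ∈ Subgroup.centralizer ({(n : G)} : Set G) := fun y hy =>
    Subgroup.mem_centralizer_singleton_iff.2
      (congrArg Subtype.val (hnR ⟨y, hy.2⟩ hy) : y * (n : G) = (n : G) * y)
  have hmono : Monotone Q := hQ.monotone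
  have main : ∀ i : Fin (m + 1), Q i ≤ Subgroup.centralizer ({(n : G)} : Set G) := by
    intro i
    induction i using Fin.induction with
    | zero =>
      intro y hy
      refine hfix y ⟨hmono (Fin.le_last _) hy, (hN y).2 fun j => ?_⟩
      exact Subgroup.le_normalizer (hmono (Fin.zero_le j) hy)
    | succ i ih =>
      set X := Q i.succ with hX
      set S := X ⊓ Subgroup.centralizer ({(n : G)} : Set G) with hS
      by_contra hXn
      have hlt : S < X := lt_of_le_of_ne inf_le_left fun h =>
        hXn (h ▸ inf_le_right)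
      have hQiS : Q i.castSucc ≤ S := le_inf (hmono (Fin.castSucc_lt_succ).le) ih
      obtain ⟨x, hx, hxS⟩ := SetLike.exists_of_lt (exists_lt_normalizing (hQp i.succ) hlt)
      apply hxS
      set y : G := (n : G) * x * (n : G)⁻¹ * x⁻¹ with hy
      have hyX : y ∈ X :=
        X.mul_mem ((Subgroup.mem_normalizer_iff.1 (hnN i.succ) x).1 hx.1) (X.inv_mem hx.1)
      have hfixS : ∀ s ∈ S, (n : G) * s * (n : G)⁻¹ = s := fun s hs => by
        rw [← Subgroup.mem_centralizer_singleton_iff.1 hs.2, mul_inv_cancel_right]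
      have hyc : ∀ s ∈ S, s * y = y * s := by
        intro s hs
        have h1 := hfixS _ ((Subgroup.mem_normalizer_iff''.1 hx.2 s).1 hs)
        have h2 := hfixS s hs
        have h3 : (n : G) * x⁻¹ * (n : G)⁻¹ * s * ((n : G) * x * (n : G)⁻¹) = x⁻¹ * s * x := by
          calc (n : G) * x⁻¹ * (n : G)⁻¹ * s * ((n : G) * x * (n : G)⁻¹)
              = (n : G) * x⁻¹ * (n : G)⁻¹ * ((n : G) * s * (n : G)⁻¹) *
                ((n : G) * x * (n : G)⁻¹) := by rw [h2]
            _ = (n : G) * (x⁻¹ * s * x) * (n : G)⁻¹ := by group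
            _ = x⁻¹ * s * x := h1
        calc s * y = ((n : G) * x * (n : G)⁻¹) *
              ((n : G) * x⁻¹ * (n : G)⁻¹ * s * ((n : G) * x * (n : G)⁻¹)) * x⁻¹ := by
              rw [hy]; group
          _ = ((n : G) * x * (n : G)⁻¹) * (x⁻¹ * s * x) * x⁻¹ := by rw [h3]
          _ = y * s := by rw [hy]; group
      have hyN : y ∈ R := by
        refine ⟨hmono (Fin.le_last _) hyX, (hN y).2 fun j => ?_⟩
        rcases le_or_gt i.succ j with h | h
        · exact Subgroup.le_normalizer (hmono h hyX)
        · have hji : j ≤ i.castSucc := Fin.le_castSucc_iff.2 h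
          exact Subgroup.centralizer_le_normalizer _
            (fun s hs => hyc s (hQiS (hmono hji hs)))
      have hyS : (n : G) * y * (n : G)⁻¹ = y := by
        rw [← Subgroup.mem_centralizer_singleton_iff.1 (hfix y hyN), mul_inv_cancel_right]
      have hiter : ∀ k : ℕ, (n : G) ^ k * x * ((n : G) ^ k)⁻¹ = y ^ k * x := by
        intro k
        induction k with
        | zero => simp
        | succ k ihk =>
          have hyk : (n : G) * y ^ k * (n : G)⁻¹ = y ^ k := by
            rw [← conj_pow, hyS]
          calc (n : G) ^ (k + 1) * x * ((n : G) ^ (k + 1))⁻¹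
              = (n : G) * ((n : G) ^ k * x * ((n : G) ^ k)⁻¹) * (n : G)⁻¹ := by
                rw [pow_succ']; group
            _ = (n : G) * (y ^ k * x) * (n : G)⁻¹ := by rw [ihk]
            _ = ((n : G) * y ^ k * (n : G)⁻¹) * ((n : G) * x * (n : G)⁻¹) := by group
            _ = y ^ k * (y * x) := by
                rw [hyk, show (n : G) * x * (n : G)⁻¹ = y * x by rw [hy, inv_mul_cancel_right]]
            _ = y ^ (k + 1) * x := by rw [pow_succ]; exact (mul_assoc _ _ _).symm
      have h1 := hiter (orderOf (n : G))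
      rw [pow_orderOf_eq_one, one_mul, inv_one, mul_one] at h1
      have hy1 : y ^ orderOf (n : G) = 1 := by simpa using h1
      obtain ⟨k, hk⟩ := hQp i.succ ⟨y, hyX⟩
      have hy0 : orderOf y = 1 := Nat.eq_one_of_dvd_coprimes
        ((hM.1.coprime_iff_not_dvd.2 hreg).pow_left k)
        (orderOf_dvd_of_pow_eq_one (by simpa using congrArg Subtype.val hk : y ^ p ^ k = 1))
        (orderOf_dvd_of_pow_eq_one hy1)
      refine ⟨hx.1, Subgroup.mem_centralizer_singleton_iff.2 ?_⟩
      have h4 := orderOf_eq_one_iff.1 hy0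
      rw [hy, mul_inv_eq_one, mul_inv_eq_iff_eq_mul] at h4
      exact h4.symm
  exact hn fun y hy => Subgroup.mem_centralizer_singleton_iff.1 (main _ hy)

end Cfsg.Agent.S4668
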