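import Cfsg.Statements.S4673
import Cfsg.Agent.Lib.Blocks.InvariantHeightZero
import Cfsg.Agent.Lib.Blocks.Knorr

set_option autoImplicit false
open Cfsg CfsgLib.CharTheory CfsgLib.Blocks
open scoped ComplexConjugate

set_option linter.unusedVariables false

namespace Cfsg.Agent.S4673

/-- Fix a prime p and a maximal ideal M of the algebraic integers containing p. Let N ≤ L be normal subgroups of the finite group G with L/N a p-group, let B be a p-block of G covering the p-block c of N (some member of B has a constituent in c on restriction to N), and suppose that N contains a defect group of B. Then the stabilizer T of c in G satisfies T ∩ L = N. -/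
theorem result {G : Type*} [Group G] [Fintype G] (p : ℕ) [Fact p.Prime] (M : Ideal Cfsg.AlgInt) (hM : Cfsg.IsPModular p M) (N L : Subgroup G) [N.Normal] [L.Normal] [Fintype N] (hNL : N ≤ L) (hLN : ∃ k : ℕ, (N.subgroupOf L).index = p ^ k) (B : Set (Cfsg.IrrCharacter G)) (hB : Cfsg.IsPBlock M B) (c : Set (Cfsg.IrrCharacter N)) (hc : Cfsg.IsPBlock M c) (hcov : (∃ χ ∈ B, ∃ θ ∈ c, Cfsg.classInner (fun n : N => (χ : G → ℂ) n) (θ : N → ℂ) ≠ 0)) (hD : ∃ D : Subgroup G, Cfsg.IsDefectGroup p M B D ∧ D ≤ N) (T : Subgroup G) (hT : ∀ x : G, x ∈ T ↔ Cfsg.StabilizesBlock N c x) : T ⊓ L = N := by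
  classical
  have hp : p.Prime := hM.1
  haveI := res_isDomain hM
  obtain ⟨k, hk⟩ := hLN
  obtain ⟨D, hD, hDN⟩ := hD
  refine le_antisymm (fun x hx => ?_) (fun x hx => ?_)
  swap
  · refine Subgroup.mem_inf.2 ⟨(hT x).2 ⟨mem_normalizer_normal x, fun χ hχ => ?_⟩, hNL hx⟩
    refine ⟨χ, hχ, fun a a' ha => ?_⟩
    rw [show a' = (⟨x, hx⟩ : N) * a * (⟨x, hx⟩ : N)⁻¹ from Subtype.ext ha]
    exact isClassFunction_irr χ.2 a _
  obtain ⟨hxT, hxL⟩ := Subgroup.mem_inf.1 hx
  by_contra hxN
  obtain ⟨z, w, hzw, hcm, hz, hw, hzm, hwm⟩ := exists_pPart hp x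
  haveI : Fintype L := Fintype.ofFinite _
  set N' := N.subgroupOf L with hN'
  haveI : Fintype N' := Fintype.ofFinite _
  have hwN : w ∈ N := by
    have hwL : w ∈ L := (Subgroup.zpowers_le.2 hxL) hwm
    have := reg_mem_of_index (N := N') hM ⟨k, hk⟩ (g := (⟨w, hwL⟩ : L)) (by rwa [Subgroup.orderOf_mk])
    exact this
  have hzN : z ∉ N := fun h => hxN (hzw ▸ N.mul_mem h hwN)
  have hzT : z ∈ T := (Subgroup.zpowers_le.2 hxT) hzm
  have hzL : z ∈ L := (Subgroup.zpowers_le.2 hxL) hzm
  obtain ⟨θ, hθ, hh, hfix⟩ := InvariantHeightZero.exists_invariant_height_zero hM hc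
    (R := Subgroup.zpowers z) (isPGroup_zpowers hp hz) fun r hr =>
      (hT r).1 ((Subgroup.zpowers_le.2 hzT) hr)
  set e : N' ≃* N := Subgroup.subgroupOfEquivOfLe hNL with he
  set θ' : IrrCharacter N' := irrPull e θ with hθ'
  set c' : Set (IrrCharacter N') := irrPull e '' c with hc'
  have hc'b : IsPBlock M c' := isPBlock_image _ hc
  -- a character over `θ'` of small degree
  obtain ⟨φ, hφθ, hφdeg⟩ : ∃ φ : IrrCharacter L,
      classInner (fun n : N' => (φ : L → ℂ) n) (θ' : N' → ℂ) ≠ 0 ∧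
      dv p (φ : L → ℂ) < k + dv p (θ : N → ℂ) := by
    by_contra hno
    push Not at hno
    have hchar : IsCharacter L (indFun N' (θ' : N' → ℂ)) :=
      isCharacter_indFun N' (isCharacter_of_irr θ'.2)
    choose m hm using fun φ : IrrCharacter L => classInner_char_nat hchar (isCharacter_of_irr φ.2)
    have hdeg1 : charDegree (θ' : N' → ℂ) = charDegree (θ : N → ℂ) := charDegree_irrPull e θ
    have hbig : ∀ φ : IrrCharacter L, m φ * (p ^ k * charDegree (θ : N → ℂ)) ≤
        m φ * charDegree (φ : L → ℂ) := by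
      intro φ
      rcases Nat.eq_zero_or_pos (m φ) with h0 | h0
      · simp [h0]
      refine Nat.mul_le_mul_left _ ?_
      have hres : classInner (fun n : N' => (φ : L → ℂ) n) (θ' : N' → ℂ) ≠ 0 := by
        rw [← classInner_comm, ← frobenius_reciprocity N' (θ' : N' → ℂ)
          (isClassFunction_irr φ.2), hm, map_natCast, Nat.cast_ne_zero]
        exact h0.ne'
      obtain ⟨j, hj⟩ := classInner_char_nat (isCharacter_restrict (isCharacter_of_irr φ.2) N')
        (isCharacter_of_irr θ'.2)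
      have hd : charDegree (φ : L → ℂ) =
          j * (inertia N' (θ' : N' → ℂ)).index * charDegree (θ : N → ℂ) := by
        apply Nat.cast_injective (R := ℂ)
        rw [← hdeg1, Nat.cast_mul, Nat.cast_mul, irr_charDegree_cast, irr_charDegree_cast,
          clifford_degree N' φ.2 θ'.2 hres, hj]
      set t := j * (inertia N' (θ' : N' → ℂ)).index
      have hθ0 := (irr_charDegree_pos θ).ne'
      have ht0 : t ≠ 0 := fun h => (irr_charDegree_pos φ).ne' (by rw [hd, h, zero_mul])
      have hv := hno φ hres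
      simp only [dv] at hv
      rw [hd, Nat.factorization_mul ht0 hθ0, Finsupp.add_apply] at hv
      rw [hd]
      exact Nat.mul_le_mul_right _ ((Nat.pow_le_pow_right hp.pos (show k ≤ t.factorization p by omega)).trans
        (Nat.ordProj_le p ht0))
    have hsum : ∑ φ : IrrCharacter L, m φ * charDegree (φ : L → ℂ) =
        p ^ k * charDegree (θ : N → ℂ) := by
      apply Nat.cast_injective (R := ℂ)
      have h1 := congrFun (eq_sum_irr (indFun_isClassFunction N' (θ' : N' → ℂ))) 1
      simp only [Finset.sum_apply, Pi.smul_apply, smul_eq_mul, indFun_apply_one, hm] at h1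
      push_cast
      simp only [irr_charDegree_cast]
      rw [← h1, hk, Nat.cast_pow, hθ', irrPull_apply, map_one]
    have hle : ∑ φ : IrrCharacter L, m φ ≤ 1 := by
      have h := Finset.sum_le_sum (s := Finset.univ) fun (φ : IrrCharacter L) _ => hbig φ
      rw [← Finset.sum_mul, hsum] at h
      exact Nat.le_of_mul_le_mul_right (by rwa [one_mul])
        (Nat.mul_pos (pow_pos hp.pos k) (irr_charDegree_pos θ))
    have hnorm : classInner (indFun N' (θ' : N' → ℂ)) (indFun N' (θ' : N' → ℂ)) =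
        ((∑ φ : IrrCharacter L, m φ * m φ : ℕ) : ℂ) := by
      rw [classInner_eq_sum_irr (indFun_isClassFunction N' (θ' : N' → ℂ)), Nat.cast_sum]
      refine Finset.sum_congr rfl fun φ _ => ?_
      rw [← classInner_comm (indFun N' (θ' : N' → ℂ)), hm, map_natCast, Nat.cast_mul]
    have hsq : ∑ φ : IrrCharacter L, m φ * m φ ≤ 1 := by
      refine le_trans (Finset.sum_le_sum fun φ hφ => ?_) hle
      have := (Finset.single_le_sum (f := m) (fun _ _ => Nat.zero_le _) hφ).trans hle
      calc m φ * m φ ≤ 1 * m φ := Nat.mul_le_mul_right _ this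
        _ = m φ := one_mul _
    have hI := classInner_indFun_self N' θ'.2
    rw [hnorm, ← Nat.cast_mul, Nat.cast_inj] at hI
    have hlt : N' < inertia N' (θ' : N' → ℂ) := by
      refine lt_of_le_of_ne (fun n hn => funext fun a => ?_) fun h => hzN ?_
      · exact (isClassFunction_irr θ'.2 a ⟨n, hn⟩)
      · have hzI : (⟨z, hzL⟩ : L) ∈ inertia N' (θ' : N' → ℂ) := by
          refine funext fun a => ?_
          show (θ' : N' → ℂ) _ = (θ' : N' → ℂ) a
          have h1 := congrArg (fun ψ : IrrCharacter N => (ψ : N → ℂ) (e ⟨_, (inferInstance : N'.Normal).conj_mem a a.2 ⟨z, hzL⟩⟩))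
            (hfix z (Subgroup.mem_zpowers z))
          simp only [irrPull_apply] at h1
          rw [hθ', irrPull_apply, irrPull_apply, ← h1]
          refine congrArg _ (Subtype.ext ?_)
          show z⁻¹ * (z * ((a : L) : G) * z⁻¹) * z = ((a : L) : G)
          group
        rw [← h] at hzI
        exact hzI
    have hlt' : Nat.card N' < Nat.card (inertia N' (θ' : N' → ℂ)) := by
      by_contra h
      exact hlt.ne (Subgroup.eq_of_le_of_card_ge hlt.le (not_lt.1 h))
    have hmul := Nat.mul_le_mul_left (Nat.card N') hsq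
    rw [mul_one] at hmul
    omega
  -- its block is covered by `B`
  obtain ⟨χ₀, hχ₀, θ₀, hθ₀, hcov₀⟩ := hcov
  obtain ⟨φ₀, hφ₀χ, hφ₀θ⟩ : ∃ φ₀ : IrrCharacter L,
      classInner (fun l : L => (χ₀ : G → ℂ) l) (φ₀ : L → ℂ) ≠ 0 ∧
      classInner (fun n : N' => (φ₀ : L → ℂ) n) (irrPull e θ₀ : N' → ℂ) ≠ 0 := by
    by_contra hno
    push Not at hno
    apply hcov₀
    have h1 : classInner (fun n : N' => (χ₀ : G → ℂ) ((n : L) : G)) (irrPull e θ₀ : N' → ℂ) = 0 := by
      have hres := eq_sum_irr (isClassFunction_char (isCharacter_restrict (isCharacter_of_irr χ₀.2) L))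
      rw [show (fun n : N' => (χ₀ : G → ℂ) ((n : L) : G)) =
        ∑ φ : IrrCharacter L, classInner (fun l : L => (χ₀ : G → ℂ) l) (φ : L → ℂ) •
          (fun n : N' => (φ : L → ℂ) n) from funext fun n => by
            have := congrFun hres (n : L)
            simp only [Finset.sum_apply, Pi.smul_apply] at this ⊢
            exact this,
        classInner_sum_left]
      refine Finset.sum_eq_zero fun φ _ => ?_
      rw [classInner_smul_left]
      by_cases hφ : classInner (fun l : L => (χ₀ : G → ℂ) l) (φ : L → ℂ) = 0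
      · rw [hφ, zero_mul]
      · rw [hno φ hφ, mul_zero]
    rw [← h1, classInner, classInner, Nat.card_congr e.toEquiv]
    congr 1
    exact (Fintype.sum_equiv e.toEquiv _ _ fun n => rfl).symm
  have hb : IsPBlock M (blockOf M (φ : L → ℂ)) := blockOf_isPBlock φ
  have hsame : blockOf M (φ : L → ℂ) = blockOf M (φ₀ : L → ℂ) :=
    covering_unique hM ⟨k, hk⟩ hc'b hb (blockOf_isPBlock φ₀)
      ⟨φ, mem_blockOf_self hM φ, θ', Set.mem_image_of_mem _ hθ, hφθ⟩
      ⟨φ₀, mem_blockOf_self hM φ₀, _, Set.mem_image_of_mem _ hθ₀, hφ₀θ⟩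
  have hBb : ∃ χ ∈ B, ∃ ψ ∈ blockOf M (φ : L → ℂ),
      classInner (fun l : L => (χ : G → ℂ) l) (ψ : L → ℂ) ≠ 0 :=
    ⟨χ₀, hχ₀, φ₀, hsame ▸ mem_blockOf_self hM φ₀, hφ₀χ⟩
  have h1 := card_inter_defect hM hB hb hBb hD
  have h2 := card_inter_defect hM hB hc ⟨χ₀, hχ₀, θ₀, hθ₀, hcov₀⟩ hD
  rw [inf_eq_left.2 (hDN.trans hNL)] at h1
  rw [inf_eq_left.2 hDN] at h2
  have heq : blockDefect p (blockOf M (φ : L → ℂ)) = blockDefect p c :=
    Nat.pow_right_injective hp.two_le (h1.symm.trans h2)
  rw [blockDefect_eq, blockDefect_eq, ← hh] at heq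
  have h3 : minDv p (blockOf M (φ : L → ℂ)) ≤ dv p (φ : L → ℂ) := minDv_le (mem_blockOf_self hM φ)
  have h4 : (Nat.card L).factorization p = (Nat.card N).factorization p + k := by
    rw [← Subgroup.card_mul_index N', Nat.factorization_mul Nat.card_pos.ne'
      Subgroup.index_ne_zero_of_finite, Finsupp.add_apply, hk, hp.factorization_pow,
      Finsupp.single_eq_same, Nat.card_congr e.toEquiv]
  have h5 := minDv_le_card hM hb
  have h6 := minDv_le_card hM hc
  rw [← hh] at h6
  omega

end Cfsg.Agent.S4673
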