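import Cfsg.Statements.S4674
import Cfsg.Agent.Lib.Blocks.HarrisKnorr

set_option autoImplicit false
open Cfsg CfsgLib.Blocks CfsgLib.CharTheory
open scoped ComplexConjugate

set_option linter.unusedVariables false

namespace Cfsg.Agent.S4674

/-- Fix a prime p and a maximal ideal M of the algebraic integers containing p. Let N be a normal subgroup of the finite group G, Q a p-subgroup of N, H = N_G(Q) and L = H ∩ N = N_N(Q). Let d be a p-block of N with defect group Q and e the p-block of L with defect group Q that induces d inside N (its Brauer correspondent). Then block induction from H to G is a bijection from the p-blocks of H covering e onto the p-blocks of G covering d: every block of H covering e induces exactly one block of G, and that block covers d; and every block of G covering d is induced by exactly one block of H covering e. -/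
theorem result {G : Type*} [Group G] [Fintype G] (p : ℕ) [Fact p.Prime] (M : Ideal Cfsg.AlgInt) (hM : Cfsg.IsPModular p M) (N : Subgroup G) [N.Normal] [Fintype N] (Q : Subgroup G) (hQ : IsPGroup p Q) (hQN : Q ≤ N) [Fintype ↥(Subgroup.normalizer (Q : Set G) ⊓ N)] (d : Set (Cfsg.IrrCharacter N)) (hd : Cfsg.IsPBlock M d) (hdQ : Cfsg.IsDefectGroup p M d (Q.subgroupOf N)) (e : Set (Cfsg.IrrCharacter ↥(Subgroup.normalizer (Q : Set G) ⊓ N))) (he : Cfsg.IsPBlock M e) (heQ : Cfsg.IsDefectGroup p M e (Q.subgroupOf (Subgroup.normalizer (Q : Set G) ⊓ N))) (hed : Cfsg.IsInducedBlockIn M N (Subgroup.normalizer (Q : Set G) ⊓ N) e d) : (∀ c : Set (Cfsg.IrrCharacter ↥(Subgroup.normalizer (Q : Set G))), Cfsg.IsPBlock M c → (∃ ψ ∈ c, ∃ ξ ∈ e, Cfsg.classInner (fun l : ↥(Subgroup.normalizer (Q : Set G) ⊓ N) => (ψ : ↥(Subgroup.normalizer (Q : Set G)) → ℂ) (Subgroup.inclusion inf_le_left l)) (ξ : ↥(Subgroup.normalizer (Q : Set G) ⊓ N) → ℂ) ≠ 0) → ∃! B : Set (Cfsg.IrrCharacter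 G), Cfsg.IsInducedBlock M (Subgroup.normalizer (Q : Set G)) c B ∧ (∃ χ ∈ B, ∃ θ ∈ d, Cfsg.classInner (fun n : N => (χ : G → ℂ) n) (θ : N → ℂ) ≠ 0)) ∧ (∀ B : Set (Cfsg.IrrCharacter G), Cfsg.IsPBlock M B → (∃ χ ∈ B, ∃ θ ∈ d, Cfsg.classInner (fun n : N => (χ : G → ℂ) n) (θ : N → ℂ) ≠ 0) → ∃! c : Set (Cfsg.IrrCharacter ↥(Subgroup.normalizer (Q : Set G))), (Cfsg.IsPBlock M c ∧ ∃ ψ ∈ c, ∃ ξ ∈ e, Cfsg.classInner (fun l : ↥(Subgroup.normalizer (Q : Set G) ⊓ N) => (ψ : ↥(Subgroup.normalizer (Q : Set G)) → ℂ) (Subgroup.inclusion inf_le_left l)) (ξ : ↥(Subgroup.normalizer (Q : Set G) ⊓ N) → ℂ) ≠ 0) ∧ Cfsg.IsInducedBlock M (Subgroup.normalizer (Q : Set G)) c B) := by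
  classical
  haveI : Fintype (Subgroup.normalizer (Q : Set G)) := Fintype.ofFinite _
  haveI : (N.subgroupOf (Subgroup.normalizer (Q : Set G))).Normal := inferInstance
  haveI : Fintype (N.subgroupOf (Subgroup.normalizer (Q : Set G))) := Fintype.ofFinite _
  let φ : N.subgroupOf (Subgroup.normalizer (Q : Set G)) ≃* ((Subgroup.normalizer (Q : Set G)) ⊓ N : Subgroup G) :=
    { toFun := fun x => ⟨((x : (Subgroup.normalizer (Q : Set G))) : G), (x : (Subgroup.normalizer (Q : Set G))).2, x.2⟩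
      invFun := fun y => ⟨⟨(y : G), y.2.1⟩, y.2.2⟩
      left_inv := fun _ => rfl
      right_inv := fun _ => rfl
      map_mul' := fun _ _ => rfl }
  set K : Subgroup N := ((Subgroup.normalizer (Q : Set G)) ⊓ N).subgroupOf N with hK
  haveI : Fintype K := Fintype.ofFinite _
  let k : K ≃* ((Subgroup.normalizer (Q : Set G)) ⊓ N : Subgroup G) := Subgroup.subgroupOfEquivOfLe inf_le_right
  have hQ'N : Subgroup.normalizer ((Q.subgroupOf N : Subgroup N) : Set N) ≤ K := by
    intro n hn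
    refine Subgroup.mem_subgroupOf.2 (Subgroup.mem_inf.2 ⟨mem_normalizer_of_forall_mem fun q hq => ?_, n.2⟩)
    exact (Subgroup.mem_normalizer_iff.1 hn ⟨q, hQN hq⟩).1 hq
  have hCK : Subgroup.centralizer ((Q.subgroupOf N : Subgroup N) : Set N) ≤ K :=
    (Subgroup.centralizer_le_normalizer _).trans hQ'N
  have hQ'K : Q.subgroupOf N ≤ K := Subgroup.le_normalizer.trans hQ'N
  have hKN : K ≤ Subgroup.normalizer ((Q.subgroupOf N : Subgroup N) : Set N) := by
    intro n hn
    refine mem_normalizer_of_forall_mem fun q hq => ?_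
    exact (Subgroup.mem_normalizer_iff.1 (Subgroup.mem_inf.1 (Subgroup.mem_subgroupOf.1 hn)).1 (q : G)).1 hq
  have he'' : IsPBlock M (irrPull k '' e) := isPBlock_image k he
  have hindN : IsInducedBlock M K (irrPull k '' e) d := by
    refine ⟨he'', hd, ?_⟩
    rintro _ ⟨ξ, hξ, rfl⟩ χ hχ t
    have key : inducedCentralCharIn N ((Subgroup.normalizer (Q : Set G)) ⊓ N) (ξ : _ → ℂ) (t : G) =
        inducedCentralChar K (irrPull k ξ : _ → ℂ) t := by
      simp only [inducedCentralCharIn, inducedCentralChar]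
      symm
      refine finsum_mem_eq_of_bijOn k ⟨?_, k.injective.injOn, ?_⟩ fun j _ => by
        simp only [irrPull_apply, map_one]
      · intro j hj
        obtain ⟨x, hx⟩ := isConj_iff.1 (show IsConj t (j : N) from hj)
        refine ⟨x⁻¹, ?_⟩
        show (x : G)⁻¹ * ((j : N) : G) * (x : G)⁻¹⁻¹ = (t : G)
        rw [← hx]
        push_cast
        group
      · rintro l ⟨x, hx⟩
        refine ⟨k.symm l, show IsConj t ((k.symm l : K) : N) from
          isConj_iff.2 ⟨x⁻¹, Subtype.ext ?_⟩, k.apply_symm_apply l⟩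
        show (x : G)⁻¹ * (t : G) * (x : G)⁻¹⁻¹ = (l : G)
        rw [← hx]
        group
    have h4 := hed.2.2 ξ hξ χ hχ t
    rwa [key] at h4
  have hQ'p : IsPGroup p (Q.subgroupOf N) :=
    hQ.comap_of_injective _ (Subgroup.subtype_injective _)
  haveI : ((Q.subgroupOf N).subgroupOf K).Normal := by
    refine ⟨fun n hn y => ?_⟩
    rw [Subgroup.mem_subgroupOf] at hn ⊢
    exact (Subgroup.mem_normalizer_iff).1 (hKN y.2) _ |>.1 hn
  obtain ⟨D, hD⟩ := exists_defectGroup hM he''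
  obtain ⟨E, hE, hDE⟩ := defect_le_of_induced hM hindN hD
  have hQD : (Q.subgroupOf N).subgroupOf K = D := by
    have h1 := normal_le_defectGroup (P := (Q.subgroupOf N).subgroupOf K) hM he''
      (hQ'p.comap_of_injective _ (Subgroup.subtype_injective _)) hD
    refine Subgroup.eq_of_le_of_card_ge h1 ?_
    rw [Nat.card_congr (Subgroup.subgroupOfEquivOfLe hQ'K).toEquiv,
      card_defectGroup hM hd hdQ, ← card_defectGroup hM hd hE,
      ← Subgroup.card_map_of_injective (K := D) (Subgroup.subtype_injective K)]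
    exact Subgroup.card_le_of_le hDE
  rw [← hQD] at hD
  obtain ⟨B₀, ⟨hB₀, -, hcong⟩, -⟩ := firstMain_up hM hQ'N he'' hD
  obtain rfl : B₀ = d :=
    isInducedBlock_unique hM (induced_of_congr hM hQ'K hCK hKN he'' hD hB₀ hcong) hindN
  have hdata : HKData p hM Q (Subgroup.normalizer (Q : Set G)) B₀ (irrPull φ '' e) := by
    refine ⟨hQ, hQN, rfl, hd, isPBlock_image φ he, hdQ, fun y hy => ?_⟩
    have hyC : (⟨((y : (Subgroup.normalizer (Q : Set G))) : G), y.2⟩ : N) ∈
        Subgroup.centralizer ((Q.subgroupOf N : Subgroup N) : Set N) :=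
      fun r hr => Subtype.ext (hy _ hr)
    have h1 := (memIdeal_sub_iff hM (memRing_blockCoeff hM hd _)
      ((nice_sgbc hM hQ'K hCK he'').mem _)).1 (hcong _ hyC)
    rw [h1, show (⟨((y : (Subgroup.normalizer (Q : Set G))) : G), y.2⟩ : N) = ((⟨_, hCK hyC⟩ : K) : N) from rfl, sgbc_coe,
      blockCoeff_image, blockCoeff_image]
    rfl
  have hcov : ∀ c : Set (IrrCharacter (Subgroup.normalizer (Q : Set G))),
      ((∃ ψ ∈ c, ∃ ξ ∈ irrPull φ '' e, classInner (fun l : N.subgroupOf (Subgroup.normalizer (Q : Set G)) => (ψ : (Subgroup.normalizer (Q : Set G)) → ℂ) l)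
        (ξ : N.subgroupOf (Subgroup.normalizer (Q : Set G)) → ℂ) ≠ 0) ↔
      (∃ ψ ∈ c, ∃ ξ ∈ e, classInner (fun l : ((Subgroup.normalizer (Q : Set G)) ⊓ N : Subgroup G) => (ψ : (Subgroup.normalizer (Q : Set G)) → ℂ)
        (Subgroup.inclusion inf_le_left l)) (ξ : ((Subgroup.normalizer (Q : Set G)) ⊓ N : Subgroup G) → ℂ) ≠ 0)) := by
    intro c
    have hci : ∀ (ψ : IrrCharacter (Subgroup.normalizer (Q : Set G))) (ξ : IrrCharacter ((Subgroup.normalizer (Q : Set G)) ⊓ N : Subgroup G)),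
        classInner (fun l : N.subgroupOf (Subgroup.normalizer (Q : Set G)) => (ψ : (Subgroup.normalizer (Q : Set G)) → ℂ) l)
          (irrPull φ ξ : N.subgroupOf (Subgroup.normalizer (Q : Set G)) → ℂ) =
        classInner (fun l : ((Subgroup.normalizer (Q : Set G)) ⊓ N : Subgroup G) => (ψ : (Subgroup.normalizer (Q : Set G)) → ℂ)
          (Subgroup.inclusion inf_le_left l)) (ξ : ((Subgroup.normalizer (Q : Set G)) ⊓ N : Subgroup G) → ℂ) := by
      intro ψ ξ
      simp only [classInner, Nat.card_congr φ.toEquiv]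
      congr 1
      refine Fintype.sum_equiv φ.toEquiv _ _ fun l => ?_
      rw [irrPull_apply]
      rfl
    constructor
    · rintro ⟨ψ, hψ, _, ⟨ξ, hξ, rfl⟩, h⟩
      exact ⟨ψ, hψ, ξ, hξ, hci ψ ξ ▸ h⟩
    · rintro ⟨ψ, hψ, ξ, hξ, h⟩
      exact ⟨ψ, hψ, _, ⟨ξ, hξ, rfl⟩, (hci ψ ξ).symm ▸ h⟩
  refine ⟨fun c hc hc' => hdata.existsUnique_induced hc ((hcov c).2 hc'), fun B hB hB' => ?_⟩
  refine (existsUnique_congr fun c => ?_).1 (hdata.existsUnique_inducing hB hB')
  rw [hcov c]

end Cfsg.Agent.S4674
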