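import Cfsg.Statements.S4676
import Cfsg.Agent.Lib.Blocks.Proj

set_option autoImplicit false
set_option linter.style.haveILetI false
open Cfsg

namespace Cfsg.Agent.S4676

open CfsgLib.Blocks CfsgLib.CharTheory

/-- Fix a prime p and a maximal ideal M of the algebraic integers containing p. Let B be a p-block of the finite group G with defect group P. For χ in B, let the height of χ be the exponent of p in the degree of χ minus the least such exponent over the members of B. Then the sum over χ in B of p raised to twice the height of χ is at most the integer part of (order of P)²/4, plus 1; in particular B has at most that many irreducible characters. -/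
theorem result {G : Type*} [Group G] [Fintype G] (p : ℕ) [Fact p.Prime] (M : Ideal Cfsg.AlgInt) (hM : Cfsg.IsPModular p M) (B : Set (Cfsg.IrrCharacter G)) (hB : Cfsg.IsPBlock M B) (P : Subgroup G) (hP : Cfsg.IsDefectGroup p M B P) : ∑ᶠ χ ∈ B, p ^ (2 * Cfsg.blockHeight p B (χ : G → ℂ)) ≤ Nat.card P ^ 2 / 4 + 1 := by
  classical
  have h := brauer_feit hM hB
  have hd : Nat.card P = p ^ Cfsg.blockDefect p B := by
    obtain ⟨g, hg, Q, rfl⟩ := hP
    rw [Subgroup.card_map_of_injective (Subgroup.subtype_injective _), Q.card_eq_multiplicity,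
      blockDefect_eq_centralizer hM hB hg]
  rw [finsum_mem_eq_finite_toFinset_sum _ (Set.toFinite _), hd]
  have he : (Set.toFinite B).toFinset = bset B := by ext; simp [mem_bset]
  rw [he]
  have h' : 4 * ∑ ψ ∈ bset B, p ^ (2 * Cfsg.blockHeight p B (ψ : G → ℂ)) ≤
      (p ^ Cfsg.blockDefect p B) ^ 2 + 4 := by
    have e : ∀ ψ : Cfsg.IrrCharacter G, ((p ^ (2 * Cfsg.blockHeight p B (ψ : G → ℂ)) : ℕ) : ℤ) =
        ((p : ℤ) ^ (dv p (ψ : G → ℂ) - minDv p B)) ^ 2 := fun ψ => by
      rw [blockHeight_eq, pow_mul']; push_cast; rfl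
    simp only [← e] at h
    exact_mod_cast h
  omega

end Cfsg.Agent.S4676
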