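import Cfsg.Statements.S4682
import Cfsg.Agent.Lib.Blocks.Nilpotent

set_option autoImplicit false
set_option linter.style.haveILetI false
open Cfsg

namespace Cfsg.Agent.S4682

open CfsgLib.Blocks CfsgLib.CharTheory

/-- Fix a prime p and a maximal ideal M of the algebraic integers containing p, a p-block B of the finite group G with maximal Brauer pair (P, e), P abelian, and a Brauer pair (Q, f) ≤ (P, e). Let T_Q be the stabilizer of f in N_G(Q) and T_P the stabilizer of e in N_G(P). Then every element of T_Q is a product of an element of T_P and an element of C_G(Q); and the index of C_G(Q) in T_Q equals the index of T_P ∩ C_G(Q) in T_P ∩ N_G(Q). -/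
theorem result {G : Type*} [Group G] [Fintype G] (p : ℕ) [Fact p.Prime] (M : Ideal Cfsg.AlgInt) (hM : Cfsg.IsPModular p M) (B : Set (Cfsg.IrrCharacter G)) (P : Subgroup G) (e : Set (Cfsg.IrrCharacter (Subgroup.centralizer (P : Set G)))) (hmax : Cfsg.IsMaximalBrauerPair p M B P e) (hab : ∀ x ∈ P, ∀ y ∈ P, x * y = y * x) (Q : Subgroup G) (f : Set (Cfsg.IrrCharacter (Subgroup.centralizer (Q : Set G)))) (hQP : Q ≤ P) (hf : Cfsg.IsPBlock M f) (hle : Cfsg.SubpairLE p M Q f P e) (TQ : Subgroup G) (hTQ : ∀ y : G, y ∈ TQ ↔ y ∈ Subgroup.normalizer (Q : Set G) ∧ Cfsg.StabilizesBlock (Subgroup.centralizer (Q : Set G)) f y) (TP : Subgroup G) (hTP : ∀ y : G, y ∈ TP ↔ y ∈ Subgroup.normalizer (P : Set G) ∧ Cfsg.StabilizesBlock (Subgroup.centralizer (P : Set G)) e y) : (∀ x ∈ TQ, ∃ y ∈ TP, ∃ c ∈ Subgroup.centralizer (Q : Set G), x = y * c) ∧ ((Subgroup.centralizer (Q : Set G)).subgroupOf TQ).index = ((TP ⊓ Subgroup.centralizer (Q : Set G)).subgroupOf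 (TP ⊓ Subgroup.normalizer (Q : Set G))).index := by
  classical
  have hF := blockFusion_isBlockFusion hM hmax
  have hmemQ : ∀ y, y ∈ TQ ↔ y ∈ pairStab Q f := fun y => (hTQ y).trans (mem_pairStab y).symm
  have hmemP : ∀ y, y ∈ TP ↔ y ∈ pairStab P e := fun y => (hTP y).trans (mem_pairStab y).symm
  have first : ∀ x ∈ TQ, ∃ y ∈ TP, ∃ c ∈ Subgroup.centralizer (Q : Set G), x = y * c := by
    intro x hx
    obtain ⟨y, hy, hyx⟩ :=
      exists_extend_abelian hM hF hab (conjHom_mem_block hF hle ((hmemQ x).1 hx))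
    refine ⟨y, (hmemP y).2 hy, y⁻¹ * x, fun q hq => ?_, by group⟩
    have h1 : x * q * x⁻¹ = y * q * y⁻¹ := hyx ⟨q, hq⟩
    calc q * (y⁻¹ * x) = y⁻¹ * (y * q * y⁻¹) * x := by group
      _ = y⁻¹ * (x * q * x⁻¹) * x := by rw [h1]
      _ = y⁻¹ * x * q := by group
  have second : TP ⊓ Subgroup.normalizer (Q : Set G) ≤ TQ := by
    intro y hy
    obtain ⟨hyP, hyN⟩ := Subgroup.mem_inf.1 hy
    refine (hTQ y).2 ⟨hyN, (stabilizesBlock_iff (normalizer_le_normalizer_cent Q hyN)).2 ?_⟩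
    have hPfix := (stab_iff_idx y).1 ((hTP y).1 hyP)
    have h1 := subpair_conj hM (a := ⟨Q, f⟩) (b := ⟨P, e⟩) hle y
    rw [hPfix, conjIdx_normalizer hyN] at h1
    exact subpair_unique hM hmax.1.1.1 hmax.1.1.2 (isPBlock_image _ hf) hf h1 hle
  refine ⟨first, ?_⟩
  have hTQN : TQ ≤ Subgroup.normalizer (Q : Set G) := fun y hy => ((hTQ y).1 hy).1
  have e1 : (TP ⊓ Subgroup.centralizer (Q : Set G)).subgroupOf
      (TP ⊓ Subgroup.normalizer (Q : Set G)) =
      (Subgroup.centralizer (Q : Set G)).subgroupOf (TP ⊓ Subgroup.normalizer (Q : Set G)) := by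
    ext z
    simp only [Subgroup.mem_subgroupOf, Subgroup.mem_inf]
    exact ⟨fun h => h.2, fun h => ⟨z.2.1, h⟩⟩
  rw [e1, card_autInducedBy_eq_index hTQN, card_autInducedBy_eq_index inf_le_right]
  suffices h : Cfsg.autInducedBy TQ Q =
      Cfsg.autInducedBy (TP ⊓ Subgroup.normalizer (Q : Set G)) Q by rw [h]
  refine le_antisymm (fun α hα => ?_) (Cfsg.autInducedBy_mono second)
  obtain ⟨x, hx, hxN, hxa⟩ := Cfsg.mem_autInducedBy_iff.1 hα
  obtain ⟨y, hy, c, hc, rfl⟩ := first x hx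
  have hyN : y ∈ Subgroup.normalizer (Q : Set G) := by
    have := (Subgroup.normalizer (Q : Set G)).mul_mem hxN
      ((Subgroup.normalizer (Q : Set G)).inv_mem (Subgroup.centralizer_le_normalizer _ hc))
    simpa [mul_assoc] using this
  refine Cfsg.mem_autInducedBy_iff.2 ⟨y, ⟨hy, hyN⟩, hyN, fun q => ?_⟩
  rw [hxa q]
  have h1 := hc (q : G) q.2
  calc y * c * (q : G) * (y * c)⁻¹ = y * (c * q) * c⁻¹ * y⁻¹ := by group
    _ = y * ((q : G) * c) * c⁻¹ * y⁻¹ := by rw [h1]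
    _ = y * q * y⁻¹ := by group

end Cfsg.Agent.S4682
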