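import Cfsg.Statements.S4683
import Cfsg.Agent.Lib.Blocks.Rank

set_option autoImplicit false
set_option linter.style.haveILetI false
open Cfsg

namespace Cfsg.Agent.S4683

open CfsgLib.Blocks CfsgLib.CharTheory

/-- Fix a prime p and a maximal ideal M of the algebraic integers containing p, a p-block B of the finite group G, a p-element u and a p-block e of C = C_G(u) such that (⟨u⟩, e) is a Brauer pair of B (a Brauer element of B). For χ ∈ B let χ_u be the e-part of the class function c ↦ χ(u c) on C and χ_u' the e-part of c ↦ χ(u⁻¹ c). Then the sum over χ ∈ B and over the p-regular elements s of C of χ_u(s)·χ_u'(s⁻¹) equals the order of C times the p-regular rank of e (the number of irreducible Brauer characters of e). -/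
theorem result {G : Type*} [Group G] [Fintype G] (p : ℕ) [Fact p.Prime] (M : Ideal Cfsg.AlgInt) (hM : Cfsg.IsPModular p M) (B : Set (Cfsg.IrrCharacter G)) (u : G) (hu : ∃ k : ℕ, orderOf u = p ^ k) (e : Set (Cfsg.IrrCharacter (Subgroup.centralizer (Subgroup.zpowers u : Set G)))) (hBe : Cfsg.IsBrauerPairOf p M B (Subgroup.zpowers u) e) : ∑ᶠ χ ∈ B, ∑ᶠ s : Subgroup.centralizer (Subgroup.zpowers u : Set G), Cfsg.pRegularPart p (Cfsg.blockPart e (fun c : Subgroup.centralizer (Subgroup.zpowers u : Set G) => (χ : G → ℂ) (u * c))) s * Cfsg.blockPart e (fun c : Subgroup.centralizer (Subgroup.zpowers u : Set G) => (χ : G → ℂ) (u⁻¹ * c)) s⁻¹ = (Nat.card (Subgroup.centralizer (Subgroup.zpowers u : Set G)) : ℂ) * (Cfsg.blockRank p e : ℂ) := by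
  classical
  haveI : Fintype (Subgroup.centralizer ((Subgroup.zpowers u : Subgroup G) : Set G)) :=
    Fintype.ofFinite _
  have hH : IsCentr u (Subgroup.centralizer (Subgroup.zpowers u : Set G)) := isCentr_zpowers u
  have hB : Cfsg.IsPBlock M B := hBe.2.1
  have he : Cfsg.IsPBlock M e := hBe.1.2
  have hind : Cfsg.IsInducedBlock M (Subgroup.centralizer (Subgroup.zpowers u : Set G)) e B := isInducedBlock_of_brauerPair hM (Subgroup.zpowers u)
    hBe (fun r hr => by
      obtain ⟨m, rfl⟩ := hr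
      rintro _ ⟨n, rfl⟩
      exact (Commute.zpow_zpow_self u n m).eq)
  have hU : ∀ ψ ∈ e, blockOf M (ψ : (Subgroup.centralizer (Subgroup.zpowers u : Set G)) → ℂ) ⊆ e := fun ψ hψ => (eq_blockOf hM he hψ).ge
  have hconj : ∀ (χ : Cfsg.IrrCharacter G) (s : (Subgroup.centralizer (Subgroup.zpowers u : Set G))),
      Cfsg.blockPart e (fun c : (Subgroup.centralizer (Subgroup.zpowers u : Set G)) => (χ : G → ℂ) (u⁻¹ * c)) s⁻¹ =
        (starRingEnd ℂ) (Cfsg.blockPart e (sec u (Subgroup.centralizer (Subgroup.zpowers u : Set G)) (χ : G → ℂ)) s) := by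
    intro χ s
    rw [blockPart_apply, blockPart_apply, map_sum]
    refine Finset.sum_congr rfl fun ψ _ => ?_
    rw [map_mul, irr_conjInv]
    congr 1
    rw [Cfsg.classInner, Cfsg.classInner, map_mul, map_sum, map_inv₀, map_natCast]
    congr 1
    refine Fintype.sum_equiv (Equiv.inv (Subgroup.centralizer (Subgroup.zpowers u : Set G))) _ _ fun c => ?_
    rw [map_mul, Complex.conj_conj, Equiv.inv_apply, irr_conjInv]
    show (χ : G → ℂ) (u⁻¹ * (c : G)) * _ =
      (starRingEnd ℂ) ((χ : G → ℂ) (u * ((c⁻¹ : (Subgroup.centralizer (Subgroup.zpowers u : Set G))) : G))) * _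
    rw [irr_conjInv, Subgroup.coe_inv, _root_.mul_inv_rev, inv_inv,
      ((hH c).1 c.2).inv_right.eq]
  rw [finsum_mem_bset]
  simp only [finsum_eq_sum_of_fintype]
  have hterm : ∀ (χ : Cfsg.IrrCharacter G) (s : (Subgroup.centralizer (Subgroup.zpowers u : Set G))),
      Cfsg.pRegularPart p (Cfsg.blockPart e (fun c : (Subgroup.centralizer (Subgroup.zpowers u : Set G)) => (χ : G → ℂ) (u * c))) s *
        Cfsg.blockPart e (fun c : (Subgroup.centralizer (Subgroup.zpowers u : Set G)) => (χ : G → ℂ) (u⁻¹ * c)) s⁻¹ =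
      if ¬ p ∣ orderOf s then Cfsg.blockPart e (sec u (Subgroup.centralizer (Subgroup.zpowers u : Set G)) (χ : G → ℂ)) s *
        (starRingEnd ℂ) (Cfsg.blockPart e (sec u (Subgroup.centralizer (Subgroup.zpowers u : Set G)) (χ : G → ℂ)) s) else 0 := by
    intro χ s
    rw [pRegularPart_apply, hconj]
    by_cases hs : p ∣ orderOf s
    · rw [if_pos hs, if_neg (not_not.2 hs), zero_mul]
    · rw [if_neg hs, if_pos hs]; rfl
  simp only [hterm]
  have hterm2 : ∀ χ : Cfsg.IrrCharacter G, ∑ s : (Subgroup.centralizer (Subgroup.zpowers u : Set G)), (if ¬ p ∣ orderOf s then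
      Cfsg.blockPart e (sec u (Subgroup.centralizer (Subgroup.zpowers u : Set G)) (χ : G → ℂ)) s *
        (starRingEnd ℂ) (Cfsg.blockPart e (sec u (Subgroup.centralizer (Subgroup.zpowers u : Set G)) (χ : G → ℂ)) s) else 0) =
      ∑ s ∈ Finset.univ.filter (fun s : (Subgroup.centralizer (Subgroup.zpowers u : Set G)) => ¬ p ∣ orderOf s),
        Cfsg.blockPart e (sec u (Subgroup.centralizer (Subgroup.zpowers u : Set G)) (χ : G → ℂ)) s *
          (starRingEnd ℂ) (Cfsg.blockPart e (sec u (Subgroup.centralizer (Subgroup.zpowers u : Set G)) (χ : G → ℂ)) s) :=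
    fun χ => (Finset.sum_filter _ _).symm
  rw [Finset.sum_congr rfl fun χ _ => hterm2 χ,
    Finset.sum_subset (Finset.subset_univ (bset B)) fun χ _ hχ => Finset.sum_eq_zero fun s hs => by
      rw [blockPart_sec_eq_zero hM hH hu he (blockOf_isPBlock χ) (mem_blockOf_self hM χ)
        (fun hi => hχ (mem_bset.2 (isInducedBlock_unique hM hi hind ▸ mem_blockOf_self hM χ)))
        (Finset.mem_filter.1 hs).2, zero_mul],
    Finset.sum_comm, Finset.sum_congr rfl fun s hs =>
      section_inner hM hH hu hU hU (Finset.mem_filter.1 hs).2 (Finset.mem_filter.1 hs).2,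
    Finset.sum_comm, card_mul_blockRank hM he, ← sum_ind_mul e]
  refine Finset.sum_congr rfl fun ψ _ => ?_
  rw [← sum_reg_norm p ψ, Finset.mul_sum]
  refine Finset.sum_congr rfl fun s _ => ?_
  by_cases hψ : ψ ∈ e
  · rw [ind_of_mem hψ]; ring
  · rw [ind_of_notMem hψ]; ring

end Cfsg.Agent.S4683
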