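import Cfsg.Statements.S4688
import Cfsg.Agent.Lib.Blocks.Nilpotent

set_option autoImplicit false
set_option linter.style.haveILetI false
open Cfsg

namespace Cfsg.Agent.S4688

open CfsgLib.Blocks CfsgLib.CharTheory

section
variable {p : ℕ} {M : Ideal Cfsg.AlgInt} {G : Type*} [Group G] [Fintype G]

theorem mem_cent_sup_iff (Q : Subgroup G) (R : Subgroup (Subgroup.centralizer (Q : Set G)))
    (k : Subgroup.centralizer (Q : Set G)) :
    (k : G) ∈ Subgroup.centralizer
      ((Q ⊔ R.map (Subgroup.centralizer (Q : Set G)).subtype : Subgroup G) : Set G) ↔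
      k ∈ Subgroup.centralizer (R : Set (Subgroup.centralizer (Q : Set G))) := by
  constructor
  · intro h r hr
    exact Subtype.ext (h (r : G) ((le_sup_right : R.map (Subgroup.centralizer (Q : Set G)).subtype
      ≤ Q ⊔ R.map (Subgroup.centralizer (Q : Set G)).subtype) ⟨r, hr, rfl⟩))
  · intro h
    rw [Subgroup.mem_centralizer_iff]
    have hle : Q ⊔ R.map (Subgroup.centralizer (Q : Set G)).subtype ≤
        Subgroup.centralizer ({(k : G)} : Set G) := by
      refine sup_le (fun q hq => ?_) ?_
      · exact Subgroup.mem_centralizer_singleton_iff.2 (k.2 q hq)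
      · rintro _ ⟨r, hr, rfl⟩
        exact Subgroup.mem_centralizer_singleton_iff.2 (congrArg Subtype.val (h r hr))
    exact fun y hy => Subgroup.mem_centralizer_singleton_iff.1 (hle hy)

/-- `C_G(Q R) ≃ C_K(R)` for `K = C_G(Q)`. -/
def supE (Q : Subgroup G) (R : Subgroup (Subgroup.centralizer (Q : Set G))) :
    Subgroup.centralizer
      ((Q ⊔ R.map (Subgroup.centralizer (Q : Set G)).subtype : Subgroup G) : Set G) ≃*
      Subgroup.centralizer (R : Set (Subgroup.centralizer (Q : Set G))) where
  toFun c := ⟨⟨c, centralizer_anti le_sup_left c.2⟩,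
    (mem_cent_sup_iff Q R ⟨c, centralizer_anti le_sup_left c.2⟩).1 c.2⟩
  invFun k := ⟨((k : Subgroup.centralizer (Q : Set G)) : G),
    (mem_cent_sup_iff Q R (k : Subgroup.centralizer (Q : Set G))).2 k.2⟩
  left_inv _ := rfl
  right_inv _ := rfl
  map_mul' _ _ := rfl

theorem brauerOmega_sup (Q : Subgroup G) (R : Subgroup (Subgroup.centralizer (Q : Set G)))
    (β : G → ℂ) (ξ : Cfsg.IrrCharacter
      (Subgroup.centralizer (R : Set (Subgroup.centralizer (Q : Set G))))) :
    Cfsg.brauerOmega (Q ⊔ R.map (Subgroup.centralizer (Q : Set G)).subtype) β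
        (irrPull (supE Q R) ξ : _ → ℂ) =
      Cfsg.brauerOmega R (fun h : Subgroup.centralizer (Q : Set G) => β h) (ξ : _ → ℂ) := by
  simp only [Cfsg.brauerOmega]
  refine finsum_eq_of_bijective (supE Q R) (supE Q R).bijective fun c => ?_
  simp only [irrPull_apply, map_one]
  rfl

end

/-- Fix a prime p and a maximal ideal M of the algebraic integers containing p, and a nilpotent p-block B of the finite group G with maximal Brauer pair (P, e). Then for every Brauer pair (Q, f) of B, f is a nilpotent block of C_G(Q); and if moreover (Q, f) ≤ (P, e), then C_P(Q) is a defect group of f as a block of C_G(Q). -/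
theorem result {G : Type*} [Group G] [Fintype G] (p : ℕ) [Fact p.Prime] (M : Ideal Cfsg.AlgInt) (hM : Cfsg.IsPModular p M) (B : Set (Cfsg.IrrCharacter G)) (P : Subgroup G) (e : Set (Cfsg.IrrCharacter (Subgroup.centralizer (P : Set G)))) (hmax : Cfsg.IsMaximalBrauerPair p M B P e) (hnil : Cfsg.IsNilpotentBlock p M B) (Q : Subgroup G) (f : Set (Cfsg.IrrCharacter (Subgroup.centralizer (Q : Set G)))) (hQf : Cfsg.IsBrauerPairOf p M B Q f) : Cfsg.IsNilpotentBlock p M f ∧ (Cfsg.SubpairLE p M Q f P e → Cfsg.IsDefectGroup p M f ((P ⊓ Subgroup.centralizer (Q : Set G)).subgroupOf (Subgroup.centralizer (Q : Set G)))) := by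
  classical
  have hF := blockFusion_isBlockFusion hM hmax
  constructor
  · refine ⟨hQf.1.2, fun R g hg x hxN hst hreg => ?_⟩
    haveI := Fintype.ofFinite (Subgroup.centralizer (Q : Set G))
    set S := Q ⊔ R.map (Subgroup.centralizer (Q : Set G)).subtype with hS
    have hQp := hQf.1.1
    have hRN : R.map (Subgroup.centralizer (Q : Set G)).subtype ≤
        Subgroup.normalizer (Q : Set G) :=
      (Subgroup.map_subtype_le R).trans (Subgroup.centralizer_le_normalizer _)
    have hSp : IsPGroup p S := IsPGroup.to_sup_of_normal_left' hQp (hg.1.1.map _) hRN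
    have hQS : Q ≤ S := le_sup_left
    have hSN : S ≤ Subgroup.normalizer (Q : Set G) := sup_le Subgroup.le_normalizer hRN
    have hSst : ∀ y ∈ S, Cfsg.StabilizesBlock (Subgroup.centralizer (Q : Set G)) f y := fun y hy =>
      ((mem_pairStab y).1 ((sup_le (self_le_pairStab hM Q f)
        ((Subgroup.map_subtype_le R).trans (cent_le_pairStab Q f)) : S ≤ pairStab Q f) hy)).2
    set g' : Set (Cfsg.IrrCharacter (Subgroup.centralizer (S : Set G))) :=
      irrPull (supE Q R) '' g with hg'def
    have hg' : Cfsg.IsPBlock M g' := isPBlock_image _ hg.1.2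
    obtain ⟨η, hη⟩ := bne hM hg.1.2
    have h1 : lam hM S (Cfsg.subgroupBlockCoeff (Subgroup.centralizer (Q : Set G)) f)
        (irrPull (supE Q R) η) = 1 := by
      rw [lam, brauerOmega_sup,
        show (fun h : Subgroup.centralizer (Q : Set G) => Cfsg.subgroupBlockCoeff
          (Subgroup.centralizer (Q : Set G)) f (h : G)) = Cfsg.blockCoeff f from
          funext fun h => sext_coe _ _ h]
      exact pairOf_lam hM hg hη
    have hstep := isNormalSubpair_mk hM hSp hQS hSN hQf.1.2 hSst hg'
      (ξ := irrPull (supE Q R) η) ⟨η, hη, rfl⟩ h1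
    have hpair := (pairOf_normalSubpair_iff hM hstep B).1 hQf
    have hxS : (x : G) ∈ Subgroup.normalizer (S : Set G) := by
      refine mem_normalizer_of_forall_mem fun y hy => ?_
      have hle : S ≤ S.comap (MulAut.conj (x : G)).toMonoidHom := by
        refine sup_le (fun q hq => ?_) ?_
        · refine hQS ?_
          show (x : G) * q * (x : G)⁻¹ ∈ Q
          have := x.2 q hq
          rwa [← this, mul_inv_cancel_right]
        · rintro _ ⟨r, hr, rfl⟩
          exact (le_sup_right : R.map (Subgroup.centralizer (Q : Set G)).subtype ≤ S)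
            ⟨x * r * x⁻¹, (Subgroup.mem_normalizer_iff.1 hxN r).1 hr, rfl⟩
      exact hle hy
    have hst' : Cfsg.StabilizesBlock (Subgroup.centralizer (S : Set G)) g' (x : G) := by
      refine ⟨normalizer_le_normalizer_cent S hxS, ?_⟩
      rintro _ ⟨χ, hχ, rfl⟩
      obtain ⟨χ', hχ', hc⟩ := hst.2 χ hχ
      exact ⟨_, ⟨χ', hχ', rfl⟩,
        fun k k' hk => hc (supE Q R k) (supE Q R k') (Subtype.ext hk)⟩
    have hreg' : Cfsg.IsPRegular p (x : G) := by
      simpa [Cfsg.IsPRegular, Subgroup.orderOf_coe] using hreg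
    intro r hr
    exact Subtype.ext (hnil.2 S g' hpair (x : G) hxS hst' hreg' r
      ((le_sup_right : R.map (Subgroup.centralizer (Q : Set G)).subtype ≤ S) ⟨r, hr, rfl⟩))
  · intro hle
    exact (fullyCentralized_iff hM hF hQf.1.2 hle).1
      (fullyCentralized_of_inner hM hF hnil (subpairLE_le (a := ⟨Q, f⟩) (b := ⟨P, e⟩) hle))

end Cfsg.Agent.S4688
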