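import Cfsg.Statements.S4693
import Cfsg.Agent.Lib.Blocks.Nilpotent
import Cfsg.Agent.Lib.Blocks.NormalPair
import Cfsg.Agent.Lib.Blocks.Down

set_option autoImplicit false
set_option linter.style.haveILetI false
open Cfsg

namespace Cfsg.Agent.S4693

open CfsgLib.Blocks CfsgLib.CharTheory

/-- Fix a prime p and a maximal ideal M of the algebraic integers containing p, a p-block B of the finite group G with maximal Brauer pair (P, e) and fusion system F on P, and a Brauer pair (Q, f) ≤ (P, e) with Q centric in F. Suppose every element of G normalizes Q and stabilizes f. Then the idempotent of B agrees with that of f modulo M at every element of G, and f is the idempotent of a nilpotent block of Q·C_G(Q): some p-block of Q·C_G(Q) has the idempotent coefficients of f and is nilpotent. -/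
theorem result {G : Type*} [Group G] [Fintype G] (p : ℕ) [Fact p.Prime] (M : Ideal Cfsg.AlgInt) (hM : Cfsg.IsPModular p M) (B : Set (Cfsg.IrrCharacter G)) (P : Subgroup G) (e : Set (Cfsg.IrrCharacter (Subgroup.centralizer (P : Set G)))) (hmax : Cfsg.IsMaximalBrauerPair p M B P e) (F : Cfsg.FusionSystem P) (hF : Cfsg.IsBlockFusionSystemOn p M B P e F) (Q : Subgroup G) (f : Set (Cfsg.IrrCharacter (Subgroup.centralizer (Q : Set G)))) (hQP : Q ≤ P) (hf : Cfsg.IsPBlock M f) (hle : Cfsg.SubpairLE p M Q f P e) (hcen : F.IsCentric Q) (hG : ∀ x : G, x ∈ Subgroup.normalizer (Q : Set G) ∧ Cfsg.StabilizesBlock (Subgroup.centralizer (Q : Set G)) f x) : (∀ g : G, Cfsg.MemLocalIdeal M (Cfsg.blockCoeff B g - Cfsg.subgroupBlockCoeff (Subgroup.centralizer (Q : Set G)) f g)) ∧ ∃ F' : Set (Cfsg.IrrCharacter ↥(Q ⊔ Subgroup.centralizer (Q : Set G))), Cfsg.IsPBlock M F' ∧ (∀ t : ↥(Q ⊔ Subgroup.centralizer (Q : Set G)), Cfsg.blockCoeff F' t = Cfsg.subgroupBlockCoeff (Subgroup.centralizer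 (Q : Set G)) f (t : G)) ∧ Cfsg.IsNilpotentBlock p M F' := by
  classical
  have hpair := (pairOf_subpair_iff hM (a := ⟨Q, f⟩) (b := ⟨P, e⟩) hle B).2 hmax.1
  have hQp := hpair.1.1
  have hTop : ∀ x : G, x ∈ pairStab Q f := fun x => (mem_pairStab x).2 (hG x)
  haveI hQn : Q.Normal := ⟨fun q hq x => (Subgroup.mem_normalizer_iff.1 (hG x).1 q).1 hq⟩
  refine ⟨fun g => ?_, ?_⟩
  · rw [blockCoeff_eq_orbit hM hQp hpair g, torbFn_of_stable (fun n _ => (hG n).2),
      ← subgroupBlockCoeff_eq, sub_self]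
    exact memIdeal_zero hM
  set H := Q ⊔ (Subgroup.centralizer (Q : Set G)) with hH
  haveI := Fintype.ofFinite H
  have hQH : Q ≤ H := le_sup_left
  have hCH : (Subgroup.centralizer (Q : Set G)) ≤ H := le_sup_right
  obtain ⟨F', hF', hcoef⟩ :=
    exists_stabBlock hM hQp hf hQH hCH (fun x _ => hTop x)
  refine ⟨F', hF', hcoef, hF', fun R g hg x hxN hst hreg => ?_⟩
  have hmul : ∀ y ∈ H, ∃ q ∈ Q, ∃ c ∈ (Subgroup.centralizer (Q : Set G)), q * c = y := by
    intro y hy
    have h : y ∈ ((Q ⊔ (Subgroup.centralizer (Q : Set G)) : Subgroup G) : Set G) := hy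
    rw [Subgroup.mul_normal] at h
    exact Set.mem_mul.1 h
  obtain ⟨D, hD⟩ := exists_defectGroup hM hF'
  obtain ⟨hQD, g0, -, hstep⟩ :=
    exists_step_of_defect hM hQp hf hQH (fun y _ => hTop y) hF' hcoef hD
  have hDQ : D.map H.subtype = Q := by
    refine le_antisymm (fun d hd => ?_) hQD
    obtain ⟨q, hq, c, hc, hqc⟩ := hmul d (Subgroup.map_subtype_le D hd)
    have hcard : Nat.card (D.map H.subtype ⊓ (Subgroup.centralizer (Q : Set G)) : Subgroup G) ≤ Nat.card (Q ⊓ (Subgroup.centralizer (Q : Set G)) : Subgroup G) := by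
      rw [isDefectGroup_card_centP hM hf ((centric_iff hM hF hf hle).1 hcen)]
      exact card_centP_le hM hstep.2.1.1 hQD hf hstep.2.1.2 (Relation.ReflTransGen.single
        (hstep : Cfsg.NormalSubpairRel p M ⟨Q, f⟩ ⟨_, g0⟩))
    have heq : Q ⊓ (Subgroup.centralizer (Q : Set G)) = D.map H.subtype ⊓ (Subgroup.centralizer (Q : Set G)) :=
      Subgroup.eq_of_le_of_card_ge (inf_le_inf_right (Subgroup.centralizer (Q : Set G)) hQD) hcard
    have hcD : c ∈ D.map H.subtype ⊓ (Subgroup.centralizer (Q : Set G)) := by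
      refine ⟨?_, hc⟩
      rw [show c = q⁻¹ * d by rw [← hqc]; group]
      exact Subgroup.mul_mem _ (Subgroup.inv_mem _ (hQD hq)) hd
    rw [← heq] at hcD
    rw [← hqc]
    exact Q.mul_mem hq hcD.1
  obtain ⟨⟨R', g'⟩, hle', hmax'⟩ := exists_maximal_ge hM ⟨R, g⟩ hg
  obtain ⟨y, hy⟩ := defectGroup_conjugate hM hF' hD (maximal_isDefectGroup hM hmax')
  have hRQ : R.map H.subtype ≤ Q := by
    refine (Subgroup.map_mono ((subpairLE_le hle').trans hy.ge)).trans ?_
    rw [map_conj_subtype, hDQ, map_conj_normalizer (hG _).1]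
  have hxC : (x : G) ∈ (Subgroup.centralizer (Q : Set G)) := by
    obtain ⟨q, hq, c, hc, hqc⟩ := hmul x x.2
    have hq1 : (QuotientGroup.mk (x : G) : G ⧸ (Subgroup.centralizer (Q : Set G))) = QuotientGroup.mk q := by
      rw [QuotientGroup.eq, ← hqc, show (q * c)⁻¹ * q = c⁻¹ by group]
      exact (Subgroup.centralizer (Q : Set G)).inv_mem hc
    obtain ⟨k, hk⟩ := hQp ⟨q, hq⟩
    have hxq : (QuotientGroup.mk (x : G) : G ⧸ (Subgroup.centralizer (Q : Set G))) ^ (p ^ k) = 1 := by
      rw [hq1, ← QuotientGroup.mk_pow, show q ^ (p ^ k) = 1 by simpa using congrArg Subtype.val hk]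
      rfl
    have hreg' : ¬ p ∣ orderOf (x : G) := by
      simpa [Cfsg.IsPRegular, Subgroup.orderOf_coe] using hreg
    exact (QuotientGroup.eq_one_iff (x : G)).1 (orderOf_eq_one_iff.1 (Nat.eq_one_of_dvd_coprimes
      ((hM.1.coprime_iff_not_dvd.2 hreg').pow_left k) (orderOf_dvd_of_pow_eq_one hxq)
      (orderOf_map_dvd (QuotientGroup.mk' (Subgroup.centralizer (Q : Set G))) (x : G))))
  intro r hr
  exact Subtype.ext (hxC (r : G) (hRQ ⟨r, hr, rfl⟩))

end Cfsg.Agent.S4693
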