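import Cfsg.Statements.S4694
import Cfsg.Agent.Lib.Blocks.WeightPair
import Cfsg.Agent.Lib.Blocks.FirstMain

set_option autoImplicit false
open Cfsg CfsgLib.Blocks CfsgLib.CharTheory
open scoped ComplexConjugate

set_option linter.unusedVariables false

namespace Cfsg.Agent.S4694

/-- Fix a prime p and a maximal ideal M of the algebraic integers containing p, a p-block B of the finite group G and a Brauer pair (Q, e) of B. Let T be the stabilizer of e in N_G(Q) and suppose that (Q, e) carries a weight: the block of T whose idempotent is that of e contains an irreducible character χ that is constant on the cosets of Q and whose degree has p-part equal to the p-part of the index of Q in T. Then Z(Q) is a defect group of e as a block of C_G(Q), and Q is the largest normal p-subgroup of T: every p-subgroup of T normalized by T lies in Q. -/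
theorem result {G : Type*} [Group G] [Fintype G] (p : ℕ) [Fact p.Prime] (M : Ideal Cfsg.AlgInt) (hM : Cfsg.IsPModular p M) (B : Set (Cfsg.IrrCharacter G)) (Q : Subgroup G) (e : Set (Cfsg.IrrCharacter (Subgroup.centralizer (Q : Set G)))) (hQe : Cfsg.IsBrauerPairOf p M B Q e) (T : Subgroup G) (hT : ∀ y : G, y ∈ T ↔ y ∈ Subgroup.normalizer (Q : Set G) ∧ Cfsg.StabilizesBlock (Subgroup.centralizer (Q : Set G)) e y) (F' : Set (Cfsg.IrrCharacter T)) (hF' : Cfsg.IsPBlock M F') (hF'e : ∀ t : T, Cfsg.blockCoeff F' t = Cfsg.subgroupBlockCoeff (Subgroup.centralizer (Q : Set G)) e (t : G)) (χ : Cfsg.IrrCharacter T) (hχ : χ ∈ F') (hχQ : ∀ q : G, q ∈ Q → ∀ t : T, ∀ t' : T, (t' : G) = q * (t : G) → (χ : T → ℂ) t' = (χ : T → ℂ) t) (hdeg : (Cfsg.charDegree (χ : T → ℂ)).factorization p + (Nat.card Q).factorization p = (Nat.card T).factorization p) : Cfsg.IsDefectGroup p M e ((Q ⊓ Subgroup.centralizer (Q : Set G)).subgroupOf (Subgroup.centralizer (Q : Set G))) ∧ ∀ R : Subgroup G, R ≤ T → IsPGroup p R → (∀ t ∈ T, t ∈ Subgroup.normalizer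 (R : Set G)) → R ≤ Q := by
  classical
  have hp : p.Prime := Fact.out
  obtain ⟨⟨hQp, he⟩, -, -⟩ := hQe
  haveI : Fintype (Subgroup.centralizer (Q : Set G)) := Fintype.ofFinite _
  haveI : Fintype T := Fintype.ofFinite _
  -- `Q` and its centralizer lie in `T`
  have hCT : (Subgroup.centralizer (Q : Set G)) ≤ T := fun c hc => (hT c).2 ⟨Subgroup.centralizer_le_normalizer _ hc,
    stabilizes_of_mem e hc⟩
  have hQC : ∀ q ∈ Q, ∀ c ∈ (Subgroup.centralizer (Q : Set G)), q * c * q⁻¹ = c := fun q hq c hc => by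
    rw [hc q hq, mul_inv_cancel_right]
  have hQT : Q ≤ T := by
    intro q hq
    refine (hT q).2 ⟨Subgroup.le_normalizer hq, ?_, fun θ hθ => ⟨θ, hθ, fun k k' hk => ?_⟩⟩
    · exact normalizer_le_normalizer_cent Q (Subgroup.le_normalizer hq)
    · rw [hQC q hq k k.2] at hk
      exact congrArg _ (Subtype.ext hk)
  have hTN : T ≤ Subgroup.normalizer (Q : Set G) := fun t ht => ((hT t).1 ht).1
  have hTC : T ≤ Subgroup.normalizer ((Subgroup.centralizer (Q : Set G)) : Set G) := fun t ht => ((hT t).1 ht).2.1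
  haveI hQn : (Q.subgroupOf T).Normal := Subgroup.normal_subgroupOf_of_le_normalizer hTN
  haveI hCn : ((Subgroup.centralizer (Q : Set G)).subgroupOf T).Normal := Subgroup.normal_subgroupOf_of_le_normalizer hTC
  have hcQ : Nat.card (Q.subgroupOf T) = Nat.card Q :=
    Nat.card_congr (Subgroup.subgroupOfEquivOfLe hQT).toEquiv
  have hQp' : IsPGroup p (Q.subgroupOf T) :=
    hQp.comap_of_injective _ (Subgroup.subtype_injective _)
  have hker : ∀ q ∈ Q.subgroupOf T, (χ : T → ℂ) q = (χ : T → ℂ) 1 := fun q hq => by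
    refine hχQ (q : G) (Subgroup.mem_subgroupOf.1 hq) 1 q ?_
    rw [Subgroup.coe_one, mul_one]
  have hdef : dv p (χ : T → ℂ) + (Nat.card (Q.subgroupOf T)).factorization p =
      (Nat.card T).factorization p := by rw [hcQ]; exact hdeg
  refine ⟨?_, fun R hRT hRp hRn => ?_⟩
  · set N : Subgroup T := (Subgroup.centralizer (Q : Set G)).subgroupOf T ⊔ Q.subgroupOf T with hN
    haveI : Fintype N := Fintype.ofFinite _
    obtain ⟨φ, hφne, hφker, hφle⟩ :=
      exists_constituent_defZero hp N (Q.subgroupOf T) χ hker hdef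
    let j : (Subgroup.centralizer (Q : Set G)) →* T := Subgroup.inclusion hCT
    let jN : (Subgroup.centralizer (Q : Set G)) →* N := (Subgroup.inclusion (le_sup_left : (Subgroup.centralizer (Q : Set G)).subgroupOf T ≤ N)).comp
      (Subgroup.subgroupOfEquivOfLe hCT).symm.toMonoidHom
    have hjN : ∀ c : (Subgroup.centralizer (Q : Set G)), ((jN c : N) : T) = j c := fun c => rfl
    obtain ⟨ψ, hψ, hφψ⟩ := exists_quotient_irr ((Q.subgroupOf T).subgroupOf N) φ.2 hφker
    let π : (Subgroup.centralizer (Q : Set G)) →* N ⧸ (Q.subgroupOf T).subgroupOf N :=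
      (QuotientGroup.mk' _).comp jN
    have hsurj : Function.Surjective π := by
      intro x
      obtain ⟨x, rfl⟩ := QuotientGroup.mk_surjective x
      obtain ⟨c, hc, q, hq, hcq⟩ := Subgroup.mem_sup_of_normal_right.1 x.2
      refine ⟨⟨(c : G), Subgroup.mem_subgroupOf.1 hc⟩, ?_⟩
      show ((jN ⟨(c : G), _⟩ : N) : N ⧸ (Q.subgroupOf T).subgroupOf N) = _
      rw [QuotientGroup.eq, Subgroup.mem_subgroupOf]
      have : (((jN ⟨(c : G), Subgroup.mem_subgroupOf.1 hc⟩)⁻¹ * x : N) : T) = q := by
        rw [Subgroup.coe_mul, Subgroup.coe_inv, hjN, ← hcq, ← mul_assoc]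
        rw [show j ⟨(c : G), Subgroup.mem_subgroupOf.1 hc⟩ = c from Subtype.ext rfl,
          inv_mul_cancel, one_mul]
      rw [this]; exact hq
    set ξ : IrrCharacter (Subgroup.centralizer (Q : Set G)) := ⟨fun c => ψ (π c), isIrrCharacter_comp_surjective hψ π hsurj⟩ with hξ
    have hξφ : ∀ c : (Subgroup.centralizer (Q : Set G)), (ξ : (Subgroup.centralizer (Q : Set G)) → ℂ) c = (φ : N → ℂ) (jN c) := fun c => (congrFun hφψ (jN c)).symm
    set Z : Subgroup (Subgroup.centralizer (Q : Set G)) := (Q ⊓ (Subgroup.centralizer (Q : Set G))).subgroupOf (Subgroup.centralizer (Q : Set G)) with hZ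
    have hZc : Z ≤ Subgroup.center (Subgroup.centralizer (Q : Set G)) := fun z hz => Subgroup.mem_center_iff.2 fun c => Subtype.ext
      (c.2 (z : G) (Subgroup.mem_subgroupOf.1 hz).1).symm
    have hZker : Z = π.ker := by
      ext z
      rw [MonoidHom.mem_ker, hZ, Subgroup.mem_subgroupOf]
      show _ ↔ ((jN z : N) : N ⧸ (Q.subgroupOf T).subgroupOf N) = 1
      rw [QuotientGroup.eq_one_iff, Subgroup.mem_subgroupOf, hjN, Subgroup.mem_subgroupOf]
      exact ⟨fun h => h.1, fun h => ⟨h, z.2⟩⟩
    have hZp : IsPGroup p Z :=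
      (hQp.to_le (inf_le_left : Q ⊓ Subgroup.centralizer (Q : Set G) ≤ Q)).comap_of_injective _ (Subgroup.subtype_injective _)
    have hQN : Q.subgroupOf T ≤ N := le_sup_right
    have hcardN : Nat.card N =
        Nat.card Q * Nat.card (N ⧸ (Q.subgroupOf T).subgroupOf N) := by
      rw [← hcQ, ← Nat.card_congr (Subgroup.subgroupOfEquivOfLe hQN).toEquiv,
        ← Subgroup.index_eq_card, Subgroup.card_mul_index]
    have hcardC : Nat.card (Subgroup.centralizer (Q : Set G)) = Nat.card Z * Nat.card (N ⧸ (Q.subgroupOf T).subgroupOf N) := by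
      rw [hZker, ← Nat.card_congr (QuotientGroup.quotientKerEquivOfSurjective π hsurj).toEquiv,
        ← Subgroup.index_eq_card, Subgroup.card_mul_index]
    have hξdv : dv p (ξ : (Subgroup.centralizer (Q : Set G)) → ℂ) = dv p (φ : N → ℂ) := by
      simp only [dv, charDegree, hξφ, map_one]
    -- the degree of `ξ`
    have hfN := congrArg (fun n : ℕ => n.factorization p) hcardN
    have hfC := congrArg (fun n : ℕ => n.factorization p) hcardC
    rw [Nat.factorization_mul Nat.card_pos.ne' Nat.card_pos.ne', Finsupp.add_apply] at hfN hfC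
    rw [hcQ] at hφle
    have hξle : dv p (ξ : (Subgroup.centralizer (Q : Set G)) → ℂ) ≤
        (Nat.card (N ⧸ (Q.subgroupOf T).subgroupOf N)).factorization p := by
      obtain ⟨ρn, ρ, hρ, hρe⟩ := hψ
      have h1 : charDegree (ξ : (Subgroup.centralizer (Q : Set G)) → ℂ) ∣ Nat.card (N ⧸ (Q.subgroupOf T).subgroupOf N) := by
        haveI := hρ
        have h2 := finrank_dvd_card ρ
        have h3 : charDegree (ξ : (Subgroup.centralizer (Q : Set G)) → ℂ) = Module.finrank ℂ (Fin ρn → ℂ) := by
          have h4 := irr_charDegree_cast ξ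
          have h5 : (ξ : (Subgroup.centralizer (Q : Set G)) → ℂ) 1 = ρ.character 1 := by
            show ψ (π 1) = _
            rw [map_one, hρe]
          rw [h5, ρ.char_one] at h4
          exact_mod_cast h4
        rwa [h3]
      exact (Nat.factorization_le_iff_dvd (irr_charDegree_pos ξ).ne' Nat.card_pos.ne').2 h1 p
    refine isDefectGroup_of_central hM hZc hZp (ξ := ξ) ?_ (by omega) he ?_
    · intro z hz
      rw [hZker, MonoidHom.mem_ker] at hz
      show ψ (π z) = ψ (π 1)
      rw [hz, map_one]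
    · refine constituent_mem_of_coeff j (Subgroup.inclusion_injective hCT) e ?_ ?_ hχ ?_
      · intro c
        rw [hF'e]
        exact sgbc_coe e c
      · intro t ht
        rw [hF'e, Cfsg.subgroupBlockCoeff]
        exact dif_neg fun hc => ht ⟨⟨(t : G), hc⟩, Subtype.ext rfl⟩
      · have hsub := isCharacter_sub_irr (isCharacter_restrict (isCharacter_of_irr χ.2) N) φ.2 hφne
        obtain ⟨m, hm⟩ := classInner_char_nat (isCharacter_comp hsub jN) (isCharacter_of_irr ξ.2)
        have hsplit : (fun c : (Subgroup.centralizer (Q : Set G)) => (χ : T → ℂ) (j c)) =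
            (fun c : (Subgroup.centralizer (Q : Set G)) => ((fun n : N => (χ : T → ℂ) n) - (φ : N → ℂ)) (jN c)) + (ξ : (Subgroup.centralizer (Q : Set G)) → ℂ) := by
          funext c
          simp only [Pi.add_apply, Pi.sub_apply, hξφ, hjN]
          ring
        rw [hsplit, classInner_add_left, hm, classInner_irr_self ξ.2]
        exact_mod_cast Nat.succ_ne_zero m
  · haveI : (R.subgroupOf T).Normal := Subgroup.normal_subgroupOf_of_le_normalizer hRn
    have h := pGroup_le_of_defZero hM (R.subgroupOf T) (Q.subgroupOf T)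
      (hRp.comap_of_injective _ (Subgroup.subtype_injective _)) hQp' χ hker hdef
    intro r hr
    exact Subgroup.mem_subgroupOf.1 (h (show (⟨r, hRT hr⟩ : T) ∈ R.subgroupOf T from hr))

end Cfsg.Agent.S4694
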