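import Cfsg.Statements.S4700
import Cfsg.Agent.Lib.SmallSylow.Apply

set_option autoImplicit false
open Cfsg

namespace Cfsg.Agent.S4700

/-- Let G be a finite perfect group and p a prime such that a Sylow p-subgroup of G has order p, and write the number of Sylow p-subgroups as 1 + np. Let H = O_p'(G). Then either p > 3 and G/H is isomorphic to PSL(2, p); or p = 2^m + 1 > 3 and G/H is isomorphic to SL(2, 2^m); or n = (hup + u^2 + u + h)/(u + 1) for some positive integers h and u. -/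
theorem result {G : Type*} [Group G] [Finite G] (hperf : commutator G = ⊤) (p : ℕ) [Fact p.Prime] (P : Sylow p G) (hP : Nat.card P = p) (n : ℕ) (hn : Nat.card (Sylow p G) = 1 + n * p) : (∃ (F : Type) (_ : Field F) (_ : Fintype F), Fintype.card F = p ∧ 3 < p ∧ Nonempty (G ⧸ Cfsg.pPrimeCore p G ≃* Matrix.ProjectiveSpecialLinearGroup (Fin 2) F)) ∨ (∃ (m : ℕ) (F : Type) (_ : Field F) (_ : Fintype F), Fintype.card F = 2 ^ m ∧ p = 2 ^ m + 1 ∧ 3 < p ∧ Nonempty (G ⧸ Cfsg.pPrimeCore p G ≃* Matrix.SpecialLinearGroup (Fin 2) F)) ∨ (∃ h u : ℕ, 0 < h ∧ 0 < u ∧ n * (u + 1) = h * u * p + u ^ 2 + u + h) := by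
  classical
  haveI : Fintype G := Fintype.ofFinite G
  have hp : p.Prime := Fact.out
  by_cases hform : ∃ h u : ℕ, 0 < h ∧ 0 < u ∧ n * (u + 1) = h * u * p + u ^ 2 + u + h
  · exact Or.inr (Or.inr hform)
  have hnF : CfsgLib.SmallSylow.Arith.NotForm p n := fun h u hh hu he => hform ⟨h, u, hh, hu, he⟩
  have hn' : Nat.card (Sylow p G) = n * p + 1 := by rw [hn, add_comm]
  set K := Cfsg.pPrimeCore p G
  haveI : Fintype (G ⧸ K) := Fintype.ofFinite _
  have hperf' := CfsgLib.Zassenhaus.perfect_quotient K hperf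
  have hKp : ¬ p ∣ Nat.card K := CfsgLib.not_dvd_card_pPrimeCore hp
  let P' : Sylow p (G ⧸ K) := P.mapSurjective (QuotientGroup.mk'_surjective K)
  have hP'c : Nat.card P' = p := by
    have h1 : p ∣ Nat.card (G ⧸ K) := by
      have h2 : p ∣ Nat.card G := hP ▸ Subgroup.card_subgroup_dvd_card (P : Subgroup G)
      rw [Subgroup.card_eq_card_quotient_mul_card_subgroup K] at h2
      exact (hp.dvd_mul.1 h2).resolve_right hKp
    have h3 : Nat.card (P' : Subgroup (G ⧸ K)) ∣ Nat.card (P : Subgroup G) := by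
      show Nat.card ((P : Subgroup G).map (QuotientGroup.mk' K)) ∣ _
      exact Subgroup.card_map_dvd _ _
    rw [show Nat.card (P : Subgroup G) = p from hP] at h3
    rcases (Nat.dvd_prime hp).1 h3 with h4 | h4
    · exfalso
      refine P'.not_dvd_index ?_
      have h5 := (P' : Subgroup (G ⧸ K)).card_mul_index
      rw [h4, one_mul] at h5
      rwa [h5]
    · exact h4
  obtain ⟨m, hm, hm0⟩ := CfsgLib.SmallSylow.exists_count P'
  have hm1 : 1 ≤ m := Nat.one_le_iff_ne_zero.2 fun h =>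
    CfsgLib.SmallSylow.not_normal_of_perfect hperf' P' hP'c (hm0 h)
  have hdvd : m * p + 1 ∣ n * p + 1 := by
    rw [← hm, ← hn', Sylow.card_eq_index_normalizer P', Sylow.card_eq_index_normalizer P]
    show (Subgroup.normalizer (((P : Subgroup G).map (QuotientGroup.mk' K) : Subgroup (G ⧸ K)) : Set (G ⧸ K))).index ∣ _
    rw [← Subgroup.index_comap_of_surjective _ (QuotientGroup.mk'_surjective K)]
    exact Subgroup.index_dvd_of_le (Subgroup.map_le_iff_le_comap.1 (Subgroup.le_normalizer_map _))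
  have hmp : 2 ≤ m * p := le_trans hp.two_le (Nat.le_mul_of_pos_left p hm1)
  have hmn : m * p + 1 = n * p + 1 := by
    have hle := Nat.le_of_dvd (Nat.succ_pos _) hdvd
    by_contra hne
    refine CfsgLib.SmallSylow.Arith.false_of_dvd (e := 1) hp.two_le hnF hdvd (one_dvd _) ?_ (by omega) (by omega)
    rw [mul_one]
    show (m * p + 1) % p = 1 % p
    rw [Nat.mul_add_mod_self_right]
  have hmeq : m = n := Nat.eq_of_mul_eq_mul_right hp.pos (by omega)
  subst hmeq
  have hcore : ∀ L : Subgroup (G ⧸ K), L.Normal → ¬ p ∣ Nat.card L → L = ⊥ := by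
    intro L hL hLp
    haveI := hL
    rw [eq_bot_iff, ← CfsgLib.pPrimeCore_quotient_eq_bot (G := G) p]
    exact CfsgLib.le_pPrimeCore (N := L) ((hp.coprime_iff_not_dvd.2 hLp).symm)
  obtain ⟨hp5, h⟩ := CfsgLib.SmallSylow.brauer_small_sylow_number hperf' P' hP'c hm hm1 hnF hcore
  rcases h with h | ⟨k, F, hF, hF', hcard, hpk, ⟨e⟩⟩
  · exact Or.inl ⟨ZMod p, inferInstance, inferInstance, ZMod.card p, by omega, h⟩
  · exact Or.inr (Or.inl ⟨k, F, hF, hF', hcard, hpk, by omega, ⟨e⟩⟩)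

end Cfsg.Agent.S4700
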