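import Cfsg.Statements.S4704
import Cfsg.Agent.Lib.FeitSmall.Main

set_option autoImplicit false
open Cfsg

namespace Cfsg.Agent.S4704

/-- Let G be a finite group with centre Z, p > 7 a prime, and suppose a Sylow p-subgroup of G has order p and is not normal. Let ζ be a faithful irreducible character of G and t the number of conjugacy classes of G consisting of elements of order p. Then one of the following holds: G/Z is isomorphic to PSL(2, p), ζ has degree (p + 1)/2 or (p − 1)/2 and t = 2; or ζ has degree at least p − 1; or ζ has degree at least p + 3/2 − √(p + 5/4) and p ≤ t^2 − 3t + 1. -/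
theorem result {G : Type*} [Group G] [Finite G] (p : ℕ) [Fact p.Prime] (hp : 7 < p) (P : Sylow p G) (hP : Nat.card P = p) (hnn : ¬ (P : Subgroup G).Normal) (ζ : G → ℂ) (hζ : Cfsg.IsIrrCharacter G ζ) (hfaith : ∀ g : G, ζ g = ζ 1 → g = 1) (t : ℕ) (ht : Nat.card {c : ConjClasses G // ∃ g : G, ConjClasses.mk g = c ∧ orderOf g = p} = t) : ((∃ (F : Type) (_ : Field F) (_ : Fintype F), Fintype.card F = p ∧ Nonempty (G ⧸ Subgroup.center G ≃* Matrix.ProjectiveSpecialLinearGroup (Fin 2) F)) ∧ (2 * Cfsg.charDegree ζ = p + 1 ∨ 2 * Cfsg.charDegree ζ = p - 1) ∧ t = 2) ∨ p - 1 ≤ Cfsg.charDegree ζ ∨ ((p : ℝ) + 3 / 2 - Real.sqrt ((p : ℝ) + 5 / 4) ≤ (Cfsg.charDegree ζ : ℝ) ∧ (p : ℤ) ≤ (t : ℤ) ^ 2 - 3 * t + 1) := by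
  classical
  letI : Fintype G := Fintype.ofFinite G
  have hp11 : 11 ≤ p := by
    by_contra h
    have hpp : p.Prime := Fact.out
    interval_cases p <;> norm_num at hpp
  obtain ⟨x, e, s, D⟩ := CfsgLib.FeitSmall.exists_data P hP
  obtain rfl : s = t := by rw [← ht, CfsgLib.FeitSmall.card_classes D]
  rcases CfsgLib.FeitSmall.feit_small D hp11 hnn ⟨ζ, hζ⟩ hfaith with
    ⟨h1, h2, h3⟩ | h | ⟨h1, hs3, h2⟩
  · exact Or.inl ⟨⟨ZMod p, inferInstance, inferInstance, ZMod.card p, h1⟩, h2, h3⟩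
  · exact Or.inr (Or.inl h)
  · refine Or.inr (Or.inr ?_)
    change Cfsg.charDegree ζ + e = p at h1
    have hA := D.A.mul
    have hle : e + 3 ≤ s := by
      rcases h2 with rfl | ⟨h2, -⟩
      · omega
      · exact h2
    have hsq : e * e + 3 * e + 1 ≤ p := by
      have := Nat.mul_le_mul_right e hle
      rw [add_mul] at this
      omega
    constructor
    · have hd : (Cfsg.charDegree ζ : ℝ) = (p : ℝ) - e := by
        rw [eq_sub_iff_add_eq]
        exact_mod_cast h1
      have hsqR : (e : ℝ) * e + 3 * e + 1 ≤ p := by exact_mod_cast hsq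
      have h5 : (e : ℝ) + 3 / 2 ≤ Real.sqrt ((p : ℝ) + 5 / 4) :=
        Real.le_sqrt_of_sq_le (by nlinarith)
      rw [hd]
      linarith
    · have hleZ : (e : ℤ) + 3 ≤ s := by exact_mod_cast hle
      have hAZ : (s : ℤ) * e + 1 = p := by exact_mod_cast hA
      nlinarith

end Cfsg.Agent.S4704
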