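import Cfsg.Statements.S4707
import Cfsg.Agent.Lib.SmallSylow.PredTwo.TwoP
import Cfsg.Agent.Lib.Perm.WielandtTwoP
import Cfsg.Agent.S0494

set_option autoImplicit false
open Cfsg

namespace Cfsg.Agent.S4707

/-- Let p > 3 be a prime and G a primitive permutation group of degree 2p that is not doubly transitive. If a Sylow p-subgroup of G has normalizer of order 2p, then p = 5 and G is isomorphic to the alternating group of degree 5. -/
theorem result {α : Type*} [Fintype α] [DecidableEq α] {p : ℕ} [Fact p.Prime] (hp : 3 < p) (hα : Fintype.card α = 2 * p) (G : Subgroup (Equiv.Perm α)) (hprim : MulAction.IsPreprimitive G α) (hnot2 : ¬ MulAction.IsMultiplyPretransitive G α 2) (P : Sylow p G) (hN : Nat.card (Subgroup.normalizer ((P : Subgroup G) : Set G)) = 2 * p) : p = 5 ∧ Nonempty (G ≃* alternatingGroup (Fin 5)) := by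
  classical
  have hpp : p.Prime := Fact.out
  haveI : Fintype G := Fintype.ofFinite G
  obtain ⟨a₀⟩ : Nonempty α := Fintype.card_pos_iff.1 (by omega)
  obtain ⟨hrank, a, ha0, ha, hsize⟩ :=
    (CfsgLib.WielandtTwoP.main hpp hα G hprim a₀).resolve_left hnot2
  by_cases h5 : p = 5
  · refine ⟨h5, ?_⟩
    have ha1 : a = 1 := by
      by_contra hne
      have h2 : 2 ≤ a := by omega
      have h4 : 4 ≤ a ^ 2 := by nlinarith
      omega
    subst ha1
    obtain ⟨h60, hs⟩ := CfsgLib.SmallSylow.PredTwo.twoP_five (P := P) h5 hα hprim hN a₀ hrank hsize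
    haveI := hs
    exact Cfsg.Agent.S0494.result h60
  · have hp4 : p ≠ 4 := fun h => by rw [h] at hpp; exact absurd hpp (by decide)
    exact (CfsgLib.SmallSylow.PredTwo.twoP_false (P := P) (by omega) hα hprim hN a₀ hrank ha).elim

end Cfsg.Agent.S4707
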