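import Cfsg.Statements.S4708
import Cfsg.Agent.Lib.Blocks.CoveringAll
import Cfsg.Agent.Lib.Blocks.AlperinDade

set_option autoImplicit false
open Cfsg CfsgLib.Blocks CfsgLib.CharTheory
open scoped ComplexConjugate

set_option linter.unusedVariables false

namespace Cfsg.Agent.S4708

/-- Let p be a prime, M a maximal ideal of the algebraic integers containing p, G a finite group and H a normal subgroup. Write λ(X) for the sum of the squares of the degrees of the irreducible characters in the principal p-block of a group X. Then λ(H) ≤ λ(G) ≤ [G : H]·λ(H). -/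
theorem result {G : Type*} [Group G] [Finite G] (p : ℕ) [Fact p.Prime] (M : Ideal Cfsg.AlgInt) (hM : Cfsg.IsPModular p M) (H : Subgroup G) [H.Normal] : (∑ᶠ θ ∈ Cfsg.principalBlock M H, Cfsg.charDegree (θ : H → ℂ) ^ 2) ≤ (∑ᶠ χ ∈ Cfsg.principalBlock M G, Cfsg.charDegree (χ : G → ℂ) ^ 2) ∧ (∑ᶠ χ ∈ Cfsg.principalBlock M G, Cfsg.charDegree (χ : G → ℂ) ^ 2) ≤ H.index * ∑ᶠ θ ∈ Cfsg.principalBlock M H, Cfsg.charDegree (θ : H → ℂ) ^ 2 := by
  classical
  haveI := Fintype.ofFinite G
  haveI := Fintype.ofFinite H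
  rw [finsum_mem_eq_toFinset_sum, finsum_mem_eq_toFinset_sum]
  set b := (principalBlock M H).toFinset with hb
  set B := (principalBlock M G).toFinset with hB
  have ha' : ∀ (χ : IrrCharacter G) (θ : IrrCharacter H),
      ∃ a : ℕ, classInner (fun n : H => (χ : G → ℂ) n) (θ : H → ℂ) = a := fun χ θ =>
    classInner_char_nat (isCharacter_restrict (isCharacter_of_irr χ.2) H) (isCharacter_of_irr θ.2)
  choose a ha using ha'
  have h1 : ∀ χ : IrrCharacter G, charDegree (χ : G → ℂ) =
      ∑ θ : IrrCharacter H, a χ θ * charDegree (θ : H → ℂ) := by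
    intro χ
    apply Nat.cast_injective (R := ℂ)
    push_cast [irr_charDegree_cast]
    have := congrFun (eq_sum_irr (isClassFunction_char
      (isCharacter_restrict (isCharacter_of_irr χ.2) H))) 1
    simp only [Finset.sum_apply, Pi.smul_apply, smul_eq_mul, OneMemClass.coe_one] at this
    rw [this]
    exact Finset.sum_congr rfl fun θ _ => by rw [ha]
  have h2 : ∀ θ : IrrCharacter H, ∑ χ : IrrCharacter G, a χ θ * charDegree (χ : G → ℂ) =
      H.index * charDegree (θ : H → ℂ) := by
    intro θ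
    apply Nat.cast_injective (R := ℂ)
    push_cast [irr_charDegree_cast]
    rw [← indFun_apply_one]
    have := congrFun (eq_sum_irr (isClassFunction_char
      (isCharacter_indFun H (isCharacter_of_irr θ.2)))) 1
    simp only [Finset.sum_apply, Pi.smul_apply, smul_eq_mul] at this
    rw [this]
    refine Finset.sum_congr rfl fun χ _ => ?_
    rw [frobenius_reciprocity H _ (isClassFunction_irr χ.2), ← classInner_comm, ha,
      Complex.conj_natCast]
  have h3 : ∀ χ ∈ B, ∀ θ, θ ∉ b → a χ θ = 0 := by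
    intro χ hχ θ hθ
    by_contra hne
    refine hθ (Set.mem_toFinset.2 (constituent_principal hM (Set.mem_toFinset.1 hχ) ?_))
    rw [ha]
    exact Nat.cast_ne_zero.2 hne
  have h4 : ∀ χ ∈ B, charDegree (χ : G → ℂ) = ∑ θ ∈ b, a χ θ * charDegree (θ : H → ℂ) := by
    intro χ hχ
    rw [h1 χ]
    exact (Finset.sum_subset (Finset.subset_univ b) fun θ _ hθ => by
      rw [h3 χ hχ θ hθ, zero_mul]).symm
  constructor
  · have hex : ∀ θ ∈ b, ∃ χ ∈ B, a χ θ ≠ 0 := by
      intro θ hθ
      obtain ⟨χ, hχ, hc⟩ := exists_over_in_block hM principalBlock_isPBlock principalBlock_isPBlock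
        (principal_covers hM) (Set.mem_toFinset.1 hθ)
      refine ⟨χ, Set.mem_toFinset.2 hχ, fun h => hc ?_⟩
      rw [ha, h, Nat.cast_zero]
    calc ∑ θ ∈ b, charDegree (θ : H → ℂ) ^ 2
        ≤ ∑ θ ∈ b, ∑ χ ∈ B, a χ θ * (charDegree (χ : G → ℂ) * charDegree (θ : H → ℂ)) := by
          refine Finset.sum_le_sum fun θ hθ => ?_
          obtain ⟨χ, hχ, hne⟩ := hex θ hθ
          refine le_trans ?_ (Finset.single_le_sum (fun i _ => Nat.zero_le _) hχ)
          have hle : charDegree (θ : H → ℂ) ≤ charDegree (χ : G → ℂ) := by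
            rw [h4 χ hχ]
            exact (Nat.le_mul_of_pos_left _ (Nat.pos_of_ne_zero hne)).trans
              (Finset.single_le_sum (f := fun θ : IrrCharacter H => a χ θ * charDegree (θ : H → ℂ))
                (fun i _ => Nat.zero_le _) hθ)
          rw [pow_two]
          exact (Nat.mul_le_mul_right _ hle).trans (Nat.le_mul_of_pos_left _ (Nat.pos_of_ne_zero hne))
      _ = ∑ χ ∈ B, charDegree (χ : G → ℂ) ^ 2 := by
          rw [Finset.sum_comm]
          refine Finset.sum_congr rfl fun χ hχ => ?_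
          conv_rhs => rw [pow_two]; arg 2; rw [h4 χ hχ]
          rw [Finset.mul_sum]
          exact Finset.sum_congr rfl fun θ _ => by ring
  · calc ∑ χ ∈ B, charDegree (χ : G → ℂ) ^ 2
        = ∑ χ ∈ B, ∑ θ ∈ b, charDegree (θ : H → ℂ) * (a χ θ * charDegree (χ : G → ℂ)) := by
          refine Finset.sum_congr rfl fun χ hχ => ?_
          conv_lhs => rw [pow_two]; arg 2; rw [h4 χ hχ]
          rw [Finset.mul_sum]
          exact Finset.sum_congr rfl fun θ _ => by ring
      _ ≤ ∑ χ : IrrCharacter G, ∑ θ ∈ b, charDegree (θ : H → ℂ) * (a χ θ * charDegree (χ : G → ℂ)) :=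
          Finset.sum_le_sum_of_subset (Finset.subset_univ B)
      _ = H.index * ∑ θ ∈ b, charDegree (θ : H → ℂ) ^ 2 := by
          rw [Finset.sum_comm, Finset.mul_sum]
          refine Finset.sum_congr rfl fun θ _ => ?_
          rw [← Finset.mul_sum, h2 θ]
          ring

end Cfsg.Agent.S4708
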