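import Cfsg.Statements.S4711
import Cfsg.Agent.Lib.OddLocal.PLengthOne
import Cfsg.Agent.Lib.PSeries
import Cfsg.Agent.Lib.Blocks.Inflation
import Cfsg.Agent.Lib.Blocks.Principal
import Cfsg.Agent.Lib.Blocks.Orth
import Cfsg.Agent.Lib.CharTheory.Schur
import Cfsg.Agent.Lib.CharTheory.RealType
import Cfsg.Agent.Lib.CharTheory.Integral

set_option autoImplicit false
open Cfsg

namespace Cfsg.Agent.S4711

open CfsgLib in
theorem pLengthLE_of_sup_normal {G : Type*} [Group G] [Finite G] {p : ℕ} [Fact p.Prime] {S N : Subgroup G} (hS : IsPGroup p S) (hSidx : ¬ p ∣ S.index) [N.Normal]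
    (hN : (Nat.card N).Coprime p) (hn : (S ⊔ N).Normal) : PLengthLE p 1 G := by
  haveI := hn
  have h1 : N ≤ PSeries.U p G 1 := PSeries.le_succ_of_even Even.zero fun x hx =>
    ⟨Nat.card N, hN, by
      rw [show x ^ Nat.card N = 1 from congrArg Subtype.val (pow_card_eq_one' (x := (⟨x, hx⟩ : N)))]
      exact one_mem _⟩
  have h2 : S ⊔ N ≤ PSeries.U p G 2 := PSeries.le_succ_of_odd (by decide) fun x hx => by
    obtain ⟨k, hk⟩ := hS.exists_card_eq
    refine ⟨k, h1 ((QuotientGroup.eq_one_iff _).mp ?_)⟩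
    obtain ⟨y, hy, w, hw, rfl⟩ := Subgroup.mem_sup_of_normal_right.mp hx
    rw [QuotientGroup.mk_pow, QuotientGroup.mk_mul, (QuotientGroup.eq_one_iff w).mpr hw, mul_one, ← hk,
      ← QuotientGroup.mk_pow,
      show y ^ Nat.card S = 1 from congrArg Subtype.val (pow_card_eq_one' (x := (⟨y, hy⟩ : S))),
      QuotientGroup.mk_one]
  have h3 : (⊤ : Subgroup G) ≤ PSeries.U p G 3 := PSeries.le_succ_of_even (by decide) fun x _ => by
    refine ⟨(S ⊔ N).index, (((Fact.out : p.Prime).coprime_iff_not_dvd.mpr fun hd => hSidx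
      (hd.trans (Subgroup.index_dvd_of_le le_sup_left))).symm), h2 ?_⟩
    exact (S ⊔ N).pow_index_mem x
  exact top_le_iff.mp h3


/-- Let p be a prime, M a maximal ideal of the algebraic integers containing p, G a finite group, P a Sylow p-subgroup and N = N_G(P). Then G has p-length 1 (G = O_{p',p,p'}(G)) if and only if every irreducible character in the principal p-block of G restricts to an irreducible character of N. -/
theorem result {G : Type*} [Group G] [Finite G] (p : ℕ) [Fact p.Prime] (M : Ideal Cfsg.AlgInt) (hM : Cfsg.IsPModular p M) (P : Sylow p G) : Cfsg.PLengthLE p 1 G ↔ ∀ χ ∈ Cfsg.principalBlock M G, Cfsg.IsIrrCharacter ↥(Subgroup.normalizer ((P : Subgroup G) : Set G)) (fun n : ↥(Subgroup.normalizer ((P : Subgroup G) : Set G)) => (χ : G → ℂ) n) := by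
  classical
  haveI : Fintype G := Fintype.ofFinite G
  have hp : p.Prime := Fact.out
  set N := Subgroup.normalizer ((P : Subgroup G) : Set G)
  constructor
  · intro h χ hχ
    have hker : ∀ o ∈ Cfsg.pPrimeCore p G, (χ : G → ℂ) o = (χ : G → ℂ) 1 := fun o ho =>
      CfsgLib.Blocks.principal_kernel hM
        (hp.coprime_iff_not_dvd.mp (CfsgLib.card_pPrimeCore_coprime p).symm) hχ ho
    obtain ⟨n, ρ, hρ, hχc⟩ := χ.2
    refine ⟨n, ρ.comp N.subtype, ?_, ?_⟩
    · have hstab : ∀ (W : Subrepresentation (ρ.comp N.subtype)) (g : G) (v : Fin n → ℂ),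
          v ∈ W.toSubmodule → ρ g v ∈ W.toSubmodule := by
        intro W g v hv
        obtain ⟨x, hx, o, ho, rfl⟩ := CfsgLib.PLengthOne.exists_normalizer_mul h P g
        have hρo : ρ o = 1 := CfsgLib.CharTheory.rep_apply_eq_one_of_char_eq ρ (g := o) (by
          rw [hχc]; exact hker o ho)
        rw [map_mul, hρo, mul_one]
        exact W.apply_mem_toSubmodule ⟨x, hx⟩ hv
      let e : Subrepresentation ρ ≃o Subrepresentation (ρ.comp N.subtype) :=
        { toFun := fun W => ⟨W.toSubmodule, fun x _ hv => W.apply_mem_toSubmodule (x : G) hv⟩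
          invFun := fun W => ⟨W.toSubmodule, fun g v hv => hstab W g v hv⟩
          left_inv := fun _ => rfl
          right_inv := fun _ => rfl
          map_rel_iff' := Iff.rfl }
      exact (OrderIso.isSimpleOrder_iff e).mp hρ
    · funext x; rw [← hχc]; rfl
  intro hres
  set B := Cfsg.principalBlock M G
  have hB : Cfsg.IsPBlock M B := CfsgLib.Blocks.principalBlock_isPBlock
  set K := Subgroup.normalClosure ((P : Subgroup G) : Set G)
  -- either no fixed points of `P`, or `K` is in the kernel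
  have hdich : ∀ χ ∈ B, (∑ u : (P : Subgroup G), (χ : G → ℂ) u = 0) ∨
      ((∑ u : (P : Subgroup G), (χ : G → ℂ) u = (Nat.card (P : Subgroup G) : ℂ) * (χ : G → ℂ) 1) ∧
        ∀ k ∈ K, (χ : G → ℂ) k = (χ : G → ℂ) 1) := by
    intro χ hχ
    obtain ⟨n, ρ, hρ, hχc⟩ := χ.2
    set τ : Representation ℂ N (Fin n → ℂ) := ρ.comp N.subtype
    have hτc : τ.character = fun x : N => (χ : G → ℂ) x := by funext x; rw [← hχc]; rfl
    haveI hτ : τ.IsIrreducible := CfsgLib.CharTheory.isIrreducible_of_character τ (hτc ▸ hres χ hχ)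
    set T : Module.End ℂ (Fin n → ℂ) := ∑ u : (P : Subgroup G), ρ u with hT
    have hTN : ∀ x : N, T * τ x = τ x * T := by
      intro x
      rw [hT, Finset.sum_mul, Finset.mul_sum]
      have hconj : ∀ u : (P : Subgroup G), (x : G)⁻¹ * u * x ∈ (P : Subgroup G) := fun u => by
        have := (Subgroup.mem_normalizer_iff.mp (N.inv_mem x.2) (u : G)).mp u.2
        simpa using this
      refine Fintype.sum_bijective (fun u : (P : Subgroup G) => (⟨(x : G)⁻¹ * u * x, hconj u⟩ : (P : Subgroup G)))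
        ((Finite.injective_iff_bijective).mp fun a b hab => ?_) _ _ fun u => ?_
      · exact Subtype.ext (by simpa using congrArg Subtype.val hab)
      · show ρ u * ρ x = ρ x * ρ ((x : G)⁻¹ * u * x)
        rw [← map_mul, ← map_mul]
        simp [mul_assoc]
    have hTs := CfsgLib.CharTheory.eq_smul_id_of_commute τ T hTN
    set c := LinearMap.trace ℂ _ T / (Module.finrank ℂ (Fin n → ℂ) : ℂ)
    have htr : LinearMap.trace ℂ _ T = ∑ u : (P : Subgroup G), (χ : G → ℂ) u := by
      rw [hT, map_sum, ← hχc]; rfl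
    have htr' : LinearMap.trace ℂ _ T = c * (χ : G → ℂ) 1 := by
      rw [hTs, map_smul, smul_eq_mul, ← hχc]
      simp [Representation.character]
    rcases eq_or_ne c 0 with hc | hc
    · left
      rw [← htr, htr', hc, zero_mul]
    right
    have hu : ∀ u : (P : Subgroup G), ρ u = 1 := by
      intro u
      have h1 : ρ u * T = T := by
        rw [hT, Finset.mul_sum]
        refine Fintype.sum_equiv (Equiv.mulLeft u) _ _ fun v => ?_
        rw [← map_mul]; rfl
      rw [hTs, mul_smul_comm, mul_one] at h1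
      exact smul_right_injective _ hc h1
    refine ⟨?_, fun k hk => ?_⟩
    · rw [← hχc]
      simp [Representation.character, hu]
    · have hle : K ≤ ρ.ker := Subgroup.normalClosure_le_normal fun u hu' => hu ⟨u, hu'⟩
      rw [← hχc]
      simp [Representation.character, show ρ k = 1 from hle hk]
  -- the `p`-regular elements of `K` lie in the kernel of the block
  have hkey : ∀ s ∈ K, ¬ p ∣ orderOf s → ∀ χ ∈ B, (χ : G → ℂ) s = (χ : G → ℂ) 1 := by
    have hsum : ∀ s ∈ K, ¬ p ∣ orderOf s → ∑ χ ∈ CfsgLib.Blocks.bset B, (χ : G → ℂ) s * (χ : G → ℂ) 1 =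
        ∑ χ ∈ CfsgLib.Blocks.bset B, (χ : G → ℂ) 1 * ∑ u : (P : Subgroup G), (χ : G → ℂ) u := by
      intro s hs hsp
      have h1 : ∑ χ ∈ CfsgLib.Blocks.bset B, (χ : G → ℂ) s * ∑ u : (P : Subgroup G), (χ : G → ℂ) u =
          ∑ χ ∈ CfsgLib.Blocks.bset B, (χ : G → ℂ) s * (χ : G → ℂ) 1 := by
        simp_rw [Finset.mul_sum]
        rw [Finset.sum_comm, Finset.sum_eq_single (1 : (P : Subgroup G))]
        · rfl
        · intro u _ hu
          refine CfsgLib.Blocks.weak_orth hM hB hsp ?_
          obtain ⟨k, hk⟩ := IsPGroup.iff_orderOf.mp P.2 u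
          rw [Subgroup.orderOf_coe, hk]
          refine dvd_pow_self p fun h0 => hu ?_
          rw [h0, pow_zero, orderOf_eq_one_iff] at hk
          exact hk
        · intro h; exact absurd (Finset.mem_univ _) h
      rw [← h1]
      refine Finset.sum_congr rfl fun χ hχ => ?_
      rcases hdich χ (CfsgLib.Blocks.mem_bset.mp hχ) with h | ⟨-, h⟩
      · rw [h, mul_zero, mul_zero]
      · rw [h s hs]
    intro s hs hsp χ hχ
    have h0 : ∑ χ ∈ CfsgLib.Blocks.bset B, (χ : G → ℂ) 1 * ((χ : G → ℂ) 1 - (χ : G → ℂ) s) = 0 := by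
      simp_rw [mul_sub]
      rw [Finset.sum_sub_distrib, sub_eq_zero, hsum 1 (one_mem _) (by
        rw [orderOf_one]; exact hp.not_dvd_one), ← hsum s hs hsp]
      exact Finset.sum_congr rfl fun χ _ => mul_comm _ _
    have hd : ∀ ψ : Cfsg.IrrCharacter G, ∃ d : ℕ, 0 < d ∧ (ψ : G → ℂ) 1 = (d : ℂ) := fun ψ =>
      CfsgLib.CharTheory.irr_degree_pos ψ.2
    have hre : ∀ ψ : Cfsg.IrrCharacter G, 0 ≤ ((ψ : G → ℂ) 1 * ((ψ : G → ℂ) 1 - (ψ : G → ℂ) s)).re := by
      intro ψ
      obtain ⟨d, hd0, he⟩ := hd ψ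
      have h1 := (Complex.re_le_norm _).trans
        (CfsgLib.CharTheory.norm_char_le (CfsgLib.CharTheory.isCharacter_of_irr ψ.2) s)
      rw [he, Complex.norm_natCast] at h1
      rw [he]
      simp only [Complex.mul_re, Complex.natCast_re, Complex.natCast_im, zero_mul, sub_zero, Complex.sub_re]
      exact mul_nonneg (Nat.cast_nonneg _) (by linarith)
    have h1 := congrArg Complex.re h0
    rw [Complex.re_sum, Complex.zero_re, Finset.sum_eq_zero_iff_of_nonneg fun ψ _ => hre ψ] at h1
    have h2 := h1 χ (CfsgLib.Blocks.mem_bset.mpr hχ)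
    obtain ⟨d, hd0, he⟩ := hd χ
    rw [he] at h2 ⊢
    simp only [Complex.mul_re, Complex.natCast_re, Complex.natCast_im, zero_mul, sub_zero, Complex.sub_re,
      mul_eq_zero, sub_eq_zero, Nat.cast_eq_zero] at h2
    have h3 : (d : ℝ) = ((χ : G → ℂ) s).re := h2.resolve_left (by omega)
    have h4 := CfsgLib.CharTheory.norm_char_le (CfsgLib.CharTheory.isCharacter_of_irr χ.2) s
    rw [he, Complex.norm_natCast] at h4
    have h5 : ‖(χ : G → ℂ) s‖ = ((χ : G → ℂ) s).re := le_antisymm (h4.trans h3.le) (Complex.re_le_norm _)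
    have h6 : 0 ≤ ((χ : G → ℂ) s).re ∧ ((χ : G → ℂ) s).im = 0 := by
      refine ⟨by linarith [h3, (Nat.cast_nonneg d : (0 : ℝ) ≤ d)], ?_⟩
      have h7 := Complex.sq_norm ((χ : G → ℂ) s)
      rw [h5, Complex.normSq_apply] at h7
      nlinarith
    exact Complex.ext (by rw [Complex.natCast_re]; exact h3.symm) (by rw [Complex.natCast_im]; exact h6.2)
  set H := CfsgLib.Blocks.Inflation.blockKerSub B
  have hH : ¬ p ∣ Nat.card H := CfsgLib.Blocks.Inflation.not_dvd_card_blockKerSub hM hB
  haveI : H.Normal := inferInstance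
  set π := QuotientGroup.mk' H
  have hKp : IsPGroup p (K.map π) := by
    rintro ⟨_, x, hx, rfl⟩
    obtain ⟨v, m, hm, hord⟩ := Nat.exists_eq_pow_mul_and_not_dvd (orderOf_pos x).ne' p hp.ne_one
    refine ⟨v, Subtype.ext ?_⟩
    rw [SubgroupClass.coe_pow, OneMemClass.coe_one, ← map_pow]
    refine (QuotientGroup.eq_one_iff _).mpr (CfsgLib.Blocks.Inflation.mem_blockKerSub.mpr fun χ hχ =>
      hkey _ (pow_mem hx _) ?_ χ hχ)
    rw [orderOf_pow_of_dvd (pow_ne_zero _ hp.ne_zero) (hord ▸ dvd_mul_right _ _), hord,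
      Nat.mul_div_cancel_left _ (pow_pos hp.pos _)]
    exact hm
  haveI : (K.map π).Normal := Subgroup.Normal.map Subgroup.normalClosure_normal _ (QuotientGroup.mk'_surjective _)
  have hKle : K.map π ≤ (P : Subgroup G).map π :=
    (CfsgLib.le_pCore hKp).trans (CfsgLib.pCore_le_sylow (P.mapSurjective (QuotientGroup.mk'_surjective H)))
  refine pLengthLE_of_sup_normal P.2 P.not_dvd_index
    ((hp.coprime_iff_not_dvd.mpr hH).symm) ?_
  have e : (P : Subgroup G) ⊔ H = K ⊔ H := by
    refine le_antisymm (sup_le (le_sup_of_le_left Subgroup.subset_normalClosure) le_sup_right) ?_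
    refine sup_le (fun k hk => ?_) le_sup_right
    have h1 : k ∈ ((P : Subgroup G).map π).comap π := hKle (Subgroup.mem_map_of_mem _ hk)
    rwa [Subgroup.comap_map_eq, QuotientGroup.ker_mk'] at h1
  rw [e]
  infer_instance

end Cfsg.Agent.S4711
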