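import Cfsg.Statements.S4713
import Cfsg.Agent.Lib.Blocks.ItoPSolvable

set_option autoImplicit false
open Cfsg

namespace Cfsg.Agent.S4713

/-- Let p be a prime and G a finite p-solvable group. Then G has a normal abelian Sylow p-subgroup if and only if the degree of every irreducible character of G is prime to p. -/
theorem result {G : Type*} [Group G] [Finite G] (p : ℕ) [Fact p.Prime] (hsolv : Cfsg.IsPSolvable p G) (P : Sylow p G) : ((P : Subgroup G).Normal ∧ IsMulCommutative P) ↔ ∀ χ : Cfsg.IrrCharacter G, ¬ p ∣ Cfsg.charDegree (χ : G → ℂ) := by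
  classical
  have hp : p.Prime := Fact.out
  constructor
  · rintro ⟨hPn, hPab⟩ χ hd
    haveI := hPn
    obtain ⟨m, ρ, hρ, hρc⟩ := χ.2
    have h1 := CfsgLib.CharTheory.degree_dvd_index_of_abelian_normal ρ (P : Subgroup G) fun x hx y hy =>
      congrArg Subtype.val (hPab.1.1 (⟨x, hx⟩ : (P : Subgroup G)) ⟨y, hy⟩)
    rw [show Module.finrank ℂ (Fin m → ℂ) = Cfsg.charDegree (χ : G → ℂ) by
      rw [Cfsg.charDegree, ← hρc, ρ.char_one]; simp] at h1
    exact P.not_dvd_index (hd.trans h1)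
  · intro h
    obtain ⟨Q, hQn, hQab, hQp, hQi⟩ := CfsgLib.Blocks.ito_pSolvable hp _ le_rfl hsolv h
    haveI := hQn
    obtain ⟨g, hg⟩ := MulAction.exists_smul_eq G (hQp.toSylow hQi) P
    have e : (P : Subgroup G) = Q := by
      rw [← hg, Sylow.coe_subgroup_smul, IsPGroup.toSylow_coe]
      exact Subgroup.Normal.conjAct hQn g
    refine ⟨e ▸ hQn, ⟨⟨fun a b => Subtype.ext ?_⟩⟩⟩
    exact hQab a (e ▸ a.2) b (e ▸ b.2)

end Cfsg.Agent.S4713
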