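import Cfsg.Statements.S4714
import Cfsg.Agent.Lib.Blocks.CentralDefect
import Cfsg.Agent.Lib.Blocks.Sections

set_option autoImplicit false
set_option linter.style.haveILetI false
open Cfsg

namespace Cfsg.Agent.S4714

open CfsgLib.Blocks CfsgLib.CharTheory

/-- Let p be a prime, M a maximal ideal of the algebraic integers containing p, D a p-subgroup of the finite group G with G = D·C_G(D), and B a p-block with defect group D. Let χ be a member of B having D in its kernel (there is exactly one, the canonical character of B). Then the irreducible characters in B are exactly the functions θ on G for which there is an irreducible character ζ of D such that θ(yx) = ζ(y)χ(x) whenever y ∈ D, x has order prime to p and x commutes with y, and θ(z) = 0 whenever the p-part of z does not lie in D. -/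
theorem result {G : Type*} [Group G] [Finite G] (p : ℕ) [Fact p.Prime] (M : Ideal Cfsg.AlgInt) (hM : Cfsg.IsPModular p M) (D : Subgroup G) (hD : IsPGroup p D) (hG : D ⊔ Subgroup.centralizer (D : Set G) = ⊤) (B : Set (Cfsg.IrrCharacter G)) (hB : Cfsg.IsPBlock M B) (hBD : Cfsg.IsDefectGroup p M B D) (χ : Cfsg.IrrCharacter G) (hχ : χ ∈ B) (hχD : ∀ y ∈ D, (χ : G → ℂ) y = (χ : G → ℂ) 1) : (∀ θ : Cfsg.IrrCharacter G, θ ∈ B ↔ ∃ ζ : Cfsg.IrrCharacter D, (∀ (y : D) (x : G), ¬ p ∣ orderOf x → Commute (y : G) x → (θ : G → ℂ) ((y : G) * x) = (ζ : D → ℂ) y * (χ : G → ℂ) x) ∧ (∀ z : G, (∀ y : G, Cfsg.IsPPart p z y → y ∉ D) → (θ : G → ℂ) z = 0)) ∧ ∀ ζ : Cfsg.IrrCharacter D, ∃ θ ∈ B, (∀ (y : D) (x : G), ¬ p ∣ orderOf x → Commute (y : G) x → (θ : G → ℂ) ((y : G) * x) = (ζ : D → ℂ) y * (χ : G → ℂ) x) ∧ (∀ z : G, (∀ y : G, Cfsg.IsPPart p z y → y ∉ D) → (θ : G → ℂ) z = 0) := by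
  classical
  haveI := Fintype.ofFinite G
  haveI : D.Normal := by
    rw [← Subgroup.normalizer_eq_top_iff]
    exact top_le_iff.1 (hG ▸ pcent_le_normalizer D)
  obtain ⟨hall, hsurj⟩ := exists_pcent_param hM hD hG hB hBD hχ hχD
  have hzero : ∀ z : G, (∀ y : G, Cfsg.IsPPart p z y → y ∉ D) → ¬ OnPReg p D z := by
    rintro z hz ⟨u, hu, y, hyC, hy, rfl⟩
    obtain ⟨k, hk⟩ := (IsPGroup.iff_orderOf.1 hD) ⟨u, hu⟩
    rw [Subgroup.orderOf_mk] at hk
    exact hz u ⟨y, rfl, hyC u hu, ⟨k, hk⟩, hy⟩ hu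
  have hsur : ∀ ζ : Cfsg.IrrCharacter D, ∃ θ ∈ B,
      (∀ (y : D) (x : G), ¬ p ∣ orderOf x → Commute (y : G) x →
        (θ : G → ℂ) ((y : G) * x) = (ζ : D → ℂ) y * (χ : G → ℂ) x) ∧
      (∀ z : G, (∀ y : G, Cfsg.IsPPart p z y → y ∉ D) → (θ : G → ℂ) z = 0) := by
    intro ζ
    obtain ⟨θ, hθ, -, h2, h3⟩ := hsurj ζ
    exact ⟨θ, hθ, fun y x hx _ => h2 y x hx, fun z hz => h3 z (hzero z hz)⟩
  refine ⟨fun θ => ⟨fun hθ => ?_, ?_⟩, hsur⟩
  · obtain ⟨ζ, -, h2, h3⟩ := hall θ hθ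
    exact ⟨ζ, fun y x hx _ => h2 y x hx, fun z hz => h3 z (hzero z hz)⟩
  · rintro ⟨ζ, h2, h3⟩
    obtain ⟨θ', hθ', h2', h3'⟩ := hsur ζ
    suffices h : θ = θ' by rw [h]; exact hθ'
    apply Subtype.ext
    funext g
    by_cases hg : ∀ y : G, Cfsg.IsPPart p g y → y ∉ D
    · rw [h3 g hg, h3' g hg]
    · push Not at hg
      obtain ⟨u, ⟨y, rfl, hc, -, hy⟩, hu⟩ := hg
      rw [h2 ⟨u, hu⟩ y hy hc, h2' ⟨u, hu⟩ y hy hc]

end Cfsg.Agent.S4714
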