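import Cfsg.Statements.S4715
import Cfsg.Agent.Lib.Blocks.HeightBound
-- import your own Cfsg.Agent.* helpers here

set_option autoImplicit false
open Cfsg

namespace Cfsg.Agent.S4715

/-- Let p be a prime, M a maximal ideal of the algebraic integers containing p, B a p-block of the finite group G with defect group D of order p^d, H = D·C_G(D), b a block of H inducing B, T the stabilizer of b in N_G(D) and e = [T : H] the inertial index of B; let n be the integer with p^n ≤ e < p^(n+1) and p^c the order of the centre of D. Then every irreducible character in B has height h with h + c ≤ n + d. -/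
theorem result {G : Type*} [Group G] [Finite G] (p : ℕ) [Fact p.Prime] (M : Ideal Cfsg.AlgInt) (hM : Cfsg.IsPModular p M) (B : Set (Cfsg.IrrCharacter G)) (hB : Cfsg.IsPBlock M B) (D : Subgroup G) (hBD : Cfsg.IsDefectGroup p M B D) (d : ℕ) (hDd : Nat.card D = p ^ d) (H : Subgroup G) (hH : H = D ⊔ Subgroup.centralizer (D : Set G)) (b : Set (Cfsg.IrrCharacter H)) (hind : Cfsg.IsInducedBlock M H b B) (T : Subgroup G) (hT : ∀ g : G, g ∈ T ↔ (g ∈ Subgroup.normalizer (D : Set G) ∧ ∀ θ ∈ b, ∀ θ' : Cfsg.IrrCharacter H, (∀ h h' : H, (h' : G) = g * h * g⁻¹ → (θ' : H → ℂ) h' = (θ : H → ℂ) h) → θ' ∈ b)) (e : ℕ) (he : H.relIndex T = e) (n : ℕ) (hn : p ^ n ≤ e ∧ e < p ^ (n + 1)) (c : ℕ) (hc : Nat.card (Subgroup.center D) = p ^ c) : ∀ χ ∈ B, Cfsg.blockHeight p B (χ : G → ℂ) + c ≤ n + d := by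
  classical
  haveI := Fintype.ofFinite G
  haveI := Fintype.ofFinite H
  obtain ⟨f, hmax, hstab⟩ := CfsgLib.Blocks.exists_pair_of_pcent hM hB hBD hH hind
  intro χ hχ
  have hd : Cfsg.blockDefect p B = d := Nat.pow_right_injective hM.1.two_le
    ((CfsgLib.Blocks.card_defectGroup hM hB hBD).symm.trans hDd)
  have hcd : c ≤ d := (Nat.pow_le_pow_iff_right hM.1.one_lt).1
    (hc ▸ hDd ▸ Subgroup.card_le_card_group _)
  rw [CfsgLib.Blocks.blockHeight_eq]
  rcases eq_or_lt_of_le (CfsgLib.Blocks.minDv_le hχ (p := p)) with h0 | h0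
  · omega
  have hle : H.relIndex (CfsgLib.Blocks.pairStab D f) ≤ e := by
    rw [← he]
    exact Subgroup.relIndex_le_of_le_right (fun n hn => (hT n).2 (hstab n hn))
      (by rw [Subgroup.relIndex]; exact Subgroup.index_ne_zero_of_finite)
  have hb := CfsgLib.Blocks.height_bound hM hmax hH hle
    (Finset.univ.filter fun z => z ∈ (Subgroup.center D).map D.subtype)
    (fun z hz => by
      obtain ⟨w, hw, rfl⟩ := Subgroup.mem_map.1 (Finset.mem_filter.1 hz).2
      exact ⟨w.2, fun a ha => congrArg Subtype.val (Subgroup.mem_center_iff.1 hw ⟨a, ha⟩)⟩)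
    hχ h0
  have hcard : (Finset.univ.filter fun z => z ∈ (Subgroup.center D).map D.subtype).card = p ^ c := by
    rw [← hc, ← Subgroup.card_map_of_injective (K := Subgroup.center D) D.subtype_injective,
      Nat.card_eq_fintype_card, Fintype.card_subtype]
  rw [hcard, hd, ← pow_add] at hb
  have h2 : p ^ (c + (CfsgLib.Blocks.dv p (χ : G → ℂ) - CfsgLib.Blocks.minDv p B)) <
      p ^ (n + 1 + d) := by
    refine lt_of_le_of_lt hb ?_
    rw [pow_add p (n + 1)]
    exact Nat.mul_lt_mul_of_pos_right hn.2 (pow_pos hM.1.pos _)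
  have h3 := (Nat.pow_lt_pow_iff_right hM.1.one_lt).1 h2
  omega
end Cfsg.Agent.S4715
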