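import Cfsg.Statements.S4718
import Cfsg.Agent.Lib.Blocks.Proj
import Cfsg.Agent.Lib.Blocks.Principal

set_option autoImplicit false
set_option linter.style.haveILetI false
universe u
open Cfsg

namespace Cfsg.Agent.S4718

open CfsgLib.Blocks CfsgLib.CharTheory

/-- Bound on the denominators in a representation of a fraction as a sum of unit fractions. -/
theorem egyptian_bound : ∀ (k D : ℕ), ∃ N : ℕ, ∀ s : Multiset ℕ, Multiset.card s ≤ k →
    (∀ x ∈ s, 0 < x) → ∀ m : ℕ, (s.map fun x : ℕ => (1 : ℚ) / (x : ℚ)).sum = (m : ℚ) / (D : ℚ) →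
      ∀ x ∈ s, x ≤ N := by
  intro k
  induction k with
  | zero =>
    intro D
    refine ⟨0, fun s hs _ _ _ x hx => ?_⟩
    rw [Multiset.card_eq_zero.1 (Nat.le_zero.1 hs)] at hx
    simp at hx
  | succ k ih =>
    intro D
    choose N hN using ih
    refine ⟨((Finset.range ((k + 1) * D + 1)).sup fun n => max n (N (D * n))), fun s hs hpos m hm => ?_⟩
    rcases s.empty_or_exists_mem with rfl | ⟨x₀, hx₀⟩
    · simp
    classical
    have hne : s.toFinset.Nonempty := ⟨x₀, Multiset.mem_toFinset.2 hx₀⟩
    set n := s.toFinset.min' hne with hn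
    have hns : n ∈ s := Multiset.mem_toFinset.1 (Finset.min'_mem _ hne)
    have hn0 := hpos n hns
    have hle : ∀ y ∈ s, n ≤ y := fun y hy => Finset.min'_le _ _ (Multiset.mem_toFinset.2 hy)
    have hupper : (s.map fun x : ℕ => (1 : ℚ) / (x : ℚ)).sum ≤ (k + 1 : ℕ) * ((1 : ℚ) / (n : ℚ)) := by
      have h1 := Multiset.sum_le_card_nsmul (s.map fun x : ℕ => (1 : ℚ) / (x : ℚ)) ((1 : ℚ) / n)
        (fun y hy => by
          obtain ⟨x, hx, rfl⟩ := Multiset.mem_map.1 hy
          exact one_div_le_one_div_of_le (by exact_mod_cast hn0) (by exact_mod_cast hle x hx))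
      rw [Multiset.card_map, nsmul_eq_mul] at h1
      exact h1.trans (mul_le_mul_of_nonneg_right (by exact_mod_cast hs) (by positivity))
    have hpos' : (0 : ℚ) < (s.map fun x : ℕ => (1 : ℚ) / (x : ℚ)).sum := by
      refine lt_of_lt_of_le (show (0 : ℚ) < 1 / n by positivity)
        (Multiset.single_le_sum (fun y hy => ?_) _ (Multiset.mem_map_of_mem _ hns))
      obtain ⟨x, -, rfl⟩ := Multiset.mem_map.1 hy
      positivity
    rw [hm] at hupper hpos'
    have hD : 0 < D := by
      rcases Nat.eq_zero_or_pos D with h | h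
      · rw [h] at hpos'; simp at hpos'
      · exact h
    have hm0 : 1 ≤ m := by
      rcases Nat.eq_zero_or_pos m with h | h
      · rw [h] at hpos'; simp at hpos'
      · exact h
    have hnle : n ≤ (k + 1) * D := by
      have h2 : (m : ℚ) * n ≤ ((k + 1 : ℕ) : ℚ) * D := by
        rw [mul_one_div, div_le_div_iff₀ (by exact_mod_cast hD) (by exact_mod_cast hn0)] at hupper
        exact hupper
      have h3 : m * n ≤ (k + 1) * D := by exact_mod_cast h2
      exact le_trans (Nat.le_mul_of_pos_left n hm0) h3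
    intro x hx
    have hsup := Finset.le_sup (f := fun n => max n (N (D * n)))
      (Finset.mem_range.2 (Nat.lt_succ_of_le hnle))
    refine le_trans ?_ hsup
    by_cases hxn : x = n
    · exact hxn ▸ le_max_left _ _
    refine le_trans ?_ (le_max_right _ _)
    refine hN (D * n) (s.erase n) ?_ (fun y hy => hpos y (Multiset.mem_of_mem_erase hy))
      (m * n - D) ?_ x ((Multiset.mem_erase_of_ne hxn).2 hx)
    · rw [Multiset.card_erase_of_mem hns]; exact Nat.pred_le_iff.2 hs
    · have e := hm
      rw [← Multiset.cons_erase hns, Multiset.map_cons, Multiset.sum_cons] at e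
      have hnn : (0 : ℚ) ≤ ((s.erase n).map fun x : ℕ => (1 : ℚ) / (x : ℚ)).sum := by
        refine Multiset.sum_nonneg fun y hy => ?_
        obtain ⟨x, -, rfl⟩ := Multiset.mem_map.1 hy
        positivity
      have hDn : D ≤ m * n := by
        have h2 : (1 : ℚ) / n ≤ (m : ℚ) / D := by linarith
        rw [div_le_div_iff₀ (by exact_mod_cast hn0) (by exact_mod_cast hD), one_mul] at h2
        exact_mod_cast h2
      rw [eq_sub_of_add_eq' e]
      push_cast [Nat.cast_sub hDn]
      have : (n : ℚ) ≠ 0 := by exact_mod_cast hn0.ne'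
      have : (D : ℚ) ≠ 0 := by exact_mod_cast hD.ne'
      field_simp

/-- Let p be a prime and a a natural number. There is a bound N such that every finite group whose Sylow p-subgroups have order p^a and whose only p-block (relative to a maximal ideal of the algebraic integers containing p) is the principal block has order at most N. -/
theorem result (p : ℕ) [Fact p.Prime] (a : ℕ) : ∃ N : ℕ, ∀ (G : Type u) [Group G] [Finite G] (M : Ideal Cfsg.AlgInt), Cfsg.IsPModular p M → (Nat.card G).factorization p = a → (∀ B : Set (Cfsg.IrrCharacter G), Cfsg.IsPBlock M B → B = Cfsg.principalBlock M G) → Nat.card G ≤ N := by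
  classical
  obtain ⟨N, hN⟩ := egyptian_bound ((p ^ a) ^ 2 + 4) 1
  refine ⟨N, fun G _ _ M hM ha hone => ?_⟩
  haveI := Fintype.ofFinite G
  haveI : Fintype (ConjClasses G) := Fintype.ofFinite _
  have hB := principalBlock_isPBlock (M := M) (G := G)
  have hall : bset (Cfsg.principalBlock M G) = Finset.univ := by
    ext χ
    simp only [mem_bset, Finset.mem_univ, iff_true]
    rw [← hone _ (blockOf_isPBlock χ)]
    exact mem_blockOf_self hM χ
  have hbf := brauer_feit hM hB
  rw [hall] at hbf
  have hle : ((Finset.univ : Finset (Cfsg.IrrCharacter G)).card : ℤ) ≤ ∑ ψ : Cfsg.IrrCharacter G,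
      ((p : ℤ) ^ (dv p (ψ : G → ℂ) - minDv p (Cfsg.principalBlock M G))) ^ 2 := by
    rw [Finset.card_eq_sum_ones]
    push_cast
    exact Finset.sum_le_sum fun ψ _ =>
      one_le_pow₀ (one_le_pow₀ (by exact_mod_cast (Fact.out : p.Prime).one_lt.le))
  have hk : Nat.card (ConjClasses G) ≤ (p ^ a) ^ 2 + 4 := by
    have e : Nat.card (ConjClasses G) = Fintype.card (Cfsg.IrrCharacter G) := by
      rw [← card_irr_eq_card_conjClasses, Nat.card_eq_fintype_card]
    rw [e, ← Finset.card_univ]
    have hd : (p : ℤ) ^ Cfsg.blockDefect p (Cfsg.principalBlock M G) ≤ (p : ℤ) ^ a :=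
      pow_le_pow_right₀ (by exact_mod_cast (Fact.out : p.Prime).one_lt.le)
        (ha ▸ Nat.sub_le _ _)
    have h4 : (0 : ℤ) ≤ (p : ℤ) ^ Cfsg.blockDefect p (Cfsg.principalBlock M G) := by positivity
    have : ((Finset.univ : Finset (Cfsg.IrrCharacter G)).card : ℤ) ≤ ((p : ℤ) ^ a) ^ 2 + 4 := by
      nlinarith
    exact_mod_cast this
  set n : ConjClasses G → ℕ := fun C => Nat.card (Subgroup.centralizer ({crep C} : Set G)) with hn
  have hn0 : ∀ C, 0 < n C := fun C => Nat.card_pos
  have hsum : ∑ C : ConjClasses G, (1 : ℚ) / (n C : ℚ) = ((1 : ℕ) : ℚ) / ((1 : ℕ) : ℚ) := by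
    have h1 : ∑ C : ConjClasses G, (Subgroup.centralizer ({crep C} : Set G)).index = Nat.card G := by
      simp only [index_centralizer_eq, Nat.card_eq_fintype_card, Fintype.card_subtype]
      rw [← Finset.card_univ, Finset.card_eq_sum_card_fiberwise
        (f := ConjClasses.mk) (t := (Finset.univ : Finset (ConjClasses G)))
        (fun _ _ => Finset.mem_coe.2 (Finset.mem_univ _))]
      refine Finset.sum_congr rfl fun C _ => ?_
      congr 1
      ext g
      simp only [Finset.mem_filter, Finset.mem_univ, true_and]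
      rw [← ConjClasses.mk_eq_mk_iff_isConj, mk_crep, eq_comm]
    have hG : (Nat.card G : ℚ) ≠ 0 := Nat.cast_ne_zero.2 Nat.card_pos.ne'
    have h2 : ∀ C : ConjClasses G, (1 : ℚ) / (n C : ℚ) =
        ((Subgroup.centralizer ({crep C} : Set G)).index : ℚ) / (Nat.card G : ℚ) := by
      intro C
      have hnC : (n C : ℚ) ≠ 0 := Nat.cast_ne_zero.2 (hn0 C).ne'
      rw [div_eq_div_iff hnC hG, one_mul]
      exact_mod_cast ((Subgroup.centralizer ({crep C} : Set G)).index_mul_card).symm
    rw [Finset.sum_congr rfl fun C _ => h2 C, ← Finset.sum_div, ← Nat.cast_sum, h1, div_self hG]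
    norm_num
  have hmem : Nat.card G = n (ConjClasses.mk (1 : G)) := by
    have h1 : crep (ConjClasses.mk (1 : G)) = 1 := by
      have h := isConj_crep (1 : G)
      exact isConj_one_left.1 h
    have htop : Subgroup.centralizer ({(1 : G)} : Set G) = ⊤ := by
      ext g; simp [Subgroup.mem_centralizer_singleton_iff]
    simp only [hn, h1, htop, Subgroup.card_top]
  rw [hmem]
  exact hN (Finset.univ.val.map n) (by simpa [Nat.card_eq_fintype_card] using hk) (by
    simp only [Multiset.mem_map]
    rintro x ⟨C, -, rfl⟩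
    exact hn0 C) 1 (by rw [Multiset.map_map]; exact hsum) _
    (Multiset.mem_map_of_mem n (Finset.mem_univ _))

end Cfsg.Agent.S4718
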