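import Cfsg.Statements.S4719
import Cfsg.Agent.Lib.Deficiency.Main

set_option autoImplicit false
universe u
open Cfsg

namespace Cfsg.Agent.S4719

theorem result (a : ℕ) : ∃ N : ℕ, ∀ (G : Type u) [Group G] [Finite G] (M : Ideal Cfsg.AlgInt) (r : ℕ) (P : Sylow 2 G), Cfsg.IsPModular 2 M → Nat.card P = 2 ^ a → (∀ B : Set (Cfsg.IrrCharacter G), Cfsg.IsPBlock M B → B ≠ Cfsg.principalBlock M G → Cfsg.blockDefect 2 B < r) → (∃ E : Subgroup G, E ≤ (P : Subgroup G) ∧ IsMulCommutative E ∧ (∀ x ∈ E, x * x = 1) ∧ Nat.card E = 2 ^ (r + 1)) → Nat.card G ≤ N := by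
  choose F hF using fun r => CfsgLib.Deficiency.bound_deficiency.{u} r a
  refine ⟨(Finset.range (a + 1)).sup F, ?_⟩
  intro G _ _ M r P hM hP hdef hE
  haveI : Fact (Nat.Prime 2) := ⟨Nat.prime_two⟩
  obtain ⟨E, hEP, hEc, hE2, hEcard⟩ := hE
  have hfac : (Nat.card G).factorization 2 ≤ a := by
    have h1 := P.card_eq_multiplicity
    rw [hP] at h1
    exact le_of_eq (Nat.pow_right_injective le_rfl h1.symm)
  have hr : r ≤ a := by
    have h1 := Subgroup.card_dvd_of_le hEP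
    rw [hEcard, hP] at h1
    have := (Nat.pow_dvd_pow_iff_le_right (by norm_num)).1 h1
    omega
  refine le_trans (hF r G M hM hfac hdef ⟨E, fun x hx y hy => ?_, hE2, hEcard⟩)
    (Finset.le_sup (f := F) (Finset.mem_range.2 (by omega)))
  exact congrArg Subtype.val (hEc.is_comm.comm (⟨x, hx⟩ : E) ⟨y, hy⟩)

end Cfsg.Agent.S4719
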