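import Cfsg.Statements.S4720
import Cfsg.Agent.Lib.Blocks.SecondMain
import Cfsg.Agent.Lib.Blocks.Principal
-- import your own Cfsg.Agent.* helpers here

set_option autoImplicit false
open Cfsg

namespace Cfsg.Agent.S4720

open CfsgLib.Blocks CfsgLib.CharTheory

set_option linter.style.haveILetI false
set_option linter.unusedSimpArgs false


/-- Let p be a prime, M a maximal ideal of the algebraic integers containing p, P a p-subgroup of the finite group G, N a subgroup with P ≤ N ≤ N_G(P), and U a nonempty subset of P normalized by N such that an element of U and an element of P that are conjugate in G are already conjugate in N, and such that λ(C_G(y)) = w·#C_N(y) for every y ∈ U with one rational number w, where λ(X) denotes the sum of the squares of the degrees of the irreducible characters in the principal p-block of X. For a complex function θ on P and χ in the principal block of G put a_χ(θ) = #P⁻¹ Σ_{y ∈ P} χ(y) θ(y⁻¹). Then for generalized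 characters θ, η of P with θ vanishing outside U, Σ_χ a_χ(θ)·conj(a_χ(η)) = (w/#P²)·Σ_{y ∈ P} θ(y)·conj(Σ_{x ∈ N} η(x y x⁻¹)) (η extended by zero off P; the conjugates lie in P), the first sum over the principal p-block of G. -/
theorem result {G : Type*} [Group G] [Finite G] (p : ℕ) [Fact p.Prime] (M : Ideal Cfsg.AlgInt) (hM : Cfsg.IsPModular p M) (P : Subgroup G) (hP : IsPGroup p P) (N : Subgroup G) (hPN : P ≤ N) (hNN : N ≤ Subgroup.normalizer (P : Set G)) (U : Set G) (hUne : U.Nonempty) (hUP : U ⊆ (P : Set G)) (hUN : ∀ n ∈ N, ∀ u ∈ U, n * u * n⁻¹ ∈ U) (hfus : ∀ u ∈ U, ∀ g : G, g * u * g⁻¹ ∈ (P : Set G) → ∃ n ∈ N, n * u * n⁻¹ = g * u * g⁻¹) (w : ℚ) (hw : ∀ y ∈ U, ((∑ᶠ ψ ∈ Cfsg.principalBlock M ↥(Subgroup.centralizer ({y} : Set G)), Cfsg.charDegree (ψ : ↥(Subgroup.centralizer ({y} : Set G)) → ℂ) ^ 2) : ℚ) = w * Nat.card ↥(N ⊓ Subgroup.centralizer ({y} : Set G))) (θ η : ↥P → ℂ) (hθ : Cfsg.IsGeneralizedCharacter ↥P θ) (hη : Cfsg.IsGeneralizedCharacter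 ↥P η) (hθU : ∀ y : ↥P, (y : G) ∉ U → θ y = 0) : ∑ᶠ χ ∈ Cfsg.principalBlock M G, ((Nat.card ↥P : ℂ)⁻¹ * ∑ᶠ y : ↥P, (χ : G → ℂ) (y : G) * θ y⁻¹) * (starRingEnd ℂ) ((Nat.card ↥P : ℂ)⁻¹ * ∑ᶠ y : ↥P, (χ : G → ℂ) (y : G) * η y⁻¹) = ((w : ℂ) / ((Nat.card ↥P : ℂ) ^ 2)) * ∑ᶠ y : ↥P, θ y * (starRingEnd ℂ) (∑ᶠ x : ↥N, Cfsg.extendByZero P η ((x : G) * (y : G) * (x : G)⁻¹)) := by
  classical
  letI := Fintype.ofFinite G
  haveI := Fintype.ofFinite P
  haveI := Fintype.ofFinite N
  set B := principalBlock M G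
  have hB : IsPBlock M B := principalBlock_isPBlock
  have hinvθ : ∀ y : P, θ y⁻¹ = (starRingEnd ℂ) (θ y) := by
    obtain ⟨a, b, ha, hb, rfl⟩ := hθ
    intro y
    simp only [Pi.sub_apply, char_apply_inv ha, char_apply_inv hb, map_sub]
  have hpel : ∀ g : G, g ∈ P → ∃ k : ℕ, orderOf g = p ^ k := by
    intro g hg
    obtain ⟨k, hk⟩ := hP.exists_card_eq
    have hd : orderOf (⟨g, hg⟩ : P) ∣ p ^ k := hk ▸ orderOf_dvd_natCard _
    rw [Subgroup.orderOf_mk] at hd
    obtain ⟨j, -, hj⟩ := (Nat.dvd_prime_pow (Fact.out : p.Prime)).1 hd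
    exact ⟨j, hj⟩
  have hone : ∀ g : G, g ∈ P → IsPPart p g g := fun g hg =>
    ⟨1, mul_one g, Commute.one_right g, hpel g hg, by simpa using (Fact.out : p.Prime).ne_one⟩
  have hself : ∀ y : G, y ∈ U → ∑ χ ∈ bset B, (χ : G → ℂ) y * (starRingEnd ℂ) ((χ : G → ℂ) y) =
      (w : ℂ) * (Nat.card ↥(N ⊓ Subgroup.centralizer ({y} : Set G)) : ℂ) := by
    intro y hy
    set H := Subgroup.centralizer ({y} : Set G) with hH
    haveI := Fintype.ofFinite H
    have hc := isCentr_singleton (G := G) y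
    have hx := hpel y (hUP hy)
    have hr : ¬ p ∣ orderOf (1 : H) := by simpa using (Fact.out : p.Prime).ne_one
    have h1 := sum_sq_section hM hc hx hB hr hr
    simp only [OneMemClass.coe_one, mul_one] at h1
    rw [h1, overBlocks_principal hM hc hx]
    have h2 := congrArg (fun q : ℚ => (q : ℂ)) (hw y hy)
    simp only [Rat.cast_mul, Rat.cast_natCast] at h2
    rw [← h2, finsum_mem_eq_finite_toFinset_sum _ (Set.toFinite _)]
    push_cast
    refine Finset.sum_congr (by ext; simp [mem_bset]) fun ψ _ => ?_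
    rw [irr_one_conj, irr_charDegree_cast, sq]
  have hS : ∀ y : G, y ∈ U → ∀ z : G, z ∈ P →
      ∑ χ ∈ bset B, (χ : G → ℂ) y * (starRingEnd ℂ) ((χ : G → ℂ) z) =
        (w : ℂ) * ((Finset.univ.filter fun n : N => (n : G) * y * (n : G)⁻¹ = z).card : ℂ) := by
    intro y hy z hz
    by_cases hex : IsConj y z
    · obtain ⟨g, hg⟩ := isConj_iff.1 hex
      obtain ⟨n, hn, hnz⟩ := hfus y hy g (hg ▸ hz)
      rw [hg] at hnz
      have hval : ∀ χ : IrrCharacter G, (χ : G → ℂ) z = (χ : G → ℂ) y := fun χ => by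
        rw [← hg]; exact irr_isClassFun χ y g
      simp only [hval]
      rw [hself y hy]
      congr 2
      rw [Nat.card_eq_fintype_card, ← Finset.card_univ]
      refine Finset.card_bij'
        (fun c _ => (⟨n * (c : G), N.mul_mem hn (Subgroup.mem_inf.1 c.2).1⟩ : N))
        (fun m hm => ⟨n⁻¹ * (m : G), Subgroup.mem_inf.2 ⟨N.mul_mem (N.inv_mem hn) m.2, by
          rw [Subgroup.mem_centralizer_singleton_iff]
          have hm' := (Finset.mem_filter.1 hm).2
          rw [← hnz, mul_inv_eq_iff_eq_mul] at hm'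
          rw [mul_assoc, hm']
          group⟩⟩) ?_ ?_ ?_ ?_
      · intro c _
        refine Finset.mem_filter.2 ⟨Finset.mem_univ _, ?_⟩
        have hc := Subgroup.mem_centralizer_singleton_iff.1 (Subgroup.mem_inf.1 c.2).2
        rw [← hnz]
        show n * (c : G) * y * (n * (c : G))⁻¹ = _
        rw [mul_assoc n, hc]
        group
      · intros; exact Finset.mem_univ _
      · intro c _; exact Subtype.ext (inv_mul_cancel_left n (c : G))
      · intro m _; exact Subtype.ext (mul_inv_cancel_left n (m : G))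
    · have hcard : (Finset.univ.filter fun n : N => (n : G) * y * (n : G)⁻¹ = z).card = 0 :=
        Finset.card_eq_zero.2 (Finset.filter_eq_empty_iff.2 fun {n} _ h => hex (isConj_iff.2 ⟨n, h⟩))
      rw [hcard, Nat.cast_zero, mul_zero, ← block_orth hM hB (hone y (hUP hy)) (hone z hz) hex]
      exact Finset.sum_congr rfl fun χ _ => by rw [irr_conjInv]
  have hext : ∀ (y : P) (m : N), ∑ z : P, (if (m : G) * (y : G) * (m : G)⁻¹ = (z : G)
      then (starRingEnd ℂ) (η z⁻¹) else 0) =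
        (starRingEnd ℂ) (extendByZero P η ((m : G) * ((y⁻¹ : P) : G) * (m : G)⁻¹)) := by
    intro y m
    have hm : (m : G) * (y : G) * (m : G)⁻¹ ∈ P :=
      (Subgroup.mem_normalizer_iff.1 (hNN m.2) _).1 y.2
    have hm' : (m : G) * ((y⁻¹ : P) : G) * (m : G)⁻¹ =
        (((⟨_, hm⟩ : P)⁻¹ : P) : G) := by
      push_cast; group
    rw [Finset.sum_eq_single ⟨_, hm⟩, if_pos rfl, hm', extendByZero_coe]
    · intro z _ hne; rw [if_neg fun h => hne (Subtype.ext h.symm)]
    · simp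
  rw [finsum_mem_bset]
  simp only [finsum_eq_sum_of_fintype, map_mul, map_inv₀, Complex.conj_natCast, map_sum,
    Finset.mul_sum, Finset.sum_mul]
  rw [Finset.sum_comm]
  have hterm : ∀ a : P, (∑ χ ∈ bset B, ∑ b : P, (Nat.card P : ℂ)⁻¹ * ((χ : G → ℂ) b * θ b⁻¹) *
      ((Nat.card P : ℂ)⁻¹ * ((starRingEnd ℂ) ((χ : G → ℂ) a) * (starRingEnd ℂ) (η a⁻¹)))) =
      ((Nat.card P : ℂ) ^ 2)⁻¹ * ∑ b : P, θ b⁻¹ * ((starRingEnd ℂ) (η a⁻¹) *
        ∑ χ ∈ bset B, (χ : G → ℂ) b * (starRingEnd ℂ) ((χ : G → ℂ) a)) := by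
    intro a
    rw [Finset.sum_comm]
    simp only [Finset.mul_sum]
    exact Finset.sum_congr rfl fun b _ => Finset.sum_congr rfl fun χ _ => by ring
  rw [Finset.sum_congr rfl fun a _ => hterm a, ← Finset.mul_sum, Finset.sum_comm]
  have hb : ∀ b : P, (∑ a : P, θ b⁻¹ * ((starRingEnd ℂ) (η a⁻¹) *
      ∑ χ ∈ bset B, (χ : G → ℂ) b * (starRingEnd ℂ) ((χ : G → ℂ) a))) =
      θ b⁻¹ * ((w : ℂ) * ∑ m : N,
        (starRingEnd ℂ) (extendByZero P η ((m : G) * ((b⁻¹ : P) : G) * (m : G)⁻¹))) := by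
    intro b
    by_cases hbU : (b : G) ∈ U
    · rw [← Finset.mul_sum]
      congr 1
      simp only [← hext b, Finset.mul_sum]
      rw [Finset.sum_comm (s := (Finset.univ : Finset N))]
      refine Finset.sum_congr rfl fun a _ => ?_
      rw [← Finset.mul_sum, hS b hbU a a.2, ← Finset.mul_sum, ← Finset.sum_filter,
        Finset.sum_const, nsmul_eq_mul]
      ring
    · have h0 : θ b⁻¹ = 0 := by rw [hinvθ, hθU b hbU, map_zero]
      simp [h0]
  rw [Finset.sum_congr rfl fun b _ => hb b, Finset.mul_sum]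
  refine Fintype.sum_equiv (Equiv.inv P) _ _ fun b => ?_
  simp only [Equiv.inv_apply, inv_inv, Finset.mul_sum, map_sum]
  refine Finset.sum_congr rfl fun m _ => ?_
  rw [div_eq_mul_inv]
  ring

end Cfsg.Agent.S4720
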