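import Cfsg.Statements.S4721
import Cfsg.Agent.Lib.Blocks.AbelianFreeInvolution

set_option autoImplicit false
open Cfsg CfsgLib.CharTheory CfsgLib.Blocks CfsgLib.Blocks.AbelianFree

namespace Cfsg.Agent.S4721

/-- Let p be a prime, M a maximal ideal of the algebraic integers containing p, and G a finite group with a nontrivial abelian Sylow p-subgroup P, N = N_G(P), C = C_G(P), such that N/C is cyclic of order 3, #P > 4, and C_G(y) ∩ N = C for every non-identity y ∈ P. Then the principal p-block is the disjoint union of a set X of exactly 3 characters containing the principal character and a set Y of (#P − 1)/3 characters, with signs a_χ = ±1 (χ ∈ X, a = 1 at the principal character) and δ = ±1 such that every χ ∈ X takes the value a_χ at every element whose p-part is a non-identity element of P, and there is a map ζ from the non-principal linear characters of P onto Y, constant on N-conjugacy classes,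 with ζ_ψ(z) = δ·Σ ψ'(y) over the N-orbit of ψ, for z with p-part y ≠ 1 in P. If moreover G has an involution lying in no proper normal subgroup of G, then exactly two of the three numbers −δ and a_χ (χ ∈ X non-principal) equal −1, and the product of the degrees of the two non-principal members of X and of any member of Y is a perfect square. -/
theorem result {G : Type*} [Group G] [Finite G] (p : ℕ) [Fact p.Prime] (M : Ideal Cfsg.AlgInt) (hM : Cfsg.IsPModular p M) (P : Sylow p G) (hab : IsMulCommutative P) (hP1 : Nat.card P ≠ 1) (hCN : (Subgroup.centralizer ((P : Subgroup G) : Set G)).relIndex (Subgroup.normalizer ((P : Subgroup G) : Set G)) = 3) (hcyc : ∃ g : G, g ∈ Subgroup.normalizer ((P : Subgroup G) : Set G) ∧ Subgroup.centralizer ((P : Subgroup G) : Set G) ⊔ Subgroup.zpowers g = Subgroup.normalizer ((P : Subgroup G) : Set G)) (hm2 : 3 + 1 < Nat.card P) (hfrob : ∀ y : G, y ∈ (P : Subgroup G) →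 y ≠ 1 → Subgroup.centralizer ({y} : Set G) ⊓ Subgroup.normalizer ((P : Subgroup G) : Set G) = Subgroup.centralizer ((P : Subgroup G) : Set G)) : ∃ (X Y : Set (Cfsg.IrrCharacter G)), Cfsg.principalBlock M G = X ∪ Y ∧ Disjoint X Y ∧ Nat.card X = 3 ∧ Nat.card Y = (Nat.card P - 1) / 3 ∧ (∃ χ₁ ∈ X, (χ₁ : G → ℂ) = fun _ => 1) ∧ ∃ (a : Cfsg.IrrCharacter G → ℤ) (δ : ℤ) (ζ : (↥(P : Subgroup G) →* ℂˣ) → Cfsg.IrrCharacter G), (δ = 1 ∨ δ = -1) ∧ (∀ χ ∈ X, (a χ = 1 ∨ a χ = -1) ∧ ∀ z y : G, Cfsg.IsPPart p z y → y ∈ (P : Subgroup G) → y ≠ 1 → (χ : G → ℂ) z = (a χ : ℂ)) ∧ (∀ ψ : ↥(P : Subgroup G) →* ℂˣ, ψ ≠ 1 → ζ ψ ∈ Y) ∧ (∀ η ∈ Y, ∃ ψ : ↥(P : Subgroup G) →* ℂˣ, ψ ≠ 1 ∧ ζ ψ = η) ∧ (∀ ψ ψ' : ↥(P : Subgroup G) →* ℂˣ, ψ ≠ 1 → (∃ n : G, n ∈ Subgroup.normalizer ((P : Subgroup G) : Set G) ∧ ∀ w w' : ↥(P : Subgroup G), (w' : G) = n * w * n⁻¹ → ψ' w' = ψ w) → ζ ψ' = ζ ψ) ∧ (∀ ψ : ↥(P : Subgroup G) →* ℂˣ, ψ ≠ 1 → ∀ (z : G)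 (y : ↥(P : Subgroup G)), Cfsg.IsPPart p z (y : G) → (y : G) ≠ 1 → (ζ ψ : G → ℂ) z = (δ : ℂ) * ∑ᶠ ψ' ∈ {ψ' : ↥(P : Subgroup G) →* ℂˣ | ∃ n : G, n ∈ Subgroup.normalizer ((P : Subgroup G) : Set G) ∧ ∀ w w' : ↥(P : Subgroup G), (w' : G) = n * w * n⁻¹ → ψ' w' = ψ w}, ((ψ' y : ℂˣ) : ℂ)) ∧ ((∃ t : G, orderOf t = 2 ∧ ∀ K : Subgroup G, K.Normal → t ∈ K → K = ⊤) → Nat.card {χ : Cfsg.IrrCharacter G // χ ∈ X ∧ (χ : G → ℂ) ≠ (fun _ => 1) ∧ a χ = -1} + (if δ = 1 then 1 else 0) = 2 ∧ ∀ η ∈ Y, IsSquare (Cfsg.charDegree (η : G → ℂ) * ∏ᶠ χ ∈ {χ : Cfsg.IrrCharacter G | χ ∈ X ∧ (χ : G → ℂ) ≠ fun _ => 1}, Cfsg.charDegree (χ : G → ℂ))) := by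
  classical
  haveI : Fintype G := Fintype.ofFinite G
  haveI : Fintype (P : Subgroup G) := Fintype.ofFinite _
  haveI : Fintype (Subgroup.normalizer ((P : Subgroup G) : Set G)) := Fintype.ofFinite _
  have h : Free P 3 :=
    ⟨Fact.out, fun x hx y hy => congrArg Subtype.val (hab.1.comm ⟨x, hx⟩ ⟨y, hy⟩), hCN, hfrob⟩
  obtain ⟨ζ, δ, a, X, Y, S, hX3, hpm⟩ := h.exists_shape_three hM hm2
  have hYc : Y.card = (Nat.card P - 1) / 3 := by
    rw [← S.cardY, Nat.mul_div_cancel _ (by norm_num)]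
  obtain ⟨c₂, c₃, h23, hpair⟩ := Finset.card_eq_two.1
    (show (X.erase (oneIrr G)).card = 2 by rw [Finset.card_erase_of_mem S.one.1, hX3])
  have hX : X = {oneIrr G, c₂, c₃} := by rw [← hpair, Finset.insert_erase S.one.1]
  have hne2 : c₂ ≠ oneIrr G :=
    Finset.ne_of_mem_erase (show c₂ ∈ X.erase (oneIrr G) by rw [hpair]; simp)
  have hne3 : c₃ ≠ oneIrr G :=
    Finset.ne_of_mem_erase (show c₃ ∈ X.erase (oneIrr G) by rw [hpair]; simp)
  refine ⟨(X : Set _), (Y : Set _), Set.ext fun χ => S.union χ,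
    Finset.disjoint_coe.2 S.disj, (Nat.card_eq_finsetCard X).trans hX3,
    (Nat.card_eq_finsetCard Y).trans hYc, ⟨oneIrr G, S.one.1, rfl⟩, a, δ,
    fun ψ => ζ (ofHom ψ), S.hδ, fun χ hχ => ⟨hpm χ hχ, fun z y hz hy hy1 => ?_⟩,
    fun ψ hψ => S.mem_ζ _ (ofHom_ne_one hψ), fun η hη => ?_, fun ψ ψ' hψ hrel => ?_,
    fun ψ hψ z y hz hy1 => ?_, ?_⟩
  · rw [h.value_pPart hM ((S.union χ).2 (Or.inl hχ)) hz hy hy1,
      ← S.valueX h hχ (w := ⟨y, hy⟩) fun e => hy1 (congrArg Subtype.val e)]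
  · obtain ⟨ν, hν, rfl⟩ := S.surj η hη
    obtain ⟨ψ, rfl⟩ := h.exists_ofHom ν
    exact ⟨ψ, fun e => hν (e ▸ Subtype.ext (funext fun w => by simp [ofHom, oneP])), rfl⟩
  · have hr := rel_ofHom.2 hrel
    exact (S.ζ_rel _ _ (rel_ne_one (rel_symm hr) (ofHom_ne_one hψ)) (ofHom_ne_one hψ)).2
      (rel_symm hr)
  · rw [h.value_pPart hM ((S.union _).2 (Or.inr (S.mem_ζ _ (ofHom_ne_one hψ)))) hz y.2 hy1,
      S.valueY h (ofHom_ne_one hψ) (w := y) fun e => hy1 (congrArg Subtype.val e),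
      h.finsum_orbit ψ y, Int.cast_zero, zero_add]
  rintro ⟨t, ht, htop⟩
  have hset : {χ : IrrCharacter G | χ ∈ (X : Set (IrrCharacter G)) ∧
      (χ : G → ℂ) ≠ fun _ => 1} = ↑(X.erase (oneIrr G)) := by
    ext χ
    simp only [Set.mem_setOf_eq, Finset.coe_erase, Set.mem_diff, Set.mem_singleton_iff]
    exact and_congr_right fun _ => ⟨fun hh e => hh (e ▸ rfl), fun hh e => hh (Subtype.ext e)⟩
  have hcard : Nat.card {χ : IrrCharacter G // χ ∈ (X : Set (IrrCharacter G)) ∧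
      (χ : G → ℂ) ≠ (fun _ => 1) ∧ a χ = -1} =
      (if a c₂ = -1 then 1 else 0) + (if a c₃ = -1 then 1 else 0) := by
    rw [Nat.card_congr (Equiv.subtypeEquivRight (q := fun χ => χ ∈ (X.erase (oneIrr G)).filter
      fun χ => a χ = -1) fun χ => by
        rw [Finset.mem_filter, Finset.mem_erase, Finset.mem_coe]
        exact ⟨fun ⟨h1, h2, h3⟩ => ⟨⟨fun e => h2 (e ▸ rfl), h1⟩, h3⟩,
          fun ⟨⟨h2, h1⟩, h3⟩ => ⟨h1, fun e => h2 (Subtype.ext e), h3⟩⟩),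
      Nat.card_eq_fintype_card, Fintype.card_coe, Finset.card_filter, hpair, Finset.sum_pair h23]
  rcases eq_or_ne p 2 with rfl | hp2
  · obtain ⟨η, hη⟩ := Finset.card_pos.1 (show 0 < Y.card by have := S.two_le; omega)
    exact (S.involution_two hM h hm2 hη hX hne2 hne3 h23 hpm ht htop).elim
  refine ⟨?_, fun η hη => ?_⟩
  · obtain ⟨η, hη⟩ := Finset.card_pos.1 (show 0 < Y.card by have := S.two_le; omega)
    rw [hcard]
    have h1 := (S.involution_odd hM h hp2 hη hX hne2 hne3 h23 hpm ht htop).1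
    omega
  · rw [hset, finprod_mem_coe_finset, hpair, Finset.prod_pair h23]
    exact (S.involution_odd hM h hp2 hη hX hne2 hne3 h23 hpm ht htop).2

end Cfsg.Agent.S4721
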