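import Cfsg.Statements.S4722
import Cfsg.Agent.Lib.Blocks.SecondMain
import Cfsg.Agent.Lib.Blocks.Principal
-- import your own Cfsg.Agent.* helpers here

set_option autoImplicit false
open Cfsg

namespace Cfsg.Agent.S4722

open CfsgLib.Blocks CfsgLib.CharTheory

set_option linter.style.haveILetI false
set_option linter.unusedSimpArgs false

/-- Three linear relations with a single coefficient of one sign force equal ratios. -/
theorem sign_lemma {ι : Type*} (s : Finset ι) (a d v : ι → ℝ) (hd : ∀ i ∈ s, 0 < d i)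
    (h1 : ∑ i ∈ s, a i * d i = 0) (h2 : ∑ i ∈ s, a i * v i = 0)
    (h3 : ∑ i ∈ s, a i * (v i ^ 2 / d i) = 0) {i0 : ι} (hi0 : i0 ∈ s) (ha0 : a i0 ≠ 0)
    (hv0 : v i0 = d i0) (huniq : ∀ i ∈ s, ∀ j ∈ s, 0 < a i → 0 < a j → i = j) :
    ∃ i ∈ s, i ≠ i0 ∧ v i = d i := by
  obtain ⟨ν, hν, haν⟩ : ∃ i ∈ s, 0 < a i := by
    by_contra hno
    push Not at hno
    have hz := (Finset.sum_eq_zero_iff_of_nonpos (fun i hi =>
      mul_nonpos_of_nonpos_of_nonneg (hno i hi) (hd i hi).le)).1 h1 i0 hi0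
    exact ha0 ((mul_eq_zero.1 hz).resolve_right (hd i0 hi0).ne')
  set r := v ν / d ν with hr
  have hsum : ∑ i ∈ s, a i * ((v i - r * d i) ^ 2 / d i) = 0 := by
    have e : ∀ i ∈ s, a i * ((v i - r * d i) ^ 2 / d i) =
        a i * (v i ^ 2 / d i) - 2 * r * (a i * v i) + r ^ 2 * (a i * d i) := by
      intro i hi
      have := (hd i hi).ne'
      field_simp
      ring
    rw [Finset.sum_congr rfl e, Finset.sum_add_distrib, Finset.sum_sub_distrib, ← Finset.mul_sum,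
      ← Finset.mul_sum, h1, h2, h3]
    ring
  have hle : ∀ i ∈ s, a i * ((v i - r * d i) ^ 2 / d i) ≤ 0 := by
    intro i hi
    rcases le_or_gt (a i) 0 with h | h
    · exact mul_nonpos_of_nonpos_of_nonneg h (div_nonneg (sq_nonneg _) (hd i hi).le)
    · obtain rfl := huniq i hi ν hν h haν
      rw [hr, div_mul_cancel₀ _ (hd i hi).ne']
      simp
  have hall : ∀ i ∈ s, a i ≠ 0 → v i = r * d i := by
    intro i hi hai
    have hz := (Finset.sum_eq_zero_iff_of_nonpos hle).1 hsum i hi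
    have hz' := (mul_eq_zero.1 hz).resolve_left hai
    rw [div_eq_zero_iff] at hz'
    have := pow_eq_zero_iff two_ne_zero |>.1 (hz'.resolve_right (hd i hi).ne')
    linarith
  have hr1 : r = 1 := by
    have h := hall i0 hi0 ha0
    rw [hv0] at h
    exact (mul_eq_right₀ (hd i0 hi0).ne').1 h.symm
  by_contra hno
  push Not at hno
  have hz : ∀ i ∈ s, i ≠ i0 → a i = 0 := fun i hi hne => by
    by_contra hai
    exact hno i hi hne (by rw [hall i hi hai, hr1, one_mul])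
  rw [Finset.sum_eq_single i0 (fun i hi hne => by rw [hz i hi hne, zero_mul])
    (fun h => absurd hi0 h)] at h1
  exact mul_ne_zero ha0 (hd i0 hi0).ne' h1


/-- Let M be a maximal ideal of the algebraic integers containing 2, P a 2-subgroup of the finite group G, U a subset of P, and t an involution of G such that no element of U is inverted by any conjugate of t. Let θ be a generalized character of P vanishing outside U, and for χ in the principal 2-block B₀ put a_χ = #P⁻¹ Σ_{y ∈ P} χ(y) θ(y⁻¹). Then Σ_{χ ∈ B₀} a_χ χ(t)^2/χ(1) = 0, Σ_{χ ∈ B₀} a_χ χ(1) = 0 and Σ_{χ ∈ B₀} a_χ χ(t) = 0. If moreover #P⁻¹ Σ_{y ∈ P} θ(y) ≠ 0, then either at least two of the a_χ have positive real part and at least two have negative real part, or G has a proper normal subgroup containing O_2'(G) and t. -/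
theorem result {G : Type*} [Group G] [Finite G] (M : Ideal Cfsg.AlgInt) (hM : Cfsg.IsPModular 2 M) (P : Subgroup G) (hP : IsPGroup 2 P) (U : Set G) (hUP : U ⊆ (P : Set G)) (t : G) (ht : orderOf t = 2) (hinv : ∀ u ∈ U, ∀ g : G, (g * t * g⁻¹) * u * (g * t * g⁻¹)⁻¹ ≠ u⁻¹) (θ : ↥P → ℂ) (hθ : Cfsg.IsGeneralizedCharacter ↥P θ) (hθU : ∀ y : ↥P, (y : G) ∉ U → θ y = 0) : (∑ᶠ χ ∈ Cfsg.principalBlock M G, ((Nat.card ↥P : ℂ)⁻¹ * ∑ᶠ y : ↥P, (χ : G → ℂ) (y : G) * θ y⁻¹) * (χ : G → ℂ) t ^ 2 / (χ : G → ℂ) 1 = 0) ∧ (∑ᶠ χ ∈ Cfsg.principalBlock M G, ((Nat.card ↥P : ℂ)⁻¹ * ∑ᶠ y : ↥P, (χ : G → ℂ) (y : G) * θ y⁻¹) * (χ : G → ℂ) 1 = 0) ∧ (∑ᶠ χ ∈ Cfsg.principalBlock M G, ((Nat.card ↥P : ℂ)⁻¹ * ∑ᶠ y : ↥P, (χ : G → ℂ) (y : G) * θ y⁻¹) * (χ : G → ℂ) t = 0) ∧ ((Nat.card ↥P : ℂ)⁻¹ * ∑ᶠ y : ↥P, θ y ≠ 0 → (2 ≤ Nat.card {χ : Cfsg.IrrCharacter G // χ ∈ Cfsg.principalBlock M G ∧ 0 < (((Nat.card ↥P : ℂ)⁻¹ * ∑ᶠ y : ↥P, (χ : G → ℂ) (y : G) * θ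 y⁻¹)).re} ∧ 2 ≤ Nat.card {χ : Cfsg.IrrCharacter G // χ ∈ Cfsg.principalBlock M G ∧ (((Nat.card ↥P : ℂ)⁻¹ * ∑ᶠ y : ↥P, (χ : G → ℂ) (y : G) * θ y⁻¹)).re < 0}) ∨ ∃ K : Subgroup G, K.Normal ∧ K ≠ ⊤ ∧ Cfsg.pPrimeCore 2 G ≤ K ∧ t ∈ K) := by
  classical
  letI := Fintype.ofFinite G
  haveI := Fintype.ofFinite P
  set B := principalBlock M G with hBdef
  have hB : IsPBlock M B := principalBlock_isPBlock
  have hinvθ : ∀ y : P, θ y⁻¹ = (starRingEnd ℂ) (θ y) := by
    obtain ⟨a, b, ha, hb, rfl⟩ := hθ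
    intro y
    simp only [Pi.sub_apply, char_apply_inv ha, char_apply_inv hb, map_sub]
  have hpel : ∀ g : G, g ∈ P → ∃ k : ℕ, orderOf g = 2 ^ k := by
    intro g hg
    obtain ⟨k, hk⟩ := IsPGroup.iff_card.1 hP
    have hd : orderOf (⟨g, hg⟩ : P) ∣ 2 ^ k := hk ▸ orderOf_dvd_natCard _
    rw [Subgroup.orderOf_mk] at hd
    obtain ⟨j, -, hj⟩ := (Nat.dvd_prime_pow Nat.prime_two).1 hd
    exact ⟨j, hj⟩
  have ht2 : t * t = 1 := by rw [← sq, ← ht, pow_orderOf_eq_one]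
  have htinv : t⁻¹ = t := inv_eq_of_mul_eq_one_right ht2
  have ht1 : IsPPart 2 t t := ⟨1, mul_one t, Commute.one_right t, ⟨1, by rw [ht, pow_one]⟩, by simp⟩
  have h11 : IsPPart 2 (1 : G) 1 := ⟨1, mul_one 1, Commute.one_right 1, ⟨0, by simp⟩, by simp⟩
  have hyy : ∀ y : G, y ∈ P → IsPPart 2 y y := fun y hy =>
    ⟨1, mul_one y, Commute.one_right y, hpel y hy, by simp⟩
  have hUone : ∀ y ∈ U, y ≠ 1 := fun y hy h1 => hinv y hy 1 (by subst h1; group)
  have hUt : ∀ y ∈ U, ¬ IsConj y t := by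
    intro y hy hc
    obtain ⟨g, hg⟩ := isConj_iff.1 hc.symm
    apply hinv y hy g
    rw [hg, mul_inv_cancel_right]
    rw [← hg, show (g * t * g⁻¹)⁻¹ = g * t⁻¹ * g⁻¹ by group, htinv]
  -- the column vanishing
  have hcol : ∀ (X : IrrCharacter G → ℂ),
      (∀ y : G, y ∈ U → y ∈ P → ∑ χ ∈ bset B, (χ : G → ℂ) y * X χ = 0) →
      ∑ χ ∈ bset B, ((Nat.card P : ℂ)⁻¹ * ∑ y : P, (χ : G → ℂ) y * θ y⁻¹) * X χ = 0 := by
    intro X hX
    simp only [Finset.mul_sum, Finset.sum_mul]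
    rw [Finset.sum_comm]
    refine Finset.sum_eq_zero fun y _ => ?_
    by_cases hy : (y : G) ∈ U
    · have e : ∀ χ : IrrCharacter G, (Nat.card P : ℂ)⁻¹ * ((χ : G → ℂ) y * θ y⁻¹) * X χ =
          ((Nat.card P : ℂ)⁻¹ * θ y⁻¹) * ((χ : G → ℂ) y * X χ) := fun χ => by ring
      simp only [e, ← Finset.mul_sum, hX y hy y.2, mul_zero]
    · have h0 : θ y⁻¹ = 0 := by rw [hinvθ, hθU y hy, map_zero]
      simp [h0]
  have hd1 : ∑ χ ∈ bset B, ((Nat.card P : ℂ)⁻¹ * ∑ y : P, (χ : G → ℂ) y * θ y⁻¹) *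
      (χ : G → ℂ) 1 = 0 := by
    refine hcol _ fun y hy hyP => ?_
    have h := block_orth hM hB (hyy y hyP) h11 (fun h => hUone y hy (isConj_one_left.1 h))
    simpa using h
  have hd2 : ∑ χ ∈ bset B, ((Nat.card P : ℂ)⁻¹ * ∑ y : P, (χ : G → ℂ) y * θ y⁻¹) *
      (χ : G → ℂ) t = 0 := by
    refine hcol _ fun y hy hyP => ?_
    have h := block_orth hM hB (hyy y hyP) ht1 (hUt y hy)
    rwa [htinv] at h
  have hd3 : ∑ χ ∈ bset B, ((Nat.card P : ℂ)⁻¹ * ∑ y : P, (χ : G → ℂ) y * θ y⁻¹) *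
      ((χ : G → ℂ) t ^ 2 / (χ : G → ℂ) 1) = 0 := by
    refine hcol _ fun y hy hyP => ?_
    set K : G → ℂ := fun x => if IsConj t x then 1 else 0 with hK
    have hKc : IsClassFunction G K := isClassFunction_classInd t
    set F := conv K K with hF
    have hFz : ∀ g : G, F g ≠ 0 → ∑ χ ∈ bset B, (χ : G → ℂ) y * (χ : G → ℂ) g = 0 := by
      intro g hg
      obtain ⟨a, -, ha⟩ := Finset.exists_ne_zero_of_sum_ne_zero
        (show ∑ x, K x * K (x⁻¹ * g) ≠ 0 from hg)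
      have haK : IsConj t a := by
        by_contra hc; exact ha (by simp only [hK, if_neg hc, zero_mul])
      have hbK : IsConj t (a⁻¹ * g) := by
        by_contra hc; exact ha (by simp only [hK, if_neg hc, mul_zero])
      obtain ⟨c, hc⟩ := isConj_iff.1 haK
      obtain ⟨e, he⟩ := isConj_iff.1 hbK
      have ha2 : a * a = 1 := by
        rw [← hc, show c * t * c⁻¹ * (c * t * c⁻¹) = c * (t * t) * c⁻¹ by group, ht2]; group
      have hb2 : (a⁻¹ * g) * (a⁻¹ * g) = 1 := by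
        rw [← he, show e * t * e⁻¹ * (e * t * e⁻¹) = e * (t * t) * e⁻¹ by group, ht2]; group
      have hainv : a⁻¹ = a := inv_eq_of_mul_eq_one_right ha2
      have hag : a * g * a⁻¹ = g⁻¹ := by
        rw [hainv] at hb2 ⊢
        refine eq_inv_of_mul_eq_one_left ?_
        rw [mul_assoc]; exact hb2
      obtain ⟨z, w, hzw, hcz, hz, hw, -, -⟩ := exists_pPart Nat.prime_two g⁻¹
      have h := block_orth hM hB (g := y) (h := g⁻¹) (hyy y hyP)
        (⟨w, hzw, hcz, hz, hw⟩ : IsPPart 2 g⁻¹ z) (fun hconj => ?_)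
      · rwa [inv_inv] at h
      obtain ⟨d, hd⟩ := isConj_iff.1 hconj
      have hga : a * g⁻¹ * a⁻¹ = g := by
        rw [show a * g⁻¹ * a⁻¹ = (a * g * a⁻¹)⁻¹ by group, hag, inv_inv]
      have hzinv : a * z * a⁻¹ = z⁻¹ := by
        have h1 : a * z * a⁻¹ * (a * w * a⁻¹) = z⁻¹ * w⁻¹ := by
          rw [show a * z * a⁻¹ * (a * w * a⁻¹) = a * (z * w) * a⁻¹ by group, hzw, hga,
            ← mul_inv_rev, ← hcz.eq, hzw, inv_inv]
        have hcm : Commute (a * z * a⁻¹) (a * w * a⁻¹) := hcz.map (MulAut.conj a).toMonoidHom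
        exact (pPart_unique Nat.prime_two hcm hcz.inv_inv
          (hz.imp fun k hk => by rw [conj_orderOf, hk]) (hz.imp fun k hk => by rw [orderOf_inv, hk])
          (by rwa [conj_orderOf]) (by rwa [orderOf_inv]) h1).1
      refine hinv y hy (d⁻¹ * c) ?_
      have hy' : y = d⁻¹ * z * d := by rw [← hd]; group
      rw [hy', show d⁻¹ * c * t * (d⁻¹ * c)⁻¹ = d⁻¹ * (c * t * c⁻¹) * d by group, hc,
        show d⁻¹ * a * d * (d⁻¹ * z * d) * (d⁻¹ * a * d)⁻¹ = d⁻¹ * (a * z * a⁻¹) * d by group, hzinv]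
      group
    set k : ℂ := ((Subgroup.centralizer ({t} : Set G)).index : ℂ)
    have hk : k ≠ 0 := Nat.cast_ne_zero.2 Subgroup.index_ne_zero_of_finite
    have hval : ∀ χ : IrrCharacter G,
        (χ : G → ℂ) t ^ 2 / (χ : G → ℂ) 1 = (k ^ 2)⁻¹ * ∑ g, F g * (χ : G → ℂ) g := by
      intro χ
      have h1 := omega_conv (h := K) hKc χ
      rw [omega_classInd, centralChar, omega] at h1
      have h2 := irr_one_ne_zero χ
      rw [div_eq_iff h2] at h1
      rw [show ∑ g, F g * (χ : G → ℂ) g = _ from h1]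
      simp only [k] at hk ⊢
      field_simp
    simp only [hval, Finset.mul_sum]
    rw [Finset.sum_comm]
    refine Finset.sum_eq_zero fun g _ => ?_
    by_cases hg : F g = 0
    · simp [hg]
    · have e : ∀ χ : IrrCharacter G, (χ : G → ℂ) y * ((k ^ 2)⁻¹ * (F g * (χ : G → ℂ) g)) =
          ((k ^ 2)⁻¹ * F g) * ((χ : G → ℂ) y * (χ : G → ℂ) g) := fun χ => by ring
      simp only [e, ← Finset.mul_sum, hFz g hg, mul_zero]
  simp only [finsum_mem_bset]
  simp only [finsum_eq_sum_of_fintype, mul_div_assoc]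
  refine ⟨hd3, hd1, hd2, fun hne => ?_⟩
  by_contra hnot
  rw [not_or] at hnot
  obtain ⟨hsign, hK⟩ := hnot
  -- reals
  have hareal : ∀ χ : IrrCharacter G, ∃ a : ℝ,
      (Nat.card P : ℂ)⁻¹ * ∑ y : P, (χ : G → ℂ) y * θ y⁻¹ = (a : ℂ) := by
    intro χ
    obtain ⟨u, v, hu, hv, rfl⟩ := hθ
    obtain ⟨m, hm⟩ := classInner_char_nat (isCharacter_restrict (isCharacter_of_irr χ.2) P) hu
    obtain ⟨n, hn⟩ := classInner_char_nat (isCharacter_restrict (isCharacter_of_irr χ.2) P) hv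
    refine ⟨(m : ℝ) - n, ?_⟩
    push_cast
    rw [← hm, ← hn]
    simp only [classInner, Pi.sub_apply, char_apply_inv hu, char_apply_inv hv, mul_sub,
      Finset.sum_sub_distrib]
  choose a ha using hareal
  have hvreal : ∀ χ : IrrCharacter G, ∃ v : ℝ, (χ : G → ℂ) t = (v : ℂ) := by
    intro χ
    refine ⟨((χ : G → ℂ) t).re, (Complex.conj_eq_iff_re.1 ?_).symm⟩
    rw [irr_conjInv, htinv]
  choose v hv using hvreal
  have hdeg : ∀ χ : IrrCharacter G, ∃ d : ℝ, 0 < d ∧ (χ : G → ℂ) 1 = (d : ℂ) := by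
    intro χ
    obtain ⟨d, hd0, hd⟩ := irr_degree_pos χ.2
    exact ⟨d, Nat.cast_pos.2 hd0, by rw [hd, Complex.ofReal_natCast]⟩
  choose d hdpos hd using hdeg
  simp only [ha, hv, hd] at hd1 hd2 hd3
  norm_cast at hd1 hd2 hd3
  simp only [ha, Complex.ofReal_re] at hsign
  have hi0 : oneIrr G ∈ bset B := mem_bset.2 (oneIrr_mem hM)
  have ha0 : a (oneIrr G) ≠ 0 := by
    intro h0
    apply hne
    rw [← Fintype.sum_equiv (Equiv.inv P) (fun y => θ y⁻¹) θ (fun y => rfl)]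
    have := ha (oneIrr G)
    rw [h0, Complex.ofReal_zero] at this
    rw [← this]
    exact congrArg _ (Finset.sum_congr rfl fun y _ => (one_mul (θ y⁻¹)).symm)
  have hvd0 : v (oneIrr G) = d (oneIrr G) := by
    have h1 := hv (oneIrr G)
    have h2 := hd (oneIrr G)
    exact_mod_cast h1.symm.trans h2
  have hcase : (∀ i ∈ bset B, ∀ j ∈ bset B, 0 < a i → 0 < a j → i = j) ∨
      (∀ i ∈ bset B, ∀ j ∈ bset B, a i < 0 → a j < 0 → i = j) := by
    rw [not_and_or, not_le, not_le] at hsign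
    rcases hsign with h | h
    · refine Or.inl fun i hi j hj hai haj => ?_
      haveI := (Finite.card_le_one_iff_subsingleton.1 (Nat.lt_succ_iff.1 h))
      exact congrArg Subtype.val (Subsingleton.elim (⟨i, mem_bset.1 hi, hai⟩ :
        {χ : IrrCharacter G // χ ∈ B ∧ 0 < a χ}) ⟨j, mem_bset.1 hj, haj⟩)
    · refine Or.inr fun i hi j hj hai haj => ?_
      haveI := (Finite.card_le_one_iff_subsingleton.1 (Nat.lt_succ_iff.1 h))
      exact congrArg Subtype.val (Subsingleton.elim (⟨i, mem_bset.1 hi, hai⟩ :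
        {χ : IrrCharacter G // χ ∈ B ∧ a χ < 0}) ⟨j, mem_bset.1 hj, haj⟩)
  obtain ⟨χ, hχ, hne0, hvd⟩ : ∃ χ ∈ bset B, χ ≠ oneIrr G ∧ v χ = d χ := by
    rcases hcase with h | h
    · exact sign_lemma (bset B) a d v (fun i _ => hdpos i) hd1 hd2 hd3 hi0 ha0 hvd0 h
    · exact sign_lemma (bset B) (fun i => -a i) d v (fun i _ => hdpos i)
        (by simp only [neg_mul, Finset.sum_neg_distrib, hd1, neg_zero])
        (by simp only [neg_mul, Finset.sum_neg_distrib, hd2, neg_zero])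
        (by simp only [neg_mul, Finset.sum_neg_distrib, hd3, neg_zero]) hi0 (neg_ne_zero.2 ha0) hvd0
        (fun i hi j hj hai haj => h i hi j hj (neg_pos.1 hai) (neg_pos.1 haj))
  apply hK
  have hχc := isCharacter_of_irr χ.2
  refine ⟨charKernel (χ : G → ℂ) hχc, inferInstance, fun htop => hne0 ?_, fun n hn => ?_, ?_⟩
  · refine Subtype.ext (funext fun g => ?_)
    have hall : ∀ g, (χ : G → ℂ) g = (χ : G → ℂ) 1 := fun g =>
      (mem_charKernel hχc g).1 (by rw [htop]; trivial)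
    have hn := classInner_irr_self χ.2
    rw [classInner] at hn
    simp only [hall, Finset.sum_const, Finset.card_univ, nsmul_eq_mul, ← Nat.card_eq_fintype_card,
      irr_one_conj] at hn
    have hG0 : (Nat.card G : ℂ) ≠ 0 := Nat.cast_ne_zero.2 Nat.card_pos.ne'
    rw [inv_mul_cancel_left₀ hG0] at hn
    show _ = (1 : ℂ)
    rw [hall g]
    obtain ⟨e, he0, he⟩ := irr_degree_pos χ.2
    rw [he] at hn ⊢
    have : e * e = 1 := by exact_mod_cast hn
    rw [Nat.eq_one_of_mul_eq_one_left this, Nat.cast_one]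
  · exact (mem_charKernel hχc n).2 (principal_kernel hM (fun h => (Nat.prime_two.coprime_iff_not_dvd.1
      (CfsgLib.card_pPrimeCore_coprime (G := G) 2).symm) h) (mem_bset.1 hχ) hn)
  · rw [mem_charKernel, hv, hd, hvd]

end Cfsg.Agent.S4722
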