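import Cfsg.Statements.S4723
import Cfsg.Agent.Lib.Blocks.InvariantHeightZero

set_option autoImplicit false
open Cfsg CfsgLib.CharTheory CfsgLib.Blocks
open scoped ComplexConjugate

set_option linter.unusedVariables false

namespace Cfsg.Agent.S4723

/-- Let p be a prime, M a maximal ideal of the algebraic integers containing p, H a normal subgroup of the finite group G and b a p-block of H. Let T be the stabilizer of b in G. Then b contains a character θ of height zero whose own stabilizer in G (the elements g with θ(g h g⁻¹) = θ(h) for all h ∈ H) has index prime to p in T, i.e. contains a Sylow p-subgroup of T. -/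
theorem result {G : Type*} [Group G] [Finite G] (p : ℕ) [Fact p.Prime] (M : Ideal Cfsg.AlgInt) (hM : Cfsg.IsPModular p M) (H : Subgroup G) [H.Normal] (b : Set (Cfsg.IrrCharacter ↥H)) (hb : Cfsg.IsPBlock M b) (T : Subgroup G) (hT : (∀ g : G, g ∈ T ↔ ∀ θ ∈ b, ∀ θ' : Cfsg.IrrCharacter ↥H, (∀ h h' : ↥H, (h' : G) = g * h * g⁻¹ → (θ' : ↥H → ℂ) h' = (θ : ↥H → ℂ) h) → θ' ∈ b)) : ∃ θ ∈ b, Cfsg.blockHeight p b (θ : ↥H → ℂ) = 0 ∧ ∃ S : Subgroup G, S ≤ T ∧ (∀ g : G, g ∈ S ↔ (g ∈ T ∧ ∀ h h' : ↥H, (h' : G) = g * h * g⁻¹ → (θ : ↥H → ℂ) h' = (θ : ↥H → ℂ) h)) ∧ ¬ p ∣ S.relIndex T := by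
  classical
  haveI := Fintype.ofFinite G
  haveI := Fintype.ofFinite H
  obtain ⟨P⟩ : Nonempty (Sylow p T) := inferInstance
  set R := (P : Subgroup T).map T.subtype with hRdef
  have hRT : R ≤ T := Subgroup.map_subtype_le _
  have hst : ∀ r ∈ R, StabilizesBlock H b r := fun r hr => by
    refine ⟨mem_normalizer_normal r, fun χ hχ => ?_⟩
    have hc : IsConjCharOf H r (χ : H → ℂ) (irrPull (conjE (mem_normalizer_normal (N := H) r)) χ : H → ℂ) := by
      intro k k' hk
      rw [irrPull_apply]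
      refine congrArg _ (Subtype.ext ?_)
      show r⁻¹ * (k' : G) * r = k
      rw [hk]; group
    exact ⟨_, (hT r).1 (hRT hr) χ hχ _ hc, hc⟩
  obtain ⟨θ, hθ, hh, hfix⟩ := InvariantHeightZero.exists_invariant_height_zero hM hb
    (P.2.map T.subtype) hst
  set I : Subgroup G := inertia H (θ : H → ℂ) with hI
  have hmem : ∀ g : G, g ∈ I ↔ ∀ h h' : H, (h' : G) = g * h * g⁻¹ →
      (θ : H → ℂ) h' = (θ : H → ℂ) h := by
    intro g
    constructor
    · intro hg h h' e
      rw [show h' = ⟨g * h * g⁻¹, (‹H.Normal›).conj_mem h h.2 g⟩ from Subtype.ext e]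
      exact congrFun (show conjNormFun H g (θ : H → ℂ) = θ from hg) h
    · exact fun hg => funext fun h => hg h _ rfl
  refine ⟨θ, hθ, (height_zero_iff hθ).2 hh, T ⊓ I, inf_le_left, fun g => ?_, fun hd => ?_⟩
  · rw [Subgroup.mem_inf, hmem]
  have hle : R ≤ T ⊓ I := by
    refine le_inf hRT fun r hr => (hmem r).2 fun h h' e => ?_
    have h1 := congrArg (fun φ : IrrCharacter H => (φ : H → ℂ) h') (hfix r hr)
    simp only [irrPull_apply] at h1
    rw [← h1]
    refine congrArg _ (Subtype.ext ?_)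
    show r⁻¹ * (h' : G) * r = h
    rw [e]; group
  have h1 : R.relIndex T = (P : Subgroup T).index := by
    rw [Subgroup.relIndex, hRdef]
    exact congrArg Subgroup.index (Subgroup.comap_map_eq_self_of_injective T.subtype_injective _)
  exact P.not_dvd_index (h1 ▸ hd.trans (Dvd.intro_left _ (Subgroup.relIndex_mul_relIndex R (T ⊓ I) T hle inf_le_left)))

end Cfsg.Agent.S4723
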