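import Cfsg.Statements.S4725
import Cfsg.Agent.Lib.Blocks.RegularParts

set_option autoImplicit false
open Cfsg CfsgLib.CharTheory CfsgLib.Blocks CfsgLib.Blocks.RegularParts
open scoped ComplexConjugate

set_option linter.unusedVariables false

namespace Cfsg.Agent.S4725

/-- Let p be a prime, M a maximal ideal of the algebraic integers containing p, H a subgroup of the finite group G, and b a p-block of H inducing the p-block B of G, with b and B of the same defect. Then for every height-zero ζ ∈ b there is a height-zero χ ∈ B whose multiplicity in the character induced from ζ is not divisible by p. -/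
theorem result {G : Type*} [Group G] [Fintype G] (p : ℕ) [Fact p.Prime] (M : Ideal Cfsg.AlgInt) (hM : Cfsg.IsPModular p M) (H : Subgroup G) (b : Set (Cfsg.IrrCharacter ↥H)) (B : Set (Cfsg.IrrCharacter G)) (hind : Cfsg.IsInducedBlock M H b B) (hdef : Cfsg.blockDefect p b = Cfsg.blockDefect p B) (ζ : Cfsg.IrrCharacter ↥H) (hζ : ζ ∈ b) (hζ0 : Cfsg.blockHeight p b (ζ : ↥H → ℂ) = 0) : ∃ χ ∈ B, Cfsg.blockHeight p B (χ : G → ℂ) = 0 ∧ ∃ a : ℕ, Cfsg.classInner (Cfsg.indFun H (ζ : ↥H → ℂ)) (χ : G → ℂ) = (a : ℂ) ∧ ¬ p ∣ a := by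
  classical
  haveI := Fintype.ofFinite H
  have hp := (Fact.out : p.Prime)
  obtain ⟨⟨n, hn, hn0, hval⟩, -⟩ := blockPart_degree hM H hind hζ
  have hchar : IsCharacter G (Cfsg.indFun H (ζ : H → ℂ)) := isCharacter_indFun H (isCharacter_of_irr ζ.2)
  choose f hf using fun χ : IrrCharacter G => classInner_char_nat hchar (isCharacter_of_irr χ.2)
  have hn' : n = ∑ χ ∈ bset B, f χ * Cfsg.charDegree (χ : G → ℂ) := by
    have : (n : ℂ) = ((∑ χ ∈ bset B, f χ * Cfsg.charDegree (χ : G → ℂ) : ℕ) : ℂ) := by
      rw [← hn, blockPart, finsum_mem_bset]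
      push_cast
      exact Finset.sum_congr rfl fun χ _ => by rw [classInner_congr_inst, hf, irr_charDegree_cast]
    exact_mod_cast this
  have hdeg : Cfsg.charDegree (Cfsg.indFun H (ζ : H → ℂ)) = H.index * Cfsg.charDegree (ζ : H → ℂ) := by
    rw [Cfsg.charDegree, indFun_apply_one, ← irr_charDegree_cast ζ, ← Nat.cast_mul]; simp only [Complex.natCast_re, Nat.floor_natCast]
  have hv : n.factorization p = minDv p B := by
    rw [hval, hdeg, Nat.factorization_mul Subgroup.index_ne_zero_of_finite (irr_charDegree_pos ζ).ne',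
      Finsupp.add_apply]
    have h1 := factorization_index_add (G := G) p H
    have h2 := blockDefect_eq (G := G) p B
    have h3 := blockDefect_eq (G := H) p b
    have h4 : dv p (ζ : H → ℂ) = minDv p b := (height_zero_iff hζ).1 hζ0
    have h5 := minDv_le_card hM hind.1
    have h6 := minDv_le_card hM hind.2.1
    show _ + dv p (ζ : H → ℂ) = _
    omega
  by_contra hno
  push Not at hno
  have hdvd : p ^ (minDv p B + 1) ∣ n := by
    rw [hn']
    refine Finset.dvd_sum fun χ hχ => ?_
    have hd : p ^ dv p (χ : G → ℂ) ∣ Cfsg.charDegree (χ : G → ℂ) := Nat.ordProj_dvd _ p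
    rcases Nat.eq_or_lt_of_le (minDv_le (p := p) (mem_bset.1 hχ)) with h | h
    · rw [pow_succ', h]
      exact mul_dvd_mul (hno χ (mem_bset.1 hχ) ((height_zero_iff (mem_bset.1 hχ)).2 h.symm) (f χ) (hf χ)) hd
    · exact ((pow_dvd_pow p h).trans hd).trans (dvd_mul_left _ _)
  rw [hp.pow_dvd_iff_le_factorization hn0] at hdvd
  omega

end Cfsg.Agent.S4725
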