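import Cfsg.Statements.S4726
import Cfsg.Agent.Lib.Blocks.Induced
import Cfsg.Agent.Lib.Blocks.LocalBlocks
import Cfsg.Agent.Lib.Blocks.BlockBasics

set_option autoImplicit false
open Cfsg CfsgLib.CharTheory CfsgLib.Blocks
open scoped ComplexConjugate

set_option linter.unusedVariables false

namespace Cfsg.Agent.S4726

/-- Let p be a prime, M a maximal ideal of the algebraic integers containing p, H a subgroup of the finite group G and b a p-block of H with defect group D₀ such that C_G(D₀) ≤ H. Then b induces a block of G, and for every block B of G induced by b there is a defect group D of B with Z(D) ≤ Z(D₀) ≤ D₀ ≤ D (as subgroups of G). In particular, if the defect groups of B are abelian then D₀ is a defect group of B. -/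
theorem result {G : Type*} [Group G] [Finite G] (p : ℕ) [Fact p.Prime] (M : Ideal Cfsg.AlgInt) (hM : Cfsg.IsPModular p M) (H : Subgroup G) (b : Set (Cfsg.IrrCharacter ↥H)) (hb : Cfsg.IsPBlock M b) (D₀ : Subgroup ↥H) (hD₀ : Cfsg.IsDefectGroup p M b D₀) (hC : Subgroup.centralizer ((D₀.map H.subtype : Subgroup G) : Set G) ≤ H) : Cfsg.InducedBlockDefined M H b ∧ ∀ B : Set (Cfsg.IrrCharacter G), Cfsg.IsInducedBlock M H b B → (∃ D : Subgroup G, Cfsg.IsDefectGroup p M B D ∧ (Subgroup.center ↥D).map D.subtype ≤ ((Subgroup.center ↥D₀).map D₀.subtype).map H.subtype ∧ ((Subgroup.center ↥D₀).map D₀.subtype).map H.subtype ≤ D₀.map H.subtype ∧ D₀.map H.subtype ≤ D) ∧ (∀ D : Subgroup G, Cfsg.IsDefectGroup p M B D → IsMulCommutative ↥D → Cfsg.IsDefectGroup p M B (D₀.map H.subtype)) := by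
  classical
  haveI := Fintype.ofFinite G
  haveI := Fintype.ofFinite H
  haveI := res_isDomain hM
  haveI : Fact p.Prime := ⟨hM.1⟩
  have hDp := defectGroup_isPGroup hD₀
  obtain ⟨e, hmax⟩ := exists_maximal_at hM hb hD₀
  haveI := Fintype.ofFinite (Subgroup.centralizer (D₀ : Set H))
  obtain ⟨η, hη⟩ := bne hM hmax.1.1.2
  obtain ⟨ψ, hψ⟩ := exists_lam_irr hM hDp η
  have hψb := lam_irr_mem hM hb hψ (pairOf_lam hM hmax.1 hη)
  set Q := D₀.map H.subtype with hQ
  have hQp : IsPGroup p Q := hDp.map _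
  set f := irrPull (upE D₀ hC) '' e with hf
  have hfb : IsPBlock M f := isPBlock_image _ hmax.1.1.2
  obtain ⟨φ, hφ⟩ := exists_lam_irr hM hQp (irrPull (upE D₀ hC) η)
  have hkey : ∀ β : G → ℂ, IsClassFunction G β → (∀ x, MemLocalRing M (β x)) →
      res hM (omega (φ : G → ℂ) β) = res hM (omega (ψ : H → ℂ) (fun h : H => β h)) := by
    intro β hβ hβm
    rw [← hφ β hβ hβm, ← hψ (fun h : H => β h) (fun a b => hβ (a : G) (b : G)) fun k => hβm _]
    simp only [lam]
    rw [brauerOmega_up]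
  have hcong : ∀ g, MemLocalIdeal M
      (inducedCentralChar H (ψ : H → ℂ) g - centralChar (φ : G → ℂ) g) := by
    intro g
    rw [memIdeal_sub_iff hM (memRing_inducedCentralChar H hM ψ g)
      (show MemLocalRing M (centralChar (φ : G → ℂ) g) from memRing_clv hM g φ),
      ← omega_restrict_classInd H g (ψ : H → ℂ), ← omega_classInd g φ]
    exact (hkey _ (isClassFunction_classInd g) (memRing_classInd hM g)).symm
  have hB₀ : IsPBlock M (blockOf M (φ : G → ℂ)) := blockOf_isPBlock φ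
  have hind := isInducedBlock_of_congr H hM hb hB₀ hψb (mem_blockOf_self hM φ) hcong
  refine ⟨⟨_, hind⟩, fun B hB => ?_⟩
  obtain rfl := isInducedBlock_unique hM hB hind
  have hpair : IsBrauerPairOf p M (blockOf M (φ : G → ℂ)) Q f := by
    refine pairOf_of_lam hM hQp hfb ⟨η, hη, rfl⟩ hB₀ ?_
    rw [hφ _ (blockCoeff_isClassFunction _) (memRing_blockCoeff hM hB₀), ← cf_ind, omega_cf,
      ind_of_mem (mem_blockOf_self hM φ), res_one]
  obtain ⟨⟨P, g⟩, hle, hPmax⟩ := exists_maximal_ge hM ⟨Q, f⟩ hpair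
  obtain ⟨x, hxle, hcard⟩ := exists_conj_centP hM hPmax hfb hle
  -- the defect group of the local block
  have hcardZ : p ^ blockDefect p f = Nat.card (D₀ ⊓ Subgroup.centralizer (D₀ : Set H) : Subgroup H) := by
    have hrefl : SubpairLE p M D₀ e D₀ e := Relation.ReflTransGen.refl
    obtain ⟨y, hyle, hy⟩ := exists_conj_centP hM hmax hmax.1.1.2 hrefl
    have heq : D₀.map (MulAut.conj y).toMonoidHom = D₀ :=
      Subgroup.eq_of_le_of_card_ge (subpairLE_le (a := ⟨_, _⟩) (b := ⟨D₀, e⟩) hyle)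
        (le_of_eq (card_map_conj D₀ y).symm)
    rw [heq] at hy
    rw [hf, blockDefect_image, hy]
  set D := P.map (MulAut.conj x⁻¹).toMonoidHom with hD
  have hDdef : IsDefectGroup p M (blockOf M (φ : G → ℂ)) D :=
    isDefectGroup_conj (maximal_isDefectGroup hM hPmax) x⁻¹
  have hQD : Q ≤ D := by
    intro z hz
    rw [hD, conjMap_mem_iff, inv_inv]
    refine subpairLE_le (a := ⟨_, _⟩) (b := ⟨P, g⟩) hxle ?_
    rw [conjMap_mem_iff, show x⁻¹ * (x * z * x⁻¹) * x = z by group]
    exact hz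
  have hDC : D ⊓ Subgroup.centralizer (Q : Set G) = (D₀ ⊓ Subgroup.centralizer (D₀ : Set H)).map H.subtype := by
    refine (Subgroup.eq_of_le_of_card_ge (le_inf ((Subgroup.map_mono inf_le_left).trans hQD) ?_)
      (le_of_eq ?_)).symm
    · rintro _ ⟨d, hd, rfl⟩
      exact (mem_cent_map_iff D₀ d).2 hd.2
    · rw [Subgroup.card_map_of_injective H.subtype_injective, ← hcardZ, hcard,
        ← card_map_conj (D ⊓ Subgroup.centralizer (Q : Set G)) x]
      congr 2
      ext z
      rw [Subgroup.mem_inf, conjMap_mem_iff, Subgroup.mem_inf, conj_mem_cent_iff, hD,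
        conjMap_mem_iff, inv_inv, show x * (x⁻¹ * z * x) * x⁻¹ = z by group]
  have hcen : (Subgroup.center D).map D.subtype ≤
      ((Subgroup.center ↥D₀).map D₀.subtype).map H.subtype := by
    rintro _ ⟨z, hz, rfl⟩
    have hzm : (z : G) ∈ (D₀ ⊓ Subgroup.centralizer (D₀ : Set H)).map H.subtype := by
      rw [← hDC]
      refine ⟨z.2, fun q hq => ?_⟩
      exact congrArg Subtype.val (Subgroup.mem_center_iff.1 hz ⟨q, hQD hq⟩)
    obtain ⟨d, ⟨hd1, hd2⟩, hdz⟩ := hzm
    exact ⟨d, ⟨⟨d, hd1⟩, Subgroup.mem_center_iff.2 fun w => Subtype.ext (hd2 _ w.2), rfl⟩, hdz⟩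
  refine ⟨⟨D, hDdef, hcen, Subgroup.map_mono (Subgroup.map_subtype_le _), hQD⟩, fun D' hD' hab => ?_⟩
  have habD : IsMulCommutative D := by
    obtain ⟨y, hy⟩ := defectGroup_conjugate hM hB₀ hD' hDdef
    rw [← hy]
    infer_instance
  have : D = Q := by
    refine le_antisymm (fun z hz => ?_) hQD
    have h1 : (z : G) ∈ ((Subgroup.center ↥D₀).map D₀.subtype).map H.subtype :=
      hcen ⟨⟨z, hz⟩, Subgroup.mem_center_iff.2 fun w => habD.is_comm.comm _ _, rfl⟩
    obtain ⟨d, hd, rfl⟩ := h1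
    exact ⟨d, Subgroup.map_subtype_le _ hd, rfl⟩
  exact this ▸ hDdef

end Cfsg.Agent.S4726
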