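import Cfsg.Statements.S4730
import Cfsg.Agent.Lib.Blocks.Proj
import Cfsg.Agent.Lib.CharTheory.Burnside
import Cfsg.Agent.Lib.CharTheory.Coherence

set_option autoImplicit false
open Cfsg CfsgLib.CharTheory CfsgLib.Blocks
open scoped ComplexConjugate

set_option linter.unusedVariables false

namespace Cfsg.Agent.S4730

/-- Let p be a prime, M a maximal ideal of the algebraic integers containing p, and G a finite group with trivial centre, Sylow p-subgroup P of order p^a and centre Z(P) of order p^b. If χ is a faithful irreducible character of G whose degree is a power of p, then the p-block of χ has defect at most a − b; in particular, if P is abelian then χ lies in a block of defect zero. -/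
theorem result {G : Type*} [Group G] [Finite G] (p : ℕ) [Fact p.Prime] (M : Ideal Cfsg.AlgInt) (hM : Cfsg.IsPModular p M) (hZ : Subgroup.center G = ⊥) (P : Sylow p G) (a b : ℕ) (ha : Nat.card P = p ^ a) (hb : Nat.card (Subgroup.center ↥(P : Subgroup G)) = p ^ b) (χ : Cfsg.IrrCharacter G) (hfaith : ∀ g : G, (χ : G → ℂ) g = (χ : G → ℂ) 1 → g = 1) (n : ℕ) (hdeg : Cfsg.charDegree (χ : G → ℂ) = p ^ n) : Cfsg.blockDefect p (Cfsg.blockOf M (χ : G → ℂ)) ≤ a - b ∧ (IsMulCommutative ↥(P : Subgroup G) → Cfsg.blockDefect p (Cfsg.blockOf M (χ : G → ℂ)) = 0) := by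
  classical
  haveI := Fintype.ofFinite G
  haveI := res_isDomain hM
  haveI := res_charP hM
  have hp := (Fact.out : p.Prime)
  have haG : (Nat.card G).factorization p = a :=
    Nat.pow_right_injective hp.two_le ((Sylow.card_eq_multiplicity P).symm.trans ha)
  set Z := (Subgroup.center (P : Subgroup G)).map (P : Subgroup G).subtype with hZdef
  haveI := Fintype.ofFinite Z
  have hZcard : Nat.card Z = p ^ b := by
    rw [hZdef, Subgroup.card_map_of_injective (Subgroup.subtype_injective _), hb]
  have hvan : ∀ z ∈ Z, z ≠ 1 → ¬ p ∣ (Subgroup.centralizer ({z} : Set G)).index ∧ (χ : G → ℂ) z = 0 := by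
    rintro _ ⟨w, hw, rfl⟩ hz1
    have hPC : (P : Subgroup G) ≤ Subgroup.centralizer ({((P : Subgroup G).subtype w)} : Set G) := fun u hu =>
      Subgroup.mem_centralizer_singleton_iff.2
        (congrArg Subtype.val (Subgroup.mem_center_iff.1 hw ⟨u, hu⟩))
    have hidx : ¬ p ∣ (Subgroup.centralizer ({((P : Subgroup G).subtype w)} : Set G)).index := fun h =>
      P.not_dvd_index (h.trans (Subgroup.index_dvd_of_le hPC))
    refine ⟨hidx, ?_⟩
    obtain ⟨χ, hirr⟩ := χ
    obtain ⟨m, ρ, hρ, rfl⟩ := hirr
    by_contra hne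
    change ρ.character _ ≠ 0 at hne
    have hm : Module.finrank ℂ (Fin m → ℂ) = p ^ n := by
      rw [← hdeg]
      have h1 := irr_charDegree_cast (⟨_, m, ρ, hρ, rfl⟩ : IrrCharacter G)
      have h2 : ρ.character 1 = (Module.finrank ℂ (Fin m → ℂ) : ℂ) := ρ.char_one
      exact_mod_cast (h1.trans h2).symm
    have hcop : Nat.Coprime (Module.finrank ℂ (Fin m → ℂ))
        (Subgroup.centralizer ({((P : Subgroup G).subtype w)} : Set G)).index := by
      rw [hm]; exact Nat.Coprime.pow_left n (hp.coprime_iff_not_dvd.2 hidx)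
    obtain ⟨ω, hω⟩ := (norm_character_eq_iff ρ _).mp ((zero_or_norm_of_coprime ρ _ hcop).resolve_left hne)
    have hinj : Function.Injective ρ := (MonoidHom.ker_eq_bot_iff ρ).1 ((Subgroup.eq_bot_iff_forall _).2
      fun x hx => hfaith x (by
        show ρ.character x = ρ.character 1
        simp [Representation.character, MonoidHom.mem_ker.1 hx]))
    have hzc : ((P : Subgroup G).subtype w) ∈ Subgroup.center G := by
      refine Subgroup.mem_center_iff.mpr fun x => hinj ?_
      rw [map_mul, map_mul, hω, ← Module.End.one_eq_id, mul_smul_comm, smul_mul_assoc, mul_one, one_mul]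
    rw [hZ, Subgroup.mem_bot] at hzc
    exact hz1 hzc
  have hB : IsPBlock M (blockOf M (χ : G → ℂ)) := blockOf_isPBlock χ
  have hmain : b ≤ minDv p (blockOf M (χ : G → ℂ)) := by
    obtain ⟨θ, hθ, hθ0⟩ := exists_height_zero hM hB
    rw [← hθ0]
    by_contra hlt
    push Not at hlt
    obtain ⟨N, hN⟩ := classInner_genChar_int
      (isGenChar_of_char (isCharacter_restrict (isCharacter_of_irr θ.2) Z))
      (isGenChar_of_char (isCharacter_one (G := Z)))
    -- the correcting unit
    set f : Z → ℂ := fun z => if z = 1 then 1 else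
      clv (z : G) θ * ((Subgroup.centralizer ({(z : G)} : Set G)).index : ℂ)⁻¹ with hf
    have hfm : ∀ z, MemLocalRing M (f z) := fun z => by
      simp only [hf]; split_ifs with h
      · exact (loc hM).one_mem
      · exact (loc hM).mul_mem (memRing_clv hM _ θ)
          (natCast_inv_mem hM (hvan z z.2 fun e => h (Subtype.ext e)).1)
    have hfr : ∀ z, z ≠ 1 → res hM (f z) = 0 := fun z h => by
      obtain ⟨hi, hz0⟩ := hvan z z.2 fun e => h (Subtype.ext e)
      have h1 : res hM (clv (z : G) θ) = 0 := by
        rw [← (sameBlock_iff_res hM χ θ).1 hθ (z : G),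
          show clv (z : G) χ = 0 by rw [clv, centralChar, hz0, mul_zero, zero_div], res_zero]
      simp only [hf, if_neg h]
      rw [res_mul hM (memRing_clv hM _ θ) (natCast_inv_mem hM hi), h1, zero_mul]
    have hθf : ∀ z : Z, (θ : G → ℂ) z = (θ : G → ℂ) 1 * f z := fun z => by
      simp only [hf]; split_ifs with h
      · subst h; simp
      · have hi := (Nat.cast_ne_zero (R := ℂ)).2 (Subgroup.index_ne_zero_of_finite
          (H := Subgroup.centralizer ({(z : G)} : Set G)))
        rw [clv, centralChar]
        field_simp [irr_one_ne_zero θ]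
    have hne : ((Nat.card Z : ℕ) : ℂ) ≠ 0 := Nat.cast_ne_zero.2 Nat.card_pos.ne'
    have hsum : (θ : G → ℂ) 1 * ∑ z : Z, f z = (Nat.card Z : ℂ) * (N : ℂ) := by
      rw [← hN, classInner, ← mul_assoc, mul_inv_cancel₀ hne, one_mul, Finset.mul_sum]
      exact Finset.sum_congr rfl fun z _ => by rw [← hθf z]; simp
    have hd := natDiv_mem_loc hM (p := p) (n := Nat.card Z) (m := Cfsg.charDegree (θ : G → ℂ))
      Nat.card_pos.ne' (irr_charDegree_pos θ).ne' (by
        rw [hZcard, hp.factorization_pow, Finsupp.single_eq_same]; exact hlt.le)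
    have h1 : ∑ z : Z, f z = (Nat.card Z : ℂ) / (Cfsg.charDegree (θ : G → ℂ) : ℂ) * (N : ℂ) := by
      rw [irr_charDegree_cast θ, div_mul_eq_mul_div, eq_div_iff (irr_one_ne_zero θ), ← hsum]
      ring
    have h2 := congrArg (res hM) h1
    rw [res_sum hM fun z _ => hfm z, Finset.sum_eq_single (1 : Z) (fun z _ h => hfr z h) (by simp),
      show f 1 = 1 from if_pos rfl, res_one, res_mul hM hd.1 (memRing_intCast hM N),
      (res_eq_zero_iff hM hd.1).2 (hd.2.1 (by
        rw [hZcard, hp.factorization_pow, Finsupp.single_eq_same]; exact hlt)), zero_mul] at h2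
    exact one_ne_zero h2
  have hd := blockDefect_eq (G := G) p (blockOf M (χ : G → ℂ))
  rw [haG] at hd
  refine ⟨by omega, fun hcomm => ?_⟩
  have hab : b = a := by
    refine Nat.pow_right_injective hp.two_le ?_
    show p ^ b = p ^ a
    rw [← ha, ← hb]
    have htop : Subgroup.center (P : Subgroup G) = ⊤ := eq_top_iff.2 fun x _ =>
      Subgroup.mem_center_iff.2 fun y => hcomm.is_comm.comm y x
    rw [htop, Subgroup.card_top]
  omega

end Cfsg.Agent.S4730
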