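import Cfsg.Statements.S4731
import Cfsg.Agent.Lib.Blocks.Orth
import Cfsg.Agent.Lib.CharTheory.Coherence

set_option autoImplicit false
open Cfsg CfsgLib.CharTheory CfsgLib.Blocks
open scoped ComplexConjugate

set_option linter.unusedVariables false

namespace Cfsg.Agent.S4731

/-- Let p ≠ q be primes, M_p and M_q maximal ideals of the algebraic integers containing p and q respectively, and G a finite group with no element of order pq; let q^b be the q-part of the order of G. For a p-block B_p (relative to M_p), a q-block B_q (relative to M_q) and a p-singular element y, the sum of χ(1)χ(y) over the irreducible characters χ lying in both B_p and B_q is q^b times an algebraic integer. -/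
theorem result {G : Type*} [Group G] [Finite G] (p q : ℕ) [Fact p.Prime] [Fact q.Prime] (hpq : p ≠ q) (Mp Mq : Ideal Cfsg.AlgInt) (hMp : Cfsg.IsPModular p Mp) (hMq : Cfsg.IsPModular q Mq) (hno : ∀ g : G, orderOf g ≠ p * q) (b : ℕ) (hb : (Nat.card G).factorization q = b) (Bp : Set (Cfsg.IrrCharacter G)) (hBp : Cfsg.IsPBlock Mp Bp) (Bq : Set (Cfsg.IrrCharacter G)) (hBq : Cfsg.IsPBlock Mq Bq) (y : G) (hy : p ∣ orderOf y) : ∃ ω : Cfsg.AlgInt, ∑ᶠ χ ∈ Bp ∩ Bq, (Cfsg.charDegree (χ : G → ℂ) : ℂ) * (χ : G → ℂ) y = (q : ℂ) ^ b * (ω : ℂ) := by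
  classical
  haveI := Fintype.ofFinite G
  have hp := (Fact.out : p.Prime)
  have hq := (Fact.out : q.Prime)
  have hnot : ∀ g : G, p ∣ orderOf g → q ∣ orderOf g → False := by
    intro g h1 h2
    have h3 : p * q ∣ orderOf g := ((Nat.coprime_primes hp hq).2 hpq).mul_dvd_of_dvd_of_dvd h1 h2
    refine hno (g ^ (orderOf g / (p * q))) ?_
    rw [orderOf_pow' g (Nat.div_pos (Nat.le_of_dvd (orderOf_pos g) h3) (Nat.pos_of_ne_zero (Nat.mul_ne_zero hp.ne_zero hq.ne_zero))).ne',
      Nat.gcd_eq_right (Nat.div_dvd_of_dvd h3), Nat.div_div_self h3 (orderOf_pos g).ne']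
  set φ : G → ℂ := ∑ χ ∈ bset Bp, (χ : G → ℂ) y • (χ : G → ℂ) with hφdef
  have hφ0 : ∀ g : G, ¬ p ∣ orderOf g → φ g = 0 := by
    intro g hg
    simp only [hφdef, Finset.sum_apply, Pi.smul_apply, smul_eq_mul]
    rw [Finset.sum_congr rfl fun (χ : IrrCharacter G) _ => mul_comm ((χ : G → ℂ) y) _]
    exact weak_orth hMp hBp hg hy
  have hcoef : ∀ ψ : IrrCharacter G, classInner φ (ψ : G → ℂ) = if ψ ∈ Bp then (ψ : G → ℂ) y else 0 := by
    intro ψ
    rw [hφdef, classInner_sum_left]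
    by_cases h : ψ ∈ Bp
    · rw [if_pos h, Finset.sum_eq_single ψ]
      · rw [classInner_smul_left, classInner_irr_self ψ.2, mul_one]
      · intro χ _ hne
        rw [classInner_smul_left, classInner_irr_ne χ.2 ψ.2 fun e => hne (Subtype.ext e), mul_zero]
      · exact fun h' => absurd (mem_bset.2 h) h'
    · rw [if_neg h]
      refine Finset.sum_eq_zero fun χ hχ => ?_
      rw [classInner_smul_left, classInner_irr_ne χ.2 ψ.2 fun e => h ((Subtype.ext e : χ = ψ) ▸ mem_bset.1 hχ), mul_zero]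
  have hS : ∀ z : G, q ∣ orderOf z →
      ∑ χ ∈ bset (Bp ∩ Bq), (χ : G → ℂ) y * (χ : G → ℂ) z = 0 := by
    intro z hz
    have e : ∑ χ ∈ bset (Bp ∩ Bq), (χ : G → ℂ) y * (χ : G → ℂ) z =
        ∑ χ ∈ bset Bq, classInner φ (χ : G → ℂ) * (χ : G → ℂ) z := by
      simp only [hcoef, ite_mul, zero_mul]
      rw [← Finset.sum_filter]
      refine Finset.sum_congr ?_ fun _ _ => rfl
      ext χ; simp [mem_bset, and_comm]
    rw [e]
    simp only [classInner, Finset.mul_sum, Finset.sum_mul]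
    rw [Finset.sum_comm]
    refine Finset.sum_eq_zero fun g _ => ?_
    by_cases hg : p ∣ orderOf g
    · rw [Finset.sum_congr rfl fun (χ : IrrCharacter G) _ => show ((Nat.card G : ℂ)⁻¹ * (φ g * conj ((χ : G → ℂ) g))) * (χ : G → ℂ) z =
        ((Nat.card G : ℂ)⁻¹ * φ g) * ((χ : G → ℂ) g⁻¹ * (χ : G → ℂ) z) by rw [irr_conjInv]; ring,
        ← Finset.mul_sum, weak_orth hMq hBq (x := g⁻¹) (by rw [orderOf_inv]; exact fun h => hnot g hg h) hz, mul_zero]
    · refine Finset.sum_eq_zero fun χ _ => ?_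
      rw [hφ0 g hg]; simp
  obtain ⟨Q⟩ := (inferInstance : Nonempty (Sylow q G))
  haveI := Fintype.ofFinite (Q : Subgroup G)
  choose n hn using fun χ : IrrCharacter G => classInner_genChar_int
    (isGenChar_of_char (isCharacter_restrict (isCharacter_of_irr χ.2) (Q : Subgroup G)))
    (isGenChar_of_char (isCharacter_one (G := (Q : Subgroup G))))
  have hcard : ((Nat.card (Q : Subgroup G) : ℕ) : ℂ) = (q : ℂ) ^ b := by
    rw [Sylow.card_eq_multiplicity Q, hb]; push_cast; rfl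
  have hne : ((Nat.card (Q : Subgroup G) : ℕ) : ℂ) ≠ 0 := Nat.cast_ne_zero.2 Nat.card_pos.ne'
  refine ⟨⟨∑ χ ∈ bset (Bp ∩ Bq), (χ : G → ℂ) y * (n χ : ℂ), IsIntegral.sum _ fun χ _ =>
    (isIntegral_of_char (isCharacter_of_irr χ.2) y).mul isIntegral_algebraMap⟩, ?_⟩
  rw [finsum_mem_bset, ← hcard, Finset.mul_sum]
  have h1 : ∀ χ : IrrCharacter G, (Nat.card (Q : Subgroup G) : ℂ) * ((χ : G → ℂ) y * (n χ : ℂ)) =
      ∑ u : (Q : Subgroup G), (χ : G → ℂ) y * (χ : G → ℂ) u := by
    intro χ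
    rw [← hn χ, classInner, mul_left_comm, ← mul_assoc (Nat.card (Q : Subgroup G) : ℂ),
      mul_inv_cancel₀ hne, one_mul, Finset.mul_sum]
    exact Finset.sum_congr rfl fun u _ => by simp
  rw [Finset.sum_congr rfl fun χ _ => h1 χ, Finset.sum_comm,
    Finset.sum_eq_single (1 : (Q : Subgroup G)) (fun u _ hu => hS u ?_) (by simp)]
  · refine Finset.sum_congr rfl fun χ _ => ?_
    rw [irr_charDegree_cast χ, mul_comm]; rfl
  · obtain ⟨k, hk⟩ := IsPGroup.iff_orderOf.1 Q.2 u
    rw [Subgroup.orderOf_coe, show orderOf u = q ^ k from hk]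
    refine dvd_pow_self q ?_
    rintro rfl
    exact hu (orderOf_eq_one_iff.1 hk)

end Cfsg.Agent.S4731
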