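import Cfsg.Statements.S4732
import Cfsg.Agent.Lib.ModularJordan.Main
import Mathlib.FieldTheory.IsAlgClosed.AlgebraicClosure

set_option autoImplicit false
universe u v
open Cfsg

namespace Cfsg.Agent.S4732

theorem result (p : ℕ) [Fact p.Prime] : ∃ f : ℕ → ℕ → ℕ, ∀ (G : Type u) [Group G] [Finite G] (F : Type v) [Field F] [CharP F p] (n : ℕ) (ρ : Representation F G (Fin n → F)), Function.Injective ρ → ∀ m : ℕ, (Nat.card G).factorization p = m → ∃ A : Subgroup G, A.Normal ∧ IsMulCommutative A ∧ A.index < f m n := by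
  choose J hJ using fun m n => CfsgLib.ModularJordan.exists_jordan.{u, v} p m n
  refine ⟨fun m n => J m n + 1, ?_⟩
  intro G _ _ F _ _ n ρ hρ m hm
  let K := AlgebraicClosure F
  haveI : CharP K p := charP_of_injective_algebraMap (algebraMap F K).injective p
  let τ : Module.End F (Fin n → F) →* Module.End K (Fin n → K) :=
    (Matrix.toLinAlgEquiv' : Matrix (Fin n) (Fin n) K ≃ₐ[K] _).toMonoidHom.comp
      ((algebraMap F K).mapMatrix.toMonoidHom.comp
        (LinearMap.toMatrixAlgEquiv' : _ ≃ₐ[F] Matrix (Fin n) (Fin n) F).toMonoidHom)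
  have hτ : Function.Injective τ :=
    ((Matrix.toLinAlgEquiv' : Matrix (Fin n) (Fin n) K ≃ₐ[K] _).injective).comp
      ((Matrix.map_injective (algebraMap F K).injective).comp
        (LinearMap.toMatrixAlgEquiv' : _ ≃ₐ[F] Matrix (Fin n) (Fin n) F).injective)
  obtain ⟨A, h1, h2, h3⟩ := hJ m n n le_rfl G K (Fin n → K) (τ.comp ρ) (hτ.comp hρ)
    (by rw [Module.finrank_fintype_fun_eq_card, Fintype.card_fin]) hm.le
  exact ⟨A, h1, h2, Nat.lt_succ_of_le h3⟩

end Cfsg.Agent.S4732
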