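import Cfsg.Statements.S4735
import Cfsg.Agent.Lib.Basic
import Cfsg.Agent.Lib.Blocks.Inflation
import Cfsg.Agent.Lib.Blocks.RegInt
import Cfsg.Agent.Lib.Blocks.AlperinDade
import Cfsg.Agent.Lib.Blocks.DefectOneGalois

set_option autoImplicit false
open Cfsg CfsgLib.Blocks CfsgLib.CharTheory
open scoped ComplexConjugate

set_option linter.unusedVariables false

namespace Cfsg.Agent.S4735

/-- Let p be a prime, M a maximal ideal of the algebraic integers containing p, G a finite group, H = O_p'(G) and Ḡ = G/H. For x ∈ G write λ(G, x) for the sum of |χ(x)|^2 over the irreducible characters χ in the principal p-block of G. Then λ(G, x) is a positive integer, λ(G, x) = λ(Ḡ, x̄) where x̄ is the image of x, and λ(G, x) ≤ #C_Ḡ(x̄). Moreover λ(G, 1) = [G : H] if and only if the principal block is the only p-block of Ḡ. -/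
theorem result {G : Type*} [Group G] [Finite G] (p : ℕ) [Fact p.Prime] (M : Ideal Cfsg.AlgInt) (hM : Cfsg.IsPModular p M) (x : G) : (∃ n : ℕ, 0 < n ∧ ∑ᶠ χ ∈ Cfsg.principalBlock M G, Complex.normSq ((χ : G → ℂ) x) = n) ∧ ∑ᶠ χ ∈ Cfsg.principalBlock M G, Complex.normSq ((χ : G → ℂ) x) = ∑ᶠ ψ ∈ Cfsg.principalBlock M (G ⧸ Cfsg.pPrimeCore p G), Complex.normSq ((ψ : G ⧸ Cfsg.pPrimeCore p G → ℂ) (QuotientGroup.mk x)) ∧ ∑ᶠ χ ∈ Cfsg.principalBlock M G, Complex.normSq ((χ : G → ℂ) x) ≤ (Nat.card ↥(Subgroup.centralizer ({(QuotientGroup.mk x : G ⧸ Cfsg.pPrimeCore p G)} : Set (G ⧸ Cfsg.pPrimeCore p G))) : ℝ) ∧ ((∑ᶠ χ ∈ Cfsg.principalBlock M G, Cfsg.charDegree (χ : G → ℂ) ^ 2) = (Cfsg.pPrimeCore p G).index ↔ ∀ B : Set (Cfsg.IrrCharacter (G ⧸ Cfsg.pPrimeCore p G)), Cfsg.IsPBlock M B → B = Cfsg.principalBlock M (G ⧸ Cfsg.pPrimeCore p G)) := by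
  classical
  haveI := Fintype.ofFinite G
  set N := pPrimeCore p G with hNdef
  haveI := Fintype.ofFinite (G ⧸ N)
  have hN : ¬ p ∣ Nat.card N := CfsgLib.not_dvd_card_pPrimeCore hM.1
  have hinj : Function.Injective (Inflation.inflIrr N : IrrCharacter (G ⧸ N) → IrrCharacter G) := by
    intro a b h
    refine Subtype.ext (funext fun q => ?_)
    obtain ⟨g, rfl⟩ := QuotientGroup.mk_surjective q
    exact congrArg (fun χ : IrrCharacter G => (χ : G → ℂ) g) h
  have hB : principalBlock M G = Inflation.inflIrr N '' principalBlock M (G ⧸ N) := by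
    ext ψ
    constructor
    · intro hψ
      have e : (Inflation.inflIrr N (oneIrr (G ⧸ N)) : G → ℂ) = (oneIrr G : G → ℂ) := rfl
      obtain ⟨ψ', hψ', hs⟩ := Inflation.block_of_inflation hM N hN (oneIrr (G ⧸ N)) (ψ := ψ)
        (by rw [e]; exact hψ)
      exact ⟨ψ', hs, Subtype.ext hψ'.symm⟩
    · rintro ⟨ψ', hψ', rfl⟩
      refine (sameBlock_iff_res hM (oneIrr G) _).2 fun g => ?_
      rw [show oneIrr G = Inflation.inflIrr N (oneIrr (G ⧸ N)) from rfl]
      exact Inflation.res_clv_ascend hM N g ((sameBlock_iff_res hM (oneIrr (G ⧸ N)) ψ').1 hψ' _)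
  have hquot : ∀ y : G, ∑ᶠ χ ∈ principalBlock M G, Complex.normSq ((χ : G → ℂ) y) =
      ∑ᶠ ψ ∈ principalBlock M (G ⧸ N), Complex.normSq ((ψ : G ⧸ N → ℂ) (QuotientGroup.mk y)) := by
    intro y
    rw [hB, finsum_mem_image hinj.injOn]
    exact finsum_mem_congr rfl fun ψ _ => rfl
  refine ⟨?_, hquot x, ?_, ?_⟩
  · set B := (principalBlock M G).toFinset with hBf
    rw [finsum_mem_eq_toFinset_sum]
    set F : G → ℂ := fun g => ∑ χ ∈ B, (χ : G → ℂ) g * conj ((χ : G → ℂ) g) with hF
    have hFc : IsCharacter G F := (show F = ∑ χ ∈ B, ((χ : G → ℂ) * fun g => conj ((χ : G → ℂ) g)) from by funext g; simp [hF, Finset.sum_apply]) ▸ isCharacter_sum B _ fun χ _ =>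
      isCharacter_mul (isCharacter_of_irr χ.2) (isCharacter_conj (isCharacter_of_irr χ.2))
    have hcent : ∀ (g : G) {m : ℕ}, m.Coprime (Nat.card G) →
        Subgroup.centralizer ({g ^ m} : Set G) = Subgroup.centralizer ({g} : Set G) := by
      intro g m hm
      ext h
      rw [Subgroup.mem_centralizer_singleton_iff, Subgroup.mem_centralizer_singleton_iff]
      refine ⟨fun hh => ?_, fun hh => (show Commute h g from hh).pow_right m⟩
      have := (pow_mem_iff_of_coprime (H := Subgroup.centralizer ({h} : Set G)) hm (y := g)).1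
        (Subgroup.mem_centralizer_singleton_iff.2 hh.symm)
      exact (Subgroup.mem_centralizer_singleton_iff.1 this).symm
    have hinv : ∀ m : ℕ, m.Coprime (Nat.card G) → F (x ^ m) = F x := by
      intro m hm
      simp only [hF]
      refine Finset.sum_nbij (fun χ : IrrCharacter G => powIrr hm χ) ?_ ?_ ?_ ?_
      · intro χ hχ
        refine Set.mem_toFinset.2 ((mem_principal_iff hM _).2 fun g => ?_)
        have h := (mem_principal_iff hM χ).1 (Set.mem_toFinset.1 hχ) (g ^ m)
        have hc : Subgroup.centralizer ({g ^ m} : Set G) = Subgroup.centralizer ({g} : Set G) :=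
          hcent g hm
        rw [hc] at h
        rw [← h]
        congr 1
        show centralChar _ g = centralChar _ (g ^ m)
        simp only [centralChar, powIrr, one_pow, hc]
      · exact fun a _ b _ h => (powIrr_bijective hm).1 h
      · intro ψ hψ
        obtain ⟨χ, hχ⟩ := (powIrr_bijective hm).2 ψ
        refine ⟨χ, Set.mem_toFinset.2 ((mem_principal_iff hM χ).2 fun g => ?_), hχ⟩
        obtain ⟨g, rfl⟩ := (powCoprime hm.symm).surjective g
        change res hM (clv (g ^ m) χ) = _
        have h := (mem_principal_iff hM _).1 (Set.mem_toFinset.1 hψ) g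
        have hc : Subgroup.centralizer ({g ^ m} : Set G) = Subgroup.centralizer ({g} : Set G) :=
          hcent g hm
        rw [powCoprime_apply, hc, ← h]
        congr 1
        show centralChar _ (g ^ m) = centralChar _ g
        rw [← hχ]
        simp only [centralChar, powIrr, one_pow, hc]
      · intro χ _
        rfl
    obtain ⟨n, hn⟩ := rational_int_of_invariant hFc x hinv
    have hreal : ((∑ χ ∈ B, Complex.normSq ((χ : G → ℂ) x) : ℝ) : ℂ) = (n : ℂ) := by
      rw [← hn, Complex.ofReal_sum]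
      exact Finset.sum_congr rfl fun χ _ => (Complex.mul_conj _).symm
    have hn' : (∑ χ ∈ B, Complex.normSq ((χ : G → ℂ) x) : ℝ) = (n : ℝ) := by exact_mod_cast hreal
    have hpos : 0 < n := by
      have h1 : (1 : ℝ) ≤ ∑ χ ∈ B, Complex.normSq ((χ : G → ℂ) x) := by
        refine le_trans (le_of_eq ?_) (Finset.single_le_sum (fun χ _ => Complex.normSq_nonneg _)
          (Set.mem_toFinset.2 (oneIrr_mem hM)))
        simp [oneIrr]
      rw [hn'] at h1
      exact_mod_cast h1
    lift n to ℕ using hpos.le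
    exact ⟨n, by exact_mod_cast hpos, by rw [hn']; simp⟩
  · rw [hquot x, finsum_mem_eq_toFinset_sum]
    refine le_trans (Finset.sum_le_sum_of_subset_of_nonneg (Finset.subset_univ _)
      fun χ _ _ => Complex.normSq_nonneg _) (le_of_eq ?_)
    apply Complex.ofReal_injective
    rw [Complex.ofReal_sum, Complex.ofReal_natCast]
    have h := sum_irr_mul_conj (QuotientGroup.mk x : G ⧸ N) (QuotientGroup.mk x)
    rw [if_pos (IsConj.refl _)] at h
    rw [← h]
    exact Finset.sum_congr rfl fun χ _ => (Complex.mul_conj _).symm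
  · have e : ∀ χ : IrrCharacter (G ⧸ N),
        charDegree (Inflation.inflIrr N χ : G → ℂ) = charDegree (χ : G ⧸ N → ℂ) := fun χ => by
      apply Nat.cast_injective (R := ℂ)
      rw [irr_charDegree_cast, irr_charDegree_cast]
      rfl
    have e2 : (∑ᶠ χ ∈ principalBlock M G, charDegree (χ : G → ℂ) ^ 2) =
        ∑ χ ∈ (principalBlock M (G ⧸ N)).toFinset, charDegree (χ : G ⧸ N → ℂ) ^ 2 := by
      rw [hB, finsum_mem_image hinj.injOn, finsum_mem_eq_toFinset_sum]
      exact Finset.sum_congr rfl fun χ _ => by rw [e]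
    have e3 : ∑ χ : IrrCharacter (G ⧸ N), charDegree (χ : G ⧸ N → ℂ) ^ 2 = N.index := by
      apply Nat.cast_injective (R := ℂ)
      have h := sum_irr_mul_conj (1 : G ⧸ N) 1
      rw [if_pos (IsConj.refl _), show Subgroup.centralizer ({1} : Set (G ⧸ N)) = ⊤ from ?_,
        Subgroup.card_top] at h
      · rw [Subgroup.index, ← h]
        push_cast
        refine Finset.sum_congr rfl fun χ _ => ?_
        rw [← irr_charDegree_cast, Complex.conj_natCast, pow_two]
      · rw [Subgroup.eq_top_iff']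
        intro g
        simp [Subgroup.mem_centralizer_singleton_iff]
    rw [e2, ← e3]
    constructor
    · intro h B hBb
      obtain ⟨φ, hφ⟩ := block_nonempty hM hBb
      have hmem : φ ∈ principalBlock M (G ⧸ N) := by
        by_contra hne
        refine absurd h (Nat.ne_of_lt ?_)
        refine Finset.sum_lt_sum_of_subset (Finset.subset_univ _) (Finset.mem_univ φ)
          (fun hh => hne (Set.mem_toFinset.1 hh)) ?_ (fun i _ _ => Nat.zero_le _)
        exact pow_pos (irr_charDegree_pos φ) 2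
      rw [eq_blockOf hM hBb hφ, eq_blockOf hM principalBlock_isPBlock hmem]
    · intro h
      refine Finset.sum_congr (Finset.eq_univ_of_forall fun φ => Set.mem_toFinset.2 ?_) fun _ _ => rfl
      rw [← h (blockOf M (φ : G ⧸ N → ℂ)) (blockOf_isPBlock φ)]
      exact mem_blockOf_self hM φ

end Cfsg.Agent.S4735
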