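import Cfsg.Statements.S4736
import Cfsg.Agent.Lib.Blocks.ItoPSolvable
import Cfsg.Agent.S4439
import Cfsg.Agent.Lib.Blocks.Principal

set_option autoImplicit false
open Cfsg

open CfsgLib.Blocks CfsgLib.CharTheory
namespace Cfsg.Agent.S4736

/-- Let p be a prime, M a maximal ideal of the algebraic integers containing p, and G a finite p-solvable group with Sylow p-subgroup P. Then P is abelian if and only if every irreducible character in the principal p-block of G has height zero. -/
theorem result {G : Type*} [Group G] [Finite G] (p : ℕ) [Fact p.Prime] (M : Ideal Cfsg.AlgInt) (hM : Cfsg.IsPModular p M) (hsolv : Cfsg.IsPSolvable p G) (P : Sylow p G) : IsMulCommutative P ↔ ∀ χ ∈ Cfsg.principalBlock M G, Cfsg.blockHeight p (Cfsg.principalBlock M G) (χ : G → ℂ) = 0 := by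
  classical
  have hp : p.Prime := Fact.out
  haveI := Fintype.ofFinite G
  haveI := Fintype.ofFinite (pPrimeCore p G)
  obtain ⟨B₀, hB₀, hmem, hdef, -⟩ := Cfsg.Agent.S4492.result p M hM hsolv (pPrimeCore p G) rfl
    ⟨_, isIrrCharacter_one⟩ (fun g n => rfl)
  have hone : oneIrr G ∈ B₀ := (hmem _).2 (by
    show classInner (fun _ : pPrimeCore p G => (1 : ℂ)) (fun _ => 1) ≠ 0
    rw [classInner_irr_self isIrrCharacter_one]; exact one_ne_zero)
  have hB : principalBlock M G = B₀ := (eq_blockOf hM hB₀ hone).symm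
  constructor
  · intro hab χ hχ
    rw [hB] at hχ ⊢
    refine Nat.le_zero.1 ((Cfsg.Agent.S4439.result p M hM hsolv B₀ hB₀ _ (hdef P) χ hχ).trans ?_)
    haveI := hab
    rw [Subgroup.index_eq_one.2 ((Subgroup.eq_top_iff' _).2 fun x => Subgroup.mem_center_iff.2 fun y =>
      hab.1.1 y x), Nat.factorization_one, Finsupp.zero_apply]
  · intro h
    set π := QuotientGroup.mk' (pPrimeCore p G) with hπ
    have hsurj := QuotientGroup.mk'_surjective (pPrimeCore p G)
    have hdeg : ∀ φ : IrrCharacter (G ⧸ (pPrimeCore p G)), ¬ p ∣ charDegree (φ : G ⧸ (pPrimeCore p G) → ℂ) := by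
      intro φ hd
      let χ : IrrCharacter G :=
        ⟨fun g => (φ : G ⧸ (pPrimeCore p G) → ℂ) (π g), isIrrCharacter_comp_surjective φ.2 π hsurj⟩
      have hval : ∀ n : (pPrimeCore p G), (χ : G → ℂ) n = (φ : G ⧸ (pPrimeCore p G) → ℂ) 1 := fun n =>
        congrArg (φ : G ⧸ (pPrimeCore p G) → ℂ) ((QuotientGroup.eq_one_iff (n : G)).2 n.2)
      have hχ : χ ∈ B₀ := (hmem χ).2 (by
        show classInner (fun n : (pPrimeCore p G) => (χ : G → ℂ) n) (fun _ => 1) ≠ 0
        rw [show (fun n : (pPrimeCore p G) => (χ : G → ℂ) n) = (φ : G ⧸ (pPrimeCore p G) → ℂ) 1 • fun _ : (pPrimeCore p G) => (1 : ℂ) from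
          funext fun n => by rw [hval]; simp, classInner_smul_left,
          classInner_irr_self isIrrCharacter_one, mul_one]
        exact irr_one_ne_zero φ)
      have h0 := h χ (hB ▸ hχ)
      rw [blockHeight] at h0
      have hinf : sInf ((fun ψ : IrrCharacter G => (charDegree (ψ : G → ℂ)).factorization p) ''
          principalBlock M G) = 0 :=
        Nat.sInf_eq_zero.2 (Or.inl ⟨oneIrr G, hB ▸ hone, by
          show (charDegree (fun _ : G => (1 : ℂ))).factorization p = 0
          simp [charDegree]⟩)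
      rw [hinf, Nat.sub_zero] at h0
      have hcd : charDegree (χ : G → ℂ) = charDegree (φ : G ⧸ (pPrimeCore p G) → ℂ) := by simp [charDegree, χ]
      rw [hcd] at h0
      have := hp.factorization_pos_of_dvd (irr_charDegree_pos φ).ne' hd
      omega
    obtain ⟨Q, hQn, hQab, hQp, hQi⟩ := ito_pSolvable hp _ le_rfl
      (CfsgLib.PSolvableClosure.of_surjective π hsurj hsolv) hdeg
    haveI := hQn
    have hle : (P : Subgroup G).map π ≤ Q := by
      rintro _ ⟨x, hx, rfl⟩
      obtain ⟨k, hk⟩ := P.isPGroup' ⟨x, hx⟩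
      have hxk : x ^ p ^ k = 1 := congrArg Subtype.val hk
      rw [← QuotientGroup.eq_one_iff, ← orderOf_eq_one_iff]
      refine Nat.eq_one_of_dvd_coprimes ((hp.coprime_iff_not_dvd.mpr hQi).pow_left k)
        (orderOf_dvd_of_pow_eq_one ?_) (orderOf_dvd_natCard _)
      rw [← QuotientGroup.mk_pow, ← map_pow, hxk, map_one, QuotientGroup.mk_one]
    refine ⟨⟨fun a b => ?_⟩⟩
    have hinj : Function.Injective (π.comp (P : Subgroup G).subtype) := by
      rw [injective_iff_map_eq_one]
      intro x hx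
      have h5 := Subgroup.disjoint_of_coprime_natCard (H := (pPrimeCore p G)) (K := (P : Subgroup G)) (by
        rw [P.card_eq_multiplicity]
        exact ((hp.coprime_iff_not_dvd.mpr not_dvd_card_pPrimeCore').pow_left _).symm)
      exact Subtype.ext (Subgroup.disjoint_def.1 h5 ((QuotientGroup.eq_one_iff _).1 hx) x.2)
    apply hinj
    rw [map_mul, map_mul]
    exact hQab _ (hle ⟨a, a.2, rfl⟩) _ (hle ⟨b, b.2, rfl⟩)

end Cfsg.Agent.S4736
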