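import Cfsg.Statements.S4740
import Cfsg.Agent.Lib.Blocks.DefectZeroProducts

set_option autoImplicit false
open Cfsg CfsgLib.CharTheory CfsgLib.Blocks
open scoped ComplexConjugate

set_option linter.unusedVariables false

namespace Cfsg.Agent.S4740

/-- Let p be an odd prime, G a finite group of even order, x an involution of G and P a subgroup of G of order p ^ c such that no conjugate of x inverts a non-identity element of P. If p ^ a is the p-part of the order of C_G(x), then some irreducible character of G has degree divisible by p ^ (c - a). -/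
theorem result {G : Type*} [Group G] [Finite G] (p : ℕ) [Fact p.Prime] (hp2 : p ≠ 2) (hG : Even (Nat.card G)) (x : G) (hx : orderOf x = 2) (P : Subgroup G) (c : ℕ) (hP : Nat.card ↥P = p ^ c) (hinv : ∀ g : G, IsConj x g → ∀ z ∈ P, z ≠ 1 → g * z * g⁻¹ ≠ z⁻¹) (a : ℕ) (ha : (Nat.card ↥(Subgroup.centralizer ({x} : Set G))).factorization p = a) : ∃ χ : Cfsg.IrrCharacter G, p ^ (c - a) ∣ Cfsg.charDegree (χ : G → ℂ) := by
  classical
  haveI := Fintype.ofFinite G
  have hp : p.Prime := Fact.out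
  by_cases hca : c ≤ a
  · exact ⟨⟨fun _ => 1, isIrrCharacter_one⟩, by
      rw [Nat.sub_eq_zero_of_le hca, pow_zero]; exact one_dvd _⟩
  by_contra hno
  push Not at hno
  have hxx : x⁻¹ = x := inv_eq_of_mul_eq_one_right (by rw [← sq, ← hx]; exact pow_orderOf_eq_one x)
  have hinvol : ∀ g : G, IsConj x g → g⁻¹ = g := by
    intro g hg
    obtain ⟨d, rfl⟩ := isConj_iff.1 hg
    rw [mul_inv_rev, mul_inv_rev, inv_inv, hxx, mul_assoc]
  obtain ⟨m, hm⟩ := card_eq_sum_restrict x P fun z hz hz1 => by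
    rw [hxx, pairCount, Nat.card_eq_zero]
    refine Or.inl ⟨fun ⟨b, hb, hb'⟩ => hinv b hb z hz hz1 ?_⟩
    have h2 := hinvol _ hb'
    rw [hinvol b hb] at h2
    rw [mul_inv_rev, hinvol b hb] at h2
    rw [hinvol b hb, ← h2, mul_assoc, ← sq, show b ^ 2 = 1 from by
      rw [sq]; nth_rw 1 [← hinvol b hb]; exact inv_mul_cancel b, mul_one]
  obtain ⟨M, hM⟩ := exists_pModular hp
  haveI := res_charP hM
  set C := Nat.card (Subgroup.centralizer ({x} : Set G)) with hC
  set i := (Subgroup.centralizer ({x} : Set G)).index with hi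
  set GG := Nat.card G with hGG
  set L := p ^ (c - a - 1) * (GG / p ^ GG.factorization p) with hL
  have hdiv : ∀ χ : IrrCharacter G, charDegree (χ : G → ℂ) ∣ L := by
    intro χ
    set n := charDegree (χ : G → ℂ) with hn
    have hn0 : n ≠ 0 := (irr_charDegree_pos χ).ne'
    have hlt : n.factorization p ≤ c - a - 1 := by
      by_contra h
      exact hno χ ((pow_dvd_pow p (by omega)).trans (Nat.ordProj_dvd n p))
    rw [← Nat.ordProj_mul_ordCompl_eq_self n p]
    exact Nat.mul_dvd_mul (pow_dvd_pow p hlt)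
      (Nat.ordCompl_dvd_ordCompl_of_dvd (charDegree_dvd_card χ) p)
  choose q hq using hdiv
  have key : ∀ χ : IrrCharacter G, (L : ℂ) * (clv x χ * (χ : G → ℂ) x⁻¹ * (m χ : ℂ)) =
      (i : ℂ) * ((q χ : ℂ) * (χ : G → ℂ) x * (χ : G → ℂ) x⁻¹ * (m χ : ℂ)) := by
    intro χ
    rw [hq χ, Nat.cast_mul, irr_charDegree_cast]
    simp only [clv, centralChar]
    field_simp [irr_one_ne_zero χ]
    ring
  have h1 : (L : ℂ) * (GG : ℂ) = (Nat.card P : ℂ) * ((i : ℂ) *
      ∑ χ : IrrCharacter G, (q χ : ℂ) * (χ : G → ℂ) x * (χ : G → ℂ) x⁻¹ * (m χ : ℂ)) := by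
    rw [hm, Finset.mul_sum (a := (i : ℂ)), mul_left_comm, Finset.mul_sum]
    congr 1
    exact Finset.sum_congr rfl fun χ _ => key χ
  have hidx : GG = i * C := (Subgroup.index_mul_card _).symm
  set u := GG / p ^ GG.factorization p * (C / p ^ C.factorization p) with hu
  have hLC : L * C = p ^ (c - 1) * u := by
    conv_lhs => rw [← Nat.ordProj_mul_ordCompl_eq_self C p, ha, hL]
    rw [hu, show c - 1 = c - a - 1 + a by omega, pow_add, ha]
    ring
  have hc : p ^ c = p ^ (c - 1) * p := by rw [← pow_succ]; congr 1; omega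
  have h2 : (u : ℂ) = (p : ℂ) *
      ∑ χ : IrrCharacter G, (q χ : ℂ) * (χ : G → ℂ) x * (χ : G → ℂ) x⁻¹ * (m χ : ℂ) := by
    refine mul_left_cancel₀ (mul_ne_zero
      (Nat.cast_ne_zero.2 (Subgroup.index_ne_zero_of_finite (H := Subgroup.centralizer ({x} : Set G))))
      (Nat.cast_ne_zero.2 (pow_ne_zero (c - 1) hp.ne_zero))) ?_
    rw [← hi]
    rw [hidx, hP, hc, ← Nat.cast_mul, show L * (i * C) = i * (p ^ (c - 1) * u) by rw [← hLC]; ring]
      at h1
    push_cast at h1 ⊢
    linear_combination h1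
  have hS : ∀ χ : IrrCharacter G,
      MemLocalRing M ((q χ : ℂ) * (χ : G → ℂ) x * (χ : G → ℂ) x⁻¹ * (m χ : ℂ)) := fun χ =>
    (loc hM).mul_mem ((loc hM).mul_mem ((loc hM).mul_mem (memRing_natCast hM _)
      (memRing_irr hM χ x)) (memRing_irr hM χ _)) (memRing_natCast hM _)
  have h3 := congrArg (res hM) h2
  rw [res_natCast, res_mul hM (memRing_natCast hM p) (memRing_sum hM fun χ _ => hS χ), res_natCast,
    CharP.cast_eq_zero (AlgInt ⧸ M) p, zero_mul, CharP.cast_eq_zero_iff _ p] at h3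
  rcases hp.dvd_mul.1 h3 with h | h
  · exact Nat.not_dvd_ordCompl hp Nat.card_pos.ne' h
  · exact Nat.not_dvd_ordCompl hp Nat.card_pos.ne' h

end Cfsg.Agent.S4740
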