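import Cfsg.Statements.S4741
import Cfsg.Agent.Lib.Blocks.DefectZeroCount
import Cfsg.Agent.Lib.Blocks.MinMax
-- import your own Cfsg.Agent.* helpers here

set_option autoImplicit false
open Cfsg

namespace Cfsg.Agent.S4741

open CfsgLib.Blocks CfsgLib.CharTheory

set_option linter.style.haveILetI false
set_option linter.unusedSimpArgs false

universe u

variable {p : ℕ} [hp : Fact p.Prime] {M : Ideal Cfsg.AlgInt} {G : Type u} [Group G] [Fintype G]

theorem index_factorization {x : G} {D : Subgroup G}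
    (hD : ∃ S : Sylow p ↥(Subgroup.centralizer ({x} : Set G)),
      (S : Subgroup ↥(Subgroup.centralizer ({x} : Set G))).map
        (Subgroup.centralizer ({x} : Set G)).subtype = D) :
    (Subgroup.centralizer ({x} : Set G)).index.factorization p =
      (Nat.card G).factorization p - (Nat.card D).factorization p := by
  obtain ⟨S, rfl⟩ := hD
  rw [Subgroup.card_map_of_injective (Subgroup.subtype_injective _), S.card_eq_multiplicity,
    Nat.Prime.factorization_pow hp.out, Finsupp.single_eq_same,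
    ← factorization_index_add p (Subgroup.centralizer ({x} : Set G))]
  omega

/-- The relation between the value and the central character, with unit factors. -/
theorem value_rel (hM : Cfsg.IsPModular p M) {x : G} {χ : Cfsg.IrrCharacter G}
    (h : (Subgroup.centralizer ({x} : Set G)).index.factorization p ≤ dv p (χ : G → ℂ)) :
    res hM ((χ : G → ℂ) x) *
      (((Subgroup.centralizer ({x} : Set G)).index /
        p ^ (Subgroup.centralizer ({x} : Set G)).index.factorization p : ℕ) : Cfsg.AlgInt ⧸ M) =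
      ((Cfsg.charDegree (χ : G → ℂ) /
        p ^ (Subgroup.centralizer ({x} : Set G)).index.factorization p : ℕ) : Cfsg.AlgInt ⧸ M) *
      res hM (clv x χ) := by
  set i := (Subgroup.centralizer ({x} : Set G)).index
  set n := Cfsg.charDegree (χ : G → ℂ)
  set q := p ^ i.factorization p
  have h2 : clv x χ * (χ : G → ℂ) 1 = (i : ℂ) * (χ : G → ℂ) x := by
    rw [clv, Cfsg.centralChar, div_mul_cancel₀ _ (irr_one_ne_zero χ)]
  have e1 : q * (n / q) = n := Nat.mul_div_cancel' ((pow_dvd_pow p h).trans (Nat.ordProj_dvd n p))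
  have e2 : q * (i / q) = i := Nat.mul_div_cancel' (Nat.ordProj_dvd i p)
  have key : (χ : G → ℂ) x * ((i / q : ℕ) : ℂ) = ((n / q : ℕ) : ℂ) * clv x χ := by
    refine mul_left_cancel₀ (Nat.cast_ne_zero.2 (pow_ne_zero (i.factorization p) hp.out.ne_zero) :
      (q : ℂ) ≠ 0) ?_
    rw [← mul_assoc, ← mul_assoc, mul_comm (q : ℂ), mul_assoc, ← Nat.cast_mul, e2,
      ← Nat.cast_mul, e1, mul_comm ((χ : G → ℂ) x), ← h2, irr_charDegree_cast]
    ring
  have := congrArg (res hM) key
  rwa [res_mul hM (memRing_irr hM χ x) (memRing_natCast hM _),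
    res_mul hM (memRing_natCast hM _) (memRing_clv hM x χ), res_natCast, res_natCast] at this

theorem centralizer_inv (x : G) :
    Subgroup.centralizer ({x⁻¹} : Set G) = Subgroup.centralizer ({x} : Set G) := by
  ext g
  simp only [Subgroup.mem_centralizer_singleton_iff]
  exact Commute.inv_right_iff

theorem main (hM : Cfsg.IsPModular p M) (D : Subgroup G) {r : ℕ}
    (x : Fin r → G) (hx : ∀ i j : Fin r, IsConj (x i) (x j) → i = j)
    (hD : ∀ i : Fin r, ∃ S : Sylow p ↥(Subgroup.centralizer ({x i} : Set G)), (S : Subgroup ↥(Subgroup.centralizer ({x i} : Set G))).map (Subgroup.centralizer ({x i} : Set G)).subtype = D)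
    (hsep : ∀ i j : Fin r, ∀ g h : G, IsConj (x i) g → IsConj (x j) h → ∀ k : ℕ, 0 < k → orderOf (g * h⁻¹) ≠ p ^ k) :
    ∃ B : Fin r → Set (Cfsg.IrrCharacter G), Function.Injective B ∧ (∀ i : Fin r, Cfsg.IsPBlock M (B i) ∧ Cfsg.IsDefectGroup p M (B i) D) ∧ ∀ χ : Fin r → Cfsg.IrrCharacter G, (∀ i : Fin r, χ i ∈ B i ∧ Cfsg.blockHeight p (B i) (χ i : G → ℂ) = 0) → ¬ Cfsg.MemLocalIdeal M (Matrix.det (Matrix.of fun i j : Fin r => (χ i : G → ℂ) (x j))) := by
  classical
  haveI := res_charP hM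
  haveI : M.IsMaximal := hM.2.1
  letI : Field (Cfsg.AlgInt ⧸ M) := Ideal.Quotient.field M
  set t := (Nat.card G).factorization p - (Nat.card D).factorization p with ht
  have hidx : ∀ i, (Subgroup.centralizer ({x i} : Set G)).index.factorization p = t :=
    fun i => index_factorization (hD i)
  let P : Sylow p G := default
  set S : Finset G := Finset.univ.filter (· ∈ (P : Subgroup G)) with hS
  -- the orthogonality relation
  have hm : ∀ χ : Cfsg.IrrCharacter G, ∃ m : ℕ,
      ∑ u ∈ S, starRingEnd ℂ ((χ : G → ℂ) u) = (Nat.card P : ℂ) * m := by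
    intro χ
    haveI := Fintype.ofFinite (P : Subgroup G)
    obtain ⟨m, hm⟩ := classInner_char_nat isCharacter_one
      (isCharacter_restrict (isCharacter_of_irr χ.2) (P : Subgroup G))
    refine ⟨m, ?_⟩
    rw [← hm, Cfsg.classInner, ← mul_assoc,
      mul_inv_cancel₀ (Nat.cast_ne_zero.2 Nat.card_pos.ne'), one_mul]
    simp only [one_mul]
    exact (Finset.sum_subtype S (fun u => by simp [S]) (fun u => starRingEnd ℂ ((χ : G → ℂ) u)))
  choose m hm using hm
  have hpc : ∀ i j, ∀ u ∈ S, u ≠ 1 → pairCount (x i) (x j)⁻¹ u = 0 := by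
    intro i j u hu hu1
    refine Nat.card_eq_zero.2 (Or.inl ⟨fun ⟨a, h1, h2⟩ => ?_⟩)
    obtain ⟨k, hk⟩ := P.isPGroup' ⟨u, (Finset.mem_filter.1 hu).2⟩
    obtain ⟨k', -, hk'⟩ := (Nat.dvd_prime_pow hp.out).1 (orderOf_dvd_iff_pow_eq_one.2
      (congrArg Subtype.val hk))
    have h3 : IsConj (x j) (u⁻¹ * a) := by
      have := CfsgLib.Blocks.isConj_inv h2
      simpa using this
    refine hsep i j a (u⁻¹ * a) h1 h3 k' (Nat.pos_of_ne_zero fun e => hu1 ?_) ?_
    · exact orderOf_eq_one_iff.1 (by rw [show orderOf u = p ^ k' from hk', e, pow_zero])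
    · rw [show a * (u⁻¹ * a)⁻¹ = u by group]; exact hk'
  have hone : ∀ i j, pairCount (x i) (x j)⁻¹ 1 =
      if i = j then (Subgroup.centralizer ({x i} : Set G)).index else 0 := by
    intro i j
    split_ifs with h
    · subst h
      rw [index_centralizer_eq, pairCount]
      refine Nat.card_congr (Equiv.subtypeEquivRight fun a => ?_)
      exact ⟨fun h => h.1, fun h => ⟨h, by rw [mul_one]; exact CfsgLib.Blocks.isConj_inv h⟩⟩
    · refine Nat.card_eq_zero.2 (Or.inl ⟨fun ⟨a, h1, h2⟩ => h (hx i j (h1.trans ?_))⟩)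
      rw [mul_one] at h2
      have := CfsgLib.Blocks.isConj_inv h2
      simpa using this.symm
  have key : ∀ i j, ((if i = j then (P : Subgroup G).index else 0 : ℕ) : Cfsg.AlgInt ⧸ M) =
      ∑ χ : Cfsg.IrrCharacter G,
        res hM (clv (x i) χ) * res hM ((χ : G → ℂ) (x j)⁻¹ * (m χ : ℂ)) := by
    intro i j
    have hsum : ∑ u ∈ S, (pairCount (x i) (x j)⁻¹ u : ℂ) *
        (Nat.card (Subgroup.centralizer ({(x j)⁻¹} : Set G)) : ℂ) =
          (Nat.card P : ℂ) * ((if i = j then (P : Subgroup G).index else 0 : ℕ) : ℂ) := by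
      rw [Finset.sum_eq_single 1]
      · rw [hone, centralizer_inv]
        split_ifs with h
        · subst h; rw [← Nat.cast_mul, Subgroup.index_mul_card, ← Nat.cast_mul,
            Subgroup.card_mul_index]
        · simp
      · intro u hu hu1
        rw [hpc i j u hu hu1]
        simp
      · exact fun h => absurd (Finset.mem_filter.2 ⟨Finset.mem_univ _, one_mem _⟩) h
    simp only [pairCount_mul] at hsum
    rw [Finset.sum_comm] at hsum
    simp only [← Finset.mul_sum, hm] at hsum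
    have hP : (Nat.card P : ℂ) ≠ 0 := Nat.cast_ne_zero.2 Nat.card_pos.ne'
    have hq : ((if i = j then (P : Subgroup G).index else 0 : ℕ) : ℂ) =
        ∑ χ : Cfsg.IrrCharacter G, clv (x i) χ * ((χ : G → ℂ) (x j)⁻¹ * (m χ : ℂ)) := by
      refine mul_left_cancel₀ hP ?_
      rw [← hsum, Finset.mul_sum]
      exact Finset.sum_congr rfl fun χ _ => by ring
    have h1 := congrArg (res hM) hq
    rw [res_natCast, res_sum hM (fun χ _ => (loc hM).mul_mem (memRing_clv hM _ χ)
        ((loc hM).mul_mem (memRing_irr hM χ _) (memRing_natCast hM _)))] at h1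
    rw [h1]
    exact Finset.sum_congr rfl fun χ _ => res_mul hM (memRing_clv hM _ χ)
      ((loc hM).mul_mem (memRing_irr hM χ _) (memRing_natCast hM _))
  -- only height zero characters of blocks with defect group `D` matter
  set T := Finset.univ.filter fun χ : Cfsg.IrrCharacter G =>
    dv p (χ : G → ℂ) = t ∧ ∃ i, res hM (clv (x i) χ) ≠ 0 with hT
  have hle : ∀ χ : Cfsg.IrrCharacter G, ∀ i, res hM (clv (x i) χ) ≠ 0 → t ≤ dv p (χ : G → ℂ) := by
    intro χ i h
    rw [← hidx i]
    exact mul_dv_le hM fun h' => h ((res_eq_zero_iff hM (memRing_clv hM _ χ)).2 h')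
  have hout : ∀ χ : Cfsg.IrrCharacter G, χ ∉ T → ∀ i j,
      res hM (clv (x i) χ) * res hM ((χ : G → ℂ) (x j)⁻¹ * (m χ : ℂ)) = 0 := by
    intro χ hχ i j
    by_cases h : res hM (clv (x i) χ) = 0
    · rw [h, zero_mul]
    have hlt : t < dv p (χ : G → ℂ) := lt_of_le_of_ne (hle χ i h) fun e =>
      hχ (Finset.mem_filter.2 ⟨Finset.mem_univ _, e.symm, i, h⟩)
    have hj : (Subgroup.centralizer ({(x j)⁻¹} : Set G)).index.factorization p = t := by
      rw [centralizer_inv]; exact hidx j
    have h2 := value_rel hM (x := (x j)⁻¹) (χ := χ) (by rw [hj]; exact hlt.le)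
    rw [hj] at h2
    have h0 : ((Cfsg.charDegree (χ : G → ℂ) / p ^ t : ℕ) : Cfsg.AlgInt ⧸ M) = 0 := by
      rw [CharP.cast_eq_zero_iff (Cfsg.AlgInt ⧸ M) p]
      refine (Nat.dvd_div_iff_mul_dvd ((pow_dvd_pow p hlt.le).trans (Nat.ordProj_dvd _ p))).2 ?_
      rw [← pow_succ]
      exact (pow_dvd_pow p hlt).trans (Nat.ordProj_dvd _ p)
    rw [h0, zero_mul] at h2
    have hu : (((Subgroup.centralizer ({(x j)⁻¹} : Set G)).index / p ^ t : ℕ) : Cfsg.AlgInt ⧸ M) ≠ 0 := by
      rw [Ne, CharP.cast_eq_zero_iff (Cfsg.AlgInt ⧸ M) p, ← hj]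
      exact Nat.not_dvd_ordCompl hp.out Subgroup.index_ne_zero_of_finite
    rw [res_mul hM (memRing_irr hM χ _) (memRing_natCast hM _),
      (mul_eq_zero.1 h2).resolve_right hu, zero_mul, mul_zero]
  have hc : (((P : Subgroup G).index : ℕ) : Cfsg.AlgInt ⧸ M) ≠ 0 := by
    rw [Ne, CharP.cast_eq_zero_iff (Cfsg.AlgInt ⧸ M) p]
    exact P.not_dvd_index
  set col : {χ // χ ∈ T} → (Fin r → Cfsg.AlgInt ⧸ M) := fun χ i => res hM (clv (x i) χ.1) with hcol
  have hspan : Submodule.span (Cfsg.AlgInt ⧸ M) (Set.range col) = ⊤ := by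
    rw [eq_top_iff]
    intro v _
    rw [Submodule.mem_span_range_iff_exists_fun]
    refine ⟨fun χ => ∑ j, res hM ((χ.1 : G → ℂ) (x j)⁻¹ * (m χ.1 : ℂ)) *
      (v j / (((P : Subgroup G).index : ℕ) : Cfsg.AlgInt ⧸ M)), funext fun i => ?_⟩
    simp only [Finset.sum_apply, Pi.smul_apply, smul_eq_mul, hcol, Finset.sum_mul]
    rw [Finset.sum_comm]
    have e : ∀ j, ∑ χ : {χ // χ ∈ T}, res hM ((χ.1 : G → ℂ) (x j)⁻¹ * (m χ.1 : ℂ)) *
        (v j / (((P : Subgroup G).index : ℕ) : Cfsg.AlgInt ⧸ M)) * res hM (clv (x i) χ.1) =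
        (v j / (((P : Subgroup G).index : ℕ) : Cfsg.AlgInt ⧸ M)) *
          ((if i = j then (P : Subgroup G).index else 0 : ℕ) : Cfsg.AlgInt ⧸ M) := by
      intro j
      rw [key i j, ← Finset.sum_subset (Finset.subset_univ T) fun χ _ h => hout χ h i j,
        ← Finset.sum_coe_sort T, Finset.mul_sum]
      exact Finset.sum_congr rfl fun χ _ => by ring
    simp only [e, Nat.cast_ite, Nat.cast_zero, mul_ite, mul_zero, Finset.sum_ite_eq,
      Finset.mem_univ, if_true]
    exact div_mul_cancel₀ _ hc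
  obtain ⟨κ, a, hinj, hsp, hli⟩ := exists_linearIndependent' (Cfsg.AlgInt ⧸ M) col
  haveI : Fintype κ := Fintype.ofInjective a hinj
  have hκ : Fintype.card κ = r := by
    have h := finrank_span_eq_card hli
    rw [hsp, hspan, finrank_top, Module.finrank_fin_fun] at h
    exact h.symm
  set e := (Fintype.equivFinOfCardEq hκ).symm
  set c : Fin r → Cfsg.IrrCharacter G := fun l => (a (e l)).1 with hcdef
  have hcT : ∀ l, dv p (c l : G → ℂ) = t ∧ ∃ i, res hM (clv (x i) (c l)) ≠ 0 := fun l =>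
    (Finset.mem_filter.1 (a (e l)).2).2
  set U : Matrix (Fin r) (Fin r) (Cfsg.AlgInt ⧸ M) := Matrix.of fun i l => res hM (clv (x i) (c l))
    with hU
  have hUdet : U.det ≠ 0 := by
    have h : LinearIndependent (Cfsg.AlgInt ⧸ M) U.col := hli.comp e e.injective
    exact ((Matrix.isUnit_iff_isUnit_det U).1
      (Matrix.linearIndependent_cols_iff_isUnit.1 h)).ne_zero
  have hres : ∀ l, ∀ φ ∈ Cfsg.blockOf M (c l : G → ℂ), ∀ g,
      res hM (clv g φ) = res hM (clv g (c l)) := fun l φ hφ g =>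
    ((sameBlock_iff_res hM (c l) φ).1 hφ g).symm
  have hmin : ∀ l, minDv p (Cfsg.blockOf M (c l : G → ℂ)) = t := by
    intro l
    refine le_antisymm ((minDv_le (mem_blockOf_self hM (c l))).trans (hcT l).1.le)
      (le_csInf ⟨_, c l, mem_blockOf_self hM (c l), rfl⟩ ?_)
    rintro _ ⟨φ, hφ, rfl⟩
    obtain ⟨i, hi⟩ := (hcT l).2
    exact hle φ i (by rw [hres l φ hφ]; exact hi)
  refine ⟨fun l => Cfsg.blockOf M (c l : G → ℂ), fun l l' h => ?_, fun l => ?_, ?_⟩
  · refine e.injective (hinj ?_)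
    have hli' : LinearIndependent (Cfsg.AlgInt ⧸ M) U.col := hli.comp e e.injective
    have := hli'.injective (a₁ := l) (a₂ := l') (funext fun i => by
      show res hM (clv (x i) (c l)) = res hM (clv (x i) (c l'))
      exact hres l' (c l) (by
        have := mem_blockOf_self hM (c l)
        simp only at h
        rwa [h] at this) (x i))
    rw [this]
  · have hB : Cfsg.IsPBlock M (Cfsg.blockOf M (c l : G → ℂ)) := blockOf_isPBlock (c l)
    refine ⟨hB, ?_⟩
    obtain ⟨i, hi⟩ := (hcT l).2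
    obtain ⟨g, hg⟩ := exists_defectClass hM hB
    obtain ⟨Q⟩ : Nonempty (Sylow p (Subgroup.centralizer ({g} : Set G))) := inferInstance
    set D0 := (Q : Subgroup (Subgroup.centralizer ({g} : Set G))).map
      (Subgroup.centralizer ({g} : Set G)).subtype with hD0def
    have hD0 : Cfsg.IsDefectGroup p M (Cfsg.blockOf M (c l : G → ℂ)) D0 := ⟨g, hg, Q, rfl⟩
    obtain ⟨Si, hSi⟩ := hD i
    obtain ⟨y, hy⟩ := sylow_le_conj hM hB (mem_blockOf_self hM (c l)) (h := x i) (l := g)
      (fun h' => hi ((res_eq_zero_iff hM (memRing_clv hM _ _)).2 h'))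
      hg.2.1 (Q.isPGroup'.map _) (Subgroup.map_subtype_le _) Si
    rw [hSi] at hy
    have hcard : Nat.card D ≤ Nat.card (D0.map (MulAut.conj y).toMonoidHom) := by
      rw [Subgroup.card_map_of_injective (MulAut.conj y).injective, card_defectGroup hM hB hD0,
        blockDefect_eq, hmin, ht, ← hSi, Subgroup.card_map_of_injective (Subgroup.subtype_injective _),
        Si.card_eq_multiplicity, Nat.Prime.factorization_pow hp.out, Finsupp.single_eq_same]
      refine Nat.pow_le_pow_right hp.out.pos ?_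
      have := (Nat.factorization_le_iff_dvd Nat.card_pos.ne' Nat.card_pos.ne').2
        (Subgroup.card_subgroup_dvd_card (Subgroup.centralizer ({x i} : Set G))) p
      omega
    rw [← Subgroup.eq_of_le_of_card_ge hy hcard]
    exact isDefectGroup_conj hD0 y
  intro χ hχ hdet
  have hdv : ∀ l, dv p (χ l : G → ℂ) = t := fun l =>
    ((height_zero_iff (hχ l).1).1 (hχ l).2).trans (hmin l)
  let Mloc : Matrix (Fin r) (Fin r) (loc hM) :=
    Matrix.of fun l j => ⟨(χ l : G → ℂ) (x j), memRing_irr hM (χ l) (x j)⟩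
  have h1 : ((Mloc.det : loc hM) : ℂ) = Matrix.det (Matrix.of fun i j : Fin r => (χ i : G → ℂ) (x j)) := by
    rw [show ((Mloc.det : loc hM) : ℂ) = (loc hM).subtype Mloc.det from rfl, RingHom.map_det]
    rfl
  have h2 : resHom hM Mloc.det = 0 := by
    rw [resHom_apply, h1]
    exact (res_eq_zero_iff hM (h1 ▸ Mloc.det.2)).2 hdet
  rw [RingHom.map_det] at h2
  have e2 : (resHom hM).mapMatrix Mloc =
      Matrix.diagonal (fun l => ((Cfsg.charDegree (χ l : G → ℂ) / p ^ t : ℕ) : Cfsg.AlgInt ⧸ M)) *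
        U.transpose * Matrix.diagonal (fun j =>
          ((((Subgroup.centralizer ({x j} : Set G)).index / p ^ t : ℕ) : Cfsg.AlgInt ⧸ M))⁻¹) := by
    ext l j
    have hu : ((((Subgroup.centralizer ({x j} : Set G)).index / p ^ t : ℕ) : Cfsg.AlgInt ⧸ M)) ≠ 0 := by
      rw [Ne, CharP.cast_eq_zero_iff (Cfsg.AlgInt ⧸ M) p, ← hidx j]
      exact Nat.not_dvd_ordCompl hp.out Subgroup.index_ne_zero_of_finite
    rw [Matrix.mul_diagonal, Matrix.diagonal_mul]
    show res hM ((χ l : G → ℂ) (x j)) = _ * res hM (clv (x j) (c l)) * _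
    rw [eq_mul_inv_iff_mul_eq₀ hu, ← hres l (χ l) (hχ l).1]
    have h3 := value_rel hM (x := x j) (χ := χ l) (by rw [hidx j, hdv l])
    rwa [hidx j] at h3
  rw [e2, Matrix.det_mul, Matrix.det_mul, Matrix.det_diagonal, Matrix.det_diagonal,
    Matrix.det_transpose] at h2
  rcases mul_eq_zero.1 h2 with h2 | h2
  · rcases mul_eq_zero.1 h2 with h2 | h2
    · obtain ⟨l, -, hl⟩ := Finset.prod_eq_zero_iff.1 h2
      rw [CharP.cast_eq_zero_iff (Cfsg.AlgInt ⧸ M) p, ← hdv l] at hl
      exact Nat.not_dvd_ordCompl hp.out (irr_charDegree_pos (χ l)).ne' hl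
    · exact hUdet h2
  · obtain ⟨j, -, hj⟩ := Finset.prod_eq_zero_iff.1 h2
    rw [inv_eq_zero, CharP.cast_eq_zero_iff (Cfsg.AlgInt ⧸ M) p, ← hidx j] at hj
    exact Nat.not_dvd_ordCompl hp.out Subgroup.index_ne_zero_of_finite hj


/-- Let p be a prime, M a maximal ideal of the algebraic integers containing p, and D a subgroup of the finite group G. Let x₁, …, x_r be pairwise non-conjugate elements of G such that D is a Sylow p-subgroup of the centralizer of each xᵢ, and such that for any conjugates g of some xᵢ and h of some xⱼ the element g h⁻¹ is never a non-identity p-element. Then there are r distinct p-blocks B₁, …, B_r of G, each having D as a defect group, such that for every choice of characters χᵢ ∈ Bᵢ of height zero the determinant of the r × r matrix (χᵢ(xⱼ)) does not lie in the local ideal at M. -/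
theorem result {G : Type*} [Group G] [Finite G] (p : ℕ) [Fact p.Prime] (M : Ideal Cfsg.AlgInt) (hM : Cfsg.IsPModular p M) (D : Subgroup G) {r : ℕ} (x : Fin r → G) (hx : ∀ i j : Fin r, IsConj (x i) (x j) → i = j) (hD : ∀ i : Fin r, ∃ S : Sylow p ↥(Subgroup.centralizer ({x i} : Set G)), (S : Subgroup ↥(Subgroup.centralizer ({x i} : Set G))).map (Subgroup.centralizer ({x i} : Set G)).subtype = D) (hsep : ∀ i j : Fin r, ∀ g h : G, IsConj (x i) g → IsConj (x j) h → ∀ k : ℕ, 0 < k → orderOf (g * h⁻¹) ≠ p ^ k) : ∃ B : Fin r → Set (Cfsg.IrrCharacter G), Function.Injective B ∧ (∀ i : Fin r, Cfsg.IsPBlock M (B i) ∧ Cfsg.IsDefectGroup p M (B i) D) ∧ ∀ χ : Fin r → Cfsg.IrrCharacter G, (∀ i : Fin r, χ i ∈ B i ∧ Cfsg.blockHeight p (B i) (χ i : G → ℂ) = 0) → ¬ Cfsg.MemLocalIdeal M (Matrix.det (Matrix.of fun i j : Fin r => (χ i : G → ℂ) (x j))) := by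
  classical
  haveI := Fintype.ofFinite G
  exact main hM D x hx hD hsep

end Cfsg.Agent.S4741
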