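import Cfsg.Statements.S4742
import Cfsg.Agent.Lib.Blocks.DefectZeroProducts

set_option autoImplicit false
open Cfsg CfsgLib.CharTheory CfsgLib.Blocks
open scoped ComplexConjugate

set_option linter.unusedVariables false

namespace Cfsg.Agent.S4742

/-- Let p ≠ q be primes dividing the order of the finite group G, and suppose the centralizer of every non-identity p-element of G has order prime to q. Then either G has an irreducible character of p-defect zero, or for every non-identity q-element z of G there are conjugates g, h of z such that g h⁻¹ is a non-identity p-element. -/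
theorem result {G : Type*} [Group G] [Finite G] (p q : ℕ) [Fact p.Prime] [Fact q.Prime] (hppq : p ≠ q) (hpG : p ∣ Nat.card G) (hqG : q ∣ Nat.card G) (hC : ∀ g : G, g ≠ 1 → (∃ k : ℕ, orderOf g = p ^ k) → ¬ q ∣ Nat.card ↥(Subgroup.centralizer ({g} : Set G))) : (∃ χ : Cfsg.IrrCharacter G, (Cfsg.charDegree (χ : G → ℂ)).factorization p = (Nat.card G).factorization p) ∨ ∀ z : G, z ≠ 1 → (∃ k : ℕ, orderOf z = q ^ k) → ∃ g h : G, IsConj z g ∧ IsConj z h ∧ g * h⁻¹ ≠ 1 ∧ ∃ k : ℕ, orderOf (g * h⁻¹) = p ^ k := by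
  classical
  haveI := Fintype.ofFinite G
  by_cases hd : ∃ χ : IrrCharacter G, IsDefZero p χ
  · exact Or.inl hd
  push Not at hd
  refine Or.inr fun z hz hzo => ?_
  obtain ⟨M, hM⟩ := exists_pModular (Fact.out : p.Prime)
  refine exists_quotient_pElement hM hpG ?_ hd
  intro hdvd
  obtain ⟨g, hg⟩ := exists_prime_orderOf_dvd_card' p hdvd
  obtain ⟨k, hk⟩ := hzo
  have hk0 : k ≠ 0 := fun h => hz (orderOf_eq_one_iff.1 (by rw [hk, h, pow_zero]))
  have hgo : orderOf (g : G) = p := (Subgroup.orderOf_coe g).trans hg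
  refine hC (g : G) (fun h => (Fact.out : p.Prime).ne_one ?_) ⟨1, by rw [hgo, pow_one]⟩ ?_
  · rw [← hgo, h, orderOf_one]
  have hzC : z ∈ Subgroup.centralizer ({(g : G)} : Set G) := by
    rw [Subgroup.mem_centralizer_singleton_iff]
    exact (Subgroup.mem_centralizer_singleton_iff.1 g.2).symm
  exact ((dvd_pow_self q hk0).trans (dvd_of_eq hk.symm)).trans
    ((dvd_of_eq (Subgroup.orderOf_mk z hzC).symm).trans (orderOf_dvd_natCard _))

end Cfsg.Agent.S4742
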