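import Cfsg.Statements.S4743
import Cfsg.Agent.Lib.Blocks.DefectZeroNormal

set_option autoImplicit false
open Cfsg

namespace Cfsg.Agent.S4743

/-- Let p ≠ q be primes dividing the order of the finite group G, suppose the centralizer of every non-identity p-element has order prime to q, and suppose G is p-solvable or q-solvable. Then G has an irreducible character of p-defect zero or an irreducible character of q-defect zero. -/
theorem result {G : Type*} [Group G] [Finite G] (p q : ℕ) [Fact p.Prime] [Fact q.Prime] (hppq : p ≠ q) (hpG : p ∣ Nat.card G) (hqG : q ∣ Nat.card G) (hC : ∀ g : G, g ≠ 1 → (∃ k : ℕ, orderOf g = p ^ k) → ¬ q ∣ Nat.card ↥(Subgroup.centralizer ({g} : Set G))) (hsolv : Cfsg.IsPSolvable p G ∨ Cfsg.IsPSolvable q G) : (∃ χ : Cfsg.IrrCharacter G, (Cfsg.charDegree (χ : G → ℂ)).factorization p = (Nat.card G).factorization p) ∨ (∃ χ : Cfsg.IrrCharacter G, (Cfsg.charDegree (χ : G → ℂ)).factorization q = (Nat.card G).factorization q) := by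
  rcases hsolv with h | h
  · exact CfsgLib.Blocks.exists_defZero_pair hppq hpG
      (fun g hg => hC g (fun h1 => (Fact.out : p.Prime).ne_one (by rw [← hg, h1, orderOf_one])) ⟨1, by rw [hg, pow_one]⟩) h
  · refine (CfsgLib.Blocks.exists_defZero_pair hppq.symm hqG (fun g hg hd => ?_) h).symm
    obtain ⟨w, hw⟩ := exists_prime_orderOf_dvd_card' p hd
    have hwo : orderOf (w : G) = p := by rw [Subgroup.orderOf_coe, hw]
    refine hC (w : G) (fun h1 => (Fact.out : p.Prime).ne_one (by rw [← hwo, h1, orderOf_one])) ⟨1, by rw [hwo, pow_one]⟩ ?_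
    rw [← hg]
    exact Subgroup.orderOf_dvd_natCard _ (Subgroup.mem_centralizer_singleton_iff.mpr
      (Subgroup.mem_centralizer_singleton_iff.mp w.2).symm)

end Cfsg.Agent.S4743
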