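import Cfsg.Statements.S4744
import Cfsg.Agent.Lib.Basic
import Cfsg.Agent.Lib.Coprime
import Cfsg.Agent.Lib.Blocks.DefectZeroCount

set_option autoImplicit false
open Cfsg

open scoped Pointwise

namespace Cfsg.Agent.S4744

/-- Let p be an odd prime and G a finite group of even order divisible by p in which the centralizer of every non-identity p-element has odd order. Then either G has an irreducible character of p-defect zero, or the normalizer of every Sylow p-subgroup P of G has even order and P is abelian. -/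
theorem result {G : Type*} [Group G] [Finite G] (p : ℕ) [Fact p.Prime] (hp2 : p ≠ 2) (hpG : p ∣ Nat.card G) (h2G : 2 ∣ Nat.card G) (hC : ∀ g : G, g ≠ 1 → (∃ k : ℕ, orderOf g = p ^ k) → Odd (Nat.card ↥(Subgroup.centralizer ({g} : Set G)))) : (∃ χ : Cfsg.IrrCharacter G, (Cfsg.charDegree (χ : G → ℂ)).factorization p = (Nat.card G).factorization p) ∨ ∀ P : Sylow p G, Even (Nat.card ↥(Subgroup.normalizer ((P : Subgroup G) : Set G))) ∧ IsMulCommutative ↥(P : Subgroup G) := by
  classical
  haveI : Fintype G := Fintype.ofFinite G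
  have hp : p.Prime := Fact.out
  by_cases hex : ∃ a u : G, orderOf a = 2 ∧ u ≠ 1 ∧ (∃ k : ℕ, orderOf u = p ^ k) ∧ a * u * a⁻¹ = u⁻¹
  · right
    obtain ⟨a, u, ha, hu1, hup, hinv⟩ := hex
    have haa : a * a = 1 := by
      have := pow_orderOf_eq_one a
      rwa [ha, pow_two] at this
    have hainv : a⁻¹ = a := inv_eq_of_mul_eq_one_right haa
    set C := Subgroup.centralizer ({u} : Set G) with hCdef
    have hCodd : Odd (Nat.card C) := hC u hu1 hup
    have hA : Subgroup.zpowers a ≤ Subgroup.normalizer (C : Set G) := by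
      rw [Subgroup.zpowers_le, Subgroup.mem_normalizer_iff]
      intro c
      simp only [hCdef, Subgroup.mem_centralizer_singleton_iff]
      have h1 : a * u⁻¹ * a⁻¹ = u := by
        have := congrArg (·⁻¹) hinv
        simpa [mul_assoc] using this
      constructor
      · intro h
        have h2 : c * u⁻¹ = u⁻¹ * c := (Commute.inv_right (show Commute c u from h)).eq
        calc a * c * a⁻¹ * u = a * c * a⁻¹ * (a * u⁻¹ * a⁻¹) := by rw [h1]
          _ = a * (c * u⁻¹) * a⁻¹ := by simp only [mul_assoc, inv_mul_cancel_left]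
          _ = a * (u⁻¹ * c) * a⁻¹ := by rw [h2]
          _ = a * u⁻¹ * a⁻¹ * (a * c * a⁻¹) := by simp only [mul_assoc, inv_mul_cancel_left]
          _ = u * (a * c * a⁻¹) := by rw [h1]
      · intro h
        have h3 : a * c * a⁻¹ * u⁻¹ = u⁻¹ * (a * c * a⁻¹) :=
          (Commute.inv_right (show Commute (a * c * a⁻¹) u from h)).eq
        rw [← hinv] at h3
        have h4 : a * (c * u) * a⁻¹ = a * (u * c) * a⁻¹ := by
          simpa only [mul_assoc, inv_mul_cancel_left] using h3
        exact mul_left_cancel (mul_right_cancel h4)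
    obtain ⟨P0', hP0'⟩ := CfsgLib.coprime_exists_invariant_sylow hA (by
      rw [Nat.card_zpowers, ha]; exact Nat.coprime_two_left.mpr hCodd)
      (Or.inl inferInstance) p
    set P0 := (P0' : Subgroup C).map C.subtype
    have hP0C : P0 ≤ C := Subgroup.map_subtype_le _
    have hP0p : IsPGroup p P0 := P0'.2.map _
    have huC : u ∈ C := by simp [hCdef, Subgroup.mem_centralizer_singleton_iff]
    have huP0 : u ∈ P0 := by
      obtain ⟨k, hk⟩ := hup
      set Z := Subgroup.zpowers (⟨u, huC⟩ : C)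
      haveI : Z.Normal := ⟨fun z hz c => by
        obtain ⟨i, rfl⟩ := hz
        have hc : Commute c (⟨u, huC⟩ : C) :=
          Subtype.ext (Subgroup.mem_centralizer_singleton_iff.mp c.2)
        rw [show c * (⟨u, huC⟩ : C) ^ i * c⁻¹ = (⟨u, huC⟩ : C) ^ i by
          rw [(hc.zpow_right i).eq, mul_inv_cancel_right]]
        exact ⟨i, rfl⟩⟩
      have hZp : IsPGroup p Z := IsPGroup.of_card (n := k) (by
        rw [Nat.card_zpowers, ← Subgroup.orderOf_coe]; exact hk)
      have hle := CfsgLib.le_pCore hZp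
      exact ⟨⟨u, huC⟩, (hle.trans (CfsgLib.pCore_le_sylow P0')) (Subgroup.mem_zpowers _), rfl⟩
    have hord : ∀ x ∈ P0, ∃ k : ℕ, orderOf x = p ^ k := fun x hx => by
      obtain ⟨k, hk⟩ := IsPGroup.iff_orderOf.mp hP0p ⟨x, hx⟩
      exact ⟨k, by rw [← hk, ← Subgroup.orderOf_coe]⟩
    have hnofix : ∀ x, (∃ k : ℕ, orderOf x = p ^ k) → a * x = x * a → x = 1 := by
      intro x hx hc
      by_contra hx1
      have h2 : 2 ∣ Nat.card (Subgroup.centralizer ({x} : Set G)) :=
        ha ▸ Subgroup.orderOf_dvd_natCard _ (Subgroup.mem_centralizer_singleton_iff.mpr hc)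
      obtain ⟨m, hm⟩ := hC x hx1 hx
      omega
    have hanorm : a ∈ Subgroup.normalizer (P0 : Set G) := hP0' (Subgroup.mem_zpowers a)
    have haP0 : ∀ x ∈ P0, a * x * a⁻¹ ∈ P0 := fun x hx => (Subgroup.mem_normalizer_iff.mp hanorm x).mp hx
    let φ : P0 →* P0 :=
      { toFun := fun x => ⟨a * x * a⁻¹, haP0 x x.2⟩
        map_one' := Subtype.ext (by simp)
        map_mul' := fun x y => Subtype.ext (by simp [mul_assoc]) }
    have hfpf : MonoidHom.FixedPointFree φ := fun x hx => Subtype.ext (hnofix x (hord x x.2) (by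
      have h := congrArg Subtype.val hx
      change a * x * a⁻¹ = (x : G) at h
      rwa [mul_inv_eq_iff_eq_mul] at h))
    have hinvo : Function.Involutive φ := fun x => Subtype.ext (by
      show a * (a * x * a⁻¹) * a⁻¹ = (x : G)
      rw [hainv, show a * (a * (x : G) * a) * a = (a * a) * x * (a * a) by simp only [mul_assoc], haa, one_mul, mul_one])
    have hphi : ∀ x ∈ P0, a * x * a⁻¹ = x⁻¹ := fun x hx =>
      congrArg Subtype.val (congrFun (hfpf.coe_eq_inv_of_involutive hinvo) ⟨x, hx⟩)
    have hab : ∀ x ∈ P0, ∀ y ∈ P0, x * y = y * x := fun x hx y hy =>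
      congrArg Subtype.val (hfpf.commute_all_of_involutive hinvo ⟨x, hx⟩ ⟨y, hy⟩).eq
    have hyC : ∀ y : G, (∃ k : ℕ, orderOf y = p ^ k) → y ∈ Subgroup.normalizer (P0 : Set G) → y ∈ P0 := by
      intro y ⟨k, hk⟩ hyN
      set D := Subgroup.centralizer (P0 : Set G)
      have hDC : D ≤ C := Subgroup.centralizer_le (Set.singleton_subset_iff.mpr huP0)
      have hy' := Subgroup.mem_normalizer_iff.mp (Subgroup.inv_mem _ hyN)
      set z := a * (y * a * y⁻¹)
      have hzD : z ∈ D := by
        refine Subgroup.mem_centralizer_iff.mpr fun x hx => ?_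
        have hx' : y⁻¹ * x * y ∈ P0 := by simpa using (hy' x).mp hx
        have e : (y * a * y⁻¹) * x * (y * a * y⁻¹)⁻¹ = x⁻¹ := by
          have e0 : (y * a * y⁻¹) * x * (y * a * y⁻¹)⁻¹ = y * (a * (y⁻¹ * x * y) * a⁻¹) * y⁻¹ := by
            simp [mul_assoc]
          rw [e0, hphi _ hx']
          simp [mul_assoc]
        have e2 : z * x * z⁻¹ = x := by
          have e3 : z * x * z⁻¹ = a * ((y * a * y⁻¹) * x * (y * a * y⁻¹)⁻¹) * a⁻¹ := by
            simp [z, mul_assoc]
          rw [e3, e, hphi _ (inv_mem hx), inv_inv]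
        rw [mul_inv_eq_iff_eq_mul] at e2
        exact e2.symm
      have hzodd : Odd (orderOf z) := hCodd.of_dvd_nat (Subgroup.orderOf_dvd_natCard C (hDC hzD))
      obtain ⟨l, hl⟩ := hzodd
      set d := z ^ l
      have haz : a * z * a⁻¹ = z⁻¹ := by
        simp only [z, mul_inv_rev, inv_inv, hainv]
        rw [show a * (a * (y * a * y⁻¹)) * a = (a * a) * (y * a * y⁻¹) * a by simp only [mul_assoc], haa, one_mul]
        simp only [mul_assoc, hainv]
      have had : a * d * a⁻¹ = (z ^ l)⁻¹ := by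
        rw [← inv_pow, ← haz]; exact (conj_pow).symm
      have hn : a * (d⁻¹ * y) = (d⁻¹ * y) * a := by
        have h1 : a * d⁻¹ = d * a := by
          have h := congrArg (·⁻¹) had
          simp only [mul_inv_rev, inv_inv] at h
          rw [← mul_assoc, mul_inv_eq_iff_eq_mul] at h
          exact h
        have h2 : d * d * z = 1 := by
          rw [← pow_add, ← pow_succ, show l + l + 1 = orderOf z by omega, pow_orderOf_eq_one]
        have h3 : y * a = a * z * y := by
          simp [z, ← mul_assoc, haa]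
        have h4 : a * z = z⁻¹ * a := by
          rw [← haz]; simp [mul_assoc]
        have h5 : z⁻¹ = d * d := inv_eq_of_mul_eq_one_left h2
        rw [← mul_assoc, h1, mul_assoc d⁻¹, h3, h4, h5]
        simp [mul_assoc]
      set n := d⁻¹ * y with hn'
      have hdD : d ∈ D := Subgroup.pow_mem _ hzD _
      have hnN : n ∈ Subgroup.normalizer (P0 : Set G) := Subgroup.mul_mem _ (Subgroup.inv_mem _
        (Subgroup.centralizer_le_normalizer (P0 : Set G) hdD)) hyN
      have hpn : ¬ p ∣ orderOf n := by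
        intro hd
        have hw : orderOf (n ^ (orderOf n / p)) = p := orderOf_pow_orderOf_div (orderOf_pos n).ne' hd
        have := hnofix (n ^ (orderOf n / p)) ⟨1, by rw [hw, pow_one]⟩ ((show Commute a n from hn).pow_right _).eq
        rw [this, orderOf_one] at hw
        exact hp.ne_one hw.symm
      have hND1 : ∀ g ∈ Subgroup.normalizer (P0 : Set G), ∀ w ∈ D, g * w * g⁻¹ ∈ D := by
        intro g hg w hw
        refine Subgroup.mem_centralizer_iff.mpr fun x hx => ?_
        have hx' : g⁻¹ * x * g ∈ P0 := by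
          simpa using (Subgroup.mem_normalizer_iff.mp (Subgroup.inv_mem _ hg) x).mp hx
        have h := congrArg (fun v => g * v * g⁻¹) (Subgroup.mem_centralizer_iff.mp hw _ hx')
        simpa [mul_assoc] using h
      haveI : (D.subgroupOf (Subgroup.normalizer (P0 : Set G))).Normal :=
        ⟨fun w hw g => hND1 g g.2 w hw⟩
      set N := Subgroup.normalizer (P0 : Set G)
      set π := QuotientGroup.mk' (D.subgroupOf N)
      have hπ : π ⟨y, hyN⟩ = π ⟨n, hnN⟩ := by
        refine (QuotientGroup.eq.mpr ?_).symm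
        show (n⁻¹ * y : G) ∈ D
        rw [hn', mul_inv_rev, inv_inv]
        have : y⁻¹ * d * y ∈ D := by
          have := hND1 _ (Subgroup.inv_mem _ hyN) d hdD
          simpa using this
        simpa [mul_assoc] using this
      have h1 : orderOf (π ⟨y, hyN⟩) = 1 := by
        refine Nat.eq_one_of_dvd_coprimes ((hp.coprime_iff_not_dvd.mpr hpn).pow_left k) ?_ ?_
        · rw [← hk]
          exact (orderOf_map_dvd π _).trans (Subgroup.orderOf_coe (⟨y, hyN⟩ : N)).symm.dvd
        · rw [hπ]
          exact (orderOf_map_dvd π _).trans (Subgroup.orderOf_coe (⟨n, hnN⟩ : N)).symm.dvd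
      have hyD : y ∈ D := (QuotientGroup.eq_one_iff (N := D.subgroupOf N) (⟨y, hyN⟩ : N)).mp (orderOf_eq_one_iff.mp h1)
      set Y := Subgroup.zpowers (⟨y, hDC hyD⟩ : C)
      have hYp : IsPGroup p Y := IsPGroup.of_card (n := k) (by
        rw [Nat.card_zpowers, ← Subgroup.orderOf_coe]; exact hk)
      have hYn : Y ≤ Subgroup.normalizer ((P0' : Subgroup C) : Set C) := by
        rw [Subgroup.zpowers_le]
        refine Subgroup.centralizer_le_normalizer _ (Subgroup.mem_centralizer_iff.mpr fun w hw => Subtype.ext ?_)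
        exact Subgroup.mem_centralizer_iff.mp hyD w ⟨w, hw, rfl⟩
      have hmax := P0'.3 (IsPGroup.to_sup_of_normal_left' P0'.2 hYp hYn) le_sup_left
      refine ⟨⟨y, hDC hyD⟩, ?_, rfl⟩
      rw [← hmax]
      exact Subgroup.mem_sup_right (Subgroup.mem_zpowers _)
    intro P
    obtain ⟨S, hS⟩ := hP0p.exists_le_sylow
    have hSP0 : (S : Subgroup G) = P0 := by
      by_contra hne
      have hlt : P0.subgroupOf S < ⊤ := lt_top_iff_ne_top.mpr fun h =>
        hne (le_antisymm (Subgroup.subgroupOf_eq_top.mp h) hS)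
      haveI : Group.IsNilpotent (S : Subgroup G) := S.2.isNilpotent
      obtain ⟨y, hyN, hy⟩ := SetLike.exists_of_lt ((normalizerCondition_of_isNilpotent) _ hlt)
      refine hy (hyC y ?_ ?_)
      · obtain ⟨k, hk⟩ := IsPGroup.iff_orderOf.mp S.2 y
        exact ⟨k, by rw [← hk, Subgroup.orderOf_coe]⟩
      · refine Subgroup.mem_normalizer_iff.mpr fun x => ?_
        constructor
        · intro hx
          have := (Subgroup.mem_normalizer_iff.mp hyN ⟨x, hS hx⟩).mp hx
          exact this
        · intro hx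
          have hxS : x ∈ (S : Subgroup G) := by
            have h := S.mul_mem (S.mul_mem (S.inv_mem y.2) (hS hx)) y.2
            simpa [mul_assoc] using h
          exact (Subgroup.mem_normalizer_iff.mp hyN ⟨x, hxS⟩).mpr hx
    obtain ⟨g, hg⟩ := MulAction.exists_smul_eq G S P
    have hgP : ∀ x, x ∈ (P : Subgroup G) ↔ g⁻¹ * x * g ∈ P0 := fun x => by
      rw [← hSP0, ← hg]
      show x ∈ MulAut.conj g • (S : Subgroup G) ↔ _
      rw [Subgroup.mem_pointwise_smul_iff_inv_smul_mem]
      simp [MulAut.smul_def, MulAut.conj_inv_apply]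
    refine ⟨?_, ⟨⟨fun x y => Subtype.ext ?_⟩⟩⟩
    · have hgn : g * a * g⁻¹ ∈ Subgroup.normalizer ((P : Subgroup G) : Set G) := by
        refine Subgroup.mem_normalizer_iff.mpr fun x => ?_
        rw [hgP, hgP, show g⁻¹ * (g * a * g⁻¹ * x * (g * a * g⁻¹)⁻¹) * g = a * (g⁻¹ * x * g) * a⁻¹ by simp [mul_assoc]]
        exact Subgroup.mem_normalizer_iff.mp hanorm _
      have := Subgroup.orderOf_dvd_natCard _ hgn
      rw [show orderOf (g * a * g⁻¹) = orderOf a from
        orderOf_injective (MulAut.conj g).toMonoidHom (MulAut.conj g).injective a, ha] at this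
      exact even_iff_two_dvd.mpr this
    · have := hab _ ((hgP x).mp x.2) _ ((hgP y).mp y.2)
      have h2 := congrArg (fun w => g * w * g⁻¹) this
      simpa [mul_assoc] using h2
  left
  by_contra hno
  push Not at hno
  obtain ⟨M, hM⟩ := CfsgLib.Blocks.exists_pModular hp
  obtain ⟨t, ht⟩ := exists_prime_orderOf_dvd_card' 2 h2G
  have htp : ¬ p ∣ Nat.card (Subgroup.centralizer ({t} : Set G)) := by
    intro hd
    obtain ⟨w, hw⟩ := exists_prime_orderOf_dvd_card' p hd
    have hwo : orderOf (w : G) = p := by rw [Subgroup.orderOf_coe, hw]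
    have h2 : 2 ∣ Nat.card (Subgroup.centralizer ({(w : G)} : Set G)) :=
      ht ▸ Subgroup.orderOf_dvd_natCard _ (Subgroup.mem_centralizer_singleton_iff.mpr
        (Subgroup.mem_centralizer_singleton_iff.mp w.2).symm)
    obtain ⟨m, hm⟩ := hC (w : G) (fun h => hp.ne_one (by rw [← hwo, h, orderOf_one])) ⟨1, by rw [hwo, pow_one]⟩
    omega
  obtain ⟨P⟩ : Nonempty (Sylow p G) := inferInstance
  set c := Nat.card (Subgroup.centralizer ({t} : Set G))
  have htt : t * t = 1 := by
    have := pow_orderOf_eq_one t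
    rwa [ht, pow_two] at this
  have hzero : ∀ u : (P : Subgroup G), u ≠ 1 → CfsgLib.Blocks.pairCount t t (u : G) = 0 := by
    intro u hu
    rw [CfsgLib.Blocks.pairCount, Nat.card_eq_zero]
    left
    refine ⟨fun ⟨a, ha, hb⟩ => hex ⟨a, u, ?_, fun h => hu (Subtype.ext h), ?_, ?_⟩⟩
    · obtain ⟨g, rfl⟩ := isConj_iff.mp ha
      rw [show orderOf (g * t * g⁻¹) = orderOf t from
        orderOf_injective (MulAut.conj g).toMonoidHom (MulAut.conj g).injective t, ht]
    · obtain ⟨k, hk⟩ := IsPGroup.iff_orderOf.mp P.2 u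
      exact ⟨k, by rw [Subgroup.orderOf_coe, hk]⟩
    · obtain ⟨g, rfl⟩ := isConj_iff.mp ha
      obtain ⟨f, hf⟩ := isConj_iff.mp hb
      have h1 : ((g * t * g⁻¹)⁻¹ * (u : G)) * ((g * t * g⁻¹)⁻¹ * (u : G)) = 1 := by
        rw [← hf, show f * t * f⁻¹ * (f * t * f⁻¹) = f * (t * t) * f⁻¹ by simp [mul_assoc], htt]
        simp
      have h2 : (g * t * g⁻¹)⁻¹ = g * t * g⁻¹ := inv_eq_of_mul_eq_one_right (by
        rw [show g * t * g⁻¹ * (g * t * g⁻¹) = g * (t * t) * g⁻¹ by simp [mul_assoc], htt]
        simp)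
      rw [h2] at h1 ⊢
      rw [← mul_eq_one_iff_eq_inv]
      simpa [mul_assoc] using h1
  have hone : CfsgLib.Blocks.pairCount t t (1 : G) = (Subgroup.centralizer ({t} : Set G)).index := by
    have e : CfsgLib.Blocks.pairCount t t (1 : G) = Nat.card {x : G // IsConj t x} := by
      refine Nat.card_congr (Equiv.subtypeEquivRight fun x => ?_)
      constructor
      · exact fun h => h.1
      · intro h
        refine ⟨h, ?_⟩
        obtain ⟨g, rfl⟩ := isConj_iff.mp h
        rw [mul_one, show (g * t * g⁻¹)⁻¹ = g * t⁻¹ * g⁻¹ by simp [mul_assoc], inv_eq_of_mul_eq_one_right htt]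
        exact isConj_iff.mpr ⟨g, rfl⟩
    have h2 := CfsgLib.CharTheory.card_isConj_mul_card_centralizer t
    rw [← (Subgroup.centralizer ({t} : Set G)).index_mul_card] at h2
    rw [e]
    exact Nat.eq_of_mul_eq_mul_right Nat.card_pos h2
  choose m hm using fun χ : Cfsg.IrrCharacter G => CfsgLib.CharTheory.classInner_char_nat
    (CfsgLib.CharTheory.isCharacter_restrict (CfsgLib.CharTheory.isCharacter_of_irr χ.2) (P : Subgroup G))
    (CfsgLib.CharTheory.isCharacter_one (G := (P : Subgroup G)))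
  have hP0 : (Nat.card (P : Subgroup G) : ℂ) ≠ 0 := Nat.cast_ne_zero.mpr Nat.card_pos.ne'
  have hkey : ((P : Subgroup G).index : ℂ) =
      ∑ χ : Cfsg.IrrCharacter G, CfsgLib.Blocks.clv t χ * ((χ : G → ℂ) t * (m χ : ℂ)) := by
    have h1 : ∑ u : (P : Subgroup G), ((CfsgLib.Blocks.pairCount t t (u : G) : ℂ) * (c : ℂ)) = (Nat.card G : ℂ) := by
      rw [Finset.sum_eq_single (1 : (P : Subgroup G))]
      · rw [Subgroup.coe_one, hone, ← Nat.cast_mul, Subgroup.index_mul_card]
      · intro u _ hu; rw [hzero u hu, Nat.cast_zero, zero_mul]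
      · simp
    simp only [c, CfsgLib.Blocks.pairCount_mul] at h1
    rw [Finset.sum_comm] at h1
    refine mul_right_cancel₀ hP0 ?_
    rw [← Nat.cast_mul, Subgroup.index_mul_card, ← h1, Finset.sum_mul]
    refine Finset.sum_congr rfl fun χ _ => ?_
    have h2 : ∑ u : (P : Subgroup G), (starRingEnd ℂ) ((χ : G → ℂ) u) = (m χ : ℂ) * (Nat.card (P : Subgroup G) : ℂ) := by
      have h3 := congrArg (starRingEnd ℂ) (hm χ)
      rw [Cfsg.classInner, map_mul, map_sum, map_inv₀, map_natCast, map_natCast, inv_mul_eq_iff_eq_mul₀ hP0] at h3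
      rw [mul_comm (m χ : ℂ), ← h3]
      simp
    rw [← Finset.mul_sum, ← Finset.mul_sum, h2]
    ring
  have h0 := congrArg (CfsgLib.Blocks.res hM) hkey
  rw [CfsgLib.Blocks.res_natCast, CfsgLib.Blocks.res_sum hM (fun χ _ =>
    (CfsgLib.Blocks.loc hM).mul_mem (CfsgLib.Blocks.memRing_clv hM t χ)
      ((CfsgLib.Blocks.loc hM).mul_mem (CfsgLib.Blocks.memRing_irr hM χ t) (CfsgLib.Blocks.memRing_natCast hM _))),
    Finset.sum_eq_zero fun χ _ => ?_] at h0
  · haveI := CfsgLib.Blocks.res_charP hM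
    rw [CharP.cast_eq_zero_iff (Cfsg.AlgInt ⧸ M) p] at h0
    exact P.not_dvd_index h0
  · rw [CfsgLib.Blocks.res_mul hM (CfsgLib.Blocks.memRing_clv hM t χ)
      ((CfsgLib.Blocks.loc hM).mul_mem (CfsgLib.Blocks.memRing_irr hM χ t) (CfsgLib.Blocks.memRing_natCast hM _)),
      CfsgLib.Blocks.res_clv_of_not_defZero hM htp (hno χ), zero_mul]

end Cfsg.Agent.S4744
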