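import Cfsg.Statements.S4745
import Cfsg.Agent.S4738
import Cfsg.Agent.S4744
import Cfsg.Agent.Lib.AfterFT.OddCentTransitive
import Cfsg.Agent.Lib.CharTheory.DegreeComplement
import Cfsg.Agent.Lib.Blocks.DefectZeroProducts
import Mathlib.RingTheory.RootsOfUnity.AlgebraicallyClosed
import Mathlib.GroupTheory.FiniteAbelian.Duality
-- import your own Cfsg.Agent.* helpers here

set_option autoImplicit false
open Cfsg
open CfsgLib.OddCentTransitive

namespace Cfsg.Agent.S4745

/-- Let p be an odd prime and G a finite group of even order divisible by p in which the centralizer of every non-identity p-element has odd order, and suppose G acts faithfully and transitively on a set with p ^ r elements, r ≥ 1. Then either G has an irreducible character of p-defect zero, or G is p-solvable and has an irreducible character of 2-defect zero. -/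
theorem result {G Ω : Type*} [Group G] [Finite G] [MulAction G Ω] [FaithfulSMul G Ω] [Fintype Ω] (htr : MulAction.IsPretransitive G Ω) (p : ℕ) [Fact p.Prime] (hp2 : p ≠ 2) (hpG : p ∣ Nat.card G) (h2G : 2 ∣ Nat.card G) (hC : ∀ g : G, g ≠ 1 → (∃ k : ℕ, orderOf g = p ^ k) → Odd (Nat.card ↥(Subgroup.centralizer ({g} : Set G)))) (r : ℕ) (hr : 1 ≤ r) (hΩ : Fintype.card Ω = p ^ r) : (∃ χ : Cfsg.IrrCharacter G, (Cfsg.charDegree (χ : G → ℂ)).factorization p = (Nat.card G).factorization p) ∨ (Cfsg.IsPSolvable p G ∧ ∃ χ : Cfsg.IrrCharacter G, (Cfsg.charDegree (χ : G → ℂ)).factorization 2 = (Nat.card G).factorization 2) := by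
  classical
  have hp : p.Prime := Fact.out
  haveI := htr
  haveI : Fintype G := Fintype.ofFinite G
  haveI : Nonempty Ω := Fintype.card_pos_iff.mp (by rw [hΩ]; exact pow_pos hp.pos r)
  by_cases hdz : ∃ χ : Cfsg.IrrCharacter G, (Cfsg.charDegree (χ : G → ℂ)).factorization p = (Nat.card G).factorization p
  · exact Or.inl hdz
  right
  have hab : ∀ P : Sylow p G, ∀ x ∈ (P : Subgroup G), ∀ y ∈ (P : Subgroup G), x * y = y * x := by
    intro P x hx y hy
    haveI := (((Cfsg.Agent.S4744.result p hp2 hpG h2G hC).resolve_left hdz) P).2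
    exact congrArg Subtype.val (mul_comm' (⟨x, hx⟩ : (P : Subgroup G)) ⟨y, hy⟩)
  have hcent : ∀ g : G, g ≠ 1 → (∃ k : ℕ, orderOf g = p ^ k) → ∀ s : G, orderOf s = 2 → s * g ≠ g * s := by
    intro g hg hgp s hs hc
    have h2 : 2 ∣ Nat.card (Subgroup.centralizer ({g} : Set G)) :=
      hs ▸ Subgroup.orderOf_dvd_natCard _ (Subgroup.mem_centralizer_singleton_iff.mpr hc)
    exact Nat.not_even_iff_odd.mpr (hC g hg hgp) (even_iff_two_dvd.mpr h2)
  have h2p : ∀ g : G, orderOf g ≠ 2 * p := by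
    intro g hg
    have h1 : orderOf (g ^ 2) = p := by
      rw [orderOf_pow, hg, Nat.gcd_eq_right (dvd_mul_right 2 p), Nat.mul_div_cancel_left p two_pos]
    have h2 : orderOf (g ^ p) = 2 := by
      rw [orderOf_pow, hg, Nat.gcd_eq_right (dvd_mul_left p 2), Nat.mul_div_cancel 2 hp.pos]
    exact hcent (g ^ 2) (fun h => hp.ne_one (by rw [← h1, h, orderOf_one])) ⟨1, by rw [h1, pow_one]⟩ _ h2
      ((Commute.refl g).pow_pow p 2).eq
  have hconj : ∀ s t : G, orderOf s = 2 → orderOf t = 2 → IsConj s t :=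
    ((Cfsg.Agent.S4738.result p hp2 (even_iff_two_dvd.mpr h2G) h2p).resolve_left hdz).2
  obtain ⟨P⟩ : Nonempty (Sylow p G) := inferInstance
  obtain ⟨t', ht'⟩ := exists_prime_orderOf_dvd_card' (G := ↥(Subgroup.normalizer ((P : Subgroup G) : Set G))) 2
    (even_iff_two_dvd.mp (((Cfsg.Agent.S4744.result p hp2 hpG h2G hC).resolve_left hdz) P).1)
  have ht : orderOf (t' : G) = 2 := by rw [Subgroup.orderOf_coe, ht']
  set t := (t' : G) with htdef
  have htt := sq_of_orderOf_two ht
  have hnofix : ∀ y ∈ (P : Subgroup G), t * y * t⁻¹ = y → y = 1 := by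
    intro y hy hc
    by_contra hy1
    obtain ⟨k, hk⟩ := IsPGroup.iff_orderOf.mp P.2 ⟨y, hy⟩
    rw [← Subgroup.orderOf_coe] at hk
    exact hcent y hy1 ⟨k, hk⟩ t ht (mul_inv_eq_iff_eq_mul.mp hc)
  have hinv : ∀ x ∈ (P : Subgroup G), t * x * t⁻¹ = x⁻¹ :=
    inverts_of_fpf htt (P : Subgroup G) (fun x hx => (Subgroup.mem_normalizer_iff.mp t'.2 x).mp hx) hnofix
  have hord_conj : ∀ g s : G, orderOf (g * s * g⁻¹) = orderOf s := fun g s =>
    orderOf_injective (MulAut.conj g).toMonoidHom (MulAut.conj g).injective s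
  have hfix : ∀ s : G, orderOf s = 2 → ∃ ω : Ω, s • ω = ω ∧ ∀ ω', s • ω' = ω' → ω' = ω := by
    intro s hs
    obtain ⟨g, hg⟩ := isConj_iff.mp (hconj t s ht hs)
    obtain ⟨ω, hω, huniq⟩ := fix_unique (Ω := Ω) hΩ hp2 P (hab P) hinv
    refine ⟨g • ω, by rw [← hg, ← mul_smul, inv_mul_cancel_right, mul_smul, hω], fun ω' hω' => ?_⟩
    rw [← huniq (g⁻¹ • ω') (by
      conv_rhs => rw [← hω']
      rw [← hg, ← mul_smul, ← mul_smul]; simp [mul_assoc]), smul_inv_smul]
  have hnot : ∀ s : G, orderOf s = 2 → ¬ p ∣ Nat.card (Subgroup.centralizer ({s} : Set G)) := by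
    intro s hs hd
    obtain ⟨w, hw⟩ := exists_prime_orderOf_dvd_card' p hd
    have hwo : orderOf (w : G) = p := by rw [Subgroup.orderOf_coe, hw]
    exact hcent (w : G) (fun h => hp.ne_one (by rw [← hwo, h, orderOf_one])) ⟨1, by rw [hwo, pow_one]⟩ s hs
      (Subgroup.mem_centralizer_singleton_iff.mp w.2).symm
  have hcount : ∀ x : G, x * x ≠ 1 → p ∣ Nat.card {a : G // orderOf a = 2 ∧ a * x * a⁻¹ = x⁻¹} := by
    intro x hx2
    obtain ⟨M, hM⟩ := CfsgLib.Blocks.exists_pModular hp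
    have h := CfsgLib.Blocks.res_pairCount hM (g := t) (h := t) (hnot t ht) x
    rw [Finset.filter_false_of_mem (fun χ _ (hχ : CfsgLib.Blocks.IsDefZero p χ) => hdz ⟨χ, hχ⟩), Finset.sum_empty] at h
    haveI := CfsgLib.Blocks.res_charP hM
    rw [CharP.cast_eq_zero_iff (Cfsg.AlgInt ⧸ M) p] at h
    have h' : p ∣ CfsgLib.Blocks.pairCount t t x := ((Nat.Prime.dvd_mul hp).mp h).resolve_right (hnot t ht)
    have e : CfsgLib.Blocks.pairCount t t x = Nat.card {a : G // orderOf a = 2 ∧ a * x * a⁻¹ = x⁻¹} := by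
      refine Nat.card_congr (Equiv.subtypeEquivRight fun a => ?_)
      have hiff : ∀ b : G, IsConj t b ↔ orderOf b = 2 := fun b => ⟨fun h => by
        obtain ⟨g, rfl⟩ := isConj_iff.mp h
        rw [hord_conj, ht], hconj t b ht⟩
      rw [hiff, hiff]
      refine ⟨fun ⟨ha, hb⟩ => ⟨ha, ?_⟩, fun ⟨ha, hb⟩ => ⟨ha, ?_⟩⟩
      · have hbb := sq_of_orderOf_two hb
        have hainv : a⁻¹ = a := inv_eq_of_mul_eq_one_right (sq_of_orderOf_two ha)
        rw [hainv] at hbb ⊢
        exact eq_inv_of_mul_eq_one_left (by simpa [mul_assoc] using hbb)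
      · have hainv : a⁻¹ = a := inv_eq_of_mul_eq_one_right (sq_of_orderOf_two ha)
        refine orderOf_two (fun h => hx2 ?_) ?_
        · rw [← inv_mul_eq_one.mp h]; exact sq_of_orderOf_two ha
        · rw [hainv] at hb ⊢
          rw [show a * x * (a * x) = (a * x * a) * x by simp only [mul_assoc], hb, inv_mul_cancel]
    rwa [e] at h'
  have hkey : ∀ (u u' : G) (α β γ : Ω), orderOf u = 2 → orderOf u' = 2 → α ≠ β → u • α = β →
      u' • α = β → u • γ = γ → u' • γ = γ := by
    intro u u' α β γ hu hu' hne hα hα' hγ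
    have huu := sq_of_orderOf_two hu
    have hu'u' := sq_of_orderOf_two hu'
    have huinv : u⁻¹ = u := inv_eq_of_mul_eq_one_right huu
    have hu'inv : u'⁻¹ = u' := inv_eq_of_mul_eq_one_right hu'u'
    have hβ : u • β = α := by rw [← hα, ← mul_smul, huu, one_smul]
    have hβ' : u' • β = α := by rw [← hα', ← mul_smul, hu'u', one_smul]
    set x := u' * u with hx
    have hxα : x • α = α := by rw [hx, mul_smul, hα, hβ']
    have hxβ : x • β = β := by rw [hx, mul_smul, hβ, hα']
    by_cases hx2 : x * x = 1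
    · have hx1 : x = 1 := by
        by_contra hx1
        obtain ⟨ω, -, h⟩ := hfix x (orderOf_two hx1 hx2)
        exact hne ((h α hxα).trans (h β hxβ).symm)
      have : u' = u := by rw [← huinv]; exact eq_inv_of_mul_eq_one_left hx1
      rwa [this]
    · refine fix_eq_of_inverted hΩ hab hC hfix hcount hxα hx2 hu hu' ?_ ?_ hγ
      · rw [hx, mul_inv_rev, hu'inv, huinv, mul_assoc, mul_assoc u', huu, mul_one]
      · rw [hx, mul_inv_rev, hu'inv, huinv, ← mul_assoc, hu'u', one_mul]
  -- every involution lies in the coset `t P`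
  let I := {s : G // orderOf s = 2}
  let f : I → Ω := fun s => (hfix s.1 s.2).choose
  have hf : Function.Injective f := fun a b h => Subtype.ext
    (involution_eq_of_fix hfix hkey a.2 b.2 (hfix a.1 a.2).choose_spec.1 (by
      show b.1 • (f a) = f a
      rw [h]; exact (hfix b.1 b.2).choose_spec.1))
  have hodd : ∀ x ∈ (P : Subgroup G), Odd (orderOf x) := by
    intro x hx
    obtain ⟨k, hk⟩ := IsPGroup.iff_orderOf.mp P.2 ⟨x, hx⟩
    rw [← Subgroup.orderOf_coe] at hk
    rw [hk]; exact (hp.odd_of_ne_two hp2).pow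
  let g : ↥(P : Subgroup G) → I := fun a => ⟨t * a, orderOf_two (fun h => by
      have hta : (a : G) = t := by rw [← inv_eq_of_mul_eq_one_right h]; exact inv_eq_of_mul_eq_one_right htt
      have := hodd a a.2
      rw [hta, ht] at this
      exact absurd this (by decide)) (by
      calc t * (a : G) * (t * a) = (t * a * t⁻¹) * (t * t) * a := by group
        _ = 1 := by rw [hinv a a.2, htt, mul_one, inv_mul_cancel])⟩
  have hg : Function.Injective g := fun a b h => Subtype.ext (mul_left_cancel (congrArg Subtype.val h))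
  obtain ⟨htrans, hfree⟩ := sylow_regular (Ω := Ω) hΩ P (hab P)
  let ω₀ : Ω := Classical.arbitrary Ω
  have hcardP : Nat.card (P : Subgroup G) = Nat.card Ω :=
    Nat.card_congr (Equiv.ofBijective (fun z : (P : Subgroup G) => (z : G) • ω₀)
      ⟨fun a b h => Subtype.ext (eq_of_inv_mul_eq_one (hfree _ (mul_mem (inv_mem a.2) b.2) ω₀ (by
          rw [mul_smul, ← show (a : G) • ω₀ = (b : G) • ω₀ from h, inv_smul_smul]))),
        fun ω => by
          obtain ⟨z, hz, hzω⟩ := htrans ω₀ ω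
          exact ⟨⟨z, hz⟩, hzω⟩⟩)
  have hgbij : Function.Bijective g := by
    rw [Nat.bijective_iff_injective_and_card]
    exact ⟨hg, le_antisymm (Nat.card_le_card_of_injective g hg)
      ((Nat.card_le_card_of_injective f hf).trans_eq hcardP.symm)⟩
  have hI : ∀ s : G, orderOf s = 2 → ∃ a ∈ (P : Subgroup G), s = t * a := fun s hs => by
    obtain ⟨a, ha⟩ := hgbij.2 ⟨s, hs⟩
    exact ⟨a, a.2, (congrArg Subtype.val ha).symm⟩
  have hPn : (P : Subgroup G).Normal := ⟨fun a ha y => by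
    obtain ⟨b, hb, hb'⟩ := hI (y * t * y⁻¹) (by rw [hord_conj, ht])
    obtain ⟨c, hc, hc'⟩ := hI (y * (t * a) * y⁻¹) (by rw [hord_conj]; exact (g ⟨a, ha⟩).2)
    have e : y * a * y⁻¹ = (t * b)⁻¹ * (t * c) := by rw [← hb', ← hc']; group
    rw [e, mul_inv_rev, mul_assoc, inv_mul_cancel_left]
    exact mul_mem (inv_mem hb) hc⟩
  haveI := hPn
  refine ⟨⟨2, ![⊥, (P : Subgroup G), ⊤], rfl, rfl, ?_, ?_, ?_⟩, ?_⟩
  · refine Fin.monotone_iff_le_succ.mpr fun i => ?_
    fin_cases i <;> simp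
  · intro i
    fin_cases i <;> simp <;> infer_instance
  · intro i
    fin_cases i
    · left
      obtain ⟨k, hk⟩ := IsPGroup.iff_card.mp P.2
      exact ⟨k, by simpa using hk⟩
    · right
      simpa using ((hp.coprime_iff_not_dvd.mpr P.not_dvd_index).symm)
  -- a character of `2`-defect zero
  letI : CommGroup (P : Subgroup G) :=
    { (inferInstance : Group (P : Subgroup G)) with
      mul_comm := fun a b => Subtype.ext (hab P a a.2 b b.2) }
  haveI : NeZero (Monoid.exponent (P : Subgroup G)) := ⟨Monoid.exponent_ne_zero_of_finite⟩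
  have hPne : (P : Subgroup G) ≠ ⊥ := P.ne_bot_of_dvd_card hpG
  obtain ⟨a, ha⟩ := Subgroup.ne_bot_iff_exists_ne_one.mp hPne
  obtain ⟨l, hl⟩ := CommGroup.exists_apply_ne_one_of_hasEnoughRootsOfUnity (P : Subgroup G) ℂ ha
  have hθ : Cfsg.IsIrrCharacter (P : Subgroup G) (fun z => (l z : ℂ)) := CfsgLib.CharTheory.isIrrCharacter_linear l
  obtain ⟨χ, hχ, hne⟩ := CfsgLib.CharTheory.exists_irr_above hθ
  refine ⟨⟨χ, hχ⟩, ?_⟩
  have hd := CfsgLib.CharTheory.clifford_degree (P : Subgroup G) hχ hθ hne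
  obtain ⟨e, he⟩ := CfsgLib.CharTheory.classInner_char_nat
    (CfsgLib.CharTheory.isCharacter_restrict (CfsgLib.CharTheory.isCharacter_of_irr hχ) (P : Subgroup G))
    (CfsgLib.CharTheory.isCharacter_of_irr hθ)
  set T := CfsgLib.CharTheory.inertia (P : Subgroup G) (fun z => (l z : ℂ)) with hT
  have hTodd : ¬ 2 ∣ Nat.card T := by
    intro h2
    obtain ⟨s', hs'⟩ := exists_prime_orderOf_dvd_card' 2 h2
    have hs : orderOf (s' : G) = 2 := by rw [Subgroup.orderOf_coe, hs']
    obtain ⟨b, hb, hsb⟩ := hI _ hs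
    have hsinv : ∀ z : (P : Subgroup G), (s' : G) * z * (s' : G)⁻¹ = (z : G)⁻¹ := by
      intro z
      rw [hsb, show t * b * z * (t * b)⁻¹ = t * (b * z * b⁻¹) * t⁻¹ by group, hab P b hb z z.2,
        mul_inv_cancel_right, hinv z z.2]
    have hfixl := congrFun ((CfsgLib.CharTheory.mem_inertia (P : Subgroup G)).mp s'.2) a
    have hconjn : CfsgLib.CharTheory.conjNormFun (P : Subgroup G) (s' : G) (fun z => (l z : ℂ)) a =
        (l a⁻¹ : ℂ) := congrArg (fun z => (l z : ℂ)) (Subtype.ext (hsinv a))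
    rw [hconjn] at hfixl
    have h3 : l a⁻¹ = l a := Units.ext hfixl
    rw [map_inv] at h3
    refine hl ((eq_one_of_sq_eq_one_of_odd ?_ ?_ : l a = 1))
    · exact (Subgroup.orderOf_coe a ▸ hodd a a.2).of_dvd_nat (orderOf_map_dvd l a)
    · calc l a * l a = (l a)⁻¹ * l a := by rw [h3]
        _ = 1 := inv_mul_cancel _
  have hdeg : Cfsg.charDegree χ = e * T.index := by
    apply Nat.cast_injective (R := ℂ)
    push_cast
    rw [CfsgLib.Blocks.irr_charDegree_cast ⟨χ, hχ⟩]
    show χ 1 = _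
    rw [hd, he, map_one, Units.val_one, mul_one]
  have hd0 : Cfsg.charDegree χ ≠ 0 := (CfsgLib.Blocks.irr_charDegree_pos ⟨χ, hχ⟩).ne'
  refine le_antisymm ((Nat.factorization_le_iff_dvd hd0 Nat.card_pos.ne').mpr
    (CfsgLib.Blocks.charDegree_dvd_card ⟨χ, hχ⟩) 2) ?_
  show _ ≤ (Cfsg.charDegree χ).factorization 2
  rw [hdeg, ← T.index_mul_card, Nat.factorization_mul T.index_ne_zero_of_finite Nat.card_pos.ne',
    Nat.factorization_mul (left_ne_zero_of_mul (hdeg ▸ hd0)) T.index_ne_zero_of_finite]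
  have hz := Nat.factorization_eq_zero_of_not_dvd hTodd
  simp only [Finsupp.add_apply]
  omega


end Cfsg.Agent.S4745
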