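import Cfsg.Statements.S4746
import Cfsg.Agent.Lib.Blocks.DefectZeroProducts

set_option autoImplicit false
open Cfsg CfsgLib.CharTheory CfsgLib.Blocks
open scoped ComplexConjugate

set_option linter.unusedVariables false

namespace Cfsg.Agent.S4746

/-- Let p be an odd prime and G a finite group of even order divisible by p in which the centralizer of every non-identity p-element has odd order. Then G has an irreducible character of p-defect zero or an irreducible character of even degree. -/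
theorem result {G : Type*} [Group G] [Finite G] (p : ℕ) [Fact p.Prime] (hp2 : p ≠ 2) (hpG : p ∣ Nat.card G) (h2G : 2 ∣ Nat.card G) (hC : ∀ g : G, g ≠ 1 → (∃ k : ℕ, orderOf g = p ^ k) → Odd (Nat.card ↥(Subgroup.centralizer ({g} : Set G)))) : (∃ χ : Cfsg.IrrCharacter G, (Cfsg.charDegree (χ : G → ℂ)).factorization p = (Nat.card G).factorization p) ∨ ∃ χ : Cfsg.IrrCharacter G, Even (Cfsg.charDegree (χ : G → ℂ)) := by
  classical
  haveI := Fintype.ofFinite G
  by_cases hd : ∃ χ : IrrCharacter G, IsDefZero p χ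
  · exact Or.inl hd
  push Not at hd
  refine Or.inr (by_contra fun heven => ?_)
  push Not at heven
  obtain ⟨M, hM⟩ := exists_pModular (Fact.out : p.Prime)
  obtain ⟨t, ht⟩ := exists_prime_orderOf_dvd_card' 2 h2G
  have hmodd : ∀ g : G, g ≠ 1 → (∃ k : ℕ, orderOf g = p ^ k) →
      ¬ 2 ∣ Nat.card (Subgroup.centralizer ({g} : Set G)) := fun g h1 h2 h =>
    (Nat.not_even_iff_odd.2 (hC g h1 h2)) (even_iff_two_dvd.2 h)
  have hpC : ¬ p ∣ Nat.card (Subgroup.centralizer ({t} : Set G)) := by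
    intro hdvd
    obtain ⟨g, hg⟩ := exists_prime_orderOf_dvd_card' p hdvd
    have hgo : orderOf (g : G) = p := (Subgroup.orderOf_coe g).trans hg
    refine hmodd (g : G) (fun h => (Fact.out : p.Prime).ne_one ?_) ⟨1, by rw [hgo, pow_one]⟩ ?_
    · rw [← hgo, h, orderOf_one]
    have htC : t ∈ Subgroup.centralizer ({(g : G)} : Set G) := by
      rw [Subgroup.mem_centralizer_singleton_iff]
      exact (Subgroup.mem_centralizer_singleton_iff.1 g.2).symm
    exact (dvd_of_eq (ht.symm.trans (Subgroup.orderOf_mk t htC).symm)).trans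
      (orderOf_dvd_natCard _)
  obtain ⟨g, h, hg, hh, hne, hk⟩ := exists_quotient_pElement hM hpG hpC hd
  have hinv : ∀ a : G, IsConj t a → a * a = 1 := by
    intro a ha
    obtain ⟨c, rfl⟩ := isConj_iff.1 ha
    have : t * t = 1 := by rw [← sq, ← ht]; exact pow_orderOf_eq_one t
    rw [show c * t * c⁻¹ * (c * t * c⁻¹) = c * (t * t) * c⁻¹ by group, this]
    group
  set z := g * h⁻¹ with hzdef
  have hreal : IsConj z z⁻¹ := by
    refine isConj_iff.2 ⟨g, ?_⟩
    have e1 : g⁻¹ = g := inv_eq_of_mul_eq_one_right (hinv g hg)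
    have e2 : h⁻¹ = h := inv_eq_of_mul_eq_one_right (hinv h hh)
    rw [hzdef, e1, e2, mul_inv_rev, e1, e2,
      show g * (g * h) * g = g * g * (h * g) by simp only [mul_assoc], hinv g hg, one_mul]
  haveI : Fact (Nat.Prime 2) := ⟨Nat.prime_two⟩
  obtain ⟨M₂, hM₂⟩ := exists_pModular Nat.prime_two
  haveI := res_isDomain hM₂
  haveI := res_charP hM₂
  haveI : ExpChar (AlgInt ⧸ M₂) 2 := ExpChar.prime Nat.prime_two
  have hone : ∀ χ : IrrCharacter G, res hM₂ ((χ : G → ℂ) 1) = 1 := by
    intro χ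
    rw [← irr_charDegree_cast, res_natCast]
    obtain ⟨j, hj⟩ := Nat.not_even_iff_odd.1 (heven χ)
    rw [hj, Nat.cast_add, Nat.cast_mul, show ((2 : ℕ) : AlgInt ⧸ M₂) = 0 from CharP.cast_eq_zero _ 2,
      zero_mul, zero_add, Nat.cast_one]
  have hS : ∑ χ : IrrCharacter G, res hM₂ ((χ : G → ℂ) z) = 0 := by
    have h1 := sum_irr_mul_conj z 1
    rw [if_neg (fun hc : IsConj z 1 => hne (isConj_one_left.1 hc))] at h1
    have h2 := congrArg (res hM₂) h1
    rw [res_zero, res_sum hM₂ fun χ _ => (loc hM₂).mul_mem (memRing_irr hM₂ χ z)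
      (by rw [irr_conjInv]; exact memRing_irr hM₂ χ _)] at h2
    rw [← h2]
    refine Finset.sum_congr rfl fun χ _ => ?_
    rw [irr_one_conj, res_mul hM₂ (memRing_irr hM₂ χ z) (memRing_irr hM₂ χ 1), hone, mul_one]
  have h3 := sum_irr_mul_conj z z
  rw [if_pos (IsConj.refl z)] at h3
  have h4 := congrArg (res hM₂) h3
  rw [res_natCast, res_sum hM₂ fun χ _ => (loc hM₂).mul_mem (memRing_irr hM₂ χ z)
      (by rw [irr_conjInv]; exact memRing_irr hM₂ χ _),
    Finset.sum_congr rfl fun (χ : IrrCharacter G) _ => show res hM₂ ((χ : G → ℂ) z * conj ((χ : G → ℂ) z)) =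
      res hM₂ ((χ : G → ℂ) z) ^ 2 by
      rw [irr_conjInv, ← classFun_eq_of_isConj (isClassFunction_irr χ.2) hreal,
        res_mul hM₂ (memRing_irr hM₂ χ z) (memRing_irr hM₂ χ z), sq],
    ← sum_pow_char 2, hS, zero_pow two_ne_zero, eq_comm, CharP.cast_eq_zero_iff _ 2] at h4
  exact hmodd z hne hk h4

end Cfsg.Agent.S4746
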