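import Cfsg.Statements.S4750
import Cfsg.Agent.Lib.CharTheory.SemiregularFixed
import Cfsg.Agent.Lib.CharTheory.More
import Cfsg.Agent.Lib.CharTheory.Irr
import Cfsg.Agent.Lib.CharTheory.Clifford
import Cfsg.Agent.Lib.CharTheory.CoherenceExt

set_option autoImplicit false
open scoped Pointwise
open Cfsg CfsgLib.CharTheory CfsgLib.CharTheory.SemiregularFixed
open scoped ComplexConjugate

set_option linter.unusedVariables false

namespace Cfsg.Agent.S4750

/-- Let P be a Sylow p-subgroup of the finite group G that meets each conjugate g P g⁻¹ with g outside N_G(P) trivially, χ a character of G with χ(1)² ≤ |P|, and H a subgroup of G containing N_G(P). Then the inner product of χ with itself over G equals the inner product over H of the restriction of χ to H. -/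
theorem result {G : Type*} [Group G] [Fintype G] [DecidableEq G] (p : ℕ) [Fact p.Prime] (P : Sylow p G) (hTI : ∀ g : G, g ∉ Subgroup.normalizer ((P : Subgroup G) : Set G) → (P : Subgroup G) ⊓ (MulAut.conj g • (P : Subgroup G)) = ⊥) (χ : G → ℂ) (hχ : Cfsg.IsCharacter G χ) (hdeg : Cfsg.charDegree χ ^ 2 ≤ Nat.card ↥(P : Subgroup G)) (H : Subgroup G) [Fintype ↥H] (hH : Subgroup.normalizer ((P : Subgroup G) : Set G) ≤ H) : Cfsg.classInner χ χ = Cfsg.classInner (fun h : ↥H => χ h) (fun h : ↥H => χ h) := by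
  classical
  have hX : IsCharacter G (χ * fun g => conj (χ g)) := isCharacter_mul hχ (isCharacter_conj hχ)
  have hPH : (P : Subgroup G) ≤ H := (Subgroup.le_normalizer).trans hH
  have hsemi : ∀ g : G, g ∉ H → ∀ u ∈ (P : Subgroup G), g⁻¹ * u * g ∈ H → u = 1 := by
    intro g hg u hu hmem
    have hp' : IsPGroup p (Subgroup.zpowers (⟨g⁻¹ * u * g, hmem⟩ : H)) := by
      obtain ⟨k, hk⟩ := P.2 ⟨u, hu⟩
      have hk' : u ^ p ^ k = 1 := congrArg Subtype.val hk
      have ho : orderOf (⟨g⁻¹ * u * g, hmem⟩ : H) ∣ p ^ k := orderOf_dvd_of_pow_eq_one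
        (Subtype.ext (by
          show (g⁻¹ * u * g) ^ p ^ k = 1
          have hc : (g⁻¹ * u * g) ^ p ^ k = g⁻¹ * u ^ p ^ k * g := by
            simpa using (conj_pow (a := g⁻¹) (b := u) (i := p ^ k))
          rw [hc, hk', mul_one, inv_mul_cancel]))
      obtain ⟨j, -, hj⟩ := (Nat.dvd_prime_pow Fact.out).1 ho
      exact IsPGroup.of_card (n := j) (by rw [Nat.card_zpowers, hj])
    obtain ⟨S, hS⟩ := hp'.exists_le_sylow
    obtain ⟨h, hh⟩ := MulAction.exists_smul_eq H S (P.subtype hPH)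
    have h1 : h * (⟨g⁻¹ * u * g, hmem⟩ : H) * h⁻¹ ∈ ((P.subtype hPH : Sylow p H) : Subgroup H) := by
      rw [← hh]
      exact Subgroup.smul_mem_pointwise_smul _ (MulAut.conj h) _ (hS (Subgroup.mem_zpowers _))
    have h2 : (h : G) * (g⁻¹ * u * g) * (h : G)⁻¹ ∈ (P : Subgroup G) := h1
    by_contra hu1
    have hn : g * (h : G)⁻¹ ∉ Subgroup.normalizer ((P : Subgroup G) : Set G) := fun hmem' => hg (by
      simpa using H.mul_mem (hH hmem') h.2)
    have h3 : u ∈ (P : Subgroup G) ⊓ (MulAut.conj (g * (h : G)⁻¹) • (P : Subgroup G)) := by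
      refine ⟨hu, ?_⟩
      have h4 := Subgroup.smul_mem_pointwise_smul _ (MulAut.conj (g * (h : G)⁻¹)) _ h2
      have e : MulAut.conj (g * (h : G)⁻¹) • ((h : G) * (g⁻¹ * u * g) * (h : G)⁻¹) = u := by
        show (g * (h : G)⁻¹) * ((h : G) * (g⁻¹ * u * g) * (h : G)⁻¹) * (g * (h : G)⁻¹)⁻¹ = u
        group
      exact e ▸ h4
    rw [hTI _ hn] at h3
    exact hu1 (Subgroup.mem_bot.1 h3)
  obtain ⟨n, ρ, hρ⟩ := id hX
  have e1 : Cfsg.classInner χ χ = (Module.finrank ℂ ρ.invariants : ℂ) := by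
    rw [← finrank_invariants ρ, hρ]; rfl
  have e2 : Cfsg.classInner (fun h : H => χ h) (fun h : H => χ h) = (Module.finrank ℂ
      (Representation.invariants (ρ.comp H.subtype : Representation ℂ H (Fin n → ℂ))) : ℂ) := by
    rw [← finrank_invariants (ρ.comp H.subtype : Representation ℂ H (Fin n → ℂ))]
    refine congrArg _ (Finset.sum_congr rfl fun x _ => ?_)
    exact (congrFun hρ (x : G)).symm
  obtain ⟨d, hd⟩ := char_one_eq_natCast hχ
  by_cases hd0 : d = 0
  · have h0 : χ = 0 := eq_zero_of_degree_zero hχ (by rw [hd, hd0, Nat.cast_zero])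
    subst h0
    simp [Cfsg.classInner]
  have hne : ρ.invariants ≠ ⊥ := by
    intro hb
    rw [hb, finrank_bot, Nat.cast_zero] at e1
    obtain ⟨r, -, hr, hz⟩ := classInner_self_nonneg_real χ
    rw [hr, Complex.ofReal_eq_zero] at e1
    exact hd0 (by
      have := congrFun (hz e1) 1
      rw [hd, Pi.zero_apply] at this
      exact_mod_cast this)
  have hn : n ≤ Nat.card (P : Subgroup G) := by
    refine le_trans (le_of_eq ?_) hdeg
    have h1 := congrFun hρ 1
    rw [Representation.char_one, Module.finrank_fin_fun, Pi.mul_apply, hd, Complex.conj_natCast] at h1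
    have hcd : Cfsg.charDegree χ = d := by simp [Cfsg.charDegree, hd]
    rw [hcd, sq]
    exact_mod_cast h1
  rw [e1, e2, finrank_invariants_eq ρ P.2 hPH hsemi hne hn]

end Cfsg.Agent.S4750
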