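import Cfsg.Statements.S4752
import Cfsg.Agent.Lib.Blocks.ThreeExtra.Invariants
import Cfsg.Agent.Lib.Blocks.ThreeExtra.One

set_option autoImplicit false
open Cfsg CfsgLib.Blocks.ThreeExtra

namespace Cfsg.Agent.S4752

/-- Let G be a finite group whose Sylow 3-subgroup P is extraspecial of order 27 and exponent 3, with N_G(P) ≤ C_G(Z(P)), and let M be a maximal ideal of the algebraic integers containing 3, B the principal 3-block of G, k its number of irreducible characters, k₀ the number of those of height zero, l its 3-regular rank (number of irreducible Brauer characters), and e the index of P·C_G(P) in N_G(P) (the order of the inertial quotient). Then e = 1 gives (k, k₀, l) = (11, 9, 1); e = 2 gives (10, 6, 2); e = 4 gives (14, 6, 4); e = 8 gives (16, 6, 5). -/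
theorem result {G : Type*} [Group G] [Finite G] (P : Sylow 3 G) (hE : Cfsg.IsExtraspecial 3 ↥(P : Subgroup G)) (h27 : Nat.card ↥(P : Subgroup G) = 27) (hexp : ∀ x ∈ (P : Subgroup G), x ^ 3 = 1) (hNC : ∀ g ∈ Subgroup.normalizer ((P : Subgroup G) : Set G), ∀ z ∈ (P : Subgroup G), (∀ y ∈ (P : Subgroup G), z * y = y * z) → g * z = z * g) (M : Ideal Cfsg.AlgInt) (hM : Cfsg.IsPModular 3 M) (k k₀ l e : ℕ) (hk : Nat.card ↥(Cfsg.principalBlock M G) = k) (hk₀ : Nat.card {χ : Cfsg.IrrCharacter G // χ ∈ Cfsg.principalBlock M G ∧ Cfsg.blockHeight 3 (Cfsg.principalBlock M G) (χ : G → ℂ) = 0} = k₀) (hl : Cfsg.blockRank 3 (Cfsg.principalBlock M G) = l) (he : ((P : Subgroup G) ⊔ Subgroup.centralizer ((P : Subgroup G) : Set G)).relIndex (Subgroup.normalizer ((P : Subgroup G) : Set G)) = e) : (e = 1 → k = 11 ∧ k₀ = 9 ∧ l = 1) ∧ (e = 2 → k = 10 ∧ k₀ = 6 ∧ l = 2) ∧ (e = 4 → k = 14 ∧ k₀ = 6 ∧ l = 4) ∧ (e = 8 → k = 16 ∧ k₀ = 6 ∧ l = 5) := by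
  classical
  haveI := Fintype.ofFinite G
  obtain ⟨⟨-, -, hcomm⟩, hcard⟩ := hE
  have : Nontrivial (Subgroup.center (P : Subgroup G)) :=
    Finite.one_lt_card_iff_nontrivial.1 (by rw [hcard]; norm_num)
  obtain ⟨⟨⟨z, hzP⟩, hzc⟩, hz1⟩ := exists_ne (1 : Subgroup.center (P : Subgroup G))
  have hne : z ≠ 1 := fun h => hz1 (Subtype.ext (Subtype.ext h))
  have hcent : ∀ y ∈ (P : Subgroup G), z * y = y * z := fun y hy =>
    congrArg Subtype.val ((Subgroup.mem_center_iff.1 hzc ⟨y, hy⟩).symm)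
  have hzo : orderOf z = 3 := by
    haveI : Fact (Nat.Prime 3) := ⟨Nat.prime_three⟩
    exact orderOf_eq_prime (hexp z hzP) hne
  have hzp : Subgroup.zpowers (⟨z, hzP⟩ : (P : Subgroup G)) = Subgroup.center (P : Subgroup G) := by
    refine Subgroup.eq_of_le_of_card_ge (Subgroup.zpowers_le.2 hzc) (le_of_eq ?_)
    rw [hcard, Nat.card_zpowers, ← Subgroup.orderOf_coe, hzo]
  have hin : ∀ v : (P : Subgroup G), v ∈ Subgroup.center (P : Subgroup G) →
      (v : G) ∈ Subgroup.zpowers z := by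
    intro v hv
    rw [← hzp] at hv
    obtain ⟨i, rfl⟩ := Subgroup.mem_zpowers_iff.1 hv
    exact Subgroup.mem_zpowers_iff.2 ⟨i, by simp⟩
  have S : Setup P z := ⟨h27, hexp, hzP, hne, hcent,
    fun v hv h => hin ⟨v, hv⟩ (Subgroup.mem_center_iff.2 fun y => Subtype.ext (h y y.2).symm),
    fun a ha b hb => by
      have h := Subgroup.commutator_mem_commutator
        (Subgroup.mem_top (⟨a, ha⟩ : (P : Subgroup G))) (Subgroup.mem_top (⟨b, hb⟩ : (P : Subgroup G)))
      rw [← commutator_def, hcomm] at h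
      simpa [commutatorElement_def] using hin _ h,
    fun n hn => hNC n hn z hzP hcent⟩
  have hei : eidx P = e := he
  haveI := Fintype.ofFinite (Hz z)
  obtain ⟨X, hX, hXcard, huniq⟩ := S.exists_classes
  rw [hei] at hXcard
  subst hk hk₀ hl
  refine ⟨fun h1 => ?_, fun h2 => ?_, fun h4 => ?_, fun h8 => ?_⟩
  · exact invariants_one S hM (hei.trans h1)
  all_goals
    have heven : Even (eidx P) := by
      rw [hei]
      first
      | (rw [h2]; decide)
      | (rw [h4]; decide)
      | (rw [h8]; decide)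
    have hx : Reps P z (fun r : X => (r : G)) :=
      ⟨fun r => hX r r.2,
        fun u hu => by
          obtain ⟨y, ⟨hy, hc⟩, -⟩ := huniq u hu
          exact ⟨⟨y, hy⟩, hc⟩,
        fun r t h => Subtype.ext ((huniq r (hX r r.2)).unique ⟨r.2, IsConj.refl _⟩ ⟨t.2, h⟩),
        fun u hu => S.isConj_inv heven hu⟩
    have hR : ¬ 3 ∣ Fintype.card X := by
      rw [Fintype.card_coe]
      intro h
      obtain ⟨a, ha⟩ := h
      rw [ha, mul_assoc] at hXcard
      omega
    obtain ⟨i1, i2, i3⟩ := invariants S hx hM hR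
    rw [Fintype.card_coe] at i1 i3
    first
    | (subst h2; exact ⟨by omega, i2, by omega⟩)
    | (subst h4; exact ⟨by omega, i2, by omega⟩)
    | (subst h8; exact ⟨by omega, i2, by omega⟩)

end Cfsg.Agent.S4752
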