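import Cfsg.Statements.S4755
import Cfsg.Agent.Lib.CharTheory.More2

set_option autoImplicit false
open Cfsg

namespace Cfsg.Agent.S4755

open scoped commutatorElement

/-- Let x, y be non-identity elements of the finite group G such that χ(x' y') = χ(x') χ(y') for all conjugates x' of x, y' of y and every irreducible character χ. Then the conjugacy class of x y is the set of all products of a conjugate of x with a conjugate of y; every irreducible character of degree greater than 1 vanishes at x y; and the conjugacy class of x y is the coset of the commutator subgroup containing x y. -/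
theorem result {G : Type*} [Group G] [Finite G] (x y : G) (hx : x ≠ 1) (hy : y ≠ 1) (h : ∀ (a b : G) (χ : Cfsg.IrrCharacter G), (χ : G → ℂ) (a * x * a⁻¹ * (b * y * b⁻¹)) = (χ : G → ℂ) (a * x * a⁻¹) * (χ : G → ℂ) (b * y * b⁻¹)) : (∀ z : G, IsConj (x * y) z ↔ ∃ a b : G, z = a * x * a⁻¹ * (b * y * b⁻¹)) ∧ (∀ χ : Cfsg.IrrCharacter G, (χ : G → ℂ) 1 ≠ 1 → (χ : G → ℂ) (x * y) = 0) ∧ (∀ z : G, IsConj (x * y) z ↔ (x * y)⁻¹ * z ∈ commutator G) := by
  classical
  have := Fintype.ofFinite G
  have hcf : ∀ (χ : Cfsg.IrrCharacter G) (a u : G), (χ : G → ℂ) (a * u * a⁻¹) = (χ : G → ℂ) u :=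
    fun χ a u => CfsgLib.CharTheory.isClassFunction_irr χ.2 u a
  have hval : ∀ χ : Cfsg.IrrCharacter G,
      (χ : G → ℂ) (x * y) = (χ : G → ℂ) x * (χ : G → ℂ) y := fun χ => by
    have h1 := h 1 1 χ
    simpa using h1
  have hA := CfsgLib.CharTheory.class_mul_of_const (x := x) (y := y) fun a b χ => by
    rw [h a b χ, hcf χ a x, hcf χ b y, hval χ]
  have hB : ∀ χ : Cfsg.IrrCharacter G, (χ : G → ℂ) 1 ≠ 1 → (χ : G → ℂ) (x * y) = 0 := by
    intro χ hne
    have h1 := CfsgLib.CharTheory.class_mul_value hA χ.2 1 1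
    simp only [one_mul, inv_one, mul_one] at h1
    rw [← hval χ] at h1
    have h2 : ((χ : G → ℂ) 1 - 1) * (χ : G → ℂ) (x * y) = 0 := by linear_combination h1
    exact (mul_eq_zero.mp h2).resolve_left (sub_ne_zero.mpr hne)
  refine ⟨hA, hB, ?_⟩
  set u := x * y with hu
  have hcent : (Nat.card (Subgroup.centralizer ({u} : Set G)) : ℂ) = ((commutator G).index : ℂ) := by
    have h1 := CfsgLib.CharTheory.sum_irr_mul_conj u u
    rw [if_pos (IsConj.refl u)] at h1
    rw [← h1, ← Finset.sum_filter_add_sum_filter_not Finset.univ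
      (fun χ : Cfsg.IrrCharacter G => (χ : G → ℂ) 1 = 1),
      Finset.sum_eq_zero (s := Finset.univ.filter fun χ : Cfsg.IrrCharacter G => ¬ (χ : G → ℂ) 1 = 1)
        (fun χ hχ => by rw [hB χ (Finset.mem_filter.mp hχ).2, zero_mul]), add_zero]
    rw [Finset.sum_congr rfl fun χ (hχ : χ ∈ Finset.univ.filter
      fun χ : Cfsg.IrrCharacter G => (χ : G → ℂ) 1 = 1) => show _ = (1 : ℂ) by
        obtain ⟨f, hf⟩ := CfsgLib.CharTheory.exists_hom_of_degree_one
          (CfsgLib.CharTheory.isCharacter_of_irr χ.2) (Finset.mem_filter.mp hχ).2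
        have hfin : ((f u : ℂ)) ^ orderOf u = 1 := by
          rw [← Units.val_pow_eq_pow_val, ← map_pow, pow_orderOf_eq_one, map_one, Units.val_one]
        rw [hf, Complex.mul_conj, Complex.normSq_eq_norm_sq,
          Complex.norm_eq_one_of_pow_eq_one hfin (orderOf_pos u).ne']
        norm_num]
    rw [Finset.sum_const, nsmul_eq_mul, mul_one, ← CfsgLib.CharTheory.card_linear,
      Nat.card_eq_fintype_card, Fintype.card_subtype]
  rw [Nat.cast_inj] at hcent
  have hsub : {z : G | IsConj u z} ⊆ {z : G | u⁻¹ * z ∈ commutator G} := fun z hz => by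
    obtain ⟨k, rfl⟩ := isConj_iff.mp hz
    show u⁻¹ * (k * u * k⁻¹) ∈ commutator G
    rw [show u⁻¹ * (k * u * k⁻¹) = ⁅u⁻¹, k⁆ by rw [commutatorElement_def]; group]
    exact Subgroup.commutator_mem_commutator (Subgroup.mem_top _) (Subgroup.mem_top _)
  have heq : {z : G | IsConj u z} = {z : G | u⁻¹ * z ∈ commutator G} := by
    refine Set.eq_of_subset_of_ncard_le hsub (le_of_eq ?_) (Set.toFinite _)
    have h1 : {z : G | u⁻¹ * z ∈ commutator G}.ncard = Nat.card (commutator G) := by
      rw [← Nat.card_coe_set_eq]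
      exact Nat.card_congr ((Equiv.mulLeft u⁻¹).subtypeEquiv fun z => Iff.rfl)
    have h2 := CfsgLib.CharTheory.card_isConj_mul_card_centralizer u
    rw [hcent, ← Subgroup.card_mul_index (commutator G)] at h2
    rw [h1, ← Nat.card_coe_set_eq]
    exact (Nat.eq_of_mul_eq_mul_right (Nat.pos_of_ne_zero Subgroup.index_ne_zero_of_finite) h2).symm
  exact fun z => Set.ext_iff.mp heq z

end Cfsg.Agent.S4755
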