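import Cfsg.Statements.S4758
import Cfsg.Agent.Lib.FourGap.Main
import Cfsg.Agent.Lib.SLCard
import Cfsg.Agent.S0494
import Cfsg.Agent.S3378

set_option autoImplicit false
open Cfsg

namespace Cfsg.Agent.S4758

/-- Let u ≠ 1 be an element of the finite group G such that every non-principal irreducible character χ satisfies χ(1) − χ(u) = 4 or χ(u) = 0. Then O(G), the largest normal subgroup of odd order, is abelian, and either G ⧸ O(G) ≅ PSL₂(5) and u is an involution, or G ⧸ O(G) ≅ SL₂(5) and u has order 4. -/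
theorem result {G : Type*} [Group G] [Finite G] (u : G) (hu : u ≠ 1) (hyp : ∀ χ : Cfsg.IrrCharacter G, (χ : G → ℂ) ≠ (fun _ => (1 : ℂ)) → ((χ : G → ℂ) 1 - (χ : G → ℂ) u = 4 ∨ (χ : G → ℂ) u = 0)) : IsMulCommutative ↥(Cfsg.oddCore G) ∧ ((Nonempty (G ⧸ Cfsg.oddCore G ≃* Matrix.ProjectiveSpecialLinearGroup (Fin 2) (ZMod 5)) ∧ orderOf u = 2) ∨ (Nonempty (G ⧸ Cfsg.oddCore G ≃* Matrix.SpecialLinearGroup (Fin 2) (ZMod 5)) ∧ orderOf u = 4)) := by
  classical
  haveI := Fintype.ofFinite G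
  haveI : Fact (Nat.Prime 5) := ⟨Nat.prime_five⟩
  have hg : CfsgLib.FourGap.Gap u := ⟨hu, hyp⟩
  obtain ⟨Q, iQ, fQ, φ, b⟩ := hg.exists_base
  haveI := b.simple
  by_cases hu2 : u * u = 1
  · have hker := b.ker_eq_bot hu2
    let e : G ≃* Q := MulEquiv.ofBijective φ ⟨(MonoidHom.ker_eq_bot_iff φ).1 hker, b.surj⟩
    haveI : Nontrivial G := e.symm.injective.nontrivial
    haveI : IsSimpleGroup G := IsSimpleGroup.isSimpleGroup_of_surjective e.symm.toMonoidHom e.symm.surjective
    have h60 : Nat.card G = 60 := (Nat.card_congr e.toEquiv).trans b.card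
    have hO : Cfsg.oddCore G = ⊥ := by
      rcases Subgroup.Normal.eq_bot_or_eq_top (inferInstance : (Cfsg.oddCore G).Normal) with h | h
      · exact h
      · have := CfsgLib.odd_card_oddCore (G := G)
        rw [h, Subgroup.card_top, h60] at this
        exact absurd this (by decide)
    refine ⟨⟨⟨fun a c => Subtype.ext ?_⟩⟩, Or.inl ⟨?_, orderOf_eq_prime ((sq u).trans hu2) hu⟩⟩
    · have ha : (a : G) = 1 := Subgroup.mem_bot.1 (hO ▸ a.2)
      simp [ha]
    · haveI : IsSimpleGroup (Matrix.ProjectiveSpecialLinearGroup (Fin 2) (ZMod 5)) :=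
        Matrix.ProjectiveSpecialLinearGroup.rank_two_simple (by rw [Nat.card_zmod]; norm_num)
      have hpsl : Nat.card (Matrix.ProjectiveSpecialLinearGroup (Fin 2) (ZMod 5)) = 60 := by
        have h5 := CfsgLib.SLCard.gcd_mul_card_PSL (F := ZMod 5) (n := 2) (by norm_num)
        rw [CfsgLib.SLCard.card_SL_two, ZMod.card] at h5
        norm_num at h5
        rw [Nat.card_eq_fintype_card]
        omega
      obtain ⟨e1⟩ := Cfsg.Agent.S0494.result h60
      obtain ⟨e2⟩ := Cfsg.Agent.S0494.result hpsl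
      exact ⟨((QuotientGroup.quotientMulEquivOfEq hO).trans QuotientGroup.quotientBot).trans (e1.trans e2.symm)⟩
  · obtain ⟨hab, ho, h120, hON, hsyl⟩ := b.not_involution hu2
    refine ⟨hab, Or.inr ⟨?_, ho⟩⟩
    refine Cfsg.Agent.S3378.result.1 _ h120 (fun hs => ?_) hsyl
    let ψ : G ⧸ Cfsg.oddCore G →* Q := QuotientGroup.lift _ φ hON
    have hψ : Function.Surjective ψ := fun q => by
      obtain ⟨g, hg⟩ := b.surj q
      exact ⟨(g : G ⧸ Cfsg.oddCore G), hg⟩
    haveI : Group.IsSolvable Q := solvable_of_surjective hψ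
    exact (Group.IsSolvable.commutator_lt_top_of_nontrivial Q).ne b.gapQ.perfect

end Cfsg.Agent.S4758
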