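import Cfsg.Statements.S4759
import Cfsg.Agent.Lib.CharTheory.ExtraTwoExt.Main
import Cfsg.Agent.Lib.CharTheory.PrimeSeparation

set_option autoImplicit false
open Cfsg CfsgLib.ExtraTwo CfsgLib.ExtraTwoExt CfsgLib.CharTheory
open scoped ComplexConjugate commutatorElement

namespace Cfsg.Agent.S4759

theorem eq_of_faithful {E : Type*} [Group E] [Finite E] {z : E} (h : Ext2 E z) {θ : E → ℂ}
    (hθ : IsIrrCharacter E θ) (hf : θ z ≠ θ 1) :
    θ z = -θ 1 ∧ 2 * θ 1 ^ 2 = (Nat.card E : ℂ) := by
  haveI := Fintype.ofFinite E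
  have key : ∀ y, θ (z * y) = θ z * θ y / θ 1 := fun y => by
    have := sum_conj_mul_char hθ z y
    rw [Finset.sum_congr rfl (fun a _ => show θ (a * z * a⁻¹ * y) = θ (z * y) by
      rw [(h.z_comm a).eq, mul_inv_cancel_right]), Finset.sum_const, Finset.card_univ, nsmul_eq_mul,
      ← Nat.card_eq_fintype_card, mul_div_assoc] at this
    exact mul_left_cancel₀ (Nat.cast_ne_zero.mpr Nat.card_pos.ne') this
  have hz : θ z = -θ 1 := by
    have h1 := key z
    rw [h.zz, eq_div_iff (irr_ne_zero hθ)] at h1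
    exact (mul_self_eq_mul_self_iff.mp h1.symm).resolve_left hf
  refine ⟨hz, ?_⟩
  have hv : ∀ e, e ≠ 1 ∧ e ≠ z → θ e = 0 := fun e he =>
    vanish h (MonoidHom.id E) (isCharacter_of_irr hθ) hz he
  have h1 := sum_mul_conj_irr hθ
  rw [sum_eq_two h _ (fun e he => by rw [hv e he, zero_mul]), hz] at h1
  obtain ⟨d, -, hd⟩ := irr_degree_pos hθ
  rw [hd] at h1 ⊢
  simp only [map_neg, Complex.conj_natCast, neg_mul_neg] at h1
  linear_combination h1

theorem value_unique {E : Type*} [Group E] [Finite E] {z : E} (h : Ext2 E z) {a b : E → ℂ}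
    (ha : IsCharacter E a) (hb : IsCharacter E b) (haz : a z = -a 1) (hbz : b z = -b 1)
    (had : 2 * a 1 ^ 2 = (Nat.card E : ℂ)) (hbd : 2 * b 1 ^ 2 = (Nat.card E : ℂ)) : a = b := by
  haveI := Fintype.ofFinite E
  obtain ⟨m, hm⟩ := char_one_eq_natCast ha
  obtain ⟨n, hn⟩ := char_one_eq_natCast hb
  have h1 : a 1 = b 1 := by
    rw [hm, hn]
    rw [← hbd, hm, hn] at had
    have h2 : 2 * m ^ 2 = 2 * n ^ 2 := by exact_mod_cast had
    rw [Nat.pow_left_injective two_ne_zero (mul_left_cancel₀ two_ne_zero h2)]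
  funext e
  by_cases he : e ≠ 1 ∧ e ≠ z
  · rw [show a e = 0 from vanish h (MonoidHom.id E) ha haz he, show b e = 0 from vanish h (MonoidHom.id E) hb hbz he]
  · rw [not_and_or, not_not, not_not] at he
    rcases he with rfl | rfl
    · exact h1
    · rw [haz, hbz, h1]

/-- Let G be a finite group that is the semidirect product of a normal extraspecial 2-subgroup E and a complement H acting faithfully on E (no non-identity element of H centralizes E), and suppose H has a normal subgroup K of odd order with [E, K] = E. Then every faithful irreducible character θ of E (there is exactly one) extends to G: some irreducible character of G restricts to θ on E. -/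
theorem result {G : Type*} [Group G] [Finite G] (E H : Subgroup G) [E.Normal] (hE : Cfsg.IsExtraspecial 2 ↥E) (hEH : E ⊓ H = ⊥) (hEHtop : E ⊔ H = ⊤) (hfaith : ∀ h ∈ H, (∀ e ∈ E, h * e = e * h) → h = 1) (K : Subgroup G) (hKH : K ≤ H) (hKn : ∀ h ∈ H, ∀ k ∈ K, h * k * h⁻¹ ∈ K) (hKodd : Odd (Nat.card ↥K)) (hEK : ⁅E, K⁆ = E) (θ : Cfsg.IrrCharacter ↥E) (hθ : ∀ e : ↥E, (θ : ↥E → ℂ) e = (θ : ↥E → ℂ) 1 → e = 1) : ∃ χ : Cfsg.IrrCharacter G, ∀ e : ↥E, (χ : G → ℂ) e = (θ : ↥E → ℂ) e := by
  classical
  haveI := Fintype.ofFinite E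
  obtain ⟨z, h⟩ := ofExtraspecial hE
  obtain ⟨hθz, hθd⟩ := eq_of_faithful h θ.2 (fun e => h.ne (hθ z e))
  let c : H →* MulAut E := (MulAut.conjNormal (H := E)).comp H.subtype
  have hc : ∀ (x : H) (e : E), ((c x e : E) : G) = (x : G) * e * (x : G)⁻¹ := fun x e => MulAut.conjNormal_apply _ _
  have hcinj : Function.Injective c := (injective_iff_map_eq_one c).mpr fun x hx => Subtype.ext (hfaith x x.2 fun e he => by
    have h1 := hc x ⟨e, he⟩
    rw [hx] at h1
    exact (mul_inv_eq_iff_eq_mul.mp h1.symm))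
  set M : Subgroup (MulAut E) := (K.subgroupOf H).map c
  have hModd : Odd (Nat.card M) := hKodd.of_dvd_nat ((Subgroup.card_map_dvd _ _).trans
    (Nat.card_congr (Subgroup.subgroupOfEquivOfLe hKH).toEquiv).dvd)
  have hMn : ∀ x : H, ∀ m ∈ M, c x * m * (c x)⁻¹ ∈ M := by
    rintro x _ ⟨k, hk, rfl⟩
    exact ⟨x * k * x⁻¹, hKn x x.2 k hk, by rw [map_mul, map_mul, map_inv]⟩
  have hMfix : fixedSub M ≤ Subgroup.center E := by
    intro e he
    have hle : ⁅E, K⁆ ≤ Subgroup.centralizer ({(e : G)} : Set G) := Subgroup.commutator_le.mpr fun a ha k hk => by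
      have h1 : c ⟨k, hKH hk⟩ e = e := he _ ⟨⟨k, hKH hk⟩, hk, rfl⟩
      set b : E := ⟨a, ha⟩
      set t := c ⟨k, hKH hk⟩
      have h2 : (b * t b⁻¹) * e = e * (b * t b⁻¹) := by
        rw [h.mul_comm_iff]
        have h3 : b⁻¹ * e = e * b⁻¹ ↔ b * e = e * b := by
          show Commute b⁻¹ e ↔ Commute b e
          exact Commute.inv_left_iff
        rw [← h3]
        conv_rhs => rw [← h1, ← map_mul, ← map_mul, t.apply_eq_iff_eq]
      rw [Subgroup.mem_centralizer_singleton_iff]
      have h4 := congrArg Subtype.val h2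
      simp only [Subgroup.coe_mul, t, hc, b, InvMemClass.coe_inv] at h4
      rw [commutatorElement_def]
      simp only [mul_assoc] at h4 ⊢
      exact h4
    rw [hEK] at hle
    refine Subgroup.mem_center_iff.mpr fun g => Subtype.ext ?_
    exact Subgroup.mem_centralizer_singleton_iff.mp (hle g.2)
  have hnc : Subgroup.center E ≠ ⊤ := by
    intro e
    have hbot : ⁅E, K⁆ = ⊥ := Subgroup.commutator_eq_bot_iff_le_centralizer.mpr fun a ha =>
      Subgroup.mem_centralizer_iff.mpr fun k hk => by
        have h1 : c ⟨k, hKH hk⟩ ⟨a, ha⟩ = ⟨a, ha⟩ := by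
          rcases (h.center_iff _).mp (e ▸ Subgroup.mem_top (⟨a, ha⟩ : E)) with e' | e' <;> rw [e']
          · exact map_one _
          · exact aut_fix_z h _
        have h2 := congrArg Subtype.val h1
        rw [hc] at h2
        exact mul_inv_eq_iff_eq_mul.mp h2
    rw [hbot] at hEK
    exact h.ne (Subtype.ext (by simpa [← hEK] using z.2))
  have hinv : ∀ (g : G) (x : E), (θ : E → ℂ) ⟨g * x * g⁻¹, ‹E.Normal›.conj_mem (x : G) x.2 g⟩ = (θ : E → ℂ) x := by
    intro g x
    have e1 : (⟨g * x * g⁻¹, ‹E.Normal›.conj_mem (x : G) x.2 g⟩ : E) = MulAut.conjNormal g x :=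
      Subtype.ext (MulAut.conjNormal_apply g x).symm
    rw [e1]
    exact congrFun (value_unique h (a := fun y => (θ : E → ℂ) (MulAut.conjNormal g y))
      (isCharacter_comp (isCharacter_of_irr θ.2) (MulAut.conjNormal g : E ≃* E).toMonoidHom)
      (isCharacter_of_irr θ.2) (by show _ = -(θ : E → ℂ) _; rw [aut_fix_z h, map_one, hθz]) hθz
      (by show 2 * (θ : E → ℂ) _ ^ 2 = _; rw [map_one, hθd]) hθd) x
  obtain ⟨χ, hχi, hχ⟩ := exists_extension_of_local θ.2 hinv fun p hp => by
    haveI := Fact.mk hp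
    obtain ⟨S⟩ : Nonempty (Sylow p H) := inferInstance
    let φ : (S : Subgroup H) →* MulAut E := c.comp (S : Subgroup H).subtype
    let f : E ⋊[φ] (S : Subgroup H) →* G :=
      SemidirectProduct.lift E.subtype (H.subtype.comp (S : Subgroup H).subtype) fun s => by
        ext e
        exact hc _ e
    have hf : Function.Injective f := (injective_iff_map_eq_one f).mpr fun y hy => by
      have h1 : (y.left : G) * ((y.right : H) : G) = 1 := hy
      have h2 : ((y.right : H) : G) ∈ E ⊓ H := ⟨by
        rw [eq_inv_of_mul_eq_one_right h1]; exact E.inv_mem y.left.2, (y.right : H).2⟩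
      rw [hEH, Subgroup.mem_bot] at h2
      rw [h2, mul_one] at h1
      ext
      · exact h1
      · exact h2
    have hEP : E ≤ f.range := fun e he => ⟨SemidirectProduct.inl ⟨e, he⟩, SemidirectProduct.lift_inl _ _ _ _⟩
    haveI : Finite (E ⋊[φ] (S : Subgroup H)) := Finite.of_equiv _ SemidirectProduct.equivProd.symm
    let iso := MonoidHom.ofInjective hf
    have hcard : Nat.card f.range = Nat.card E * Nat.card (S : Subgroup H) := by
      rw [← Nat.card_congr iso.toEquiv, SemidirectProduct.card]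
    have hG : Nat.card G = Nat.card E * Nat.card H := by
      have hcomp : Subgroup.IsComplement' E H := Subgroup.isComplement'_of_disjoint_and_mul_eq_univ
        (disjoint_iff.mpr hEH) (by rw [← Subgroup.normal_mul, hEHtop]; rfl)
      exact hcomp.card_mul.symm
    have hidx : f.range.index = (S : Subgroup H).index := by
      have h1 := f.range.card_mul_index
      rw [hcard, hG, ← (S : Subgroup H).card_mul_index, ← mul_assoc] at h1
      exact Nat.eq_of_mul_eq_mul_left (Nat.mul_pos Nat.card_pos Nat.card_pos) h1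
    obtain ⟨η, hη, hηE⟩ : ∃ η : E ⋊[φ] (S : Subgroup H) → ℂ, IsCharacter _ η ∧
        ∀ e : E, η (SemidirectProduct.inl e) = (θ : E → ℂ) e := by
      by_cases hp2 : p = 2
      · subst hp2
        obtain ⟨χ, hc1, hz1, hd1⟩ := main (Nat.card E) E z h rfl (S : Subgroup H) S.2 φ M hModd
          (fun s => hMn s) hMfix hnc
        exact ⟨χ, hc1, congrFun (value_unique h (a := fun e => χ (SemidirectProduct.inl e))
          (isCharacter_comp hc1 _) (isCharacter_of_irr θ.2) (by show χ _ = -χ _; rw [map_one, hz1]) hθz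
          (by show 2 * χ _ ^ 2 = _; rw [map_one, hd1]) hθd)⟩
      · let il : E →* E ⋊[φ] (S : Subgroup H) := SemidirectProduct.inl
        let N : Subgroup (E ⋊[φ] (S : Subgroup H)) := il.range
        haveI hNn : N.Normal := by
          show (SemidirectProduct.inl : E →* E ⋊[φ] (S : Subgroup H)).range.Normal
          rw [SemidirectProduct.range_inl_eq_ker_rightHom]
          exact MonoidHom.normal_ker _
        let eN := MonoidHom.ofInjective (SemidirectProduct.inl_injective (φ := φ))
        haveI := Fintype.ofFinite N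
        have hNi : N.index = Nat.card (S : Subgroup H) := by
          have h1 := N.card_mul_index
          rw [SemidirectProduct.card, ← Nat.card_congr eN.toEquiv] at h1
          exact Nat.eq_of_mul_eq_mul_left Nat.card_pos h1
        have hcop : (Nat.card N).Coprime N.index := by
          rw [hNi, ← Nat.card_congr eN.toEquiv]
          haveI : Fact (Nat.Prime 2) := ⟨Nat.prime_two⟩
          obtain ⟨a, ha⟩ := IsPGroup.iff_card.mp h.isPGroup
          obtain ⟨b, hb⟩ := IsPGroup.iff_card.mp S.2
          rw [ha, hb]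
          exact Nat.Coprime.pow a b ((Nat.coprime_primes Nat.prime_two hp).mpr (Ne.symm hp2))
        have hθN : IsIrrCharacter N (fun n => (θ : E → ℂ) (eN.symm n)) :=
          isIrrCharacter_comp_surjective θ.2 eN.symm.toMonoidHom eN.symm.surjective
        have hzN : eN.symm ⟨il z, z, rfl⟩ = z := eN.symm_apply_eq.mpr rfl
        obtain ⟨χ, hχi, hχN⟩ := PrimeSep.exists_extension_coprime N hcop ⟨_, hθN⟩ (fun g => by
          funext n
          obtain ⟨e, rfl⟩ := eN.surjective n
          let β : MulAut E := (eN.trans (MulAut.conjNormal g)).trans eN.symm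
          have hb := congrFun (value_unique h (a := fun y => (θ : E → ℂ) (β y))
            (isCharacter_comp (isCharacter_of_irr θ.2) (β : E ≃* E).toMonoidHom)
            (isCharacter_of_irr θ.2) (by show _ = -(θ : E → ℂ) _; rw [aut_fix_z h, map_one, hθz]) hθz
            (by show 2 * (θ : E → ℂ) _ ^ 2 = _; rw [map_one, hθd]) hθd) e
          show (θ : E → ℂ) _ = (θ : E → ℂ) (eN.symm (eN e))
          rw [eN.symm_apply_apply]
          refine Eq.trans ?_ hb
          congr 2)
        refine ⟨χ, isCharacter_of_irr hχi, fun e => ?_⟩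
        rw [show χ (SemidirectProduct.inl e) = _ from hχN ⟨il e, e, rfl⟩]
        exact congrArg (θ : E → ℂ) (eN.symm_apply_eq.mpr rfl)
    refine ⟨f.range, hEP, fun y => η (iso.symm y), hidx ▸ S.not_dvd_index, isCharacter_comp hη iso.symm.toMonoidHom,
      fun n => ?_⟩
    rw [← hηE n]
    show η (iso.symm _) = η (SemidirectProduct.inl n)
    congr 1
    refine iso.symm_apply_eq.mpr (Subtype.ext ?_)
    exact (SemidirectProduct.lift_inl (fn := E.subtype) _ _ n).symm
  exact ⟨⟨χ, hχi⟩, hχ⟩

end Cfsg.Agent.S4759
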