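import Cfsg.Statements.S4762
import Cfsg.Agent.Lib.CharTheory.More
import Cfsg.Agent.Lib.CharTheory.Extraspecial
import Cfsg.Agent.Lib.CharTheory.AbelianInertia
import Cfsg.Agent.Lib.CharTheory.OddBasics
import Cfsg.Agent.Lib.ExtraspecialIndexP
import Cfsg.Agent.Lib.RankFrattini
import Cfsg.Agent.Lib.Elementary

set_option autoImplicit false
open Cfsg

namespace Cfsg.Agent.S4762

theorem twist_fixed {G : Type*} [Group G] [Finite G] {p : ℕ}
    (huniq : Nat.card {χ : Cfsg.IrrCharacter G // p ∣ Cfsg.charDegree (χ : G → ℂ)} = 1)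
    (χ : Cfsg.IrrCharacter G) (hχ : p ∣ Cfsg.charDegree (χ : G → ℂ)) (f : G →* ℂˣ) (g : G)
    (hg : (χ : G → ℂ) g ≠ 0) : f g = 1 := by
  have := Fintype.ofFinite G
  have hone : Cfsg.IsIrrCharacter G (fun x => (f x : ℂ)) := CfsgLib.CharTheory.isIrrCharacter_linear f
  have hmul := CfsgLib.CharTheory.isIrrCharacter_mul_linear χ.2 hone (by simp)
  have hd : p ∣ Cfsg.charDegree ((χ : G → ℂ) * fun x => (f x : ℂ)) := by
    simpa [Cfsg.charDegree] using hχ
  haveI := (Nat.card_eq_one_iff_unique.mp huniq).1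
  have he := congrArg (fun z : {χ : Cfsg.IrrCharacter G // p ∣ Cfsg.charDegree (χ : G → ℂ)} =>
      (z.1.1 : G → ℂ) g)
    (Subsingleton.elim (⟨⟨_, hmul⟩, hd⟩ : {χ : Cfsg.IrrCharacter G // p ∣ Cfsg.charDegree (χ : G → ℂ)})
      ⟨χ, hχ⟩)
  simp only [Pi.mul_apply] at he
  exact Units.ext (mul_left_cancel₀ hg (he.trans (mul_one _).symm))

theorem isPGroup_of_unique {G : Type*} [Group G] [Finite G] [Group.IsNilpotent G] {p : ℕ}
    [Fact p.Prime]
    (huniq : Nat.card {χ : Cfsg.IrrCharacter G // p ∣ Cfsg.charDegree (χ : G → ℂ)} = 1) :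
    IsPGroup p G := by
  classical
  have := Fintype.ofFinite G
  have hp : p.Prime := Fact.out
  have hn : ∀ {q : ℕ} [Fact q.Prime] (P : Sylow q G), P.Normal := fun {q} _ P =>
    ((Group.isNilpotent_of_finite_tfae (G := G)).out 0 3 rfl rfl).mp ‹Group.IsNilpotent G› q ‹_› P
  let e := (Sylow.directProductOfNormal hn).symm
  by_contra hnp
  obtain ⟨q, hq, hqp, hqd⟩ : ∃ q, q.Prime ∧ q ≠ p ∧ q ∣ Nat.card G := by
    by_contra hno
    push Not at hno
    refine hnp (IsPGroup.iff_card.mpr ⟨_, Nat.eq_prime_pow_of_unique_prime_dvd Nat.card_pos.ne'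
      fun {r} hr hrd => ?_⟩)
    by_contra hne
    exact hno r hr hne hrd
  obtain ⟨⟨χ, hχp⟩⟩ := (Nat.card_eq_one_iff_unique.mp huniq).2
  have hpd : p ∣ Nat.card G := hχp.trans
    ((CfsgLib.CharTheory.charDegree_dvd_index_kernel χ.2).trans (Subgroup.index_dvd_card _))
  let pp : (Nat.card G).primeFactors := ⟨p, Nat.mem_primeFactors.mpr ⟨hp, hpd, Nat.card_pos.ne'⟩⟩
  let qq : (Nat.card G).primeFactors := ⟨q, Nat.mem_primeFactors.mpr ⟨hq, hqd, Nat.card_pos.ne'⟩⟩
  haveI := Fact.mk hq
  let P₀ : Sylow p G := default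
  let Q₀ : Sylow q G := default
  let πP : G →* (P₀ : Subgroup G) :=
    { toFun := fun x => e x pp P₀, map_one' := by simp, map_mul' := fun a b => by simp }
  let πQ : G →* (Q₀ : Subgroup G) :=
    { toFun := fun x => e x qq Q₀, map_one' := by simp, map_mul' := fun a b => by simp }
  have hπP : Function.Surjective πP := fun y =>
    ⟨e.symm (Pi.mulSingle pp (Pi.mulSingle P₀ y)), by simp [πP]⟩
  -- the Sylow p-subgroup is not abelian
  obtain ⟨θ, hθ⟩ : ∃ θ : Cfsg.IrrCharacter (P₀ : Subgroup G),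
      p ∣ Cfsg.charDegree θ.1 := by
    by_contra hno
    push Not at hno
    have hab : ∀ a b : (P₀ : Subgroup G), a * b = b * a := by
      refine CfsgLib.CharTheory.commutative_iff_degree_one.mpr fun θ => ?_
      obtain ⟨m, ρ, hρ, hρc⟩ := θ.2
      have hd := CfsgLib.CharTheory.finrank_dvd_card ρ
      obtain ⟨a, ha⟩ := IsPGroup.iff_card.mp P₀.isPGroup'
      rw [ha, show Module.finrank ℂ (Fin m → ℂ) = Cfsg.charDegree θ.1 by
        rw [Cfsg.charDegree, ← hρc, ρ.char_one]; simp] at hd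
      obtain ⟨j, -, hj⟩ := (Nat.dvd_prime_pow hp).mp hd
      rcases j with _ | j
      · rw [(CfsgLib.CharTheory.charDegree_spec' θ.2).1, hj, pow_zero, Nat.cast_one]
      · exact absurd (hj ▸ dvd_pow_self p (Nat.succ_ne_zero j)) (hno θ)
    obtain ⟨m, ρ, hρ, hρc⟩ := χ.2
    haveI : (P₀ : Subgroup G).Normal := hn P₀
    have hd := CfsgLib.CharTheory.degree_dvd_index_of_abelian_normal ρ (P₀ : Subgroup G)
      fun a ha b hb => congrArg Subtype.val (hab ⟨a, ha⟩ ⟨b, hb⟩)
    rw [show Module.finrank ℂ (Fin m → ℂ) = Cfsg.charDegree (χ : G → ℂ) by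
      rw [Cfsg.charDegree, ← hρc, ρ.char_one]; simp] at hd
    exact P₀.not_dvd_index (hχp.trans hd)
  let ψ : Cfsg.IrrCharacter G :=
    ⟨θ.1 ∘ πP, CfsgLib.CharTheory.isIrrCharacter_comp_surjective θ.2 πP hπP⟩
  have hψ : p ∣ Cfsg.charDegree (ψ : G → ℂ) := by
    simpa [Cfsg.charDegree, ψ] using hθ
  -- a linear character of the Sylow q-subgroup
  obtain ⟨y, f, hf⟩ : ∃ (y : (Q₀ : Subgroup G)) (f : (Q₀ : Subgroup G) →* ℂˣ), f y ≠ 1 := by
    haveI : Nontrivial (Q₀ : Subgroup G) :=
      (Subgroup.nontrivial_iff_ne_bot _).mpr (Q₀.ne_bot_of_dvd_card hqd)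
    by_contra hno
    push Not at hno
    have hlin := CfsgLib.CharTheory.card_linear (G := (Q₀ : Subgroup G))
    haveI : Subsingleton {χ : Cfsg.IrrCharacter (Q₀ : Subgroup G) // χ.1 1 = 1} :=
      ⟨fun a b => by
        obtain ⟨fa, ha⟩ := CfsgLib.CharTheory.exists_hom_of_degree_one
          (CfsgLib.CharTheory.isCharacter_of_irr a.1.2) a.2
        obtain ⟨fb, hb⟩ := CfsgLib.CharTheory.exists_hom_of_degree_one
          (CfsgLib.CharTheory.isCharacter_of_irr b.1.2) b.2
        refine Subtype.ext (Subtype.ext ?_)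
        rw [ha, hb]
        funext z
        rw [hno z fa, hno z fb]⟩
    have h1 : commutator (Q₀ : Subgroup G) = ⊤ := by
      rw [← Subgroup.index_eq_one, ← hlin]
      exact Nat.card_eq_one_iff_unique.mpr ⟨inferInstance,
        ⟨⟨⟨_, CfsgLib.CharTheory.isIrrCharacter_one⟩, rfl⟩⟩⟩
    haveI : Group.IsNilpotent (Q₀ : Subgroup G) := Q₀.isPGroup'.isNilpotent
    exact (Group.IsSolvable.commutator_lt_top_of_nontrivial _).ne h1
  refine hf ?_
  have hx : πP (e.symm (Pi.mulSingle qq (Pi.mulSingle Q₀ y))) = 1 := by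
    have hne : pp ≠ qq := fun h => hqp (congrArg Subtype.val h).symm
    simp [πP, hne]
  have h2 := twist_fixed huniq ψ hψ (f.comp πQ) (e.symm (Pi.mulSingle qq (Pi.mulSingle Q₀ y)))
    (by simpa [ψ, hx] using CfsgLib.CharTheory.irr_ne_zero θ.2)
  simpa [πQ] using h2

/-- Let p be a prime and G a finite nilpotent group. Then G has exactly one irreducible complex character of degree divisible by p if and only if p = 2 and G is an extraspecial 2-group. -/
theorem result {G : Type*} [Group G] [Finite G] [Group.IsNilpotent G] (p : ℕ) [Fact p.Prime] : Nat.card {χ : Cfsg.IrrCharacter G // p ∣ Cfsg.charDegree (χ : G → ℂ)} = 1 ↔ (p = 2 ∧ Cfsg.IsExtraspecial 2 G) := by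
  classical
  have := Fintype.ofFinite G
  have hp : p.Prime := Fact.out
  constructor
  · intro huniq
    have hG := isPGroup_of_unique huniq
    obtain ⟨⟨χ, hχp⟩⟩ := (Nat.card_eq_one_iff_unique.mp huniq).2
    haveI := (Nat.card_eq_one_iff_unique.mp huniq).1
    have hlin : ∀ φ : Cfsg.IrrCharacter G, φ ≠ χ → Cfsg.charDegree (φ : G → ℂ) = 1 := by
      intro φ hne
      obtain ⟨n, hn⟩ := IsPGroup.iff_card.mp hG
      have hd : Cfsg.charDegree (φ : G → ℂ) ∣ p ^ n := hn ▸
        (CfsgLib.CharTheory.charDegree_dvd_index_kernel φ.2).trans (Subgroup.index_dvd_card _)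
      obtain ⟨j, -, hj⟩ := (Nat.dvd_prime_pow hp).mp hd
      rcases j with _ | j
      · simpa using hj
      · exact absurd (congrArg Subtype.val (Subsingleton.elim (⟨φ, hj ▸ dvd_pow_self p (Nat.succ_ne_zero j)⟩ :
          {χ : Cfsg.IrrCharacter G // p ∣ Cfsg.charDegree (χ : G → ℂ)}) ⟨χ, hχp⟩)) hne
    set d := Cfsg.charDegree (χ : G → ℂ) with hd
    obtain ⟨hd1, hdpos⟩ := CfsgLib.CharTheory.charDegree_spec' χ.2
    have hd2 : 2 ≤ d := hp.two_le.trans (Nat.le_of_dvd hdpos hχp)
    have hsum : Nat.card G = (commutator G).index + d ^ 2 := by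
      have h1 := CfsgLib.CharTheory.sum_irr_degree_sq (G := G)
      rw [← Finset.add_sum_erase _ _ (Finset.mem_univ χ), Finset.sum_congr rfl fun (φ : Cfsg.IrrCharacter G) (hφ : φ ∈ Finset.univ.erase χ) =>
        show (φ : G → ℂ) 1 ^ 2 = 1 by
          rw [(CfsgLib.CharTheory.charDegree_spec' φ.2).1, hlin φ (Finset.mem_erase.mp hφ).1]; simp,
        Finset.sum_const, nsmul_eq_mul, mul_one, hd1] at h1
      have h2 : (Finset.univ.erase χ).card = (commutator G).index := by
        rw [← CfsgLib.CharTheory.card_linear, Nat.card_eq_fintype_card, Fintype.card_subtype]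
        congr 1
        ext φ
        simp only [Finset.mem_erase, Finset.mem_univ, and_true, Finset.mem_filter, true_and]
        refine ⟨fun hne => by rw [(CfsgLib.CharTheory.charDegree_spec' φ.2).1, hlin φ hne, Nat.cast_one],
          fun h1 he => ?_⟩
        subst he
        have h2 : (Cfsg.charDegree (φ : G → ℂ) : ℂ) = 1 := hd1.symm.trans ‹(φ : G → ℂ) 1 = 1›
        rw [Nat.cast_eq_one] at h2
        omega
      rw [h2] at h1
      have h3 : Nat.card G = d ^ 2 + (commutator G).index := by exact_mod_cast h1.symm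
      omega
    obtain ⟨n, hn⟩ := IsPGroup.iff_card.mp hG
    obtain ⟨m, hm⟩ := IsPGroup.iff_card.mp (hG.to_subgroup (commutator G))
    have hidx := Subgroup.card_mul_index (commutator G)
    rw [hm] at hidx
    obtain ⟨a, -, ha⟩ := (Nat.dvd_prime_pow hp).mp (hn ▸ Subgroup.index_dvd_card (commutator G))
    obtain ⟨b, -, hb⟩ := (Nat.dvd_prime_pow hp).mp
      (hn ▸ (CfsgLib.CharTheory.charDegree_dvd_index_kernel χ.2).trans (Subgroup.index_dvd_card _) :
        d ∣ p ^ n)
    rw [ha] at hidx hsum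
    have hm1 : p = 2 ∧ m = 1 ∧ p ^ a = d ^ 2 := by
      have h1 : (p ^ m - 1) * p ^ a = d ^ 2 := by rw [Nat.sub_mul, one_mul, hidx, hsum]; omega
      rw [hb, ← pow_mul] at h1
      have h2 : p ^ m - 1 ∣ p ^ (b * 2) := Dvd.intro _ h1
      obtain ⟨i, -, hi⟩ := (Nat.dvd_prime_pow hp).mp h2
      rcases i with _ | i
      · rw [pow_zero] at hi
        have h3 : p ^ m = 2 := by omega
        have hm0 : m ≠ 0 := fun h => by simp [h] at h3
        have h4 : p ∣ 2 := h3 ▸ dvd_pow_self p hm0
        have hp2 : p = 2 := (Nat.prime_dvd_prime_iff_eq hp Nat.prime_two).mp h4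
        refine ⟨hp2, ?_, by rw [hi, one_mul] at h1; rw [h1, hb, ← pow_mul]⟩
        rw [hp2] at h3
        exact Nat.pow_right_injective le_rfl (h3.trans (pow_one 2).symm)
      · exfalso
        have hm0 : m ≠ 0 := fun h => by simp [h] at hi; exact pow_ne_zero _ hp.ne_zero hi.symm
        have h5 : p ∣ p ^ m - 1 := hi ▸ dvd_pow_self p (Nat.succ_ne_zero i)
        have h6 : p ∣ p ^ m := dvd_pow_self p hm0
        have h7 : p ∣ p ^ m - (p ^ m - 1) := Nat.dvd_sub h6 h5
        rw [show p ^ m - (p ^ m - 1) = 1 by have := Nat.one_le_pow m p hp.pos; omega] at h7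
        exact hp.not_dvd_one h7
    obtain ⟨hp2, hm', hda⟩ := hm1
    subst hp2
    rw [hm', pow_one] at hm
    refine ⟨rfl, ?_⟩
    haveI : Group.IsNilpotent G := inferInstance
    have hcle : commutator G ≤ Subgroup.center G := by
      intro z hz
      rw [Subgroup.mem_center_iff]
      intro g
      have hcj : g * z * g⁻¹ ∈ commutator G := Subgroup.Normal.conj_mem inferInstance z hz g
      rcases eq_or_ne z 1 with rfl | hz1
      · simp
      · have : g * z * g⁻¹ = z := by
          by_contra hne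
          have hne1 : g * z * g⁻¹ ≠ 1 := by simpa using hz1
          have h3 : ({⟨z, hz⟩, ⟨g * z * g⁻¹, hcj⟩, 1} : Finset (commutator G)).card = 3 := by
            rw [Finset.card_eq_three]
            exact ⟨_, _, _, fun h => hne (congrArg Subtype.val h).symm,
              fun h => hz1 (congrArg Subtype.val h), fun h => hne1 (congrArg Subtype.val h), rfl⟩
          have := Finset.card_le_univ ({⟨z, hz⟩, ⟨g * z * g⁻¹, hcj⟩, 1} : Finset (commutator G))
          rw [h3, ← Nat.card_eq_fintype_card, hm] at this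
          omega
        calc g * z = g * z * g⁻¹ * g := by group
          _ = z * g := by rw [this]
    have hzle : Nat.card (Subgroup.center G) ≤ 2 := by
      obtain ⟨k, ρ, hρ, hρc⟩ := χ.2
      have h1 := CfsgLib.CharTheory.degree_sq_mul_card_le ρ (Subgroup.center G) fun z hz g => by
        rw [← map_mul, ← map_mul, Subgroup.mem_center_iff.mp hz g]
      rw [show Module.finrank ℂ (Fin k → ℂ) = d by
        rw [hd, Cfsg.charDegree, ← hρc, ρ.char_one]; simp, hsum, hda] at h1
      nlinarith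
    have hzc : Subgroup.center G = commutator G :=
      (Subgroup.eq_of_le_of_card_ge hcle (hm ▸ hzle)).symm
    refine ⟨⟨hG, ?_, hzc.symm⟩, by rw [hzc, hm]⟩
    refine le_antisymm (CfsgLib.RankFrattini.frattini_le_of_elementary hG _ (fun x y => ?_) fun x => ?_)
      (hzc ▸ CfsgLib.commutator_le_frattini_pGroup hG)
    · rw [hzc]
      exact Subgroup.commutator_mem_commutator (Subgroup.mem_top x) (Subgroup.mem_top y)
    · rw [Subgroup.mem_center_iff]
      intro y
      have hcz : x * y * x⁻¹ * y⁻¹ ∈ commutator G :=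
        Subgroup.commutator_mem_commutator (Subgroup.mem_top x) (Subgroup.mem_top y)
      have hc2 : (x * y * x⁻¹ * y⁻¹) ^ 2 = 1 := by
        have h := pow_card_eq_one' (x := (⟨_, hcz⟩ : commutator G))
        rw [hm] at h
        exact congrArg Subtype.val h
      have hcomm := Subgroup.mem_center_iff.mp (hcle hcz) x
      calc y * x ^ 2 = 1 * (y * x ^ 2) := (one_mul _).symm
        _ = (x * y * x⁻¹ * y⁻¹) ^ 2 * (y * x ^ 2) := by rw [hc2]
        _ = x * y * x⁻¹ * y⁻¹ * ((x * y * x⁻¹ * y⁻¹) * y * x * x) := by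
            rw [pow_two, pow_two]; group
        _ = x * y * x⁻¹ * y⁻¹ * (x * y * x) := by group
        _ = x * y * x⁻¹ * y⁻¹ * x * (y * x) := by group
        _ = x * (x * y * x⁻¹ * y⁻¹) * (y * x) := by rw [hcomm]
        _ = x ^ 2 * y := by rw [pow_two]; group
  · rintro ⟨rfl, hE⟩
    obtain ⟨n, hn1, hcard⟩ := CfsgLib.ExtraspecialIndexP.exists_card hE
    have h1 := CfsgLib.CharTheory.extraspecial_count Nat.prime_two hE hcard
    refine (Nat.card_congr (Equiv.subtypeEquivRight fun χ => ?_)).trans h1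
    obtain ⟨hd1, -⟩ := CfsgLib.CharTheory.charDegree_spec' χ.2
    constructor
    · intro h2
      refine (CfsgLib.CharTheory.extraspecial_degrees Nat.prime_two hE hcard χ).resolve_left fun h => ?_
      rw [hd1, Nat.cast_eq_one] at h
      rw [h] at h2
      omega
    · intro h
      rw [hd1] at h
      have h' : Cfsg.charDegree (χ : G → ℂ) = 2 ^ n := by exact_mod_cast h
      rw [h']
      exact dvd_pow_self 2 (by omega)

end Cfsg.Agent.S4762
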