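import Cfsg.Statements.S4763
import Cfsg.Agent.Lib.Glauberman.CoprimeCount
import Cfsg.Agent.Lib.Blocks.DefectZeroProducts
import Cfsg.Agent.Lib.CharTheory.More
import Cfsg.Agent.Lib.Blocks.Covering

set_option autoImplicit false
open Cfsg CfsgLib.Blocks CfsgLib.CharTheory CfsgLib.Glauberman
open scoped Pointwise
open scoped ComplexConjugate

set_option linter.unusedVariables false

namespace Cfsg.Agent.S4763

/-- Let p be a prime and G a finite group that is not nilpotent and has a normal p-complement (a normal subgroup of order prime to p and index a power of p). If G has exactly one irreducible complex character of degree divisible by p, then G has exactly one conjugacy class whose size is divisible by p. -/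
theorem result {G : Type*} [Group G] [Finite G] (p : ℕ) [Fact p.Prime] (hnil : ¬ Group.IsNilpotent G) (N : Subgroup G) [N.Normal] (hN : (Nat.card N).Coprime p) (hidx : ∃ k : ℕ, N.index = p ^ k) (hone : Nat.card {χ : Cfsg.IrrCharacter G // p ∣ Cfsg.charDegree (χ : G → ℂ)} = 1) : Nat.card {C : ConjClasses G // p ∣ Nat.card C.carrier} = 1 := by
  classical
  haveI := Fintype.ofFinite G
  haveI := Fintype.ofFinite N
  have hp : p.Prime := Fact.out
  obtain ⟨k, hk⟩ := hidx
  obtain ⟨P⟩ : Nonempty (Sylow p G) := inferInstance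
  have hNp : ¬ p ∣ Nat.card N := fun h => hp.one_lt.ne' (Nat.eq_one_of_dvd_coprimes hN h dvd_rfl)
  have hPc : Nat.card P = p ^ k := by
    rw [P.card_eq_multiplicity, ← Subgroup.card_mul_index N, hk,
      Nat.factorization_mul Nat.card_pos.ne' (pow_ne_zero _ hp.ne_zero), Finsupp.add_apply,
      Nat.factorization_eq_zero_of_not_dvd hNp, zero_add, hp.factorization_pow, Finsupp.single_eq_same]
  have hcop : (Nat.card N).Coprime (Nat.card (P : Subgroup G)) := by
    rw [hPc]; exact hN.pow_right k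
  have hNP : N ⊔ (P : Subgroup G) = ⊤ := by
    apply Subgroup.eq_top_of_card_eq
    refine Nat.dvd_antisymm (Subgroup.card_subgroup_dvd_card _) ?_
    rw [← Subgroup.card_mul_index N, hk, ← hPc]
    exact hcop.mul_dvd_of_dvd_of_dvd (Subgroup.card_dvd_of_le le_sup_left) (Subgroup.card_dvd_of_le le_sup_right)
  have hPsolv : Group.IsSolvable (P : Subgroup G) := by
    haveI := P.2.isNilpotent
    infer_instance
  have hk0 : k ≠ 0 := by
    intro h0
    obtain ⟨⟨χ, hχ⟩, -⟩ : ∃ χ : {χ : Cfsg.IrrCharacter G // p ∣ Cfsg.charDegree (χ : G → ℂ)}, True :=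
      ⟨(Nat.card_eq_one_iff_exists.1 hone).choose, trivial⟩
    have h1 := hχ.trans (charDegree_dvd_card χ)
    rw [← Subgroup.card_mul_index N, hk, h0, pow_zero, mul_one] at h1
    exact hNp h1
  have hcopd : ∀ d : ℕ, d.Coprime N.index ↔ ¬ p ∣ d := fun d => by
    rw [hk, Nat.coprime_pow_right_iff (Nat.pos_of_ne_zero hk0), Nat.coprime_comm, hp.coprime_iff_not_dvd]
  obtain ⟨eP⟩ := quotient_equiv_supplement N (P : Subgroup G) hNP hcop
  -- the quotient is abelian
  have hab : ∀ a b : G ⧸ N, a * b = b * a := by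
    by_contra hna
    obtain ⟨β, hβ, hβ1⟩ : ∃ β : G ⧸ N → ℂ, Cfsg.IsIrrCharacter (G ⧸ N) β ∧ β 1 ≠ 1 := by
      by_contra hno
      push Not at hno
      exact hna ((commutative_iff_degree_one).2 fun χ => hno χ χ.2)
    set γ : G → ℂ := fun g => β (g : G ⧸ N) with hγ
    have hγi : Cfsg.IsIrrCharacter G γ :=
      isIrrCharacter_comp_surjective hβ (QuotientGroup.mk' N) (QuotientGroup.mk'_surjective N)
    have hγk : ∀ n ∈ N, γ n = γ 1 := fun n hn => by
      show β (n : G ⧸ N) = β ((1 : G) : G ⧸ N)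
      rw [(QuotientGroup.eq_one_iff n).2 hn]; rfl
    have hγd : p ∣ Cfsg.charDegree γ := by
      have h1 : Cfsg.charDegree γ ∣ p ^ k := hk ▸ (charDegree_dvd_index_kernel hγi).trans
        (Subgroup.index_dvd_of_le (fun n hn => (mem_charKernel _ n).2 (hγk n hn)))
      obtain ⟨i, -, hi⟩ := (Nat.dvd_prime_pow hp).1 h1
      rcases i with _ | i
      · exfalso
        apply hβ1
        have h2 := irr_charDegree_cast (⟨γ, hγi⟩ : Cfsg.IrrCharacter G)
        simp only [hi, pow_zero, Nat.cast_one] at h2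
        exact h2.symm
      · rw [hi]; exact dvd_pow_self p (Nat.succ_ne_zero i)
    have huniq : ∀ χ : Cfsg.IrrCharacter G, p ∣ Cfsg.charDegree (χ : G → ℂ) → (χ : G → ℂ) = γ := by
      intro χ hχ
      obtain ⟨c, hc⟩ := Nat.card_eq_one_iff_exists.1 hone
      exact congrArg (fun s => (s.1 : G → ℂ)) ((hc ⟨χ, hχ⟩).trans (hc ⟨⟨γ, hγi⟩, hγd⟩).symm)
    have hN1 : N ≠ ⊥ := fun h => hnil (by
      have : IsPGroup p G := IsPGroup.of_card (n := k) (by
        rw [← Subgroup.card_mul_index N, hk, h, Subgroup.card_bot, one_mul])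
      exact this.isNilpotent)
    obtain ⟨θ, hθ⟩ : ∃ θ : Cfsg.IrrCharacter N, (θ : N → ℂ) ≠ fun _ => 1 := by
      by_contra hno
      push Not at hno
      have h1 : Nat.card (Cfsg.IrrCharacter N) = 1 :=
        Nat.card_eq_one_iff_exists.2 ⟨⟨fun _ => 1, isIrrCharacter_one⟩, fun θ => Subtype.ext (hno θ)⟩
      rw [card_irr_eq_card_conjClasses, Nat.card_eq_one_iff_exists] at h1
      obtain ⟨c, hc⟩ := h1
      apply hN1
      rw [Subgroup.eq_bot_iff_forall]
      intro n hn
      have h2 := ConjClasses.mk_eq_mk_iff_isConj.1 ((hc (ConjClasses.mk (1 : N))).trans (hc (ConjClasses.mk ⟨n, hn⟩)).symm)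
      have h3 := isConj_one_right.1 h2
      exact congrArg Subtype.val h3
    obtain ⟨χ, hχθ⟩ := exists_over (G := G) θ
    have hne : ∀ ψ : G → ℂ, (∀ n : N, ψ n = ψ 1) →
        Cfsg.classInner (fun n : N => ψ n) (θ : N → ℂ) = 0 := by
      intro ψ hψ
      have h0 := classInner_irr_ne isIrrCharacter_one θ.2 (Ne.symm hθ)
      simp only [Cfsg.classInner, one_mul] at h0
      simp only [Cfsg.classInner, hψ, ← Finset.mul_sum]
      rw [mul_left_comm, h0, mul_zero]
    have hχd : ¬ p ∣ Cfsg.charDegree (χ : G → ℂ) := fun hd =>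
      hχθ (by rw [huniq χ hd]; exact hne γ fun n => hγk n n.2)
    obtain ⟨e, he, hei⟩ := degree_ratio_dvd χ.2 θ.2 hχθ
    have hθd : Cfsg.charDegree (χ : G → ℂ) = e * Cfsg.charDegree (θ : N → ℂ) := by
      rw [← irr_charDegree_cast χ, ← irr_charDegree_cast θ] at he
      exact_mod_cast he
    have he1 : e = 1 := by
      obtain ⟨i, -, rfl⟩ := (Nat.dvd_prime_pow hp).1 (hk ▸ hei)
      rcases i with _ | i
      · rfl
      · exact absurd (hθd ▸ dvd_mul_of_dvd_left (dvd_pow_self p (Nat.succ_ne_zero i)) _) hχd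
    have hres : (fun n : N => (χ : G → ℂ) n) = (θ : N → ℂ) := by
      refine eq_irr_of_constituent_degree (isCharacter_restrict (isCharacter_of_irr χ.2) N) θ ?_ hχθ
      show (χ : G → ℂ) ((1 : N) : G) = (θ : N → ℂ) 1
      rw [Subgroup.coe_one, he, he1, Nat.cast_one, one_mul]
    have hprod := (gallagher N (isCharacter_of_irr χ.2) (hres ▸ θ.2)).1 γ hγi hγk
    have hpd : p ∣ Cfsg.charDegree (γ * (χ : G → ℂ)) := by
      have h2 : Cfsg.charDegree (γ * (χ : G → ℂ)) = Cfsg.charDegree γ * Cfsg.charDegree (χ : G → ℂ) := by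
        apply Nat.cast_injective (R := ℂ)
        rw [Nat.cast_mul]
        exact (irr_charDegree_cast (⟨_, hprod⟩ : Cfsg.IrrCharacter G)).trans
          (congrArg₂ (· * ·) (irr_charDegree_cast (⟨γ, hγi⟩ : Cfsg.IrrCharacter G)).symm (irr_charDegree_cast χ).symm)
      rw [h2]; exact dvd_mul_of_dvd_left hγd _
    have h3 := huniq ⟨_, hprod⟩ hpd
    have h4 : Cfsg.classInner (fun n : N => (γ * (χ : G → ℂ)) n) (θ : N → ℂ) ≠ 0 := by
      have : (fun n : N => (γ * (χ : G → ℂ)) n) = γ 1 • (θ : N → ℂ) := by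
        funext n
        rw [Pi.mul_apply, hγk n n.2, Pi.smul_apply, smul_eq_mul, ← hres]
      rw [this, classInner_smul_left, classInner_irr_self θ.2, mul_one]
      exact irr_ne_zero hγi
    apply h4
    have h3' : γ * (χ : G → ℂ) = γ := h3
    rw [h3']
    exact hne γ fun n => hγk n n.2
  have hPab : ∀ a b : (P : Subgroup G), a * b = b * a := fun a b =>
    eP.injective (by rw [map_mul, map_mul]; exact hab _ _)
  -- the classes of size prime to `p`
  set H : Subgroup G := N ⊓ Subgroup.centralizer ((P : Subgroup G) : Set G) with hH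
  have hHP : ∀ (c : H) (z : (P : Subgroup G)), Commute (c : G) (z : G) := fun c z =>
    (c.2.2 (z : G) z.2).symm
  have hsize : ∀ g : G, Nat.card (ConjClasses.mk g).carrier = (Subgroup.centralizer ({g} : Set G)).index := by
    intro g
    rw [index_centralizer_eq]
    refine Nat.card_congr (Equiv.subtypeEquivRight fun t => ?_)
    rw [ConjClasses.mem_carrier_iff_mk_eq, ConjClasses.mk_eq_mk_iff_isConj]
    exact isConj_comm
  let f : ConjClasses H × (P : Subgroup G) → {C : ConjClasses G // ¬ p ∣ Nat.card C.carrier} := fun cz =>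
    ⟨ConjClasses.mk (((Quotient.out cz.1 : H) : G) * (cz.2 : G)), by
      rw [hsize]
      intro h
      refine P.not_dvd_index (h.trans (Subgroup.index_dvd_of_le fun x hx => ?_))
      rw [Subgroup.mem_centralizer_singleton_iff]
      have h1 : Commute x ((Quotient.out cz.1 : H) : G) := (hHP _ ⟨x, hx⟩).symm
      have h2 : Commute x (cz.2 : G) := congrArg Subtype.val (hPab ⟨x, hx⟩ cz.2)
      first | exact (h1.mul_right h2).eq | exact (h1.mul_right h2).eq.symm⟩
  have hfinj : Function.Injective f := by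
    rintro ⟨C, z⟩ ⟨D, w⟩ h
    set c : H := Quotient.out C with hc
    set d : H := Quotient.out D with hd
    have h1 : IsConj ((c : G) * (z : G)) ((d : G) * (w : G)) :=
      ConjClasses.mk_eq_mk_iff_isConj.1 (congrArg Subtype.val h)
    obtain ⟨g, hg⟩ := isConj_iff.1 h1
    have hzw : z = w := by
      have h2 := congrArg (QuotientGroup.mk' N) hg
      simp only [map_mul, map_inv, QuotientGroup.mk'_apply, (QuotientGroup.eq_one_iff _).2 c.2.1,
        (QuotientGroup.eq_one_iff _).2 d.2.1, one_mul] at h2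
      rw [hab (g : G ⧸ N), mul_inv_cancel_right] at h2
      have h4 : (z : G)⁻¹ * (w : G) ∈ N := QuotientGroup.eq.1 h2
      have h5 : (z : G)⁻¹ * (w : G) ∈ N ⊓ (P : Subgroup G) :=
        Subgroup.mem_inf.2 ⟨h4, mul_mem (inv_mem z.2) w.2⟩
      rw [Subgroup.inf_eq_bot_of_coprime hcop, Subgroup.mem_bot, inv_mul_eq_one] at h5
      exact Subtype.ext h5
    subst hzw
    obtain ⟨e, he1, he2⟩ : ∃ e : ℕ, e ≡ 1 [MOD Nat.card N] ∧ e ≡ 0 [MOD Nat.card (P : Subgroup G)] :=
      ⟨_, (Nat.chineseRemainder hcop 1 0).2.1, (Nat.chineseRemainder hcop 1 0).2.2⟩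
    have hpow : ∀ (a : H) (x : (P : Subgroup G)), ((a : G) * (x : G)) ^ e = (a : G) := fun a x => by
      rw [(hHP a x).mul_pow]
      have h2 : (a : G) ^ e = a := by
        refine (pow_eq_pow_iff_modEq.2 (he1.of_dvd ?_)).trans (pow_one _)
        exact Subgroup.orderOf_dvd_natCard _ a.2.1
      have h3 : (x : G) ^ e = 1 := orderOf_dvd_iff_pow_eq_one.1
        ((Subgroup.orderOf_dvd_natCard _ x.2).trans (Nat.modEq_zero_iff_dvd.1 he2))
      rw [h2, h3, mul_one]
    have hgc : g * (c : G) * g⁻¹ = (d : G) := by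
      have h2 := congrArg (fun y : G => y ^ e) hg
      simp only [conj_pow, hpow] at h2
      exact h2
    -- find a conjugating element in `N` fixed by `P`
    obtain ⟨m, hm, s, hs, rfl⟩ : ∃ m ∈ N, ∃ s ∈ (P : Subgroup G), m * s = g := by
      have hg' : g ∈ ((N ⊔ (P : Subgroup G) : Subgroup G) : Set G) := hNP ▸ Subgroup.mem_top g
      rw [Subgroup.normal_mul] at hg'
      exact hg'
    have hmc : m * (c : G) * m⁻¹ = (d : G) := by
      rw [← hgc, show m * s * (c : G) * (m * s)⁻¹ = m * (s * (c : G) * s⁻¹) * m⁻¹ by group,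
        ← (hHP c ⟨s, hs⟩).eq, mul_inv_cancel_right]
    let T := {n : G // n ∈ N ∧ n * (c : G) * n⁻¹ = (d : G)}
    have hTcl : ∀ x : (P : Subgroup G), ∀ n : T, (x : G) * n.1 * (x : G)⁻¹ ∈ N ∧
        ((x : G) * n.1 * (x : G)⁻¹) * (c : G) * ((x : G) * n.1 * (x : G)⁻¹)⁻¹ = (d : G) := fun x n => by
      refine ⟨(‹N.Normal›).conj_mem _ n.2.1 _, ?_⟩
      have e1 : (x : G)⁻¹ * (c : G) * (x : G) = c := by
        rw [mul_assoc, (hHP c x).eq, inv_mul_cancel_left]
      have e2 : (x : G) * (d : G) * (x : G)⁻¹ = d := by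
        rw [← (hHP d x).eq, mul_inv_cancel_right]
      calc _ = (x : G) * (n.1 * ((x : G)⁻¹ * (c : G) * (x : G)) * n.1⁻¹) * (x : G)⁻¹ := by group
        _ = d := by rw [e1, n.2.2, e2]
    letI : MulAction (P : Subgroup G) T :=
      { smul := fun x n => ⟨_, hTcl x n⟩
        one_smul := fun n => Subtype.ext (show ((1 : (P : Subgroup G)) : G) * n.1 * _ = n.1 by simp)
        mul_smul := fun x y n => Subtype.ext
          (show ((x * y : (P : Subgroup G)) : G) * n.1 * ((x * y : (P : Subgroup G)) : G)⁻¹ =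
            (x : G) * ((y : G) * n.1 * (y : G)⁻¹) * (x : G)⁻¹ by rw [Subgroup.coe_mul]; group) }
    let Cc : Subgroup G := N ⊓ Subgroup.centralizer ({(c : G)} : Set G)
    have hT : Nat.card T = Nat.card Cc := by
      refine Nat.card_congr ⟨fun n => ⟨m⁻¹ * n.1, Subgroup.mem_inf.2 ⟨N.mul_mem (N.inv_mem hm) n.2.1, ?_⟩⟩,
        fun a => ⟨m * a.1, N.mul_mem hm (Subgroup.mem_inf.1 a.2).1, ?_⟩, fun n => Subtype.ext (mul_inv_cancel_left _ _),
        fun a => Subtype.ext (inv_mul_cancel_left _ _)⟩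
      · have h2 : Commute (m⁻¹ * n.1) (c : G) := by
          have e1 : n.1 * (c : G) = m * (c : G) * m⁻¹ * n.1 :=
            (mul_inv_eq_iff_eq_mul.1 n.2.2).trans (by rw [hmc])
          rw [commute_iff_eq, mul_assoc, e1]
          group
        exact Subgroup.mem_centralizer_singleton_iff.2 (by first | exact h2.eq | exact h2.eq.symm)
      · have h2 : Commute a.1 (c : G) := by
          have := Subgroup.mem_centralizer_singleton_iff.1 (Subgroup.mem_inf.1 a.2).2
          first | exact this | exact this.symm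
        rw [show m * a.1 * (c : G) * (m * a.1)⁻¹ = m * (a.1 * (c : G) * a.1⁻¹) * m⁻¹ by group,
          h2.eq, mul_inv_cancel_right, hmc]
    obtain ⟨⟨n, hn, hnc⟩, hfix⟩ := P.2.nonempty_fixed_point_of_prime_not_dvd_card T (by
      rw [hT]; exact fun h2 => hNp (h2.trans (Subgroup.card_dvd_of_le inf_le_left)))
    have hnH : n ∈ H := ⟨hn, fun x hx => by
      have h2 := congrArg Subtype.val (hfix ⟨x, hx⟩)
      exact mul_inv_eq_iff_eq_mul.1 h2⟩
    have hCD : C = D := by
      rw [← Quotient.out_eq C, ← Quotient.out_eq D]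
      exact Quotient.sound (isConj_iff.2 ⟨⟨n, hnH⟩, Subtype.ext hnc⟩)
    rw [hCD]
  have hfsurj : Function.Surjective f := by
    rintro ⟨C, hC⟩
    induction C using Quotient.inductionOn with
    | _ g =>
    change ¬ p ∣ Nat.card (ConjClasses.mk g).carrier at hC
    rw [hsize] at hC
    obtain ⟨R⟩ : Nonempty (Sylow p (Subgroup.centralizer ({g} : Set G))) := inferInstance
    have hRc : Nat.card ((R : Subgroup _).map (Subgroup.centralizer ({g} : Set G)).subtype) = p ^ k := by
      rw [Subgroup.card_map_of_injective (Subgroup.subtype_injective _), R.card_eq_multiplicity]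
      have h2 : (Nat.card G).factorization p = k := by
        have := P.card_eq_multiplicity
        rw [hPc] at this
        exact (Nat.pow_right_injective hp.two_le this).symm
      congr 1
      rw [← Subgroup.card_mul_index (Subgroup.centralizer ({g} : Set G)),
        Nat.factorization_mul Nat.card_pos.ne' Subgroup.index_ne_zero_of_finite, Finsupp.add_apply,
        Nat.factorization_eq_zero_of_not_dvd hC, add_zero] at h2
      exact h2
    let Q : Sylow p G := Sylow.ofCard ((R : Subgroup _).map (Subgroup.centralizer ({g} : Set G)).subtype)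
      (by rw [hRc, ← hPc, P.card_eq_multiplicity])
    obtain ⟨t, ht⟩ := MulAction.exists_smul_eq G Q P
    set x : G := t * g * t⁻¹ with hx
    have hxP : ∀ u ∈ (P : Subgroup G), Commute x u := by
      intro u hu
      rw [← ht] at hu
      have hu2 : t⁻¹ * u * t ∈ (Q : Subgroup G) := by
        have h2 : u ∈ MulAut.conj t • (Q : Subgroup G) := by
          rwa [← Sylow.coe_subgroup_smul] 
        obtain ⟨v, hv, rfl⟩ := h2
        simpa [mul_assoc, MulAut.conj_apply, SetLike.mem_coe] using SetLike.mem_coe.1 hv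
      obtain ⟨v, -, hv⟩ := hu2
      have h3 : Commute g (t⁻¹ * u * t) := by
        have := v.2
        rw [Subgroup.mem_centralizer_singleton_iff] at this
        rw [← hv]
        first | exact this | exact this.symm
      rw [hx, commute_iff_eq]
      calc t * g * t⁻¹ * u = t * (g * (t⁻¹ * u * t)) * t⁻¹ := by group
        _ = t * ((t⁻¹ * u * t) * g) * t⁻¹ := by rw [h3.eq]
        _ = u * (t * g * t⁻¹) := by group
    obtain ⟨n, hn, z, hz, hnz⟩ : ∃ n ∈ N, ∃ z ∈ (P : Subgroup G), n * z = x := by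
      have hg' : x ∈ ((N ⊔ (P : Subgroup G) : Subgroup G) : Set G) := hNP ▸ Subgroup.mem_top x
      rw [Subgroup.normal_mul] at hg'
      exact hg'
    have hnH : n ∈ H := ⟨hn, fun u hu => by
      have h1 : Commute u x := (hxP u hu).symm
      have h2 : Commute u z := congrArg Subtype.val (hPab ⟨u, hu⟩ ⟨z, hz⟩)
      have h3 := h1.mul_right h2.inv_right
      rw [← hnz, mul_inv_cancel_right] at h3
      exact h3.eq⟩
    refine ⟨(ConjClasses.mk ⟨n, hnH⟩, ⟨z, hz⟩), Subtype.ext ?_⟩
    show ConjClasses.mk _ = ConjClasses.mk g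
    rw [ConjClasses.mk_eq_mk_iff_isConj]
    set c0 : H := Quotient.out (ConjClasses.mk (⟨n, hnH⟩ : H) : Quotient (IsConj.setoid ↥H)) with hc0
    have h1 : IsConj c0 (⟨n, hnH⟩ : H) := ConjClasses.mk_eq_mk_iff_isConj.1 (Quotient.out_eq _)
    obtain ⟨a, ha⟩ := isConj_iff.1 h1
    have ha' : (a : G) * (c0 : G) * (a : G)⁻¹ = n := congrArg Subtype.val ha
    have h2 : (a : G) * ((c0 : G) * z) * (a : G)⁻¹ = x := by
      rw [← hnz, ← ha',
        show (a : G) * ((c0 : G) * z) * (a : G)⁻¹ = (a : G) * (c0 : G) * (z * (a : G)⁻¹) by group,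
        show z * (a : G)⁻¹ = (a : G)⁻¹ * z from ((hHP a ⟨z, hz⟩).symm.inv_right).eq]
      group
    exact (isConj_iff.2 ⟨(a : G), h2⟩).trans (isConj_iff.2 ⟨t, rfl⟩).symm
  -- compare the counts
  have hS := Nat.card_eq_of_bijective f ⟨hfinj, hfsurj⟩
  have hdeg := card_coprime_degree N (hN.pow_right k |> fun h => by rwa [hk])
  rw [card_inv_eq_card_classes N (P : Subgroup G) hNP hcop hPsolv,
    Nat.card_congr (Equiv.subtypeEquivRight fun χ : Cfsg.IrrCharacter G => hcopd _)] at hdeg
  have hlin : Nat.card (G ⧸ N →* ℂˣ) = Nat.card (P : Subgroup G) := by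
    letI : CommGroup (G ⧸ N) := { (inferInstance : Group (G ⧸ N)) with mul_comm := hab }
    rw [CommGroup.card_monoidHom_of_hasEnoughRootsOfUnity, Nat.card_congr eP.toEquiv]
  rw [hlin, ← Nat.card_prod, hS] at hdeg
  have hall : Nat.card {C : ConjClasses G // ¬ p ∣ Nat.card C.carrier} +
      Nat.card {C : ConjClasses G // p ∣ Nat.card C.carrier} = Nat.card (ConjClasses G) := by
    rw [← Nat.card_sum]
    exact Nat.card_congr ((Equiv.sumComm _ _).trans (Equiv.sumCompl (fun C : ConjClasses G => p ∣ Nat.card C.carrier)))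
  have hall' : Nat.card {χ : Cfsg.IrrCharacter G // ¬ p ∣ Cfsg.charDegree (χ : G → ℂ)} +
      Nat.card {χ : Cfsg.IrrCharacter G // p ∣ Cfsg.charDegree (χ : G → ℂ)} = Nat.card (Cfsg.IrrCharacter G) := by
    rw [← Nat.card_sum]
    exact Nat.card_congr ((Equiv.sumComm _ _).trans
      (Equiv.sumCompl (fun χ : Cfsg.IrrCharacter G => p ∣ Cfsg.charDegree (χ : G → ℂ))))
  have hkk := card_irr_eq_card_conjClasses (G := G)
  omega

end Cfsg.Agent.S4763
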