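import Cfsg.Statements.S4775
import Cfsg.Agent.Lib.Suzuki.Degrees.Graph

set_option autoImplicit false
open Cfsg

namespace Cfsg.Agent.S4775

/-- Let F be a finite field with q = 2^(2m+1) ≥ 8 elements and let S be isomorphic to the Suzuki group over F. Then the vertices of the character degree graph of S are 2 and the primes dividing (q − 1)(q² + 1); the primes dividing (q − 1)(q² + 1) are pairwise adjacent, and 2 is adjacent exactly to the primes dividing q − 1. -/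
theorem result (F : Type*) [Field F] [Fintype F] (m : ℕ) (hm : 1 ≤ m) (q : ℕ) (hq : Fintype.card F = q) (hqm : q = 2 ^ (2 * m + 1)) {S : Type*} [Group S] [Finite S] (hS : Nonempty (S ≃* ↥(Cfsg.Lie.Sz F (2 ^ (m + 1))))) : Cfsg.degreePrimes S = {r : ℕ | r.Prime ∧ (r = 2 ∨ r ∣ (q - 1) * (q ^ 2 + 1))} ∧ ∀ r s : ℕ, (Cfsg.degreeGraph S).Adj r s ↔ (r ≠ s ∧ r.Prime ∧ s.Prime ∧ ((r ∣ (q - 1) * (q ^ 2 + 1) ∧ s ∣ (q - 1) * (q ^ 2 + 1)) ∨ (r = 2 ∧ s ∣ q - 1) ∨ (s = 2 ∧ r ∣ q - 1))) := by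
  obtain ⟨e⟩ := hS
  have hF : Fintype.card F = 2 ^ (2 * m + 1) := hq.trans hqm
  obtain ⟨u, hu, ⟨D⟩⟩ := CfsgLib.Suzuki.Degrees.exists_tori hF hm
  have hq8 : q = 8 * u ^ 2 := hqm.trans D.hu
  have hdeg : ∀ d, d ∈ charDegrees S ↔ (d = 1 ∨ d = q ^ 2 ∨ d = q ^ 2 + 1 ∨
      d = (q - 1) * (q - 4 * u + 1) ∨ d = (q - 1) * (q + 4 * u + 1) ∨ d = 2 * u * (q - 1)) := fun d => by
    rw [CfsgLib.SL2Char.charDegrees_mulEquiv (e.trans (CfsgLib.Suzuki.lieEquiv hF hm).symm), hq8]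
    exact CfsgLib.Suzuki.Degrees.charDegrees_Sz hF D d
  have hu2 : 2 * u = 2 ^ m := by
    rw [← D.hu2, ← pow_succ']; congr 1; omega
  have hq2 : 2 ∣ q := hq8 ▸ Dvd.dvd.mul_right (by norm_num) _
  have hle : 4 * u ≤ q := by rw [hq8]; nlinarith
  have hq1 : 1 ≤ q := by omega
  have hab : (q - 4 * u + 1) * (q + 4 * u + 1) = q ^ 2 + 1 := by
    zify [hle]
    rw [hq8]; push_cast; ring
  have h2Q : ¬ 2 ∣ q ^ 2 + 1 := by
    have h : 2 ∣ q ^ 2 := dvd_pow hq2 two_ne_zero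
    omega
  have h2N : ¬ 2 ∣ (q - 1) * (q ^ 2 + 1) := by
    rw [Nat.prime_two.dvd_mul]
    rintro (h | h)
    · omega
    · exact h2Q h
  have h2a : ∀ x, x ∣ q ^ 2 + 1 → ¬ 2 ∣ (q - 1) * x := fun x hx h =>
    h2N (h.trans (mul_dvd_mul_left _ hx))
  -- prime divisors of a degree
  have hprime : ∀ d ∈ charDegrees S, ∀ r : ℕ, r.Prime → r ∣ d → r = 2 ∨ r ∣ (q - 1) * (q ^ 2 + 1) := by
    intro d hd r hr hrd
    rcases (hdeg d).mp hd with h | h | h | h | h | h <;> rw [h] at hrd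
    · exact absurd (Nat.dvd_one.mp hrd) hr.ne_one
    · rw [hqm, ← pow_mul] at hrd
      exact Or.inl ((Nat.prime_dvd_prime_iff_eq hr Nat.prime_two).mp (hr.dvd_of_dvd_pow hrd))
    · exact Or.inr (hrd.mul_left _)
    · exact Or.inr (hrd.trans (mul_dvd_mul_left _ (hab ▸ dvd_mul_right _ _)))
    · exact Or.inr (hrd.trans (mul_dvd_mul_left _ (hab ▸ dvd_mul_left _ _)))
    · rcases hr.dvd_mul.mp hrd with h' | h'
      · rw [hu2] at h'
        exact Or.inl ((Nat.prime_dvd_prime_iff_eq hr Nat.prime_two).mp (hr.dvd_of_dvd_pow h'))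
      · exact Or.inr (h'.mul_right _)
  -- degrees with an even divisor
  have heven : ∀ d ∈ charDegrees S, 2 ∣ d → ∀ s : ℕ, s.Prime → s ≠ 2 → s ∣ d → s ∣ q - 1 := by
    intro d hd h2 s hs hs2 hsd
    rcases (hdeg d).mp hd with h | h | h | h | h | h <;> rw [h] at h2 hsd
    · omega
    · rw [hqm, ← pow_mul] at hsd
      exact absurd ((Nat.prime_dvd_prime_iff_eq hs Nat.prime_two).mp (hs.dvd_of_dvd_pow hsd)) hs2
    · exact absurd h2 h2Q
    · exact absurd h2 (h2a _ (hab ▸ dvd_mul_right _ _))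
    · exact absurd h2 (h2a _ (hab ▸ dvd_mul_left _ _))
    · rcases hs.dvd_mul.mp hsd with h' | h'
      · rw [hu2] at h'
        exact absurd ((Nat.prime_dvd_prime_iff_eq hs Nat.prime_two).mp (hs.dvd_of_dvd_pow h')) hs2
      · exact h'
  have mD : 2 * u * (q - 1) ∈ charDegrees S := (hdeg _).mpr (by simp)
  have mQ : q ^ 2 + 1 ∈ charDegrees S := (hdeg _).mpr (by simp)
  have mA : (q - 1) * (q - 4 * u + 1) ∈ charDegrees S := (hdeg _).mpr (by simp)
  have mB : (q - 1) * (q + 4 * u + 1) ∈ charDegrees S := (hdeg _).mpr (by simp)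
  constructor
  · ext r
    constructor
    · rintro ⟨hr, d, hd, hrd⟩
      exact ⟨hr, hprime d hd r hr hrd⟩
    · rintro ⟨hr, rfl | h⟩
      · exact ⟨hr, _, mD, Dvd.dvd.mul_right (dvd_mul_right _ _) _⟩
      · rcases hr.dvd_mul.mp h with h | h
        · exact ⟨hr, _, mD, h.mul_left _⟩
        · exact ⟨hr, _, mQ, h⟩
  · intro r s
    constructor
    · rintro ⟨hne, hr, hs, d, hd, hrs⟩
      refine ⟨hne, hr, hs, ?_⟩
      have h1 : r ∣ d := (dvd_mul_right r s).trans hrs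
      have h2 : s ∣ d := (dvd_mul_left s r).trans hrs
      rcases hprime d hd r hr h1 with rfl | hr'
      · exact Or.inr (Or.inl ⟨rfl, heven d hd h1 s hs hne.symm h2⟩)
      · rcases hprime d hd s hs h2 with rfl | hs'
        · exact Or.inr (Or.inr ⟨rfl, heven d hd h2 r hr hne h1⟩)
        · exact Or.inl ⟨hr', hs'⟩
    · rintro ⟨hne, hr, hs, h⟩
      refine ⟨hne, hr, hs, ?_⟩
      have hcop := (Nat.coprime_primes hr hs).mpr hne
      have mix : ∀ x y : ℕ, x.Coprime y → x ∣ q - 1 → y.Prime → y ∣ q ^ 2 + 1 →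
          ∃ d ∈ charDegrees S, x * y ∣ d := by
        intro x y _ hx hy hy'
        rw [← hab] at hy'
        rcases hy.dvd_mul.mp hy' with h | h
        · exact ⟨_, mA, mul_dvd_mul hx h⟩
        · exact ⟨_, mB, mul_dvd_mul hx h⟩
      rcases h with ⟨h1, h2⟩ | ⟨rfl, h2⟩ | ⟨rfl, h1⟩
      · rcases hr.dvd_mul.mp h1 with a | a <;> rcases hs.dvd_mul.mp h2 with b | b
        · exact ⟨_, mD, (hcop.mul_dvd_of_dvd_of_dvd a b).mul_left _⟩
        · exact mix r s hcop a hs b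
        · obtain ⟨d, hd, hdd⟩ := mix s r hcop.symm b hr a
          exact ⟨d, hd, Nat.mul_comm s r ▸ hdd⟩
        · exact ⟨_, mQ, hcop.mul_dvd_of_dvd_of_dvd a b⟩
      · exact ⟨_, mD, mul_dvd_mul (dvd_mul_right 2 u) h2⟩
      · exact ⟨_, mD, by rw [Nat.mul_comm r 2]; exact mul_dvd_mul (dvd_mul_right 2 u) h1⟩

end Cfsg.Agent.S4775
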