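import Cfsg.Statements.S4776
import Cfsg.Agent.Lib.CharTheory.RelDegreeGraph

set_option autoImplicit false
open Cfsg
open CfsgLib.CharTheory

namespace Cfsg.Agent.S4776

theorem result {G : Type*} [Group G] [Finite G] (N : Subgroup G) [N.Normal] (hN : ⁅N, N⁆ < N) (hNG : N ≤ commutator G) : Nat.card (Cfsg.commonDivisorGraph.induce (Cfsg.relCharDegrees N)).ConnectedComponent ≤ 2 ∧ ∀ (a b : ℕ) (ha : a ∈ Cfsg.relCharDegrees N) (hb : b ∈ Cfsg.relCharDegrees N), ¬ (Cfsg.commonDivisorGraph.induce (Cfsg.relCharDegrees N)).Reachable ⟨a, ha⟩ ⟨b, hb⟩ → (Nat.Coprime a (⁅N, N⁆.relIndex N) ∧ ∀ r : ℕ, r.Prime → r ∣ ⁅N, N⁆.relIndex N → r ∣ b) ∨ (Nat.Coprime b (⁅N, N⁆.relIndex N) ∧ ∀ r : ℕ, r.Prime → r ∣ ⁅N, N⁆.relIndex N → r ∣ a) := by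
  classical
  have := Fintype.ofFinite G
  have := Fintype.ofFinite N
  set V := Cfsg.relCharDegrees N
  set Γ := Cfsg.commonDivisorGraph.induce V
  have hidx : ⁅N, N⁆.relIndex N ≠ 1 := fun e => hN.not_ge (Subgroup.relIndex_eq_one.mp e)
  obtain ⟨r₀, hr₀, hr₀d⟩ := Nat.exists_prime_and_dvd hidx
  let All : ℕ → Prop := fun d => ∀ r : ℕ, r.Prime → r ∣ ⁅N, N⁆.relIndex N → r ∣ d
  have hpos : ∀ d ∈ V, 0 < d := by
    rintro d ⟨χ, -, rfl⟩
    exact (charDegree_spec' χ.2).2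
  have hA : ∀ a b : ↥V, All a → All b → Γ.Reachable a b := fun a b ha hb =>
    (linked_of_prime a.2 b.2 hr₀ (ha r₀ hr₀ hr₀d) (hb r₀ hr₀ hr₀d) (hpos _ a.2)).choose_spec.choose_spec
  have hB : ∀ a b : ↥V, ¬ All a → ¬ All b → Γ.Reachable a b := by
    intro a b ha hb
    simp only [All, not_forall] at ha hb
    obtain ⟨r, hr, hrN, hra⟩ := ha
    obtain ⟨s, hs, hsN, hsb⟩ := hb
    exact (linked_of_not_dvd hNG a.2 b.2 hr hs hrN hsN hra hsb).choose_spec.choose_spec
  constructor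
  · rw [show (2 : ℕ) = Nat.card Bool by simp]
    let f : Γ.ConnectedComponent → Bool := fun c => decide (All c.out)
    refine Nat.card_le_card_of_injective f fun c d h => ?_
    have hc : Γ.connectedComponentMk c.out = c := Quot.out_eq c
    have hd : Γ.connectedComponentMk d.out = d := Quot.out_eq d
    rw [← hc, ← hd]
    simp only [f, decide_eq_decide] at h
    by_cases hAll : All c.out
    · exact SimpleGraph.ConnectedComponent.sound (hA _ _ hAll (h.mp hAll))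
    · exact SimpleGraph.ConnectedComponent.sound (hB _ _ hAll fun e => hAll (h.mpr e))
  · intro a b ha hb hab
    have key : ∀ x y : ↥V, ¬ Γ.Reachable x y → ¬ All x →
        Nat.Coprime x (⁅N, N⁆.relIndex N) ∧ All y := by
      intro x y hxy hx
      have hy : All y := by
        by_contra hy
        exact hxy (hB x y hx hy)
      refine ⟨?_, hy⟩
      by_contra hc
      obtain ⟨r, hr, hrx, hrN⟩ := Nat.Prime.not_coprime_iff_dvd.mp hc
      exact hxy (linked_of_prime x.2 y.2 hr hrx (hy r hr hrN) (hpos _ x.2)).choose_spec.choose_spec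
    by_cases hxA : All a
    · by_cases hyA : All b
      · exact absurd (hA ⟨a, ha⟩ ⟨b, hb⟩ hxA hyA) hab
      · exact Or.inr (key ⟨b, hb⟩ ⟨a, ha⟩ (fun h => hab h.symm) hyA)
    · exact Or.inl (key ⟨a, ha⟩ ⟨b, hb⟩ hab hxA)

end Cfsg.Agent.S4776
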