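import Cfsg.Statements.S4779
import Cfsg.Agent.Lib.CharTheory.RelDegreeShape

set_option autoImplicit false
open Cfsg
open CfsgLib.CharTheory

namespace Cfsg.Agent.S4779

/-- Let N be a solvable normal subgroup of the finite group G contained in the derived subgroup of G, and consider the common-divisor graph on the relative degree set cd(G|N) (degrees of irreducible complex characters of G whose kernel does not contain N, two distinct degrees adjacent when not coprime). If this graph has two vertices that are not joined by any path, then there is a vertex a₀ such that any two distinct vertices in the component of a₀ are adjacent, and any two distinct vertices outside that component are adjacent or have a common neighbour (one component is complete, the other has diameter at most 2). -/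
theorem result {G : Type*} [Group G] [Finite G] (N : Subgroup G) [N.Normal] [Group.IsSolvable N] (hNG : N ≤ commutator G) (hdisc : ¬ (Cfsg.commonDivisorGraph.induce (Cfsg.relCharDegrees N)).Preconnected) : ∃ a₀ : ↥(Cfsg.relCharDegrees N), (∀ b c : ↥(Cfsg.relCharDegrees N), (Cfsg.commonDivisorGraph.induce (Cfsg.relCharDegrees N)).Reachable a₀ b → (Cfsg.commonDivisorGraph.induce (Cfsg.relCharDegrees N)).Reachable a₀ c → b ≠ c → (Cfsg.commonDivisorGraph.induce (Cfsg.relCharDegrees N)).Adj b c) ∧ (∀ b c : ↥(Cfsg.relCharDegrees N), ¬ (Cfsg.commonDivisorGraph.induce (Cfsg.relCharDegrees N)).Reachable a₀ b → ¬ (Cfsg.commonDivisorGraph.induce (Cfsg.relCharDegrees N)).Reachable a₀ c → b ≠ c → (Cfsg.commonDivisorGraph.induce (Cfsg.relCharDegrees N)).Adj b c ∨ ∃ d : ↥(Cfsg.relCharDegrees N), (Cfsg.commonDivisorGraph.induce (Cfsg.relCharDegrees N)).Adj b d ∧ (Cfsg.commonDivisorGraph.induce (Cfsg.relCharDegrees N)).Adj d c) := by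
  classical
  have := Fintype.ofFinite G
  have := Fintype.ofFinite N
  set V := Cfsg.relCharDegrees N
  set Γ := Cfsg.commonDivisorGraph.induce V
  set m := (commutator N).index with hm
  let All : ℕ → Prop := fun d => ∀ r : ℕ, r.Prime → r ∣ m → r ∣ d
  have hpos : ∀ d : ↥V, 0 < d.1 := by
    rintro ⟨d, χ, -, rfl⟩
    exact (charDegree_spec' χ.2).2
  have hnt : Nontrivial N := by
    by_contra hc
    rw [not_nontrivial_iff_subsingleton] at hc
    refine hdisc fun a b => ?_
    obtain ⟨χ, ⟨x, hx, hne⟩, -⟩ := a.2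
    exact absurd (congrArg (fun z : N => (χ : G → ℂ) z.1) (Subsingleton.elim (⟨x, hx⟩ : N) 1)) hne
  have hm1 : m ≠ 1 := fun e =>
    (IsSolvable.commutator_lt_top_of_nontrivial N).ne (Subgroup.index_eq_one.mp e)
  obtain ⟨r₀, hr₀, hr₀d⟩ := Nat.exists_prime_and_dvd hm1
  have hAB : ∀ a b : ↥V, All a → All b → Γ.Reachable a b := fun a b ha hb =>
    (linked_of_prime a.2 b.2 hr₀ (ha r₀ hr₀ hr₀d) (hb r₀ hr₀ hr₀d) (hpos a)).choose_spec.choose_spec
  have hBB : ∀ a b : ↥V, ¬ All a → ¬ All b → Γ.Reachable a b := by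
    intro a b ha hb
    simp only [All, not_forall] at ha hb
    obtain ⟨r, hr, hrN, hra⟩ := ha
    obtain ⟨s, hs, hsN, hsb⟩ := hb
    rw [hm, ← relIndex_derived] at hrN hsN
    exact (linked_of_not_dvd hNG a.2 b.2 hr hs hrN hsN hra hsb).choose_spec.choose_spec
  have hno : ∀ a b : ↥V, All a → ¬ All b → ¬ Γ.Reachable a b := fun a b ha hb hab =>
    hdisc fun x y => by
      have h : ∀ z : ↥V, Γ.Reachable a z := fun z => by
        by_cases hz : All z
        · exact hAB a z ha hz
        · exact hab.trans (hBB b z hb hz)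
      exact (h x).symm.trans (h y)
  have hA : ∃ a : ↥V, All a := by
    by_contra hc
    push Not at hc
    exact hdisc fun x y => hBB x y (hc x) (hc y)
  obtain ⟨a₀, ha₀⟩ := hA
  have hco : ∀ x : ↥V, ¬ All x → x.1.Coprime m := by
    intro x hx
    by_contra hc
    obtain ⟨r, hr, h1, h2⟩ := Nat.Prime.not_coprime_iff_dvd.mp hc
    exact hno a₀ x ha₀ hx (linked_of_prime a₀.2 x.2 hr (ha₀ r hr h2) h1 (hpos a₀)).choose_spec.choose_spec
  have hiff : ∀ x : ↥V, Γ.Reachable a₀ x ↔ All x := fun x =>
    ⟨fun h => by_contra fun hx => hno a₀ x ha₀ hx h, hAB a₀ x ha₀⟩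
  refine ⟨a₀, fun b c hb hc hne => adj_of_prime hne hr₀ ((hiff b).mp hb r₀ hr₀ hr₀d)
    ((hiff c).mp hc r₀ hr₀ hr₀d) (hpos b), fun b c hb hc hne => ?_⟩
  have hsep : ∀ x y : ↥V, x.1.Coprime m → ∀ t : ℕ, t.Prime → t ∣ x.1 → t ∣ y.1 → y.1.Coprime m := by
    intro x y hx t ht h1 h2
    refine hco y fun hy => ?_
    have hxB : ¬ All x := fun h =>
      hr₀.one_lt.ne' (Nat.eq_one_of_dvd_coprimes hx (h r₀ hr₀ hr₀d) hr₀d)
    exact hno y x hy hxB (linked_of_prime y.2 x.2 ht h2 h1 (hpos y)).choose_spec.choose_spec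
  rcases two_of_separated hNG hsep (hco b fun h => hb ((hiff b).mpr h))
    (hco c fun h => hc ((hiff c).mpr h)) with h | h | h
  · exact absurd h hne
  · exact Or.inl h
  · exact Or.inr h

end Cfsg.Agent.S4779
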