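import Cfsg.Statements.S4781
import Cfsg.Agent.Lib.NoDivPair.Main
-- import your own Cfsg.Agent.* helpers here

set_option autoImplicit false
open Cfsg CfsgLib CfsgLib.CharTheory

namespace Cfsg.Agent.S4781

/-- Let G be a finite solvable group in which no irreducible complex character degree a with 1 < a divides a larger irreducible character degree, and suppose the character degree graph of G (primes dividing some degree, distinct primes adjacent when their product divides a degree) has exactly two connected components. Then G has exactly three distinct irreducible character degrees. -/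
theorem result {G : Type*} [Group G] [Finite G] [Group.IsSolvable G] (hnd : ∀ a ∈ Cfsg.charDegrees G, ∀ b ∈ Cfsg.charDegrees G, 1 < a → a < b → ¬ a ∣ b) (htwo : Nat.card ((Cfsg.degreeGraph G).induce (Cfsg.degreePrimes G)).ConnectedComponent = 2) : Nat.card ↥(Cfsg.charDegrees G) = 3 := by
  classical
  haveI := Fintype.ofFinite G
  set D := Cfsg.degreePrimes G with hD
  set Γ := (Cfsg.degreeGraph G).induce D with hΓ
  have htwo' : Nat.card Γ.ConnectedComponent = 2 := htwo
  -- the graph is neither empty nor connected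
  have hnotconn : ∀ (p : ℕ) (hp : p ∈ D), ∃ v : D, ¬ Γ.Reachable v ⟨p, hp⟩ := by
    intro p hp
    by_contra hc
    push Not at hc
    haveI : Subsingleton Γ.ConnectedComponent := by
      refine ⟨fun a b => ?_⟩
      induction a using SimpleGraph.ConnectedComponent.ind
      induction b using SimpleGraph.ConnectedComponent.ind
      exact SimpleGraph.ConnectedComponent.eq.mpr ((hc _).trans (hc _).symm)
    have h1 := Finite.card_le_one_iff_subsingleton.mpr (inferInstance : Subsingleton Γ.ConnectedComponent)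
    omega
  have hadj : ∀ (u v : D) (d : ℕ), d ∈ Cfsg.charDegrees G → (u : ℕ) ∣ d → (v : ℕ) ∣ d → Γ.Reachable u v := by
    intro u v d hd hu hv
    by_cases huv : (u : ℕ) = v
    · rw [Subtype.ext huv]
    · exact SimpleGraph.Adj.reachable (show (Cfsg.degreeGraph G).Adj u v from ⟨huv, u.2.1, v.2.1, d, hd,
        ((Nat.coprime_primes u.2.1 v.2.1).mpr huv).mul_dvd_of_dvd_of_dvd hu hv⟩)
  have hmem : ∀ χ : G → ℂ, IsIrrCharacter G χ → charDegree χ ∈ Cfsg.charDegrees G := fun χ h => ⟨⟨χ, h⟩, rfl⟩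
  have hna : commutator G ≠ ⊥ := by
    intro e
    have hempty : ∀ v : D, False := by
      rintro ⟨p, hp, d, ⟨χ, rfl⟩, hpd⟩
      have hc : ∀ a b : G, a * b = b * a := fun a b => by
        rw [← commutatorElement_eq_one_iff_mul_comm, ← Subgroup.mem_bot, ← e]
        exact Subgroup.commutator_mem_commutator (Subgroup.mem_top _) (Subgroup.mem_top _)
      rw [(NoDivPair.charDegree_eq_one_iff χ.2).mpr (degree_one_of_commutative hc χ.2)] at hpd
      exact hp.ne_one (Nat.dvd_one.mp hpd)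
    haveI : IsEmpty Γ.ConnectedComponent := ⟨fun c => by
      induction c using SimpleGraph.ConnectedComponent.ind with
      | _ v => exact hempty v⟩
    rw [Nat.card_of_isEmpty] at htwo'
    omega
  obtain ⟨K, hKn, hcase⟩ := minimal_nonabelian_quotient hna
  rcases hcase with ⟨p, hp, hpg, β, hβ, hβK, hpβ⟩ | ⟨N, hNn, -, -, q, hq, hcomm, hexp, hqf, hNK, hf, hfp⟩
  · exfalso
    have hβ1 : 1 < charDegree β := lt_of_lt_of_le hp.one_lt (Nat.le_of_dvd (charDegree_spec' hβ).2 hpβ)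
    have hall : ∀ χ : G → ℂ, IsIrrCharacter G χ → 1 < charDegree χ → p ∣ charDegree χ := by
      intro χ hχ h1
      rcases exists_degree_mul_of_pQuotient hp K hpg hβ hβK hχ with h | ⟨ψ, hψ, hd⟩
      · exact h
      · exact absurd (Dvd.intro_left _ hd.symm) (hnd _ (hmem χ hχ) _ (hmem ψ hψ) h1 (by rw [hd]; nlinarith))
    have hpD : p ∈ D := ⟨hp, _, hmem β hβ, hpβ⟩
    obtain ⟨v, hv⟩ := hnotconn p hpD
    obtain ⟨hvp, d, ⟨χ, rfl⟩, hvd⟩ := v.2
    exact hv (hadj v ⟨p, hpD⟩ _ (hmem χ χ.2) hvd (hall χ χ.2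
      (lt_of_lt_of_le hvp.one_lt (Nat.le_of_dvd (charDegree_spec' χ.2).2 hvd))))
  haveI := hKn
  haveI := hNn
  haveI := Fintype.ofFinite N
  set f := N.index with hfdef
  have hone : ∀ {H : Type _} [Group H], charDegree (fun _ : H => (1 : ℂ)) = 1 := by intros; simp [charDegree]
  have hfmem : f ∈ Cfsg.charDegrees G := by
    obtain ⟨χ, hχ, hd⟩ := exists_degree_index_mul N K hq hcomm hexp hNK hfp (isIrrCharacter_one (G := N))
      (by rw [hone]; exact fun h => hq.ne_one (Nat.dvd_one.mp h))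
    rw [hone, mul_one] at hd
    rw [hfdef, ← hd]
    exact hmem χ hχ
  -- degrees below `N`
  have hqfree : ∀ θ : N → ℂ, IsIrrCharacter N θ → ¬ q ∣ charDegree θ → charDegree θ = 1 := by
    intro θ hθ hqd
    by_contra hne
    obtain ⟨ψ, hψ, hd⟩ := exists_degree_index_mul N K hq hcomm hexp hNK hfp hθ hqd
    have h2 : 1 < charDegree θ := lt_of_le_of_ne (charDegree_spec' hθ).2 (Ne.symm hne)
    exact hnd f hfmem _ (hmem ψ hψ) hf (by rw [hd]; nlinarith) (hd ▸ dvd_mul_right _ _)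
  have hcases : ∀ χ : G → ℂ, IsIrrCharacter G χ → charDegree χ = 1 ∨ charDegree χ = f ∨ q ∣ charDegree χ := by
    intro χ hχ
    obtain ⟨θ, hθ, hc⟩ := exists_constituent (isCharacter_restrict (isCharacter_of_irr hχ) N)
      fun e => irr_ne_zero hχ (congrFun e 1)
    obtain ⟨e, he, hdvd⟩ := degree_ratio_dvd hχ hθ hc
    rw [(charDegree_spec' hχ).1, (charDegree_spec' hθ).1, ← Nat.cast_mul, Nat.cast_inj] at he
    by_cases hqd : q ∣ charDegree θ
    · exact Or.inr (Or.inr (he ▸ hqd.mul_left e))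
    · rw [hqfree θ hθ hqd, mul_one] at he
      by_contra hno
      push Not at hno
      have h1 : 1 < charDegree χ := lt_of_le_of_ne (charDegree_spec' hχ).2 (Ne.symm hno.1)
      have h2 : charDegree χ < f := lt_of_le_of_ne (Nat.le_of_dvd (by omega) (he ▸ hdvd)) hno.2.1
      exact hnd _ (hmem χ hχ) f hfmem h1 h2 (he ▸ hdvd)
  set A : Set ℕ := {m | m ∈ Cfsg.charDegrees G ∧ m ≠ 1 ∧ m ≠ f} with hA
  have hbig : ∀ m ∈ A, 1 < m := by
    rintro m ⟨⟨χ, rfl⟩, h1, -⟩
    exact lt_of_le_of_ne (charDegree_spec' χ.2).2 (Ne.symm h1)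
  have hqA : ∀ m ∈ A, q ∣ m := by
    rintro m ⟨⟨χ, rfl⟩, h1, h2⟩
    exact ((hcases χ χ.2).resolve_left h1).resolve_left h2
  have hanti : NoDivPair.Anti A := by
    intro a ha b hb hab
    by_contra hne
    exact hnd a ha.1 b hb.1 (hbig a ha)
      (lt_of_le_of_ne (Nat.le_of_dvd (zero_lt_one.trans (hbig b hb)) hab) hne) hab
  have hrN : ∀ r, r.Prime → r ∣ f → r ∈ D := fun r hr hrf => ⟨hr, f, hfmem, hrf⟩
  have hfA : ∀ m ∈ A, m.Coprime f := by
    intro m hm
    by_contra hco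
    obtain ⟨r, hr, hrm, hrf⟩ := Nat.Prime.not_coprime_iff_dvd.mp hco
    have hqD : q ∈ D := ⟨hq, m, hm.1, hqA m hm⟩
    obtain ⟨v, hv⟩ := hnotconn q hqD
    obtain ⟨hvp, d, hd, hvd⟩ := v.2
    have hd1 : d ≠ 1 := fun e => hvp.ne_one (Nat.dvd_one.mp (e ▸ hvd))
    by_cases hdf : d = f
    · exact hv ((hadj v ⟨r, hrN r hr hrf⟩ f hfmem (hdf ▸ hvd) hrf).trans
        (hadj ⟨r, hrN r hr hrf⟩ ⟨q, hqD⟩ m hm.1 hrm (hqA m hm)))
    · exact hv (hadj v ⟨q, hqD⟩ d hd hvd (hqA d ⟨hd, hd1, hdf⟩))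
  obtain ⟨m₀, hm₀⟩ : ∃ m, m ∈ A := by
    by_contra hc
    push Not at hc
    obtain ⟨r, hr, hrf⟩ := Nat.exists_prime_and_dvd (n := f) (by omega)
    obtain ⟨v, hv⟩ := hnotconn r (hrN r hr hrf)
    obtain ⟨hvp, d, hd, hvd⟩ := v.2
    have hd1 : d ≠ 1 := fun e => hvp.ne_one (Nat.dvd_one.mp (e ▸ hvd))
    by_cases hdf : d = f
    · exact hv (hadj v ⟨r, hrN r hr hrf⟩ f hfmem (hdf ▸ hvd) hrf)
    · exact hc d ⟨hd, hd1, hdf⟩
  have hgood : NoDivPair.Good N A := by
    intro θ hθ h1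
    obtain ⟨χ, hχ, hc⟩ := exists_irr_above hθ
    obtain ⟨e, he, hdvd⟩ := degree_ratio_dvd hχ hθ hc
    rw [(charDegree_spec' hχ).1, (charDegree_spec' hθ).1, ← Nat.cast_mul, Nat.cast_inj] at he
    have hθd : charDegree θ ≠ 1 := fun h => h1 ((NoDivPair.charDegree_eq_one_iff hθ).mp h)
    have hχA : charDegree χ ∈ A := by
      refine ⟨hmem χ hχ, fun h => hθd (Nat.eq_one_of_mul_eq_one_left (he ▸ h)), fun h => hθd (hqfree θ hθ fun hqd => ?_)⟩
      exact hqf (h ▸ he ▸ hqd.mul_left e)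
    have hres := isIrr_res_of_coprime_index (K := N) hχ (hfA _ hχA)
    have heq : (fun n : N => χ n) = θ := by
      by_contra hne
      exact hc (by rw [classInner_irr hres hθ, if_neg hne])
    refine ⟨fun k => ?_, ?_⟩
    · rw [← heq]
      funext n
      show χ (k * (n : G) * k⁻¹) = χ n
      exact isClassFunction_iff_isConj.mp (isClassFunction_irr hχ) _ _ (isConj_iff.mpr ⟨k⁻¹, by group⟩)
    · rw [← heq]
      exact hχA
  have hAeq : A = {m₀} := by
    refine Set.eq_singleton_iff_unique_mem.mpr ⟨hm₀, fun m hm => ?_⟩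
    obtain ⟨χ, rfl⟩ := hm.1
    obtain ⟨χ₀, rfl⟩ := hm₀.1
    have h := NoDivPair.degrees_eq N K hq hcomm hexp hqf hNK hf hfp hgood hanti hbig hqA hfA
      (isIrr_res_of_coprime_index (K := N) χ.2 (hfA _ hm))
      (isIrr_res_of_coprime_index (K := N) χ₀.2 (hfA _ hm₀))
      (fun e => hm.2.1 ((NoDivPair.charDegree_eq_one_iff χ.2).mpr e))
      (fun e => hm₀.2.1 ((NoDivPair.charDegree_eq_one_iff χ₀.2).mpr e))
    exact h
  have hcd : Cfsg.charDegrees G = {1, f, m₀} := by
    ext d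
    simp only [Set.mem_insert_iff, Set.mem_singleton_iff]
    refine ⟨fun hd => ?_, fun hd => ?_⟩
    · by_contra hno
      push Not at hno
      have : d ∈ A := ⟨hd, hno.1, hno.2.1⟩
      rw [hAeq] at this
      exact hno.2.2 this
    · rcases hd with rfl | rfl | rfl
      · exact ⟨⟨fun _ => 1, isIrrCharacter_one⟩, hone⟩
      · exact hfmem
      · exact hm₀.1
  rw [hcd, Nat.card_coe_set_eq]
  exact Set.ncard_eq_three.mpr ⟨1, f, m₀, by omega, hm₀.2.1.symm, hm₀.2.2.symm, rfl⟩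

end Cfsg.Agent.S4781
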