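import Cfsg.Statements.S4796
import Cfsg.Agent.Lib.CharTheory.More
import Cfsg.Agent.Lib.CharTheory.OddBasics
import Mathlib.GroupTheory.SchurZassenhaus
import Mathlib.GroupTheory.Perm.Cycle.Type
import Cfsg.Prelude.Def_Solvable

set_option autoImplicit false
open Cfsg
open scoped Pointwise

namespace Cfsg.Agent.S4796

/-- Let G be a finite group with a faithful irreducible complex character χ whose codegree #G / χ(1) is a prime p (for a faithful character the kernel is trivial, so the codegree is #G / χ(1)). Then either G is cyclic of order p, or G is a Frobenius group whose Frobenius kernel has order p: some proper non-trivial subgroup H satisfies H ∩ gHg⁻¹ = 1 for every element g outside H, and the set of elements lying in no conjugate of H, together with the identity, has exactly p elements. -/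
theorem result {G : Type*} [Group G] [Finite G] (χ : Cfsg.IrrCharacter G) (hfaith : ∀ g : G, (χ : G → ℂ) g = (χ : G → ℂ) 1 → g = 1) (p : ℕ) (hp : p.Prime) (hcod : Nat.card G = p * Cfsg.charDegree (χ : G → ℂ)) : (IsCyclic G ∧ Nat.card G = p) ∨ ∃ H : Subgroup G, Cfsg.IsFrobeniusComplement H ∧ Nat.card ↥(Cfsg.frobeniusKernel H) = p := by
  classical
  have := Fintype.ofFinite G
  haveI := Fact.mk hp
  obtain ⟨hd1, hdpos⟩ := CfsgLib.CharTheory.charDegree_spec' χ.2
  set d := Cfsg.charDegree (χ : G → ℂ) with hd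
  rcases Nat.lt_or_ge d 2 with hlt | hd2
  · left
    have hGp : Nat.card G = p := by rw [hcod, show d = 1 by omega, mul_one]
    exact ⟨isCyclic_of_prime_card hGp, hGp⟩
  right
  -- the degree is less than `p`
  have hdp : d < p := by
    have hsum := CfsgLib.CharTheory.sum_irr_degree_sq (G := G)
    rw [Finset.sum_congr rfl fun (φ : Cfsg.IrrCharacter G) _ => by
      rw [(CfsgLib.CharTheory.charDegree_spec' φ.2).1, ← Nat.cast_pow]] at hsum
    have hsum' : ∑ φ : Cfsg.IrrCharacter G, Cfsg.charDegree (φ : G → ℂ) ^ 2 = Nat.card G := by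
      exact_mod_cast hsum
    let t : Cfsg.IrrCharacter G := ⟨fun _ => 1, CfsgLib.CharTheory.isIrrCharacter_one⟩
    have ht : Cfsg.charDegree (t : G → ℂ) = 1 := by simp [Cfsg.charDegree, t]
    have hne : t ≠ χ := fun h => by rw [h, ← hd] at ht; omega
    have h2 : Cfsg.charDegree (t : G → ℂ) ^ 2 + d ^ 2 ≤ Nat.card G := by
      rw [← hsum', hd, ← Finset.sum_pair (f := fun φ : Cfsg.IrrCharacter G =>
        Cfsg.charDegree (φ : G → ℂ) ^ 2) hne]
      exact Finset.sum_le_sum_of_subset (Finset.subset_univ _)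
    rw [ht, hcod] at h2
    by_contra hge
    have : p * d ≤ d * d := Nat.mul_le_mul_right d (by omega)
    rw [← pow_two] at this
    omega
  obtain ⟨z, hz⟩ := exists_prime_orderOf_dvd_card' (G := G) p (hcod ▸ dvd_mul_right p d)
  set Q := Subgroup.zpowers z with hQ
  have hQc : Nat.card Q = p := by rw [Nat.card_zpowers, hz]
  have hzpow : ∀ w : G, w ^ p = 1 → w ∈ Q := by
    intro w hw
    by_contra hnot
    have hw1 : orderOf w = p := orderOf_eq_prime hw fun h1 => hnot (h1 ▸ one_mem _)
    have hinj : Function.Injective (fun q : Q × Subgroup.zpowers w => (q.1 : G) * q.2) := by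
      refine Subgroup.mul_injective_of_disjoint ?_
      rw [disjoint_iff, ← Subgroup.card_eq_one]
      rcases (Nat.dvd_prime hp).mp (hQc ▸ Subgroup.card_dvd_of_le
        (inf_le_left : Q ⊓ Subgroup.zpowers w ≤ Q)) with h | h
      · exact h
      · exfalso
        have h3 : Subgroup.zpowers w = Q ⊓ Subgroup.zpowers w := by
          refine (Subgroup.eq_of_le_of_card_ge inf_le_right ?_).symm
          rw [h, Nat.card_zpowers, hw1]
        exact hnot (h3.le (Subgroup.mem_zpowers w)).1
    have hle := Nat.card_le_card_of_injective _ hinj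
    rw [Nat.card_prod, hQc, Nat.card_zpowers, hw1, hcod] at hle
    have := Nat.le_of_mul_le_mul_left hle hp.pos
    omega
  haveI hQn : Q.Normal := ⟨fun w hw g => hzpow _ (by
    rw [conj_pow, show w ^ p = 1 by
      have h := pow_card_eq_one' (x := (⟨w, hw⟩ : Q))
      rw [hQc] at h
      exact congrArg Subtype.val h]
    group)⟩
  -- the centraliser of `Q` is `Q`
  set C := Subgroup.centralizer (Q : Set G) with hC
  haveI : C.Normal := inferInstance
  have := Fintype.ofFinite C
  have hQC : Q ≤ C := fun a ha b hb => by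
    obtain ⟨i, rfl⟩ := Subgroup.mem_zpowers_iff.mp ha
    obtain ⟨j, rfl⟩ := Subgroup.mem_zpowers_iff.mp hb
    rw [← zpow_add, ← zpow_add, add_comm]
  obtain ⟨a, ha⟩ : ∃ a, Nat.card C = p * a := hQc ▸ Subgroup.card_dvd_of_le hQC
  have hrest := CfsgLib.CharTheory.isCharacter_restrict (CfsgLib.CharTheory.isCharacter_of_irr χ.2) C
  obtain ⟨θ, hθ, hne⟩ := CfsgLib.CharTheory.exists_constituent hrest
    (fun e => CfsgLib.CharTheory.irr_ne_zero χ.2 (congrFun e 1))
  obtain ⟨e, he⟩ := CfsgLib.CharTheory.classInner_char_nat hrest (CfsgLib.CharTheory.isCharacter_of_irr hθ)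
  obtain ⟨hθ1, hθpos⟩ := CfsgLib.CharTheory.charDegree_spec' hθ
  set f := Cfsg.charDegree θ
  set t := (CfsgLib.CharTheory.inertia C θ).index
  have hdeg : d = e * t * f := by
    have h := CfsgLib.CharTheory.clifford_degree C χ.2 hθ hne
    rw [he, hθ1, hd1] at h
    exact_mod_cast h
  have hnorm : e * e * t * Nat.card C ≤ Nat.card G := by
    have h1 : Cfsg.classInner (fun n : C => (χ : G → ℂ) n) (fun n : C => (χ : G → ℂ) n) =
        ((e * e * t : ℕ) : ℂ) := by
      conv_lhs => arg 2; rw [CfsgLib.CharTheory.clifford C χ.2 hθ hne]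
      rw [CfsgLib.CharTheory.classInner_smul_right, CfsgLib.CharTheory.classInner_sum_right,
        Finset.sum_congr rfl fun ψ hψ => show _ = (e : ℂ) by
          obtain ⟨g, rfl⟩ := (CfsgLib.CharTheory.mem_conjOrbit C).mp hψ
          rw [CfsgLib.CharTheory.classInner_res_conjNormFun C g
            (CfsgLib.CharTheory.isClassFunction_irr χ.2), he],
        Finset.sum_const, CfsgLib.CharTheory.card_conjOrbit, he, nsmul_eq_mul]
      simp [t]; ring
    simp only [Cfsg.classInner, Complex.mul_conj, Complex.normSq_eq_norm_sq] at h1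
    rw [← Complex.ofReal_sum, inv_mul_eq_iff_eq_mul₀ (Nat.cast_ne_zero.mpr Nat.card_pos.ne')] at h1
    have h2 : ∑ n : C, ‖(χ : G → ℂ) n‖ ^ 2 = (Nat.card C : ℝ) * ((e * e * t : ℕ) : ℝ) := by
      exact_mod_cast h1
    have h3 : ∑ n : C, ‖(χ : G → ℂ) n‖ ^ 2 ≤ ∑ g : G, ‖(χ : G → ℂ) g‖ ^ 2 := by
      rw [← Finset.sum_subtype (Finset.univ.filter fun g => g ∈ C) (p := fun g => g ∈ C) (fun g => by simp)
        (f := fun g : G => ‖(χ : G → ℂ) g‖ ^ 2)]
      exact Finset.sum_le_sum_of_subset_of_nonneg (Finset.subset_univ _) fun g _ _ => sq_nonneg _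
    rw [CfsgLib.CharTheory.sum_norm_sq_irr χ.2, h2] at h3
    have h4 : Nat.card C * (e * e * t) ≤ Nat.card G := by exact_mod_cast h3
    rw [mul_comm]; exact h4
  have hfa : f ^ 2 ≤ a := by
    obtain ⟨n, ρ, hρ, hρc⟩ := hθ
    have h := CfsgLib.CharTheory.degree_sq_mul_card_le ρ (Q.subgroupOf C) fun w hw g => by
      rw [← map_mul, ← map_mul]
      congr 1
      exact Subtype.ext (g.2 w hw)
    rw [Nat.card_congr (Subgroup.subgroupOfEquivOfLe hQC).toEquiv, hQc, ha, show
      Module.finrank ℂ (Fin n → ℂ) = f by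
        simp only [f, Cfsg.charDegree, ← hρc, ρ.char_one]; simp, mul_comm] at h
    exact Nat.le_of_mul_le_mul_left h hp.pos
  have ha1 : a = 1 := by
    have hi := Subgroup.card_mul_index C
    set i := C.index
    have hdi : d = i * a := by
      apply Nat.eq_of_mul_eq_mul_left hp.pos
      rw [← hcod, ← hi, ha]; ring
    have hti : t ≤ i := Nat.le_of_dvd (Nat.pos_of_ne_zero Subgroup.index_ne_zero_of_finite)
      (Subgroup.index_dvd_of_le (CfsgLib.CharTheory.le_inertia C (CfsgLib.CharTheory.isClassFunction_irr hθ)))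
    have hee : e * e * t ≤ i := by
      rw [← hi, mul_comm (Nat.card C)] at hnorm
      exact Nat.le_of_mul_le_mul_right hnorm Nat.card_pos
    have h1 : d * d ≤ i * i * a := by
      calc d * d = (e * e * t) * t * (f ^ 2) := by rw [hdeg]; ring
        _ ≤ i * i * a := Nat.mul_le_mul (Nat.mul_le_mul hee hti) hfa
    rw [hdi] at h1
    have hapos : 0 < a := by
      rcases Nat.eq_zero_or_pos a with h | h
      · rw [h, mul_zero] at ha; exact absurd ha Nat.card_pos.ne'
      · exact h
    have hipos : 0 < i := Nat.pos_of_ne_zero Subgroup.index_ne_zero_of_finite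
    by_contra hne'
    have h2 : i * i * a * 2 ≤ i * i * a * a := Nat.mul_le_mul_left _ (by omega)
    have h3 : 0 < i * i * a := by positivity
    nlinarith
  have hCQ : C = Q := (Subgroup.eq_of_le_of_card_ge hQC (by rw [ha, hQc, ha1, mul_one])).symm
  have hQi : Q.index = d := by
    apply Nat.eq_of_mul_eq_mul_left hp.pos
    rw [← hcod, ← Subgroup.card_mul_index Q, hQc]
  obtain ⟨H, hH⟩ := Subgroup.exists_right_complement'_of_coprime (N := Q) (by
    rw [hQc, hQi, hp.coprime_iff_not_dvd]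
    exact fun h => absurd (Nat.le_of_dvd hdpos h) (by omega))
  have hHc : Nat.card H = d := by rw [← hQi, hH.symm.index_eq_card]
  have hTI : ∀ g : G, g ∉ H → H ⊓ MulAut.conj g • H = ⊥ := by
    intro g hg
    rw [Subgroup.eq_bot_iff_forall]
    rintro y ⟨hy, hy'⟩
    obtain ⟨⟨q, h⟩, rfl⟩ := hH.2 g
    obtain ⟨w, hw, hwy⟩ := hy'
    have hwy' : (q : G) * h * w * ((q : G) * h)⁻¹ = y := hwy
    set u := (h : G) * w * (h : G)⁻¹
    have hu : u ∈ H := H.mul_mem (H.mul_mem h.2 hw) (H.inv_mem h.2)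
    have huy : (q : G) * u * (q : G)⁻¹ = y := by
      rw [← hwy']
      show (q : G) * ((h : G) * w * (h : G)⁻¹) * (q : G)⁻¹ = _
      group
    have hdisj : ∀ s, s ∈ Q → s ∈ H → s = 1 := fun s hs hs' =>
      Subgroup.disjoint_def.mp hH.disjoint hs hs'
    have hcomm : y * u⁻¹ = 1 := hdisj _ (by
      rw [← huy, show (q : G) * u * (q : G)⁻¹ * u⁻¹ = (q : G) * (u * (q : G)⁻¹ * u⁻¹) by group]
      exact Q.mul_mem q.2 (hQn.conj_mem _ (Q.inv_mem q.2) u)) (H.mul_mem hy (H.inv_mem hu))
    rw [mul_inv_eq_one] at hcomm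
    rw [← hcomm, mul_inv_eq_iff_eq_mul] at huy
    rcases eq_or_ne (q : G) 1 with hq | hq
    · exact absurd (show (q : G) * h ∈ H by rw [hq, one_mul]; exact h.2) hg
    refine hdisj y (hCQ ▸ ?_) hy
    have hQq : Q = Subgroup.zpowers (q : G) := by
      refine (Subgroup.eq_of_le_of_card_ge (Subgroup.zpowers_le.mpr q.2) ?_).symm
      rcases (Nat.dvd_prime hp).mp (hQc ▸ Subgroup.card_dvd_of_le (Subgroup.zpowers_le.mpr q.2)) with h' | h'
      · exact absurd (orderOf_eq_one_iff.mp (Nat.card_zpowers (q : G) ▸ h')) hq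
      · rw [hQc, h']
    intro s hs
    obtain ⟨j, rfl⟩ := Subgroup.mem_zpowers_iff.mp (hQq ▸ hs)
    exact ((show Commute (q : G) y from huy).zpow_left j).eq
  refine ⟨H, ⟨fun h => ?_, fun h => ?_, hTI⟩, ?_⟩
  · rw [h, Subgroup.card_bot] at hHc; omega
  · rw [h, Subgroup.card_top, hcod] at hHc
    have := hp.two_le
    nlinarith
  -- the kernel is `Q`
  rw [← hQc]
  refine Nat.card_congr (Equiv.setCongr (Set.ext fun y => ?_))
  have hmem : ∀ g u : G, u ∈ H → g * u * g⁻¹ ∈ Q → u = 1 := fun g u hu hq => by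
    refine Subgroup.disjoint_def.mp hH.disjoint ?_ hu
    have := hQn.conj_mem _ hq g⁻¹
    simpa [mul_assoc] using this
  constructor
  · rintro (rfl | hy)
    · exact one_mem Q
    by_contra hyQ
    let F : {u : Q × H // (u.2 : G) ≠ 1} → {g : G // g ∉ Q} := fun u =>
      ⟨(u.1.1 : G) * u.1.2 * (u.1.1 : G)⁻¹, fun h => u.2 (hmem _ _ u.1.2.2 h)⟩
    have hF : Function.Injective F := by
      rintro ⟨⟨q, h⟩, hh⟩ ⟨⟨q', h'⟩, hh'⟩ he
      have he' : (q : G) * h * (q : G)⁻¹ = q' * h' * (q' : G)⁻¹ := congrArg Subtype.val he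
      have hqq : ((q' : G)⁻¹ * q) ∈ H := by
        by_contra hn
        have hb := hTI _ hn
        have h1 : (h' : G) ∈ H ⊓ MulAut.conj ((q' : G)⁻¹ * q) • H :=
          ⟨h'.2, ⟨h, h.2, by
            show (q' : G)⁻¹ * q * h * ((q' : G)⁻¹ * q)⁻¹ = h'
            rw [show (q' : G)⁻¹ * q * h * ((q' : G)⁻¹ * q)⁻¹ = (q' : G)⁻¹ * (q * h * (q : G)⁻¹) * q' by group,
              he']
            group⟩⟩
        rw [hb, Subgroup.mem_bot] at h1
        exact hh' h1
      have hq : q = q' := Subtype.ext (inv_mul_eq_one.mp (Subgroup.disjoint_def.mp hH.disjoint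
        (Q.mul_mem (Q.inv_mem q'.2) q.2) hqq)).symm
      subst hq
      simp only [mul_left_inj, mul_right_inj] at he'
      exact Subtype.ext (Prod.ext rfl (Subtype.ext he'))
    have hcard : Nat.card {u : Q × H // (u.2 : G) ≠ 1} = Nat.card {g : G // g ∉ Q} := by
      have h1 : Nat.card {u : Q × H // (u.2 : G) ≠ 1} = p * (d - 1) := by
        rw [Nat.card_congr ((show {u : Q × H // (u.2 : G) ≠ 1} ≃ Q × {h : H // (h : G) ≠ 1} from
          { toFun := fun u => (u.1.1, ⟨u.1.2, u.2⟩)
            invFun := fun u => ⟨(u.1, u.2.1), u.2.2⟩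
            left_inv := fun u => rfl
            right_inv := fun u => rfl })), Nat.card_prod, hQc]
        congr 1
        rw [Nat.card_eq_fintype_card, Fintype.card_subtype_compl,
          ← Nat.card_eq_fintype_card, ← Nat.card_eq_fintype_card, hHc]
        congr 1
        exact Nat.card_eq_one_iff_exists.mpr ⟨⟨1, rfl⟩, fun y => Subtype.ext (Subtype.ext y.2)⟩
      rw [h1, Nat.card_eq_fintype_card, Fintype.card_subtype_compl, ← Nat.card_eq_fintype_card,
        ← Nat.card_eq_fintype_card, hcod]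
      rw [show Nat.card {g : G // g ∈ Q} = p from hQc, Nat.mul_sub, mul_one]
    obtain ⟨⟨⟨q, h⟩, hh⟩, he⟩ := ((Nat.bijective_iff_injective_and_card F).mpr ⟨hF, hcard⟩).2 ⟨y, hyQ⟩
    exact hy q ⟨h, h.2, congrArg Subtype.val he⟩
  · intro hyQ
    refine or_iff_not_imp_left.mpr fun hy1 g hg => hy1 ?_
    obtain ⟨u, hu, rfl⟩ := hg
    have := hmem g u hu hyQ
    simp [this]

end Cfsg.Agent.S4796
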