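import Cfsg.Statements.S4797
import Cfsg.Agent.Lib.CharTheory.More2

set_option autoImplicit false
open Cfsg

namespace Cfsg.Agent.S4797

open scoped commutatorElement

/-- The codegree of an irreducible complex character χ of a finite group G is [G : ker χ] / χ(1), where ker χ is the set of elements at which χ takes the value χ(1). A non-trivial finite group is perfect if and only if no irreducible complex character of it has prime codegree. -/
theorem result {G : Type*} [Group G] [Finite G] [Nontrivial G] : commutator G = ⊤ ↔ ∀ χ : Cfsg.IrrCharacter G, ¬ ((Nat.card G / (Nat.card {g : G // (χ : G → ℂ) g = (χ : G → ℂ) 1} * Cfsg.charDegree (χ : G → ℂ)))).Prime := by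
  classical
  have := Fintype.ofFinite G
  constructor
  · intro hG χ
    rw [CfsgLib.CharTheory.codegree_eq χ.2]
    exact CfsgLib.CharTheory.not_prime_codegree_of_perfect hG χ.2
  · intro h
    by_contra hne
    obtain ⟨M, hM, hle⟩ := (eq_top_or_exists_le_coatom (commutator G)).resolve_left hne
    haveI : M.Normal := Subgroup.Normal.of_commutator_le _ hle
    have hcomm : ∀ a b : G ⧸ M, a * b = b * a := by
      intro x y
      obtain ⟨a, rfl⟩ := QuotientGroup.mk'_surjective M x
      obtain ⟨b, rfl⟩ := QuotientGroup.mk'_surjective M y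
      rw [← commutatorElement_eq_one_iff_mul_comm, ← map_commutatorElement]
      exact (QuotientGroup.eq_one_iff _).mpr (hle (Subgroup.commutator_mem_commutator
        (Subgroup.mem_top _) (Subgroup.mem_top _)))
    have : Fintype (G ⧸ M) := Fintype.ofFinite _
    have hnt : Nontrivial (G ⧸ M) := QuotientGroup.nontrivial_iff.mpr hM.1
    have hsub : ∀ S : Subgroup (G ⧸ M), S = ⊥ ∨ S = ⊤ := fun S => by
      rcases lt_or_eq_of_le (show M ≤ S.comap (QuotientGroup.mk' M) by
        conv_lhs => rw [← QuotientGroup.ker_mk' M]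
        exact Subgroup.comap_mono bot_le) with hlt | heq
      · right
        apply Subgroup.comap_injective (QuotientGroup.mk'_surjective M)
        rw [hM.2 _ hlt, Subgroup.comap_top]
      · left
        apply Subgroup.comap_injective (QuotientGroup.mk'_surjective M)
        rw [← heq, MonoidHom.comap_bot, QuotientGroup.ker_mk']
    haveI : IsSimpleGroup (G ⧸ M) := { eq_bot_or_eq_top_of_normal := fun S _ => hsub S }
    have hp : (Nat.card (G ⧸ M)).Prime := by
      letI : CommGroup (G ⧸ M) := { (inferInstance : Group (G ⧸ M)) with mul_comm := hcomm }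
      exact IsSimpleGroup.prime_card
    have hk : 1 < Nat.card (Cfsg.IrrCharacter (G ⧸ M)) := by
      rw [CfsgLib.CharTheory.card_irr_eq_card_conjClasses]
      haveI : Nontrivial (ConjClasses (G ⧸ M)) := by
        obtain ⟨a, ha⟩ := exists_ne (1 : G ⧸ M)
        exact ⟨⟨ConjClasses.mk a, ConjClasses.mk 1, fun he =>
          ha (isConj_one_right.mp (ConjClasses.mk_eq_mk_iff_isConj.mp he).symm)⟩⟩
      exact Finite.one_lt_card
    haveI := (Finite.one_lt_card_iff_nontrivial.mp hk)
    obtain ⟨ψ, hψne⟩ := exists_ne
      (⟨fun _ => 1, CfsgLib.CharTheory.isIrrCharacter_one⟩ : Cfsg.IrrCharacter (G ⧸ M))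
    let χ := (CfsgLib.CharTheory.quotientIrrEquiv M ψ).1
    refine h χ ?_
    rw [CfsgLib.CharTheory.codegree_eq χ.2]
    have hψ1 := CfsgLib.CharTheory.degree_one_of_commutative hcomm ψ.2
    have hd : Cfsg.charDegree (χ : G → ℂ) = 1 := by
      rw [Cfsg.charDegree, show (χ : G → ℂ) 1 = (ψ : G ⧸ M → ℂ) 1 from rfl, hψ1]
      simp
    have hK : CfsgLib.CharTheory.charKernel (χ : G → ℂ)
        (CfsgLib.CharTheory.isCharacter_of_irr χ.2) = M := by
      refine ((lt_or_eq_of_le ?_).resolve_left fun hlt => hψne (Subtype.ext ?_)).symm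
      · exact fun n hn => (CfsgLib.CharTheory.mem_charKernel _ n).mpr
          ((CfsgLib.CharTheory.quotientIrrEquiv M ψ).2 n hn)
      · refine CfsgLib.CharTheory.irr_eq_one_of_kernel_top ψ.2 fun z => ?_
        obtain ⟨g, rfl⟩ := QuotientGroup.mk_surjective z
        exact (CfsgLib.CharTheory.mem_charKernel (χ := (χ : G → ℂ))
          (CfsgLib.CharTheory.isCharacter_of_irr χ.2) g).mp (by rw [hM.2 _ hlt]; exact Subgroup.mem_top g)
    rw [hd, hK, Nat.div_one]
    exact hp

end Cfsg.Agent.S4797
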