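import Cfsg.Statements.S4798
import Cfsg.Agent.Lib.CharTheory.More
import Cfsg.Agent.Lib.CharTheory.Induced
import Mathlib.GroupTheory.Sylow

set_option autoImplicit false
open Cfsg

namespace Cfsg.Agent.S4798

/-- Let p be a prime and χ a faithful irreducible complex character of the finite group G (χ(g) = χ(1) only for g = 1), so that its codegree is #G / χ(1). Then #G / χ(1) is a power of p if and only if χ is induced from a character of a Sylow p-subgroup of G. -/
theorem result {G : Type*} [Group G] [Fintype G] (p : ℕ) [Fact p.Prime] (χ : Cfsg.IrrCharacter G) (hfaith : ∀ g : G, (χ : G → ℂ) g = (χ : G → ℂ) 1 → g = 1) : (∃ k : ℕ, Nat.card G = p ^ k * Cfsg.charDegree (χ : G → ℂ)) ↔ ∃ (P : Sylow p G) (θ : ↥(P : Subgroup G) → ℂ), Cfsg.IsCharacter ↥(P : Subgroup G) θ ∧ (χ : G → ℂ) = Cfsg.indFun (P : Subgroup G) θ := by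
  classical
  have hp : p.Prime := Fact.out
  have hc := CfsgLib.CharTheory.isCharacter_of_irr χ.2
  obtain ⟨hd1, hdpos⟩ := CfsgLib.CharTheory.charDegree_spec' χ.2
  set d := Cfsg.charDegree (χ : G → ℂ) with hd
  constructor
  · rintro ⟨k, hk⟩
    let P : Sylow p G := default
    refine ⟨P, ?_⟩
    obtain ⟨a, ha⟩ := IsPGroup.iff_card.mp P.isPGroup'
    -- the `p`-part of the degree
    obtain ⟨b, hba, hb⟩ : ∃ b, b + k = a ∧ d = (P : Subgroup G).index * p ^ b := by
      have hidx : ¬ p ∣ (P : Subgroup G).index := P.not_dvd_index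
      have hcard := Subgroup.card_mul_index (P : Subgroup G)
      rw [ha, hk] at hcard
      have hka : k ≤ a := by
        by_contra hlt
        push Not at hlt
        have h1 : p ^ (k - a) * d = (P : Subgroup G).index := by
          apply Nat.eq_of_mul_eq_mul_left (pow_pos hp.pos a)
          rw [hcard, ← mul_assoc, ← pow_add, Nat.add_sub_cancel' hlt.le]
        exact hidx (h1 ▸ Dvd.dvd.mul_right (dvd_pow_self p (by omega)) d)
      refine ⟨a - k, by omega, Nat.eq_of_mul_eq_mul_left (pow_pos hp.pos k) ?_⟩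
      rw [← hcard, mul_left_comm, ← pow_add, show k + (a - k) = a by omega, mul_comm]
    have := Fintype.ofFinite (P : Subgroup G)
    set r := fun h : (P : Subgroup G) => (χ : G → ℂ) h with hr
    have hrc : Cfsg.IsCharacter (P : Subgroup G) r := CfsgLib.CharTheory.isCharacter_restrict hc _
    obtain ⟨θ, hθne, hθle⟩ : ∃ θ : Cfsg.IrrCharacter (P : Subgroup G),
        Cfsg.classInner r θ.1 ≠ 0 ∧
          Cfsg.charDegree θ.1 ≤ p ^ b := by
      by_contra hno
      push Not at hno
      obtain ⟨-, hco⟩ := CfsgLib.CharTheory.isCharacter_iff_coeff_nat.mp hrc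
      choose m hm using fun θ : Cfsg.IrrCharacter (P : Subgroup G) => hco θ.1 θ.2
      have hdiv : ∀ θ : Cfsg.IrrCharacter (P : Subgroup G),
          p ^ (b + 1) ∣ m θ * Cfsg.charDegree θ.1 := by
        intro θ
        by_cases h0 : m θ = 0
        · simp [h0]
        · have hgt := hno θ (by rw [hm]; exact_mod_cast h0)
          obtain ⟨n, σ, hσ, hσc⟩ := θ.2
          have hdv := CfsgLib.CharTheory.finrank_dvd_card σ
          rw [ha, show Module.finrank ℂ (Fin n → ℂ) = Cfsg.charDegree θ.1 by
            rw [Cfsg.charDegree, ← hσc, σ.char_one]; simp] at hdv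
          obtain ⟨j, -, hj⟩ := (Nat.dvd_prime_pow hp).mp hdv
          rw [hj] at hgt ⊢
          exact Dvd.dvd.mul_left (Nat.pow_dvd_pow p ((Nat.pow_lt_pow_iff_right hp.one_lt).mp hgt)) _
      have hsum : d = ∑ θ : Cfsg.IrrCharacter (P : Subgroup G),
          m θ * Cfsg.charDegree θ.1 := by
        have h1 := congrFun (CfsgLib.CharTheory.eq_sum_irr
          (CfsgLib.CharTheory.isClassFunction_char hrc)) 1
        simp only [Finset.sum_apply, Pi.smul_apply, smul_eq_mul, hm] at h1
        rw [show r 1 = (χ : G → ℂ) 1 from rfl, hd1, Finset.sum_congr rfl fun θ _ => by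
          rw [(CfsgLib.CharTheory.charDegree_spec' θ.2).1, ← Nat.cast_mul]] at h1
        exact_mod_cast h1
      have h2 : p ^ (b + 1) ∣ (P : Subgroup G).index * p ^ b :=
        hb ▸ hsum ▸ Finset.dvd_sum fun θ _ => hdiv θ
      rw [pow_succ', Nat.mul_dvd_mul_iff_right (pow_pos hp.pos b)] at h2
      exact P.not_dvd_index h2
    refine ⟨θ, CfsgLib.CharTheory.isCharacter_of_irr θ.2, ?_⟩
    have hI := CfsgLib.CharTheory.isCharacter_indFun (P : Subgroup G)
      (CfsgLib.CharTheory.isCharacter_of_irr θ.2)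
    have hne : Cfsg.classInner (Cfsg.indFun (P : Subgroup G) θ.1) (χ : G → ℂ) ≠ 0 := by
      rw [CfsgLib.CharTheory.frobenius_reciprocity _ _ (CfsgLib.CharTheory.isClassFunction_irr χ.2),
        ← CfsgLib.CharTheory.classInner_comm]
      exact (map_ne_zero _).mpr hθne
    have hsub := CfsgLib.CharTheory.isCharacter_sub_irr hI χ.2 hne
    obtain ⟨m, hm⟩ := CfsgLib.CharTheory.char_one_eq_natCast hsub
    have hm0 : m = 0 := by
      have h1 : ((P : Subgroup G).index * Cfsg.charDegree θ.1 : ℂ)
          = (d : ℂ) + (m : ℂ) := by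
        rw [← hm, Pi.sub_apply, CfsgLib.CharTheory.indFun_apply_one, hd1,
          (CfsgLib.CharTheory.charDegree_spec' θ.2).1]
        ring
      have h2 : (P : Subgroup G).index * Cfsg.charDegree θ.1 = d + m := by
        exact_mod_cast h1
      have h3 := Nat.mul_le_mul_left (P : Subgroup G).index hθle
      omega
    exact (sub_eq_zero.mp (CfsgLib.CharTheory.eq_zero_of_degree_zero hsub (by rw [hm, hm0, Nat.cast_zero]))).symm
  · rintro ⟨P, θ, hθ, he⟩
    obtain ⟨a, ha⟩ := IsPGroup.iff_card.mp P.isPGroup'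
    obtain ⟨t, ht⟩ := CfsgLib.CharTheory.char_one_eq_natCast hθ
    have h1 : d = (P : Subgroup G).index * t := by
      have h2 := congrFun he 1
      rw [hd1, CfsgLib.CharTheory.indFun_apply_one, ht] at h2
      exact_mod_cast h2
    have hdvd : d ∣ Nat.card G := (CfsgLib.CharTheory.charDegree_dvd_index_kernel χ.2).trans
      (Subgroup.index_dvd_card _)
    have ht' : t ∣ p ^ a := by
      rw [h1, ← Subgroup.card_mul_index (P : Subgroup G), ha, mul_comm (p ^ a)] at hdvd
      exact Nat.dvd_of_mul_dvd_mul_left (Nat.pos_of_ne_zero Subgroup.index_ne_zero_of_finite) hdvd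
    obtain ⟨j, hj, rfl⟩ := (Nat.dvd_prime_pow hp).mp ht'
    refine ⟨a - j, ?_⟩
    rw [h1, ← Subgroup.card_mul_index (P : Subgroup G), ha, mul_left_comm, ← pow_add,
      Nat.sub_add_cancel hj, mul_comm]

end Cfsg.Agent.S4798
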