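import Cfsg.Statements.S4801
import Cfsg.Agent.Lib.CharTheory.More

set_option autoImplicit false
open Cfsg

namespace Cfsg.Agent.S4801

/-- The codegree of an irreducible complex character χ of a finite group G is [G : ker χ] / χ(1), where ker χ is the set of elements at which χ takes the value χ(1). Let S be a finite simple group and G a finite group such that every codegree of an irreducible character of S is a codegree of an irreducible character of G. Then the order of S divides the order of G. -/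
theorem result {S : Type*} [Group S] [Finite S] (hS : IsSimpleGroup S) {G : Type*} [Group G] [Finite G] (hsub : ∀ χ : Cfsg.IrrCharacter S, ∃ ψ : Cfsg.IrrCharacter G, (Nat.card S / (Nat.card {g : S // (χ : S → ℂ) g = (χ : S → ℂ) 1} * Cfsg.charDegree (χ : S → ℂ))) = (Nat.card G / (Nat.card {g : G // (ψ : G → ℂ) g = (ψ : G → ℂ) 1} * Cfsg.charDegree (ψ : G → ℂ)))) : Nat.card S ∣ Nat.card G := by
  classical
  have := Fintype.ofFinite S
  haveI := hS
  rw [Nat.dvd_iff_prime_pow_dvd_dvd]
  intro r a hr hra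
  rcases Nat.eq_zero_or_pos a with rfl | ha
  · simp
  have hsum := CfsgLib.CharTheory.sum_irr_degree_sq (G := S)
  let t : Cfsg.IrrCharacter S := ⟨fun _ => 1, CfsgLib.CharTheory.isIrrCharacter_one⟩
  have hsum' : ∑ φ : Cfsg.IrrCharacter S, Cfsg.charDegree (φ : S → ℂ) ^ 2 = Nat.card S := by
    rw [Finset.sum_congr rfl fun (φ : Cfsg.IrrCharacter S) _ => by
      rw [(CfsgLib.CharTheory.charDegree_spec' φ.2).1, ← Nat.cast_pow]] at hsum
    exact_mod_cast hsum
  obtain ⟨χ, hχne, hrχ⟩ : ∃ χ : Cfsg.IrrCharacter S, χ ≠ t ∧ ¬ r ∣ Cfsg.charDegree (χ : S → ℂ) := by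
    by_contra hno
    push Not at hno
    rw [← Finset.add_sum_erase _ _ (Finset.mem_univ t),
      show Cfsg.charDegree (t : S → ℂ) = 1 by simp [Cfsg.charDegree, t], one_pow] at hsum'
    have h1 : r ∣ ∑ φ ∈ Finset.univ.erase t, Cfsg.charDegree (φ : S → ℂ) ^ 2 :=
      Finset.dvd_sum fun φ hφ => dvd_pow (hno φ (Finset.mem_erase.mp hφ).1) two_ne_zero
    exact hr.not_dvd_one ((Nat.dvd_add_left h1).mp (hsum' ▸ (dvd_pow_self r ha.ne').trans hra))
  obtain ⟨ψ, hψ⟩ := hsub χ
  rw [CfsgLib.CharTheory.codegree_eq χ.2, CfsgLib.CharTheory.codegree_eq ψ.2] at hψ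
  have hK : CfsgLib.CharTheory.charKernel (χ : S → ℂ) (CfsgLib.CharTheory.isCharacter_of_irr χ.2) = ⊥ := by
    refine (IsSimpleGroup.eq_bot_or_eq_top_of_normal _ inferInstance).resolve_right fun he =>
      hχne (Subtype.ext (CfsgLib.CharTheory.irr_eq_one_of_kernel_top χ.2 fun g => ?_))
    exact (CfsgLib.CharTheory.mem_charKernel _ g).mp (he ▸ Subgroup.mem_top g)
  rw [hK, Subgroup.index_bot] at hψ
  have hd : Cfsg.charDegree (χ : S → ℂ) ∣ Nat.card S :=
    (CfsgLib.CharTheory.charDegree_dvd_index_kernel χ.2).trans (Subgroup.index_dvd_card _)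
  refine dvd_trans ?_ ((hψ ▸ dvd_refl _ : Nat.card S / Cfsg.charDegree (χ : S → ℂ) ∣ _).trans
    ((Nat.div_dvd_of_dvd (CfsgLib.CharTheory.charDegree_dvd_index_kernel ψ.2)).trans
      (Subgroup.index_dvd_card _)))
  obtain ⟨c, hc⟩ := hd
  rw [hc, Nat.mul_div_cancel_left _ (CfsgLib.CharTheory.charDegree_spec' χ.2).2]
  rw [hc] at hra
  exact ((hr.coprime_iff_not_dvd.mpr hrχ).pow_left a).dvd_of_dvd_mul_left hra

end Cfsg.Agent.S4801
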