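import Cfsg.Statements.S4802
import Cfsg.Agent.Lib.CharTheory.More2

set_option autoImplicit false
open Cfsg

namespace Cfsg.Agent.S4802

/-- Let N < M be normal subgroups of the finite group G and g ∈ M ∖ N. Then the conjugacy class of g is exactly M ∖ N if and only if every irreducible complex character of G whose kernel contains N takes the same value at all elements of M ∖ N, and every irreducible complex character of G whose kernel does not contain N vanishes at g. -/
theorem result {G : Type*} [Group G] [Finite G] (N M : Subgroup G) [N.Normal] [M.Normal] (hNM : N < M) (g : G) (hgM : g ∈ M) (hgN : g ∉ N) : {h : G | IsConj g h} = (M : Set G) \ (N : Set G) ↔ ((∀ χ : Cfsg.IrrCharacter G, (∀ x ∈ N, (χ : G → ℂ) x = (χ : G → ℂ) 1) → ∀ x ∈ M, x ∉ N → ∀ y ∈ M, y ∉ N → (χ : G → ℂ) x = (χ : G → ℂ) y) ∧ (∀ χ : Cfsg.IrrCharacter G, (∃ x ∈ N, (χ : G → ℂ) x ≠ (χ : G → ℂ) 1) → (χ : G → ℂ) g = 0)) := by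
  classical
  have := Fintype.ofFinite G
  have hcf := fun (χ : Cfsg.IrrCharacter G) =>
    CfsgLib.CharTheory.isClassFunction_iff_isConj.mp (CfsgLib.CharTheory.isClassFunction_irr χ.2)
  constructor
  · intro h
    have hmem : ∀ z, z ∈ M → z ∉ N → IsConj g z := fun z hz hz' =>
      (Set.ext_iff.mp h z).mpr ⟨hz, hz'⟩
    refine ⟨fun χ _ a ha ha' b hb hb' =>
      hcf χ a b ((hmem a ha ha').symm.trans (hmem b hb hb')), fun χ ⟨a, ha, hne⟩ => ?_⟩
    have hz := (CfsgLib.CharTheory.kernel_or_cosetAvg_eq_zero N χ.2).resolve_left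
      fun hk => hne (hk a ha)
    have h1 := congrFun hz g
    have hconst : ∀ n : N, (χ : G → ℂ) ((n : G) * g) = (χ : G → ℂ) g := fun n =>
      (hcf χ g _ (hmem _ (mul_mem (hNM.le n.2) hgM) fun hc =>
        hgN ((mul_mem_cancel_left n.2).mp hc))).symm
    simp [CfsgLib.CharTheory.cosetAvg, hconst] at h1
    exact h1
  · rintro ⟨h1, h2⟩
    ext z
    constructor
    · intro hz
      obtain ⟨k, rfl⟩ := isConj_iff.mp hz
      refine ⟨Subgroup.Normal.conj_mem inferInstance g hgM k, fun hc => hgN ?_⟩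
      have := Subgroup.Normal.conj_mem (inferInstance : N.Normal) _ hc k⁻¹
      simpa [mul_assoc] using this
    · rintro ⟨hzM, hzN⟩
      by_contra hc
      have hg := CfsgLib.CharTheory.sum_irr_mul_conj g g
      have hgz := CfsgLib.CharTheory.sum_irr_mul_conj g z
      rw [if_pos (IsConj.refl g)] at hg
      rw [if_neg (show ¬ IsConj g z from hc)] at hgz
      have heq : ∑ χ : Cfsg.IrrCharacter G, (χ : G → ℂ) g * (starRingEnd ℂ) ((χ : G → ℂ) g) =
          ∑ χ : Cfsg.IrrCharacter G, (χ : G → ℂ) g * (starRingEnd ℂ) ((χ : G → ℂ) z) := by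
        refine Finset.sum_congr rfl fun χ _ => ?_
        by_cases hk : ∀ n ∈ N, (χ : G → ℂ) n = (χ : G → ℂ) 1
        · rw [h1 χ hk g hgM hgN z hzM hzN]
        · push Not at hk
          obtain ⟨n, hn, hne⟩ := hk
          rw [h2 χ ⟨n, hn, hne⟩, zero_mul, zero_mul]
      rw [hg, hgz, Nat.cast_eq_zero] at heq
      exact Nat.card_pos.ne' heq

end Cfsg.Agent.S4802
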