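import Cfsg.Statements.S4805
import Cfsg.Agent.Lib.CharTheory.Linear
import Cfsg.Agent.Lib.OneSeen.Main
import Cfsg.Agent.Lib.FpfFour.Main

set_option autoImplicit false
open Cfsg

namespace Cfsg.Agent.S4805

open scoped ComplexConjugate
open CfsgLib

theorem degree_iff {G : Type*} [Group G] [Fintype G] (ψ : Cfsg.IrrCharacter G) :
    Cfsg.charDegree (ψ : G → ℂ) = 1 ↔ (ψ : G → ℂ) 1 = 1 := by
  obtain ⟨d, -, hd⟩ := CharTheory.irr_degree_pos ψ.2
  rw [Cfsg.charDegree, hd]
  simp


/-- Let G be a finite group, g an element outside the centre of G, and χ an irreducible complex character of degree greater than one with χ(g) ≠ 0 such that every other irreducible character of degree greater than one vanishes at g. Then g lies in the derived subgroup G′ and χ(g) = −[G : G′]/χ(1); G′ is the union of the kernel of χ (the elements where χ takes the value χ(1)) and the conjugacy class of g, and χ vanishes outside G′; every irreducible character of degree greater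 than one whose kernel contains that of χ equals χ; and G is solvable. -/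
theorem result {G : Type*} [Group G] [Finite G] (g : G) (hg : g ∉ Subgroup.center G) (χ : Cfsg.IrrCharacter G) (hχ1 : Cfsg.charDegree (χ : G → ℂ) ≠ 1) (hχg : (χ : G → ℂ) g ≠ 0) (hother : ∀ ψ : Cfsg.IrrCharacter G, Cfsg.charDegree (ψ : G → ℂ) ≠ 1 → ψ ≠ χ → (ψ : G → ℂ) g = 0) : g ∈ commutator G ∧ (χ : G → ℂ) g = -(((commutator G).index : ℂ) / (χ : G → ℂ) 1) ∧ ((commutator G : Set G) = {x : G | (χ : G → ℂ) x = (χ : G → ℂ) 1} ∪ {h : G | IsConj g h}) ∧ (∀ x : G, x ∉ commutator G → (χ : G → ℂ) x = 0) ∧ (∀ ψ : Cfsg.IrrCharacter G, Cfsg.charDegree (ψ : G → ℂ) ≠ 1 → (∀ x : G, (χ : G → ℂ) x = (χ : G → ℂ) 1 → (ψ : G → ℂ) x = (ψ : G → ℂ) 1) → ψ = χ) ∧ Group.IsSolvable G := by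
  classical
  have : Fintype G := Fintype.ofFinite G
  set N := commutator G with hN
  obtain ⟨d, hd0, hd⟩ := CharTheory.irr_degree_pos χ.2
  have hdne : (d : ℂ) ≠ 0 := Nat.cast_ne_zero.mpr hd0.ne'
  have hχne1 : (χ : G → ℂ) 1 ≠ 1 := fun h => hχ1 ((degree_iff χ).mpr h)
  set lin : Finset (Cfsg.IrrCharacter G) := Finset.univ.filter (fun ψ => (ψ : G → ℂ) 1 = 1) with hlin
  set a := N.index with ha
  have ha0 : (a : ℂ) ≠ 0 := Nat.cast_ne_zero.mpr Subgroup.index_ne_zero_of_finite
  have hlincard : (lin.card : ℂ) = a := by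
    rw [hlin, ← Fintype.card_subtype, ← Nat.card_eq_fintype_card, CharTheory.card_linear]
  have hlinN : ∀ ψ ∈ lin, ∀ x ∈ N, (ψ : G → ℂ) x = 1 := by
    intro ψ hψ x hx
    obtain ⟨φ, hφ⟩ := CharTheory.exists_hom_of_degree_one (CharTheory.isCharacter_of_irr ψ.2)
      (Finset.mem_filter.mp hψ).2
    rw [hφ]
    show (φ x : ℂ) = 1
    rw [MonoidHom.mem_ker.mp (Abelianization.commutator_subset_ker φ hx), Units.val_one]
  have hlinout : ∀ x ∉ N, ∑ ψ ∈ lin, (ψ : G → ℂ) x = 0 := by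
    intro x hx
    have : Fintype (G →* ℂˣ) := Fintype.ofEquiv _ CharTheory.linearEquivHom
    rw [hlin, Finset.sum_subtype (p := fun ψ : Cfsg.IrrCharacter G => (ψ : G → ℂ) 1 = 1) _ (fun ψ => by simp),
      ← Equiv.sum_comp CharTheory.linearEquivHom.symm]
    show ∑ φ : G →* ℂˣ, (φ x : ℂ) = 0
    obtain ⟨h, hh⟩ := CommGroup.exists_apply_ne_one_of_hasEnoughRootsOfUnity (Abelianization G) ℂ
      (a := Abelianization.of x) (fun e => hx (by
        have := MonoidHom.mem_ker.mpr e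
        rwa [Abelianization.ker_of] at this))
    set φ0 : G →* ℂˣ := h.comp Abelianization.of
    have hne : (φ0 x : ℂ) ≠ 1 := fun e => hh (Units.val_eq_one.mp e)
    have hsh := Equiv.sum_comp (Equiv.mulLeft φ0) (fun φ : G →* ℂˣ => (φ x : ℂ))
    simp only [Equiv.coe_mulLeft, MonoidHom.mul_apply, Units.val_mul, ← Finset.mul_sum] at hsh
    by_contra hs
    exact hne (mul_left_eq_self₀.mp hsh |>.resolve_right hs)
  have hsplit : ∀ F : Cfsg.IrrCharacter G → ℂ, (∀ ψ, ψ ∉ lin → ψ ≠ χ → F ψ = 0) →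
      ∑ ψ, F ψ = ∑ ψ ∈ lin, F ψ + F χ := by
    intro F hF
    rw [add_comm, ← Finset.sum_insert (f := F) (s := lin) (a := χ) (fun h => hχne1 (Finset.mem_filter.mp h).2)]
    refine (Finset.sum_subset (Finset.subset_univ _) fun ψ _ hψ => ?_).symm
    rw [Finset.mem_insert, not_or] at hψ
    exact hF ψ hψ.2 hψ.1
  have hoth : ∀ ψ, ψ ∉ lin → ψ ≠ χ → (ψ : G → ℂ) g = 0 := fun ψ h1 h2 =>
    hother ψ (fun h => h1 (Finset.mem_filter.mpr ⟨Finset.mem_univ _, (degree_iff ψ).mp h⟩)) h2
  have hg1 : g ≠ 1 := fun h => hg (h ▸ Subgroup.one_mem _)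
  have horth1 : ∑ ψ ∈ lin, (ψ : G → ℂ) g + (χ : G → ℂ) g * d = 0 := by
    have h := CharTheory.sum_irr_apply_mul_degree g
    rw [if_neg hg1, hsplit _ (fun ψ h1 h2 => by rw [hoth ψ h1 h2, zero_mul]), hd] at h
    rw [← h]
    congr 1
    exact Finset.sum_congr rfl fun ψ hψ => by rw [(Finset.mem_filter.mp hψ).2, mul_one]
  have hgN : g ∈ N := by
    by_contra hgN
    rw [hlinout g hgN, zero_add] at horth1
    exact hχg ((mul_eq_zero.mp horth1).resolve_right hdne)
  have hχgv : (χ : G → ℂ) g = -((a : ℂ) / d) := by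
    rw [Finset.sum_congr rfl (fun ψ hψ => hlinN ψ hψ g hgN), Finset.sum_const, nsmul_eq_mul, mul_one,
      hlincard] at horth1
    field_simp
    linear_combination horth1
  have hconjd : ∀ x, conj ((χ : G → ℂ) x) = (d : ℂ) → (χ : G → ℂ) x = d := fun x h => by
    rw [← Complex.conj_conj ((χ : G → ℂ) x), h, Complex.conj_natCast]
  have horth : ∀ x, ¬ IsConj g x →
      ∑ ψ ∈ lin, conj ((ψ : G → ℂ) x) + (χ : G → ℂ) g * conj ((χ : G → ℂ) x) = 0 := by
    intro x hx
    have h := CharTheory.sum_irr_mul_conj g x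
    rw [if_neg hx, hsplit _ (fun ψ h1 h2 => by rw [hoth ψ h1 h2, zero_mul])] at h
    rw [← h]
    congr 1
    exact Finset.sum_congr rfl fun ψ hψ => by rw [hlinN ψ hψ g hgN, one_mul]
  have hclN : ∀ x, IsConj g x → x ∈ N := fun x hx => by
    obtain ⟨c, rfl⟩ := isConj_iff.mp hx
    exact (inferInstance : (commutator G).Normal).conj_mem g hgN c
  have hout : ∀ x, x ∉ N → (χ : G → ℂ) x = 0 := by
    intro x hx
    have h := horth x (fun hc => hx (hclN x hc))
    rw [← map_sum, hlinout x hx, map_zero, zero_add] at h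
    simpa using (mul_eq_zero.mp h).resolve_left hχg
  have hin : ∀ x ∈ N, ¬ IsConj g x → (χ : G → ℂ) x = (χ : G → ℂ) 1 := by
    intro x hx hc
    have h := horth x hc
    rw [Finset.sum_congr rfl (fun ψ hψ => by rw [hlinN ψ hψ x hx, map_one]), Finset.sum_const,
      nsmul_eq_mul, mul_one, hlincard, hχgv] at h
    rw [hd]
    refine hconjd x ?_
    field_simp at h
    have h2 : (a : ℂ) * (conj ((χ : G → ℂ) x) - d) = 0 := by linear_combination -h
    exact sub_eq_zero.mp ((mul_eq_zero.mp h2).resolve_left ha0)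
  have hclval : ∀ x, IsConj g x → (χ : G → ℂ) x = (χ : G → ℂ) g := fun x hx =>
    ((CharTheory.isClassFunction_iff_isConj).mp (CharTheory.isClassFunction_char (CharTheory.isCharacter_of_irr χ.2)) g x hx).symm
  have hgne : (χ : G → ℂ) g ≠ (χ : G → ℂ) 1 := by
    intro h
    rw [hχgv, hd] at h
    field_simp at h
    have h2 : (a : ℂ) + d * d = 0 := by linear_combination -h
    have h3 : a + d * d = 0 := by exact_mod_cast h2
    have h4 : 0 < d * d := Nat.mul_pos hd0 hd0
    omega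
  have hNset : ∀ x, x ∈ N ↔ (χ : G → ℂ) x = (χ : G → ℂ) 1 ∨ IsConj g x := by
    intro x
    refine ⟨fun hx => ?_, ?_⟩
    · by_cases hc : IsConj g x
      · exact Or.inr hc
      · exact Or.inl (hin x hx hc)
    · rintro (h | h)
      · by_contra hx
        exact CharTheory.irr_ne_zero χ.2 (h ▸ hout x hx)
      · exact hclN x h
  have huniq : ∀ ψ : Cfsg.IrrCharacter G, Cfsg.charDegree (ψ : G → ℂ) ≠ 1 →
      (∀ x : G, (χ : G → ℂ) x = (χ : G → ℂ) 1 → (ψ : G → ℂ) x = (ψ : G → ℂ) 1) → ψ = χ := by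
    intro ψ hψ1 hker
    by_contra hne
    have h0 := CharTheory.classInner_irr_ne ψ.2 χ.2 (fun e => hne (Subtype.ext e))
    rw [Cfsg.classInner] at h0
    have h1 : ∑ y : G, (ψ : G → ℂ) y * conj ((χ : G → ℂ) y) =
        ∑ y ∈ Finset.univ.filter (fun y => (χ : G → ℂ) y = (χ : G → ℂ) 1), (ψ : G → ℂ) 1 * d := by
      rw [Finset.sum_filter]
      refine Finset.sum_congr rfl fun y _ => ?_
      split_ifs with hy
      · rw [hker y hy, hy, hd, Complex.conj_natCast]
      · by_cases hyN : y ∈ N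
        · have hc := ((hNset y).mp hyN).resolve_left hy
          rw [← (CharTheory.isClassFunction_iff_isConj).mp (CharTheory.isClassFunction_char (CharTheory.isCharacter_of_irr ψ.2)) g y hc,
            hother ψ hψ1 hne, zero_mul]
        · rw [hout y hyN, map_zero, mul_zero]
    rw [h1, Finset.sum_const, nsmul_eq_mul] at h0
    have hc0 : 0 < (Finset.univ.filter (fun y => (χ : G → ℂ) y = (χ : G → ℂ) 1)).card :=
      Finset.card_pos.mpr ⟨1, by simp⟩
    exact mul_ne_zero (inv_ne_zero (Nat.cast_ne_zero.mpr Nat.card_pos.ne'))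
      (mul_ne_zero (Nat.cast_ne_zero.mpr hc0.ne') (mul_ne_zero (CharTheory.irr_ne_zero ψ.2) hdne)) h0
  refine ⟨hgN, by rw [hd]; exact hχgv, Set.ext fun x => hNset x, hout, huniq, ?_⟩
  set K := CharTheory.charKernel (χ : G → ℂ) (CharTheory.isCharacter_of_irr χ.2) with hK
  have hKmem : ∀ x, x ∈ K ↔ (χ : G → ℂ) x = (χ : G → ℂ) 1 := CharTheory.mem_charKernel _
  have hKN : K ≤ N := fun x hx => (hNset x).mpr (Or.inl ((hKmem x).mp hx))
  refine CfsgLib.OneSeen.isSolvable_core K g hgN (fun h => hgne ((hKmem g).mp h)) hKN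
    (fun x hx hxK => ((hNset x).mp hx).resolve_left fun h => hxK ((hKmem x).mpr h)) ?_
  intro x hx n hn
  -- characters of the quotient
  set xb : G ⧸ K := QuotientGroup.mk x
  have hC : (Nat.card (Subgroup.centralizer ({xb} : Set (G ⧸ K))) : ℂ) = a := by
    have : Fintype (G ⧸ K) := Fintype.ofFinite _
    have h := CharTheory.sum_irr_mul_conj xb xb
    rw [if_pos (IsConj.refl xb)] at h
    rw [← h, ← Equiv.sum_comp (CharTheory.quotientIrrEquiv K).symm,
      ← hlincard, Finset.card_eq_sum_ones, Nat.cast_sum]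
    symm
    have hval : ∀ w : {ψ : Cfsg.IrrCharacter G // ∀ k ∈ K, (ψ : G → ℂ) k = (ψ : G → ℂ) 1},
        (((CharTheory.quotientIrrEquiv K).symm w : Cfsg.IrrCharacter (G ⧸ K)) : G ⧸ K → ℂ) xb =
          (w.1 : G → ℂ) x := fun w => by
      conv_rhs => rw [← (CharTheory.quotientIrrEquiv K).apply_symm_apply w]
      rfl
    simp only [hval]
    rw [← Finset.sum_subtype (Finset.univ.filter (fun ψ : Cfsg.IrrCharacter G => ∀ k ∈ K, (ψ : G → ℂ) k = (ψ : G → ℂ) 1))
      (fun ψ => by simp) (fun ψ => (ψ : G → ℂ) x * conj ((ψ : G → ℂ) x))]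
    have hχlin : χ ∉ lin := fun h => hχne1 (Finset.mem_filter.mp h).2
    rw [show Finset.univ.filter (fun ψ : Cfsg.IrrCharacter G => ∀ k ∈ K, (ψ : G → ℂ) k = (ψ : G → ℂ) 1) = insert χ lin by
      ext ψ
      simp only [Finset.mem_filter, Finset.mem_univ, true_and, Finset.mem_insert]
      refine ⟨fun hk => ?_, ?_⟩
      · by_cases hl : ψ ∈ lin
        · exact Or.inr hl
        · refine Or.inl (huniq ψ (fun h => hl (Finset.mem_filter.mpr ⟨Finset.mem_univ _, (degree_iff ψ).mp h⟩))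
            fun y hy => hk y ((hKmem y).mpr hy))
      · rintro (rfl | hl) k hk
        · exact (hKmem k).mp hk
        · rw [hlinN ψ hl k (hKN hk), (Finset.mem_filter.mp hl).2],
      Finset.sum_insert hχlin, hout x hx, zero_mul, zero_add]
    refine Finset.sum_congr rfl fun ψ hψ => ?_
    obtain ⟨φ, hφ⟩ := CharTheory.exists_hom_of_degree_one (CharTheory.isCharacter_of_irr ψ.2)
      (Finset.mem_filter.mp hψ).2
    rw [← CharTheory.char_apply_inv (CharTheory.isCharacter_of_irr ψ.2), hφ]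
    show ((1 : ℕ) : ℂ) = (φ x : ℂ) * (φ x⁻¹ : ℂ)
    rw [← Units.val_mul, ← map_mul, mul_inv_cancel, map_one, Units.val_one, Nat.cast_one]
  have hC' : Nat.card (Subgroup.centralizer ({xb} : Set (G ⧸ K))) = a := by exact_mod_cast hC
  have hπs := QuotientGroup.mk'_surjective K
  have hmap : commutator (G ⧸ K) = N.map (QuotientGroup.mk' K) := by
    rw [hN, _root_.commutator_def, _root_.commutator_def, Subgroup.map_commutator,
      Subgroup.map_top_of_surjective _ hπs]
  have hidx : (commutator (G ⧸ K)).index = a := by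
    rw [hmap, Subgroup.index_map_eq _ hπs (by rwa [QuotientGroup.ker_mk'])]
  have hclass := CfsgLib.OneSeen.card_class_mul xb
  rw [hC', ← (commutator (G ⧸ K)).card_mul_index, hidx] at hclass
  have hcl := Nat.eq_of_mul_eq_mul_right (Nat.pos_of_ne_zero Subgroup.index_ne_zero_of_finite) hclass
  let f : {y : G ⧸ K // IsConj xb y} → commutator (G ⧸ K) :=
    fun y => ⟨xb⁻¹ * y.1, CfsgLib.OneSeen.isConj_coset y.2⟩
  have hinj : Function.Injective f := fun u v h =>
    Subtype.ext (mul_left_cancel (congrArg Subtype.val h))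
  obtain ⟨⟨y, hy⟩, hfy⟩ := (hinj.bijective_of_nat_card_le hcl.ge).2
    ⟨(n : G ⧸ K), hmap ▸ Subgroup.mem_map_of_mem _ hn⟩
  obtain ⟨c, hc⟩ := isConj_iff.mp hy
  obtain ⟨c, rfl⟩ := QuotientGroup.mk_surjective c
  refine ⟨c, QuotientGroup.eq.mp ?_⟩
  have h1 : xb⁻¹ * y = (n : G ⧸ K) := congrArg Subtype.val hfy
  rw [QuotientGroup.mk_mul, QuotientGroup.mk_mul, QuotientGroup.mk_mul, QuotientGroup.mk_inv, ← h1,
    ← hc, mul_inv_cancel_left]

end Cfsg.Agent.S4805
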