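import Cfsg.Statements.S4811
import Cfsg.Agent.Lib.CharTheory.MinNonabelianQuotient

set_option autoImplicit false
open Cfsg
open CfsgLib.CharTheory

namespace Cfsg.Agent.S4811

theorem result {G : Type*} [Group G] [Finite G] [Group.IsSolvable G] : Nat.card ((Cfsg.degreeGraph G).induce (Cfsg.degreePrimes G)).ConnectedComponent ≤ 2 := by
  classical
  have := Fintype.ofFinite G
  set Γ := (Cfsg.degreeGraph G).induce (Cfsg.degreePrimes G)
  have hlink : ∀ (u v : ↥(Cfsg.degreePrimes G)) (χ : G → ℂ), Cfsg.IsIrrCharacter G χ →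
      (u : ℕ) ∣ Cfsg.charDegree χ → (v : ℕ) ∣ Cfsg.charDegree χ →
      Γ.connectedComponentMk u = Γ.connectedComponentMk v := by
    intro u v χ hχ hu hv
    by_cases h : (u : ℕ) = v
    · rw [Subtype.ext h]
    · refine SimpleGraph.ConnectedComponent.sound (SimpleGraph.Adj.reachable ?_)
      exact ⟨h, u.2.1, v.2.1, _, ⟨⟨χ, hχ⟩, rfl⟩,
        ((Nat.coprime_primes u.2.1 v.2.1).mpr h).mul_dvd_of_dvd_of_dvd hu hv⟩
  have hreduce : (∃ a b : ↥(Cfsg.degreePrimes G) → Prop, (∀ v, a v ∨ b v) ∧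
      (∀ v w, a v → a w → Γ.connectedComponentMk v = Γ.connectedComponentMk w) ∧
      ∀ v w, b v → b w → Γ.connectedComponentMk v = Γ.connectedComponentMk w) →
      Nat.card Γ.ConnectedComponent ≤ 2 := by
    rintro ⟨a, b, hab, ha, hb⟩
    have hfin : Nat.card Bool = 2 := by simp
    rw [← hfin]
    let f : Γ.ConnectedComponent → Bool := fun c => decide (a c.out)
    refine Nat.card_le_card_of_injective f fun c d h => ?_
    have hc : Γ.connectedComponentMk c.out = c := Quot.out_eq c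
    have hd : Γ.connectedComponentMk d.out = d := Quot.out_eq d
    rw [← hc, ← hd]
    simp only [f, decide_eq_decide] at h
    by_cases hA : a c.out
    · exact ha _ _ hA (h.mp hA)
    · exact hb _ _ ((hab _).resolve_left hA) ((hab _).resolve_left fun e => hA (h.mpr e))
  refine hreduce ?_
  by_cases hna : commutator G = ⊥
  · have hno : ∀ v : ↥(Cfsg.degreePrimes G), False := by
      rintro ⟨r, hr, d, ⟨χ, rfl⟩, hrd⟩
      rw [commutator_def, Subgroup.commutator_eq_bot_iff_le_centralizer] at hna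
      have h1 := degree_one_of_commutative (fun x y =>
        (Subgroup.mem_centralizer_iff.mp (hna (Subgroup.mem_top x)) y (Subgroup.mem_top y)).symm) χ.2
      rw [(charDegree_spec' χ.2).1, ← Nat.cast_one, Nat.cast_inj] at h1
      rw [h1] at hrd
      exact hr.one_lt.ne' (Nat.dvd_one.mp hrd)
    exact ⟨fun _ => True, fun _ => True, fun _ => Or.inl trivial, fun v => (hno v).elim,
      fun v => (hno v).elim⟩
  obtain ⟨K, hK, ⟨p, hp, hpg, β, hβ, hβK, hpβ⟩ | ⟨N, hN, -, -, q, hq, hcomm, hexp, -, hNK, hidx, hfp⟩⟩ :=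
    minimal_nonabelian_quotient hna
  · haveI := hK
    have hall : ∀ v w : ↥(Cfsg.degreePrimes G), Γ.connectedComponentMk v = Γ.connectedComponentMk w := by
      have hpmem : p ∈ Cfsg.degreePrimes G := ⟨hp, _, ⟨⟨β, hβ⟩, rfl⟩, hpβ⟩
      have key : ∀ v : ↥(Cfsg.degreePrimes G),
          Γ.connectedComponentMk v = Γ.connectedComponentMk ⟨p, hpmem⟩ := by
        intro v
        obtain ⟨d, ⟨χ, rfl⟩, hrd⟩ := v.2.2
        rcases exists_degree_mul_of_pQuotient hp K hpg hβ hβK χ.2 with h | ⟨ψ, hψ, hd⟩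
        · exact hlink v _ _ χ.2 hrd h
        · exact hlink v _ ψ hψ (hd ▸ dvd_mul_of_dvd_right hrd _) (hd ▸ dvd_mul_of_dvd_left hpβ _)
      exact fun v w => (key v).trans (key w).symm
    exact ⟨fun _ => True, fun _ => True, fun _ => Or.inl trivial, fun v w _ _ => hall v w,
      fun v w _ _ => hall v w⟩
  · haveI := hK
    haveI := hN
    obtain ⟨r₀, hr₀, hr₀d⟩ := Nat.exists_prime_and_dvd hidx.ne'
    refine ⟨fun v => ∃ ψ : G → ℂ, Cfsg.IsIrrCharacter G ψ ∧ N.index ∣ Cfsg.charDegree ψ ∧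
        (v : ℕ) ∣ Cfsg.charDegree ψ,
      fun v => ∃ χ : G → ℂ, Cfsg.IsIrrCharacter G χ ∧ q ∣ Cfsg.charDegree χ ∧
        (v : ℕ) ∣ Cfsg.charDegree χ, fun v => ?_, ?_, ?_⟩
    · obtain ⟨d, ⟨χ, rfl⟩, hrd⟩ := v.2.2
      rcases exists_degree_of_frobQuotient N K hq hcomm hexp hNK hfp χ.2 with h | ⟨ψ, hψ, h1, h2⟩
      · exact Or.inr ⟨_, χ.2, h, hrd⟩
      · exact Or.inl ⟨ψ, hψ, h1, hrd.trans h2⟩
    · rintro v w ⟨ψ, hψ, h1, h2⟩ ⟨ψ', hψ', h1', h2'⟩
      have hm : r₀ ∈ Cfsg.degreePrimes G := ⟨hr₀, _, ⟨⟨ψ, hψ⟩, rfl⟩, hr₀d.trans h1⟩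
      exact (hlink v ⟨r₀, hm⟩ ψ hψ h2 (hr₀d.trans h1)).trans
        (hlink ⟨r₀, hm⟩ w ψ' hψ' (hr₀d.trans h1') h2')
    · rintro v w ⟨ψ, hψ, h1, h2⟩ ⟨ψ', hψ', h1', h2'⟩
      have hm : q ∈ Cfsg.degreePrimes G := ⟨hq, _, ⟨⟨ψ, hψ⟩, rfl⟩, h1⟩
      exact (hlink v ⟨q, hm⟩ ψ hψ h2 h1).trans (hlink ⟨q, hm⟩ w ψ' hψ' h1' h2')

end Cfsg.Agent.S4811
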