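import Cfsg.Statements.S4813
import Cfsg.Agent.Lib.PrimeDegrees.Solvable
import Cfsg.Agent.Lib.CharTheory.MinNonabelianQuotient
-- import your own Cfsg.Agent.* helpers here

set_option autoImplicit false
open Cfsg

namespace Cfsg.Agent.S4813

/-- If every irreducible complex character of the finite group G of degree greater than one has prime degree, then G has at most three distinct irreducible character degrees. -/
theorem result {G : Type*} [Group G] [Finite G] (hprime : ∀ d ∈ Cfsg.charDegrees G, d = 1 ∨ d.Prime) : Nat.card ↥(Cfsg.charDegrees G) ≤ 3 := by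
  classical
  have := Fintype.ofFinite G
  have hsol : Group.IsSolvable G :=
    CfsgLib.PrimeDegrees.isSolvable_of_primeDegrees (Nat.card G) G le_rfl fun χ h1 =>
      (hprime _ ⟨χ, rfl⟩).resolve_left h1
  have hpr : ∀ {χ : G → ℂ}, Cfsg.IsIrrCharacter G χ → Cfsg.charDegree χ = 1 ∨ (Cfsg.charDegree χ).Prime :=
    fun {χ} hχ => hprime _ ⟨⟨χ, hχ⟩, rfl⟩
  suffices h : ∃ a b : ℕ, ∀ d ∈ Cfsg.charDegrees G, d = 1 ∨ d = a ∨ d = b by
    obtain ⟨a, b, hab⟩ := h
    refine (Set.ncard_le_ncard (t := {1, a, b}) (fun d hd => by simpa using hab d hd) (Set.toFinite _)).trans ?_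
    refine (Set.ncard_insert_le _ _).trans (Nat.succ_le_succ ((Set.ncard_insert_le _ _).trans ?_))
    simp
  by_cases hna : commutator G = ⊥
  · refine ⟨1, 1, ?_⟩
    rintro d ⟨χ, rfl⟩
    have hc : ∀ a b : G, a * b = b * a := fun a b => by
      rw [commutator_def, Subgroup.commutator_eq_bot_iff_le_centralizer] at hna
      exact (Subgroup.mem_centralizer_iff.mp (hna (Subgroup.mem_top a)) b (Subgroup.mem_top b)).symm
    left
    have h1 := CfsgLib.CharTheory.degree_one_of_commutative hc χ.2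
    rw [(CfsgLib.CharTheory.charDegree_spec' χ.2).1] at h1
    exact_mod_cast h1
  obtain ⟨K, hK, hcase⟩ := CfsgLib.CharTheory.minimal_nonabelian_quotient hna
  haveI := hK
  rcases hcase with ⟨p, hp, hpg, β, hβ, hβK, hpβ⟩ |
    ⟨N, hN, hKN, hGN, q, hq, hcomm, hexp, hqi, hNK, hidx, hfp⟩
  · refine ⟨p, p, ?_⟩
    rintro d ⟨χ, rfl⟩
    rcases CfsgLib.CharTheory.exists_degree_mul_of_pQuotient hp K hpg hβ hβK χ.2 with h | ⟨ψ, hψ, hd⟩
    · rcases hpr χ.2 with h1 | h1
      · exact Or.inl h1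
      · exact Or.inr (Or.inl ((Nat.prime_dvd_prime_iff_eq hp h1).mp h).symm)
    · left
      have hpψ : p ∣ Cfsg.charDegree ψ := hd ▸ dvd_mul_of_dvd_left hpβ _
      rcases hpr hψ with h1 | h1
      · exact absurd (h1 ▸ hpψ) hp.not_dvd_one
      · have hpe := ((Nat.prime_dvd_prime_iff_eq hp h1).mp hpψ).symm
        rcases hpr hβ with hb | hb
        · exact absurd (hb ▸ hpβ) hp.not_dvd_one
        · rw [hpe, ((Nat.prime_dvd_prime_iff_eq hp hb).mp hpβ).symm] at hd
          exact (mul_eq_left₀ hp.ne_zero).mp hd.symm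
  · haveI := hN
    refine ⟨N.index, q, ?_⟩
    rintro d ⟨χ, rfl⟩
    rcases hpr χ.2 with h1 | h1
    · exact Or.inl h1
    rcases CfsgLib.CharTheory.exists_degree_of_frobQuotient N K hq hcomm hexp hNK hfp χ.2 with
      h | ⟨ψ, hψ, hNψ, hχψ⟩
    · exact Or.inr (Or.inr ((Nat.prime_dvd_prime_iff_eq hq h1).mp h).symm)
    · rcases hpr hψ with h2 | h2
      · exact absurd (Nat.dvd_one.mp (h2 ▸ hNψ)) hidx.ne'
      · refine Or.inr (Or.inl ?_)
        rw [(h2.eq_one_or_self_of_dvd _ hNψ).resolve_left hidx.ne']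
        exact (Nat.prime_dvd_prime_iff_eq h1 h2).mp hχψ

end Cfsg.Agent.S4813
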