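import Cfsg.Statements.S4814
import Cfsg.Agent.Lib.CharTheory.More

set_option autoImplicit false
open Cfsg

namespace Cfsg.Agent.S4814

/-- Let G be a finite group such that the sum, over the irreducible complex characters χ of G, of 1/χ(1)² is less than 2. Then every element of G is a product of two commutators. -/
theorem result {G : Type*} [Group G] [Finite G]
    (h : ∑ᶠ χ : Cfsg.IrrCharacter G, 1 / ‖(χ : G → ℂ) 1‖ ^ 2 < (2 : ℝ)) (g : G) :
    ∃ a b c d : G, (a * b * a⁻¹ * b⁻¹) * (c * d * c⁻¹ * d⁻¹) = g := by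
  classical
  have := Fintype.ofFinite G
  rw [finsum_eq_sum_of_fintype] at h
  by_contra hno
  push Not at hno
  have hc := CfsgLib.CharTheory.card_two_commutators (G := G) g
  have he : IsEmpty {q : (G × G) × (G × G) //
      (q.1.1 * q.1.2 * q.1.1⁻¹ * q.1.2⁻¹) * (q.2.1 * q.2.2 * q.2.1⁻¹ * q.2.2⁻¹) = g} :=
    ⟨fun q => hno _ _ _ _ q.2⟩
  rw [Nat.card_of_isEmpty, Nat.cast_zero, eq_comm, mul_eq_zero,
    or_iff_right (pow_ne_zero _ (Nat.cast_ne_zero.mpr Nat.card_pos.ne'))] at hc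
  let t : Cfsg.IrrCharacter G := ⟨fun _ => 1, CfsgLib.CharTheory.isIrrCharacter_one⟩
  rw [← Finset.add_sum_erase _ _ (Finset.mem_univ t), show (t : G → ℂ) g⁻¹ = 1 from rfl,
    one_pow, div_one, add_eq_zero_iff_eq_neg'] at hc
  rw [← Finset.add_sum_erase _ _ (Finset.mem_univ t), show (t : G → ℂ) 1 = 1 from rfl, norm_one,
    one_pow, div_one] at h
  have h1 : (1 : ℝ) ≤ ∑ χ ∈ Finset.univ.erase t, 1 / ‖(χ : G → ℂ) 1‖ ^ 2 := by
    calc (1 : ℝ) = ‖∑ χ ∈ Finset.univ.erase t, (χ : G → ℂ) g⁻¹ / (χ : G → ℂ) 1 ^ 3‖ := by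
          rw [hc, norm_neg, norm_one]
      _ ≤ _ := (norm_sum_le _ _).trans (Finset.sum_le_sum fun χ _ => by
          have hpos : 0 < ‖(χ : G → ℂ) 1‖ :=
            norm_pos_iff.mpr (CfsgLib.CharTheory.irr_ne_zero χ.2)
          rw [norm_div, norm_pow, div_le_div_iff₀ (pow_pos hpos 3) (pow_pos hpos 2), one_mul]
          have := CfsgLib.CharTheory.norm_char_le (CfsgLib.CharTheory.isCharacter_of_irr χ.2) g⁻¹
          calc ‖(χ : G → ℂ) g⁻¹‖ * ‖(χ : G → ℂ) 1‖ ^ 2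
              ≤ ‖(χ : G → ℂ) 1‖ * ‖(χ : G → ℂ) 1‖ ^ 2 :=
                mul_le_mul_of_nonneg_right this (sq_nonneg _)
            _ = ‖(χ : G → ℂ) 1‖ ^ 3 := by ring)
  linarith

end Cfsg.Agent.S4814
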