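import Cfsg.Statements.S4825
import Cfsg.Agent.Lib.Blocks.Principal
import Cfsg.Agent.Lib.CharTheory.Clifford
import Cfsg.Agent.Lib.Blocks.SecondMain

set_option autoImplicit false
open Cfsg CfsgLib.Blocks CfsgLib.CharTheory
open scoped ComplexConjugate

set_option linter.unusedVariables false

namespace Cfsg.Agent.S4825

/-- Let p be a prime, G a finite group with Sylow p-subgroup P, M a maximal ideal of the algebraic integers containing p, and B a p-block of G with defect group P. Let N be a normal subgroup of G not containing P and θ an irreducible character of N. Then the number of irreducible characters in B of degree prime to p lying over θ (having θ as a constituent on restriction to N) is either 0 or at least 2, and when p ≤ 3 it is divisible by p. -/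
theorem result {G : Type*} [Group G] [Fintype G] (p : ℕ) [Fact p.Prime] (P : Sylow p G) (M : Ideal Cfsg.AlgInt) (hM : Cfsg.IsPModular p M) (B : Set (Cfsg.IrrCharacter G)) (hB : Cfsg.IsPBlock M B) (hBP : Cfsg.IsDefectGroup p M B P) (N : Subgroup G) [N.Normal] [Fintype N] (hPN : ¬ (P : Subgroup G) ≤ N) (θ : Cfsg.IrrCharacter N) :
    (Nat.card {χ : Cfsg.IrrCharacter G // χ ∈ B ∧ ¬ p ∣ Cfsg.charDegree (χ : G → ℂ) ∧ Cfsg.classInner (fun n : N => (χ : G → ℂ) n) (θ : N → ℂ) ≠ 0} = 0 ∨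
      2 ≤ Nat.card {χ : Cfsg.IrrCharacter G // χ ∈ B ∧ ¬ p ∣ Cfsg.charDegree (χ : G → ℂ) ∧ Cfsg.classInner (fun n : N => (χ : G → ℂ) n) (θ : N → ℂ) ≠ 0}) ∧
    (p ≤ 3 → p ∣ Nat.card {χ : Cfsg.IrrCharacter G // χ ∈ B ∧ ¬ p ∣ Cfsg.charDegree (χ : G → ℂ) ∧ Cfsg.classInner (fun n : N => (χ : G → ℂ) n) (θ : N → ℂ) ≠ 0}) := by
  classical
  have hp : p.Prime := Fact.out
  haveI := res_charP hM
  haveI := res_isDomain hM
  obtain ⟨x, hxP, hxN⟩ := SetLike.not_le_iff_exists.1 hPN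
  obtain ⟨k, hk⟩ := IsPGroup.iff_orderOf.1 P.2 ⟨x, hxP⟩
  rw [Subgroup.orderOf_mk] at hk
  have hχN : ∀ χ : Cfsg.IrrCharacter G, Cfsg.IsCharacter N (fun n : N => (χ : G → ℂ) n) :=
    fun χ => isCharacter_restrict_irr N χ
  choose e he using fun χ : Cfsg.IrrCharacter G =>
    classInner_char_nat (hχN χ) (isCharacter_of_irr θ.2)
  -- orthogonality between elements of `N` and `x`
  have horth : ∀ n : N, ∑ χ ∈ bset B, (χ : G → ℂ) n * (χ : G → ℂ) x = 0 := by
    intro n
    obtain ⟨u, hu⟩ := exists_pPart (p := p) hp (n : G)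
    obtain ⟨v, huv, hc, hup, hv⟩ := hu
    have hux : IsPPart p (n : G) u := ⟨v, huv, hc, hup, hv.1⟩
    have hxx : IsPPart p x⁻¹ x⁻¹ := ⟨1, mul_one _, Commute.one_right _, ⟨k, by rw [orderOf_inv, hk]⟩,
      by rw [orderOf_one]; exact hp.not_dvd_one⟩
    have huN : u ∈ N := Subgroup.zpowers_le.2 n.2 hv.2.1
    have := block_orth hM hB hux hxx (fun hcj => hxN (by
      obtain ⟨c, hc⟩ := isConj_iff.1 hcj
      have h1 := (‹N.Normal›).conj_mem _ huN c
      rw [hc] at h1
      exact inv_mem_iff.1 h1))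
    simpa using this
  have hPhi : ∑ χ ∈ bset B, (e χ : ℂ) * (χ : G → ℂ) x = 0 := by
    have h1 : ∀ χ : Cfsg.IrrCharacter G, (e χ : ℂ) * (χ : G → ℂ) x =
        (Nat.card N : ℂ)⁻¹ * ∑ n : N, conj ((θ : N → ℂ) n) * ((χ : G → ℂ) n * (χ : G → ℂ) x) := by
      intro χ
      rw [← he χ, Cfsg.classInner, mul_assoc, Finset.sum_mul]
      congr 1
      exact Finset.sum_congr rfl fun n _ => by ring
    rw [Finset.sum_congr rfl fun χ _ => h1 χ, ← Finset.mul_sum, Finset.sum_comm]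
    simp only [← Finset.mul_sum, horth, mul_zero, Finset.sum_const_zero]
  have hsum : ((∑ χ ∈ bset B, e χ * Cfsg.charDegree (χ : G → ℂ) : ℕ) : AlgInt ⧸ M) = 0 := by
    have h1 := congrArg (res hM) hPhi
    rw [res_zero hM, res_sum hM (fun χ _ => (loc hM).mul_mem (memRing_natCast hM _) (memRing_irr hM χ x))] at h1
    rw [Nat.cast_sum]
    refine Eq.trans (Finset.sum_congr rfl fun χ _ => ?_) h1
    rw [res_mul hM (memRing_natCast hM _) (memRing_irr hM χ x), res_natCast hM, Nat.cast_mul]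
    have hr := irr_res_pPart hM χ (Commute.one_right x) (k := k) hk
    rw [mul_one] at hr
    rw [hr, ← irr_charDegree_cast χ, res_natCast hM]
  rw [CharP.cast_eq_zero_iff _ p] at hsum
  -- the characters counted
  set S : Finset (Cfsg.IrrCharacter G) := (bset B).filter (fun χ : Cfsg.IrrCharacter G =>
    ¬ p ∣ Cfsg.charDegree (χ : G → ℂ) ∧
      Cfsg.classInner (fun n : N => (χ : G → ℂ) n) (θ : N → ℂ) ≠ 0) with hS
  have hcard : Nat.card {χ : Cfsg.IrrCharacter G // χ ∈ B ∧ ¬ p ∣ Cfsg.charDegree (χ : G → ℂ) ∧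
      Cfsg.classInner (fun n : N => (χ : G → ℂ) n) (θ : N → ℂ) ≠ 0} = S.card :=
    Nat.subtype_card _ (fun χ => by simp [hS, mem_bset])
  rw [hcard]
  have hSsum : p ∣ ∑ χ ∈ S, e χ * Cfsg.charDegree (χ : G → ℂ) := by
    rw [← Finset.sum_filter_add_sum_filter_not (bset B) (fun χ : Cfsg.IrrCharacter G =>
      ¬ p ∣ Cfsg.charDegree (χ : G → ℂ) ∧
        Cfsg.classInner (fun n : N => (χ : G → ℂ) n) (θ : N → ℂ) ≠ 0), ← hS] at hsum
    refine (Nat.dvd_add_left (Finset.dvd_sum fun χ hχ => ?_)).1 hsum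
    simp only [Finset.mem_filter, not_and, not_not] at hχ
    by_cases hd : p ∣ Cfsg.charDegree (χ : G → ℂ)
    · exact dvd_mul_of_dvd_right hd _
    · have h0 := hχ.2 hd
      rw [he χ, Nat.cast_eq_zero] at h0
      simp [h0]
  -- Clifford
  set t : ℕ := (inertia N (θ : N → ℂ)).index * Cfsg.charDegree (θ : N → ℂ) with ht
  have hdeg : ∀ χ ∈ S, Cfsg.charDegree (χ : G → ℂ) = e χ * t := by
    intro χ hχ
    simp only [hS, Finset.mem_filter] at hχ
    have h := clifford_degree N χ.2 θ.2 hχ.2.2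
    rw [he χ, ← irr_charDegree_cast χ, ← irr_charDegree_cast θ] at h
    rw [ht, ← mul_assoc]
    exact_mod_cast h
  have hne : ∀ χ ∈ S, ¬ p ∣ e χ * Cfsg.charDegree (χ : G → ℂ) := by
    intro χ hχ hd
    have h1 := hdeg χ hχ
    simp only [hS, Finset.mem_filter] at hχ
    rcases hp.dvd_mul.1 hd with h | h
    · exact hχ.2.1 (h1 ▸ dvd_mul_of_dvd_left h _)
    · exact hχ.2.1 h
  refine ⟨?_, fun hp3 => ?_⟩
  · rcases Nat.lt_or_ge S.card 2 with h | h
    swap
    · exact Or.inr h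
    left
    by_contra h0
    obtain ⟨χ, hχ⟩ := Finset.card_eq_one.1 (show S.card = 1 by omega)
    rw [hχ, Finset.sum_singleton] at hSsum
    exact hne χ (by rw [hχ]; exact Finset.mem_singleton_self _) hSsum
  · have h1 : p ∣ ∑ χ ∈ S, Cfsg.charDegree (χ : G → ℂ) ^ 2 := by
      have := dvd_mul_of_dvd_right hSsum t
      rw [Finset.mul_sum] at this
      have h3 : ∑ χ ∈ S, t * (e χ * Cfsg.charDegree (χ : G → ℂ)) =
          ∑ χ ∈ S, Cfsg.charDegree (χ : G → ℂ) ^ 2 :=
        Finset.sum_congr rfl fun χ hχ => by rw [hdeg χ hχ]; ring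
      exact h3 ▸ this
    have h2 : ∀ χ ∈ S, Cfsg.charDegree (χ : G → ℂ) ^ 2 % p = 1 := by
      intro χ hχ
      simp only [hS, Finset.mem_filter] at hχ
      obtain ⟨-, hd, -⟩ := hχ
      rw [Nat.dvd_iff_mod_eq_zero] at hd
      have hp2 := hp.two_le
      rw [Nat.pow_mod]
      interval_cases p
      · have : Cfsg.charDegree (χ : G → ℂ) % 2 = 1 := by omega
        rw [this]
      · have : Cfsg.charDegree (χ : G → ℂ) % 3 = 1 ∨ Cfsg.charDegree (χ : G → ℂ) % 3 = 2 := by omega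
        rcases this with h | h <;> rw [h]
    rw [Nat.dvd_iff_mod_eq_zero, Finset.sum_nat_mod, Finset.sum_congr rfl h2, Finset.sum_const,
      smul_eq_mul, mul_one] at h1
    exact Nat.dvd_of_mod_eq_zero h1

end Cfsg.Agent.S4825
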