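import Cfsg.Statements.S4835
import Cfsg.Agent.Lib.CharTheory.TwoClass
import Mathlib.GroupTheory.PGroup

set_option autoImplicit false
open Cfsg

namespace Cfsg.Agent.S4835

/-- Let G be a finite group of order greater than 2 with an irreducible character χ that is nonzero on exactly two conjugacy classes. Then G has a unique minimal normal subgroup N; N is an elementary abelian p-group for some prime p; χ is nonzero exactly at the elements of N; and any two nonidentity elements of N are conjugate in G. -/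
theorem result {G : Type*} [Group G] [Finite G] (hG : 2 < Nat.card G) (χ : Cfsg.IrrCharacter G) (hχ : Nat.card {C : ConjClasses G // ∃ g ∈ C.carrier, (χ : G → ℂ) g ≠ 0} = 2) :
    ∃ N : Subgroup G, N.Normal ∧ N ≠ ⊥ ∧ (∀ K : Subgroup G, K.Normal → K ≠ ⊥ → N ≤ K) ∧
      (∃ p : ℕ, p.Prime ∧ Cfsg.IsElementaryAbelian p N) ∧
      (∀ g : G, (χ : G → ℂ) g ≠ 0 ↔ g ∈ N) ∧
      (∀ x ∈ N, ∀ y ∈ N, x ≠ 1 → y ≠ 1 → ∃ g : G, g * x * g⁻¹ = y) := by
  classical
  have := Fintype.ofFinite G
  obtain ⟨N, hNn, hNne, hN, htr, -⟩ := CfsgLib.CharTheory.two_class_support hG χ.2 hχ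
  have hfaith := CfsgLib.CharTheory.two_class_faithful hG χ.2 hχ
  have hmin : ∀ K : Subgroup G, K.Normal → K ≠ ⊥ → N ≤ K := by
    intro K hK hKne
    haveI := hK
    have := Fintype.ofFinite K
    obtain ⟨a, haK, haN, ha1⟩ : ∃ a, a ∈ K ∧ a ∈ N ∧ a ≠ 1 := by
      by_contra hno
      push Not at hno
      have hsum : Cfsg.classInner (fun k : K => (χ : G → ℂ) k) (fun _ => 1) ≠ 0 := by
        simp only [Cfsg.classInner, map_one, mul_one]
        rw [Finset.sum_eq_single (1 : K) (fun k _ hk => by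
          by_contra hne
          exact hk (Subtype.ext (hno k k.2 ((hN k).mpr hne)))) (by simp)]
        simp [CfsgLib.CharTheory.irr_ne_zero χ.2, Nat.card_pos.ne']
      have hres := CfsgLib.CharTheory.clifford_invariant K χ.2 CfsgLib.CharTheory.isIrrCharacter_one hsum
        fun g => rfl
      obtain ⟨k, hk, hk1⟩ := (Subgroup.bot_or_exists_ne_one K).resolve_left hKne
      refine hk1 (hfaith k ?_)
      have e1 := congrFun hres ⟨k, hk⟩
      have e2 := congrFun hres 1
      simp only [Pi.smul_apply] at e1 e2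
      exact e1.trans e2.symm
    intro y hy
    rcases eq_or_ne y 1 with rfl | hy1
    · exact one_mem _
    · obtain ⟨g, hg⟩ := isConj_iff.mp (htr a haN y hy ha1 hy1)
      exact hg ▸ hK.conj_mem a haK g
  refine ⟨N, hNn, hNne, hmin, ?_, fun g => (hN g).symm, fun x hx y hy h1 h2 =>
    isConj_iff.mp (htr x hx y hy h1 h2)⟩
  obtain ⟨p, hp, hpd⟩ := Nat.exists_prime_and_dvd
    (fun h => hNne (Subgroup.card_eq_one.mp h) : Nat.card N ≠ 1)
  haveI := Fact.mk hp
  obtain ⟨a, ha⟩ := exists_prime_orderOf_dvd_card' (G := N) p hpd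
  have ha1 : (a : G) ≠ 1 := fun h => by
    rw [OneMemClass.coe_eq_one] at h; rw [h, orderOf_one] at ha; exact hp.one_lt.ne ha
  have hexp : ∀ x : N, x ^ p = 1 := by
    intro x
    rcases eq_or_ne (x : G) 1 with h | h
    · rw [OneMemClass.coe_eq_one] at h; rw [h, one_pow]
    · obtain ⟨g, hg⟩ := isConj_iff.mp (htr a a.2 x x.2 ha1 h)
      refine Subtype.ext ?_
      rw [SubgroupClass.coe_pow, ← hg, conj_pow,
        show (a : G) ^ p = 1 by rw [← ha, ← Subgroup.orderOf_coe, pow_orderOf_eq_one]]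
      simp
  have hpg : IsPGroup p N := fun x => ⟨1, by rw [pow_one, hexp]⟩
  haveI : Nontrivial N := (Subgroup.nontrivial_iff_ne_bot N).mpr hNne
  haveI := hNn
  haveI : (Subgroup.center N).Characteristic := inferInstance
  have hZ : ((Subgroup.center N).map N.subtype).Normal := inferInstance
  have hZne : (Subgroup.center N).map N.subtype ≠ ⊥ := by
    rw [Ne, Subgroup.map_eq_bot_iff_of_injective _ N.subtype_injective]
    exact (Subgroup.nontrivial_iff_ne_bot _).mp hpg.center_nontrivial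
  refine ⟨p, hp, ⟨⟨fun a b => ?_⟩⟩, fun a ha => congrArg Subtype.val (hexp ⟨a, ha⟩)⟩
  obtain ⟨z, hz, hzb⟩ := hmin _ hZ hZne b.2
  have hzb' : z = b := Subtype.ext hzb
  exact (Subgroup.mem_center_iff.mp (hzb' ▸ hz) a)

end Cfsg.Agent.S4835
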