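import Cfsg.Statements.S4836
import Cfsg.Agent.Lib.CharTheory.More2

set_option autoImplicit false
open Cfsg

namespace Cfsg.Agent.S4836

theorem two_class_facts {G : Type*} [Group G] [Finite G] (hG : 2 < Nat.card G) {χ : G → ℂ}
    (hirr : Cfsg.IsIrrCharacter G χ)
    (hχ : Nat.card {C : ConjClasses G // ∃ g ∈ C.carrier, χ g ≠ 0} = 2) :
    ∃ c : G, c ≠ 1 ∧ (∀ g, χ g ≠ 0 → g = 1 ∨ IsConj c g) ∧
      (Nat.card {x : G // IsConj c x} : ℂ) * χ c = -χ 1 := by
  classical
  have := Fintype.ofFinite G
  have hcf := CfsgLib.CharTheory.isClassFunction_iff_isConj.mp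
    (CfsgLib.CharTheory.isClassFunction_irr hirr)
  let one' : {C : ConjClasses G // ∃ g ∈ C.carrier, χ g ≠ 0} :=
    ⟨ConjClasses.mk 1, 1, ConjClasses.mem_carrier_mk, CfsgLib.CharTheory.irr_ne_zero hirr⟩
  haveI := Finite.one_lt_card_iff_nontrivial.mp (hχ ▸ one_lt_two)
  obtain ⟨⟨C, g, hg, hgne⟩, hCne⟩ := exists_ne one'
  have hgC : ConjClasses.mk g = C := ConjClasses.mem_carrier_iff_mk_eq.mp hg
  have hg1 : g ≠ 1 := fun he => hCne (Subtype.ext (show C = ConjClasses.mk 1 from hgC.symm.trans (congrArg ConjClasses.mk he)))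
  have hall : ∀ z, χ z ≠ 0 → z = 1 ∨ IsConj g z := by
    intro z hz
    by_contra hcon
    push Not at hcon
    let three : Finset {C : ConjClasses G // ∃ g ∈ C.carrier, χ g ≠ 0} :=
      {one', ⟨C, g, hg, hgne⟩, ⟨ConjClasses.mk z, z, ConjClasses.mem_carrier_mk, hz⟩}
    have h3 : three.card = 3 := by
      rw [Finset.card_eq_three]
      refine ⟨_, _, _, hCne.symm, fun he => hcon.1 ?_, fun he => hcon.2 ?_, rfl⟩
      · exact isConj_one_right.mp (ConjClasses.mk_eq_mk_iff_isConj.mp (congrArg Subtype.val he))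
      · exact ConjClasses.mk_eq_mk_iff_isConj.mp (hgC.trans (congrArg Subtype.val he))
    have := three.card_le_univ
    rw [h3, ← Nat.card_eq_fintype_card, hχ] at this
    omega
  have hnt : χ ≠ fun _ => 1 := by
    intro he
    have hsum : Nat.card G = 1 + Nat.card {x : G // IsConj g x} := by
      have hU : ({1} : Finset G) ∪ Finset.univ.filter (fun x => IsConj g x) = Finset.univ := by
        refine Finset.eq_univ_of_forall fun z => ?_
        rcases hall z (by rw [he]; exact one_ne_zero) with rfl | h <;> simp_all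
      rw [Nat.card_eq_fintype_card, ← Finset.card_univ, ← hU, Finset.card_union_of_disjoint,
        Finset.card_singleton, Nat.card_eq_fintype_card, Fintype.card_subtype]
      simp only [Finset.disjoint_singleton_left, Finset.mem_filter, Finset.mem_univ, true_and]
      exact fun h => hg1 (isConj_one_right.mp h.symm)
    have h1 := CfsgLib.CharTheory.card_isConj_mul_card_centralizer g
    set k := Nat.card {x : G // IsConj g x}
    have hkd : k ∣ 1 := (Nat.dvd_add_left (dvd_refl k)).mp (hsum ▸ Dvd.intro _ h1)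
    have := Nat.le_of_dvd one_pos hkd
    omega
  refine ⟨g, hg1, hall, ?_⟩
  have h0 := CfsgLib.CharTheory.classInner_irr_ne hirr CfsgLib.CharTheory.isIrrCharacter_one hnt
  simp only [Cfsg.classInner, map_one, mul_one, mul_eq_zero, inv_eq_zero, Nat.cast_eq_zero,
    Nat.card_pos.ne', false_or] at h0
  rw [← Finset.sum_subset (Finset.subset_univ (({1} : Finset G) ∪
    Finset.univ.filter fun x => IsConj g x)) fun z _ hz => ?_, Finset.sum_union ?_,
    Finset.sum_singleton, Finset.sum_congr rfl fun z hz => (hcf g z (Finset.mem_filter.mp hz).2).symm,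
    Finset.sum_const, nsmul_eq_mul, ← Fintype.card_subtype, ← Nat.card_eq_fintype_card] at h0
  · linear_combination h0
  · simp only [Finset.disjoint_singleton_left, Finset.mem_filter, Finset.mem_univ, true_and]
    exact fun h => hg1 (isConj_one_right.mp h.symm)
  · by_contra hne
    rcases hall z hne with rfl | h <;> simp_all

theorem two_class_faithful {G : Type*} [Group G] [Finite G] (hG : 2 < Nat.card G) {χ : G → ℂ}
    (hirr : Cfsg.IsIrrCharacter G χ)
    (hχ : Nat.card {C : ConjClasses G // ∃ g ∈ C.carrier, χ g ≠ 0} = 2) :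
    ∀ g : G, χ g = χ 1 → g = 1 := by
  have := Fintype.ofFinite G
  obtain ⟨c, hc1, hall, hval⟩ := two_class_facts hG hirr hχ
  intro g hg
  have h1 := CfsgLib.CharTheory.irr_ne_zero hirr
  rcases hall g (hg ▸ h1) with h | h
  · exact h
  · exfalso
    rw [CfsgLib.CharTheory.isClassFunction_iff_isConj.mp
      (CfsgLib.CharTheory.isClassFunction_irr hirr) c g h, hg] at hval
    have h2 : ((Nat.card {x : G // IsConj c x} + 1 : ℕ) : ℂ) * χ 1 = 0 := by
      push_cast
      linear_combination hval
    exact (mul_eq_zero.mp h2).elim (fun e => absurd (Nat.cast_eq_zero.mp e) (Nat.succ_ne_zero _)) h1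

/-- Let G be a finite group of order greater than 2 with an irreducible character χ that is nonzero on exactly two conjugacy classes. Then χ is faithful (it takes the value χ(1) only at the identity), it is the only faithful irreducible character of G, and it is the only irreducible character of G that is nonzero on exactly two conjugacy classes. -/
theorem result {G : Type*} [Group G] [Finite G] (hG : 2 < Nat.card G) (χ : Cfsg.IrrCharacter G) (hχ : Nat.card {C : ConjClasses G // ∃ g ∈ C.carrier, (χ : G → ℂ) g ≠ 0} = 2) :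
    (∀ g : G, (χ : G → ℂ) g = (χ : G → ℂ) 1 → g = 1) ∧
      (∀ ψ : Cfsg.IrrCharacter G, (∀ g : G, (ψ : G → ℂ) g = (ψ : G → ℂ) 1 → g = 1) → ψ = χ) ∧
      (∀ ψ : Cfsg.IrrCharacter G, Nat.card {C : ConjClasses G // ∃ g ∈ C.carrier, (ψ : G → ℂ) g ≠ 0} = 2 → ψ = χ) := by
  classical
  have := Fintype.ofFinite G
  have huniq : ∀ ψ : Cfsg.IrrCharacter G,
      (∀ g : G, (ψ : G → ℂ) g = (ψ : G → ℂ) 1 → g = 1) → ψ = χ := by
    intro ψ hψ
    by_contra hne
    obtain ⟨c, hc1, hall, hval⟩ := two_class_facts hG χ.2 hχ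
    have h0 := CfsgLib.CharTheory.classInner_irr_ne ψ.2 χ.2 (fun he => hne (Subtype.ext he))
    simp only [Cfsg.classInner, mul_eq_zero, inv_eq_zero, Nat.cast_eq_zero, Nat.card_pos.ne',
      false_or] at h0
    rw [← Finset.sum_subset (Finset.subset_univ (({1} : Finset G) ∪
      Finset.univ.filter fun x => IsConj c x)) fun z _ hz => ?_, Finset.sum_union ?_,
      Finset.sum_singleton, Finset.sum_congr rfl fun z hz => (congrArg₂ (fun a b => a * (starRingEnd ℂ) b)
        (CfsgLib.CharTheory.isClassFunction_iff_isConj.mp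
          (CfsgLib.CharTheory.isClassFunction_irr ψ.2) c z (Finset.mem_filter.mp hz).2).symm
        (CfsgLib.CharTheory.isClassFunction_iff_isConj.mp
          (CfsgLib.CharTheory.isClassFunction_irr χ.2) c z (Finset.mem_filter.mp hz).2).symm),
      Finset.sum_const, nsmul_eq_mul, ← Fintype.card_subtype, ← Nat.card_eq_fintype_card] at h0
    · have h1 : (Nat.card {x : G // IsConj c x} : ℂ) * (starRingEnd ℂ) ((χ : G → ℂ) c) =
          -(starRingEnd ℂ) ((χ : G → ℂ) 1) := by
        have := congrArg (starRingEnd ℂ) hval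
        simpa using this
      have h2 : ((ψ : G → ℂ) 1 - (ψ : G → ℂ) c) * (starRingEnd ℂ) ((χ : G → ℂ) 1) = 0 := by
        linear_combination h0 - (ψ : G → ℂ) c * h1
      have h3 := (mul_eq_zero.mp h2).resolve_right
        ((map_ne_zero _).mpr (CfsgLib.CharTheory.irr_ne_zero χ.2))
      exact hc1 (hψ c (sub_eq_zero.mp h3).symm)
    · simp only [Finset.disjoint_singleton_left, Finset.mem_filter, Finset.mem_univ, true_and]
      exact fun h => hc1 (isConj_one_right.mp h.symm)
    · by_contra hne'
      rcases hall z (fun hz0 => hne' (by rw [hz0, map_zero, mul_zero])) with rfl | h <;> simp_all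
  exact ⟨two_class_faithful hG χ.2 hχ, huniq,
    fun ψ hψ => huniq ψ (two_class_faithful hG ψ.2 hψ)⟩

end Cfsg.Agent.S4836
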