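import Cfsg.Statements.S4837
import Cfsg.Agent.Lib.CharTheory.TwoClass
import Mathlib.GroupTheory.PGroup
import Mathlib.GroupTheory.Sylow

set_option autoImplicit false
open Cfsg

namespace Cfsg.Agent.S4837

/-- Let G be a finite group of order greater than 2 with an irreducible character χ nonzero on exactly two conjugacy classes, and let N be the set of elements where χ is nonzero, given as a nontrivial normal p-subgroup of G for the prime p. Then for every nonidentity x in N the centralizer C_G(x) is a Sylow p-subgroup of G, and for every irreducible character λ ≠ 1 of N the stabilizer of λ in G (its inertia group) is a Sylow p-subgroup of G. -/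
theorem result {G : Type*} [Group G] [Finite G] (hG : 2 < Nat.card G) (χ : Cfsg.IrrCharacter G) (hχ : Nat.card {C : ConjClasses G // ∃ g ∈ C.carrier, (χ : G → ℂ) g ≠ 0} = 2) (p : ℕ) [Fact p.Prime] (N : Subgroup G) [N.Normal] (hN : ∀ g : G, g ∈ N ↔ (χ : G → ℂ) g ≠ 0) (hNp : IsPGroup p N) (hN1 : N ≠ ⊥) :
    (∀ x ∈ N, x ≠ 1 → ∃ P : Sylow p G, Subgroup.centralizer ({x} : Set G) = P) ∧
      (∀ μ : Cfsg.IrrCharacter N, (μ : N → ℂ) ≠ (fun _ => (1 : ℂ)) → ∃ P : Sylow p G, ∀ g : G, g ∈ (P : Subgroup G) ↔ ∀ n n' : N, (n' : G) = g * n * g⁻¹ → (μ : N → ℂ) n' = (μ : N → ℂ) n) := by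
  classical
  have := Fintype.ofFinite G
  have hp : p.Prime := Fact.out
  obtain ⟨M, hMn, -, hM, htr, hval⟩ := CfsgLib.CharTheory.two_class_support hG χ.2 hχ
  obtain rfl : M = N := Subgroup.ext fun g => (hM g).trans (hN g).symm
  set k := Nat.card M - 1 with hk
  obtain ⟨hd1, hdpos⟩ := CfsgLib.CharTheory.charDegree_spec' χ.2
  set d := Cfsg.charDegree (χ : G → ℂ)
  obtain ⟨a, ha, ha1⟩ := (Subgroup.bot_or_exists_ne_one M).resolve_left hN1
  have hM2 : 2 ≤ Nat.card M := Subgroup.one_lt_card_iff_ne_bot M |>.mpr hN1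
  have hk0 : (k : ℂ) ≠ 0 := Nat.cast_ne_zero.mpr (by omega)
  -- the value is an integer `-e`
  obtain ⟨e, he, hde⟩ : ∃ e : ℕ, (∀ x ∈ M, x ≠ 1 → (χ : G → ℂ) x = -(e : ℂ)) ∧ d = k * e := by
    obtain ⟨h1, -⟩ := hval a ha ha1
    rw [hd1] at h1
    have hx : (χ : G → ℂ) a = ((-(d : ℚ) / (k : ℚ) : ℚ) : ℂ) := by
      push_cast; rw [eq_div_iff hk0]; linear_combination h1
    obtain ⟨z, hz⟩ := CfsgLib.CharTheory.exists_int_of_isIntegral_ratCast
      (hx ▸ CfsgLib.CharTheory.isIntegral_of_char (CfsgLib.CharTheory.isCharacter_of_irr χ.2) a)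
    have hkz : (d : ℤ) = (k : ℤ) * -z := by
      have : (d : ℂ) = (k : ℂ) * -((z : ℤ) : ℂ) := by
        have hz' : (χ : G → ℂ) a = ((z : ℤ) : ℂ) := by rw [hx, hz]; push_cast; rfl
        rw [← hz']; linear_combination h1
      exact_mod_cast this
    obtain ⟨e, he⟩ : ∃ e : ℕ, -z = (e : ℤ) := Int.eq_ofNat_of_zero_le (by
      by_contra hneg
      push Not at hneg
      have : (k : ℤ) * -z < 0 := mul_neg_of_pos_of_neg (by omega) hneg
      omega)
    refine ⟨e, fun x hx' hx1 => ?_, by rw [he] at hkz; exact_mod_cast hkz⟩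
    obtain ⟨h2, -⟩ := hval x hx' hx1
    apply mul_left_cancel₀ hk0
    rw [h2, hd1, mul_neg, neg_inj]
    rw [he] at hkz
    exact_mod_cast hkz
  have he0 : e ≠ 0 := fun h => by rw [h, mul_zero] at hde; omega
  -- the order of the group
  have hcardG : Nat.card G = Nat.card M * k * e ^ 2 := by
    have h1 := CfsgLib.CharTheory.sum_mul_conj_irr χ.2
    rw [← Finset.sum_subset (Finset.subset_univ (Finset.univ.filter fun g => g ∈ M)) (fun g _ hg => by
        have : (χ : G → ℂ) g = 0 := by simpa [hN] using hg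
        simp [this]),
      ← Finset.add_sum_erase _ _ (a := (1 : G)) (by simp),
      Finset.sum_congr rfl fun g (hg : g ∈ (Finset.univ.filter fun g => g ∈ M).erase 1) => by
        rw [he g (Finset.mem_filter.mp (Finset.mem_erase.mp hg).2).2 (Finset.mem_erase.mp hg).1],
      Finset.sum_const, Finset.card_erase_of_mem (by simp), ← Fintype.card_subtype,
      ← Nat.card_eq_fintype_card, show Nat.card {g : G // g ∈ M} - 1 = k from rfl, hd1, nsmul_eq_mul,
      map_natCast, map_neg, map_natCast] at h1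
    have h2 : d * d + k * (e * e) = Nat.card G := by
      apply Nat.cast_injective (R := ℂ)
      push_cast
      linear_combination h1
    rw [← h2, hde, show Nat.card M = k + 1 by omega]
    ring
  have hcent : ∀ x ∈ M, x ≠ 1 →
      Nat.card (Subgroup.centralizer ({x} : Set G)) = Nat.card M * e ^ 2 := by
    intro x hx hx1
    have h1 := CfsgLib.CharTheory.card_isConj_mul_card_centralizer x
    rw [(hval x hx hx1).2, hcardG, show Nat.card M * k * e ^ 2 = k * (Nat.card M * e ^ 2) by ring] at h1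
    exact Nat.eq_of_mul_eq_mul_left (by omega) h1
  -- `e` is a power of `p`
  have hprime : ∀ r : ℕ, r.Prime → r ∣ e → r = p := by
    intro r hr hre
    by_contra hrp
    haveI := Fact.mk hr
    set C := Subgroup.centralizer ({a} : Set G)
    let R : Sylow r C := default
    obtain ⟨j, hj⟩ := IsPGroup.iff_card.mp R.isPGroup'
    let A := Subgroup.zpowers a
    let φ : A × (R : Subgroup C) →* G :=
      { toFun := fun z => (z.1 : G) * ((z.2 : C) : G)
        map_one' := by simp
        map_mul' := fun z w => by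
          have hc : Commute ((z.2 : C) : G) (w.1 : G) := by
            obtain ⟨i, hi⟩ := Subgroup.mem_zpowers_iff.mp w.1.2
            rw [← hi]
            exact Commute.zpow_right (Subgroup.mem_centralizer_singleton_iff.mp (z.2 : C).2) i
          show (z.1 : G) * (w.1 : G) * (((z.2 : C) : G) * ((w.2 : C) : G)) = _
          rw [mul_assoc (z.1 : G), ← mul_assoc (w.1 : G), ← hc.eq]
          simp only [mul_assoc] }
    have := Fintype.ofFinite (A × (R : Subgroup C))
    let Nr : Subgroup (A × (R : Subgroup C)) := (⊥ : Subgroup A).prod ⊤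
    have := Fintype.ofFinite Nr
    have hchar := CfsgLib.CharTheory.isCharacter_cosetAvg Nr
      (CfsgLib.CharTheory.isCharacter_comp (CfsgLib.CharTheory.isCharacter_of_irr χ.2) φ)
    have hint := CfsgLib.CharTheory.isIntegral_of_char hchar (⟨a, Subgroup.mem_zpowers a⟩, 1)
    have hvan : ∀ n : Nr, n ≠ 1 →
        (χ : G → ℂ) (φ ((n : A × (R : Subgroup C)) * (⟨a, Subgroup.mem_zpowers a⟩, 1))) = 0 := by
      intro n hn
      by_contra hne
      obtain ⟨hn1, -⟩ := Subgroup.mem_prod.mp n.2
      rw [Subgroup.mem_bot] at hn1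
      have hmem : (((n : A × (R : Subgroup C)).2 : C) : G) ∈ M := by
        have h2 := (hN _).mpr hne
        simp only [φ, MonoidHom.coe_mk, OneHom.coe_mk, Prod.fst_mul, Prod.snd_mul, hn1, one_mul,
          mul_one] at h2
        exact (mul_mem_cancel_left ha).mp h2
      obtain ⟨i, hi⟩ := IsPGroup.iff_orderOf.mp hNp ⟨_, hmem⟩
      obtain ⟨i', hi'⟩ := IsPGroup.iff_orderOf.mp R.isPGroup' (n : A × (R : Subgroup C)).2
      rw [← Subgroup.orderOf_coe] at hi hi'
      rw [← Subgroup.orderOf_coe] at hi'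
      have h1 : orderOf (((n : A × (R : Subgroup C)).2 : C) : G) = 1 :=
        Nat.eq_one_of_dvd_coprimes (((Nat.coprime_primes hp hr).mpr (Ne.symm hrp)).pow i i')
          (by rw [← hi]) (by rw [← hi'])
      refine hn (Subtype.ext (Prod.ext hn1 ?_))
      rw [orderOf_eq_one_iff] at h1
      exact Subtype.ext (Subtype.ext h1)
    simp only [CfsgLib.CharTheory.cosetAvg] at hint
    rw [Finset.sum_eq_single (1 : Nr) (fun n _ hn => hvan n hn) (by simp)] at hint
    have hφ1 : φ (((1 : Nr) : A × (R : Subgroup C)) * (⟨a, Subgroup.mem_zpowers a⟩, 1)) = a := by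
      simp [φ]
    have hcardN : Nat.card Nr = r ^ j := by
      rw [Nat.card_congr (Subgroup.prodEquiv _ _).toEquiv, Nat.card_prod, Subgroup.card_bot, one_mul,
        Subgroup.card_top, hj]
    rw [hφ1, he a ha ha1, hcardN] at hint
    have hrat : (((r ^ j : ℕ) : ℂ))⁻¹ * -(e : ℂ) = ((-(e : ℚ) / ((r ^ j : ℕ) : ℚ) : ℚ) : ℂ) := by
      push_cast; ring
    rw [hrat] at hint
    obtain ⟨z, hz⟩ := CfsgLib.CharTheory.exists_int_of_isIntegral_ratCast hint
    have hdiv : r ^ j ∣ e := by
      rw [div_eq_iff (Nat.cast_ne_zero.mpr (pow_ne_zero _ hr.ne_zero))] at hz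
      have : (e : ℤ) = ((r ^ j : ℕ) : ℤ) * -z := by
        have h2 : (e : ℚ) = ((r ^ j : ℕ) : ℚ) * -(z : ℚ) := by linear_combination -hz
        exact_mod_cast h2
      exact Int.natCast_dvd_natCast.mp (Dvd.intro _ this.symm)
    -- but the Sylow subgroup absorbs the square of the `r`-part of `e`
    have hfac := R.card_eq_multiplicity
    rw [hj, hcent a ha ha1] at hfac
    have hje : j = (Nat.card M * e ^ 2).factorization r := Nat.pow_right_injective hr.two_le hfac
    rw [Nat.factorization_mul (by omega) (pow_ne_zero _ he0), Nat.factorization_pow] at hje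
    have hle := (hr.pow_dvd_iff_le_factorization he0).mp hdiv
    have hpos := hr.factorization_pos_of_dvd he0 hre
    simp only [Finsupp.coe_add, Pi.add_apply, Finsupp.coe_smul, Pi.smul_apply, smul_eq_mul] at hje
    omega
  obtain ⟨u, hu⟩ : ∃ u, e = p ^ u := ⟨_, Nat.eq_prime_pow_of_unique_prime_dvd he0 fun {r} hr h => hprime r hr h⟩
  obtain ⟨w, hw⟩ := IsPGroup.iff_card.mp hNp
  have hw0 : w ≠ 0 := fun h => by rw [hw, h, pow_zero] at hM2; omega
  have hkp : ¬ p ∣ k := by
    intro h
    have h2 : p ∣ Nat.card M := hw ▸ dvd_pow_self p hw0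
    have h3 : p ∣ Nat.card M - k := Nat.dvd_sub h2 h
    rw [show Nat.card M - k = 1 by omega] at h3
    exact hp.not_dvd_one h3
  have hsyl : ∀ S : Subgroup G, Nat.card S = Nat.card M * e ^ 2 → ∃ P : Sylow p G, S = P := by
    intro S hS
    refine ⟨Sylow.ofCard S ?_, (Sylow.coe_ofCard _ _).symm⟩
    rw [hS, hcardG, hw, hu, ← pow_mul, ← pow_add, mul_assoc, mul_comm k, ← mul_assoc, ← pow_add]
    congr 1
    rw [Nat.factorization_mul (pow_ne_zero _ hp.ne_zero) (by omega), Nat.Prime.factorization_pow hp]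
    simp [Nat.factorization_eq_zero_of_not_dvd hkp]
  refine ⟨fun x hx hx1 => hsyl _ (hcent x hx hx1), fun μ hμ => ?_⟩
  -- the inertia group
  have := Fintype.ofFinite M
  have hab : ∀ x y : M, x * y = y * x := by
    haveI : Nontrivial M := (Subgroup.nontrivial_iff_ne_bot M).mpr hN1
    obtain ⟨z, hzc, hz1⟩ := (Subgroup.bot_or_exists_ne_one (Subgroup.center M)).resolve_left
      ((Subgroup.nontrivial_iff_ne_bot _).mp hNp.center_nontrivial)
    intro x y
    rcases eq_or_ne (x : G) 1 with h | h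
    · rw [OneMemClass.coe_eq_one] at h; simp [h]
    · obtain ⟨g, hg⟩ := isConj_iff.mp (htr z z.2 x x.2 (by simpa using hz1) h)
      have : x = MulAut.conjNormal g z := Subtype.ext (by rw [MulAut.conjNormal_apply, hg])
      rw [this]
      obtain ⟨y', rfl⟩ := (MulAut.conjNormal g : M ≃* M).surjective y
      rw [← map_mul, ← map_mul, Subgroup.mem_center_iff.mp hzc y']
  have hμ1 : (μ : M → ℂ) 1 = 1 := CfsgLib.CharTheory.degree_one_of_commutative hab μ.2
  have hres : (fun n : M => (χ : G → ℂ) n) = fun n : M => if n = 1 then (d : ℂ) else -(e : ℂ) := by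
    funext n
    by_cases h : n = 1
    · rw [if_pos h, h]; exact hd1
    · rw [if_neg h]; exact he n n.2 (by simpa using h)
  have hinner : Cfsg.classInner (fun n : M => (χ : G → ℂ) n) (μ : M → ℂ) = (e : ℂ) := by
    rw [hres]
    have h0 := CfsgLib.CharTheory.classInner_irr_ne μ.2 CfsgLib.CharTheory.isIrrCharacter_one hμ
    simp only [Cfsg.classInner, map_one, mul_one, mul_eq_zero, inv_eq_zero, Nat.cast_eq_zero,
      Nat.card_pos.ne', false_or] at h0
    rw [← Finset.add_sum_erase _ _ (Finset.mem_univ (1 : M)), hμ1] at h0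
    simp only [Cfsg.classInner]
    rw [← Finset.add_sum_erase _ _ (Finset.mem_univ (1 : M)), if_pos rfl, hμ1, map_one, mul_one,
      Finset.sum_congr rfl fun n hn => by rw [if_neg (Finset.mem_erase.mp hn).1], ← Finset.mul_sum,
      ← map_sum, eq_neg_of_add_eq_zero_right h0, map_neg, map_one, hde]
    rw [inv_mul_eq_iff_eq_mul₀ (Nat.cast_ne_zero.mpr Nat.card_pos.ne'), show Nat.card M = k + 1 by omega]
    push_cast
    ring
  have hidx := CfsgLib.CharTheory.clifford_degree M χ.2 μ.2 (by rw [hinner]; exact_mod_cast he0)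
  rw [hinner, hμ1, hd1, mul_one, hde] at hidx
  have hidx' : (CfsgLib.CharTheory.inertia M (μ : M → ℂ)).index = k := by
    have h2 : k * e = e * (CfsgLib.CharTheory.inertia M (μ : M → ℂ)).index := by exact_mod_cast hidx
    exact Nat.eq_of_mul_eq_mul_left (Nat.pos_of_ne_zero he0) (h2.symm.trans (mul_comm k e))
  obtain ⟨P, hP⟩ := hsyl (CfsgLib.CharTheory.inertia M (μ : M → ℂ)) (by
    have h2 := Subgroup.card_mul_index (CfsgLib.CharTheory.inertia M (μ : M → ℂ))
    rw [hidx', hcardG] at h2
    apply Nat.eq_of_mul_eq_mul_right (show 0 < k by omega)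
    rw [h2]; ring)
  refine ⟨P, fun g => ?_⟩
  rw [← hP, CfsgLib.CharTheory.mem_inertia]
  constructor
  · intro h n n' hn'
    rw [← congrFun h n]
    show (μ : M → ℂ) n' = (μ : M → ℂ) _
    exact congrArg _ (Subtype.ext hn')
  · intro h
    funext n
    exact h n ⟨g * n * g⁻¹, Subgroup.Normal.conj_mem inferInstance _ n.2 g⟩ rfl

end Cfsg.Agent.S4837
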