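import Cfsg.Statements.S4838
import Cfsg.Agent.Lib.CharTheory.TwoClassSupport
import Cfsg.Agent.Lib.CharTheory.Linear
import Cfsg.Agent.Lib.CharTheory.Irr

set_option autoImplicit false
open Cfsg CfsgLib.CharTheory

open scoped ComplexConjugate

namespace Cfsg.Agent.S4838

/-- Let G be a finite group of order greater than 2 with an irreducible character χ nonzero on exactly two conjugacy classes, N the normal p-subgroup of elements where χ is nonzero, and P a Sylow p-subgroup of G. Then (a) for every x outside N the centralizer of x in G has the same order as the centralizer of xN in G/N; (b) the centre of P lies in N, and equals N exactly when P is normal in G; (c) N, viewed inside P, is a term of the upper central series of P. -/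
theorem result {G : Type*} [Group G] [Finite G] (hG : 2 < Nat.card G) (χ : Cfsg.IrrCharacter G) (hχ : Nat.card {C : ConjClasses G // ∃ g ∈ C.carrier, (χ : G → ℂ) g ≠ 0} = 2) (p : ℕ) [Fact p.Prime] (N : Subgroup G) [N.Normal] (hN : ∀ g : G, g ∈ N ↔ (χ : G → ℂ) g ≠ 0) (hNp : IsPGroup p N) (hN1 : N ≠ ⊥) (P : Sylow p G) :
    (∀ x : G, x ∉ N → Nat.card (Subgroup.centralizer ({x} : Set G)) = Nat.card (Subgroup.centralizer ({(x : G ⧸ N)} : Set (G ⧸ N)))) ∧
      ((Subgroup.center ↥(P : Subgroup G)).map (P : Subgroup G).subtype ≤ N ∧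
        ((Subgroup.center ↥(P : Subgroup G)).map (P : Subgroup G).subtype = N ↔ (P : Subgroup G).Normal)) ∧
      (∃ i : ℕ, Subgroup.upperCentralSeries ↥(P : Subgroup G) i = N.subgroupOf (P : Subgroup G)) := by
  classical
  haveI := Fintype.ofFinite G
  have hc := isCharacter_of_irr χ.2
  have hd0 : (χ : G → ℂ) 1 ≠ 0 := irr_ne_zero χ.2
  have htwo : ∀ a b c : {C : ConjClasses G // ∃ g ∈ C.carrier, (χ : G → ℂ) g ≠ 0},
      a = b ∨ a = c ∨ b = c := by
    intro a b c
    by_contra hh
    push Not at hh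
    obtain ⟨h1, h2, h3⟩ := hh
    have h4 : ({a, b, c} : Finset _).card = 3 := Finset.card_eq_three.mpr ⟨a, b, c, h1, h2, h3, rfl⟩
    haveI := Fintype.ofFinite {C : ConjClasses G // ∃ g ∈ C.carrier, (χ : G → ℂ) g ≠ 0}
    have h5 := Finset.card_le_univ ({a, b, c} : Finset {C : ConjClasses G // ∃ g ∈ C.carrier, (χ : G → ℂ) g ≠ 0})
    rw [h4, ← Nat.card_eq_fintype_card, hχ] at h5
    omega
  obtain ⟨u, huN, hu1⟩ : ∃ u ∈ N, u ≠ 1 := (Subgroup.bot_or_exists_ne_one N).resolve_left hN1
  have hconj : ∀ n ∈ N, n ≠ 1 → IsConj u n := by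
    intro n hn hn1
    have hmk : ∀ g : G, g ∈ N → ∃ g' ∈ (ConjClasses.mk g).carrier, (χ : G → ℂ) g' ≠ 0 := fun g hg =>
      ⟨g, ConjClasses.mem_carrier_mk, (hN g).mp hg⟩
    rcases htwo ⟨_, hmk u huN⟩ ⟨_, hmk n hn⟩ ⟨_, hmk 1 N.one_mem⟩ with h | h | h
    · exact ConjClasses.mk_eq_mk_iff_isConj.mp (congrArg Subtype.val h)
    · exact absurd (isConj_one_right.mp (ConjClasses.mk_eq_mk_iff_isConj.mp (congrArg Subtype.val h)).symm) hu1
    · exact absurd (isConj_one_right.mp (ConjClasses.mk_eq_mk_iff_isConj.mp (congrArg Subtype.val h)).symm) hn1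
  have hval : ∀ ψ : G → ℂ, IsCharacter G ψ → ∀ n ∈ N, n ≠ 1 → ψ n = ψ u := by
    intro ψ hψ n hn hn1
    exact ((isClassFunction_iff_isConj.mp (isClassFunction_char hψ)) _ _ (hconj n hn hn1)).symm
  have hsplit : ∀ f : G → ℂ, (∀ n ∈ N, n ≠ 1 → f n = f u) → (∀ g, g ∉ N → f g = 0) →
      ∑ g : G, f g = f 1 + ((Nat.card N - 1 : ℕ) : ℂ) * f u := by
    intro f hf hf0
    rw [← Finset.sum_subset (s₁ := Finset.univ.filter fun g => g ∈ N) (Finset.subset_univ _)
      (fun g _ hg => hf0 g (by simpa using hg)),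
      ← Finset.add_sum_erase _ _ (show (1 : G) ∈ Finset.univ.filter (fun g => g ∈ N) by
        simp [N.one_mem])]
    congr 1
    rw [Finset.sum_congr rfl fun g hg => hf g (by simpa using (Finset.mem_of_mem_erase hg))
      (Finset.ne_of_mem_erase hg), Finset.sum_const, nsmul_eq_mul,
      Finset.card_erase_of_mem (by simp [N.one_mem]), ← Fintype.card_subtype,
      ← Nat.card_eq_fintype_card]
  have hout : ∀ g, g ∉ N → (χ : G → ℂ) g = 0 := fun g hg => by
    by_contra h; exact hg ((hN g).mpr h)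
  have hNpos : 1 < Nat.card N := Subgroup.one_lt_card_iff_ne_bot N |>.mpr hN1
  set k : ℂ := ((Nat.card N - 1 : ℕ) : ℂ) with hk
  have hk0 : k ≠ 0 := Nat.cast_ne_zero.mpr (by omega)
  have hzero : (χ : G → ℂ) 1 + k * (χ : G → ℂ) u = 0 := by
    have h1 := hsplit (χ : G → ℂ) (hval _ hc) hout
    have hne : (χ : G → ℂ) ≠ fun _ => 1 := by
      intro e
      have hsub : ∀ g : G, g ∈ N := fun g => (hN g).mpr (by rw [e]; exact one_ne_zero)
      have hcls : ∀ g : G, g ≠ 1 → IsConj u g := fun g hg => hconj g (hsub g) hg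
      have hzc : u ∈ Subgroup.center G := by
        haveI : Fact p.Prime := inferInstance
        have hGp : IsPGroup p G := fun g => by
          obtain ⟨j, hj⟩ := hNp ⟨g, hsub g⟩
          exact ⟨j, by simpa using congrArg Subtype.val hj⟩
        haveI : Nontrivial G := ⟨⟨u, 1, hu1⟩⟩
        haveI := hGp.center_nontrivial
        obtain ⟨z, hz, hz1⟩ := (Subgroup.bot_or_exists_ne_one (Subgroup.center G)).resolve_left
          ((Subgroup.nontrivial_iff_ne_bot _).mp inferInstance)
        obtain ⟨c, hcu⟩ := isConj_iff.mp (hcls z hz1).symm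
        rw [← hcu, Subgroup.mem_center_iff.mp hz c, mul_inv_cancel_right]
        exact hz
      have huniq : ∀ g : G, g ≠ 1 → g = u := fun g hg => by
        obtain ⟨c, hcu⟩ := isConj_iff.mp (hcls g hg)
        rw [← hcu, Subgroup.mem_center_iff.mp hzc c, mul_inv_cancel_right]
      have : Nat.card G ≤ 2 := by
        rw [Nat.card_eq_fintype_card]
        refine le_trans (Finset.card_le_card (t := ({1, u} : Finset G)) fun g _ => ?_)
          Finset.card_le_two
        by_cases hg : g = 1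
        · simp [hg]
        · simp [huniq g hg]
      omega
    have := classInner_irr_ne χ.2 isIrrCharacter_one hne
    simp only [classInner, map_one, mul_one, mul_eq_zero, inv_eq_zero] at this
    rw [h1] at this
    exact this.resolve_left (Nat.cast_ne_zero.mpr Nat.card_pos.ne')
  -- the other characters have `N` in the kernel
  have hker : ∀ ψ : IrrCharacter G, ψ ≠ χ → ∀ n ∈ N, (ψ : G → ℂ) n = (ψ : G → ℂ) 1 := by
    intro ψ hψ n hn
    rcases eq_or_ne n 1 with rfl | hn1
    · rfl
    rw [hval _ (isCharacter_of_irr ψ.2) n hn hn1]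
    have h0 := classInner_irr_ne χ.2 ψ.2 fun e => hψ (Subtype.ext e.symm)
    simp only [classInner, mul_eq_zero, inv_eq_zero] at h0
    have h0' := h0.resolve_left (Nat.cast_ne_zero.mpr Nat.card_pos.ne')
    rw [hsplit _ (fun g hg hg1 => by rw [hval _ hc g hg hg1, hval _ (isCharacter_of_irr ψ.2) g hg hg1])
      (fun g hg => by rw [hout g hg, zero_mul])] at h0'
    have hu0 : (χ : G → ℂ) u ≠ 0 := (hN u).mp huN
    have h2 : (χ : G → ℂ) u * k * (conj ((ψ : G → ℂ) u) - conj ((ψ : G → ℂ) 1)) = 0 := by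
      linear_combination h0' - (conj ((ψ : G → ℂ) 1)) * hzero
    have h3 := (mul_eq_zero.mp h2).resolve_left (mul_ne_zero hu0 hk0)
    exact (starRingEnd ℂ).injective (sub_eq_zero.mp h3)
  have part1 : ∀ x : G, x ∉ N → Nat.card (Subgroup.centralizer ({x} : Set G)) =
      Nat.card (Subgroup.centralizer ({(x : G ⧸ N)} : Set (G ⧸ N))) := by
    intro x hx
    haveI := Fintype.ofFinite (G ⧸ N)
    haveI := Fintype.ofFinite {ψ : IrrCharacter G // ∀ n ∈ N, (ψ : G → ℂ) n = (ψ : G → ℂ) 1}
    have hG1 := sum_irr_mul_conj x x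
    have hQ1 := sum_irr_mul_conj (x : G ⧸ N) (x : G ⧸ N)
    rw [if_pos (IsConj.refl _)] at hG1 hQ1
    have h : ∑ ψ : IrrCharacter (G ⧸ N), (ψ : G ⧸ N → ℂ) x * conj ((ψ : G ⧸ N → ℂ) x) =
        ∑ ψ : IrrCharacter G, (ψ : G → ℂ) x * conj ((ψ : G → ℂ) x) := by
      rw [← Finset.sum_filter_of_ne (p := fun ψ : IrrCharacter G => ψ ≠ χ)
        (fun ψ _ hne e => hne (by rw [e, hout x hx, zero_mul]))]
      refine Finset.sum_bij (fun ψ _ => (quotientIrrEquiv N ψ).1) ?_ ?_ ?_ ?_
      · intro ψ _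
        refine Finset.mem_filter.mpr ⟨Finset.mem_univ _, fun e => ?_⟩
        have := (quotientIrrEquiv N ψ).2 u huN
        rw [e] at this
        have h2 : (χ : G → ℂ) 1 * (1 + k) = 0 := by rw [this] at hzero; linear_combination hzero
        rcases mul_eq_zero.mp h2 with h | h
        · exact hd0 h
        · rw [hk, Nat.cast_sub (by omega : 1 ≤ Nat.card N)] at h
          simp only [Nat.cast_one, add_sub_cancel] at h
          exact Nat.card_pos.ne' (Nat.cast_eq_zero.mp h)
      · intro a _ b _ e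
        exact (quotientIrrEquiv N).injective (Subtype.ext e)
      · intro ψ hψ
        exact ⟨(quotientIrrEquiv N).symm ⟨ψ, hker ψ (Finset.mem_filter.mp hψ).2⟩, Finset.mem_univ _,
          by rw [Equiv.apply_symm_apply]⟩
      · intro ψ _
        rfl
    rw [hQ1, hG1] at h
    exact_mod_cast h.symm
  have hNP : N ≤ (P : Subgroup G) := CfsgLib.CharTheory.TwoClassAux.normal_le_sylow N hNp P
  have hstep : ∀ i : ℕ, (Subgroup.upperCentralSeries ↥(P : Subgroup G) i) < N.subgroupOf (P : Subgroup G) →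
      Subgroup.upperCentralSeries ↥(P : Subgroup G) (i + 1) ≤ N.subgroupOf (P : Subgroup G) := by
    intro i hlt x hx
    by_contra hxN
    exact CfsgLib.CharTheory.TwoClassAux.step N hNP hlt hx hxN (part1 _ hxN)
  have hZ : (Subgroup.center ↥(P : Subgroup G)).map (P : Subgroup G).subtype ≤ N := by
    have h0 : Subgroup.upperCentralSeries ↥(P : Subgroup G) 0 < N.subgroupOf (P : Subgroup G) := by
      rw [Subgroup.upperCentralSeries_zero, bot_lt_iff_ne_bot]
      intro e
      exact hu1 (congrArg Subtype.val (show (⟨u, hNP huN⟩ : ↥(P : Subgroup G)) = 1 from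
        Subgroup.mem_bot.mp (e ▸ Subgroup.mem_subgroupOf.mpr huN)))
    have h1 := hstep 0 h0
    rw [zero_add, Subgroup.upperCentralSeries_one] at h1
    refine (Subgroup.map_mono h1).trans ?_
    rw [Subgroup.map_subgroupOf_eq_of_le hNP]
  refine ⟨part1, ⟨hZ, ⟨fun e => ?_, fun hPn => ?_⟩⟩, ?_⟩
  · -- equality forces normality
    exact CfsgLib.CharTheory.TwoClassAux.normal_of_center N hNp P e part1
  · refine le_antisymm hZ fun n hn => ?_
    haveI := hPn
    haveI : Nontrivial ↥(P : Subgroup G) := ⟨⟨⟨u, hNP huN⟩, 1, fun e => hu1 (congrArg Subtype.val e)⟩⟩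
    haveI := (P.isPGroup' : IsPGroup p ↥(P : Subgroup G)).center_nontrivial
    obtain ⟨z, hz, hz1⟩ := (Subgroup.bot_or_exists_ne_one
      (Subgroup.center ↥(P : Subgroup G))).resolve_left ((Subgroup.nontrivial_iff_ne_bot _).mp inferInstance)
    rcases eq_or_ne n 1 with rfl | hn1
    · exact one_mem _
    have hzN : (z : G) ∈ N := hZ (Subgroup.mem_map_of_mem _ hz)
    have hz1' : (z : G) ≠ 1 := fun e => hz1 (Subtype.ext e)
    obtain ⟨c, hc'⟩ := isConj_iff.mp ((hconj _ hzN hz1').symm.trans (hconj n hn hn1))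
    rw [← hc']
    haveI : ((Subgroup.center ↥(P : Subgroup G)).map (P : Subgroup G).subtype).Normal := inferInstance
    exact ‹((Subgroup.center ↥(P : Subgroup G)).map (P : Subgroup G).subtype).Normal›.conj_mem _
      (Subgroup.mem_map_of_mem _ hz) c
  · haveI : Group.IsNilpotent ↥(P : Subgroup G) := P.isPGroup'.isNilpotent
    obtain ⟨m, hm⟩ := Group.IsNilpotent.nilpotent ↥(P : Subgroup G)
    have hex : ∃ i, ¬ (Subgroup.upperCentralSeries ↥(P : Subgroup G) i < N.subgroupOf (P : Subgroup G)) :=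
      ⟨m, by rw [hm]; exact not_top_lt⟩
    refine ⟨Nat.find hex, ?_⟩
    rcases Nat.eq_zero_or_pos (Nat.find hex) with h0 | hpos
    · have := Nat.find_spec hex
      rw [h0, Subgroup.upperCentralSeries_zero] at this ⊢
      exact (not_bot_lt_iff.mp this).symm
    · have h1 := hstep (Nat.find hex - 1) (not_not.mp (Nat.find_min hex (by omega)))
      rw [Nat.sub_add_cancel hpos] at h1
      exact (eq_or_lt_of_le h1).resolve_right (Nat.find_spec hex)

end Cfsg.Agent.S4838
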