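import Cfsg.Statements.S4839
import Cfsg.Agent.Lib.CharTheory.CaminaPGroup
import Cfsg.Agent.Lib.CharTheory.Irr
import Cfsg.Agent.Lib.CharTheory.Gallagher
import Cfsg.Agent.Lib.CharTheory.Linear
import Cfsg.Agent.Lib.Frobenius.More

set_option autoImplicit false
open Cfsg
open CfsgLib.CharTheory
open scoped ComplexConjugate

namespace Cfsg.Agent.S4839

theorem result {G : Type*} [Group G] [Finite G] (hG : 2 < Nat.card G) (χ : Cfsg.IrrCharacter G) (hχ : Nat.card {C : ConjClasses G // ∃ g ∈ C.carrier, (χ : G → ℂ) g ≠ 0} = 2) (p : ℕ) [Fact p.Prime] (N : Subgroup G) [N.Normal] (hN : ∀ g : G, g ∈ N ↔ (χ : G → ℂ) g ≠ 0) (hNp : IsPGroup p N) (hN1 : N ≠ ⊥) :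
    N = Cfsg.pCore p G ↔ ∃ H : Subgroup G, Cfsg.IsFrobeniusComplement H ∧ Cfsg.frobeniusKernel H = (N : Set G) ∧ Nat.card H + 1 = Nat.card N := by
  classical
  haveI := Fintype.ofFinite G
  have hc := isCharacter_of_irr χ.2
  have hd0 : (χ : G → ℂ) 1 ≠ 0 := irr_ne_zero χ.2
  have htwo : ∀ a b c : {C : ConjClasses G // ∃ g ∈ C.carrier, (χ : G → ℂ) g ≠ 0},
      a = b ∨ a = c ∨ b = c := by
    intro a b c
    by_contra hh
    push Not at hh
    obtain ⟨h1, h2, h3⟩ := hh
    have h4 : ({a, b, c} : Finset _).card = 3 := Finset.card_eq_three.mpr ⟨a, b, c, h1, h2, h3, rfl⟩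
    haveI := Fintype.ofFinite {C : ConjClasses G // ∃ g ∈ C.carrier, (χ : G → ℂ) g ≠ 0}
    have h5 := Finset.card_le_univ ({a, b, c} : Finset {C : ConjClasses G // ∃ g ∈ C.carrier, (χ : G → ℂ) g ≠ 0})
    rw [h4, ← Nat.card_eq_fintype_card, hχ] at h5
    omega
  obtain ⟨u, huN, hu1⟩ : ∃ u ∈ N, u ≠ 1 := (Subgroup.bot_or_exists_ne_one N).resolve_left hN1
  have hconj : ∀ n ∈ N, n ≠ 1 → IsConj u n := by
    intro n hn hn1
    have hmk : ∀ g : G, g ∈ N → ∃ g' ∈ (ConjClasses.mk g).carrier, (χ : G → ℂ) g' ≠ 0 := fun g hg =>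
      ⟨g, ConjClasses.mem_carrier_mk, (hN g).mp hg⟩
    rcases htwo ⟨_, hmk u huN⟩ ⟨_, hmk n hn⟩ ⟨_, hmk 1 N.one_mem⟩ with h | h | h
    · exact ConjClasses.mk_eq_mk_iff_isConj.mp (congrArg Subtype.val h)
    · exact absurd (isConj_one_right.mp (ConjClasses.mk_eq_mk_iff_isConj.mp (congrArg Subtype.val h)).symm) hu1
    · exact absurd (isConj_one_right.mp (ConjClasses.mk_eq_mk_iff_isConj.mp (congrArg Subtype.val h)).symm) hn1
  have hval : ∀ ψ : G → ℂ, IsCharacter G ψ → ∀ n ∈ N, n ≠ 1 → ψ n = ψ u := by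
    intro ψ hψ n hn hn1
    exact ((isClassFunction_iff_isConj.mp (isClassFunction_char hψ)) _ _ (hconj n hn hn1)).symm
  have hsplit : ∀ f : G → ℂ, (∀ n ∈ N, n ≠ 1 → f n = f u) → (∀ g, g ∉ N → f g = 0) →
      ∑ g : G, f g = f 1 + ((Nat.card N - 1 : ℕ) : ℂ) * f u := by
    intro f hf hf0
    rw [← Finset.sum_subset (s₁ := Finset.univ.filter fun g => g ∈ N) (Finset.subset_univ _)
      (fun g _ hg => hf0 g (by simpa using hg)),
      ← Finset.add_sum_erase _ _ (show (1 : G) ∈ Finset.univ.filter (fun g => g ∈ N) by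
        simp [N.one_mem])]
    congr 1
    rw [Finset.sum_congr rfl fun g hg => hf g (by simpa using (Finset.mem_of_mem_erase hg))
      (Finset.ne_of_mem_erase hg), Finset.sum_const, nsmul_eq_mul,
      Finset.card_erase_of_mem (by simp [N.one_mem]), ← Fintype.card_subtype,
      ← Nat.card_eq_fintype_card]
  have hout : ∀ g, g ∉ N → (χ : G → ℂ) g = 0 := fun g hg => by
    by_contra h; exact hg ((hN g).mpr h)
  have hNpos : 1 < Nat.card N := Subgroup.one_lt_card_iff_ne_bot N |>.mpr hN1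
  set k : ℂ := ((Nat.card N - 1 : ℕ) : ℂ) with hk
  have hk0 : k ≠ 0 := Nat.cast_ne_zero.mpr (by omega)
  have hzero : (χ : G → ℂ) 1 + k * (χ : G → ℂ) u = 0 := by
    have h1 := hsplit (χ : G → ℂ) (hval _ hc) hout
    have hne : (χ : G → ℂ) ≠ fun _ => 1 := by
      intro e
      have hsub : ∀ g : G, g ∈ N := fun g => (hN g).mpr (by rw [e]; exact one_ne_zero)
      have hcls : ∀ g : G, g ≠ 1 → IsConj u g := fun g hg => hconj g (hsub g) hg
      have hzc : u ∈ Subgroup.center G := by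
        haveI : Fact p.Prime := inferInstance
        have hGp : IsPGroup p G := fun g => by
          obtain ⟨j, hj⟩ := hNp ⟨g, hsub g⟩
          exact ⟨j, by simpa using congrArg Subtype.val hj⟩
        haveI : Nontrivial G := ⟨⟨u, 1, hu1⟩⟩
        haveI := hGp.center_nontrivial
        obtain ⟨z, hz, hz1⟩ := (Subgroup.bot_or_exists_ne_one (Subgroup.center G)).resolve_left
          ((Subgroup.nontrivial_iff_ne_bot _).mp inferInstance)
        obtain ⟨c, hcu⟩ := isConj_iff.mp (hcls z hz1).symm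
        rw [← hcu, Subgroup.mem_center_iff.mp hz c, mul_inv_cancel_right]
        exact hz
      have huniq : ∀ g : G, g ≠ 1 → g = u := fun g hg => by
        obtain ⟨c, hcu⟩ := isConj_iff.mp (hcls g hg)
        rw [← hcu, Subgroup.mem_center_iff.mp hzc c, mul_inv_cancel_right]
      have : Nat.card G ≤ 2 := by
        rw [Nat.card_eq_fintype_card]
        refine le_trans (Finset.card_le_card (t := ({1, u} : Finset G)) fun g _ => ?_)
          Finset.card_le_two
        by_cases hg : g = 1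
        · simp [hg]
        · simp [huniq g hg]
      omega
    have := classInner_irr_ne χ.2 isIrrCharacter_one hne
    simp only [classInner, map_one, mul_one, mul_eq_zero, inv_eq_zero] at this
    rw [h1] at this
    exact this.resolve_left (Nat.cast_ne_zero.mpr Nat.card_pos.ne')
  -- the other characters have `N` in the kernel
  have hker : ∀ ψ : IrrCharacter G, ψ ≠ χ → ∀ n ∈ N, (ψ : G → ℂ) n = (ψ : G → ℂ) 1 := by
    intro ψ hψ n hn
    rcases eq_or_ne n 1 with rfl | hn1
    · rfl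
    rw [hval _ (isCharacter_of_irr ψ.2) n hn hn1]
    have h0 := classInner_irr_ne χ.2 ψ.2 fun e => hψ (Subtype.ext e.symm)
    simp only [classInner, mul_eq_zero, inv_eq_zero] at h0
    have h0' := h0.resolve_left (Nat.cast_ne_zero.mpr Nat.card_pos.ne')
    rw [hsplit _ (fun g hg hg1 => by rw [hval _ hc g hg hg1, hval _ (isCharacter_of_irr ψ.2) g hg hg1])
      (fun g hg => by rw [hout g hg, zero_mul])] at h0'
    have hu0 : (χ : G → ℂ) u ≠ 0 := (hN u).mp huN
    have h2 : (χ : G → ℂ) u * k * (conj ((ψ : G → ℂ) u) - conj ((ψ : G → ℂ) 1)) = 0 := by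
      linear_combination h0' - (conj ((ψ : G → ℂ) 1)) * hzero
    have h3 := (mul_eq_zero.mp h2).resolve_left (mul_ne_zero hu0 hk0)
    exact (starRingEnd ℂ).injective (sub_eq_zero.mp h3)
  have trans : ∀ a ∈ N, a ≠ 1 → ∀ b ∈ N, b ≠ 1 → IsConj a b := fun a ha ha1 b hb hb1 =>
    (hconj a ha ha1).symm.trans (hconj b hb hb1)
  have cam : ∀ x : G, x ∉ N → ∀ n ∈ N, IsConj x (x * n) := by
    intro x hx n hn
    refine isConj_of_forall_irr fun ψ => ?_
    rcases eq_or_ne ψ χ with rfl | hne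
    · rw [hout x hx, hout (x * n) (fun h => hx ((N.mul_mem_cancel_right hn).mp h))]
    · have h := apply_mul_of_kernel N (isCharacter_of_irr ψ.2) (hker ψ hne) ⟨x * n * x⁻¹, ‹N.Normal›.conj_mem n hn x⟩ x
      rw [show x * n * x⁻¹ * x = x * n by group] at h
      exact h.symm
  constructor
  · intro hcore
    obtain ⟨H, hH, hc', hcard⟩ := CfsgLib.CaminaPGroup.frobenius hNp cam hN1 hcore trans (fun hp2 => by
      by_contra hodd
      obtain ⟨g, hg⟩ := isConj_iff.mp (trans u huN hu1 u⁻¹ (N.inv_mem huN) (inv_ne_one.mpr hu1))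
      have hog : Odd (orderOf g) := by
        rw [← Nat.not_even_iff_odd]
        exact fun he => hodd (he.two_dvd.trans (orderOf_dvd_natCard g))
      obtain ⟨j, hj⟩ := hog
      have h2 : g * g * u * (g * g)⁻¹ = u := by
        calc g * g * u * (g * g)⁻¹ = g * (g * u * g⁻¹) * g⁻¹ := by group
          _ = g * u⁻¹ * g⁻¹ := by rw [hg]
          _ = (g * u * g⁻¹)⁻¹ := by group
          _ = u := by rw [hg, inv_inv]
      have h3 : Commute (g * g) u := mul_inv_eq_iff_eq_mul.mp h2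
      have h4 : Commute g u := by
        have h5 : (g * g) ^ (j + 1) = g := by
          rw [← pow_two, ← pow_mul, show 2 * (j + 1) = 2 * j + 1 + 1 by omega, ← hj, pow_succ, pow_orderOf_eq_one, one_mul]
        exact h5 ▸ h3.pow_left (j + 1)
      rw [h4.eq, mul_inv_cancel_right] at hg
      have h6 : u ^ 2 = 1 := by rw [pow_two]; nth_rw 2 [hg]; exact mul_inv_cancel u
      obtain ⟨i, hi⟩ := IsPGroup.iff_orderOf.mp hNp ⟨u, huN⟩
      rw [Subgroup.orderOf_mk] at hi
      rcases (Nat.dvd_prime Nat.prime_two).mp (orderOf_dvd_of_pow_eq_one h6) with h | h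
      · exact hu1 (orderOf_eq_one_iff.mp h)
      · rw [hi] at h
        have : p ∣ 2 := by
          rcases i with _ | i
          · simp at h
          · exact h ▸ dvd_pow_self p i.succ_ne_zero
        exact hp2 ((Nat.prime_dvd_prime_iff_eq Fact.out Nat.prime_two).mp this)) hG
    exact ⟨H, hH, (CfsgLib.Frob.kernel_eq_of_complement hH hc').symm, hcard⟩
  · rintro ⟨H, hH, hker', hcard⟩
    obtain ⟨-, hc'⟩ := CfsgLib.Frob.isComplement_of_eq_kernel hH hker'.symm
    refine le_antisymm (CfsgLib.le_pCore hNp) (Subgroup.relIndex_eq_one.mp ?_)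
    obtain ⟨k, hk⟩ := IsPGroup.iff_card.mp (CfsgLib.isPGroup_pCore (G := G) p)
    have h1 : N.relIndex (Cfsg.pCore p G) ∣ Nat.card H := by
      rw [← hc'.symm.index_eq_card]; exact Subgroup.relIndex_dvd_index_of_normal N _
    have h2 : N.relIndex (Cfsg.pCore p G) ∣ p ^ k := hk ▸ Subgroup.relIndex_dvd_card N _
    refine Nat.eq_one_of_dvd_coprimes ?_ h1 h2
    obtain ⟨i, hi⟩ := IsPGroup.iff_card.mp hNp
    refine Nat.Coprime.pow_right k ((Fact.out : p.Prime).coprime_iff_not_dvd.mpr fun h => ?_).symm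
    rcases i with _ | i
    · rw [pow_zero] at hi; omega
    · have h3 : p ∣ Nat.card H + 1 := hcard ▸ hi ▸ dvd_pow_self p i.succ_ne_zero
      exact (Fact.out : p.Prime).one_lt.ne' (Nat.dvd_one.mp ((Nat.dvd_add_right h).mp h3))

end Cfsg.Agent.S4839
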