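import Cfsg.Statements.S4840
import Cfsg.Agent.Lib.TwoNonzeroClasses.Structure
import Cfsg.Agent.Lib.TwoNonzeroClasses.Linear
import Cfsg.Agent.Lib.Elementary
import Cfsg.Agent.Lib.Blocks.Central

set_option autoImplicit false
open Cfsg

namespace Cfsg.Agent.S4840

/-- A solvable group acting on a vector space, transitively on the non-zero vectors, with stabilisers
of `p`-power order. -/
theorem action_result {G : Type*} [Group G] [Finite G] [Group.IsSolvable G] (p : ℕ) [Fact p.Prime]
    {A : Type*} [AddCommGroup A] [Module (ZMod p) A] [Finite A] [Nontrivial A] (c : G → A ≃+ A)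
    (hmul : ∀ g h v, c (g * h) v = c g (c h v))
    (htr : ∀ v w : A, v ≠ 0 → w ≠ 0 → ∃ g : G, c g v = w)
    (hst : ∀ v : A, v ≠ 0 → ∀ g : G, c g v = v → ∃ j : ℕ, g ^ p ^ j = 1) :
    Cfsg.HasNormalPComplement p (G ⧸ Cfsg.pCore p G) ∧
      ∀ Q : Sylow p (G ⧸ Cfsg.pCore p G), IsMulCommutative (Q : Subgroup (G ⧸ Cfsg.pCore p G)) := by
  classical
  let ρ₀ : G →* (A ≃ₗ[ZMod p] A) :=
    MonoidHom.mk' (fun g => (c g).toLinearEquiv fun a v => ZMod.map_smul (c g).toAddMonoidHom a v)
      fun g h => LinearEquiv.ext (hmul g h)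
  set K := Cfsg.pCore p G with hK
  haveI : K.Normal := by infer_instance
  have hKle : K ≤ ρ₀.ker := by
    haveI : Finite ρ₀.range := Finite.of_surjective ρ₀.rangeRestrict ρ₀.rangeRestrict_surjective
    have hbot := CfsgLib.TransitiveLinear.pCore_eq_bot (ρ := ρ₀.range.subtype) Subtype.val_injective
      fun v w hv hw => by
        obtain ⟨g, hg⟩ := htr v w hv hw
        exact ⟨ρ₀.rangeRestrict g, hg⟩
    haveI : (K.map ρ₀.rangeRestrict).Normal := Subgroup.Normal.map inferInstance _ ρ₀.rangeRestrict_surjective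
    have hle := CfsgLib.le_pCore (N := K.map ρ₀.rangeRestrict) ((CfsgLib.isPGroup_pCore p (G := G)).map _)
    rw [hbot, le_bot_iff, Subgroup.map_eq_bot_iff, MonoidHom.ker_rangeRestrict] at hle
    exact hle
  have hkerle : ρ₀.ker ≤ K := by
    refine CfsgLib.le_pCore fun g => ?_
    obtain ⟨v, hv⟩ := exists_ne (0 : A)
    obtain ⟨j, hj⟩ := hst v hv g.1 (LinearEquiv.congr_fun (MonoidHom.mem_ker.1 g.2) v)
    exact ⟨j, Subtype.ext (by simpa using hj)⟩
  let ρ : G ⧸ K →* (A ≃ₗ[ZMod p] A) := QuotientGroup.lift K ρ₀ hKle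
  have hρ : Function.Injective ρ := by
    rw [← MonoidHom.ker_eq_bot_iff, eq_bot_iff]
    intro u hu
    obtain ⟨g, rfl⟩ := QuotientGroup.mk_surjective u
    rw [Subgroup.mem_bot, QuotientGroup.eq_one_iff]
    exact hkerle hu
  exact CfsgLib.TwoNonzeroClasses.complement_and_abelian hρ
    (fun v w hv hw => by obtain ⟨g, hg⟩ := htr v w hv hw; exact ⟨g, hg⟩)
    (fun v hv u hu => by
      obtain ⟨g, rfl⟩ := QuotientGroup.mk_surjective u
      obtain ⟨j, hj⟩ := hst v hv g hu
      exact ⟨j, by rw [← QuotientGroup.mk_pow, hj, QuotientGroup.mk_one]⟩)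

/-- Let G be a finite solvable group of order greater than 2 with an irreducible character nonzero on exactly two conjugacy classes. Then there is exactly one prime p with O_p(G) ≠ 1, and the quotient G/O_p(G) has a normal p-complement and commutative Sylow p-subgroups. -/
theorem result {G : Type*} [Group G] [Finite G] [hs : Group.IsSolvable G] (hG : 2 < Nat.card G) (χ : Cfsg.IrrCharacter G) (hχ : Nat.card {C : ConjClasses G // ∃ g ∈ C.carrier, (χ : G → ℂ) g ≠ 0} = 2) :
    ∃ p : ℕ, p.Prime ∧ (∀ q : ℕ, q.Prime → (Cfsg.pCore q G ≠ ⊥ ↔ q = p)) ∧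
      Cfsg.HasNormalPComplement p (G ⧸ Cfsg.pCore p G) ∧ ∀ Q : Sylow p (G ⧸ Cfsg.pCore p G), IsMulCommutative (Q : Subgroup (G ⧸ Cfsg.pCore p G)) := by
  classical
  haveI : Fintype G := Fintype.ofFinite G
  obtain ⟨N, x, hNn, hxN, hx1, hNcl, hNmin, hvan, hsum1, hsum2⟩ :=
    CfsgLib.TwoNonzeroClasses.data hG χ hχ
  haveI := hNn
  have hN1 : N ≠ ⊥ := fun h => hx1 (by rwa [h, Subgroup.mem_bot] at hxN)
  obtain ⟨hNc, p, hp, hexp⟩ := CfsgLib.minimal_normal_elementary hN1 inferInstance fun M hM hle => by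
    by_cases h : M = ⊥
    · exact Or.inl h
    · exact Or.inr (le_antisymm hle (hNmin M hM h))
  haveI : Fact p.Prime := ⟨hp⟩
  have hNp : IsPGroup p N := fun y => ⟨1, Subtype.ext (by simpa using hexp y y.2)⟩
  obtain ⟨n, hn⟩ := hNp.exists_card_eq
  have hxp : orderOf x = p := orderOf_eq_prime (hexp x hxN) hx1
  set C := Subgroup.centralizer ({x} : Set G) with hC
  set f : G → ℂ := (χ : G → ℂ) with hf
  have hch := CfsgLib.CharTheory.isCharacter_of_irr χ.2
  have hconj : ∀ y ∈ N, y ≠ 1 → f y = f x := fun y hy hy1 =>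
    (CfsgLib.CharTheory.isClassFunction_iff_isConj.1 (CfsgLib.CharTheory.isClassFunction_irr χ.2) x y
      ((hNcl y hy).resolve_left hy1)).symm
  -- the value at `x` is a multiple of the order of every `q`-part of the centralizer
  have hdvd : ∀ (q : ℕ), q.Prime → q ≠ p → ∀ Q : Sylow q C, ∃ k : ℤ, f x = (Nat.card Q : ℂ) * k := by
    intro q hq hqp Q
    set Qg : Subgroup G := (Q : Subgroup C).map C.subtype with hQg
    have hQc : Nat.card Qg = Nat.card Q := Subgroup.card_map_of_injective C.subtype_injective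
    have hcomm : ∀ (y : Qg) (z : Subgroup.zpowers x), Commute (y : G) (z : G) := by
      rintro ⟨y, hy⟩ ⟨z, hz⟩
      obtain ⟨m, rfl⟩ := Subgroup.mem_zpowers_iff.1 hz
      refine Commute.zpow_right ?_ m
      exact Subgroup.mem_centralizer_singleton_iff.1 ((Subgroup.map_subtype_le _) hy)
    let F : Qg × Subgroup.zpowers x →* G := Qg.subtype.noncommCoprod (Subgroup.zpowers x).subtype hcomm
    haveI : IsCyclic (Subgroup.zpowers x) := inferInstance
    have hzc : Nat.card (Subgroup.zpowers x) = p := by rw [Nat.card_zpowers, hxp]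
    haveI : NeZero (Nat.card (Subgroup.zpowers x)) := ⟨Nat.card_pos.ne'⟩
    let e : Multiplicative (ZMod (Nat.card (Subgroup.zpowers x))) ≃* Subgroup.zpowers x :=
      zmodCyclicMulEquiv inferInstance
    let ι : Subgroup.zpowers x →* ℂ :=
      (ZMod.stdAddChar (N := Nat.card (Subgroup.zpowers x))).toMonoidHom.comp e.symm.toMonoidHom
    have hι : Function.Injective ι :=
      ZMod.injective_stdAddChar.comp (Multiplicative.toAdd.injective.comp e.symm.injective)
    have hι0 : ∑ z : Subgroup.zpowers x, ι z = 0 := by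
      have hxz : ι ⟨x, Subgroup.mem_zpowers x⟩ ≠ 1 := fun h => hx1 (congrArg Subtype.val (hι (h.trans ι.map_one.symm)))
      have h := Fintype.sum_equiv (Equiv.mulLeft (⟨x, Subgroup.mem_zpowers x⟩ : Subgroup.zpowers x))
        (fun z => ι ⟨x, Subgroup.mem_zpowers x⟩ * ι z) ι fun z => (map_mul ι _ z).symm
      rw [← Finset.mul_sum] at h
      by_contra hne
      exact hxz ((mul_eq_right₀ hne).1 h)
    have hzN : ∀ z : Subgroup.zpowers x, (z : G) ∈ N := fun z => Subgroup.zpowers_le.2 hxN z.2
    have hsum : ∀ w : Subgroup.zpowers x → ℂ, ∑ a : Qg × Subgroup.zpowers x, f (F a) * w a.2 =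
        (f 1 - f x) * w 1 + f x * ∑ z, w z := by
      intro w
      rw [Fintype.sum_prod_type, Finset.sum_eq_single (1 : Qg), ← Finset.add_sum_erase _ _ (Finset.mem_univ (1 : Subgroup.zpowers x)),
        ← Finset.add_sum_erase _ w (Finset.mem_univ (1 : Subgroup.zpowers x))]
      · have e1 : F (1, 1) = 1 := map_one F
        rw [e1, Finset.sum_congr rfl fun z hz => show f (F (1, z)) * w z = f x * w z by
          have : F (1, z) = (z : G) := by
            show ((1 : Qg) : G) * (z : G) = z
            rw [Subgroup.coe_one, one_mul]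
          rw [this, hconj _ (hzN z) (fun h => (Finset.mem_erase.1 hz).1 (Subtype.ext h))], ← Finset.mul_sum]
        ring
      · intro y _ hy
        refine Finset.sum_eq_zero fun z _ => ?_
        rw [show f (F (y, z)) = 0 from hvan _ (fun h => ?_), zero_mul]
        have hyN : (y : G) ∈ N := by
          have h' : (y : G) * (z : G) ∈ N := h
          simpa using mul_mem h' (inv_mem (hzN z))
        obtain ⟨y', hy', e'⟩ := y.2
        obtain ⟨j, hj⟩ := Q.isPGroup' ⟨y', hy'⟩
        refine hy (Subtype.ext (orderOf_eq_one_iff.1 (Nat.eq_one_of_dvd_coprimes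
          (((Nat.coprime_primes hq hp).2 hqp).pow j 1) (orderOf_dvd_of_pow_eq_one ?_)
          (orderOf_dvd_of_pow_eq_one (by rw [pow_one]; exact hexp _ hyN)))))
        rw [← e']
        have hj' := congrArg Subtype.val hj
        simp only [SubmonoidClass.coe_pow, OneMemClass.coe_one] at hj'
        rw [← map_pow, hj', map_one]
      · intro h; exact absurd (Finset.mem_univ _) h
    have hnat : ∀ μ : Qg × Subgroup.zpowers x →* ℂˣ, ∃ m : ℕ,
        ∑ a, f (F a) * (starRingEnd ℂ) (μ a : ℂ) = (Nat.card Qg : ℂ) * p * m := by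
      intro μ
      obtain ⟨m, hm⟩ := CfsgLib.CharTheory.classInner_char_nat (CfsgLib.CharTheory.isCharacter_comp hch F)
        (CfsgLib.CharTheory.isCharacter_of_irr (CfsgLib.CharTheory.isIrrCharacter_linear μ))
      refine ⟨m, ?_⟩
      rw [Cfsg.classInner, inv_mul_eq_iff_eq_mul₀ (Nat.cast_ne_zero.2 Nat.card_pos.ne'), Nat.card_prod, hzc,
        Nat.cast_mul] at hm
      exact hm
    obtain ⟨m₀, hm₀⟩ := hnat 1
    obtain ⟨m₁, hm₁⟩ := hnat (ι.toHomUnits.comp (MonoidHom.snd _ _))
    have h0 := hsum (fun _ => (starRingEnd ℂ) 1)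
    have h1 := hsum (fun z => (starRingEnd ℂ) (ι z))
    simp only [MonoidHom.one_apply, Units.val_one] at hm₀
    simp only [MonoidHom.comp_apply, MonoidHom.coe_snd, MonoidHom.coe_toHomUnits] at hm₁
    rw [hm₀] at h0
    rw [hm₁, map_one, map_one, ← map_sum, hι0, map_zero] at h1
    simp only [map_one, Finset.sum_const, Finset.card_univ, nsmul_eq_mul, mul_one, ← Nat.card_eq_fintype_card, hzc] at h0
    refine ⟨(m₀ : ℤ) - m₁, mul_left_cancel₀ (Nat.cast_ne_zero.2 hp.ne_zero : (p : ℂ) ≠ 0) ?_⟩
    rw [← hQc]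
    push_cast
    linear_combination h1 - h0
  have hd : f 1 ≠ 0 := CfsgLib.Blocks.irr_one_ne_zero χ
  have hxne : f x ≠ 0 := fun h => by
    rw [h, mul_zero, add_zero] at hsum1
    exact hd hsum1
  -- the centralizer is a `p`-group
  have hcl : (Nat.card N - 1) * Nat.card C = Nat.card G := by
    have hc2 : Nat.card N - 1 = Nat.card {y : G // IsConj x y} := by
      rw [Nat.card_eq_fintype_card (α := N), Nat.card_eq_fintype_card, Fintype.card_subtype, Fintype.card_subtype,
        ← Finset.card_erase_of_mem (Finset.mem_filter.2 ⟨Finset.mem_univ (1 : G), one_mem N⟩)]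
      refine congrArg Finset.card (Finset.ext fun y => ?_)
      simp only [Finset.mem_erase, Finset.mem_filter, Finset.mem_univ, true_and]
      refine ⟨fun h => (hNcl y h.2).resolve_left h.1, fun h => ?_⟩
      obtain ⟨k, rfl⟩ := isConj_iff.1 h
      refine ⟨fun e => hx1 ?_, hNn.conj_mem x hxN k⟩
      rwa [mul_inv_eq_one, mul_eq_left] at e
    rw [hc2]
    exact CfsgLib.CharTheory.card_isConj_mul_card_centralizer x
  have hCp : IsPGroup p C := by
    refine IsPGroup.iff_card.2 ⟨(Nat.card C).primeFactorsList.length,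
      Nat.eq_prime_pow_of_unique_prime_dvd Nat.card_pos.ne' fun {q} hq hqd => ?_⟩
    by_contra hqp
    haveI : Fact q.Prime := ⟨hq⟩
    obtain ⟨Q⟩ := (inferInstance : Nonempty (Sylow q C))
    obtain ⟨k, hk⟩ := hdvd q hq hqp Q
    have hc : ((Nat.card N - 1 : ℕ) : ℂ) * (Nat.card C : ℂ) = (Nat.card G : ℂ) := by
      rw [← Nat.cast_mul, hcl]
    have hN2 : 1 < Nat.card N := (N.one_lt_card_iff_ne_bot).2 hN1
    have hc0 : ((Nat.card N - 1 : ℕ) : ℂ) ≠ 0 := Nat.cast_ne_zero.2 (by omega)
    have hNC : ((Nat.card N - 1 : ℕ) : ℂ) + 1 = (Nat.card N : ℂ) := by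
      rw [← Nat.cast_add_one, Nat.sub_add_cancel hN2.le]
    have hCe : (Nat.card C : ℂ) = (Nat.card N : ℂ) * ((Nat.card Q : ℂ) * k) ^ 2 := by
      rw [← hk]
      refine mul_left_cancel₀ hc0 ?_
      rw [hc, ← hsum2]
      show f 1 ^ 2 + _ * f x ^ 2 = _
      rw [← hNC, eq_neg_of_add_eq_zero_left (show f 1 + _ * f x = 0 from hsum1)]
      ring
    have hCn : Nat.card C = Nat.card N * (Nat.card Q * k.natAbs) ^ 2 := by
      have h' : ((Nat.card C : ℤ) : ℂ) = (((Nat.card N : ℤ) * ((Nat.card Q : ℤ) * k) ^ 2 : ℤ) : ℂ) := by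
        push_cast; exact hCe
      have h'' := congrArg Int.natAbs (Int.cast_injective h')
      simpa [Int.natAbs_mul, Int.natAbs_pow] using h''
    have hk0 : k.natAbs ≠ 0 := fun h0 => by
      rw [h0, mul_zero, zero_pow two_ne_zero, mul_zero] at hCn
      exact Nat.card_pos.ne' hCn
    have hv := congrArg (fun n => n.factorization q) hCn
    simp only [Nat.factorization_mul Nat.card_pos.ne' (pow_ne_zero 2 (Nat.mul_ne_zero Nat.card_pos.ne' hk0)),
      Nat.factorization_pow, Nat.factorization_mul (Nat.card_pos (α := Q)).ne' hk0, Finsupp.add_apply,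
      Finsupp.smul_apply, smul_eq_mul] at hv
    rw [Q.card_eq_multiplicity, Nat.factorization_pow, Finsupp.smul_apply, Nat.Prime.factorization_self hq,
      smul_eq_mul, mul_one] at hv
    have hpos := hq.factorization_pos_of_dvd Nat.card_pos.ne' hqd
    omega
  -- the conjugation action on `N`
  letI : CommGroup N := { (inferInstance : Group N) with mul_comm := hNc.is_comm.comm }
  letI : Module (ZMod p) (Additive N) := AddCommGroup.zmodModule fun a => by
    refine Additive.toMul.injective (Subtype.ext ?_)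
    simpa using hexp _ (Additive.toMul a).2
  haveI : Nontrivial N := (N.nontrivial_iff_ne_bot).2 hN1
  haveI : Nontrivial (Additive N) := inferInstance
  have hres := action_result (A := Additive N) p
    (fun g => (MulEquiv.toAdditive (MulAut.conjNormal g : MulAut N) : Additive N ≃+ Additive N))
    (fun g h v => congrArg Additive.ofMul (show (MulAut.conjNormal (g * h) : MulAut N) (Additive.toMul v) = _ by
      rw [map_mul]; rfl))
    (fun v w hv hw => by
      have h : ∀ u : Additive N, u ≠ 0 → IsConj x ((Additive.toMul u : N) : G) := fun u hu =>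
        (hNcl _ (Additive.toMul u).2).resolve_left fun h => hu (Additive.toMul.injective (Subtype.ext h))
      obtain ⟨g, hg⟩ := isConj_iff.1 ((h v hv).symm.trans (h w hw))
      exact ⟨g, Additive.toMul.injective (Subtype.ext ((MulAut.conjNormal_apply (H := N) g _).trans hg))⟩)
    (fun v hv g hg => by
      obtain ⟨k, hk⟩ := isConj_iff.1 ((hNcl _ (Additive.toMul v).2).resolve_left fun h =>
        hv (Additive.toMul.injective (Subtype.ext h)))
      have h1 : ((Additive.toMul v : N) : G) = g * (Additive.toMul v : N) * g⁻¹ :=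
        (congrArg (fun u : Additive N => ((Additive.toMul u : N) : G)) hg).symm.trans
          (MulAut.conjNormal_apply (H := N) g _)
      rw [← hk] at h1
      have hmem : k⁻¹ * g * k ∈ C := Subgroup.mem_centralizer_singleton_iff.2 (by
        have := congrArg (fun t => k⁻¹ * t * g * k) h1
        simpa [mul_assoc] using this.symm)
      obtain ⟨j, hj⟩ := hCp ⟨_, hmem⟩
      refine ⟨j, ?_⟩
      have hj' : (k⁻¹ * g * k⁻¹⁻¹) ^ p ^ j = 1 := by rw [inv_inv]; simpa using congrArg Subtype.val hj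
      rw [conj_pow, mul_inv_eq_one, mul_eq_left] at hj'
      exact hj')
  refine ⟨p, hp, fun q hq => ⟨fun hne => ?_, ?_⟩, hres⟩
  · by_contra hqp
    haveI : Fact q.Prime := ⟨hq⟩
    have hmem : x ∈ Cfsg.pCore q G := hNmin _ inferInstance hne hxN
    obtain ⟨j, hj⟩ := (CfsgLib.isPGroup_pCore q (G := G)) ⟨x, hmem⟩
    have hdq : p ∣ q ^ j := hxp ▸ orderOf_dvd_of_pow_eq_one (by simpa using congrArg Subtype.val hj)
    exact hqp ((Nat.prime_dvd_prime_iff_eq hp hq).1 (hp.dvd_of_dvd_pow hdq)).symm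
  · rintro rfl hbot
    have := CfsgLib.le_pCore hNp hxN
    rw [hbot, Subgroup.mem_bot] at this
    exact hx1 this

end Cfsg.Agent.S4840
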