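import Cfsg.Statements.S4843
import Cfsg.Agent.Lib.Basic
import Cfsg.Agent.Lib.CharTheory.Schur
import Cfsg.Agent.Lib.CharTheory.PowerMap
import Cfsg.Agent.Lib.CharTheory.Linear

set_option autoImplicit false
open Cfsg

namespace Cfsg.Agent.S4843

/-- Let G be a finite group with a faithful irreducible character χ (taking the value χ(1) only at the identity) and let k be prime to the order of G, so that g ↦ χ(g^k) is a Galois conjugate of χ. If the pointwise product g ↦ χ(g)·χ(g^k) is again an irreducible character, then the Fitting subgroup of G equals its centre. -/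
theorem result {G : Type*} [Group G] [Finite G] (χ : Cfsg.IrrCharacter G) (hfaith : ∀ g : G, (χ : G → ℂ) g = (χ : G → ℂ) 1 → g = 1) (k : ℕ) (hk : Nat.Coprime k (Nat.card G)) (hirr : Cfsg.IsIrrCharacter G (fun g => (χ : G → ℂ) g * (χ : G → ℂ) (g ^ k))) : Cfsg.fittingSubgroup G = Subgroup.center G := by
  classical
  haveI : Fintype G := Fintype.ofFinite G
  obtain ⟨χ, n, ρ, hρirr, rfl⟩ := χ
  haveI := hρirr
  simp only at hfaith hirr
  obtain ⟨m, ρ2, hρ2irr, hρ2⟩ := CfsgLib.CharTheory.isIrrCharacter_pow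
    (⟨n, ρ, hρirr, rfl⟩ : Cfsg.IsIrrCharacter G ρ.character) hk
  refine le_antisymm ?_ (CfsgLib.le_fittingSubgroup (by
    letI : CommGroup (Subgroup.center G) :=
      { (inferInstance : Group (Subgroup.center G)) with
        mul_comm := fun a b => Subtype.ext (Subgroup.mem_center_iff.mp b.2 a) }
    exact CommGroup.isNilpotent))
  -- the exponent `j` with `k * j ≡ -1`
  obtain ⟨j, hjpow⟩ : ∃ j : ℕ, ∀ x : G, (x ^ j) ^ k = x⁻¹ := by
    refine ⟨k ^ ((Nat.card G).totient - 1) * (Nat.card G - 1), fun x => ?_⟩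
    have h1 : x ^ k ^ (Nat.card G).totient = x := by
      rw [pow_eq_pow_mod _ (pow_card_eq_one' (x := x)), Nat.ModEq.pow_totient hk,
        ← pow_eq_pow_mod 1 (pow_card_eq_one' (x := x)), pow_one]
    rw [← pow_mul, mul_right_comm, ← pow_succ, Nat.sub_add_cancel (Nat.totient_pos.mpr Nat.card_pos), pow_mul, h1,
      CfsgLib.CharTheory.pow_card_sub_one]
  have hn : (ρ.character 1 : ℂ) ≠ 0 := by
    obtain ⟨d, hd, e⟩ := CfsgLib.CharTheory.irr_degree_pos
      (⟨n, ρ, hρirr, rfl⟩ : Cfsg.IsIrrCharacter G ρ.character)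
    rw [e]; exact Nat.cast_ne_zero.mpr (by omega)
  have hρinj : ∀ g, ρ g = 1 → g = 1 := fun g hg => hfaith g (by
    simp only [Representation.character, hg, map_one])
  let P : Representation ℂ (G × G) (TensorProduct ℂ (Fin n → ℂ) (Fin m → ℂ)) :=
    Representation.tprod (ρ.comp (MonoidHom.fst G G) : Representation ℂ (G × G) (Fin n → ℂ))
      (ρ2.comp (MonoidHom.snd G G) : Representation ℂ (G × G) (Fin m → ℂ))
  let D : Representation ℂ G (TensorProduct ℂ (Fin n → ℂ) (Fin m → ℂ)) := ρ.tprod ρ2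
  have hD : D.IsIrreducible := by
    have hc : D.character = fun g => ρ.character g * ρ.character (g ^ k) := by
      rw [show D.character = (ρ.tprod ρ2).character from rfl, Representation.char_tensor, hρ2]
      rfl
    obtain ⟨d, τ, hτ, hτc⟩ := hirr
    obtain ⟨e⟩ := CfsgLib.CharTheory.nonempty_equiv_of_character_eq τ D (hτc.trans hc.symm)
    haveI := hτ
    exact CfsgLib.CharTheory.isIrreducible_of_equiv e
  haveI := hD
  have hPchar : ∀ g h : G, LinearMap.trace ℂ _ (P (g, h)) = ρ.character g * ρ.character (h ^ k) := by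
    intro g h
    show LinearMap.trace ℂ _ (TensorProduct.map (ρ g) (ρ2 h)) = _
    rw [LinearMap.trace_tensorProduct', show ρ.character (h ^ k) = ρ2.character h from (congrFun hρ2 h).symm]
    rfl
  -- the invariant sum of a normal subgroup
  have hsum : ∀ A : Subgroup G, A.Normal → ∃ c : ℂ, c ≠ 0 ∧
      (∑ a : A, P ((a : G), (a : G) ^ j)) = c • 1 := by
    intro A hA
    refine ⟨_, ?_, CfsgLib.CharTheory.eq_smul_id_of_commute D _ fun g => ?_⟩
    · rw [map_sum]
      refine div_ne_zero ?_ (Nat.cast_ne_zero.mpr ?_)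
      · have e : ∀ a : A, LinearMap.trace ℂ _ (P ((a : G), (a : G) ^ j)) =
            ((Complex.normSq (ρ.character a) : ℝ) : ℂ) := fun a => by
          rw [hPchar, hjpow, CfsgLib.CharTheory.char_apply_inv ⟨n, ρ, rfl⟩, Complex.mul_conj]
        rw [Finset.sum_congr rfl fun a _ => e a, ← Complex.ofReal_sum, Ne, Complex.ofReal_eq_zero]
        refine (Finset.sum_pos' (fun a _ => Complex.normSq_nonneg _) ⟨1, Finset.mem_univ _, ?_⟩).ne'
        rw [Complex.normSq_pos, Subgroup.coe_one]
        exact hn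
      · intro h0
        have h1 := hPchar 1 1
        rw [show P ((1 : G), (1 : G)) = 1 from map_one P, LinearMap.trace_one, h0, Nat.cast_zero, one_pow] at h1
        exact mul_ne_zero hn hn h1.symm
    · rw [Finset.sum_mul, Finset.mul_sum]
      refine Fintype.sum_equiv ((MulAut.conjNormal (H := A) g⁻¹).toEquiv) _ _ fun a => ?_
      rw [show D g = P (g, g) from rfl, ← map_mul, ← map_mul]
      congr 1
      simp only [MulEquiv.toEquiv_eq_coe, EquivLike.coe_coe, MulAut.conjNormal_apply, inv_inv, Prod.mk_mul_mk]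
      ext
      · simp [mul_assoc]
      · have : (g⁻¹ * ((a : G) * g)) ^ j = g⁻¹ * ((a : G) ^ j * g) := by
          simpa [mul_assoc] using conj_pow (i := j) (a := g⁻¹) (b := (a : G))
        simp [this, mul_assoc]
  -- abelian normal subgroups are central
  have hab : ∀ A : Subgroup G, A.Normal → (∀ a ∈ A, ∀ b ∈ A, a * b = b * a) → A ≤ Subgroup.center G := by
    intro A hA hcomm b hb
    obtain ⟨c, hc, hT⟩ := hsum A hA
    have h1 : P (b, b ^ j) * ∑ a : A, P ((a : G), (a : G) ^ j) = ∑ a : A, P ((a : G), (a : G) ^ j) := by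
      rw [Finset.mul_sum]
      refine Fintype.sum_equiv (Equiv.mulLeft (⟨b, hb⟩ : A)) _ _ fun a => ?_
      rw [← map_mul, Prod.mk_mul_mk, Equiv.coe_mulLeft, Subgroup.coe_mul,
        (show Commute b (a : G) from hcomm b hb a a.2).mul_pow]
    rw [hT, Algebra.mul_smul_comm, mul_one] at h1
    have h2 : P (b, b ^ j) = 1 := smul_right_injective _ hc h1
    refine Subgroup.mem_center_iff.mpr fun x => ?_
    have h3 : P (x * b * x⁻¹ * b⁻¹, 1) = 1 := by
      rw [show ((x * b * x⁻¹ * b⁻¹, 1) : G × G) = (x, 1) * (b, b ^ j) * (x, 1)⁻¹ * (b, b ^ j)⁻¹ by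
        simp [Prod.ext_iff], map_mul, map_mul, map_mul, h2, mul_one, ← map_mul, mul_inv_cancel, map_one, one_mul]
      have h4 := map_mul P (b, b ^ j) (b, b ^ j)⁻¹
      rw [h2, one_mul, mul_inv_cancel, map_one] at h4
      exact h4.symm
    have h5 := hPchar (x * b * x⁻¹ * b⁻¹) 1
    rw [h3, ← map_one P, show (1 : G × G) = (1, 1) from rfl, hPchar, one_pow] at h5
    have h6 := hfaith _ (mul_right_cancel₀ hn h5).symm
    rwa [mul_inv_eq_one, mul_inv_eq_iff_eq_mul] at h6
  -- vanishing
  have hvan : ∀ x y : G, x * y * x⁻¹ * y⁻¹ ∈ Subgroup.center G → x * y * x⁻¹ * y⁻¹ ≠ 1 → ρ.character y = 0 := by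
    intro x y hz hz1
    set z := x * y * x⁻¹ * y⁻¹
    have hzs := CfsgLib.CharTheory.eq_smul_id_of_commute ρ (ρ z) fun g => by
      rw [← map_mul, ← map_mul, Subgroup.mem_center_iff.mp hz g]
    set w := LinearMap.trace ℂ _ (ρ z) / (Module.finrank ℂ (Fin n → ℂ) : ℂ)
    have h1 : ρ.character y = w * ρ.character y := by
      conv_lhs => rw [← Representation.char_conj ρ y x, show x * y * x⁻¹ = z * y by simp [z]]
      simp only [Representation.character, map_mul, hzs, smul_mul_assoc, one_mul, map_smul, smul_eq_mul]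
    by_contra hy
    have hw : w = 1 := (mul_right_cancel₀ hy (by rw [one_mul]; exact h1)).symm
    exact hz1 (hρinj z (by rw [hzs, hw, one_smul]))
  set F := Cfsg.fittingSubgroup G
  haveI hFn : Group.IsNilpotent F := CfsgLib.isNilpotent_fittingSubgroup
  -- the centre and the second centre of `F`
  let Z1 : Subgroup G := (Subgroup.center F).map F.subtype
  have hZ1 : Z1 ≤ Subgroup.center G := by
    refine hab Z1 inferInstance ?_
    rintro _ ⟨a, ha, rfl⟩ _ ⟨b, -, rfl⟩
    exact (congrArg Subtype.val (Subgroup.mem_center_iff.mp ha b)).symm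
  let A : Subgroup G := (Subgroup.upperCentralSeries F 2).map F.subtype
  have hAF : A ≤ F := Subgroup.map_subtype_le _
  have hAcomm : ∀ a ∈ A, ∀ f ∈ F, a * f * a⁻¹ * f⁻¹ ∈ Subgroup.center G := by
    rintro _ ⟨a, ha, rfl⟩ f hf
    refine hZ1 ⟨a * ⟨f, hf⟩ * a⁻¹ * ⟨f, hf⟩⁻¹, ?_, rfl⟩
    have := (Subgroup.mem_upperCentralSeries_succ_iff).mp ha ⟨f, hf⟩
    rwa [Subgroup.upperCentralSeries_one] at this
  have hAc : A ≤ Subgroup.center G := by
    by_contra hnle
    obtain ⟨a0, ha0, ha0c⟩ := SetLike.not_le_iff_exists.mp hnle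
    have hZA : ∀ a ∈ A, (∀ b ∈ A, a * b = b * a) → a ∈ Subgroup.center G := by
      intro a ha hcom
      refine hab ((Subgroup.center A).map A.subtype) inferInstance ?_ ⟨⟨a, ha⟩, ?_, rfl⟩
      · rintro _ ⟨u, hu, rfl⟩ _ ⟨v, -, rfl⟩
        exact (congrArg Subtype.val (Subgroup.mem_center_iff.mp hu v)).symm
      · exact Subgroup.mem_center_iff.mpr fun b => Subtype.ext (hcom b b.2).symm
    have hvanA : ∀ a ∈ A, a ∉ Subgroup.center G → ρ.character a = 0 := by
      intro a ha hac
      obtain ⟨b, hb, hne⟩ : ∃ b ∈ A, a * b ≠ b * a := by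
        by_contra hno
        exact hac (hZA a ha (by simpa using hno))
      refine hvan b a (hAcomm b hb a (hAF ha)) fun h => hne ?_
      rw [mul_inv_eq_one, mul_inv_eq_iff_eq_mul] at h
      exact h.symm
    obtain ⟨c, hc, hT⟩ := hsum A inferInstance
    have e0 := congrArg (LinearMap.trace ℂ _) (congrArg (fun T => T * P (a0⁻¹, (a0 ^ j)⁻¹)) hT)
    simp only [Finset.sum_mul, map_sum, smul_mul_assoc, one_mul, map_smul, hPchar] at e0
    rw [hvanA a0⁻¹ (inv_mem ha0) (fun h => ha0c (by simpa using inv_mem h)), zero_mul, smul_zero] at e0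
    have e2 : ∀ a : A, LinearMap.trace ℂ _ (P ((a : G), (a : G) ^ j) * P (a0⁻¹, (a0 ^ j)⁻¹)) =
        ((Complex.normSq (ρ.character ((a : G) * a0⁻¹)) : ℝ) : ℂ) := by
      intro a
      rw [← map_mul, Prod.mk_mul_mk, hPchar]
      by_cases hz : (a : G) * a0⁻¹ ∈ Subgroup.center G
      · rw [← inv_pow, ← (show Commute (a : G) a0⁻¹ from ?_).mul_pow, hjpow,
          CfsgLib.CharTheory.char_apply_inv ⟨n, ρ, rfl⟩, Complex.mul_conj]
        have h9 : Commute ((a : G) * a0⁻¹) a0⁻¹ := (Subgroup.mem_center_iff.mp hz a0⁻¹).symm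
        have h10 := h9.mul_left (Commute.refl a0).inv_right
        rwa [inv_mul_cancel_right] at h10
      · rw [hvanA _ (mul_mem a.2 (inv_mem ha0)) hz, zero_mul, map_zero, Complex.ofReal_zero]
    rw [Finset.sum_congr rfl fun a _ => e2 a, ← Complex.ofReal_sum, Complex.ofReal_eq_zero] at e0
    refine (Finset.sum_pos' (fun a _ => Complex.normSq_nonneg _)
      ⟨⟨a0, ha0⟩, Finset.mem_univ _, ?_⟩).ne' e0
    show 0 < Complex.normSq (ρ.character (a0 * a0⁻¹))
    rw [mul_inv_cancel, Complex.normSq_pos]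
    exact hn
  have hstable : Subgroup.upperCentralSeries F 2 ≤ Subgroup.center F := fun a ha =>
    Subgroup.mem_center_iff.mpr fun b => Subtype.ext
      (Subgroup.mem_center_iff.mp (hAc ⟨a, ha, rfl⟩) b)
  have hall : ∀ i, Subgroup.upperCentralSeries F i ≤ Subgroup.center F := by
    intro i
    induction i with
    | zero => simp
    | succ i ih =>
      intro a ha
      refine hstable ((Subgroup.mem_upperCentralSeries_succ_iff).mpr fun b => ?_)
      rw [Subgroup.upperCentralSeries_one]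
      exact ih ((Subgroup.mem_upperCentralSeries_succ_iff).mp ha b)
  intro f hf
  obtain ⟨i, hi⟩ := hFn.nilpotent F
  exact hZ1 ⟨⟨f, hf⟩, hall i (hi ▸ Subgroup.mem_top _), rfl⟩

end Cfsg.Agent.S4843
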