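import Cfsg.Statements.S4847
import Cfsg.Agent.Lib.Palfy.Main

set_option autoImplicit false
open Cfsg

namespace Cfsg.Agent.S4847

/-- Let G be a finite solvable group and p, q, r three distinct primes each dividing the degree of some irreducible character of G. Then for some two of them the product divides the degree of some irreducible character of G (the character degree graph of a solvable group has no three pairwise non-adjacent vertices). -/
theorem result {G : Type*} [Group G] [Finite G] [hs : Group.IsSolvable G] (p q r : ℕ) (hp : p.Prime) (hq : q.Prime) (hr : r.Prime) (hpq : p ≠ q) (hqr : q ≠ r) (hpr : p ≠ r)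
    (hpd : ∃ χ : Cfsg.IrrCharacter G, p ∣ Cfsg.charDegree (χ : G → ℂ)) (hqd : ∃ χ : Cfsg.IrrCharacter G, q ∣ Cfsg.charDegree (χ : G → ℂ)) (hrd : ∃ χ : Cfsg.IrrCharacter G, r ∣ Cfsg.charDegree (χ : G → ℂ)) :
    (∃ χ : Cfsg.IrrCharacter G, p * q ∣ Cfsg.charDegree (χ : G → ℂ)) ∨ (∃ χ : Cfsg.IrrCharacter G, q * r ∣ Cfsg.charDegree (χ : G → ℂ)) ∨ (∃ χ : Cfsg.IrrCharacter G, p * r ∣ Cfsg.charDegree (χ : G → ℂ)) := by
  obtain ⟨χp, hχp⟩ := hpd
  obtain ⟨χq, hχq⟩ := hqd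
  obtain ⟨χr, hχr⟩ := hrd
  have hS : ({p, q, r} : Finset ℕ).card = 3 := Finset.card_eq_three.2 ⟨p, q, r, hpq, hpr, hqr, rfl⟩
  obtain ⟨x, hx, z, hz, hne, χ, hχ, hd⟩ := CfsgLib.Palfy.three_primes (G := G) {p, q, r} (by
      intro x hx
      simp only [Finset.mem_insert, Finset.mem_singleton] at hx
      rcases hx with rfl | rfl | rfl
      exacts [hp, hq, hr]) hS (by
      intro x hx
      simp only [Finset.mem_insert, Finset.mem_singleton] at hx
      rcases hx with rfl | rfl | rfl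
      exacts [⟨χp, χp.2, hχp⟩, ⟨χq, χq.2, hχq⟩, ⟨χr, χr.2, hχr⟩])
  simp only [Finset.mem_insert, Finset.mem_singleton] at hx hz
  rcases hx with rfl | rfl | rfl <;> rcases hz with rfl | rfl | rfl
  exacts [absurd rfl hne, .inl ⟨⟨χ, hχ⟩, hd⟩, .inr (.inr ⟨⟨χ, hχ⟩, hd⟩),
    .inl ⟨⟨χ, hχ⟩, by rwa [mul_comm]⟩, absurd rfl hne, .inr (.inl ⟨⟨χ, hχ⟩, hd⟩),
    .inr (.inr ⟨⟨χ, hχ⟩, by rwa [mul_comm]⟩), .inr (.inl ⟨⟨χ, hχ⟩, by rwa [mul_comm]⟩), absurd rfl hne]

end Cfsg.Agent.S4847
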