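-- S4850: solvable groups with a single order of p-singular vanishing elements.
import Cfsg.Statements.S4850
import Cfsg.Agent.Lib.OneVanishing.Order
import Cfsg.Agent.Lib.Subnormal

set_option autoImplicit false
open Cfsg

namespace Cfsg.Agent.S4850

open Cfsg.Agent.OneVanishing

universe u

theorem main {G : Type u} [Group G] [Finite G] (hs : Group.IsSolvable G) {p : ℕ} [Fact p.Prime]
    (hv : OneOrd p G) (P : Sylow p G) :
    ((commutator ↥(P : Subgroup G)).map (P : Subgroup G).subtype).IsSubnormal ∧
      IsCyclic ↥((P : Subgroup G).map (QuotientGroup.mk' (Cfsg.pCore p G))) := by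
  have hp : p.Prime := Fact.out
  set O := Cfsg.pCore p G with hO
  set Q := (P : Subgroup G).map (QuotientGroup.mk' O) with hQ
  obtain ⟨k, hk⟩ := IsPGroup.iff_card.1 (P.isPGroup'.map (QuotientGroup.mk' O))
  have h1 := (one_ord _ (G ⧸ O) (Group.isSolvable_of_surjective (QuotientGroup.mk'_surjective O)) rfl
    CfsgLib.ZJ.pCore_quotient_pCore_eq_bot (hv.quotient O)).1 k (hk ▸ Subgroup.card_subgroup_dvd_card Q)
  have hcyc : IsCyclic Q := by
    rw [← hk] at h1
    rcases (Nat.dvd_prime hp).1 h1 with h | h
    · haveI : Subsingleton Q := (Nat.card_eq_one_iff_unique.1 h).1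
      exact isCyclic_of_subsingleton
    · exact isCyclic_of_prime_card h
  refine ⟨?_, hcyc⟩
  have hle : (commutator ↥(P : Subgroup G)).map (P : Subgroup G).subtype ≤ O := by
    let f : (P : Subgroup G) →* Q :=
      ((QuotientGroup.mk' O).comp (P : Subgroup G).subtype).codRestrict Q fun x => ⟨x, x.2, rfl⟩
    letI : CommGroup Q := IsCyclic.commGroup
    rintro _ ⟨x, hx, rfl⟩
    have h2 : f x = 1 := Abelianization.commutator_subset_ker f hx
    exact (QuotientGroup.eq_one_iff _).1 (congrArg Subtype.val h2)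
  haveI : Group.IsNilpotent O := (CfsgLib.isPGroup_pCore p).isNilpotent
  exact Subgroup.IsSubnormal.trans hle (CfsgLib.isSubnormal_of_nilpotent _)
    (show O.Normal from inferInstance).isSubnormal

/-- Let p be a prime and G a finite solvable group whose vanishing elements (elements at which some irreducible character is zero) of order divisible by p all have the same order, with at least one such element. Let P be a Sylow p-subgroup of G. Then the derived subgroup of P is subnormal in G and the image of P in G/O_p(G) is cyclic. -/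
theorem result {G : Type*} [Group G] [Finite G] [hs : Group.IsSolvable G] (p : ℕ) [Fact p.Prime] (b : ℕ) (hvo : {n : ℕ | p ∣ n ∧ ∃ (g : G) (χ : Cfsg.IrrCharacter G), orderOf g = n ∧ (χ : G → ℂ) g = 0} = {b}) (P : Sylow p G) :
    ((commutator ↥(P : Subgroup G)).map (P : Subgroup G).subtype).IsSubnormal ∧ IsCyclic ↥((P : Subgroup G).map (QuotientGroup.mk' (Cfsg.pCore p G))) := by
  have key : ∀ x : G, p ∣ orderOf x → Van x → orderOf x = b := by
    intro x hx ⟨χ, hχ, h0⟩
    exact Set.eq_of_mem_singleton (hvo ▸ ⟨hx, x, ⟨χ, hχ⟩, rfl, h0⟩)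
  refine main hs ⟨fun x y hx hy vx vy i hi => ⟨i, by rw [key y hy vy, ← key x hx vx, hi]⟩,
    fun x i hi vx hxp vxp => ?_⟩ P
  have hp : p.Prime := Fact.out
  have hx1 : (x ^ p) ^ p ^ i = 1 := by rw [← pow_mul, mul_comm, pow_mul, ← hi, pow_orderOf_eq_one, one_pow]
  have h1 := key (x ^ p) (dvd_of_pow_order hx1 hxp) vxp
  have hi0 : p ∣ orderOf x := dvd_of_pow_order (n := i) (by rw [← hi, pow_orderOf_eq_one])
    fun h => hxp (by rw [h, one_pow])
  rw [← key x hi0 vx, orderOf_pow' x hp.ne_zero, Nat.gcd_eq_right hi0] at h1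
  exact absurd h1 (Nat.div_lt_self (orderOf_pos x) hp.one_lt).ne

end Cfsg.Agent.S4850
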