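import Cfsg.Statements.S4856
import Cfsg.Agent.Lib.CharTheory.More

set_option autoImplicit false
open Cfsg

namespace Cfsg.Agent.S4856

/-- For an element z of a finite group G, the number of pairs (x, y) of elements with x y x⁻¹ y⁻¹ = z equals the order of G times the sum over the irreducible characters χ of χ(z)/χ(1). -/
theorem result {G : Type*} [Group G] [Finite G] (z : G) : (Nat.card {xy : G × G // xy.1 * xy.2 * xy.1⁻¹ * xy.2⁻¹ = z} : ℂ) = (Nat.card G : ℂ) * ∑ᶠ χ : Cfsg.IrrCharacter G, (χ : G → ℂ) z / (χ : G → ℂ) 1 := by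
  classical
  have := Fintype.ofFinite G
  rw [finsum_eq_sum_of_fintype]
  have h := CfsgLib.CharTheory.card_commutator_pairs (G := G) z⁻¹
  have e : Nat.card {xy : G × G // xy.1 * xy.2 * xy.1⁻¹ * xy.2⁻¹ = z} =
      Nat.card {p : G × G // p.1 * p.2 * p.1⁻¹ * p.2⁻¹ = z⁻¹} :=
    Nat.card_congr ((Equiv.prodComm G G).subtypeEquiv fun p => by
      show p.1 * p.2 * p.1⁻¹ * p.2⁻¹ = z ↔ p.2 * p.1 * p.2⁻¹ * p.1⁻¹ = z⁻¹
      rw [← inv_inj]
      simp [mul_assoc])
  rw [e, h]
  congr 1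
  refine Finset.sum_congr rfl fun χ _ => ?_
  rw [CfsgLib.CharTheory.char_apply_inv (CfsgLib.CharTheory.isCharacter_of_irr χ.2),
    Complex.conj_conj]

end Cfsg.Agent.S4856
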