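import Cfsg.Statements.S4859
import Cfsg.Agent.Lib.CharTheory.FrobeniusSchur
import Cfsg.Agent.Lib.CharTheory.More
import Mathlib.GroupTheory.Perm.Cycle.Type

set_option autoImplicit false
open Cfsg

namespace Cfsg.Agent.S4859

/-- Let p be an odd prime, G a finite group and x an element of G whose order is a power of p (possibly 1) and whose centralizer has even order. Let y be a 2-element of the centralizer of x whose order is largest among the 2-elements of that centralizer. Then x * y is not a square in G, and some non-principal real-valued irreducible character of G does not vanish at x * y. -/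
theorem result {G : Type*} [Group G] [Finite G] (p : ℕ) [Fact p.Prime] (hp : p ≠ 2) (x : G) (hx : ∃ k : ℕ, orderOf x = p ^ k) (heven : Even (Nat.card (Subgroup.centralizer ({x} : Set G)))) (y : G) (hy : y ∈ Subgroup.centralizer ({x} : Set G)) (hy2 : ∃ k : ℕ, orderOf y = 2 ^ k) (hmax : ∀ z ∈ Subgroup.centralizer ({x} : Set G), (∃ k : ℕ, orderOf z = 2 ^ k) → orderOf z ≤ orderOf y) : (¬ ∃ u : G, u * u = x * y) ∧ ∃ χ : Cfsg.IrrCharacter G, ¬ ((χ : G → ℂ) = fun _ => (1 : ℂ)) ∧ (∀ g : G, ((χ : G → ℂ) g).im = 0) ∧ (χ : G → ℂ) (x * y) ≠ 0 := by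
  classical
  have := Fintype.ofFinite G
  obtain ⟨a, ha⟩ := hx
  obtain ⟨b, hb⟩ := hy2
  have hxy : x * y = y * x := (Subgroup.mem_centralizer_singleton_iff.mp hy).symm
  have hcop : Nat.Coprime (p ^ a) (2 ^ b) :=
    ((Nat.coprime_primes Fact.out Nat.prime_two).mpr hp).pow a b
  have hb0 : b ≠ 0 := by
    intro h
    obtain ⟨z, hz⟩ := exists_prime_orderOf_dvd_card'
      (G := Subgroup.centralizer ({x} : Set G)) 2 (even_iff_two_dvd.mp heven)
    have h1 := hmax z z.2 ⟨1, by rw [Subgroup.orderOf_coe, hz, pow_one]⟩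
    rw [Subgroup.orderOf_coe, hz, hb, h, pow_zero] at h1
    omega
  have hns : ¬ ∃ u : G, u * u = x * y := by
    rintro ⟨u, hu⟩
    -- `y` and `x` are powers of `u * u`
    obtain ⟨s, hs⟩ : ∃ s, s * p ^ a ≡ 1 [MOD 2 ^ b] := by
      obtain ⟨s, hs⟩ := Nat.exists_mul_mod_eq_one_of_coprime hcop
        (Nat.one_lt_pow hb0 (by norm_num))
      exact ⟨s, by rw [mul_comm, Nat.ModEq, hs.2, Nat.mod_eq_of_lt (Nat.one_lt_pow hb0 (by norm_num))]⟩
    have hyu : y = (u * u) ^ (s * p ^ a) := by
      rw [hu, (show Commute x y from hxy).mul_pow, mul_comm s, pow_mul x, ← ha, pow_orderOf_eq_one,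
        one_pow, one_mul, mul_comm (orderOf x), ha]
      conv_lhs => rw [← pow_one y]
      exact (pow_eq_pow_iff_modEq.mpr (hb ▸ hs.symm))
    have hxu : x = u * u * ((u * u) ^ (s * p ^ a))⁻¹ := by rw [← hyu, hu, mul_inv_cancel_right]
    have hcu : Commute u x := by
      have h1 : Commute u (u * u) := (Commute.refl u).mul_right (Commute.refl u)
      rw [hxu]
      exact h1.mul_right (h1.pow_right _).inv_right
    set v := u ^ (p ^ a * s) with hv
    have hvv : v ^ 2 = y := by
      rw [hv, ← pow_mul, mul_comm, pow_mul, pow_two, hyu, mul_comm s]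
    have hvc : v ∈ Subgroup.centralizer ({x} : Set G) :=
      Subgroup.mem_centralizer_singleton_iff.mpr (hcu.pow_left _).eq
    have hvo : orderOf v = 2 ^ (b + 1) := by
      refine orderOf_eq_prime_pow (fun h => ?_) ?_
      · obtain ⟨c, rfl⟩ : ∃ c, b = c + 1 := Nat.exists_eq_succ_of_ne_zero hb0
        rw [pow_succ', pow_mul, hvv] at h
        exact pow_ne_one_of_lt_orderOf (pow_ne_zero _ two_ne_zero)
          (by rw [hb]; exact Nat.pow_lt_pow_right one_lt_two (by omega)) h
      · rw [pow_succ', pow_mul, hvv, ← hb, pow_orderOf_eq_one]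
    have h2 := hmax v hvc ⟨_, hvo⟩
    rw [hvo, hb] at h2
    exact absurd h2 (not_le.mpr (Nat.pow_lt_pow_right one_lt_two (by omega)))
  refine ⟨hns, ?_⟩
  by_contra hno
  push Not at hno
  let θ : G → ℂ := fun g => ∑ u : G, if u * u = g then 1 else 0
  have hθ : Cfsg.IsClassFunction G θ := fun g h =>
    Fintype.sum_equiv (MulAut.conj h⁻¹).toEquiv _ _ fun u => if_congr (by
      show u * u = h * g * h⁻¹ ↔ h⁻¹ * u * h⁻¹⁻¹ * (h⁻¹ * u * h⁻¹⁻¹) = g
      constructor
      · intro e
        rw [show h⁻¹ * u * h⁻¹⁻¹ * (h⁻¹ * u * h⁻¹⁻¹) = h⁻¹ * (u * u) * h by group, e]; group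
      · intro e
        rw [← e]; group) rfl rfl
  have hco : ∀ χ : Cfsg.IrrCharacter G, Cfsg.classInner θ (χ : G → ℂ) =
      (Nat.card G : ℂ)⁻¹ * (starRingEnd ℂ) (∑ u : G, (χ : G → ℂ) (u * u)) := fun χ => by
    simp only [Cfsg.classInner, θ, Finset.sum_mul, map_sum]
    rw [Finset.sum_comm]
    simp
  have h1 := congrFun (CfsgLib.CharTheory.eq_sum_irr hθ) (x * y)
  simp only [Finset.sum_apply, Pi.smul_apply, smul_eq_mul, hco] at h1
  have h0 : θ (x * y) = 0 := Finset.sum_eq_zero fun u _ => if_neg fun e => hns ⟨u, e⟩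
  let t₁ : Cfsg.IrrCharacter G := ⟨fun _ => 1, CfsgLib.CharTheory.isIrrCharacter_one⟩
  rw [h0, Finset.sum_eq_single t₁ (fun χ _ hne => ?_) (by simp)] at h1
  · simp [t₁, Nat.card_eq_fintype_card] at h1
  · by_cases hr : ∀ g : G, ((χ : G → ℂ) g).im = 0
    · rw [hno χ (fun h => hne (Subtype.ext h)) hr, mul_zero]
    · have hz : ∑ u : G, (χ : G → ℂ) (u * u) = 0 := by
        obtain ⟨n, ρ, hρ, hρc⟩ := χ.2
        rw [← hρc]
        rcases CfsgLib.CharTheory.frobenius_schur ρ with ⟨-, hz⟩ | ⟨ε, -, h2, -, -⟩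
        · exact hz
        · refine absurd (fun g => ?_) hr
          have hirr := CfsgLib.CharTheory.isIrrCharacter_character ρ
          have hne' : Cfsg.classInner ρ.character (fun g => (starRingEnd ℂ) (ρ.character g)) ≠ 0 := by
            simp [Cfsg.classInner, h2]
          have he : ρ.character = fun g => (starRingEnd ℂ) (ρ.character g) := by
            by_contra h3
            exact hne' (CfsgLib.CharTheory.classInner_irr_ne hirr
              (CfsgLib.CharTheory.isIrrCharacter_conjChar hirr) h3)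
          rw [← hρc]
          exact Complex.conj_eq_iff_im.mp (congrFun he g).symm
      rw [hz, map_zero, mul_zero, zero_mul]

end Cfsg.Agent.S4859
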