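import Cfsg.Statements.S4871
import Cfsg.Agent.Lib.RealAbove.AverageDegree

set_option autoImplicit false
open Cfsg

namespace Cfsg.Agent.S4871

/-- Let G be a finite group that is the semidirect product of a normal elementary abelian subgroup N of odd order by a non-trivial 2-subgroup P, with N the unique minimal normal subgroup of G. Consider the strongly real irreducible complex characters of G (Frobenius–Schur indicator +1) whose degree is 1 or even. Then their average degree is at least 4/3: four times their number is at most three times the sum of their degrees. -/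
theorem result {G : Type*} [Group G] [Finite G] (N P : Subgroup G) (hN : N.Normal) (q : ℕ) [Fact q.Prime] (hq : q ≠ 2) (hNel : Cfsg.IsElementaryAbelian q N) (hP : IsPGroup 2 ↥P) (hP1 : P ≠ ⊥) (hdisj : N ⊓ P = ⊥) (hprod : N ⊔ P = ⊤) (hmin : N ≠ ⊥ ∧ ∀ M : Subgroup G, M.Normal → M ≠ ⊥ → N ≤ M) : 4 * Nat.card {χ : Cfsg.IrrCharacter G // (Cfsg.charDegree (χ : G → ℂ) = 1 ∨ 2 ∣ Cfsg.charDegree (χ : G → ℂ)) ∧ (Nat.card G : ℂ)⁻¹ * ∑ᶠ g : G, (χ : G → ℂ) (g * g) = 1} ≤ 3 * (∑ᶠ χ : {χ : Cfsg.IrrCharacter G // (Cfsg.charDegree (χ : G → ℂ) = 1 ∨ 2 ∣ Cfsg.charDegree (χ : G → ℂ)) ∧ (Nat.card G : ℂ)⁻¹ * ∑ᶠ g : G, (χ : G → ℂ) (g * g) = 1}, Cfsg.charDegree (χ.1 : G → ℂ)) := by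
  classical
  haveI := Fintype.ofFinite G
  haveI := Fintype.ofFinite ↥N
  haveI := Fintype.ofFinite ↥P
  haveI := hN
  have hab : ∀ a ∈ N, ∀ b ∈ N, a * b = b * a := fun a ha b hb =>
    congrArg Subtype.val (hNel.1.1.1 ⟨a, ha⟩ ⟨b, hb⟩)
  have hodd : Odd (Nat.card ↥N) := by
    have hq' : q.Prime := Fact.out
    obtain ⟨k, hk⟩ := IsPGroup.iff_card.1 (show IsPGroup q ↥N from fun x => ⟨1, by
      refine Subtype.ext ?_
      rw [pow_one]
      exact hNel.2 x x.2⟩)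
    rw [hk]
    exact (hq'.odd_of_ne_two hq).pow
  let p : Cfsg.IrrCharacter G → Prop := fun χ =>
    (Cfsg.charDegree (χ : G → ℂ) = 1 ∨ 2 ∣ Cfsg.charDegree (χ : G → ℂ)) ∧
      (Nat.card G : ℂ)⁻¹ * ∑ᶠ g : G, (χ : G → ℂ) (g * g) = 1
  have h := CfsgLib.RealAbove.average_bound N P hab hodd hP hP1 hdisj hprod hmin.1 hmin.2 p
    (fun χ => by simp only [p, finsum_eq_sum_of_fintype])
  show 4 * Nat.card {χ // p χ} ≤ 3 * ∑ᶠ χ : {χ // p χ}, Cfsg.charDegree (χ.1 : G → ℂ)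
  rw [Nat.card_eq_fintype_card, Fintype.card_subtype, finsum_eq_sum_of_fintype,
    ← Finset.sum_subtype (Finset.univ.filter p) (fun x => by simp) (fun χ => Cfsg.charDegree (χ : G → ℂ))]
  exact h

end Cfsg.Agent.S4871
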