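import Cfsg.Statements.S4873
import Cfsg.Agent.Lib.CharTheory.RealOver

set_option autoImplicit false
open Cfsg CfsgLib.CharTheory
open scoped ComplexConjugate

set_option linter.unusedVariables false

namespace Cfsg.Agent.S4873

/-- Let N be a normal subgroup of odd index in the finite group G. Then every irreducible complex character of N with Frobenius–Schur indicator +1 lies under exactly one irreducible character of G with Frobenius–Schur indicator +1. -/
theorem result {G : Type*} [Group G] [Finite G] (N : Subgroup G) [N.Normal] (hodd : Odd N.index) (φ : Cfsg.IrrCharacter ↥N) (hφ : (Nat.card ↥N : ℂ)⁻¹ * ∑ᶠ g : ↥N, (φ : ↥N → ℂ) (g * g) = 1) : ∃! χ : Cfsg.IrrCharacter G, (Nat.card G : ℂ)⁻¹ * ∑ᶠ g : G, (χ : G → ℂ) (g * g) = 1 ∧ (∑ᶠ n : ↥N, (χ : G → ℂ) n * (starRingEnd ℂ) ((φ : ↥N → ℂ) n)) ≠ 0 := by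
  classical
  haveI := Fintype.ofFinite G
  haveI : Fintype N := Fintype.ofFinite _
  have hG : (Nat.card G : ℂ) ≠ 0 := Nat.cast_ne_zero.2 Nat.card_pos.ne'
  have hN : (Nat.card N : ℂ) ≠ 0 := Nat.cast_ne_zero.2 Nat.card_pos.ne'
  rw [finsum_eq_sum_of_fintype, inv_mul_eq_one₀ hN] at hφ
  have key : ∀ χ : Cfsg.IrrCharacter G,
      ((Nat.card G : ℂ)⁻¹ * ∑ᶠ g : G, (χ : G → ℂ) (g * g) = 1 ∧
        (∑ᶠ n : ↥N, (χ : G → ℂ) n * (starRingEnd ℂ) ((φ : ↥N → ℂ) n)) ≠ 0) ↔
      ((∑ g : G, (χ : G → ℂ) (g * g) = (Nat.card G : ℂ)) ∧ χ ∈ RealOver.overSet N (φ : N → ℂ)) := by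
    intro χ
    rw [finsum_eq_sum_of_fintype, finsum_eq_sum_of_fintype, inv_mul_eq_one₀ hG, RealOver.mem_overSet,
      Cfsg.classInner, mul_ne_zero_iff, and_iff_right (inv_ne_zero hN)]
    exact and_congr_left fun _ => eq_comm
  simp only [key]
  exact RealOver.exists_unique_indicator_one N hodd φ hφ.symm

end Cfsg.Agent.S4873
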