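import Cfsg.Statements.S4888
import Cfsg.Agent.Lib.Blocks.PrincipalLinear

set_option autoImplicit false
open Cfsg CfsgLib.Blocks CfsgLib.CharTheory
open scoped ComplexConjugate

set_option linter.unusedVariables false

namespace Cfsg.Agent.S4888

/-- Let G be a finite group, p a prime and M a maximal ideal of the algebraic integers containing p. Then all height-zero irreducible characters of the principal p-block of G (equivalently, all its characters of degree prime to p) have the same degree if and only if G has a normal p-complement. -/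
theorem result {G : Type*} [Group G] [Finite G] (p : ℕ) [Fact p.Prime] (M : Ideal Cfsg.AlgInt) (hM : Cfsg.IsPModular p M) : (∃ d : ℕ, ∀ χ : Cfsg.IrrCharacter G, χ ∈ (Cfsg.principalBlock M G) → Cfsg.blockHeight p (Cfsg.principalBlock M G) (χ : G → ℂ) = 0 → Cfsg.charDegree (χ : G → ℂ) = d) ↔ Cfsg.HasNormalPComplement p G := by
  classical
  haveI := Fintype.ofFinite G
  have hpP : p.Prime := Fact.out
  have hmin : Cfsg.blockHeight p (Cfsg.principalBlock M G) = fun χ : G → ℂ => dv p χ := by
    funext χ
    have h0 : minDv p (Cfsg.principalBlock M G) = 0 := Nat.le_zero.1 ((minDv_le (oneIrr_mem hM)).trans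
      (by simp [dv, oneIrr, Cfsg.charDegree]))
    rw [blockHeight_eq, h0, Nat.sub_zero]
  rw [hmin]
  constructor
  · rintro ⟨d, hd⟩
    have h1 : 1 = d := by
      have := hd (oneIrr G) (oneIrr_mem hM) (by simp [dv, oneIrr, Cfsg.charDegree])
      simpa [oneIrr, Cfsg.charDegree] using this
    have hK := CfsgLib.Blocks.PrincipalLinear.not_dvd_card_residual hM (G := G)
      fun χ hχ hp => (hd χ hχ (Nat.factorization_eq_zero_of_not_dvd hp)).trans h1.symm
    haveI : (Cfsg.pResidual p G).Normal := CfsgLib.PResidual.pResidual_normal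
    let T : Sylow p G := default
    refine ⟨T, Cfsg.pResidual p G, inferInstance, ?_⟩
    refine Subgroup.isComplement'_of_disjoint_and_mul_eq_univ ?_ ?_
    · rw [disjoint_iff]
      obtain ⟨n, hn⟩ := IsPGroup.iff_card.1 T.2
      exact Subgroup.inf_eq_bot_of_coprime (by
        rw [hn]
        exact (Nat.Coprime.pow_left n ((Nat.Prime.coprime_iff_not_dvd hpP).2 hK)).symm)
    · rw [← Subgroup.normal_mul, sup_comm, CfsgLib.PResidual.pResidual_sup_sylow T, Subgroup.coe_top]
  · rintro ⟨P, N, hN, hc⟩
    obtain ⟨n, hn⟩ := IsPGroup.iff_card.1 P.2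
    have hidx : N.index = p ^ n := by rw [hc.symm.index_eq_card, hn]
    have hNp : ¬ p ∣ Nat.card N := by
      rw [← hc.index_eq_card]
      exact P.not_dvd_index
    refine ⟨1, fun χ hχ h0 => ?_⟩
    rw [principalBlock_of_complement hM hNp ⟨n, hidx⟩] at hχ
    have hle : N ≤ charKernel (χ : G → ℂ) (isCharacter_of_irr χ.2) := fun x hx =>
      (mem_charKernel _ x).2 (hχ x hx)
    obtain ⟨i, -, hi⟩ := (Nat.dvd_prime_pow hpP).1
      (hidx ▸ (charDegree_dvd_index_kernel χ.2).trans (Subgroup.index_dvd_of_le hle))
    have : dv p (χ : G → ℂ) = 0 := h0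
    simp only [dv, hi, Nat.Prime.factorization_self, Nat.Prime.factorization_pow hpP,
      Finsupp.single_eq_same] at this
    rw [hi, this, pow_zero]

end Cfsg.Agent.S4888
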