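import Cfsg.Statements.S4889
import Cfsg.Agent.Lib.Blocks.EqualDegree.Main
import Cfsg.Agent.Lib.Blocks.Star.Nilpotent
import Cfsg.Agent.Lib.Blocks.OneBrauer
import Cfsg.Agent.S4687

set_option autoImplicit false
open Cfsg

namespace Cfsg.Agent.S4889

/-- Let G be a finite group, p a prime, M a maximal ideal of the algebraic integers containing p, and B a p-block of G that has an abelian defect group and in which every irreducible character has height zero. Then all irreducible characters of B have the same degree if and only if B is a nilpotent block. -/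
theorem result {G : Type*} [Group G] [Finite G] (p : ℕ) [Fact p.Prime] (M : Ideal Cfsg.AlgInt) (hM : Cfsg.IsPModular p M) (B : Set (Cfsg.IrrCharacter G)) (hB : Cfsg.IsPBlock M B) (D : Subgroup G) (hD : Cfsg.IsDefectGroup p M B D) (hDab : IsMulCommutative ↥D) (h0 : ∀ χ : Cfsg.IrrCharacter G, χ ∈ B → Cfsg.blockHeight p B (χ : G → ℂ) = 0) : (∃ d : ℕ, ∀ χ : Cfsg.IrrCharacter G, χ ∈ B → Cfsg.charDegree (χ : G → ℂ) = d) ↔ Cfsg.IsNilpotentBlock p M B := by
  classical
  haveI := Fintype.ofFinite G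
  open CfsgLib.Blocks CfsgLib.CharTheory in
  obtain ⟨e, he⟩ := exists_maximal_at hM hB hD
  have hab : ∀ x ∈ D, ∀ y ∈ D, x * y = y * x := fun x hx y hy =>
    congrArg Subtype.val (hDab.is_comm.comm ⟨x, hx⟩ ⟨y, hy⟩)
  constructor
  · rintro ⟨d, hd⟩
    obtain ⟨χ, hχ⟩ := CfsgLib.Blocks.block_nonempty hM hB
    have hd0 : d ≠ 0 := by
      rw [← hd χ hχ]
      exact (CfsgLib.Blocks.irr_charDegree_pos χ).ne'
    exact (Cfsg.Agent.S4687.result p M hM B D e he hab).2 fun x hx hst =>
      CfsgLib.Blocks.EqualDegree.stab_centralizes hM hd0 hd he hab hx hst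
  · intro hnil
    open CfsgLib.Blocks CfsgLib.CharTheory in
    haveI := Fintype.ofFinite D
    obtain ⟨χ₀, -, Ψ, -⟩ := CfsgLib.Blocks.nilpotent_param hM he hnil
    obtain ⟨φ, f, d, n, -, -, -, hdeg, -, hsq⟩ :=
      CfsgLib.Blocks.exists_single_brauer hM hB (CfsgLib.Blocks.nilpotent_rank_one hM hnil).1
    open CfsgLib.Blocks CfsgLib.CharTheory in
    have hk : (bset B).card = p ^ blockDefect p B := by
      rw [← card_defectGroup hM hB hD, show (bset B).card = Nat.card B by
        rw [Nat.card_eq_card_toFinset]; congr 1; ext ψ; simp [mem_bset],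
        ← Nat.card_congr Ψ, card_irr_eq_card_conjClasses]
      exact (Nat.card_congr (Equiv.ofBijective ConjClasses.mk ⟨fun a b h => by
        obtain ⟨c, hc⟩ := isConj_iff.1 (ConjClasses.mk_eq_mk_iff_isConj.1 h)
        rwa [show c * a = a * c from Subtype.ext (hab c c.2 a a.2), mul_inv_cancel_right] at hc,
        ConjClasses.mk_surjective⟩)).symm
    refine ⟨f, fun χ hχ => ?_⟩
    open CfsgLib.Blocks CfsgLib.CharTheory in
    have hpos : ∀ ψ ∈ bset B, 1 ≤ d ψ ^ 2 := fun ψ hψ => Nat.one_le_pow _ _ (Nat.pos_of_ne_zero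
      fun h0 => (irr_charDegree_pos ψ).ne' (by rw [hdeg ψ (mem_bset.1 hψ), h0, zero_mul]))
    open CfsgLib.Blocks CfsgLib.CharTheory in
    have h1 : d χ ^ 2 = 1 := ((Finset.sum_eq_sum_iff_of_le hpos).1
      (by rw [Finset.sum_const, smul_eq_mul, mul_one, hk, hsq]) χ (mem_bset.2 hχ)).symm
    rw [hdeg χ hχ, (Nat.pow_eq_one.1 h1).resolve_right two_ne_zero, one_mul]

end Cfsg.Agent.S4889
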