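import Cfsg.Statements.S4890
import Cfsg.Agent.Lib.Blocks.EqualDegree.NormalMain
import Cfsg.Agent.Lib.Blocks.EqualDegree.NilNormal
import Cfsg.Agent.Lib.Blocks.Star.Nilpotent
import Cfsg.Agent.Lib.Blocks.DefectZeroProducts

set_option autoImplicit false
open Cfsg

namespace Cfsg.Agent.S4890

/-- Let G be a finite group, p a prime, M a maximal ideal of the algebraic integers containing p, and B a p-block of G with a defect group that is normal in G. Then all height-zero irreducible characters of B have the same degree if and only if B is a nilpotent block. -/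
theorem result {G : Type*} [Group G] [Finite G] (p : ℕ) [Fact p.Prime] (M : Ideal Cfsg.AlgInt) (hM : Cfsg.IsPModular p M) (B : Set (Cfsg.IrrCharacter G)) (hB : Cfsg.IsPBlock M B) (D : Subgroup G) (hD : Cfsg.IsDefectGroup p M B D) (hDn : D.Normal) : (∃ d : ℕ, ∀ χ : Cfsg.IrrCharacter G, χ ∈ B → Cfsg.blockHeight p B (χ : G → ℂ) = 0 → Cfsg.charDegree (χ : G → ℂ) = d) ↔ Cfsg.IsNilpotentBlock p M B := by
  haveI := Fintype.ofFinite G
  haveI := hDn
  obtain ⟨e, hmax⟩ := CfsgLib.Blocks.exists_maximal_at hM hB hD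
  constructor
  · rintro ⟨d, hd⟩
    exact CfsgLib.Blocks.EqualDegree.nilpotent_of_stab_centralizes hM hmax fun x hx hxr =>
      CfsgLib.Blocks.EqualDegree.regular_stab_centralizes hM hmax hd hx hxr
  · intro hnil
    haveI := Fintype.ofFinite D
    obtain ⟨χ₀, -, Ψ, hΨ⟩ := CfsgLib.Blocks.nilpotent_param hM hmax hnil
    refine ⟨charDegree (χ₀ : G → ℂ), fun χ hχ h0 => ?_⟩
    obtain ⟨l, hl⟩ := Ψ.surjective ⟨χ, hχ⟩
    obtain ⟨hval, hh⟩ := hΨ l
    rw [hl] at hh hval
    rw [h0] at hh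
    have hl1 : charDegree (l : D → ℂ) = 1 := by
      obtain ⟨k, hk⟩ := hmax.1.1.1.exists_card_eq
      obtain ⟨i, -, hi⟩ := (Nat.dvd_prime_pow hM.1).1
        (hk ▸ CfsgLib.Blocks.charDegree_dvd_card l)
      rw [hi, hM.1.factorization_pow, Finsupp.single_eq_same] at hh
      rw [hi, ← hh, pow_zero]
    have h1 := hval 1 (by rw [orderOf_one]; exact hM.1.not_dvd_one)
    rw [hl1, Nat.cast_one, one_mul, ← CfsgLib.Blocks.irr_charDegree_cast,
      ← CfsgLib.Blocks.irr_charDegree_cast] at h1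
    exact_mod_cast h1

end Cfsg.Agent.S4890
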