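import Cfsg.Statements.S4892
import Cfsg.Agent.Lib.Blocks.PRationalExtension

set_option autoImplicit false
open Cfsg
open CfsgLib.Blocks CfsgLib.Blocks.PRatExt CfsgLib.CharTheory

namespace Cfsg.Agent.S4892

theorem result {G : Type*} [Group G] [Finite G] (p : ℕ) [Fact p.Prime] (hp : p ≠ 2) (M : Ideal Cfsg.AlgInt) (hM : Cfsg.IsPModular p M) (N : Subgroup G) [N.Normal] (θ : Cfsg.IrrCharacter ↥N) (hinv : ∀ g : G, ∀ n n' : ↥N, (n' : G) = g * (n : G) * g⁻¹ → (θ : ↥N → ℂ) n' = (θ : ↥N → ℂ) n) (hdeg : ¬ p ∣ Cfsg.charDegree (θ : ↥N → ℂ)) (hrat : ∃ m : ℕ, ¬ p ∣ m ∧ ∀ n : ↥N, (θ : ↥N → ℂ) n ∈ IntermediateField.adjoin ℚ ({Complex.exp (2 * Real.pi * Complex.I / m)} : Set ℂ)) (hB : θ ∈ Cfsg.principalBlock M ↥N) (Q : Sylow p ↥N) (hidx : ∃ a : ℕ, (N ⊔ Subgroup.centralizer (((Q : Subgroup ↥N).map N.subtype : Subgroup G) : Set G)).index = p ^ a) : ∃ χ : Cfsg.IrrCharacter G, χ ∈ (Cfsg.principalBlock M G) ∧ (∃ n : ℕ, ¬ p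 ∣ n ∧ ∀ g : G, (χ : G → ℂ) g ∈ IntermediateField.adjoin ℚ ({Complex.exp (2 * Real.pi * Complex.I / n)} : Set ℂ)) ∧ ∀ n : ↥N, (χ : G → ℂ) n = (θ : ↥N → ℂ) n := by
  classical
  haveI := Fintype.ofFinite G
  haveI := Fintype.ofFinite N
  set Qg : Subgroup G := (Q : Subgroup ↥N).map N.subtype with hQg
  set C := Subgroup.centralizer (Qg : Set G) with hC
  set M0 := N ⊔ C with hM0
  haveI hM0n : M0.Normal := by
    refine Subgroup.normalizer_eq_top_iff.1 (top_le_iff.1 ?_)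
    rw [← Sylow.normalizer_sup_eq_top Q]
    refine sup_le (fun x hx => ?_) ((le_sup_left : N ≤ M0).trans Subgroup.le_normalizer)
    have h1 := normalizer_le_normalizer_cent Qg hx
    have h2 : ∀ y, y ∈ M0 → ∀ z ∈ Subgroup.normalizer (C : Set G), z * y * z⁻¹ ∈ M0 := by
      intro y hy z hz
      have hy' : y ∈ ((N ⊔ C : Subgroup G) : Set G) := hy
      rw [Subgroup.normal_mul] at hy'
      obtain ⟨a, ha, b, hb, rfl⟩ := hy'
      rw [show z * (a * b) * z⁻¹ = (z * a * z⁻¹) * (z * b * z⁻¹) by group]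
      exact Subgroup.mul_mem_sup (‹N.Normal›.conj_mem a ha z) ((Subgroup.mem_normalizer_iff.1 hz b).1 hb)
    rw [Subgroup.mem_normalizer_iff]
    refine fun y => ⟨fun hy => h2 y hy x h1, fun hy => ?_⟩
    have h3 := h2 _ hy x⁻¹ (Subgroup.inv_mem _ h1)
    simpa [mul_assoc] using h3
  have hsupp : Supp p N Qg := by
    refine ⟨Subgroup.map_subtype_le _, ?_, fun g hg => ?_⟩
    · rw [Subgroup.relIndex, hQg, Subgroup.subgroupOf,
        Subgroup.comap_map_eq_self_of_injective N.subtype_injective]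
      exact Q.not_dvd_index
    · obtain ⟨e, he⟩ := hidx
      change M0.index = p ^ e at he
      have hgM : g ∈ M0 := by
        rw [← QuotientGroup.eq_one_iff, ← orderOf_eq_one_iff]
        refine Nat.eq_one_of_dvd_coprimes ((hM.1.coprime_iff_not_dvd.2 hg).pow_left e)
          (he ▸ orderOf_dvd_natCard _) ?_
        exact orderOf_map_dvd (QuotientGroup.map N M0 (MonoidHom.id G) (fun x hx => (le_sup_left : N ≤ M0) hx)) (g : G ⧸ N)
      have hg' : g ∈ ((N ⊔ C : Subgroup G) : Set G) := hgM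
      rw [Subgroup.normal_mul] at hg'
      obtain ⟨a, ha, b, hb, rfl⟩ := hg'
      exact ⟨b, hb, by rw [QuotientGroup.mk_mul, (QuotientGroup.eq_one_iff a).2 ha, one_mul]⟩
  set a := (Nat.card G).factorization p with ha
  set n := Nat.card G / p ^ a with hn'
  have hn : ¬ p ∣ n := Nat.not_dvd_ordCompl hM.1 Nat.card_pos.ne'
  have hG : Nat.card G = p ^ a * n := (Nat.ordProj_mul_ordCompl_eq_self _ p).symm
  obtain ⟨m, hm, hmem⟩ := hrat
  have hm0 : m ≠ 0 := fun e => hm (e ▸ dvd_zero p)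
  have hn0 : n ≠ 0 := fun e => hn (e ▸ dvd_zero p)
  have hfix : ∀ k : ℕ, k.Coprime (p ^ a * n) → k ≡ 1 [MOD n] → ∀ x : N,
      (θ : N → ℂ) (x ^ k) = (θ : N → ℂ) x := by
    intro k hk hk1 x
    have hcop : (p ^ a).Coprime (n * m) := ((hM.1.coprime_iff_not_dvd.2 hn).mul_right
      (hM.1.coprime_iff_not_dvd.2 hm)).pow_left a
    obtain ⟨k', hk1', hk2'⟩ := Nat.chineseRemainder hcop k 1
    have hk'c : k'.Coprime (p ^ a * (n * m)) := by
      refine Nat.Coprime.mul_right ?_ (Nat.coprime_of_mul_modEq_one 1 (by rw [mul_one]; exact hk2'))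
      rw [Nat.coprime_iff_gcd_eq_one, hk1'.gcd_eq]
      exact hk.coprime_dvd_right (dvd_mul_right _ _)
    have hkk : k' ≡ k [MOD Nat.card G] := by
      rw [hG]
      exact (Nat.modEq_and_modEq_iff_modEq_mul ((hM.1.coprime_iff_not_dvd.2 hn).pow_left a)).1
        ⟨hk1', (hk2'.of_dvd (dvd_mul_right n m)).trans hk1.symm⟩
    have hxk : x ^ k' = x ^ k := pow_eq_pow_iff_modEq.2
      (hkk.of_dvd (Subgroup.orderOf_coe x ▸ orderOf_dvd_natCard (x : G)))
    rw [← hxk]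
    refine pow_eq_of_mem_rootField (isCharacter_of_irr θ.2) (R := p ^ a * (n * m))
      (n := m) (Nat.mul_ne_zero (pow_ne_zero _ hM.1.ne_zero) (Nat.mul_ne_zero hn0 hm0))
      ((Subgroup.card_subgroup_dvd_card N).trans (hG ▸ Nat.mul_dvd_mul_left _ (dvd_mul_right n m)))
      (dvd_mul_of_dvd_right (dvd_mul_left m n) _) hm0 (hmem x) hk'c (hk2'.of_dvd (dvd_mul_left m n))
  obtain ⟨χ, hχB, hχfix, hχN⟩ := hsupp.exists_prational hM hp (θ := θ)
    (fun g => funext fun x => hinv g x _ rfl) hdeg hn hG hfix hB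
  exact ⟨χ, hχB, ⟨n, hn, fun g => mem_rootField_of_fixed (isCharacter_of_irr χ.2) g
    (hG ▸ dvd_mul_left n _) fun k hk hk1 => hχfix k hk hk1 g⟩, hχN⟩

end Cfsg.Agent.S4892
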