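import Cfsg.Statements.S4903
import Cfsg.Agent.Lib.LinearSmall.Wrapper
import Cfsg.Agent.Lib.LinearSmall.Nineteen.Main

set_option autoImplicit false
open Cfsg

namespace Cfsg.Agent.S4903

/-- Let G be a finite group with a faithful irreducible complex character of degree 16, p a prime with p ≥ 19, and P a Sylow p-subgroup of G. Then P is normal in G, or p = 31 and the quotient of G by its centre is isomorphic to PSL(2,31). -/
theorem result {G : Type*} [Group G] [Finite G] (χ : Cfsg.IrrCharacter G) (hdeg : Cfsg.charDegree (χ : G → ℂ) = 16) (hfaith : ∀ g : G, (χ : G → ℂ) g = (χ : G → ℂ) 1 → g = 1) (p : ℕ) [Fact p.Prime] (hp : 19 ≤ p) (P : Sylow p G) : (P : Subgroup G).Normal ∨ (p = 31 ∧ Nonempty (G ⧸ Subgroup.center G ≃* Matrix.ProjectiveSpecialLinearGroup (Fin 2) (ZMod 31))) := by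
  classical
  by_cases hnn : (P : Subgroup G).Normal
  · exact Or.inl hnn
  right
  obtain ⟨Gb, i1, i2, τ, ζ, Pb, h⟩ := CfsgLib.LinearSmall.exists_reduced χ hdeg hfaith (p := p) (by omega) P hnn
  obtain ⟨x, e, t, D⟩ := CfsgLib.FeitSmall.exists_data Pb h.card
  have hA := D.A.mul
  have hpp : p.Prime := Fact.out
  have hd := h.deg
  rcases CfsgLib.FeitSmall.feit_small D (by omega) h.nnorm ζ h.faith with ⟨⟨e1⟩, h2, -⟩ | h2 | ⟨h2, ht, h3⟩
  · obtain rfl : p = 31 := by
      rcases h2 with h2 | h2 <;> rw [hd] at h2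
      · omega
      · exfalso
        obtain rfl : p = 33 := by omega
        norm_num at hpp
    obtain ⟨e0⟩ := h.central_quotient
    exact ⟨rfl, ⟨e0.trans e1⟩⟩
  · omega
  · exfalso
    rcases h3 with rfl | ⟨h3, -⟩
    · omega
    · by_cases h19 : p = 19
      · subst h19
        exact CfsgLib.LinearSmall.Nineteen.degree_ne_sixteen Pb h.card h.nnorm ζ h.faith hd
      · have he : 4 ≤ e := by omega
        have h4 : (e + 3) * e ≤ t * e := Nat.mul_le_mul_right e h3
        have h5 : 7 * e ≤ (e + 3) * e := Nat.mul_le_mul_right e (by omega)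
        omega

end Cfsg.Agent.S4903
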