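import Cfsg.Statements.S4904
import Cfsg.Agent.Lib.LinearSmall.Wrapper
import Cfsg.Agent.Lib.LinearSmall.Nineteen.Main
import Cfsg.Agent.Lib.LinearSmall.FiveThree.Main
import Cfsg.Agent.Lib.LinearSmall.SevenFour.Main
import Cfsg.Agent.Lib.SmallSylow.PredTwo.Main
import Cfsg.Agent.Lib.SmallRep.Main

set_option autoImplicit false
set_option linter.style.haveILetI false
open Cfsg

namespace Cfsg.Agent.S4904

open CfsgLib.Blocks CfsgLib.CharTheory CfsgLib.CharTheory.SmallDegree CfsgLib.FeitSmall CfsgLib.SmallSylow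

/-- The degree is one of the listed ones. -/
theorem small_cases {p d e t : ℕ} (hp : p.Prime) (hm : t * e + 1 = p) (hde : d + e = p) (hd : d < 27)
    (ho : Odd e) (he : 2 ≤ e) (ht : e + 3 ≤ t) : p = 19 ∧ d = 16 := by
  obtain ⟨k, rfl⟩ := ho
  have h1 : (2 * k + 1 + 3) * (2 * k + 1) ≤ t * (2 * k + 1) := Nat.mul_le_mul_right _ ht
  rcases (show k = 1 ∨ 2 ≤ k by omega) with rfl | hk
  · have hcases : t = 6 ∨ t = 7 ∨ t = 8 ∨ t = 9 := by omega
    rcases hcases with rfl | rfl | rfl | rfl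
    · omega
    all_goals (exfalso; subst hm; norm_num at hp)
  · exfalso
    have h2 : 8 * (2 * k + 1) ≤ (2 * k + 1 + 3) * (2 * k + 1) := Nat.mul_le_mul_right _ (by omega)
    omega

/-- Isomorphic fields give isomorphic special linear groups. -/
theorem sl_congr {F K : Type} [Field F] [Field K] (f : F ≃+* K) :
    Nonempty (Matrix.SpecialLinearGroup (Fin 2) F ≃* Matrix.SpecialLinearGroup (Fin 2) K) :=
  ⟨MonoidHom.toMulEquiv (Matrix.SpecialLinearGroup.map f.toRingHom) (Matrix.SpecialLinearGroup.map f.symm.toRingHom)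
    (MonoidHom.ext fun A => Matrix.SpecialLinearGroup.ext _ _ fun i j => f.symm_apply_apply _)
    (MonoidHom.ext fun A => Matrix.SpecialLinearGroup.ext _ _ fun i j => f.apply_symm_apply _)⟩

/-- Let G be a finite group with a faithful irreducible complex character of degree d < 27, and p a prime with p > d + 1 and P a Sylow p-subgroup of G. Then one of the following holds: P is normal in G; the quotient of G by its centre is isomorphic to PSL(2,p) and 2d = p + 1 or 2d = p − 1; p = 17, d = 15 and G is isomorphic to the direct product of SL(2,16) with an abelian group; p = 7, d = 4 and G modulo its centre is the alternating group of degree 7; p = 5, d = 3 and G modulo its centre is the alternating group of degree 6. -/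
theorem result {G : Type*} [Group G] [Finite G] (d : ℕ) (hd : d < 27) (χ : Cfsg.IrrCharacter G) (hdeg : Cfsg.charDegree (χ : G → ℂ) = d) (hfaith : ∀ g : G, (χ : G → ℂ) g = (χ : G → ℂ) 1 → g = 1) (p : ℕ) [Fact p.Prime] (hp : d + 1 < p) (P : Sylow p G) : (P : Subgroup G).Normal ∨ (Nonempty (G ⧸ Subgroup.center G ≃* Matrix.ProjectiveSpecialLinearGroup (Fin 2) (ZMod p)) ∧ (2 * d = p + 1 ∨ 2 * d = p - 1)) ∨ (p = 17 ∧ d = 15 ∧ ∃ (A : Type) (_ : CommGroup A) (_ : Finite A), Nonempty (G ≃* Matrix.SpecialLinearGroup (Fin 2) (GaloisField 2 4) × A)) ∨ (p = 7 ∧ d = 4 ∧ Nonempty (G ⧸ Subgroup.center G ≃* ↥(alternatingGroup (Fin 7)))) ∨ (p = 5 ∧ d = 3 ∧ Nonempty (G ⧸ Subgroup.center G ≃* ↥(alternatingGroup (Fin 6)))) := by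
  classical
  by_cases hnn : (P : Subgroup G).Normal
  · exact Or.inl hnn
  right
  obtain ⟨Gb, i1, i2, τ, ζ, Pb, h⟩ := CfsgLib.LinearSmall.exists_reduced χ hdeg hfaith hp P hnn
  obtain ⟨x, e, t, D⟩ := exists_data Pb h.card
  obtain ⟨e0⟩ := h.central_quotient
  have hA := D.A.mul
  have hpp : p.Prime := Fact.out
  have hdg := h.deg
  have h2 := h.two_le
  have h5 := h.five
  have hpsl : p = 2 * charDegree (ζ : Gb → ℂ) + 1 →
      Nonempty (G ⧸ Subgroup.center G ≃* Matrix.ProjectiveSpecialLinearGroup (Fin 2) (ZMod p)) ∧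
        (2 * d = p + 1 ∨ 2 * d = p - 1) := fun hpf => by
    obtain ⟨R, hR, -, -⟩ := exists_rep ζ h.faith
    obtain ⟨e1⟩ := CfsgLib.SmallRep.central_quotient_psl (f := charDegree (ζ : Gb → ℂ)) hpf D.order D.sq_not_dvd R hR
      (by rw [D.zpowers]; exact h.nnorm)
    exact ⟨⟨e0.trans e1⟩, Or.inr (by omega)⟩
  by_cases hp11 : p < 11
  · obtain rfl | rfl : p = 5 ∨ p = 7 := by
      interval_cases p <;> first | omega | exact absurd hpp (by norm_num)
    · rcases (show d = 2 ∨ d = 3 by omega) with rfl | rfl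
      · exact Or.inl (hpsl (by rw [hdg]))
      · rcases CfsgLib.LinearSmall.FiveThree.quotient_center Pb h.card h.nnorm ζ h.faith hdg with ⟨⟨e1⟩⟩ | ⟨⟨e1⟩⟩
        · exact Or.inl ⟨⟨e0.trans e1⟩, Or.inl rfl⟩
        · exact Or.inr (Or.inr (Or.inr ⟨rfl, rfl, ⟨e0.trans e1⟩⟩))
    · rcases (show d = 2 ∨ d = 3 ∨ d = 4 ∨ d = 5 by omega) with rfl | rfl | rfl | rfl
      · exfalso
        obtain ⟨R, hR, -, -⟩ := exists_rep ζ h.faith
        have hn := CfsgLib.SmallRep.normal_of_small_degree (p := 7) (f := charDegree (ζ : Gb → ℂ))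
          (by rw [hdg]; norm_num) Gb x D.order D.sq_not_dvd R hR
        rw [D.zpowers] at hn
        exact h.nnorm hn
      · exact Or.inl (hpsl (by rw [hdg]))
      · rcases CfsgLib.LinearSmall.SevenFour.quotient_center Pb h.card h.nnorm ζ h.faith hdg with ⟨⟨e1⟩⟩ | ⟨⟨e1⟩⟩
        · exact Or.inl ⟨⟨e0.trans e1⟩, Or.inl rfl⟩
        · exact Or.inr (Or.inr (Or.inl ⟨rfl, rfl, ⟨e0.trans e1⟩⟩))
      · exfalso
        obtain ⟨a, F, _, _, ha, -⟩ := CfsgLib.SmallSylow.PredTwo.exists_sl (p := 7) (by norm_num) Pb h.card h.nnorm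
          h.faith hdg
        rcases (show a ≤ 2 ∨ 3 ≤ a by omega) with h' | h'
        · interval_cases a <;> norm_num at ha
        · have : 2 ^ 3 ≤ 2 ^ a := Nat.pow_le_pow_right (by norm_num) h'
          omega
  letI : Fintype (Pb : Subgroup Gb) := Fintype.ofFinite _
  letI : Fintype (cen (Pb : Subgroup Gb)) := Fintype.ofFinite _
  letI : Fintype (Subgroup.center Gb) := Fintype.ofFinite _
  obtain ⟨M, hM⟩ := exists_isPModular hpp
  rcases structure_cases D hM ζ h.faith (by omega) (D.inf_center h.nnorm) with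
    ⟨a, ha, hA'⟩ | ⟨ht, hH, a, ha, hS⟩
  · obtain ⟨-, hdeg2⟩ := caseA_degree D (by omega) ζ h.faith (by omega) h.nnorm ha hA'
    exact Or.inl (hpsl (by omega))
  have hde := hS.degree D.A ha
  rcases Nat.lt_or_ge t 3 with ht3 | ht3
  · obtain rfl : t = 2 := by omega
    obtain ⟨h1, ⟨e1⟩⟩ := caseB_two D (by omega) ζ h.faith h.nnorm hH ha hS
    exact Or.inl ⟨⟨e0.trans e1⟩, Or.inl (by omega)⟩
  have he2 : 2 ≤ e := by omega
  rcases bigT (by omega) _ Gb rfl Pb x e t D ζ h.faith h.nnorm hH a ha hS ht3 he2 with rfl | ⟨ho, hle, -⟩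
  · obtain ⟨m, F, _, _, hm, hF, ⟨e1⟩⟩ := CfsgLib.SmallSylow.PredTwo.exists_sl (by omega) Pb h.card h.nnorm
      h.faith (by omega)
    have hm5 : m < 5 := by
      by_contra hm5
      have : 2 ^ 5 ≤ 2 ^ m := Nat.pow_le_pow_right (by norm_num) (by omega)
      omega
    obtain rfl : m = 4 := by
      interval_cases m <;> first | rfl | omega
    obtain rfl : p = 17 := by norm_num at hm; exact hm
    have hd15 : d = 15 := by omega
    letI : Fintype (GaloisField 2 4) := Fintype.ofFinite _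
    have hK : Fintype.card (GaloisField 2 4) = 2 ^ 4 := by
      rw [← Nat.card_eq_fintype_card, GaloisField.card 2 4 (by norm_num)]
    obtain ⟨s⟩ := sl_congr (FiniteField.ringEquivOfCardEq (hF.trans hK.symm))
    exact Or.inr (Or.inl ⟨rfl, hd15,
      h.split_sl (F := GaloisField 2 4) hK (by norm_num) (e1.trans (s.prodCongr (MulEquiv.refl _)))⟩)
  · exfalso
    obtain ⟨rfl, rfl⟩ := small_cases hpp hA (by omega) hd ho he2 hle
    exact CfsgLib.LinearSmall.Nineteen.degree_ne_sixteen Pb h.card h.nnorm ζ h.faith hdg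

end Cfsg.Agent.S4904
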