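import Cfsg.Statements.S4912
import Cfsg.Agent.Lib.LinearTwist.Basic
import Cfsg.Agent.Lib.CharTheory.RealType

set_option autoImplicit false
open Cfsg CfsgLib.CharTheory CfsgLib.LinearTwist
open scoped ComplexConjugate

set_option linter.unusedVariables false

namespace Cfsg.Agent.S4912

/-- Let G be a finite group with a non-abelian minimal normal subgroup N, and let φ be an irreducible complex character of N with stabilizer I in G such that φ extends to an irreducible character of I with Frobenius–Schur indicator +1. Put d = φ(1)·[G : I]. Then the number of linear characters of G with Frobenius–Schur indicator +1 is at most [G : I] times the number of irreducible characters of G of degree d with Frobenius–Schur indicator +1. -/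
theorem result {G : Type*} [Group G] [Finite G] (N : Subgroup G) (hN : N.Normal) (hN1 : N ≠ ⊥) (hmin : ∀ M : Subgroup G, M.Normal → M ≤ N → M = ⊥ ∨ M = N) (hna : ¬ IsMulCommutative ↥N) (φ : Cfsg.IrrCharacter ↥N) (I : Subgroup G) (hI : ∀ g : G, g ∈ I ↔ ∀ n n' : ↥N, (n' : G) = g * (n : G) * g⁻¹ → (φ : ↥N → ℂ) n' = (φ : ↥N → ℂ) n) (hNI : N ≤ I) (hext : ∃ ψ : Cfsg.IrrCharacter ↥I, (Nat.card ↥I : ℂ)⁻¹ * ∑ᶠ g : ↥I, (ψ : ↥I → ℂ) (g * g) = 1 ∧ ∀ n : ↥N, (ψ : ↥I → ℂ) (Subgroup.inclusion hNI n) = (φ : ↥N → ℂ) n) : Nat.card {χ : Cfsg.IrrCharacter G // Cfsg.charDegree (χ : G → ℂ) = 1 ∧ (Nat.card G : ℂ)⁻¹ * ∑ᶠ g : G, (χ : G → ℂ) (g * g) = 1} ≤ I.index * Nat.card {χ : Cfsg.IrrCharacter G // Cfsg.charDegree (χ : G → ℂ) = Cfsg.charDegree (φ : ↥N → ℂ) * I.index ∧ (Nat.card G : ℂ)⁻¹ * ∑ᶠ g : G, (χ : G → ℂ) (g * g) = 1} := by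
  have := hN
  have := Fintype.ofFinite G
  have := Fintype.ofFinite I
  obtain ⟨ψ, hν, hψ⟩ := hext
  rw [finsum_eq_sum_of_fintype] at hν
  obtain ⟨m, ρ, hρ⟩ := exists_real_of_indicator ψ.2 hν
  obtain ⟨n, R, hR⟩ := exists_real_induced I ρ hρ
  refine card_linear_le N (le_commutator_of_minimal hmin hna) φ.2 I hI hNI ψ.2 hψ
    (fun χ => (Nat.card G : ℂ)⁻¹ * ∑ᶠ g : G, χ (g * g) = 1) fun α hα => ?_
  have hT : I = inertia N (φ : N → ℂ) := by
    ext g
    rw [hI, mem_inertia]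
    exact ⟨fun h => funext fun x => h x _ rfl, fun h x x' e =>
      (congrArg (φ : N → ℂ) (Subtype.ext e)).trans (congrFun h x)⟩
  have := Fintype.ofFinite N
  have hirr : IsIrrCharacter G (indFun I (ψ : I → ℂ)) :=
    (clifford_correspondence N φ.2 hNI hT ψ.2 (by
      rw [show (fun x : N => (ψ : I → ℂ) ⟨x, hNI x.2⟩) = (φ : N → ℂ) from funext hψ,
        classInner_irr_self φ.2]
      exact one_ne_zero)).1
  have h1 := indicator_eq_one_of_real hirr n R hR
  rw [finsum_eq_sum_of_fintype] at hα ⊢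
  have hsq : ∀ g, (α (g * g) : ℂ) = 1 := by
    by_contra hne
    push Not at hne
    obtain ⟨g₀, hg₀⟩ := hne
    have h0 : ∑ g : G, (α (g * g) : ℂ) = 0 := by
      have e : ∑ g : G, ((α (g * g) : ℂˣ) : ℂ) =
          (α (g₀ * g₀) : ℂ) * ∑ g : G, ((α (g * g) : ℂˣ) : ℂ) := by
        rw [Finset.mul_sum]
        refine (Fintype.sum_equiv (Equiv.mulLeft g₀) _ _ fun g => ?_).symm
        simp only [Equiv.coe_mulLeft, map_mul, Units.val_mul]
        ring
      by_contra h
      exact hg₀ (mul_right_cancel₀ h (by rw [one_mul]; exact e.symm))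
    rw [h0, mul_zero] at hα
    exact zero_ne_one hα
  simp only [Pi.mul_apply, hsq, one_mul]
  exact h1

end Cfsg.Agent.S4912
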