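import Cfsg.Statements.S4914
import Cfsg.Agent.Lib.Glauberman.NormalSylow
-- import your own Cfsg.Agent.* helpers here

set_option autoImplicit false
open Cfsg CfsgLib.CharTheory CfsgLib.Glauberman CfsgLib.Glauberman.NormalSylow

namespace Cfsg.Agent.S4914

/-- Let P and K be subgroups of a finite group G with P a p-group normalizing K, and suppose K has a normal Sylow p-subgroup Q. Let C be the subgroup of those k ∈ K whose commutator with every element of P lies in Q (so that C/Q is the fixed-point subgroup of P on K/Q). Then there is a bijection f from the P-invariant irreducible complex characters of K onto the P-invariant irreducible complex characters of C such that, for every P-invariant irreducible character χ of K, the multiplicity of f(χ) in the restriction of χ to C is a natural number congruent to 1 or to −1 modulo p, every other P-invariant irreducible character of C occurs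 in that restriction with multiplicity divisible by p, and the degrees of χ and f(χ) are congruent modulo p up to sign. -/
theorem result {G : Type*} [Group G] [Finite G] (p : ℕ) [Fact p.Prime] (P K Q C : Subgroup G) (hP : IsPGroup p ↥P) (hPK : P ≤ Subgroup.normalizer (K : Set G)) (hQK : Q ≤ K) (hQn : ∀ k ∈ K, ∀ q ∈ Q, k * q * k⁻¹ ∈ Q) (hQp : ∃ a : ℕ, Nat.card ↥Q = p ^ a) (hQsyl : ¬ p ∣ Q.relIndex K) (hCK : C ≤ K) (hC : ∀ k : G, k ∈ C ↔ (k ∈ K ∧ ∀ x ∈ P, x * k * x⁻¹ * k⁻¹ ∈ Q)) : ∃ f : {χ : Cfsg.IrrCharacter ↥K // (∀ x ∈ P, ∀ k k' : ↥K, (k' : G) = x * (k : G) * x⁻¹ → (χ : ↥K → ℂ) k' = (χ : ↥K → ℂ) k)} → {ξ : Cfsg.IrrCharacter ↥C // (∀ x ∈ P, ∀ k k' : ↥C, (k' : G) = x * (k : G) * x⁻¹ → (ξ : ↥C → ℂ) k' = (ξ : ↥C → ℂ) k)}, Function.Bijective f ∧ ∀ χ, (∀ ξ : {ξ : Cfsg.IrrCharacter ↥C // (∀ x ∈ P, ∀ k k' : ↥C, (k' : G) = x * (k : G) * x⁻¹ → (ξ : ↥C → ℂ) k' = (ξ : ↥C → ℂ) k)}, ∃ m : ℕ, (Nat.card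 ↥C : ℂ)⁻¹ * ∑ᶠ c : ↥C, (χ.1 : ↥K → ℂ) (Subgroup.inclusion hCK c) * (starRingEnd ℂ) ((ξ.1 : ↥C → ℂ) c) = (m : ℂ) ∧ (ξ = f χ → ((m : ZMod p) = 1 ∨ (m : ZMod p) = -1)) ∧ (ξ ≠ f χ → p ∣ m)) ∧ ((Cfsg.charDegree ((f χ).1 : ↥C → ℂ) : ZMod p) = (Cfsg.charDegree (χ.1 : ↥K → ℂ) : ZMod p) ∨ (Cfsg.charDegree ((f χ).1 : ↥C → ℂ) : ZMod p) = -(Cfsg.charDegree (χ.1 : ↥K → ℂ) : ZMod p)) := by
  classical
  haveI := Fintype.ofFinite K
  haveI := Fintype.ofFinite C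
  obtain ⟨a, ha⟩ := hQp
  obtain ⟨hA, hB, hC'⟩ := main _ P K Q C rfl hP hPK hQK hQn (IsPGroup.of_card ha) hQsyl hC hCK
  choose g hg hsq hdvd using hA
  refine ⟨fun χ => ⟨g χ.1 χ.2, hg χ.1 χ.2⟩, ⟨fun χ χ' h => ?_, fun ξ => ?_⟩, fun χ => ⟨fun ξ => ?_, ?_⟩⟩
  · have h' : g χ.1 χ.2 = g χ'.1 χ'.2 := congrArg Subtype.val h
    refine Subtype.ext (hC' χ.1 χ'.1 (g χ.1 χ.2) χ.2 χ'.2 (hg _ _) (not_dvd_of_sq (hsq _ _)) ?_)
    rw [h']
    exact not_dvd_of_sq (hsq _ _)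
  · obtain ⟨χ, hχ, hn⟩ := hB ξ.1 ξ.2
    refine ⟨⟨χ, hχ⟩, Subtype.ext ?_⟩
    by_contra hne
    exact hn (hdvd χ hχ ξ.1 ξ.2 (Ne.symm hne))
  · refine ⟨mult (Subgroup.inclusion hCK) χ.1 ξ.1, ?_, fun h => ?_, fun h => ?_⟩
    · rw [finsum_eq_sum_of_fintype, ← mult_spec]
      rfl
    · subst h
      exact sq_eq_one_iff.1 (hsq χ.1 χ.2)
    · exact hdvd χ.1 χ.2 ξ.1 ξ.2 fun e => h (Subtype.ext e)
  · have hdeg : ∀ θ : Cfsg.IrrCharacter C,
        ((θ : C → ℂ) 1) = (Cfsg.charDegree (θ : C → ℂ) : ℂ) := fun θ => by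
      obtain ⟨d, hd⟩ := char_one_eq_natCast (isCharacter_of_irr θ.2)
      simp [Cfsg.charDegree, hd]
    have hdegK : ((χ.1 : K → ℂ) 1) = (Cfsg.charDegree (χ.1 : K → ℂ) : ℂ) := by
      obtain ⟨d, hd⟩ := char_one_eq_natCast (isCharacter_of_irr χ.1.2)
      simp [Cfsg.charDegree, hd]
    have hsum : Cfsg.charDegree (χ.1 : K → ℂ) = ∑ η : Cfsg.IrrCharacter C,
        mult (Subgroup.inclusion hCK) χ.1 η * Cfsg.charDegree (η : C → ℂ) := by
      have h := apply_eq_sum_mult (Subgroup.inclusion hCK) χ.1 1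
      rw [map_one, hdegK, Finset.sum_congr rfl fun η _ => by rw [hdeg η]] at h
      exact_mod_cast h
    have hPC : P ≤ Subgroup.normalizer (C : Set G) := fun y hy => by
      rw [Subgroup.mem_normalizer_iff]
      have key : ∀ y ∈ P, ∀ k ∈ C, y * k * y⁻¹ ∈ C := fun y hy k hk => by
        refine (hC _).2 ⟨(Subgroup.mem_normalizer_iff.1 (hPK hy) k).1 ((hC k).1 hk).1, fun z hz => ?_⟩
        rw [show z * (y * k * y⁻¹) * z⁻¹ * (y * k * y⁻¹)⁻¹ =
          y * ((y⁻¹ * z * y⁻¹⁻¹) * k * (y⁻¹ * z * y⁻¹⁻¹)⁻¹ * k⁻¹) * y⁻¹ by group]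
        exact conj_mem_sylow hQK hQn Fact.out (IsPGroup.of_card ha) hQsyl (hPK hy)
          (((hC k).1 hk).2 _ (P.mul_mem (P.mul_mem (P.inv_mem hy) hz) (P.inv_mem (P.inv_mem hy))))
      refine fun k => ⟨key y hy k, fun hk => ?_⟩
      simpa [mul_assoc] using key y⁻¹ (P.inv_mem hy) _ hk
    have hmod : (Cfsg.charDegree (χ.1 : K → ℂ) : ZMod p) =
        (mult (Subgroup.inclusion hCK) χ.1 (g χ.1 χ.2) : ZMod p) *
          (Cfsg.charDegree (g χ.1 χ.2 : C → ℂ) : ZMod p) := by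
      rw [hsum, Nat.cast_sum, sum_inv P C hP hPC _ (fun s hs θ θ' hr => by
        rw [mult_rel hCK (hPC hs) (χ.2 s hs) hr]
        have h1 := hr 1 1 (by simp)
        simp only [Cfsg.charDegree, h1]), Finset.sum_eq_single (g χ.1 χ.2)]
      · rw [Nat.cast_mul]
      · intro η hη hne
        rw [Nat.cast_mul, (ZMod.natCast_eq_zero_iff _ _).2
          (hdvd χ.1 χ.2 η (Finset.mem_filter.1 hη).2 hne), zero_mul]
      · exact fun h => absurd (hg χ.1 χ.2) fun hi => h (by simpa using hi)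
    rcases sq_eq_one_iff.1 (hsq χ.1 χ.2) with h1 | h1
    · left; rw [hmod, h1, one_mul]
    · right; rw [hmod, h1]; ring

end Cfsg.Agent.S4914
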