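import Cfsg.Statements.S4916
import Cfsg.Agent.Lib.Blocks.BlockBasics

set_option autoImplicit false
open Cfsg CfsgLib.CharTheory CfsgLib.Blocks CfsgLib.Blocks.BlockBasics
open scoped ComplexConjugate

set_option linter.unusedVariables false

namespace Cfsg.Agent.S4916

/-- Let G be a finite group, p a prime and M a maximal ideal of the algebraic integers containing p. Then the principal character is the only irreducible character of degree prime to p in the principal p-block of G if and only if p does not divide the order of G. -/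
theorem result {G : Type*} [Group G] [Finite G] (p : ℕ) [Fact p.Prime] (M : Ideal Cfsg.AlgInt) (hM : Cfsg.IsPModular p M) : (∀ χ : Cfsg.IrrCharacter G, χ ∈ Cfsg.principalBlock M G → ¬ p ∣ Cfsg.charDegree (χ : G → ℂ) → (χ : G → ℂ) = fun _ => (1 : ℂ)) ↔ ¬ p ∣ Nat.card G := by
  classical
  haveI := Fintype.ofFinite G
  haveI := res_isDomain hM
  haveI := res_charP hM
  constructor
  · intro h hd
    obtain ⟨y, hy⟩ := exists_prime_orderOf_dvd_card' (G := G) p hd
    have h1 := weak_orth hM (principalBlock_isPBlock (M := M) (G := G)) (x := (1 : G)) (y := y)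
      (by rw [orderOf_one]; exact hM.1.not_dvd_one) (by rw [hy])
    have hres : ∀ χ : IrrCharacter G, res hM ((χ : G → ℂ) y) = res hM ((χ : G → ℂ) 1) := fun χ => by
      have := irr_res_pPart hM χ (z := y) (w := 1) (Commute.one_right y) (k := 1) (by rw [hy, pow_one])
      rwa [mul_one] at this
    have h2 := congrArg (res hM) h1
    rw [res_sum hM (fun χ _ => (loc hM).mul_mem (memRing_irr hM χ 1) (memRing_irr hM χ y)), res_zero,
      Finset.sum_eq_single (oneIrr G)] at h2
    · rw [res_mul hM (memRing_irr hM _ _) (memRing_irr hM _ _)] at h2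
      have e : ∀ g : G, (oneIrr G : G → ℂ) g = 1 := fun g => rfl
      rw [e, e, res_one, one_mul] at h2
      exact one_ne_zero h2
    · intro χ hχ hne
      rw [res_mul hM (memRing_irr hM χ 1) (memRing_irr hM χ y)]
      by_cases hdvd : p ∣ Cfsg.charDegree (χ : G → ℂ)
      · rw [← irr_charDegree_cast χ, res_natCast, (CharP.cast_eq_zero_iff (Cfsg.AlgInt ⧸ M) p _).2 hdvd,
          zero_mul]
      · exact absurd (Subtype.ext (h χ (mem_bset.1 hχ) hdvd)) hne
    · exact fun h => absurd (mem_bset.2 (oneIrr_mem hM)) h
  · intro h χ hχ _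
    rw [← block_singleton hM h (θ := oneIrr G) (φ := χ) hχ]
    rfl

end Cfsg.Agent.S4916
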