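import Cfsg.Statements.S4923
import Cfsg.Agent.Lib.CharTheory.MaxClassField
import Cfsg.Agent.Lib.TausskyTwo

set_option autoImplicit false
open Cfsg CfsgLib.CharTheory
open scoped commutatorElement

namespace Cfsg.Agent.S4923

theorem comm_of_sup_eq_top {S : Type*} [Group S] [Finite S] (h2 : IsPGroup 2 S) (x : S)
    (h : Subgroup.zpowers x ⊔ commutator S = ⊤) (a b : S) : a * b = b * a := by
  haveI := Fact.mk Nat.prime_two
  have e : Subgroup.zpowers x = ⊤ := frattini_nongenerating
    (top_le_iff.mp (h ▸ sup_le_sup_left (CfsgLib.commutator_le_frattini_pGroup h2) _))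
  obtain ⟨i, rfl⟩ := Subgroup.mem_zpowers_iff.mp (e ▸ Subgroup.mem_top a)
  obtain ⟨j, rfl⟩ := Subgroup.mem_zpowers_iff.mp (e ▸ Subgroup.mem_top b)
  exact zpow_mul_comm x i j

theorem index_ne_small {S : Type*} [Group S] [Finite S] (h2 : IsPGroup 2 S)
    (hna : ¬ ∀ a b : S, a * b = b * a) : (commutator S).index ≠ 1 ∧ (commutator S).index ≠ 2 := by
  constructor
  · intro h
    rw [Subgroup.index_eq_one] at h
    exact hna (comm_of_sup_eq_top h2 1 (by rw [h, sup_top_eq]))
  · intro h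
    obtain ⟨x, hx⟩ : ∃ x, x ∉ commutator S := by
      by_contra hne
      push Not at hne
      rw [Subgroup.index_eq_one.mpr (eq_top_iff.mpr fun x _ => hne x)] at h
      omega
    refine hna (comm_of_sup_eq_top h2 x ?_)
    rcases (Nat.dvd_prime Nat.prime_two).mp (h ▸ Subgroup.index_dvd_of_le
      (le_sup_right : commutator S ≤ Subgroup.zpowers x ⊔ commutator S)) with h' | h'
    · exact Subgroup.index_eq_one.mp h'
    · exfalso
      apply hx
      have e := Subgroup.relIndex_mul_index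
        (le_sup_right : commutator S ≤ Subgroup.zpowers x ⊔ commutator S)
      rw [h', h] at e
      have e1 : (commutator S).relIndex (Subgroup.zpowers x ⊔ commutator S) = 1 := by omega
      exact Subgroup.relIndex_eq_one.mp e1 (Subgroup.mem_sup_left (Subgroup.mem_zpowers x))

theorem sq_mem {S : Type*} [Group S] [Finite S] (h2 : IsPGroup 2 S)
    (h4 : (commutator S).index = 4) (h8 : 8 ≤ Nat.card S) (g : S) : g ^ 2 ∈ commutator S := by
  by_contra hg
  have hd : orderOf (g : S ⧸ commutator S) ∣ 2 ^ 2 := by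
    have := orderOf_dvd_natCard (g : S ⧸ commutator S)
    rwa [← Subgroup.index_eq_card, h4] at this
  obtain ⟨k, hk, he⟩ := (Nat.dvd_prime_pow Nat.prime_two).mp hd
  have hk2 : k = 2 := by
    by_contra hne
    apply hg
    rw [← QuotientGroup.eq_one_iff, QuotientGroup.mk_pow, ← orderOf_dvd_iff_pow_eq_one, he]
    exact (pow_dvd_pow 2 (show k ≤ 1 by omega)).trans (by norm_num)
  subst hk2
  have hz : Subgroup.zpowers (g : S ⧸ commutator S) = ⊤ := by
    refine Subgroup.eq_top_of_card_eq _ ?_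
    rw [Nat.card_zpowers, he, ← Subgroup.index_eq_card, h4]; norm_num
  have hcomm := comm_of_sup_eq_top h2 g (eq_top_iff.mpr fun y _ => by
    obtain ⟨i, hi⟩ := Subgroup.mem_zpowers_iff.mp (hz ▸ Subgroup.mem_top (y : S ⧸ commutator S))
    rw [← QuotientGroup.mk_zpow, QuotientGroup.eq] at hi
    have : y = g ^ i * ((g ^ i)⁻¹ * y) := by group
    rw [this]
    exact Subgroup.mul_mem_sup (Subgroup.zpow_mem _ (Subgroup.mem_zpowers g) i) hi)
  have hb : commutator S = ⊥ := by
    rw [eq_bot_iff, commutator_def, Subgroup.commutator_le]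
    intro a _ b _
    rw [Subgroup.mem_bot, commutatorElement_eq_one_iff_mul_comm]
    exact hcomm a b
  rw [hb, Subgroup.index_bot] at h4
  omega

/-- Let G be a finite group with Sylow 2-subgroup P of order 2^n ≥ 8, and let ζ be a primitive 2^(n−1)-th root of unity in ℂ. Then the commutator subgroup of P has index 4 in P if and only if there is an element g of P whose conjugacy class in G has even size and such that the field generated over ℚ by the values at g of all irreducible complex characters of G equals ℚ(ζ + ζ⁻¹) or ℚ(ζ − ζ⁻¹). -/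
theorem result {G : Type*} [Group G] [Finite G] (P : Sylow 2 G) (n : ℕ) (hn : 3 ≤ n) (hP : Nat.card P = 2 ^ n) (ζ : ℂ) (hζ : IsPrimitiveRoot ζ (2 ^ (n - 1))) :
    (commutator ↥P).index = 4 ↔
      ∃ g : G, g ∈ (P : Subgroup G) ∧ 2 ∣ (Subgroup.centralizer ({g} : Set G)).index ∧
        (IntermediateField.adjoin ℚ {z : ℂ | ∃ χ : Cfsg.IrrCharacter G, (χ : G → ℂ) g = z} = IntermediateField.adjoin ℚ ({ζ + ζ⁻¹} : Set ℂ) ∨
          IntermediateField.adjoin ℚ {z : ℂ | ∃ χ : Cfsg.IrrCharacter G, (χ : G → ℂ) g = z} = IntermediateField.adjoin ℚ ({ζ - ζ⁻¹} : Set ℂ)) := by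
  classical
  haveI := Fact.mk Nat.prime_two
  have h2P : IsPGroup 2 ↥(P : Subgroup G) := P.isPGroup'
  have hPc : Nat.card ↥(P : Subgroup G) = 2 ^ n := hP
  have hK0 : (2 : ℕ) ^ (n - 1) ≠ 0 := pow_ne_zero _ (by norm_num)
  have h8 : 8 ≤ Nat.card ↥(P : Subgroup G) := by
    rw [hPc]
    exact le_trans (by norm_num) (Nat.pow_le_pow_right (by norm_num : 0 < 2) hn)
  have hpow : ∀ g : G, orderOf g = 2 ^ (n - 1) → ∀ i j : ℕ, g ^ i = g ^ j ↔ ζ ^ i = ζ ^ j := fun g hg i j => by
    rw [pow_eq_pow_iff_modEq, hg, (hζ.isOfFinOrder hK0).pow_eq_pow_iff_modEq, ← hζ.eq_orderOf]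
  have hcf : ∀ (g b : G) (r : ℕ), b⁻¹ * g * b = g ^ r → ∀ χ : IrrCharacter G,
      (χ : G → ℂ) (g ^ r) = (χ : G → ℂ) g := by
    intro g b r hb χ
    rw [← hb]
    exact (isClassFunction_iff_isConj.mp (isClassFunction_irr χ.2)) _ _
      (isConj_iff.mpr ⟨b, by group⟩)
  constructor
  · intro h4
    obtain ⟨m, a, b, hm2, ha, hcard, hb, -, hcases⟩ :=
      CfsgLib.TausskyTwo.cases_taussky h2P h4 (sq_mem h2P h4 h8) h8
    have hmn : m = n - 1 := by
      have := Nat.pow_right_injective le_rfl (hcard.symm.trans hPc)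
      omega
    subst hmn
    have hg : orderOf (a : G) = 2 ^ (n - 1) := by rw [Subgroup.orderOf_coe]; exact ha
    have hhalf : ζ ^ (2 ^ (n - 1 - 1)) = -1 := by
      have h1 : IsPrimitiveRoot (ζ ^ (2 ^ (n - 1 - 1))) 2 :=
        hζ.pow (Nat.pos_of_ne_zero hK0) (by rw [← pow_succ]; congr 1; omega)
      exact h1.eq_neg_one_of_two_right
    have hmain : ∀ (r : ℕ) (ε : ℂ), (ε = 1 ∨ ε = -1) → b * a * b⁻¹ = a ^ r → ζ ^ r = ε * ζ⁻¹ →
        ζ ^ r ≠ ζ →
        2 ∣ (Subgroup.centralizer ({(a : G)} : Set G)).index ∧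
          MaxClassField.valField (a : G) = IntermediateField.adjoin ℚ ({ζ + ε * ζ⁻¹} : Set ℂ) := by
      intro r ε hε hbr hr hrne
      have hb' : ((b⁻¹ : ↥(P : Subgroup G)) : G)⁻¹ * (a : G) * ((b⁻¹ : ↥(P : Subgroup G)) : G) =
          (a : G) ^ r := by
        rw [← Subgroup.coe_pow, ← hbr]; simp
      have hne : (a : G) ^ r ≠ (a : G) := fun e => hrne (by
        have := (hpow _ hg r 1).mp (by rw [pow_one]; exact e)
        rwa [pow_one] at this)
      obtain ⟨honly, heven⟩ := MaxClassField.automizer_two (by omega) P hP hg hb' hne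
      refine ⟨heven, le_antisymm (MaxClassField.valField_le hζ hK0 hg hε hr (hcf _ _ r hb')) ?_⟩
      rw [IntermediateField.adjoin_simple_le_iff, ← hr]
      exact MaxClassField.add_mem_valField hζ hK0 hg hb' hne honly
    rcases hcases with ⟨hba, -⟩ | ⟨hm3, hba, -⟩
    · obtain ⟨heven, heq⟩ := hmain (2 ^ (n - 1) - 1) 1 (Or.inl rfl) (by
        rw [hba, ← ha, eq_comm, eq_inv_iff_mul_eq_one, ← pow_succ,
          Nat.sub_add_cancel (orderOf_pos a), pow_orderOf_eq_one]) (by
        rw [one_mul]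
        refine eq_inv_of_mul_eq_one_left ?_
        rw [← pow_succ, Nat.sub_add_cancel (Nat.pos_of_ne_zero hK0), hζ.pow_eq_one]) (by
        intro e
        have h4' : 4 ≤ 2 ^ (n - 1) := by
          calc 4 = 2 ^ 2 := by norm_num
            _ ≤ _ := Nat.pow_le_pow_right (by norm_num) (by omega)
        have := hζ.pow_inj (i := 2 ^ (n - 1) - 1) (j := 1) (by omega) (by omega) (by rwa [pow_one])
        omega)
      exact ⟨a, a.2, heven, Or.inl (by rw [show (ζ + ζ⁻¹) = ζ + 1 * ζ⁻¹ by ring]; exact heq)⟩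
    · obtain ⟨heven, heq⟩ := hmain (2 ^ (n - 1 - 1) - 1) (-1) (Or.inr rfl) hba (by
        rw [← hhalf, eq_mul_inv_iff_mul_eq₀ (hζ.ne_zero hK0), ← pow_succ, Nat.sub_add_cancel
          Nat.one_le_two_pow]) (by
        intro e
        have h4' : 4 ≤ 2 ^ (n - 1 - 1) := by
          calc 4 = 2 ^ 2 := by norm_num
            _ ≤ _ := Nat.pow_le_pow_right (by norm_num) (by omega)
        have hlt : 2 ^ (n - 1 - 1) ≤ 2 ^ (n - 1) := Nat.pow_le_pow_right (by norm_num) (by omega)
        have := hζ.pow_inj (i := 2 ^ (n - 1 - 1) - 1) (j := 1) (by omega) (by omega) (by rwa [pow_one])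
        omega)
      exact ⟨a, a.2, heven, Or.inr (by rw [show (ζ - ζ⁻¹) = ζ + (-1) * ζ⁻¹ by ring]; exact heq)⟩
  · rintro ⟨g, hgP, heven, hfield⟩
    have hnotcomm : ¬ ∀ y ∈ (P : Subgroup G), y * g = g * y := fun hc => by
      refine P.not_dvd_index (heven.trans (Subgroup.index_dvd_of_le fun y hy => ?_))
      exact Subgroup.mem_centralizer_singleton_iff.mpr (hc y hy)
    have hna : ¬ ∀ a b : ↥(P : Subgroup G), a * b = b * a := fun hc =>
      hnotcomm fun y hy => congrArg Subtype.val (hc ⟨y, hy⟩ ⟨g, hgP⟩)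
    obtain ⟨hne1, hne2⟩ := index_ne_small h2P hna
    suffices hd : (commutator ↥(P : Subgroup G)).index ∣ 2 ^ 2 by
      obtain ⟨k, hk, he⟩ := (Nat.dvd_prime_pow Nat.prime_two).mp hd
      change (commutator ↥(P : Subgroup G)).index = 4
      rcases (show k = 0 ∨ k = 1 ∨ k = 2 by omega) with rfl | rfl | rfl
      · exact absurd he hne1
      · exact absurd he hne2
      · exact he
    have hmul := (commutator ↥(P : Subgroup G)).card_mul_index
    rw [hPc] at hmul
    obtain ⟨c, -, hc⟩ := (Nat.dvd_prime_pow Nat.prime_two).mp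
      (hmul ▸ dvd_mul_left (commutator ↥(P : Subgroup G)).index _ :
        (commutator ↥(P : Subgroup G)).index ∣ 2 ^ n)
    have hcn : c < n := by
      by_contra hge
      push Not at hge
      apply hna
      intro x y
      have hb : commutator ↥(P : Subgroup G) = ⊥ := by
        refine Subgroup.eq_bot_of_card_le _ ?_
        by_contra hlt
        push Not at hlt
        have : 2 ^ n ≤ 2 ^ c := Nat.pow_le_pow_right (by norm_num) hge
        rw [hc] at hmul
        nlinarith [pow_pos (show (0:ℕ) < 2 by norm_num) n]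
      have : ⁅x, y⁆ ∈ commutator ↥(P : Subgroup G) :=
        Subgroup.commutator_mem_commutator (Subgroup.mem_top _) (Subgroup.mem_top _)
      rwa [hb, Subgroup.mem_bot, commutatorElement_eq_one_iff_mul_comm] at this
    rcases (show n = 3 ∨ 4 ≤ n by omega) with rfl | hn4
    · rw [hc]; exact pow_dvd_pow 2 (by omega)
    obtain ⟨ε, hε, hmem⟩ : ∃ ε : ℂ, (ε = 1 ∨ ε = -1) ∧ ζ + ε * ζ⁻¹ ∈ MaxClassField.valField g := by
      rcases hfield with h | h
      · refine ⟨1, Or.inl rfl, ?_⟩
        rw [one_mul]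
        show ζ + ζ⁻¹ ∈ IntermediateField.adjoin ℚ {z : ℂ | ∃ χ : IrrCharacter G, (χ : G → ℂ) g = z}
        rw [h]
        exact IntermediateField.mem_adjoin_simple_self ℚ _
      · refine ⟨-1, Or.inr rfl, ?_⟩
        rw [neg_one_mul, ← sub_eq_add_neg]
        show ζ - ζ⁻¹ ∈ IntermediateField.adjoin ℚ {z : ℂ | ∃ χ : IrrCharacter G, (χ : G → ℂ) g = z}
        rw [h]
        exact IntermediateField.mem_adjoin_simple_self ℚ _
    have hK : 2 ^ (n - 1) = 2 * (2 * 2 ^ (n - 3)) := by
      rw [← mul_assoc, show n - 1 = n - 3 + 2 by omega, pow_add]; ring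
    have hnot := MaxClassField.add_not_mem (h := 2 ^ (n - 3))
      (Nat.one_lt_two_pow (by omega)) (dvd_pow_self 2 (by omega)) (hK ▸ hζ) hε
    obtain ⟨k, hk⟩ := IsPGroup.iff_orderOf.mp h2P ⟨g, hgP⟩
    rw [Subgroup.orderOf_mk] at hk
    have hk1 : ¬ k ≤ n - 2 := fun hle => hnot (MaxClassField.valField_le_sq_of_order
      (N := 2 * 2 ^ (n - 3)) (hK ▸ hζ) (by positivity) (by
        rw [hk, show 2 * 2 ^ (n - 3) = 2 ^ (n - 2) by rw [← pow_succ']; congr 1; omega]
        exact pow_dvd_pow 2 hle) hmem)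
    set Y := Subgroup.zpowers (⟨g, hgP⟩ : ↥(P : Subgroup G)) with hY
    have hYc : Nat.card Y = 2 ^ k := by rw [Nat.card_zpowers, Subgroup.orderOf_mk, hk]
    have hk2 : k < n := by
      have hd := Subgroup.card_subgroup_dvd_card Y
      rw [hYc, hPc, Nat.pow_dvd_pow_iff_le_right (by norm_num)] at hd
      refine lt_of_le_of_ne hd ?_
      rintro rfl
      have hYt : Y = ⊤ := Subgroup.eq_top_of_card_eq _ (hYc.trans hPc.symm)
      apply hnotcomm
      intro y hy
      obtain ⟨i, hi⟩ := Subgroup.mem_zpowers_iff.mp (hYt ▸ Subgroup.mem_top (⟨y, hy⟩ : ↥(P : Subgroup G)))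
      have := congrArg Subtype.val hi
      simp only [Subgroup.coe_zpow] at this
      rw [← this]
      exact ((Commute.refl g).zpow_left i).eq
    have hkn : k = n - 1 := by omega
    subst hkn
    have hg : orderOf g = 2 ^ (n - 1) := hk
    have hYi : Y.index = 2 := by
      have h := Y.card_mul_index
      rw [hYc, hPc] at h
      refine Nat.eq_of_mul_eq_mul_left (pow_pos (by norm_num : 0 < 2) (n - 1)) (h.trans ?_)
      rw [← pow_succ]; congr 1; omega
    have hYn : Y.Normal := Subgroup.normal_of_index_eq_two hYi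
    obtain ⟨y, hy, hyg⟩ : ∃ y ∈ (P : Subgroup G), y * g ≠ g * y := by
      by_contra hne
      push Not at hne
      exact hnotcomm hne
    obtain ⟨r₀, hr₀⟩ := mem_powers_iff_mem_zpowers.mpr
      (hYn.conj_mem _ (Subgroup.mem_zpowers (⟨g, hgP⟩ : ↥(P : Subgroup G))) ⟨y, hy⟩)
    set r := r₀ % 2 ^ (n - 1) with hr
    have hrg : g ^ r = y * g * y⁻¹ := by
      rw [hr, ← hg, pow_mod_orderOf]
      simpa using congrArg Subtype.val hr₀
    have hrlt : r < 2 ^ (n - 1) := Nat.mod_lt _ (Nat.pos_of_ne_zero hK0)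
    have hr1 : r ≠ 1 := by
      intro e
      rw [e, pow_one] at hrg
      apply hyg
      calc y * g = y * g * y⁻¹ * y := by group
        _ = g * y := by rw [← hrg]
    -- the square of `y` centralizes `g`
    have hrr : g ^ (r * r) = g := by
      have hy2 := Subgroup.sq_mem_of_index_two hYi (⟨y, hy⟩ : ↥(P : Subgroup G))
      obtain ⟨i, hi⟩ := Subgroup.mem_zpowers_iff.mp hy2
      have hi' : g ^ i = y ^ 2 := by simpa using congrArg Subtype.val hi
      rw [pow_mul, hrg, conj_pow, hrg]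
      calc y * (y * g * y⁻¹) * y⁻¹ = y ^ 2 * g * (y ^ 2)⁻¹ := by simp only [pow_two, mul_inv_rev, mul_assoc]
        _ = g := by rw [← hi', ((Commute.refl g).zpow_left i).eq, mul_inv_cancel_right]
    have hmod : r * r ≡ 1 [MOD 2 ^ (n - 1)] := by
      rw [← hg, ← pow_eq_pow_iff_modEq, pow_one]; exact hrr
    obtain ⟨s, hs⟩ : Odd r := by
      have h2d : 2 ∣ 2 ^ (n - 1) := dvd_pow_self 2 (by omega)
      have h1 : (r * r) % 2 = 1 := hmod.of_dvd h2d
      exact (Nat.odd_mul.mp (Nat.odd_iff.mpr h1)).1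
    have hdiv : 2 ^ (n - 3) ∣ s * (s + 1) := by
      have hle : 1 ≤ r * r := by nlinarith
      have := (Nat.modEq_iff_dvd' hle).mp hmod.symm
      rw [show r * r - 1 = 2 * (2 * (s * (s + 1))) by
        rw [hs]; ring_nf; omega, hK] at this
      exact Nat.dvd_of_mul_dvd_mul_left (by norm_num) (Nat.dvd_of_mul_dvd_mul_left (by norm_num) this)
    have hsplit : 2 ^ (n - 3) ∣ s ∨ 2 ^ (n - 3) ∣ s + 1 := by
      rcases Nat.even_or_odd s with he | ho
      · left
        exact ((Nat.coprime_two_left.mpr he.add_one).pow_left (n - 3)).dvd_of_dvd_mul_right hdiv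
      · right
        exact ((Nat.coprime_two_left.mpr ho).pow_left (n - 3)).dvd_of_dvd_mul_left hdiv
    set h := 2 ^ (n - 3) with hh
    have hh1 : 1 < h := Nat.one_lt_two_pow (by omega)
    have hcases : r = 2 * h + 1 ∨ r + 1 = 2 * (2 * h) ∨ r + 1 = 2 * h := by
      rw [hK] at hrlt
      rcases hsplit with ⟨c', hc'⟩ | ⟨c', hc'⟩
      · have : c' < 2 := by nlinarith
        rcases (show c' = 0 ∨ c' = 1 by omega) with rfl | rfl
        · exfalso; apply hr1; omega
        · left; rw [hs, hc', mul_one]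
      · have : c' ≤ 2 := by nlinarith
        rcases (show c' = 0 ∨ c' = 1 ∨ c' = 2 by omega) with rfl | rfl | rfl
        · omega
        · right; right; omega
        · right; left; omega
    have hb : (y⁻¹)⁻¹ * g * y⁻¹ = g ^ r := by rw [inv_inv, hrg]
    rcases hcases with hcase | hcase
    · exfalso
      have hhalf : ζ ^ (2 * h) = -1 := by
        have h1 : IsPrimitiveRoot (ζ ^ (2 * h)) 2 :=
          hζ.pow (Nat.pos_of_ne_zero hK0) (by rw [hK]; ring)
        exact h1.eq_neg_one_of_two_right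
      refine hnot (MaxClassField.valField_le_sq_of_fix hζ hK0 hg (r := r) ?_ (hcf _ _ r hb) hmem)
      rw [hcase, pow_succ, hhalf, neg_one_mul]
    · have hgcd : Nat.gcd (2 ^ (n - 1)) (r - 1) = 2 := by
        obtain ⟨e, heodd, he⟩ : ∃ e, Odd e ∧ r - 1 = 2 * e := by
          rcases hcase with hcase | hcase
          · exact ⟨2 * h - 1, ⟨h - 1, by omega⟩, by omega⟩
          · obtain ⟨d, hd⟩ := dvd_pow_self 2 (show n - 3 ≠ 0 by omega)
            rw [← hh] at hd
            exact ⟨h - 1, ⟨d - 1, by omega⟩, by omega⟩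
        rw [he, show 2 ^ (n - 1) = 2 * 2 ^ (n - 2) by rw [← pow_succ']; congr 1; omega,
          Nat.gcd_mul_left, Nat.Coprime.gcd_eq_one ((Nat.coprime_two_left.mpr heodd).pow_left _)]
      have hrone : 1 ≤ r := by omega
      have hmemc : (⟨g, hgP⟩ : ↥(P : Subgroup G)) ^ (r - 1) ∈ commutator ↥(P : Subgroup G) := by
        have e : (⟨g, hgP⟩ : ↥(P : Subgroup G)) ^ (r - 1) =
            ⁅(⟨y, hy⟩ : ↥(P : Subgroup G)), ⟨g, hgP⟩⁆ := by
          apply Subtype.ext
          simp only [Subgroup.coe_pow, commutatorElement_def, Subgroup.coe_mul, Subgroup.coe_inv]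
          rw [pow_sub g hrone, pow_one, hrg]
        rw [e]
        exact Subgroup.commutator_mem_commutator (Subgroup.mem_top _) (Subgroup.mem_top _)
      have hord : orderOf ((⟨g, hgP⟩ : ↥(P : Subgroup G)) ^ (r - 1)) = 2 ^ (n - 2) := by
        rw [orderOf_pow, Subgroup.orderOf_mk, hg, hgcd,
          show 2 ^ (n - 1) = 2 ^ (n - 2) * 2 by rw [← pow_succ]; congr 1; omega,
          Nat.mul_div_cancel _ (by norm_num)]
      have hd := Subgroup.card_dvd_of_le (Subgroup.zpowers_le.mpr hmemc)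
      rw [Nat.card_zpowers, hord] at hd
      obtain ⟨d, hd'⟩ := hd
      have h22 : 2 ^ (n - 2) * 2 ^ 2 = 2 ^ n := by rw [← pow_add]; congr 1; omega
      refine Dvd.intro_left d ?_
      refine Nat.eq_of_mul_eq_mul_left (pow_pos (by norm_num : 0 < 2) (n - 2)) ?_
      rw [h22, ← hmul, hd', mul_assoc]

end Cfsg.Agent.S4923
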