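import Cfsg.Statements.S4930
import Cfsg.Agent.Lib.OddDegreeSum

set_option autoImplicit false
open Cfsg

namespace Cfsg.Agent.S4930

/-- Let G be a finite group, P a Sylow 2-subgroup of G with normalizer N, and P′ the commutator subgroup of P. Then the sum of the squares of the degrees of the irreducible complex characters of G of odd degree is at least the index of P′ in N (the order of N divided by the order of P′), and equality holds if and only if N has a normal complement in G: a normal subgroup K of G with K ∩ N = 1 and KN = G. -/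
theorem result {G : Type*} [Group G] [Finite G] (P : Sylow 2 G) :
    Nat.card (Subgroup.normalizer ((P : Subgroup G) : Set G)) ≤ Nat.card (commutator ↥P) * (∑ᶠ χ : {χ : Cfsg.IrrCharacter G // ¬ 2 ∣ Cfsg.charDegree (χ : G → ℂ)}, Cfsg.charDegree (χ.1 : G → ℂ) ^ 2) ∧
    (Nat.card (Subgroup.normalizer ((P : Subgroup G) : Set G)) = Nat.card (commutator ↥P) * (∑ᶠ χ : {χ : Cfsg.IrrCharacter G // ¬ 2 ∣ Cfsg.charDegree (χ : G → ℂ)}, Cfsg.charDegree (χ.1 : G → ℂ) ^ 2) ↔
      ∃ K : Subgroup G, K.Normal ∧ K ⊓ Subgroup.normalizer ((P : Subgroup G) : Set G) = ⊥ ∧ K ⊔ Subgroup.normalizer ((P : Subgroup G) : Set G) = ⊤) := by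
  classical
  haveI : Fact (Nat.Prime 2) := ⟨Nat.prime_two⟩
  haveI := Fintype.ofFinite (IrrCharacter G)
  set S := ∑ χ ∈ Finset.univ.filter (fun χ : IrrCharacter G =>
        ¬ 2 ∣ charDegree (χ : G → ℂ)), charDegree (χ : G → ℂ) ^ 2 with hS
  have hsum : (∑ᶠ χ : {χ : Cfsg.IrrCharacter G // ¬ 2 ∣ Cfsg.charDegree (χ : G → ℂ)},
      Cfsg.charDegree (χ.1 : G → ℂ) ^ 2) = S := by
    rw [finsum_eq_sum_of_fintype, hS]
    exact (Finset.sum_subtype _ (fun x => by simp) (fun χ : IrrCharacter G =>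
      charDegree (χ : G → ℂ) ^ 2)).symm
  have hN : Nat.card (commutator ↥P) * (CfsgLib.OddSum.dn P).index =
      Nat.card (Subgroup.normalizer ((P : Subgroup G) : Set G)) := by
    rw [← CfsgLib.OddSum.card_dn P, mul_comm]
    exact Subgroup.index_mul_card _
  obtain ⟨hle, heq⟩ := CfsgLib.OddSum.bound P
  rw [hsum, ← hN]
  refine ⟨Nat.mul_le_mul le_rfl hle, ?_, ?_⟩
  · intro h
    have h' : S = (CfsgLib.OddSum.dn P).index :=
      (Nat.eq_of_mul_eq_mul_left Nat.card_pos h).symm
    obtain ⟨hker, hext⟩ := heq h'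
    exact CfsgLib.OddSum.exists_complement P hker hext
  · rintro ⟨K, hK, hinf, hsup⟩
    haveI := hK
    rw [hS, CfsgLib.OddSum.sum_of_complement P K hinf hsup]

end Cfsg.Agent.S4930
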