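import Cfsg.Statements.S4955
import Cfsg.Agent.Lib.CharTheory.More
import Cfsg.Agent.Lib.CharTheory.PowerMap
import Cfsg.Agent.Lib.CharTheory.Degree

set_option autoImplicit false
open Cfsg

namespace Cfsg.Agent.S4955

/-- Let X be a finite group with an abelian normal Sylow p-subgroup V (a normal p-subgroup of index prime to p in which any two elements commute), and let G be a complement to V in X. Then for every v in V, writing C for the centralizer of v in G, the number k(X) of conjugacy classes of X satisfies k(X) ≤ (order of C)·(order of V) − ((order of G) − k(G)); the statement is written with the subtracted term moved to the left. In particular, if some v in V is centralized by no nonidentity element of G, then k(X) is at most the order of V. -/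
theorem result {X : Type*} [Group X] [Finite X] (p : ℕ) [Fact p.Prime] (V : Subgroup X) [V.Normal] (hVp : IsPGroup p V) (hidx : ¬ p ∣ V.index) (hab : ∀ a ∈ V, ∀ b ∈ V, a * b = b * a) (G : Subgroup X) (hGV : Subgroup.IsComplement' V G) (v : X) (hv : v ∈ V) : Nat.card (ConjClasses X) + Nat.card G ≤ Nat.card ↥(G ⊓ Subgroup.centralizer ({v} : Set X)) * Nat.card V + Nat.card (ConjClasses G) := by
  classical
  have := Fintype.ofFinite X
  have hp : p.Prime := Fact.out
  have hG : Nat.card G = V.index := hGV.symm.index_eq_card.symm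
  have hdeg : ∀ χ : Cfsg.IrrCharacter X, ¬ p ∣ Cfsg.charDegree (χ : X → ℂ) := by
    intro χ hd
    obtain ⟨m, ρ, hρ, hρc⟩ := χ.2
    have h1 := CfsgLib.CharTheory.degree_dvd_index_of_abelian_normal ρ V hab
    rw [show Module.finrank ℂ (Fin m → ℂ) = Cfsg.charDegree (χ : X → ℂ) by
      rw [Cfsg.charDegree, ← hρc, ρ.char_one]; simp] at h1
    exact hidx (hd.trans h1)
  have hne : ∀ χ : Cfsg.IrrCharacter X, (χ : X → ℂ) v ≠ 0 := by
    intro χ h0
    obtain ⟨k, hk⟩ := IsPGroup.iff_orderOf.mp hVp ⟨v, hv⟩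
    have hvk : v ^ p ^ k = 1 := by
      have h1 := pow_orderOf_eq_one (⟨v, hv⟩ : V)
      rw [hk] at h1
      exact congrArg Subtype.val h1
    have h1 := CfsgLib.CharTheory.genChar_frob_modEq (p := p)
      (CfsgLib.CharTheory.isGenChar_of_char (CfsgLib.CharTheory.isCharacter_of_irr χ.2)) v k
      (a := 0) (b := (Cfsg.charDegree (χ : X → ℂ) : ℤ)) (by simpa using h0)
      (by rw [hvk, (CfsgLib.CharTheory.charDegree_spec' χ.2).1]; simp)
    exact hdeg χ (Int.natCast_dvd_natCast.mp (Int.modEq_zero_iff_dvd.mp h1))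
  set T := fun χ : Cfsg.IrrCharacter X => ∀ n ∈ V, (χ : X → ℂ) n = (χ : X → ℂ) 1 with hT
  have := Fintype.ofFinite {χ : Cfsg.IrrCharacter X // T χ}
  have hin : ∑ χ ∈ Finset.univ.filter T, ‖(χ : X → ℂ) v‖ ^ 2 = (Nat.card G : ℝ) := by
    rw [hG, ← CfsgLib.CharTheory.sum_degree_sq_kernel V, Nat.cast_sum,
      Finset.sum_subtype (F := inferInstance) (Finset.univ.filter T) (p := T) (fun χ => by simp)]
    refine Finset.sum_congr rfl fun χ _ => ?_
    rw [χ.2 v hv, CfsgLib.CharTheory.norm_one_eq_charDegree χ.1.2]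
    push_cast
    ring
  have hincard : (Finset.univ.filter T).card = Nat.card (ConjClasses G) := by
    rw [← Fintype.card_subtype, ← Nat.card_eq_fintype_card,
      ← Nat.card_congr (CfsgLib.CharTheory.quotientIrrEquiv V),
      CfsgLib.CharTheory.card_irr_eq_card_conjClasses]
    let e := hGV.symm.QuotientMulEquiv
    exact Nat.card_congr
      { toFun := ConjClasses.map e.toMonoidHom
        invFun := ConjClasses.map e.symm.toMonoidHom
        left_inv := fun C => by
          obtain ⟨x, rfl⟩ := ConjClasses.mk_surjective C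
          exact congrArg ConjClasses.mk (e.symm_apply_apply x)
        right_inv := fun C => by
          obtain ⟨x, rfl⟩ := ConjClasses.mk_surjective C
          exact congrArg ConjClasses.mk (e.apply_symm_apply x) }
  have hC : Nat.card (Subgroup.centralizer ({v} : Set X)) =
      Nat.card ↥(G ⊓ Subgroup.centralizer ({v} : Set X)) * Nat.card V := by
    set C := Subgroup.centralizer ({v} : Set X)
    have hVC : V ≤ C := fun a ha => Subgroup.mem_centralizer_singleton_iff.mpr (hab a ha v hv)
    have h1 : ∀ c : C, ∃ g : ↥(G ⊓ C), ∃ u : V, (c : X) = u * g := by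
      rintro ⟨c, hc⟩
      obtain ⟨⟨u, g⟩, hug⟩ := hGV.2 c
      refine ⟨⟨g, g.2, ?_⟩, u, hug.symm⟩
      have : (g : X) = (u : X)⁻¹ * c := by rw [← hug]; group
      rw [this]
      exact C.mul_mem (C.inv_mem (hVC u.2)) hc
    choose g u hgu using h1
    have hbij : Function.Bijective
        (fun q : ↥(G ⊓ C) × V => (⟨(q.2 : X) * q.1, mul_mem (hVC q.2.2) q.1.2.2⟩ : C)) := by
      refine ⟨fun q q' h => ?_, fun c => ⟨(g c, u c), Subtype.ext (hgu c).symm⟩⟩
      have h2 := @hGV.1 (q.2, ⟨q.1, q.1.2.1⟩) (q'.2, ⟨q'.1, q'.1.2.1⟩) (congrArg Subtype.val h)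
      simp only [Prod.mk.injEq, Subtype.mk.injEq] at h2
      exact Prod.ext (Subtype.ext h2.2) h2.1
    rw [← Nat.card_prod, Nat.card_congr (Equiv.ofBijective _ hbij)]
  have hall := CfsgLib.CharTheory.sum_irr_mul_conj v v
  rw [if_pos (IsConj.refl v), hC, ← Finset.sum_filter_add_sum_filter_not Finset.univ T] at hall
  simp only [Complex.mul_conj, Complex.normSq_eq_norm_sq] at hall
  rw [← Complex.ofReal_sum, ← Complex.ofReal_sum, ← Complex.ofReal_add, hin] at hall
  set c := Nat.card ↥(G ⊓ Subgroup.centralizer ({v} : Set X)) * Nat.card V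
  have hall' : (Nat.card G : ℝ) + ∑ χ ∈ Finset.univ.filter (fun χ => ¬ T χ), ‖(χ : X → ℂ) v‖ ^ 2
      = (c : ℝ) := by exact_mod_cast hall
  have hle : Nat.card G ≤ c := by
    have h0 : 0 ≤ ∑ χ ∈ Finset.univ.filter (fun χ => ¬ T χ), ‖(χ : X → ℂ) v‖ ^ 2 :=
      Finset.sum_nonneg fun χ _ => sq_nonneg _
    exact_mod_cast (show (Nat.card G : ℝ) ≤ c by linarith)
  have hcount := CfsgLib.CharTheory.card_le_of_sum_normSq (Nat.card_pos (α := X)).ne'
    (Finset.univ.filter fun χ : Cfsg.IrrCharacter X => ¬ T χ) (fun χ => (χ : X → ℂ) v)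
    (fun χ _ => CfsgLib.CharTheory.char_mem_rootField (CfsgLib.CharTheory.isCharacter_of_irr χ.2) v)
    (fun χ _ => CfsgLib.CharTheory.isIntegral_of_char (CfsgLib.CharTheory.isCharacter_of_irr χ.2) v)
    (fun χ _ => hne χ) (c - Nat.card G) (by
      simp only [Complex.mul_conj, Complex.normSq_eq_norm_sq]
      rw [← Complex.ofReal_sum, ← Complex.ofReal_natCast, Nat.cast_sub hle]
      congr 1
      linarith)
  have hk := Finset.card_filter_add_card_filter_not (s := (Finset.univ : Finset (Cfsg.IrrCharacter X))) T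
  rw [hincard, Finset.card_univ, ← Nat.card_eq_fintype_card,
    CfsgLib.CharTheory.card_irr_eq_card_conjClasses] at hk
  omega

end Cfsg.Agent.S4955
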