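import Cfsg.Statements.S4956
import Mathlib
import Mathlib.GroupTheory.Complement
import Mathlib.Tactic.Group

set_option autoImplicit false
open Cfsg

namespace Cfsg.Agent.S4956

/-- The commuting fibre over a pair of elements acting coprimely on an abelian group. -/
theorem card_fibre {V : Type*} [CommGroup V] [Finite V] {A : Type*} [Group A] [Finite A]
    (φ : A →* MulAut V) (g h : A) (hgen : Subgroup.closure ({g, h} : Set A) = ⊤)
    (hcop : (Nat.card V).Coprime (Nat.card A)) :
    Nat.card {p : V × V // p.1 * φ g p.2 = p.2 * φ h p.1} =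
      Nat.card V * Nat.card {v : V // ∀ a : A, φ a v = v} := by
  classical
  have := Fintype.ofFinite A
  let f : V × V →* V :=
    { toFun := fun p => (φ g p.2 * p.2⁻¹) * (φ h p.1 * p.1⁻¹)⁻¹
      map_one' := by simp
      map_mul' := fun p q => by
        simp only [Prod.fst_mul, Prod.snd_mul, map_mul, mul_inv]
        ac_rfl }
  let C : Subgroup V :=
    { carrier := {v | ∀ a : A, φ a v = v}
      one_mem' := fun a => map_one _
      mul_mem' := fun {u v} hu hv a => by rw [map_mul, hu a, hv a]
      inv_mem' := fun {u} hu a => by rw [map_inv, hu a] }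
  let N : V → V := fun v => ∏ a : A, φ a v
  have hNmul : ∀ u v : V, N (u * v) = N u * N v := fun u v => by
    simp [N, Finset.prod_mul_distrib]
  let NH : V →* V := MonoidHom.mk' N hNmul
  have hNfix : ∀ (b : A) (v : V), N (φ b v) = N v := fun b v =>
    Fintype.prod_equiv (Equiv.mulRight b) _ _ fun a => by simp [map_mul]
  have hNmem : ∀ v, N v ∈ C := fun v b => by
    show φ b (∏ a : A, φ a v) = _
    rw [map_prod]
    exact Fintype.prod_equiv (Equiv.mulLeft b) _ _ fun a => by simp [map_mul]
  have hker : ∀ v ∈ f.range, NH v = 1 := by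
    rintro _ ⟨p, rfl⟩
    show NH ((φ g p.2 * p.2⁻¹) * (φ h p.1 * p.1⁻¹)⁻¹) = 1
    simp only [map_mul, map_inv]
    show N (φ g p.2) * (N p.2)⁻¹ * (N (φ h p.1) * (N p.1)⁻¹)⁻¹ = 1
    rw [hNfix, hNfix, mul_inv_cancel, mul_inv_cancel, inv_one, one_mul]
  let B : Subgroup A :=
    { carrier := {a | ∀ v : V, φ a v * v⁻¹ ∈ f.range}
      one_mem' := fun v => by simp
      mul_mem' := fun {a b} ha hb v => by
        have := mul_mem (ha (φ b v)) (hb v)
        rw [map_mul, MulAut.mul_apply]
        convert this using 1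
        group
      inv_mem' := fun {a} ha v => by
        have := inv_mem (ha (φ a⁻¹ v))
        convert this using 1
        rw [← MulAut.mul_apply, ← map_mul, mul_inv_cancel, map_one, MulAut.one_apply, mul_inv_rev,
          inv_inv, mul_comm] }
  have hB : B = ⊤ := by
    rw [eq_top_iff, ← hgen, Subgroup.closure_le]
    rintro a (rfl | rfl)
    · exact fun v => ⟨(1, v), by simp [f]⟩
    · exact fun v => ⟨(v⁻¹, 1), by simp [f, mul_comm]⟩
  have hpow : ∀ v : V, v ^ Nat.card A ∈ f.range ⊔ C := fun v => by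
    have h1 : ∏ a : A, (φ a v * v⁻¹) ∈ f.range :=
      prod_mem fun a _ => (hB.ge (Subgroup.mem_top a) : a ∈ B) v
    rw [Finset.prod_mul_distrib, Finset.prod_const, Finset.card_univ, ← Nat.card_eq_fintype_card] at h1
    have h2 := mul_mem (Subgroup.mem_sup_left (inv_mem h1) : _ ∈ f.range ⊔ C)
      (Subgroup.mem_sup_right (hNmem v) : N v ∈ f.range ⊔ C)
    convert h2 using 1
    show _ = (N v * v⁻¹ ^ Nat.card A)⁻¹ * N v
    rw [mul_inv_rev, mul_assoc, inv_mul_cancel, mul_one, inv_pow, inv_inv]
  have hsup : f.range ⊔ C = ⊤ := by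
    rw [eq_top_iff]
    intro v _
    have hb : v = (powCoprime hcop ((powCoprime hcop).symm v)) := ((powCoprime hcop).apply_symm_apply v).symm
    rw [hb]
    exact hpow _
  have hdisj : Disjoint f.range C := by
    rw [Subgroup.disjoint_def]
    intro v hv hvC
    apply (powCoprime hcop).injective
    show v ^ Nat.card A = 1 ^ Nat.card A
    rw [one_pow, ← hker v hv]
    show _ = ∏ a : A, φ a v
    rw [Finset.prod_congr rfl fun a _ => hvC a, Finset.prod_const, Finset.card_univ,
      Nat.card_eq_fintype_card]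
  have hcard : Nat.card f.range * Nat.card C = Nat.card V :=
    (Subgroup.isComplement'_of_disjoint_and_mul_eq_univ hdisj (by
      rw [← Subgroup.normal_mul, hsup, Subgroup.coe_top])).card_mul
  have h3 : Nat.card f.ker * Nat.card f.range = Nat.card (V × V) := by
    rw [← Subgroup.index_ker, Subgroup.card_mul_index]
  have hset : Nat.card {p : V × V // p.1 * φ g p.2 = p.2 * φ h p.1} = Nat.card f.ker :=
    Nat.card_congr (Equiv.subtypeEquivRight fun p => by
      show _ ↔ φ g p.2 * p.2⁻¹ * (φ h p.1 * p.1⁻¹)⁻¹ = 1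
      rw [mul_inv_eq_one, mul_inv_eq_iff_eq_mul, mul_right_comm, eq_mul_inv_iff_mul_eq, mul_comm p.1,
        mul_comm p.2])
  rw [hset]
  rw [Nat.card_prod, ← hcard] at h3
  rw [show Nat.card {v : V // ∀ a : A, φ a v = v} = Nat.card C from rfl]
  apply Nat.eq_of_mul_eq_mul_right (Nat.card_pos (α := f.range))
  rw [h3, ← hcard]
  ring

theorem commute_iff_fibre {X : Type*} [Group X] (v w g h : X) (hgh : g * h = h * g) :
    v * g * (w * h) = w * h * (v * g) ↔ v * (g * w * g⁻¹) = w * (h * v * h⁻¹) := by
  have e1 : v * g * (w * h) = v * (g * w * g⁻¹) * (g * h) := by group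
  have e2 : w * h * (v * g) = w * (h * v * h⁻¹) * (h * g) := by group
  rw [e1, e2, hgh, mul_left_inj]

/-- Let X be a finite group, V an abelian normal subgroup of X (any two elements of V commute) and G a complement to V in X whose order is coprime to that of V. Let S be a set of representatives of the orbits of G on V under conjugation: S lies in V and every element of V is conjugate under G to exactly one member of S. Then the number of conjugacy classes of X equals the sum, over s in S, of the number of conjugacy classes of the centralizer of s in G. -/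
theorem result {X : Type*} [Group X] [Finite X] (V : Subgroup X) [V.Normal] (hab : ∀ a ∈ V, ∀ b ∈ V, a * b = b * a) (G : Subgroup X) (hGV : Subgroup.IsComplement' V G) (hcop : (Nat.card V).Coprime (Nat.card G)) (S : Finset X) (hSV : ∀ s ∈ S, s ∈ V) (hrep : ∀ v ∈ V, ∃! s, s ∈ S ∧ ∃ g ∈ G, g * v * g⁻¹ = s) : Nat.card (ConjClasses X) = ∑ s ∈ S, Nat.card (ConjClasses ↥(G ⊓ Subgroup.centralizer ({s} : Set X))) := by
  classical
  have := Fintype.ofFinite X
  letI : CommGroup V := { (inferInstance : Group V) with mul_comm := fun a b => Subtype.ext (hab a a.2 b b.2) }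
  -- commuting pairs of `X` over commuting pairs of `G`
  let P := {q : G × G // Commute q.1 q.2}
  let fib : P → Type _ := fun q =>
    {p : V × V // (p.1 : X) * ((q.1.1 : X) * p.2 * (q.1.1 : X)⁻¹) =
      p.2 * ((q.1.2 : X) * p.1 * (q.1.2 : X)⁻¹)}
  have hmod : ∀ (v w : V) (g h : G), ((v : X) * g) * (w * h) = (w * h) * (v * g) → g * h = h * g := by
    intro v w g h he
    have e1 : (v : X) * g * (w * h) = ((v : X) * ((g : X) * w * (g : X)⁻¹)) * ((g : X) * h) := by group
    have e2 : (w : X) * h * (v * g) = ((w : X) * ((h : X) * v * (h : X)⁻¹)) * ((h : X) * g) := by group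
    rw [e1, e2] at he
    have := @hGV.1
      (⟨_, mul_mem v.2 (Subgroup.Normal.conj_mem inferInstance _ w.2 (g : X))⟩, g * h)
      (⟨_, mul_mem w.2 (Subgroup.Normal.conj_mem inferInstance _ v.2 (h : X))⟩, h * g) he
    exact congrArg Prod.snd this
  let mkP : (Σ q : P, fib q) → {p : X × X // Commute p.1 p.2} := fun z =>
    ⟨((z.2.1.1 : X) * z.1.1.1, (z.2.1.2 : X) * z.1.1.2),
      (commute_iff_fibre _ _ _ _ (congrArg Subtype.val z.1.2.eq)).mpr z.2.2⟩
  have hbij : Function.Bijective mkP := by
    constructor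
    · rintro ⟨⟨⟨g, h⟩, hq⟩, ⟨⟨v, w⟩, hp⟩⟩ ⟨⟨⟨g', h'⟩, hq'⟩, ⟨⟨v', w'⟩, hp'⟩⟩ he
      have he' := congrArg Subtype.val he
      simp only [mkP, Prod.mk.injEq] at he'
      have h1 := @hGV.1 (v, g) (v', g') he'.1
      have h2 := @hGV.1 (w, h) (w', h') he'.2
      simp only [Prod.mk.injEq] at h1 h2
      obtain ⟨rfl, rfl⟩ := h1
      obtain ⟨rfl, rfl⟩ := h2
      rfl
    · rintro ⟨⟨x, y⟩, hxy⟩
      obtain ⟨⟨v, g⟩, rfl⟩ := hGV.2 x
      obtain ⟨⟨w, h⟩, rfl⟩ := hGV.2 y
      have hgh : Commute g h := hmod v w g h hxy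
      exact ⟨⟨⟨(g, h), hgh⟩, ⟨(v, w),
        (commute_iff_fibre _ _ _ _ (congrArg Subtype.val hgh.eq)).mp hxy⟩⟩, rfl⟩
  have hfib : ∀ q : P, Nat.card (fib q) = Nat.card V *
      Nat.card {v : V // Commute (v : X) (q.1.1 : X) ∧ Commute (v : X) (q.1.2 : X)} := by
    intro q
    let A : Subgroup X := Subgroup.closure {(q.1.1 : X), (q.1.2 : X)}
    have hAG : A ≤ G := by
      rw [Subgroup.closure_le]
      rintro a (rfl | rfl)
      · exact q.1.1.2
      · exact q.1.2.2
    let g : A := ⟨_, Subgroup.subset_closure (Set.mem_insert _ _)⟩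
    let h : A := ⟨(q.1.2 : X), Subgroup.subset_closure (Set.mem_insert_of_mem _ rfl)⟩
    have hgen : Subgroup.closure ({g, h} : Set A) = ⊤ := by
      apply Subgroup.map_injective A.subtype_injective
      rw [MonoidHom.map_closure, ← MonoidHom.range_eq_map, A.range_subtype]
      simp [g, h, Set.image_pair, A]
    have hc : (Nat.card V).Coprime (Nat.card A) :=
      hcop.coprime_dvd_right (Subgroup.card_dvd_of_le hAG)
    have h1 := card_fibre ((MulAut.conjNormal (H := V)).comp A.subtype) g h hgen hc
    refine (Nat.card_congr (Equiv.subtypeEquivRight fun p => ?_)).trans (h1.trans ?_)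
    · rw [Subtype.ext_iff]
      simp [MulAut.conjNormal_apply, g, h]
    · congr 1
      refine Nat.card_congr (Equiv.subtypeEquivRight fun v => ?_)
      have hiff : ∀ a : X, a * (v : X) * a⁻¹ = v ↔ Commute (v : X) a := fun a => by
        rw [mul_inv_eq_iff_eq_mul]; exact ⟨fun e => e.symm, fun e => e.symm⟩
      constructor
      · intro hall
        exact ⟨(hiff _).mp (by simpa [MulAut.conjNormal_apply, g] using congrArg Subtype.val (hall g)),
          (hiff _).mp (by simpa [MulAut.conjNormal_apply, h] using congrArg Subtype.val (hall h))⟩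
      · rintro ⟨ha, hb⟩ a
        refine Subtype.ext ?_
        show ((MulAut.conjNormal (a : X) v : V) : X) = v
        rw [MulAut.conjNormal_apply, hiff]
        have : A ≤ Subgroup.centralizer ({(v : X)} : Set X) := by
          rw [Subgroup.closure_le]
          rintro x (rfl | rfl)
          · exact Subgroup.mem_centralizer_singleton_iff.mpr ha.eq.symm
          · exact Subgroup.mem_centralizer_singleton_iff.mpr hb.eq.symm
        exact (Subgroup.mem_centralizer_singleton_iff.mp (this a.2)).symm
  -- the right-hand side as a count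
  let C : X → Subgroup X := fun v => G ⊓ Subgroup.centralizer ({v} : Set X)
  have hswap : Nat.card (Σ q : P, {v : V // Commute (v : X) (q.1.1 : X) ∧ Commute (v : X) (q.1.2 : X)}) =
      Nat.card (Σ v : V, {p : C v × C v // Commute p.1 p.2}) :=
    Nat.card_congr
      { toFun := fun z => ⟨z.2.1, ⟨(⟨z.1.1.1, z.1.1.1.2,
            Subgroup.mem_centralizer_singleton_iff.mpr z.2.2.1.eq.symm⟩,
          ⟨z.1.1.2, z.1.1.2.2, Subgroup.mem_centralizer_singleton_iff.mpr z.2.2.2.eq.symm⟩),
          Subtype.ext (congrArg Subtype.val z.1.2.eq : _)⟩⟩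
        invFun := fun z => ⟨⟨(⟨z.2.1.1, z.2.1.1.2.1⟩, ⟨z.2.1.2, z.2.1.2.2.1⟩),
            Subtype.ext (congrArg Subtype.val z.2.2.eq : _)⟩,
          ⟨z.1, (Subgroup.mem_centralizer_singleton_iff.mp z.2.1.1.2.2).symm,
            (Subgroup.mem_centralizer_singleton_iff.mp z.2.1.2.2.2).symm⟩⟩
        left_inv := fun z => rfl
        right_inv := fun z => rfl }
  have hLHS : Nat.card (ConjClasses X) * Nat.card X =
      Nat.card V * ∑ v : V, Nat.card (ConjClasses (C v)) * Nat.card (C v) := by
    rw [← card_comm_eq_card_conjClasses_mul_card, ← Nat.card_congr (Equiv.ofBijective _ hbij),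
      Nat.card_sigma, Finset.sum_congr rfl fun q _ => hfib q, ← Finset.mul_sum, ← Nat.card_sigma, hswap,
      Nat.card_sigma]
    simp only [card_comm_eq_card_conjClasses_mul_card]
  -- collect by orbits
  choose r hr hru using hrep
  have hterm : ∀ v : V, Nat.card (ConjClasses (C v)) * Nat.card (C v) =
      Nat.card (ConjClasses (C (r v v.2))) * Nat.card (C (r v v.2)) := by
    intro v
    obtain ⟨g, hg, hgv⟩ := (hr v v.2).2
    have hmap : (C (v : X)).map (MulAut.conj g).toMonoidHom = C (r v v.2) := by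
      rw [← hgv]
      ext y
      simp only [C, Subgroup.mem_map, Subgroup.mem_inf, Subgroup.mem_centralizer_singleton_iff,
        MulEquiv.coe_toMonoidHom, MulAut.conj_apply]
      constructor
      · rintro ⟨z, ⟨hz, hzv⟩, rfl⟩
        refine ⟨mul_mem (mul_mem hg hz) (inv_mem hg), ?_⟩
        calc g * z * g⁻¹ * (g * v * g⁻¹) = g * (z * v) * g⁻¹ := by group
          _ = g * (v * z) * g⁻¹ := by rw [hzv]
          _ = _ := by group
      · rintro ⟨hy, hyv⟩
        refine ⟨g⁻¹ * y * g, ⟨mul_mem (mul_mem (inv_mem hg) hy) hg, ?_⟩, by group⟩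
        calc g⁻¹ * y * g * v = g⁻¹ * (y * (g * v * g⁻¹)) * g := by group
          _ = g⁻¹ * (g * v * g⁻¹ * y) * g := by rw [hyv]
          _ = _ := by group
    let e : C (v : X) ≃* C (r v v.2) :=
      ((C (v : X)).equivMapOfInjective _ (MulAut.conj g).injective).trans (MulEquiv.subgroupCongr hmap)
    rw [Nat.card_congr e.toEquiv]
    congr 1
    exact Nat.card_congr
      { toFun := ConjClasses.map e.toMonoidHom
        invFun := ConjClasses.map e.symm.toMonoidHom
        left_inv := fun K => by
          obtain ⟨x, rfl⟩ := ConjClasses.mk_surjective K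
          exact congrArg ConjClasses.mk (e.symm_apply_apply x)
        right_inv := fun K => by
          obtain ⟨x, rfl⟩ := ConjClasses.mk_surjective K
          exact congrArg ConjClasses.mk (e.apply_symm_apply x) }
  have horb : ∀ s ∈ S, (Finset.univ.filter fun v : V => r v v.2 = s).card * Nat.card (C s) = Nat.card G := by
    intro s hs
    have hmem : ∀ g : G, (g : X) * s * (g : X)⁻¹ ∈ V := fun g => Subgroup.Normal.conj_mem inferInstance s (hSV s hs) _
    let o : G → V := fun g => ⟨(g : X) * s * (g : X)⁻¹, hmem g⟩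
    have himg : Finset.univ.filter (fun v : V => r v v.2 = s) = Finset.univ.image o := by
      ext v
      simp only [Finset.mem_filter, Finset.mem_univ, true_and, Finset.mem_image]
      constructor
      · intro h
        obtain ⟨g, hg, hgv⟩ := (hr v v.2).2
        refine ⟨⟨g⁻¹, inv_mem hg⟩, Subtype.ext ?_⟩
        show g⁻¹ * s * g⁻¹⁻¹ = v
        rw [← h, ← hgv]; group
      · rintro ⟨g, rfl⟩
        refine (hru _ _ _ ⟨hs, (g : X)⁻¹, inv_mem g.2, ?_⟩).symm
        show (g : X)⁻¹ * ((g : X) * s * (g : X)⁻¹) * (g : X)⁻¹⁻¹ = s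
        group
    rw [himg, Nat.card_eq_fintype_card (α := G), ← Finset.card_univ,
      Finset.card_eq_sum_card_image o Finset.univ]
    rw [Finset.sum_const_nat (m := Nat.card (C s))]
    intro w hw
    obtain ⟨g, -, rfl⟩ := Finset.mem_image.mp hw
    rw [← Fintype.card_subtype, ← Nat.card_eq_fintype_card]
    refine Nat.card_congr
      { toFun := fun a => ⟨(g : X)⁻¹ * (a.1 : X), G.mul_mem (G.inv_mem g.2) a.1.2,
          Subgroup.mem_centralizer_singleton_iff.mpr ?_⟩
        invFun := fun c => ⟨g * ⟨c, c.2.1⟩, Subtype.ext ?_⟩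
        left_inv := fun a => Subtype.ext (Subtype.ext (by simp))
        right_inv := fun c => Subtype.ext (by simp) }
    · have h := congrArg Subtype.val a.2
      simp only [o] at h
      calc (g : X)⁻¹ * (a.1 : X) * s = (g : X)⁻¹ * ((a.1 : X) * s * (a.1 : X)⁻¹) * (a.1 : X) := by group
        _ = (g : X)⁻¹ * ((g : X) * s * (g : X)⁻¹) * (a.1 : X) := by rw [h]
        _ = _ := by group
    · have h := Subgroup.mem_centralizer_singleton_iff.mp c.2.2
      show (g : X) * c * s * ((g : X) * c)⁻¹ = (g : X) * s * (g : X)⁻¹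
      calc (g : X) * c * s * ((g : X) * c)⁻¹ = (g : X) * ((c : X) * s) * (c : X)⁻¹ * (g : X)⁻¹ := by group
        _ = (g : X) * (s * c) * (c : X)⁻¹ * (g : X)⁻¹ := by rw [h]
        _ = _ := by group
  have hsum : ∑ v : V, Nat.card (ConjClasses (C v)) * Nat.card (C v) =
      (∑ s ∈ S, Nat.card (ConjClasses (C s))) * Nat.card G := by
    rw [Finset.sum_congr rfl fun v _ => hterm v,
      ← Finset.sum_fiberwise_of_maps_to (g := fun v : V => r v v.2) (t := S) (fun v _ => (hr v v.2).1),
      Finset.sum_mul]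
    refine Finset.sum_congr rfl fun s hs => ?_
    rw [Finset.sum_congr rfl fun v hv => by rw [(Finset.mem_filter.mp hv).2], Finset.sum_const, smul_eq_mul,
      ← horb s hs]
    ring
  have hX : Nat.card V * Nat.card G = Nat.card X := hGV.card_mul
  apply Nat.eq_of_mul_eq_mul_right (Nat.card_pos (α := X))
  rw [hLHS, hsum, ← hX]
  ring

end Cfsg.Agent.S4956
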