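import Cfsg.Statements.S4964
import Cfsg.Agent.Lib.Blocks.Inflation
import Cfsg.Agent.Lib.Blocks.Covering
import Cfsg.Agent.Lib.CoprimeGen
import Cfsg.Agent.Lib.Elementary

set_option autoImplicit false
open Cfsg CfsgLib CfsgLib.CharTheory CfsgLib.Blocks CfsgLib.Blocks.Inflation
open scoped ComplexConjugate

set_option linter.unusedVariables false

namespace Cfsg.Agent.S4964

/-- Let D be a normal p-subgroup of the finite group G, let D′ be its commutator subgroup (normal in G), and fix a maximal ideal M of the algebraic integers containing p. Then (i) two irreducible characters of G ⧸ D′ lie in the same p-block if and only if their inflations to G do, and (ii) every p-block of G contains the inflation of some irreducible character of G ⧸ D′; so inflation induces a bijection between the p-blocks of G ⧸ D′ and the p-blocks of G. -/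
theorem result {G : Type*} [Group G] [Finite G] (p : ℕ) [Fact p.Prime] (M : Ideal Cfsg.AlgInt) (hM : Cfsg.IsPModular p M) (D : Subgroup G) [D.Normal] (hD : IsPGroup p D) : (∀ χ ψ : Cfsg.IrrCharacter (G ⧸ ⁅D, D⁆), Cfsg.SameBlock M (χ : G ⧸ ⁅D, D⁆ → ℂ) (ψ : G ⧸ ⁅D, D⁆ → ℂ) ↔ Cfsg.SameBlock M ((χ : G ⧸ ⁅D, D⁆ → ℂ) ∘ QuotientGroup.mk) ((ψ : G ⧸ ⁅D, D⁆ → ℂ) ∘ QuotientGroup.mk)) ∧ ∀ B : Set (Cfsg.IrrCharacter G), Cfsg.IsPBlock M B → ∃ χ : Cfsg.IrrCharacter (G ⧸ ⁅D, D⁆), ∃ θ ∈ B, (θ : G → ℂ) = (χ : G ⧸ ⁅D, D⁆ → ℂ) ∘ QuotientGroup.mk := by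
  classical
  haveI := Fintype.ofFinite G
  haveI := Fintype.ofFinite (G ⧸ ⁅D, D⁆)
  haveI := res_isDomain hM
  have hp : p.Prime := hM.1
  haveI : Fact p.Prime := ⟨hp⟩
  set N := ⁅D, D⁆ with hNdef
  have hND : N ≤ D := Subgroup.commutator_le_left D D
  have hN : IsPGroup p N := hD.to_le hND
  refine ⟨fun χ ψ => ⟨fun h => (sameBlock_iff_res hM (inflIrr N χ) (inflIrr N ψ)).2 fun g =>
      res_clv_ascend hM N g ((sameBlock_iff_res hM χ ψ).1 h _),
    fun h => sameBlock_of_regular hM fun c hc => ?_⟩, fun B hB => ?_⟩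
  swap
  · obtain ⟨χ, hχ⟩ := exists_inflIrr_mem N hM hN hB
    exact ⟨χ, _, hχ, rfl⟩
  obtain ⟨g, rfl, hg⟩ := exists_regular_lift N hN hc
  by_cases hgD : g ∈ Subgroup.centralizer (D : Set G)
  · refine res_clv_descend hM N h ?_
    rw [le_antisymm (?_ : _ ≤ Subgroup.centralizer ({g} : Set G)) (centralizer_le_comap N g),
      Subgroup.relIndex_self]
    · exact hp.not_dvd_one
    intro x hx
    rw [Subgroup.mem_comap, Subgroup.mem_centralizer_singleton_iff, QuotientGroup.mk'_apply] at hx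
    rw [Subgroup.mem_centralizer_singleton_iff]
    have hu : g⁻¹ * (x * g * x⁻¹) ∈ N := by
      rw [← QuotientGroup.eq_one_iff]
      simp only [QuotientGroup.mk_mul, QuotientGroup.mk_inv]
      rw [hx]; group
    have hcomm : Commute g (g⁻¹ * (x * g * x⁻¹)) :=
      ((Subgroup.mem_centralizer_iff.1 hgD) _ (hND hu)).symm
    obtain ⟨k, hk⟩ := IsPGroup.iff_orderOf.1 hN ⟨_, hu⟩
    obtain ⟨e1, -⟩ := pPart_unique hp hcomm.symm (Commute.one_left (x * g * x⁻¹))
      ⟨k, (Subgroup.orderOf_coe ⟨_, hu⟩).trans hk⟩ ⟨0, by simp⟩ hg (by rw [conj_orderOf]; exact hg)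
      (by rw [← hcomm.eq, mul_inv_cancel_left, one_mul])
    rw [inv_mul_eq_one, eq_mul_inv_iff_mul_eq] at e1
    exact e1.symm
  · set E := D.map (QuotientGroup.mk' N) with hE
    haveI : E.Normal := Subgroup.Normal.map inferInstance _ (QuotientGroup.mk'_surjective N)
    have hgE : (g : G ⧸ N) ∉ Subgroup.centralizer (E : Set (G ⧸ N)) := by
      intro hc'
      apply hgD
      refine (centralize_of_trivial_mod_frattini (A := Subgroup.zpowers g) (K := D) ?_ ?_ ?_)
        (Subgroup.mem_zpowers g)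
      · rw [Subgroup.normalizer_eq_top]; exact le_top
      · obtain ⟨k, hk⟩ := IsPGroup.iff_card.1 (hD.to_subgroup (frattini D))
        rw [hk, Nat.card_zpowers]
        exact ((hp.coprime_iff_not_dvd.2 hg).symm).pow_right k
      · rintro a ⟨i, rfl⟩ k hk
        have h1 : Commute (g : G ⧸ N) (k : G ⧸ N) :=
          ((Subgroup.mem_centralizer_iff.1 hc') _ ⟨k, hk, rfl⟩).symm
        have h2 : g ^ i * k * (g ^ i)⁻¹ * k⁻¹ ∈ N := by
          rw [← QuotientGroup.eq_one_iff]
          simp only [QuotientGroup.mk_mul, QuotientGroup.mk_inv, QuotientGroup.mk_zpow]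
          rw [(h1.zpow_left i).eq]; group
        rw [hNdef, ← Subgroup.map_subtype_commutator] at h2
        exact Subgroup.map_mono (commutator_le_frattini_pGroup hD) h2
    have hEp : IsPGroup p E := hD.map _
    have hz : ∀ φ : IrrCharacter (G ⧸ N), res hM (clv (g : G ⧸ N) φ) = 0 := by
      intro φ
      rw [res_eq_zero_iff hM (memRing_clv hM _ φ)]
      show MemLocalIdeal M (centralChar (φ : G ⧸ N → ℂ) (g : G ⧸ N))
      rw [← omega_classInd (g : G ⧸ N) φ]
      refine omega_vanish_off_centralizer hM E hEp (isClassFunction_classInd _)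
        (memRing_classInd hM _) (fun x hx => if_neg fun hcj => hgE ?_) φ
      obtain ⟨a, ha⟩ := isConj_iff.1 hcj.symm
      rw [← ha]
      exact (inferInstance : (Subgroup.centralizer (E : Set (G ⧸ N))).Normal).conj_mem x hx a
    rw [hz, hz]

end Cfsg.Agent.S4964
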