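import Cfsg.Statements.S4966
import Cfsg.Agent.Lib.SelfDualSplit

set_option autoImplicit false
open Cfsg
open CfsgLib.SelfDualSplit

namespace Cfsg.Agent.S4966

theorem result {F : Type*} [Field F] [Fintype F] (p : ℕ) [Fact p.Prime] [CharP F p] {G : Type*} [Group G] [Finite G] (hcop : ¬ p ∣ Nat.card G) {V : Type*} [AddCommGroup V] [Module F V] [FiniteDimensional F V] (ρ : Representation F G V) (B : LinearMap.BilinForm F V) (hB : B.Nondegenerate) (hBinv : ∀ g : G, ∀ x y : V, B (ρ g x) (ρ g y) = B x y) : ∃ U W : Submodule F V, IsCompl U W ∧ (∀ g : G, ∀ u ∈ U, ρ g u ∈ U) ∧ (∀ g : G, ∀ w ∈ W, ρ g w ∈ W) ∧ (∃ A : LinearMap.BilinForm F V, (∀ x : V, A x x = 0) ∧ (∀ g : G, ∀ x ∈ U, ∀ y ∈ U, A (ρ g x) (ρ g y) = A x y) ∧ (∀ x ∈ U, (∀ y ∈ U, A x y = 0) → x = 0)) ∧ (∃ S : LinearMap.BilinForm F V, (∀ x y : V, S x y = S y x) ∧ (∀ g : G, ∀ x ∈ W, ∀ y ∈ W, S (ρ g x) (ρ g y) = S x y) ∧ (∀ x ∈ W, (∀ y ∈ W, S x y = 0) → x = 0)) ∧ (p = 2 →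 ∀ g : G, ∀ w ∈ W, ρ g w = w) := by
  classical
  have := Fintype.ofFinite G
  have hc : (Nat.card G : F) ≠ 0 := fun e => hcop ((CharP.cast_eq_zero_iff F p _).mp e)
  have hAll : InvForm ρ B ⊤ := fun g x _ y _ => hBinv g x y
  have hN : ∀ x, (∀ y, B x y = 0) → x = 0 := fun x hx => hB.1 x hx
  have wrap : ∀ U W : Submodule F V, Inv ρ U → Inv ρ W → U ⊓ W = ⊥ → U ⊔ W = ⊤ →
      (∃ A : LinearMap.BilinForm F V, (∀ x, A x x = 0) ∧ InvForm ρ A U ∧ NDeg A U) →
      (∃ S : LinearMap.BilinForm F V, (∀ x y, S x y = S y x) ∧ InvForm ρ S W ∧ NDeg S W) →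
      (p = 2 → ∀ g : G, ∀ w ∈ W, ρ g w = w) →
      ∃ U W : Submodule F V, IsCompl U W ∧ (∀ g : G, ∀ u ∈ U, ρ g u ∈ U) ∧
        (∀ g : G, ∀ w ∈ W, ρ g w ∈ W) ∧
        (∃ A : LinearMap.BilinForm F V, (∀ x : V, A x x = 0) ∧
          (∀ g : G, ∀ x ∈ U, ∀ y ∈ U, A (ρ g x) (ρ g y) = A x y) ∧
          (∀ x ∈ U, (∀ y ∈ U, A x y = 0) → x = 0)) ∧
        (∃ S : LinearMap.BilinForm F V, (∀ x y : V, S x y = S y x) ∧
          (∀ g : G, ∀ x ∈ W, ∀ y ∈ W, S (ρ g x) (ρ g y) = S x y) ∧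
          (∀ x ∈ W, (∀ y ∈ W, S x y = 0) → x = 0)) ∧ (p = 2 → ∀ g : G, ∀ w ∈ W, ρ g w = w) :=
    fun U W hU hW h1 h2 hA hS hp => ⟨U, W, ⟨disjoint_iff.mpr h1, codisjoint_iff.mpr h2⟩, hU, hW, hA, hS, hp⟩
  by_cases hp2 : p = 2
  swap
  · obtain ⟨U, W, hU, hW, h1, h2, hA, hS⟩ := split_aux ρ hc _ ⊤ rfl (fun g y _ => trivial) B hAll
      (fun x _ h => hN x fun y => h y trivial)
    exact wrap U W hU hW h1 h2 hA hS fun e => absurd e hp2
  · subst hp2
    let e : V →ₗ[F] V := (Nat.card G : F)⁻¹ • ∑ g : G, ρ g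
    have he : ∀ x, e x = (Nat.card G : F)⁻¹ • ∑ g : G, ρ g x := fun x => by
      simp [e, LinearMap.sum_apply]
    let C : Submodule F V :=
      { carrier := {x | ∀ g : G, ρ g x = x}
        add_mem' := fun {a b} ha hb g => by rw [map_add, ha, hb]
        zero_mem' := fun g => map_zero _
        smul_mem' := fun c a ha g => by rw [map_smul, ha] }
    have heC : ∀ x ∈ C, e x = x := fun x hx => by
      rw [he, Finset.sum_congr rfl fun g _ => hx g, Finset.sum_const, Finset.card_univ,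
        ← Nat.card_eq_fintype_card, ← Nat.cast_smul_eq_nsmul F, smul_smul, inv_mul_cancel₀ hc, one_smul]
    have heg : ∀ (h : G) x, ρ h (e x) = e x := fun h x => by
      rw [he, map_smul, map_sum]
      congr 1
      refine Fintype.sum_equiv (Equiv.mulLeft h) _ _ fun g => ?_
      show ρ h (ρ g x) = ρ (h * g) x
      rw [map_mul, Module.End.mul_apply]
    have hge : ∀ (h : G) x, e (ρ h x) = e x := fun h x => by
      rw [he, he]
      congr 1
      refine Fintype.sum_equiv (Equiv.mulRight h) _ _ fun g => ?_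
      show ρ g (ρ h x) = ρ (g * h) x
      rw [map_mul, Module.End.mul_apply]
    set Y := LinearMap.ker e with hYdef
    have hY : Inv ρ Y := fun g y hy => by
      rw [hYdef, LinearMap.mem_ker] at hy ⊢
      rw [hge, hy]
    have hC : Inv ρ C := fun g c hc' h => by rw [hc' g]; exact hc' h
    have hYC : ∀ y ∈ Y, ∀ c ∈ C, B y c = 0 := by
      intro y hy c hc'
      have h1 : ∀ g : G, B (ρ g y) c = B y c := fun g => by
        conv_lhs => rw [← hc' g]
        exact hBinv g y c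
      have h2 : B (e y) c = B y c := by
        rw [he, map_smul, map_sum, LinearMap.smul_apply, LinearMap.sum_apply,
          Finset.sum_congr rfl fun g _ => h1 g, Finset.sum_const, Finset.card_univ,
          ← Nat.card_eq_fintype_card, nsmul_eq_mul, smul_eq_mul, ← mul_assoc, inv_mul_cancel₀ hc, one_mul]
      rw [← h2, LinearMap.mem_ker.mp hy, map_zero, LinearMap.zero_apply]
    have hdec : ∀ x, x - e x ∈ Y ∧ e x ∈ C := fun x => by
      refine ⟨?_, fun g => heg g x⟩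
      rw [hYdef, LinearMap.mem_ker, map_sub, heC _ (fun g => heg g x), sub_self]
    have hYn : NDeg B Y := fun y hy h => hN y fun x => by
      rw [← sub_add_cancel x (e x), map_add, h _ (hdec x).1, hYC y hy _ (hdec x).2, add_zero]
    obtain ⟨U, W, hU, hW, h1, h2, ⟨A, hA0, hAi, hAn⟩, S, hS0, hSi, hSn⟩ :=
      split_aux ρ hc _ Y rfl hY B (fun g x _ y _ => hBinv g x y) hYn
    have hWY : W ≤ Y := h2 ▸ le_sup_right
    have h20 : (2 : F) = 0 := by
      have := CharP.cast_eq_zero F 2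
      simpa using this
    have hWfix : ∀ w ∈ W, (∀ g, ρ g w = w) → w = 0 := fun w hw h => by
      rw [← heC w h]
      exact LinearMap.mem_ker.mp (hWY hw)
    have hSalt := alternating_of_symm ρ hc h20 hW hWfix hS0 hSi
    obtain ⟨π, hπW, -, hπm, hπc⟩ := exists_proj ρ hc hW (Z := ⊥)
      (fun g z hz => by rw [(Submodule.mem_bot F).mp hz, map_zero]; exact Submodule.zero_mem _) (inf_bot_eq _)
    obtain ⟨A', hA'i, hA'n, hA'0, -⟩ := combine ρ hc hU hW h1 A (S.compl₁₂ π π) hAi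
      (fun g x hx y hy => by
        simp only [LinearMap.compl₁₂_apply, hπW _ hx, hπW _ hy, hπW _ (hW g x hx), hπW _ (hW g y hy)]
        exact hSi g x hx y hy)
      hAn (fun x hx h => hSn x hx fun y hy => by
        have := h y hy
        simpa [LinearMap.compl₁₂_apply, hπW _ hx, hπW _ hy] using this)
    obtain ⟨S', hS'0, hS'n⟩ := exists_symm C
    refine wrap Y C hY hC ?_ ?_ ⟨A', hA'0 hA0 fun x => hSalt _ (hπm x), h2 ▸ hA'i, h2 ▸ hA'n⟩
      ⟨S', hS'0, fun g x hx y hy => by rw [hx g, hy g], hS'n⟩ fun _ g w hw => hw g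
    · rw [eq_bot_iff]
      rintro x ⟨hxY, hxC⟩
      exact (Submodule.mem_bot F).mpr ((heC x hxC).symm.trans (LinearMap.mem_ker.mp hxY))
    · rw [eq_top_iff]
      intro x _
      rw [← sub_add_cancel x (e x)]
      exact Submodule.add_mem_sup (hdec x).1 (hdec x).2

end Cfsg.Agent.S4966
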