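import Cfsg.Statements.S4967
import Cfsg.Agent.Lib.AbelianSelfDual

set_option autoImplicit false
open Cfsg

namespace Cfsg.Agent.S4967

theorem result {F : Type*} [Field F] [Fintype F] (p : ℕ) [Fact p.Prime] [CharP F p] {H : Type*} [CommGroup H] [Finite H] (hcop : ¬ p ∣ Nat.card H) {V : Type*} [AddCommGroup V] [Module F V] [FiniteDimensional F V] (ρ : Representation F H V) (hfaith : Function.Injective ρ) (hirr : ∀ U : Submodule F V, (∀ h : H, ∀ u ∈ U, ρ h u ∈ U) → U = ⊥ ∨ U = ⊤) : (Module.finrank F V = 1 → (∃ B : LinearMap.BilinForm F V, B.Nondegenerate ∧ ∀ h : H, ∀ x y : V, B (ρ h x) (ρ h y) = B x y) → Nat.card H ≤ 2) ∧ (2 ≤ Module.finrank F V → ((∃ B : LinearMap.BilinForm F V, B.Nondegenerate ∧ ∀ h : H, ∀ x y : V, B (ρ h x) (ρ h y) = B x y) ↔ (Even (Module.finrank F V) ∧ Nat.card H ∣ Fintype.card F ^ (Module.finrank F V / 2) + 1))) := by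
  refine ⟨fun h1 hB => ?_, fun h2 => ?_⟩
  · rcases (CfsgLib.AbelianSelfDual.self_dual_iff ρ hfaith hirr (by omega)).1 hB with ⟨-, h⟩ | ⟨he, -⟩
    · exact h
    · exact absurd (h1 ▸ he) (by decide)
  · obtain ⟨f, g⟩ := CfsgLib.AbelianSelfDual.self_dual_iff ρ hfaith hirr (by omega)
    refine ⟨fun hB => ?_, fun h => g h.1 h.2⟩
    rcases f hB with ⟨h, -⟩ | h
    · omega
    · exact h

end Cfsg.Agent.S4967
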