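import Cfsg.Statements.S4989
import Cfsg.Agent.Lib.CharTheory.More

set_option autoImplicit false
open Cfsg

namespace Cfsg.Agent.S4989

/-- Let H be a subgroup of the finite group G and χ an irreducible complex character of G. Then the inner product of the restriction of χ to H with itself, (1/#H)·Σ_{h ∈ H} |χ(h)|², is at most 1 + #(Z ∖ H)/#H, where Z is the set of zeros of χ in G. -/
theorem result {G : Type*} [Group G] [Finite G] (H : Subgroup G) (χ : Cfsg.IrrCharacter G) : (Nat.card ↥H : ℝ)⁻¹ * ∑ᶠ h : ↥H, ‖(χ : G → ℂ) h‖ ^ 2 ≤ 1 + (Set.ncard ({x : G | (χ : G → ℂ) x = 0} \ (H : Set G)) : ℝ) / (Nat.card ↥H : ℝ) := by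
  classical
  have := Fintype.ofFinite G
  rw [finsum_eq_sum_of_fintype]
  have hc := CfsgLib.CharTheory.isCharacter_of_irr χ.2
  have hres := CfsgLib.CharTheory.isCharacter_restrict hc H
  obtain ⟨m, hm⟩ := CfsgLib.CharTheory.classInner_char_nat hres hres
  have hH : (0 : ℝ) < Nat.card H := by exact_mod_cast Nat.card_pos
  have hA : ∑ h : H, ‖(χ : G → ℂ) h‖ ^ 2 = (Nat.card H : ℝ) * m := by
    have h1 := hm
    simp only [Cfsg.classInner, Complex.mul_conj, Complex.normSq_eq_norm_sq] at h1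
    rw [← Complex.ofReal_sum] at h1
    rw [← Complex.ofReal_natCast, ← Complex.ofReal_inv, ← Complex.ofReal_mul,
      ← Complex.ofReal_natCast m, Complex.ofReal_inj] at h1
    have h2 : (Nat.card H : ℝ)⁻¹ * ∑ h : H, ‖(χ : G → ℂ) h‖ ^ 2 = (m : ℝ) := h1
    field_simp at h2
    linarith
  set A := Finset.univ.filter (fun g : G => g ∉ H ∧ (χ : G → ℂ) g ≠ 0) with hAdef
  set Z := Finset.univ.filter (fun g : G => g ∉ H ∧ (χ : G → ℂ) g = 0) with hZdef
  have hsplit := Finset.sum_filter_add_sum_filter_not Finset.univ (fun g : G => g ∈ H)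
    (fun g => ‖(χ : G → ℂ) g‖ ^ 2)
  rw [CfsgLib.CharTheory.sum_norm_sq_irr χ.2, Finset.sum_subtype (F := inferInstance)
    (Finset.univ.filter fun g : G => g ∈ H) (p := fun g => g ∈ H) (fun g => by simp), hA] at hsplit
  have hA' : ∑ g ∈ A, ‖(χ : G → ℂ) g‖ ^ 2 =
      ∑ g ∈ Finset.univ.filter (fun g : G => ¬ g ∈ H), ‖(χ : G → ℂ) g‖ ^ 2 := by
    refine Finset.sum_subset (fun g hg => by simp_all [A]) fun g hg hg' => ?_
    have : (χ : G → ℂ) g = 0 := by simp_all [A]
    simp [this]
  rw [← hA'] at hsplit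
  have hmle : Nat.card H * m ≤ Nat.card G := by
    have h0 : 0 ≤ ∑ g ∈ A, ‖(χ : G → ℂ) g‖ ^ 2 := Finset.sum_nonneg fun g _ => sq_nonneg _
    exact_mod_cast (show ((Nat.card H * m : ℕ) : ℝ) ≤ Nat.card G by push_cast; linarith)
  have hle := CfsgLib.CharTheory.card_le_of_char_sum hc A (fun g hg => by simp_all [A])
    (Nat.card G - Nat.card H * m) (by rw [Nat.cast_sub hmle]; push_cast; linarith)
  have hcard : Nat.card G = Nat.card H + A.card + Z.card := by
    have h1 := Finset.card_filter_add_card_filter_not (s := (Finset.univ : Finset G)) (fun g : G => g ∈ H)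
    have h2 := Finset.card_filter_add_card_filter_not
      (s := Finset.univ.filter (fun g : G => ¬ g ∈ H)) (fun g => (χ : G → ℂ) g ≠ 0)
    rw [Finset.filter_filter, Finset.filter_filter] at h2
    rw [Finset.card_univ, ← Nat.card_eq_fintype_card, ← Fintype.card_subtype,
      ← Nat.card_eq_fintype_card] at h1
    simp only [not_not] at h2
    change A.card + Z.card = _ at h2
    have h3 : Nat.card {g : G // g ∈ H} = Nat.card H := rfl
    omega
  have hset : Set.ncard ({x : G | (χ : G → ℂ) x = 0} \ (H : Set G)) = Z.card := by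
    rw [← Set.ncard_coe_finset]
    congr 1
    ext g
    simp [Z, and_comm]
  rw [hA, hset, inv_mul_cancel_left₀ hH.ne', show (1 : ℝ) + (Z.card : ℝ) / (Nat.card H : ℝ) =
    ((Nat.card H : ℝ) + Z.card) / (Nat.card H : ℝ) by field_simp, le_div_iff₀ hH]
  have : Nat.card H * m ≤ Nat.card H + Z.card := by omega
  calc (m : ℝ) * Nat.card H = ((Nat.card H * m : ℕ) : ℝ) := by push_cast; ring
    _ ≤ _ := by exact_mod_cast this

end Cfsg.Agent.S4989
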