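import Cfsg.Statements.S4993
import Cfsg.Agent.Lib.PrimClass.Main

set_option autoImplicit false
open Cfsg

namespace Cfsg.Agent.S4993

/-- Let G be a group of odd order whose order has exactly two prime divisors and whose quotient by its Fitting subgroup is nilpotent (G is metanilpotent), and let χ be a primitive irreducible complex character of G (not induced from a character of any proper subgroup). Then χ(1) divides the size of some conjugacy class of G. -/
theorem result {G : Type*} [Group G] [Fintype G] (hodd : Odd (Nat.card G)) (h2 : (Nat.card G).primeFactors.card = 2) [hF : (Cfsg.fittingSubgroup G).Normal] (hmeta : Group.IsNilpotent (G ⧸ Cfsg.fittingSubgroup G)) (χ : Cfsg.IrrCharacter G) (hprim : ¬ ∃ (H : Subgroup G), H ≠ ⊤ ∧ ∃ θ : ↥H → ℂ, Cfsg.IsCharacter ↥H θ ∧ Cfsg.indFun H θ = (χ : G → ℂ)) : ∃ g : G, Cfsg.charDegree (χ : G → ℂ) ∣ (Subgroup.centralizer ({g} : Set G)).index := by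
  classical
  haveI := hmeta
  haveI : Group.IsNilpotent (Cfsg.fittingSubgroup G) := CfsgLib.isNilpotent_fittingSubgroup
  haveI : Group.IsSolvable G :=
    Group.isSolvable_of_ker_le_range (Cfsg.fittingSubgroup G).subtype (QuotientGroup.mk' (Cfsg.fittingSubgroup G))
      (by rw [QuotientGroup.ker_mk', Subgroup.range_subtype])
  obtain ⟨p, q, hpq, hpair⟩ := Finset.card_eq_two.mp h2
  haveI : Fact p.Prime := ⟨Nat.prime_of_mem_primeFactors (hpair ▸ Finset.mem_insert_self p {q})⟩
  haveI : Fact q.Prime :=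
    ⟨Nat.prime_of_mem_primeFactors (hpair ▸ Finset.mem_insert_of_mem (Finset.mem_singleton_self q))⟩
  obtain ⟨L, hk, hb, x, hx⟩ := CfsgLib.PrimClass.main (p := p) χ.2 hprim
  obtain ⟨L', hk', hb', y, hy⟩ := CfsgLib.PrimClass.main (p := q) χ.2 hprim
  set K : Subgroup G := CfsgLib.PrimClass.actKer p with hK
  set K' : Subgroup G := CfsgLib.PrimClass.actKer q with hK'
  have htop : K ⊔ K' = ⊤ := by
    have hP : ∀ (r : ℕ) [Fact r.Prime], (∀ P : Sylow r G, (P : Subgroup G) ≤ K ⊔ K') →
        ¬ r ∣ (K ⊔ K').index := fun r _ h hd =>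
      (default : Sylow r G).not_dvd_index (hd.trans (Subgroup.index_dvd_of_le (h default)))
    have h0 : ∀ (r : ℕ) [Fact r.Prime] (P : Sylow r G), (P : Subgroup G) ≤ CfsgLib.PrimClass.actKer r :=
      fun r _ P a ha => CfsgLib.PrimClass.pElement_mem_actKer (by
        obtain ⟨k, hk⟩ := IsPGroup.iff_orderOf.mp P.isPGroup' ⟨a, ha⟩
        exact ⟨k, by rw [← hk, Subgroup.orderOf_mk]⟩)
    have hp1 := hP p fun P => (h0 p P).trans le_sup_left
    have hq1 := hP q fun P => (h0 q P).trans le_sup_right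
    rw [← Subgroup.index_eq_one]
    by_contra h
    obtain ⟨r, hr, hrd⟩ := Nat.exists_prime_and_dvd h
    have hmem : r ∈ (Nat.card G).primeFactors :=
      Nat.mem_primeFactors.mpr ⟨hr, hrd.trans (Subgroup.index_dvd_card _), Nat.card_pos.ne'⟩
    rw [hpair, Finset.mem_insert, Finset.mem_singleton] at hmem
    rcases hmem with rfl | rfl
    · exact hp1 hrd
    · exact hq1 hrd
  have hmem : x⁻¹ * y ∈ (↑(K ⊔ K') : Set G) := by rw [htop]; exact Subgroup.mem_top _
  rw [Subgroup.normal_mul] at hmem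
  obtain ⟨k, hk1, k', hk2, he⟩ := Set.mem_mul.mp hmem
  refine ⟨x * k, ?_⟩
  have hxy : x * k = y * k'⁻¹ := by
    rw [show k = x⁻¹ * y * k'⁻¹ by rw [← he, mul_inv_cancel_right]]; group
  have hd0 : Cfsg.charDegree (χ : G → ℂ) ≠ 0 := (CfsgLib.CharTheory.charDegree_spec' χ.2).2.ne'
  refine (Nat.factorization_le_iff_dvd hd0 Subgroup.index_ne_zero_of_finite).mp fun r => ?_
  by_cases hr : r ∈ (Cfsg.charDegree (χ : G → ℂ)).primeFactors
  · have hdvd : Cfsg.charDegree (χ : G → ℂ) ∣ Nat.card G :=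
      (CfsgLib.CharTheory.charDegree_dvd_index_kernel χ.2).trans (Subgroup.index_dvd_card _)
    have hmem := Nat.primeFactors_mono hdvd Nat.card_pos.ne' hr
    rw [hpair, Finset.mem_insert, Finset.mem_singleton] at hmem
    rcases hmem with rfl | rfl
    · exact hx.trans ((hk x k hk1).symm.trans_le (hb _))
    · exact hy.trans ((hk' y k'⁻¹ (inv_mem hk2)).symm.trans_le (by rw [← hxy]; exact hb' _))
  · rw [← Nat.support_factorization, Finsupp.notMem_support_iff] at hr
    rw [hr]; exact Nat.zero_le _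

end Cfsg.Agent.S4993
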