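import Cfsg.Statements.S4997
import Cfsg.Agent.Lib.OneVanishing.Main

set_option autoImplicit false
open Cfsg

namespace Cfsg.Agent.S4997

open Cfsg.Agent.OneVanishing

universe u

/-- The bound, in the language of a single vanishing class. -/
theorem main {G : Type u} [Group G] [Finite G] (hsolv : Group.IsSolvable G) {p : ℕ} [Fact p.Prime]
    (hv : AtMostOne p G) (P : Sylow p G) :
    Nat.card (P : Subgroup G) ≤ p * Nat.card (Cfsg.pCore p G) := by
  have hp : p.Prime := Fact.out
  set O := Cfsg.pCore p G with hO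
  obtain ⟨k, hk⟩ := IsPGroup.iff_card.1 P.isPGroup'
  obtain ⟨j, hj⟩ := IsPGroup.iff_card.1 (CfsgLib.isPGroup_pCore (G := G) p)
  rcases le_or_gt k j with hle | hgt
  · rw [hk, hj]
    exact (Nat.pow_le_pow_right hp.pos hle).trans (Nat.le_mul_of_pos_left _ hp.pos)
  have hd : p ^ k ∣ Nat.card G := hk ▸ Subgroup.card_subgroup_dvd_card _
  rw [Subgroup.card_eq_card_quotient_mul_card_subgroup O, hj,
    show k = (k - j) + j by omega, pow_add] at hd
  have h1 := OneVanishing.one _ (G ⧸ O)
    (Group.isSolvable_of_surjective (QuotientGroup.mk'_surjective O)) rfl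
    CfsgLib.ZJ.pCore_quotient_pCore_eq_bot (hv.quotient O) (k - j)
    (Nat.dvd_of_mul_dvd_mul_right (pow_pos hp.pos j) hd)
  rw [hk, hj, show k = (k - j) + j by omega, pow_add]
  exact Nat.mul_le_mul_right _ (Nat.le_of_dvd hp.pos h1)

/-- Let p be an odd prime and G a finite solvable group with exactly one conjugacy class consisting of vanishing elements (elements at which some irreducible complex character is zero) of order divisible by p. Let P be a Sylow p-subgroup of G. Then the order of P is at most p times the order of the largest normal p-subgroup of G. -/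
theorem result {G : Type*} [Group G] [Finite G] (hsolv : Group.IsSolvable G) (p : ℕ) [Fact p.Prime] (hp : p ≠ 2) (h1 : Set.ncard {C : ConjClasses G | (∀ g ∈ C.carrier, ∃ χ : Cfsg.IrrCharacter G, (χ : G → ℂ) g = 0) ∧ ∃ g ∈ C.carrier, p ∣ orderOf g} = 1) (P : Sylow p G) : Nat.card ↥(P : Subgroup G) ≤ p * Nat.card ↥(Cfsg.pCore p G) := by
  refine main hsolv (fun x y hx hy vx vy => ?_) P
  obtain ⟨C, hC⟩ := Set.ncard_eq_one.1 h1
  have key : ∀ x : G, p ∣ orderOf x → Van x → ConjClasses.mk x = C := by
    intro x hx hvx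
    obtain ⟨χ, hχ, h0⟩ := hvx
    refine Set.eq_of_mem_singleton (hC ▸ ⟨fun g hg => ⟨⟨χ, hχ⟩, ?_⟩, x, ?_, hx⟩)
    · obtain ⟨c, hc⟩ := isConj_iff.1 (ConjClasses.mk_eq_mk_iff_isConj.1 (ConjClasses.mem_carrier_iff_mk_eq.1 hg).symm)
      show χ g = 0
      rw [← hc, CfsgLib.CharTheory.isClassFunction_irr hχ x c, h0]
    · exact ConjClasses.mem_carrier_mk
  exact ConjClasses.mk_eq_mk_iff_isConj.1 ((key x hx vx).trans (key y hy vy).symm)

end Cfsg.Agent.S4997
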