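import Cfsg.Statements.S5001
import Cfsg.Agent.Lib.Blocks.Principal
import Cfsg.Agent.Lib.CharTheory.Degree

set_option autoImplicit false
set_option linter.style.haveILetI false
open Cfsg

namespace Cfsg.Agent.S5001

open CfsgLib.Blocks CfsgLib.CharTheory

theorem card_sup_dvd_mul_of_le_normalizer {G : Type*} [Group G] [Finite G] (A B : Subgroup G)
    (h : B ≤ Subgroup.normalizer (A : Set G)) :
    Nat.card (A ⊔ B : Subgroup G) ∣ Nat.card A * Nat.card B := by
  have hA : A ≤ A ⊔ B := le_sup_left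
  have hB : B ≤ A ⊔ B := le_sup_right
  have hle : A ⊔ B ≤ Subgroup.normalizer (A : Set G) := sup_le Subgroup.le_normalizer h
  haveI : (A.subgroupOf (A ⊔ B)).Normal := Subgroup.normal_subgroupOf_of_le_normalizer hle
  have h1 := CfsgLib.card_sup_dvd_mul (B.subgroupOf (A ⊔ B)) (A.subgroupOf (A ⊔ B))
  rw [← Subgroup.subgroupOf_sup hB hA, sup_comm B A, Subgroup.subgroupOf_self, Subgroup.card_top,
    Nat.card_congr (Subgroup.subgroupOfEquivOfLe hB).toEquiv,
    Nat.card_congr (Subgroup.subgroupOfEquivOfLe hA).toEquiv, mul_comm] at h1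
  exact h1

/-- Let p be a prime, G a finite group and B a p-block of G (relative to a maximal ideal M of the algebraic integers containing p) with defect group D. Let Z be a central p-subgroup of G contained in D and λ a linear character of Z (a homomorphism to the nonzero complex numbers). Say an irreducible character χ of G lies over λ when χ(z) = χ(1)λ(z) for all z ∈ Z. If some irreducible character in B lying over λ has height zero, then λ extends to a linear character of D. -/
theorem result {G : Type*} [Group G] [Finite G] (p : ℕ) [Fact p.Prime] (M : Ideal Cfsg.AlgInt) (hM : Cfsg.IsPModular p M) (B : Set (Cfsg.IrrCharacter G)) (hB : Cfsg.IsPBlock M B) (D : Subgroup G) (hD : Cfsg.IsDefectGroup p M B D) (Z : Subgroup G) (hZc : Z ≤ Subgroup.center G) (hZp : IsPGroup p ↥Z) (hZD : Z ≤ D) (lam : ↥Z →* ℂˣ) (χ : Cfsg.IrrCharacter G) (hχ : χ ∈ B) (hover : (∀ z : ↥Z, (χ : G → ℂ) z = (χ : G → ℂ) 1 * (lam z : ℂ))) (h0 : Cfsg.blockHeight p B (χ : G → ℂ) = 0) : (∃ μ : ↥D →* ℂˣ,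 ∀ z : ↥Z, μ ⟨(z : G), hZD z.2⟩ = lam z) := by
  classical
  haveI := Fintype.ofFinite G
  haveI := res_isDomain hM
  have hp : p.Prime := Fact.out
  rw [height_zero_iff hχ] at h0
  have hDp := defectGroup_isPGroup hD
  obtain ⟨y, hy, S, rfl⟩ := hD
  set A : Subgroup G := (S : Subgroup (Subgroup.centralizer ({y} : Set G))).map (Subgroup.centralizer ({y} : Set G)).subtype ⊔ Subgroup.zpowers y with hA
  haveI : Fintype A := Fintype.ofFinite _
  haveI : Fintype Z := Fintype.ofFinite _
  have hDA : (S : Subgroup (Subgroup.centralizer ({y} : Set G))).map (Subgroup.centralizer ({y} : Set G)).subtype ≤ A := le_sup_left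
  have hyA : y ∈ A := (le_sup_right : _ ≤ A) (Subgroup.mem_zpowers y)
  have hycent : (⟨y, hyA⟩ : A) ∈ Subgroup.center A := by
    rw [Subgroup.mem_center_iff]
    rintro ⟨a, ha⟩
    refine Subtype.ext ?_
    show a * y = y * a
    have hle : A ≤ (Subgroup.centralizer ({y} : Set G)) := by
      refine sup_le ?_ ?_
      · rintro _ ⟨r, -, rfl⟩; exact r.2
      · exact Subgroup.zpowers_le.2 (Subgroup.mem_centralizer_singleton_iff.2 rfl)
    exact Subgroup.mem_centralizer_singleton_iff.1 (hle ha)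
  obtain ⟨n, hn⟩ : ∃ n : Cfsg.IrrCharacter A → ℕ, ∀ ψ : Cfsg.IrrCharacter A,
      Cfsg.classInner (fun a : A => (χ : G → ℂ) a) (ψ : A → ℂ) = (n ψ : ℂ) :=
    ⟨_, fun ψ => (classInner_char_nat (isCharacter_restrict_irr A χ)
      (isCharacter_of_irr ψ.2)).choose_spec⟩
  have hval : (χ : G → ℂ) y = ∑ ψ : Cfsg.IrrCharacter A, (n ψ : ℂ) * (ψ : A → ℂ) ⟨y, hyA⟩ := by
    have := congrFun (eq_sum_irr (isClassFunction_char (isCharacter_restrict_irr A χ))) ⟨y, hyA⟩
    simpa [hn] using this
  have hne : res hM ((χ : G → ℂ) y) ≠ 0 := fun h =>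
    not_memIdeal_defectClass hM hB hy hχ h0 ((res_eq_zero_iff hM (memRing_irr hM χ y)).1 h)
  rw [hval, res_sum hM fun ψ _ => (loc hM).mul_mem (memRing_natCast hM _) (memRing_irr hM ψ _)]
    at hne
  obtain ⟨ψ, -, hψne⟩ := Finset.exists_ne_zero_of_sum_ne_zero hne
  rw [res_mul hM (memRing_natCast hM _) (memRing_irr hM ψ _)] at hψne
  have hnψ : n ψ ≠ 0 := fun h => by
    rw [h, Nat.cast_zero, res_zero, zero_mul] at hψne; exact hψne rfl
  obtain ⟨m, ρ, hirr, hρ⟩ := ψ.2
  haveI := hirr
  obtain ⟨ω, hω⟩ := exists_scalar_of_mem_center ρ hycent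
  have hψy : (ψ : A → ℂ) ⟨y, hyA⟩ = ω * (ψ : A → ℂ) 1 := by
    rw [← hρ]
    simp only [Representation.character]
    rw [hω, map_smul, smul_eq_mul]
    simp [Module.End.one_eq_id]
  have hpd : ¬ p ∣ Cfsg.charDegree (ψ : A → ℂ) := by
    intro hd
    haveI := res_charP hM
    have hωi : MemLocalRing M ω := by
      have hω1 : ω ^ orderOf (⟨y, hyA⟩ : A) = 1 := by
        have h1 := congrArg (fun f => f ^ orderOf (⟨y, hyA⟩ : A)) hω
        simp only [← map_pow, pow_orderOf_eq_one, map_one] at h1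
        rw [show (ω • (LinearMap.id : (Fin m → ℂ) →ₗ[ℂ] (Fin m → ℂ))) =
          algebraMap ℂ (Module.End ℂ (Fin m → ℂ)) ω from rfl, ← map_pow] at h1
        have hm : Nontrivial (Fin m → ℂ) := by
          have hd1 : (ψ : A → ℂ) 1 ≠ 0 := irr_one_ne_zero ψ
          rw [← hρ, Representation.char_one] at hd1
          exact Module.nontrivial_of_finrank_pos (R := ℂ)
            (Nat.pos_of_ne_zero fun h => hd1 (by rw [h, Nat.cast_zero]))
        exact ((algebraMap ℂ (Module.End ℂ (Fin m → ℂ))).injective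
          (h1.symm.trans (map_one _).symm))
      exact memRing_of_isIntegral hM (IsIntegral.of_pow (orderOf_pos _)
        (hω1.symm ▸ isIntegral_one))
    apply right_ne_zero_of_mul hψne
    rw [hψy, ← irr_charDegree_cast ψ, res_mul hM hωi (memRing_natCast hM _), res_natCast,
      (CharP.cast_eq_zero_iff (AlgInt ⧸ M) p _).2 hd, mul_zero]
  have hdeg : (ψ : A → ℂ) 1 = 1 := by
    have hdvd : Module.finrank ℂ (Fin m → ℂ) ∣ (Subgroup.center A).index :=
      degree_dvd_index_center ρ
    have hfin : Module.finrank ℂ (Fin m → ℂ) = Cfsg.charDegree (ψ : A → ℂ) := by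
      have h1 := irr_charDegree_cast ψ
      rw [← hρ, Representation.char_one] at h1
      rw [← hρ]; exact_mod_cast h1.symm
    have hidx : ∃ k, (Subgroup.center A).index = p ^ k := by
      have hle : Subgroup.zpowers (⟨y, hyA⟩ : A) ≤ Subgroup.center A :=
        Subgroup.zpowers_le.2 hycent
      have hd := Subgroup.index_dvd_of_le hle
      have hd2 : (Subgroup.zpowers (⟨y, hyA⟩ : A)).index ∣
          Nat.card ((S : Subgroup (Subgroup.centralizer ({y} : Set G))).map (Subgroup.centralizer ({y} : Set G)).subtype : Subgroup G) := by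
        have hcard : Nat.card A ∣ Nat.card ((S : Subgroup (Subgroup.centralizer ({y} : Set G))).map (Subgroup.centralizer ({y} : Set G)).subtype : Subgroup G) *
            Nat.card (Subgroup.zpowers y) := by
          have hnorm : Subgroup.zpowers y ≤
              Subgroup.normalizer (((S : Subgroup (Subgroup.centralizer ({y} : Set G))).map (Subgroup.centralizer ({y} : Set G)).subtype : Subgroup G) : Set G) := by
            rw [Subgroup.zpowers_le, Subgroup.mem_normalizer_iff]
            intro r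
            have key : ∀ r ∈ ((S : Subgroup (Subgroup.centralizer ({y} : Set G))).map (Subgroup.centralizer ({y} : Set G)).subtype : Subgroup G), y * r * y⁻¹ = r := by
              rintro _ ⟨s, -, rfl⟩
              show y * (s : G) * y⁻¹ = s
              rw [← Subgroup.mem_centralizer_singleton_iff.1 s.2, mul_inv_cancel_right]
            refine ⟨fun hr => by rw [key r hr]; exact hr, fun hr => ?_⟩
            have h2 := key _ hr
            have h3 : y * r * y⁻¹ = r := mul_left_cancel (a := y) (mul_right_cancel (b := y⁻¹) h2)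
            rwa [h3] at hr
          exact card_sup_dvd_mul_of_le_normalizer _ _ hnorm
        rw [← Subgroup.index_mul_card (Subgroup.zpowers (⟨y, hyA⟩ : A)), Nat.card_zpowers,
          Nat.card_zpowers, Subgroup.orderOf_mk] at hcard
        exact Nat.dvd_of_mul_dvd_mul_right (orderOf_pos y) hcard
      obtain ⟨e, he⟩ := IsPGroup.iff_card.1 hDp
      rw [he] at hd2
      obtain ⟨k, -, hk⟩ := (Nat.dvd_prime_pow hp).1 (hd.trans hd2)
      exact ⟨k, hk⟩
    obtain ⟨k, hk⟩ := hidx
    rw [hk, hfin] at hdvd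
    obtain ⟨i, -, hi⟩ := (Nat.dvd_prime_pow hp).1 hdvd
    rcases i with _ | i
    · rw [← irr_charDegree_cast ψ, hi]; simp
    · exact absurd (hi ▸ dvd_pow_self p (Nat.succ_ne_zero i)) hpd
  obtain ⟨φ, hφ⟩ := exists_hom_of_degree_one (isCharacter_of_irr ψ.2) hdeg
  refine ⟨φ.comp (Subgroup.inclusion hDA), fun z => ?_⟩
  obtain ⟨d, π, hirrπ, hπ⟩ := χ.2
  haveI := hirrπ
  have hzc : (z : G) ∈ Subgroup.center G := hZc z.2
  obtain ⟨c, hc⟩ := exists_scalar_of_mem_center π hzc
  have hd1 : (χ : G → ℂ) 1 ≠ 0 := irr_one_ne_zero χ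
  have hmulz : ∀ g : G, (χ : G → ℂ) ((z : G) * g) = c * (χ : G → ℂ) g := by
    intro g
    rw [← hπ]
    simp only [Representation.character]
    rw [map_mul, hc, ← Module.End.one_eq_id, smul_mul_assoc, one_mul, map_smul, smul_eq_mul]
  have hclam : c = ((lam z : ℂˣ) : ℂ) := by
    have h1 := hmulz 1
    rw [mul_one, hover z, mul_comm] at h1
    exact (mul_right_cancel₀ hd1 h1).symm
  set za : A := ⟨(z : G), hDA (hZD z.2)⟩ with hza
  have hinner : ((φ za : ℂˣ) : ℂ) * (n ψ : ℂ) = c * (n ψ : ℂ) := by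
    rw [← hn ψ, Cfsg.classInner]
    simp only [hφ, Finset.mul_sum]
    refine Fintype.sum_equiv (Equiv.mulLeft za⁻¹) _ _ fun a => ?_
    show _ = c * (_ * ((χ : G → ℂ) ((za⁻¹ * a : A) : G) *
      (starRingEnd ℂ) ((φ (za⁻¹ * a) : ℂˣ) : ℂ)))
    have h2 : (χ : G → ℂ) (a : G) = c * (χ : G → ℂ) ((za⁻¹ * a : A) : G) := by
      rw [← hmulz]; congr 1; simp [hza]
    have h3 : (starRingEnd ℂ) ((φ (za⁻¹ * a) : ℂˣ) : ℂ) =
        ((φ za : ℂˣ) : ℂ) * (starRingEnd ℂ) ((φ a : ℂˣ) : ℂ) := by
      have h4 : (starRingEnd ℂ) ((φ za⁻¹ : ℂˣ) : ℂ) = ((φ za : ℂˣ) : ℂ) := by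
        have h5 := irr_conjInv ψ za⁻¹
        rw [inv_inv, hφ] at h5
        exact h5
      rw [map_mul, Units.val_mul, map_mul, h4]
    rw [h3, h2]; ring
  apply Units.ext
  rw [MonoidHom.comp_apply, ← hclam]
  exact mul_right_cancel₀ (Nat.cast_ne_zero.2 hnψ) hinner

end Cfsg.Agent.S5001
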