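import Cfsg.Statements.S5011
import Mathlib

set_option autoImplicit false
open Cfsg

namespace Cfsg.Agent.S5011

/-- Let G be a finite non-abelian simple group and ρ an irreducible complex representation of G on a space of dimension greater than one (irreducible in the sense that the only subspaces invariant under every ρ(x) are 0 and the whole space). Then for every non-identity element g of G, the centralizer of g does not act irreducibly: there is a non-zero proper subspace invariant under ρ(c) for every c commuting with g. -/
theorem result {G : Type*} [Group G] [Finite G] [IsSimpleGroup G]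
    (hG : ¬ IsMulCommutative G) {V : Type*} [AddCommGroup V] [Module ℂ V] [FiniteDimensional ℂ V]
    (ρ : Representation ℂ G V)
    (hirr : ∀ W : Submodule ℂ V, (∀ x : G, ∀ v ∈ W, ρ x v ∈ W) → W = ⊥ ∨ W = ⊤)
    (hdim : 1 < Module.finrank ℂ V) (g : G) (hg : g ≠ 1) :
    ∃ W : Submodule ℂ V, W ≠ ⊥ ∧ W ≠ ⊤ ∧ ∀ c ∈ Subgroup.centralizer ({g} : Set G), ∀ v ∈ W, ρ c v ∈ W := by
  classical
  haveI : Nontrivial V := Module.nontrivial_of_finrank_pos (R := ℂ) (by omega)
  obtain ⟨μ, hμ⟩ := Module.End.exists_eigenvalue (ρ g)
  refine ⟨Module.End.eigenspace (ρ g) μ, hμ, fun htop => ?_, fun c hc v hv => ?_⟩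
  · -- then `g` acts as a scalar
    have hscal : ∀ v : V, ρ g v = μ • v := fun v =>
      Module.End.mem_eigenspace_iff.mp (htop ▸ Submodule.mem_top)
    -- the kernel is trivial
    have hker : ρ.ker = ⊥ := by
      refine (IsSimpleGroup.eq_bot_or_eq_top_of_normal _ (MonoidHom.normal_ker ρ)).resolve_right fun he => ?_
      obtain ⟨v, hv⟩ := exists_ne (0 : V)
      rcases hirr (ℂ ∙ v) (fun x w hw => by
        have : x ∈ ρ.ker := he ▸ Subgroup.mem_top x
        rw [MonoidHom.mem_ker] at this
        simpa [this] using hw) with h | h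
      · exact hv (Submodule.span_singleton_eq_bot.mp h)
      · have := finrank_span_singleton (K := ℂ) hv
        rw [h, finrank_top] at this
        omega
    have hgc : g ∈ Subgroup.center G := by
      rw [Subgroup.mem_center_iff]
      intro x
      apply (MonoidHom.ker_eq_bot_iff ρ).mp hker
      ext v
      simp [map_mul, hscal]
    rcases IsSimpleGroup.eq_bot_or_eq_top_of_normal (Subgroup.center G) inferInstance with h | h
    · exact hg (Subgroup.mem_bot.mp (h ▸ hgc))
    · exact hG ⟨⟨fun a b => Subgroup.mem_center_iff.mp (h ▸ Subgroup.mem_top b) a⟩⟩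
  · rw [Module.End.mem_eigenspace_iff] at hv ⊢
    have h1 : ρ g (ρ c v) = ρ c (ρ g v) := by
      rw [← Module.End.mul_apply, ← Module.End.mul_apply, ← map_mul, ← map_mul,
        Subgroup.mem_centralizer_singleton_iff.mp hc]
    rw [h1, hv, map_smul]

end Cfsg.Agent.S5011
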