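import Cfsg.Statements.S5014
import Mathlib
import Cfsg.Agent.Lib.RootSub.RankOne
-- import your own Cfsg.Agent.* helpers here

set_option autoImplicit false
open Cfsg

namespace Cfsg.Agent.S5014

/-- Let X = ⟨A, B⟩ be a rank one group with unipotent subgroups A and B and let Ω be the set of conjugates of A under X. Then Ω has at least three members, X acts doubly transitively on Ω by conjugation (any two ordered pairs of distinct members are carried to one another by a single element of X), and A acts regularly on Ω with A removed: for C, D in Ω different from A there is exactly one element of A conjugating C to D. -/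
theorem result {G : Type*} [Group G] {A B : Subgroup G} (h : Cfsg.IsRankOnePair A B) :
    (∃ C₁ ∈ Cfsg.unipotentSubgroups A B, ∃ C₂ ∈ Cfsg.unipotentSubgroups A B, ∃ C₃ ∈ Cfsg.unipotentSubgroups A B,
      C₁ ≠ C₂ ∧ C₁ ≠ C₃ ∧ C₂ ≠ C₃) ∧
    (∀ C₁ ∈ Cfsg.unipotentSubgroups A B, ∀ C₂ ∈ Cfsg.unipotentSubgroups A B, ∀ D₁ ∈ Cfsg.unipotentSubgroups A B,
      ∀ D₂ ∈ Cfsg.unipotentSubgroups A B, C₁ ≠ C₂ → D₁ ≠ D₂ →
        ∃ x ∈ A ⊔ B, Cfsg.conjBy C₁ x = D₁ ∧ Cfsg.conjBy C₂ x = D₂) ∧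
    (∀ C ∈ Cfsg.unipotentSubgroups A B, ∀ D ∈ Cfsg.unipotentSubgroups A B, C ≠ A → D ≠ A →
      ∃! a : G, a ∈ A ∧ Cfsg.conjBy C a = D) := by
    refine ⟨?_, fun C₁ hC₁ C₂ hC₂ D₁ hD₁ D₂ hD₂ hC hD => ?_, fun C hC D hD hCA hDA => ?_⟩
    · obtain ⟨⟨a, ha⟩, hne⟩ := Subgroup.ne_bot_iff_exists_ne_one.mp (CfsgLib.RootSub.ne_bot_left h)
      have ha1 : a ≠ 1 := fun e => hne (Subtype.ext e)
      refine ⟨A, CfsgLib.RootSub.left_mem_unipotent, B, CfsgLib.RootSub.right_mem_unipotent h, Cfsg.conjBy B a,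
        CfsgLib.RootSub.conjBy_right_mem h ha, h.ne, (CfsgLib.RootSub.conjBy_right_ne h ha).symm, fun e => ?_⟩
      exact ha1 (CfsgLib.RootSub.conjBy_inj_left h ha (one_mem A) (e.symm.trans CfsgLib.RootSub.conjBy_one.symm))
    · obtain ⟨x, hx, rfl, rfl⟩ := CfsgLib.RootSub.exists_map_pair h hC₁ hC₂ hC
      obtain ⟨y, hy, rfl, rfl⟩ := CfsgLib.RootSub.exists_map_pair h hD₁ hD₂ hD
      exact ⟨y * x⁻¹, mul_mem hy (inv_mem hx),
        by rw [CfsgLib.RootSub.conjBy_conjBy, inv_mul_cancel_right], by rw [CfsgLib.RootSub.conjBy_conjBy, inv_mul_cancel_right]⟩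
    · obtain ⟨c, hc, rfl⟩ := CfsgLib.RootSub.unipotent_conj_left h hC hCA
      obtain ⟨d, hd, rfl⟩ := CfsgLib.RootSub.unipotent_conj_left h hD hDA
      refine ⟨d * c⁻¹, ⟨mul_mem hd (inv_mem hc), by rw [CfsgLib.RootSub.conjBy_conjBy, inv_mul_cancel_right]⟩, fun a ⟨ha, e⟩ => ?_⟩
      rw [CfsgLib.RootSub.conjBy_conjBy] at e
      rw [← CfsgLib.RootSub.conjBy_inj_left h (mul_mem ha hc) hd e, mul_inv_cancel_right]

end Cfsg.Agent.S5014
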