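import Cfsg.Statements.S5015
import Mathlib
import Cfsg.Agent.Lib.RootSub.RankOne
-- import your own Cfsg.Agent.* helpers here

set_option autoImplicit false
open Cfsg

namespace Cfsg.Agent.S5015

private theorem conj_congr {Y Ω : Type*} [Group Y] [MulAction Y Ω] {α : Ω} {A : Subgroup Y}
    (hAn : ∀ y ∈ MulAction.stabilizer Y α, Cfsg.conjBy A y = A) {g g' : Y} (h : g • α = g' • α) :
    Cfsg.conjBy A g = Cfsg.conjBy A g' := by
  have hs : g'⁻¹ * g ∈ MulAction.stabilizer Y α := by
    rw [MulAction.mem_stabilizer_iff, mul_smul, h, inv_smul_smul]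
  exact CfsgLib.RootSub.conjBy_eq_conjBy_iff.mpr (CfsgLib.RootSub.conjBy_eq_self_iff.mp (hAn _ hs))

/-- Let a group Y act doubly transitively on a set Ω with at least three points, and suppose that the stabilizer of a point α contains a nilpotent subgroup A, normalized by that stabilizer, which acts regularly on the points other than α. Then for any y in Y moving α, the subgroups A and y A y⁻¹ are the unipotent subgroups of a rank one group, and the normal closure of A in Y (the subgroup generated by all conjugates of A) is generated by A and y A y⁻¹ alone. -/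
theorem result {Y Ω : Type*} [Group Y] [MulAction Y Ω]
    (h2 : MulAction.IsMultiplyPretransitive Y Ω 2) (hΩ : 3 ≤ ENat.card Ω) (α : Ω) (A : Subgroup Y)
    (hA : A ≤ MulAction.stabilizer Y α) (hAn : ∀ y ∈ MulAction.stabilizer Y α, Cfsg.conjBy A y = A)
    (hnil : Group.IsNilpotent A) (hreg : ∀ β γ : Ω, β ≠ α → γ ≠ α → ∃! a : Y, a ∈ A ∧ a • β = γ)
    (y : Y) (hy : y ∉ MulAction.stabilizer Y α) :
    Cfsg.IsRankOnePair A (Cfsg.conjBy A y) ∧ Subgroup.normalClosure (A : Set Y) = A ⊔ Cfsg.conjBy A y := by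
    set β := y • α with hβ
    have hβα : β ≠ α := fun e => hy (MulAction.mem_stabilizer_iff.mpr e)
    obtain ⟨γ, hγα, hγβ⟩ : ∃ γ : Ω, γ ≠ α ∧ γ ≠ β := by
      by_contra hc
      push Not at hc
      have hsub : (Set.univ : Set Ω) ⊆ {α, β} := fun x _ => by
        by_cases hx : x = α
        · exact Or.inl hx
        · exact Or.inr (hc x hx)
      have h1 : ENat.card Ω ≤ 2 := by
        rw [← Set.encard_univ]
        refine (Set.encard_le_encard hsub).trans ?_
        rw [Set.encard_pair hβα.symm]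
      exact absurd (hΩ.trans h1) (by decide)
    have hBfix : ∀ b ∈ Cfsg.conjBy A y, b • β = β := by
      rintro _ ⟨a, ha, rfl⟩
      simp only [MulEquiv.coe_toMonoidHom, MulAut.conj_apply, hβ]
      rw [mul_smul, mul_smul, inv_smul_smul, MulAction.mem_stabilizer_iff.mp (hA ha)]
    have hNorm : (A ⊔ Cfsg.conjBy A y).Normal := by
      refine ⟨fun n hn g => ?_⟩
      have key : ∀ g : Y, Cfsg.conjBy A g ≤ A ⊔ Cfsg.conjBy A y := fun g => by
        by_cases hg : g • α = α
        · rw [hAn g (MulAction.mem_stabilizer_iff.mpr hg)]; exact le_sup_left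
        · obtain ⟨a, ⟨ha, hab⟩, -⟩ := hreg β (g • α) hβα hg
          rw [conj_congr hAn (g := g) (g' := a * y) (by rw [mul_smul, ← hβ, hab]), ← CfsgLib.RootSub.conjBy_conjBy]
          rintro _ ⟨z, hz, rfl⟩
          exact mul_mem (mul_mem (Subgroup.mem_sup_left ha) (Subgroup.mem_sup_right hz)) (inv_mem (Subgroup.mem_sup_left ha))
      have h3 : Cfsg.conjBy (A ⊔ Cfsg.conjBy A y) g ≤ A ⊔ Cfsg.conjBy A y := by
        rw [Cfsg.conjBy, Subgroup.map_sup]
        refine sup_le (key g) ?_
        rw [← Cfsg.conjBy, CfsgLib.RootSub.conjBy_conjBy]; exact key _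
      exact h3 (CfsgLib.RootSub.conjBy_mem hn)
    refine ⟨⟨?_, hnil, ?_, ?_, ?_⟩, le_antisymm (Subgroup.normalClosure_le_normal ?_) (sup_le Subgroup.le_normalClosure ?_)⟩
    case _ =>
      intro e
      obtain ⟨a, ⟨ha, hab⟩, -⟩ := hreg β γ hβα hγα
      rw [e] at ha
      exact hγβ (hab.symm.trans (hBfix a ha))
    case _ =>
      have := hnil
      exact Group.nilpotent_of_mulEquiv (A.equivMapOfInjective _ (MulAut.conj y).injective)
    · intro a ha ha1
      have hfa : a • α = α := MulAction.mem_stabilizer_iff.mp (hA ha)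
      set δ := a⁻¹ • β with hδ
      have hδα : δ ≠ α := fun e => hβα (by rw [← smul_inv_smul a β, ← hδ, e, hfa])
      have hδβ : δ ≠ β := fun e => by
        obtain ⟨c, -, huniq⟩ := hreg β β hβα hβα
        exact ha1 ((huniq a ⟨ha, eq_inv_smul_iff.mp e.symm⟩).trans (huniq 1 ⟨one_mem A, one_smul Y β⟩).symm)
      have h1 : y⁻¹ • δ ≠ α := fun e => hδβ (by rw [hβ, ← e, smul_inv_smul])
      have h2' : y⁻¹ • α ≠ α := fun e => hβα (by rw [hβ]; exact ((inv_smul_eq_iff.mp e).symm))
      obtain ⟨c, ⟨hc, hcd⟩, -⟩ := hreg _ _ h1 h2'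
      refine ⟨y * c * y⁻¹, CfsgLib.RootSub.conjBy_mem hc, fun e => hδα ?_, ?_⟩
      · have hc1 : c = 1 := by
          have := congrArg (fun t => y⁻¹ * t * y) e
          simpa [mul_assoc] using this
        rw [hc1, one_smul] at hcd
        exact MulAction.injective y⁻¹ hcd
      · rw [CfsgLib.RootSub.conjBy_conjBy]
        refine conj_congr hAn ?_
        rw [mul_smul, ← hβ, inv_smul_eq_iff, mul_smul, mul_smul, ← hδ]
        refine eq_comm.mp ?_
        rw [hcd, smul_inv_smul]
    · rintro b ⟨c, hc, rfl⟩ hb1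
      simp only [MulEquiv.coe_toMonoidHom, MulAut.conj_apply] at hb1 ⊢
      set δ := (y * c * y⁻¹)⁻¹ • α with hδ
      have hcb : (y * c * y⁻¹) • β = β := hBfix _ (CfsgLib.RootSub.conjBy_mem hc)
      have hδα : δ ≠ α := fun e => by
        have h3 : c • (y⁻¹ • α) = y⁻¹ • α := by
          have h4 := inv_smul_eq_iff.mp e
          rw [mul_smul, mul_smul] at h4
          rw [eq_inv_smul_iff]; exact h4.symm
        have hne : y⁻¹ • α ≠ α := fun e' => hβα (by rw [hβ]; exact ((inv_smul_eq_iff.mp e').symm))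
        obtain ⟨d, -, huniq⟩ := hreg _ _ hne hne
        have hc1 : c = 1 := (huniq c ⟨hc, h3⟩).trans (huniq 1 ⟨one_mem A, one_smul Y _⟩).symm
        exact hb1 (by rw [hc1]; group)
      obtain ⟨a, ⟨ha, had⟩, -⟩ := hreg δ β hδα hβα
      refine ⟨a, ha, fun e => ?_, ?_⟩
      · rw [e, one_smul] at had
        rw [hδ, inv_smul_eq_iff, hcb] at had
        exact hβα had.symm
      · rw [CfsgLib.RootSub.conjBy_conjBy]
        refine conj_congr hAn ?_
        rw [← hδ, mul_smul, ← hβ, inv_smul_eq_iff, had]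
    · exact SetLike.coe_subset_coe.mpr le_sup_left
    · rintro _ ⟨a, ha, rfl⟩
      exact Subgroup.normalClosure_normal.conj_mem a (Subgroup.le_normalClosure ha) y

end Cfsg.Agent.S5015
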