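import Cfsg.Statements.S5016
import Mathlib
import Cfsg.Agent.Lib.RootSub.RankOne
-- import your own Cfsg.Agent.* helpers here

set_option autoImplicit false
open Cfsg

namespace Cfsg.Agent.S5016

variable {k : Type*} [Field k]

private def up (x : k) : Matrix.SpecialLinearGroup (Fin 2) k := ⟨!![1, x; 0, 1], by simp [Matrix.det_fin_two]⟩

private def lo (x : k) : Matrix.SpecialLinearGroup (Fin 2) k := ⟨!![1, 0; x, 1], by simp [Matrix.det_fin_two]⟩

private theorem up_coe (x : k) : (up x : Matrix (Fin 2) (Fin 2) k) = !![1, x; 0, 1] := rfl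

private theorem lo_coe (x : k) : (lo x : Matrix (Fin 2) (Fin 2) k) = !![1, 0; x, 1] := rfl

private theorem up_mul (x y : k) : up x * up y = up (x + y) :=
  Subtype.ext (by rw [Matrix.SpecialLinearGroup.coe_mul]; simp [up, Matrix.mul_fin_two, add_comm])

private theorem lo_mul (x y : k) : lo x * lo y = lo (x + y) :=
  Subtype.ext (by rw [Matrix.SpecialLinearGroup.coe_mul]; simp [lo, Matrix.mul_fin_two])

private theorem up_zero : up (0 : k) = 1 := Subtype.ext (by rw [Matrix.SpecialLinearGroup.coe_one]; simp [up, Matrix.one_fin_two])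

private theorem lo_zero : lo (0 : k) = 1 := Subtype.ext (by rw [Matrix.SpecialLinearGroup.coe_one]; simp [lo, Matrix.one_fin_two])

private theorem up_inv (x : k) : (up x)⁻¹ = up (-x) := inv_eq_of_mul_eq_one_right (by rw [up_mul, add_neg_cancel, up_zero])

private theorem lo_inv (x : k) : (lo x)⁻¹ = lo (-x) := inv_eq_of_mul_eq_one_right (by rw [lo_mul, add_neg_cancel, lo_zero])

private theorem mem_upper {g : Matrix.SpecialLinearGroup (Fin 2) k} : g ∈ Cfsg.upperUnipotentSL2 k ↔ ∃ x, up x = g := by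
  constructor
  · intro h
    induction h using Subgroup.closure_induction with
    | mem y hy => exact ⟨(y : Matrix (Fin 2) (Fin 2) k) 0 1, Subtype.ext (by
        obtain ⟨h1, h2, h3⟩ := hy
        conv_rhs => rw [Matrix.eta_fin_two (y : Matrix (Fin 2) (Fin 2) k), h1, h2, h3]
        rfl)⟩
    | one => exact ⟨0, up_zero⟩
    | mul a b _ _ ha hb => obtain ⟨x, rfl⟩ := ha; obtain ⟨y, rfl⟩ := hb; exact ⟨x + y, (up_mul x y).symm⟩
    | inv a _ ha => obtain ⟨x, rfl⟩ := ha; exact ⟨-x, (up_inv x).symm⟩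
  · rintro ⟨x, rfl⟩
    exact Subgroup.subset_closure ⟨rfl, rfl, rfl⟩

private theorem mem_lower {g : Matrix.SpecialLinearGroup (Fin 2) k} : g ∈ Cfsg.lowerUnipotentSL2 k ↔ ∃ x, lo x = g := by
  constructor
  · intro h
    induction h using Subgroup.closure_induction with
    | mem y hy => exact ⟨(y : Matrix (Fin 2) (Fin 2) k) 1 0, Subtype.ext (by
        obtain ⟨h1, h2, h3⟩ := hy
        conv_rhs => rw [Matrix.eta_fin_two (y : Matrix (Fin 2) (Fin 2) k), h1, h2, h3]
        rfl)⟩
    | one => exact ⟨0, lo_zero⟩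
    | mul a b _ _ ha hb => obtain ⟨x, rfl⟩ := ha; obtain ⟨y, rfl⟩ := hb; exact ⟨x + y, (lo_mul x y).symm⟩
    | inv a _ ha => obtain ⟨x, rfl⟩ := ha; exact ⟨-x, (lo_inv x).symm⟩
  · rintro ⟨x, rfl⟩
    exact Subgroup.subset_closure ⟨rfl, rfl, rfl⟩

private theorem weyl_conj {t : k} (ht : t ≠ 0) (x : k) :
    up t⁻¹ * lo (-t) * up x = lo (-(t * t * x)) * (up t⁻¹ * lo (-t)) := by
  refine Subtype.ext ?_
  simp only [Matrix.SpecialLinearGroup.coe_mul, up_coe, lo_coe, Matrix.mul_fin_two]
  ext i j; fin_cases i <;> fin_cases j <;> simp <;> field_simp <;> (try simp) <;> (try ring)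

private theorem key_eq {t : k} (ht : t ≠ 0) :
    Cfsg.conjBy (Cfsg.lowerUnipotentSL2 k) (up t⁻¹)⁻¹ = Cfsg.conjBy (Cfsg.upperUnipotentSL2 k) (lo t)⁻¹ := by
  ext g
  rw [CfsgLib.RootSub.conjBy_mem_iff, CfsgLib.RootSub.conjBy_mem_iff, inv_inv, inv_inv, mem_lower, mem_upper]
  have hm : ∀ x, lo t * (lo (-t) * up x * lo t) * (lo t)⁻¹ = up x := fun x => by
    rw [← lo_inv]; group
  constructor
  · rintro ⟨y, hy⟩
    refine ⟨-(y / (t * t)), ?_⟩
    have hw := weyl_conj ht (-(y / (t * t)))
    rw [show -(t * t * -(y / (t * t))) = y by field_simp, hy, ← lo_inv] at hw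
    calc up (-(y / (t * t))) = lo t * (up t⁻¹)⁻¹ * (up t⁻¹ * (lo t)⁻¹ * up (-(y / (t * t)))) := by group
      _ = _ := by rw [hw]; group
  · rintro ⟨x, hx⟩
    refine ⟨-(t * t * x), ?_⟩
    have hw := weyl_conj ht x
    rw [hx, ← lo_inv] at hw
    calc lo (-(t * t * x)) = lo (-(t * t * x)) * (up t⁻¹ * (lo t)⁻¹) * (lo t * (up t⁻¹)⁻¹) := by group
      _ = _ := by rw [← hw]; group

/-- For any field k, the special linear group SL₂(k) is a special rank one group with abelian unipotent subgroups, the unipotent subgroups being the group of lower unitriangular matrices and the group of upper unitriangular matrices. -/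
theorem result (k : Type*) [Field k] :
    Cfsg.IsRankOneGroup (Matrix.SpecialLinearGroup (Fin 2) k) (Cfsg.lowerUnipotentSL2 k) (Cfsg.upperUnipotentSL2 k) ∧
    Cfsg.IsSpecialRankOnePair (Cfsg.lowerUnipotentSL2 k) (Cfsg.upperUnipotentSL2 k) ∧
    Cfsg.HasAbelianUnipotents (Cfsg.lowerUnipotentSL2 k) (Cfsg.upperUnipotentSL2 k) := by
    classical
    set A := Cfsg.lowerUnipotentSL2 k
    set B := Cfsg.upperUnipotentSL2 k
    have hA : IsMulCommutative A := ⟨⟨fun a b => Subtype.ext (by
      obtain ⟨x, hx⟩ := mem_lower.mp a.2; obtain ⟨y, hy⟩ := mem_lower.mp b.2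
      rw [Subgroup.coe_mul, Subgroup.coe_mul, ← hx, ← hy, lo_mul, lo_mul, add_comm])⟩⟩
    have hB : IsMulCommutative B := ⟨⟨fun a b => Subtype.ext (by
      obtain ⟨x, hx⟩ := mem_upper.mp a.2; obtain ⟨y, hy⟩ := mem_upper.mp b.2
      rw [Subgroup.coe_mul, Subgroup.coe_mul, ← hx, ← hy, up_mul, up_mul, add_comm])⟩⟩
    have hcomm_nil : ∀ K : Subgroup (Matrix.SpecialLinearGroup (Fin 2) k), IsMulCommutative K → Group.IsNilpotent K :=
      fun K hK => by open scoped IsMulCommutative in exact CommGroup.isNilpotent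
    have hne : A ≠ B := fun e => by
      have h : lo (1 : k) ∈ B := e ▸ mem_lower.mpr ⟨1, rfl⟩
      obtain ⟨x, hx⟩ := mem_upper.mp h
      have := congrArg (fun M : Matrix.SpecialLinearGroup (Fin 2) k => (M : Matrix (Fin 2) (Fin 2) k) 1 0) hx
      simp [up, lo] at this
    have hp : Cfsg.IsRankOnePair A B := by
      refine ⟨hne, hcomm_nil A hA, hcomm_nil B hB, fun a ha ha1 => ?_, fun b hb hb1 => ?_⟩
      · obtain ⟨t, rfl⟩ := mem_lower.mp ha
        have ht : t ≠ 0 := fun h => ha1 (by rw [h, lo_zero])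
        refine ⟨up t⁻¹, mem_upper.mpr ⟨_, rfl⟩, fun h => ?_, key_eq ht⟩
        have := congrArg (fun M : Matrix.SpecialLinearGroup (Fin 2) k => (M : Matrix (Fin 2) (Fin 2) k) 0 1) h
        simp [up, ht] at this
      · obtain ⟨u, rfl⟩ := mem_upper.mp hb
        have hu : u ≠ 0 := fun h => hb1 (by rw [h, up_zero])
        refine ⟨lo u⁻¹, mem_lower.mpr ⟨_, rfl⟩, fun h => ?_, ?_⟩
        · have := congrArg (fun M : Matrix.SpecialLinearGroup (Fin 2) k => (M : Matrix (Fin 2) (Fin 2) k) 1 0) h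
          simp [lo, hu] at this
        · have := key_eq (inv_ne_zero hu)
          rw [inv_inv] at this
          exact this.symm
    refine ⟨⟨?_, hp⟩, ⟨hp, fun a ha ha1 b hb hb1 e => ?_⟩, hA, hB⟩
    · rw [eq_top_iff]
      have hlo : ∀ x, lo x ∈ A ⊔ B := fun x => Subgroup.mem_sup_left (mem_lower.mpr ⟨x, rfl⟩)
      have hup : ∀ x, up x ∈ A ⊔ B := fun x => Subgroup.mem_sup_right (mem_upper.mpr ⟨x, rfl⟩)
      have main : ∀ g : Matrix.SpecialLinearGroup (Fin 2) k, (g : Matrix (Fin 2) (Fin 2) k) 1 0 ≠ 0 → g ∈ A ⊔ B := fun g hc => by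
        set a := (g : Matrix (Fin 2) (Fin 2) k) 0 0 with ha
        set c := (g : Matrix (Fin 2) (Fin 2) k) 1 0 with hc'
        set d := (g : Matrix (Fin 2) (Fin 2) k) 1 1 with hd
        set b := (g : Matrix (Fin 2) (Fin 2) k) 0 1 with hb
        have hdet : a * d - b * c = 1 := by rw [ha, hb, hc', hd, ← Matrix.det_fin_two]; exact g.2
        have hg : g = up ((a - 1) / c) * lo c * up ((d - 1) / c) := by
          refine Subtype.ext ?_
          simp only [Matrix.SpecialLinearGroup.coe_mul, up_coe, lo_coe, Matrix.mul_fin_two]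
          ext i j; fin_cases i <;> fin_cases j
          all_goals simp
          all_goals (try simp only [← ha, ← hb, ← hc', ← hd])
          all_goals (try field_simp)
          all_goals (first | linear_combination hdet | linear_combination -hdet | ring | simp)
        rw [hg]
        exact mul_mem (mul_mem (hup _) (hlo _)) (hup _)
      intro g _
      by_cases hc : (g : Matrix (Fin 2) (Fin 2) k) 1 0 = 0
      · have h2 : lo 1 * g ∈ A ⊔ B := by
          refine main _ ?_
          have hdet := g.2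
          rw [Matrix.det_fin_two, hc, mul_zero, sub_zero] at hdet
          have ha0 : (g : Matrix (Fin 2) (Fin 2) k) 0 0 ≠ 0 := left_ne_zero_of_mul_eq_one hdet
          simpa [Matrix.SpecialLinearGroup.coe_mul, lo_coe, Matrix.mul_apply, Fin.sum_univ_two, hc] using ha0
        have h3 := mul_mem (inv_mem (hlo 1)) h2
        rwa [inv_mul_cancel_left] at h3
      · exact main g hc
    · obtain ⟨t, rfl⟩ := mem_lower.mp ha
      have ht : t ≠ 0 := fun h => ha1 (by rw [h, lo_zero])
      have hbeq : b = up t⁻¹ := inv_injective (CfsgLib.RootSub.conjBy_inj_left (Cfsg.RankOnePair_symm hp) (inv_mem hb)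
        (inv_mem (mem_upper.mpr ⟨_, rfl⟩)) (e.trans (key_eq ht).symm))
      subst hbeq
      rw [up_inv, lo_inv]
      refine Subtype.ext ?_
      simp only [Matrix.SpecialLinearGroup.coe_mul, up_coe, lo_coe, Matrix.mul_fin_two]
      ext i j; fin_cases i <;> fin_cases j <;> simp <;> field_simp <;> (try simp) <;> (try ring)

end Cfsg.Agent.S5016
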