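import Cfsg.Statements.S5017
import Mathlib
import Cfsg.Agent.Lib.RootSub.RankOne
-- import your own Cfsg.Agent.* helpers here

set_option autoImplicit false
open Cfsg

namespace Cfsg.Agent.S5017

/-- Let X be a rank one group with unipotent subgroups A and B and N a normal subgroup of X. Then either X = N A or N lies in the centre of X. Consequently a perfect rank one group is quasisimple. -/
theorem result {X : Type*} [Group X] {A B : Subgroup X} (h : Cfsg.IsRankOneGroup X A B) :
    (∀ N : Subgroup X, N.Normal → N ⊔ A = ⊤ ∨ N ≤ Subgroup.center X) ∧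
    (Group.IsPerfect X → Cfsg.IsQuasisimple X) := by
    obtain ⟨htop, hp⟩ := h
    have dich : ∀ N : Subgroup X, N.Normal → N ⊔ A = ⊤ ∨ N ≤ Subgroup.center X := by
      intro N hN
      by_cases hall : ∀ n ∈ N, ∀ C ∈ Cfsg.unipotentSubgroups A B, n ∈ Subgroup.normalizer (C : Set X)
      · right
        intro n hn
        have comm : ∀ P Q : Subgroup X, Cfsg.IsRankOnePair P Q → (∀ m ∈ N, m ∈ Subgroup.normalizer (P : Set X)) →
            (∀ m ∈ N, m ∈ Subgroup.normalizer (Q : Set X)) → P ≤ Subgroup.centralizer {n} := by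
          intro P Q hPQ hP hQ x hx
          rw [Subgroup.mem_centralizer_singleton_iff]
          have h1 : n * x * n⁻¹ * x⁻¹ ∈ P := mul_mem ((Subgroup.mem_normalizer_iff.mp (hP n hn) x).mp hx) (inv_mem hx)
          have h2 : n * x * n⁻¹ * x⁻¹ ∈ N := by
            have := mul_mem hn (hN.conj_mem n⁻¹ (inv_mem hn) x)
            simpa [mul_assoc] using this
          have h3 := CfsgLib.RootSub.eq_one_of_normalizes hPQ h1 (hQ _ h2)
          calc x * n = (n * x * n⁻¹ * x⁻¹)⁻¹ * (n * x) := by group
            _ = _ := by rw [h3]; group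
        have hA := fun m hm => hall m hm A CfsgLib.RootSub.left_mem_unipotent
        have hB := fun m hm => hall m hm B (CfsgLib.RootSub.right_mem_unipotent hp)
        have hle : (⊤ : Subgroup X) ≤ Subgroup.centralizer {n} :=
          htop ▸ sup_le (comm A B hp hA hB) (comm B A (Cfsg.RankOnePair_symm hp) hB hA)
        exact Subgroup.mem_center_iff.mpr fun g => Subgroup.mem_centralizer_singleton_iff.mp (hle (Subgroup.mem_top g))
      · left
        push Not at hall
        obtain ⟨n, hn, C, hC, hnC⟩ := hall
        -- some element of `N` moves `A`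
        obtain ⟨x, hx, rfl⟩ := hC
        have hm : x⁻¹ * n * x ∈ N := by simpa using hN.conj_mem n hn x⁻¹
        have hmA : Cfsg.conjBy A (x⁻¹ * n * x) ≠ A := fun e => hnC (CfsgLib.RootSub.conjBy_eq_self_iff.mp (by
          have := congrArg (fun K => Cfsg.conjBy K x) e
          rw [CfsgLib.RootSub.conjBy_conjBy] at this
          rw [CfsgLib.RootSub.conjBy_conjBy]
          rwa [show x * (x⁻¹ * n * x) = n * x by group] at this))
        obtain ⟨a, ha, e⟩ := CfsgLib.RootSub.unipotent_conj_left hp (C := Cfsg.conjBy A (x⁻¹ * n * x))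
          ⟨_, htop.symm ▸ Subgroup.mem_top _, rfl⟩ hmA
        rw [eq_top_iff, ← htop]
        refine sup_le le_sup_right fun b hb => ?_
        have h1 : a * b * a⁻¹ ∈ Cfsg.conjBy A (x⁻¹ * n * x) := e ▸ CfsgLib.RootSub.conjBy_mem hb
        obtain ⟨a', ha', h2⟩ := h1
        simp only [MulEquiv.coe_toMonoidHom, MulAut.conj_apply] at h2
        rw [show b = a⁻¹ * ((x⁻¹ * n * x) * a' * (x⁻¹ * n * x)⁻¹) * a by rw [h2]; group]
        exact mul_mem (mul_mem (Subgroup.mem_sup_right (inv_mem ha)) (mul_mem (mul_mem (Subgroup.mem_sup_left hm)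
          (Subgroup.mem_sup_right ha')) (Subgroup.mem_sup_left (inv_mem hm)))) (Subgroup.mem_sup_right ha)
    refine ⟨dich, fun hperf => ⟨hperf, ?_⟩⟩
    have hnab : Subgroup.center X ≠ ⊤ := fun hc => CfsgLib.RootSub.ne_bot_left hp (by
      rw [Subgroup.eq_bot_iff_forall]
      intro a ha
      refine CfsgLib.RootSub.eq_one_of_normalizes hp ha ?_
      rw [← CfsgLib.RootSub.conjBy_eq_self_iff]
      ext y
      rw [CfsgLib.RootSub.conjBy_mem_iff, mul_assoc, Subgroup.mem_center_iff.mp (hc ▸ Subgroup.mem_top a) y, inv_mul_cancel_left])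
    have : Nontrivial (X ⧸ Subgroup.center X) := QuotientGroup.nontrivial_iff.mpr hnab
    refine ⟨fun M hM => ?_⟩
    set N := M.comap (QuotientGroup.mk' (Subgroup.center X)) with hN
    have hNn : N.Normal := hM.comap _
    have hsurj := QuotientGroup.mk'_surjective (Subgroup.center X)
    rcases dich N hNn with h1 | h1
    · right
      have hNtop : N = ⊤ := by
        have hsur : Function.Surjective ((QuotientGroup.mk' N).comp A.subtype) := fun q => by
          obtain ⟨g, rfl⟩ := QuotientGroup.mk_surjective q
          obtain ⟨m, hm, a, ha, rfl⟩ := Subgroup.mem_sup_of_normal_left.mp (show g ∈ N ⊔ A from h1 ▸ Subgroup.mem_top g)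
          exact ⟨⟨a, ha⟩, by simp [(QuotientGroup.eq_one_iff m).mpr hm]⟩
        have := hp.nilpotent_left
        have hnilq : Group.IsNilpotent (X ⧸ N) := Group.nilpotent_of_surjective _ hsur
        have hcq : commutator (X ⧸ N) = ⊤ := by
          rw [commutator_def, ← Subgroup.map_top_of_surjective _ (QuotientGroup.mk'_surjective N), ← Subgroup.map_commutator,
            ← commutator_def, hperf.commutator_eq_top]
        by_contra hne
        have : Nontrivial (X ⧸ N) := QuotientGroup.nontrivial_iff.mpr hne
        have hsol : Group.IsSolvable (X ⧸ N) := inferInstance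
        exact (IsSolvable.commutator_lt_top_of_nontrivial (X ⧸ N)).ne hcq
      rw [← Subgroup.map_comap_eq_self_of_surjective hsurj M, ← hN, hNtop, Subgroup.map_top_of_surjective _ hsurj]
    · left
      rw [← Subgroup.map_comap_eq_self_of_surjective hsurj M, ← hN, eq_bot_iff]
      rintro _ ⟨y, hy, rfl⟩
      exact Subgroup.mem_bot.mpr ((QuotientGroup.eq_one_iff y).mpr (h1 hy))

end Cfsg.Agent.S5017
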