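import Cfsg.Statements.S5018
import Mathlib
import Cfsg.Agent.Lib.RootSub.RankOne
-- import your own Cfsg.Agent.* helpers here

set_option autoImplicit false
open Cfsg

namespace Cfsg.Agent.S5018

/-- A rank one group is not nilpotent, and its second centre equals its centre. -/
theorem result {X : Type*} [Group X] {A B : Subgroup X} (h : Cfsg.IsRankOneGroup X A B) :
    Subgroup.upperCentralSeries X 2 = Subgroup.center X ∧ ¬ Group.IsNilpotent X := by
    obtain ⟨htop, hp⟩ := h
    have hUA : ∀ z : X, Cfsg.conjBy A z ∈ Cfsg.unipotentSubgroups A B := fun z => ⟨z, htop.symm ▸ Subgroup.mem_top z, rfl⟩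
    have hcn : ∀ c ∈ Subgroup.center X, ∀ K : Subgroup X, c ∈ Subgroup.normalizer (K : Set X) := fun c hc K => by
      rw [Subgroup.mem_normalizer_iff]; intro x
      rw [← Subgroup.mem_center_iff.mp hc x, mul_inv_cancel_right]
    have key : ∀ z ∈ Subgroup.upperCentralSeries X 2, z ∈ Subgroup.center X := by
      intro z hz
      rw [show (2 : ℕ) = 1 + 1 from rfl, Subgroup.mem_upperCentralSeries_succ_iff] at hz
      simp only [Subgroup.upperCentralSeries_one] at hz
      have hnorm : ∀ C ∈ Cfsg.unipotentSubgroups A B, (∃ x ∈ C, x ≠ 1) → z ∈ Subgroup.normalizer (C : Set X) := by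
        intro C hC ⟨x, hx, hx1⟩
        refine CfsgLib.RootSub.conjBy_eq_self_iff.mp ?_
        have hC' : Cfsg.conjBy C z ∈ Cfsg.unipotentSubgroups A B := by
          obtain ⟨w, -, rfl⟩ := hC
          rw [CfsgLib.RootSub.conjBy_conjBy]; exact hUA _
        refine (CfsgLib.RootSub.eq_of_normalizes hp hC' hC (CfsgLib.RootSub.conjBy_mem (g := z) hx)
          (fun e => hx1 (mul_left_cancel (a := z) ((mul_inv_eq_one.mp e).trans (mul_one z).symm))) ?_).symm
        have h2 := mul_mem (hcn _ (hz x) C) (Subgroup.le_normalizer hx)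
        rwa [commutatorElement_def, show z * x * z⁻¹ * x⁻¹ * x = z * x * z⁻¹ by group] at h2
      obtain ⟨⟨a₀, ha₀⟩, hane⟩ := Subgroup.ne_bot_iff_exists_ne_one.mp (CfsgLib.RootSub.ne_bot_left hp)
      obtain ⟨⟨b₀, hb₀⟩, hbne⟩ := Subgroup.ne_bot_iff_exists_ne_one.mp (CfsgLib.RootSub.ne_bot_left (Cfsg.RankOnePair_symm hp))
      have hzA := hnorm A CfsgLib.RootSub.left_mem_unipotent ⟨a₀, ha₀, fun e => hane (Subtype.ext e)⟩
      have hzB := hnorm B (CfsgLib.RootSub.right_mem_unipotent hp) ⟨b₀, hb₀, fun e => hbne (Subtype.ext e)⟩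
      have comm : ∀ P Q : Subgroup X, Cfsg.IsRankOnePair P Q → z ∈ Subgroup.normalizer (P : Set X) → P ≤ Subgroup.centralizer {z} := by
        intro P Q hPQ hzP x hx
        rw [Subgroup.mem_centralizer_singleton_iff]
        have h1 : z * x * z⁻¹ * x⁻¹ ∈ P := mul_mem ((Subgroup.mem_normalizer_iff.mp hzP x).mp hx) (inv_mem hx)
        have h2 : z * x * z⁻¹ * x⁻¹ = 1 :=
          CfsgLib.RootSub.eq_one_of_normalizes hPQ h1 (hcn _ (hz x) Q)
        calc x * z = (z * x * z⁻¹ * x⁻¹)⁻¹ * (z * x) := by group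
          _ = _ := by rw [h2]; group
      have hle : (⊤ : Subgroup X) ≤ Subgroup.centralizer {z} := htop ▸ sup_le (comm A B hp hzA) (comm B A (Cfsg.RankOnePair_symm hp) hzB)
      exact Subgroup.mem_center_iff.mpr fun g => Subgroup.mem_centralizer_singleton_iff.mp (hle (Subgroup.mem_top g))
    have h2 : Subgroup.upperCentralSeries X 2 = Subgroup.center X := le_antisymm key (by
      rw [← Subgroup.upperCentralSeries_one]; exact Subgroup.upperCentralSeries_mono X one_le_two)
    refine ⟨h2, fun hn => ?_⟩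
    obtain ⟨n, hn⟩ := hn.nilpotent
    have hstab : ∀ k, 1 ≤ k → Subgroup.upperCentralSeries X k = Subgroup.center X := by
      intro k hk
      induction k, hk using Nat.le_induction with
      | base => exact Subgroup.upperCentralSeries_one X
      | succ k hk ih =>
        ext x
        rw [Subgroup.mem_upperCentralSeries_succ_iff, ih]
        conv_rhs => rw [← h2, show (2 : ℕ) = 1 + 1 from rfl, Subgroup.mem_upperCentralSeries_succ_iff, Subgroup.upperCentralSeries_one]
    have htopc : Subgroup.center X = ⊤ := by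
      rw [← hstab (n + 1) (Nat.le_add_left 1 n), eq_top_iff, ← hn]
      exact Subgroup.upperCentralSeries_mono X (Nat.le_succ n)
    refine CfsgLib.RootSub.ne_bot_left hp ?_
    rw [Subgroup.eq_bot_iff_forall]
    exact fun a ha => CfsgLib.RootSub.eq_one_of_normalizes hp ha (hcn a (htopc ▸ Subgroup.mem_top a) B)

end Cfsg.Agent.S5018
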