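import Cfsg.Statements.S5019
import Mathlib
import Cfsg.Agent.Lib.RootSub.Quadratic
-- import your own Cfsg.Agent.* helpers here

set_option autoImplicit false
open Cfsg

namespace Cfsg.Agent.S5019

open Cfsg CfsgLib.RootSub CfsgLib.RootSub.Quadratic

theorem main {X : Type*} [Group X] {A B : Subgroup X} (h : Cfsg.IsRankOneGroup X A B)
    {N : Type*} [AddCommGroup N] [DistribMulAction X N]
    (hq : ∀ a ∈ A, ∀ a' ∈ A, ∀ n : N, a' • (a • n - n) = a • n - n)
    (hX : ∃ x y : X, ∃ n : N, y • (x • n - n) ≠ x • n - n) : Cfsg.IsSpecialRankOnePair A B := by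
  obtain ⟨htop, h⟩ := h
  have hq' : Quad N A := fun a ha n a' ha' => hq a ha a' ha' n
  have hqB := quad_right h hq'
  refine ⟨h, fun a ha ha1 b hb hb1 e => ?_⟩
  by_contra hne
  have hyU : a⁻¹ * b⁻¹ * a ∈ Cfsg.conjBy A b⁻¹ := by
    rw [e]; simpa using CfsgLib.RootSub.conjBy_mem (g := a⁻¹) (inv_mem hb)
  have hxU : b⁻¹ * a * b ∈ Cfsg.conjBy A b⁻¹ := by
    simpa using CfsgLib.RootSub.conjBy_mem (g := b⁻¹) ha
  obtain ⟨z, hz, ez⟩ := mul_mem (inv_mem hyU) hxU
  have ez' : b⁻¹ * z * b = (a⁻¹ * b⁻¹ * a)⁻¹ * (b⁻¹ * a * b) := by simpa using ez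
  have hz1 : z ≠ 1 := by
    intro e1
    apply hne
    rw [e1] at ez'
    have : (a⁻¹ * b⁻¹ * a)⁻¹ * (b⁻¹ * a * b) = 1 := by rw [← ez']; group
    exact (inv_mul_eq_one.mp this).symm
  -- the two elements differ by fixed points
  have key : ∀ m : N, ∀ g : X, g • ((b⁻¹ * a * b) • m - (a⁻¹ * b⁻¹ * a) • m) =
      (b⁻¹ * a * b) • m - (a⁻¹ * b⁻¹ * a) • m := by
    intro m
    set c := a • m - m with hc
    set d := b • m - m with hd
    set γ := a • d - d with hγ
    set ec := b⁻¹ • c - c with hec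
    set eγ := b⁻¹ • γ - γ with heγ
    have hcA : Fixed A c := hq' a ha m
    have hdB : Fixed B d := hqB b hb m
    have hγA : Fixed A γ := hq' a ha d
    have hecB : Fixed B ec := hqB _ (inv_mem hb) c
    have heγB : Fixed B eγ := hqB _ (inv_mem hb) γ
    have hbm : b⁻¹ • m = m - d := by
      rw [eq_sub_iff_add_eq]
      calc b⁻¹ • m + d = b⁻¹ • m + b⁻¹ • d := by rw [hdB _ (inv_mem hb)]
        _ = m := by rw [← smul_add, hd, add_sub_cancel, inv_smul_smul]
    have ham : a • m = m + c := by rw [hc]; abel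
    have had : a • d = d + γ := by rw [hγ]; abel
    have hbm' : b • m = m + d := by rw [hd]; abel
    have hbc : b⁻¹ • c = c + ec := by rw [hec]; abel
    have hbγ : b⁻¹ • γ = γ + eγ := by rw [heγ]; abel
    have ex : (b⁻¹ * a * b) • m = m + c + ec + (γ + eγ) := by
      rw [mul_smul, mul_smul, hbm', smul_add, ham, had, smul_add, smul_add, smul_add, hbm, hbc, hbγ,
        hdB _ (inv_mem hb)]
      abel
    have ey : (a⁻¹ * b⁻¹ * a) • m = m - d + γ + ec - (a • ec - ec) := by
      rw [mul_smul, mul_smul, ham, smul_add, hbm, hbc, inv_smul_eq_iff]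
      have h1 : a • (a • ec - ec) = a • ec - ec := hq a ha a ha ec
      have h2 : a • γ = γ := hγA a ha
      rw [smul_sub, smul_add, smul_add, smul_sub, h1, h2, had, ham]
      abel
    have e1 := rel htop h hq' ha hb e hcA
    have hsum : (b⁻¹ * a * b) • m - (a⁻¹ * b⁻¹ * a) • m = (c + (a • ec - ec)) + (d + eγ) := by
      rw [ex, ey]; abel
    have e2 : Fixed A (d + eγ) := by
      -- transport to the conjugate of `B`
      have h1 : Fixed (Cfsg.conjBy B a⁻¹) (a⁻¹ • d) :=
        fixed_conj (by rw [inv_inv, smul_inv_smul]; exact hdB)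
      rw [← e] at h1
      have h2 : Fixed A (b • (a⁻¹ • d)) := by
        intro w hw
        have h3 := h1 _ (CfsgLib.RootSub.conjBy_mem (g := b⁻¹) hw)
        rw [inv_inv, mul_smul, mul_smul, inv_smul_eq_iff] at h3
        exact h3
      have h4 : a⁻¹ • d = d - γ := by
        rw [inv_smul_eq_iff, smul_sub, hγA a ha, had]; abel
      have h5 : b • γ = γ - eγ := by
        calc b • γ = b • (b⁻¹ • γ - eγ) := by rw [heγ, sub_sub_cancel]
          _ = γ - eγ := by rw [smul_sub, smul_inv_smul, heγB b hb]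
      rw [h4, smul_sub, hdB b hb, h5] at h2
      have h6 : d + eγ = (d - (γ - eγ)) + γ := by abel
      rw [h6]
      exact fixed_add h2 hγA
    intro g
    rw [hsum, smul_add, e1, fixed_all htop e2 (fixed_add hdB heγB)]
  have hzn : ∀ n : N, ∀ g : X, g • (z • n - n) = z • n - n := by
    intro n g
    set m := b⁻¹ • n with hm
    have hfix := key m
    have hzm : z • n - n = b • ((b⁻¹ * z * b) • m - m) := by
      rw [hm, smul_sub, mul_smul, mul_smul, smul_inv_smul, smul_inv_smul]
    have h2 : (b⁻¹ * z * b) • m - m =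
        (a⁻¹ * b⁻¹ * a)⁻¹ • ((b⁻¹ * a * b) • m - (a⁻¹ * b⁻¹ * a) • m) := by
      rw [ez', mul_smul (_ : X), smul_sub, inv_smul_smul]
    rw [hzm, h2, hfix, hfix]
    exact hfix g
  obtain ⟨x, y, n, hxy⟩ := hX
  exact hxy (trivial_mod htop h hq' hz hz1 hzn x n y)

/-- Let X be a rank one group with abelian unipotent subgroups A and B, and suppose X acts on an abelian group N (written additively) in such a way that A acts quadratically, meaning a' • (a • n − n) = a • n − n for all a, a' in A and n in N, while X as a whole does not: y • (x • n − n) ≠ x • n − n for some x, y in X and n in N. Then X is a special rank one group. -/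
theorem result {X : Type*} [Group X] {A B : Subgroup X} (h : Cfsg.IsRankOneGroup X A B)
    (hab : Cfsg.HasAbelianUnipotents A B) {N : Type*} [AddCommGroup N] [DistribMulAction X N]
    (hq : ∀ a ∈ A, ∀ a' ∈ A, ∀ n : N, a' • (a • n - n) = a • n - n)
    (hX : ∃ x y : X, ∃ n : N, y • (x • n - n) ≠ x • n - n) : Cfsg.IsSpecialRankOnePair A B := by
  exact main h hq hX

end Cfsg.Agent.S5019
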