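import Cfsg.Statements.S5022
import Mathlib
import Cfsg.Agent.Lib.RootSub.SL2Rel
import Cfsg.Agent.Lib.RootSub.Special
-- import your own Cfsg.Agent.* helpers here

set_option autoImplicit false
open Cfsg

namespace Cfsg.Agent.S5022

open Cfsg CfsgLib.RootSub CfsgLib.RootSub.Special

theorem main {X : Type*} [Group X] {A B : Subgroup X}
    (hs : Cfsg.IsSpecialRankOnePair A B) (hab : Cfsg.HasAbelianUnipotents A B) {p : ℕ} [hpf : Fact p.Prime]
    (hA : Cfsg.IsElementaryAbelian p A) {a b : X} (ha : a ∈ A) (ha1 : a ≠ 1) (hb : b ∈ B) (hb1 : b ≠ 1)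
    (hab' : Cfsg.conjBy A b⁻¹ = Cfsg.conjBy B a⁻¹) :
    Nonempty (↥(Subgroup.closure ({a, b} : Set X)) ≃* Matrix.SpecialLinearGroup (Fin 2) (ZMod p)) ∨
      Nonempty (↥(Subgroup.closure ({a, b} : Set X)) ≃* Matrix.ProjectiveSpecialLinearGroup (Fin 2) (ZMod p)) := by
  have hp : p.Prime := hpf.out
  have hc : Corr A B a b := ⟨ha, ha1, hb, hb1, hab'⟩
  have hap : a ^ p = 1 := hA.2 a ha
  have hbp : ∀ z ∈ B, z ^ p = 1 := by
    intro z hz
    by_cases hz1 : z = 1
    · rw [hz1, one_pow]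
    obtain ⟨w, hw⟩ := exists_corr (Cfsg.RankOnePair_symm hs.1) hz hz1
    exact corr_pow_eq_one hs (corr_symm hw) (hA.2 w hw.2.2.1)
  have hfree : ∀ z, z ∈ A ∨ z ∈ B → z ≠ 1 → ∀ i, 0 < i → i < p → z ^ i ≠ 1 := by
    intro z hz hz1 i hi hip e
    have hzp : z ^ p = 1 := hz.elim (hA.2 z) (hbp z)
    have h1 := orderOf_dvd_of_pow_eq_one e
    rw [orderOf_eq_prime hzp hz1] at h1
    exact absurd (Nat.le_of_dvd hi h1) (by omega)
  have inj : ∀ z : X, z ^ p = 1 → z ≠ 1 → ∀ r s : ZMod p, z ^ r.val = z ^ s.val → r = s := by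
    intro z hzp hz1 r s e
    have ho := orderOf_eq_prime hzp hz1
    exact ZMod.val_injective p (pow_injOn_Iio_orderOf (by simp [ho, ZMod.val_lt r]) (by simp [ho, ZMod.val_lt s]) e)
  let x : ZMod p → X := fun r => a ^ r.val
  let y : ZMod p → X := fun r => b ^ r.val
  have hadd : ∀ z : X, z ^ p = 1 → ∀ r s : ZMod p, z ^ (r + s).val = z ^ r.val * z ^ s.val := fun z hz r s => by
    rw [ZMod.val_add, ← pow_eq_pow_mod _ hz, pow_add]
  have hmul : ∀ z : X, z ^ p = 1 → ∀ r s : ZMod p, z ^ (r * s).val = (z ^ r.val) ^ s.val := fun z hz r s => by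
    rw [ZMod.val_mul, ← pow_eq_pow_mod _ hz, pow_mul]
  have hneg : ∀ z : X, z ^ p = 1 → ∀ r : ZMod p, z ^ (-r).val = (z ^ r.val)⁻¹ := fun z hz r =>
    eq_inv_of_mul_eq_one_left (by rw [← hadd z hz, neg_add_cancel, ZMod.val_zero, pow_zero])
  have hone : ∀ z : X, z ^ (1 : ZMod p).val = z := fun z => by
    haveI : Fact (1 < p) := ⟨hp.one_lt⟩
    rw [ZMod.val_one, pow_one]
  -- the corresponding elements
  have hpair : ∀ t : ZMod p, t ≠ 0 → Corr A B (x t) (y t⁻¹) := by
    intro t ht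
    have ht0 : 0 < t.val := Nat.pos_of_ne_zero fun e => ht ((ZMod.val_eq_zero t).mp e)
    have hxt1 : x t ≠ 1 := hfree a (Or.inl ha) ha1 _ ht0 (ZMod.val_lt t)
    obtain ⟨c, hc'⟩ := exists_corr hs.1 (A.pow_mem ha t.val) hxt1
    have e := powRel t.val A B hs hab.1 hab.2
      (fun z hz hz1 i hi hit => hfree z hz hz1 i hi (hit.trans (ZMod.val_lt t))) ht0 a b c hc hxt1 hc'
    have hcp : c ^ p = 1 := hbp c hc'.2.2.1
    have : c = y t⁻¹ := by
      calc c = c ^ (t * t⁻¹).val := by rw [mul_inv_cancel₀ ht, hone]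
        _ = _ := by rw [hmul c hcp, e]
    exact this ▸ hc'
  have braid : ∀ t : ZMod p, t ≠ 0 →
      SL2Rel.ww x y t * x t * (SL2Rel.ww x y t)⁻¹ = y (-t⁻¹) ∧
        SL2Rel.ww x y t * y (-t⁻¹) * (SL2Rel.ww x y t)⁻¹ = x t := by
    intro t ht
    obtain ⟨h1, h2, h3, h4, h5⟩ := hpair t ht
    have hsp := hs.2 _ h1 h2 _ h3 h4 h5
    have hy : y (-t⁻¹) = (y t⁻¹)⁻¹ := hneg b (hbp b hb) _
    simp only [SL2Rel.ww, hy]
    generalize x t = u, y t⁻¹ = v at hsp ⊢
    have hbr : u * v⁻¹ * u = v⁻¹ * u * v⁻¹ := by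
      have h2 : v⁻¹ * u⁻¹ * v = u⁻¹ * v * u := by
        have := congrArg (fun z => z⁻¹) hsp
        simpa [mul_assoc] using this
      calc u * v⁻¹ * u = (u * v⁻¹ * u * v) * v⁻¹ := by group
        _ = (u * (v⁻¹ * u * v)) * v⁻¹ := by group
        _ = (u * (u⁻¹ * v⁻¹ * u)) * v⁻¹ := by rw [hsp]
        _ = v⁻¹ * u * v⁻¹ := by group
    constructor
    · calc u * v⁻¹ * u * u * (u * v⁻¹ * u)⁻¹ = (u * v⁻¹ * u) * v * u⁻¹ := by group
        _ = (v⁻¹ * u * v⁻¹) * v * u⁻¹ := by rw [hbr]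
        _ = v⁻¹ := by group
    · calc u * v⁻¹ * u * v⁻¹ * (u * v⁻¹ * u)⁻¹ = u * (v⁻¹ * u * v⁻¹) * (u * v⁻¹ * u)⁻¹ := by group
        _ = u := by rw [hbr, mul_inv_cancel_right]
  have R : SL2Rel.Rel x y := by
    refine ⟨hadd a hap, hadd b (hbp b hb), fun t r ht => ?_, fun t r ht => ?_⟩
    · have e1 : x r = x t ^ (r / t).val := by
        show a ^ r.val = _
        rw [← hmul a hap, mul_div_cancel₀ r ht]
      rw [e1, ← conj_pow, (braid t ht).1, show -r / t ^ 2 = -t⁻¹ * (r / t) by field_simp]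
      exact (hmul b (hbp b hb) _ _).symm
    · have e1 : y r = y (-t⁻¹) ^ (-(r * t)).val := by
        show b ^ r.val = _
        rw [← hmul b (hbp b hb)]
        congr 2; field_simp
      rw [e1, ← conj_pow, (braid t ht).2, show -(t ^ 2) * r = t * -(r * t) by ring]
      exact (hmul a hap _ _).symm
  obtain ⟨f, hfu, hfl, hfv⟩ := SL2Rel.exists_hom R
  have hrange : f.range = Subgroup.closure ({a, b} : Set X) := by
    apply le_antisymm
    · rintro _ ⟨M, rfl⟩
      refine Matrix.SL2.transvection_induction (fun M => f M ∈ Subgroup.closure ({a, b} : Set X))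
        (fun i j hij c => ?_) (fun A B hA hB => by rw [map_mul]; exact mul_mem hA hB) M
      fin_cases i <;> fin_cases j
      · exact absurd rfl hij
      · have : (Matrix.SpecialLinearGroup.transvection hij c : Matrix.SpecialLinearGroup (Fin 2) (ZMod p)) = SL2Rel.upM c := by
          apply Subtype.ext; ext k l; fin_cases k <;> fin_cases l <;> simp [SL2Rel.upM, Matrix.SpecialLinearGroup.transvection_coe]
        rw [this, hfu]
        exact Subgroup.pow_mem _ (Subgroup.subset_closure (by simp)) _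
      · have : (Matrix.SpecialLinearGroup.transvection hij c : Matrix.SpecialLinearGroup (Fin 2) (ZMod p)) = SL2Rel.lowM c := by
          apply Subtype.ext; ext k l; fin_cases k <;> fin_cases l <;> simp [SL2Rel.lowM, Matrix.SpecialLinearGroup.transvection_coe]
        rw [this, hfl]
        exact Subgroup.pow_mem _ (Subgroup.subset_closure (by simp)) _
      · exact absurd rfl hij
    · rw [Subgroup.closure_le]
      rintro z (rfl | rfl)
      · exact ⟨SL2Rel.upM 1, by rw [hfu]; exact hone _⟩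
      · exact ⟨SL2Rel.lowM 1, by rw [hfl]; exact hone _⟩
  have hker : f.ker ≤ Subgroup.center (Matrix.SpecialLinearGroup (Fin 2) (ZMod p)) := by
    intro M hM
    rw [MonoidHom.mem_ker, hfv] at hM
    have hdet := SL2Rel.det_eq M
    by_cases hc0 : M.1 1 0 = 0
    · rw [SL2Rel.val_of_zero hc0] at hM
      have hm0 : M.1 0 0 ≠ 0 := fun e => by rw [e, hc0] at hdet; simp at hdet
      have hh := eq_inv_of_mul_eq_one_right hM
      have hxx : SL2Rel.hh x y (M.1 0 0) * x 1 * (SL2Rel.hh x y (M.1 0 0))⁻¹ = x 1 := by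
        rw [hh, ← SL2Rel.x_neg R, ← R.x_add, ← SL2Rel.x_neg R, ← R.x_add]
        congr 1; ring
      rw [SL2Rel.h_x R hm0] at hxx
      have hsq : M.1 0 0 ^ 2 = 1 := by
        have := inj a hap ha1 _ _ hxx
        rwa [mul_one] at this
      have hyy := SL2Rel.h_y R hm0 (1 : ZMod p)
      rw [hsq, div_one, hh, inv_inv, show y (1 : ZMod p) = b from hone b] at hyy
      have hz : M.1 0 0 * M.1 0 1 = 0 := by
        by_contra hne
        set z := x (M.1 0 0 * M.1 0 1) with hz
        have hz1 : z ≠ 1 := fun e => hne (inj a hap ha1 _ 0 (by rw [ZMod.val_zero, pow_zero]; exact e))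
        apply not_commute hs.1 (A.pow_mem ha _ : z ∈ A) hz1 hb hb1
        calc z * b = z * (z⁻¹ * b * z) := by rw [hyy]
          _ = b * z := by group
      have hb0 : M.1 0 1 = 0 := (mul_eq_zero.mp hz).resolve_left hm0
      rw [Matrix.SpecialLinearGroup.mem_center_iff]
      refine ⟨M.1 0 0, by simpa using hsq, ?_⟩
      ext i j
      fin_cases i <;> fin_cases j <;> simp [hb0, hc0]
      have e : M.1 1 1 = M.1 0 0 := by
        rw [hb0, zero_mul, sub_zero] at hdet
        calc M.1 1 1 = M.1 0 0 ^ 2 * M.1 1 1 := by rw [hsq, one_mul]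
          _ = M.1 0 0 := by linear_combination M.1 0 0 * hdet
      exact e.symm
    · exfalso
      rw [SL2Rel.val_of_ne hc0] at hM
      set t := -(M.1 1 0)⁻¹ with ht
      have ht0 : t ≠ 0 := neg_ne_zero.mpr (inv_ne_zero hc0)
      have hwA : SL2Rel.ww x y t ∈ A := by
        have e : SL2Rel.ww x y t = (x (M.1 0 0 / M.1 1 0))⁻¹ * (x (M.1 1 1 / M.1 1 0))⁻¹ :=
          eq_inv_mul_iff_mul_eq.mpr (eq_inv_of_mul_eq_one_left hM)
        rw [e]
        exact mul_mem (inv_mem (A.pow_mem ha _)) (inv_mem (A.pow_mem ha _))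
      have hyA : y (-t⁻¹) ∈ A := by
        rw [← (braid t ht0).1]
        exact mul_mem (mul_mem hwA (A.pow_mem ha _)) (inv_mem hwA)
      have hy1 : y (-t⁻¹) ≠ 1 := fun e => neg_ne_zero.mpr (inv_ne_zero ht0)
        (inj b (hbp b hb) hb1 _ 0 (by rw [ZMod.val_zero, pow_zero]; exact e))
      exact hy1 (eq_one_of_normalizes hs.1 hyA (Subgroup.le_normalizer (B.pow_mem hb _)))
  let e0 := QuotientGroup.quotientKerEquivRange f
  by_cases hbot : f.ker = ⊥
  · left
    exact ⟨((MonoidHom.ofInjective ((MonoidHom.ker_eq_bot_iff f).mp hbot)).trans (MulEquiv.subgroupCongr hrange)).symm⟩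
  · right
    have hcen : f.ker = Subgroup.center (Matrix.SpecialLinearGroup (Fin 2) (ZMod p)) := by
      refine le_antisymm hker fun M hM => ?_
      obtain ⟨⟨N, hN⟩, hN0⟩ := Subgroup.ne_bot_iff_exists_ne_one.mp hbot
      have hN1 : N ≠ 1 := fun e => hN0 (Subtype.ext e)
      obtain ⟨r, hr, hrN⟩ := Matrix.SpecialLinearGroup.mem_center_iff.mp (hker hN)
      obtain ⟨s, hs', hsM⟩ := Matrix.SpecialLinearGroup.mem_center_iff.mp hM
      rcases (by simpa using hs' : s = 1 ∨ s = -1) with rfl | rfl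
      · have : M = 1 := Subtype.ext (by rw [← hsM]; simp)
        rw [this]; exact one_mem _
      rcases (by simpa using hr : r = 1 ∨ r = -1) with rfl | rfl
      · exact absurd (Subtype.ext (by rw [← hrN]; simp)) hN1
      · have : M = N := Subtype.ext (by rw [← hsM, hrN])
        rw [this]; exact hN
    exact ⟨((QuotientGroup.quotientMulEquivOfEq hcen.symm).trans (e0.trans (MulEquiv.subgroupCongr hrange))).symm⟩

/-- Let X be a special rank one group with abelian unipotent subgroups A and B, where A is an elementary abelian p-group for the prime p. Then for every non-identity a in A and the non-identity b in B with b⁻¹ A b = a⁻¹ B a, the subgroup generated by a and b is isomorphic to SL₂(p) or to PSL₂(p). -/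
theorem result {X : Type*} [Group X] {A B : Subgroup X} (h : Cfsg.IsRankOneGroup X A B)
    (hs : Cfsg.IsSpecialRankOnePair A B) (hab : Cfsg.HasAbelianUnipotents A B)
    {p : ℕ} [Fact p.Prime] (hA : Cfsg.IsElementaryAbelian p A)
    {a b : X} (ha : a ∈ A) (ha1 : a ≠ 1) (hb : b ∈ B) (hb1 : b ≠ 1) (hab' : Cfsg.conjBy A b⁻¹ = Cfsg.conjBy B a⁻¹) :
    Nonempty (↥(Subgroup.closure ({a, b} : Set X)) ≃* Matrix.SpecialLinearGroup (Fin 2) (ZMod p)) ∨
    Nonempty (↥(Subgroup.closure ({a, b} : Set X)) ≃* Matrix.ProjectiveSpecialLinearGroup (Fin 2) (ZMod p)) := by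
  exact main hs hab hA ha ha1 hb hb1 hab'

end Cfsg.Agent.S5022
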