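import Cfsg.Statements.S5020
import Mathlib
import Cfsg.Agent.Lib.RootSub.Special
import Cfsg.Agent.Lib.RootSub.CommCase
import Cfsg.Agent.S5022
-- import your own Cfsg.Agent.* helpers here

set_option autoImplicit false
open Cfsg

namespace Cfsg.Agent.S5020

open Cfsg CfsgLib.RootSub CfsgLib.RootSub.Special
open scoped commutatorElement

section
variable {X : Type*} [Group X] {A B : Subgroup X}

/-- The element interchanging `A` and `B`. -/
def wel (x b : X) : X := x * b⁻¹ * x

theorem wel_props (hs : Cfsg.IsSpecialRankOnePair A B) {x b : X} (hc : Corr A B x b) :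
    wel x b * x * (wel x b)⁻¹ = b⁻¹ ∧ Cfsg.conjBy A (wel x b) = B ∧ Cfsg.conjBy B (wel x b) = A ∧
      wel x b ∈ A ⊔ B := by
  obtain ⟨hx, hx1, hb, hb1, e⟩ := hc
  have hsp := hs.2 x hx hx1 b hb hb1 e
  have hbr : x * b⁻¹ * x = b⁻¹ * x * b⁻¹ := by
    calc x * b⁻¹ * x = (x * b⁻¹ * x * b) * b⁻¹ := by group
      _ = (x * (b⁻¹ * x * b)) * b⁻¹ := by group
      _ = (x * (x⁻¹ * b⁻¹ * x)) * b⁻¹ := by rw [hsp]
      _ = b⁻¹ * x * b⁻¹ := by group
  have e1 : wel x b * x * (wel x b)⁻¹ = b⁻¹ := by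
    calc wel x b * x * (wel x b)⁻¹ = (x * b⁻¹ * x) * b * x⁻¹ := by rw [wel]; group
      _ = (b⁻¹ * x * b⁻¹) * b * x⁻¹ := by rw [hbr]
      _ = b⁻¹ := by group
  have e2 : wel x b * b⁻¹ * (wel x b)⁻¹ = x := by
    calc wel x b * b⁻¹ * (wel x b)⁻¹ = x * (b⁻¹ * x * b⁻¹) * (x * b⁻¹ * x)⁻¹ := by rw [wel]; group
      _ = x := by rw [hbr, mul_inv_cancel_right]
  have hmem : wel x b ∈ A ⊔ B :=
    mul_mem (mul_mem (Subgroup.mem_sup_left hx) (Subgroup.mem_sup_right (inv_mem hb))) (Subgroup.mem_sup_left hx)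
  refine ⟨e1, ?_, ?_, hmem⟩
  · exact (eq_of_normalizes hs.1 (conjBy_mem_unipotent hmem left_mem_unipotent) (right_mem_unipotent hs.1)
      (conjBy_mem (g := wel x b) hx) (by rw [e1]; exact inv_ne_one.mpr hb1)
      (Subgroup.le_normalizer (by rw [e1]; exact inv_mem hb))).symm
  · exact (eq_of_normalizes hs.1 (conjBy_mem_unipotent hmem (right_mem_unipotent hs.1)) left_mem_unipotent
      (conjBy_mem (g := wel x b) (inv_mem hb)) (by rw [e2]; exact hx1)
      (Subgroup.le_normalizer (by rw [e2]; exact hx))).symm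

theorem comm_le (A B : Subgroup X) (hA : IsMulCommutative A) :
    ⁅A, Cfsg.rankOneDiagonal A B⁆ ≤ A := by
  rw [Subgroup.commutator_le]
  intro a ha g hg
  have hn : g ∈ Subgroup.normalizer (A : Set X) := hg.1.2
  rw [commutatorElement_def, show a * g * a⁻¹ * g⁻¹ = a * (g * a⁻¹ * g⁻¹) by group]
  exact A.mul_mem ha (conj_mem_of_normalizes hn (inv_mem ha))

/-- The key congruence. -/
theorem key (hs : Cfsg.IsSpecialRankOnePair A B) (hA : IsMulCommutative A) {x y : X} (hx : x ∈ A)
    (hx1 : x ≠ 1) (hy : y ∈ A) (hy1 : y ≠ 1) (hxy : x * y ≠ 1) :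
    x * y * y ∈ ⁅A, Cfsg.rankOneDiagonal A B⁆ := by
  set K := ⁅A, Cfsg.rankOneDiagonal A B⁆ with hK
  have hKA : K ≤ A := comm_le A B hA
  obtain ⟨bx, hbx⟩ := exists_corr hs.1 hx hx1
  obtain ⟨hwx, hwA, hwB, hwmem⟩ := wel_props hs hbx
  set w := wel x bx with hw
  -- the images under `w` of corresponding elements
  have img : ∀ z c, Corr A B z c → ∃ k ∈ K, w * (z * k) * w⁻¹ = c⁻¹ := by
    intro z c hzc
    obtain ⟨e1, e2, e3, e4⟩ := wel_props hs hzc
    set g := w⁻¹ * wel z c with hg
    have hgA : Cfsg.conjBy A g = A := by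
      rw [hg, ← conjBy_conjBy, e2, ← hwA, conjBy_conjBy, inv_mul_cancel, conjBy_one]
    have hgB : Cfsg.conjBy B g = B := by
      rw [hg, ← conjBy_conjBy, e3, ← hwB, conjBy_conjBy, inv_mul_cancel, conjBy_one]
    have hgH : g ∈ Cfsg.rankOneDiagonal A B :=
      ⟨⟨(A ⊔ B).mul_mem ((A ⊔ B).inv_mem hwmem) e4, conjBy_eq_self_iff.mp hgA⟩, conjBy_eq_self_iff.mp hgB⟩
    refine ⟨z⁻¹ * g * z⁻¹⁻¹ * g⁻¹, Subgroup.commutator_mem_commutator (inv_mem hzc.1) hgH, ?_⟩
    rw [← e1, hg]; group
  have inj : ∀ {u v : X}, w * u * w⁻¹ = w * v * w⁻¹ → u = v := fun h => mul_left_cancel (mul_right_cancel h)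
  set β := w * y * w⁻¹ with hβ
  have hβB : β ∈ B := by rw [← hwA]; exact conjBy_mem hy
  have hβ1 : β ≠ 1 := fun e => hy1 (inj (e.trans (by group)))
  obtain ⟨u, hu⟩ := exists_corr (Cfsg.RankOnePair_symm hs.1) hβB hβ1
  obtain ⟨bxy, hbxy⟩ := exists_corr hs.1 (mul_mem hx hy) hxy
  set d := bx⁻¹ * bxy with hd
  have hd1 : d ≠ 1 := fun e => by
    rw [hd, inv_mul_eq_one] at e
    subst e
    exact hy1 (mul_left_cancel (((corr_unique_left hs.1 hbx hbxy).symm).trans (mul_one x).symm))
  have hdB : d ∈ B := mul_mem (inv_mem hbx.2.2.1) hbxy.2.2.1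
  obtain ⟨e, he⟩ := exists_corr (Cfsg.RankOnePair_symm hs.1) hdB hd1
  -- the two descriptions of the same point
  have hpoint : x * e = u := by
    apply conjBy_inj_left hs.1 (mul_mem hx he.2.2.1) hu.2.2.1
    rw [← conjBy_conjBy, ← corr_flip hs (corr_symm he), hd, conjBy_conjBy,
      ← mul_assoc, ← conjBy_conjBy bxy, corr_flip hs hbxy, conjBy_conjBy,
      ← corr_flip hs (corr_symm hu)]
    calc Cfsg.conjBy B (x * bx⁻¹ * (x * y)) = Cfsg.conjBy B (w * y) := by
          rw [hw, wel]; congr 1; group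
      _ = Cfsg.conjBy B (β * w) := by congr 1; rw [hβ]; group
      _ = Cfsg.conjBy A β := by rw [← conjBy_conjBy, hwB]
  -- congruences
  obtain ⟨ku, hku, eku⟩ := img u β (corr_symm hu)
  obtain ⟨ke, hke, eke⟩ := img e d (corr_symm he)
  obtain ⟨kxy, hkxy, ekxy⟩ := img _ _ hbxy
  have hu' : u * ku = y⁻¹ := by
    apply inj; rw [eku, hβ]; group
  have he' : e * ke = (x * (x * y * kxy)⁻¹)⁻¹ := by
    apply inj
    rw [eke, hd]
    have h2 : bxy⁻¹ = w * (x * y * kxy) * w⁻¹ := ekxy.symm
    rw [show bx⁻¹ * bxy = bx⁻¹ * (bxy⁻¹)⁻¹ by group, h2, ← hwx]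
    group
  have hKc : ∀ {p q : X}, p ∈ A → q ∈ A → Commute p q := fun hp hq => mul_comm_of hA hp hq
  have e1 : e = y * kxy * ke⁻¹ := by
    rw [eq_mul_inv_iff_mul_eq, he', _root_.mul_inv_rev, inv_inv]
    have hc := hKc (mul_mem (mul_mem hx hy) (hKA hkxy)) (inv_mem hx)
    calc x * y * kxy * x⁻¹ = x⁻¹ * (x * y * kxy) := hc.eq
      _ = y * kxy := by group
  have e2 : u = y⁻¹ * ku⁻¹ := eq_mul_inv_iff_mul_eq.mpr hu'
  rw [e1, e2] at hpoint
  have hk : kxy * ke⁻¹ * ku ∈ K := mul_mem (mul_mem hkxy (inv_mem hke)) hku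
  have : x * y * y * (kxy * ke⁻¹ * ku) = 1 := by
    calc x * y * y * (kxy * ke⁻¹ * ku) = x * y * (y * (kxy * ke⁻¹)) * ku := by group
      _ = x * y * ((kxy * ke⁻¹) * y) * ku := by rw [(hKc hy (hKA (mul_mem hkxy (inv_mem hke)))).eq]
      _ = (x * (y * kxy * ke⁻¹)) * (y * ku) := by group
      _ = 1 := by
        rw [hpoint, (hKc hy (hKA hku)).eq]; group
  rw [eq_inv_of_mul_eq_one_left this]
  exact inv_mem hk

theorem comm_eq (hs : Cfsg.IsSpecialRankOnePair A B) (hA : IsMulCommutative A) (hbig : 3 < ENat.card A) :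
    ⁅A, Cfsg.rankOneDiagonal A B⁆ = A := by
  refine le_antisymm (comm_le A B hA) ?_
  set K := ⁅A, Cfsg.rankOneDiagonal A B⁆ with hK
  by_cases hbot : K = ⊥
  · exfalso
    obtain ⟨⟨y, hy⟩, hy0⟩ := Subgroup.ne_bot_iff_exists_ne_one.mp (ne_bot_left hs.1)
    have hy1 : y ≠ 1 := fun e => hy0 (Subtype.ext e)
    have hsub : (A : Set X) ⊆ {1, y⁻¹, (y * y)⁻¹} := by
      intro x hx
      by_cases h1 : x = 1
      · exact Or.inl h1
      by_cases h2 : x * y = 1
      · exact Or.inr (Or.inl (eq_inv_of_mul_eq_one_left h2))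
      have h3 := key hs hA hx h1 hy hy1 h2
      rw [← hK, hbot, Subgroup.mem_bot, mul_assoc] at h3
      exact Or.inr (Or.inr (eq_inv_of_mul_eq_one_left h3))
    have h4 := Set.encard_le_encard hsub
    have h5 : ({1, y⁻¹, (y * y)⁻¹} : Set X).encard ≤ 3 := by
      refine (Set.encard_insert_le _ _).trans ?_
      refine (add_le_add_left (Set.encard_insert_le _ _) 1).trans ?_
      rw [Set.encard_singleton]
      norm_num
    have h6 : (A : Set X).encard = ENat.card A := rfl
    rw [h6] at h4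
    exact absurd (h4.trans h5) (not_le.mpr hbig)
  obtain ⟨⟨y, hy⟩, hy0⟩ := Subgroup.ne_bot_iff_exists_ne_one.mp hbot
  have hy1 : y ≠ 1 := fun e => hy0 (Subtype.ext e)
  intro x hx
  by_cases h1 : x = 1
  · rw [h1]; exact one_mem _
  by_cases h2 : x * y = 1
  · rw [eq_inv_of_mul_eq_one_left h2]; exact inv_mem hy
  have h3 := key hs hA hx h1 (comm_le A B hA hy) hy1 h2
  have := mul_mem h3 (inv_mem (mul_mem hy hy))
  rwa [show x * y * y * (y * y)⁻¹ = x by group] at this

theorem main (h : Cfsg.IsRankOneGroup X A B) (hs : Cfsg.IsSpecialRankOnePair A B)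
    (hab : Cfsg.HasAbelianUnipotents A B) :
    (ENat.card A ≤ 3 ∧ (Nonempty (X ≃* Matrix.SpecialLinearGroup (Fin 2) (ZMod 2)) ∨
      Nonempty (X ≃* Matrix.SpecialLinearGroup (Fin 2) (ZMod 3)) ∨
      Nonempty (X ≃* Matrix.ProjectiveSpecialLinearGroup (Fin 2) (ZMod 3)))) ∨
    (commutator X ⊔ A = ⊤ ∧ Cfsg.IsQuasisimple (commutator X) ∧
      3 < ENat.card ↥(⁅A, Cfsg.rankOneDiagonal A B⁆ : Subgroup X)) := by
  obtain ⟨htop, hp⟩ := h
  obtain ⟨hAc, hBc⟩ := hab
  obtain ⟨g₀, hg₀, eB⟩ := mem_unipotent_iff.mp (right_mem_unipotent hp)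
  by_cases hbig : 3 < ENat.card A
  · right
    have hK := comm_eq hs hAc hbig
    have hAle : A ≤ commutator X := by
      conv_lhs => rw [← hK]
      exact Subgroup.commutator_mono le_top le_top
    have hperf : commutator X = ⊤ := by
      rw [eq_top_iff, ← htop, sup_le_iff]
      refine ⟨hAle, fun b hb => ?_⟩
      rw [eB] at hb
      obtain ⟨a, ha, rfl⟩ := hb
      exact (inferInstance : (commutator X).Normal).conj_mem a (hAle ha) g₀
    refine ⟨by rw [hperf, top_sup_eq], ?_, by rw [hK]; exact hbig⟩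
    have habel : ∀ M : Subgroup X, M.Normal → M ⊔ A = ⊤ → M = ⊤ := by
      intro M hM e
      haveI := hM
      rw [eq_top_iff]
      intro x _
      have hx : x ∈ commutator X := hperf.symm ▸ Subgroup.mem_top x
      have hcomm : ∀ u v : X ⧸ M, u * v = v * u := by
        have hsur : ∀ u : X ⧸ M, ∃ a ∈ A, u = QuotientGroup.mk' M a := by
          intro u
          induction u using QuotientGroup.induction_on with
          | H z =>
            obtain ⟨m, hm, a, ha, rfl⟩ := Subgroup.mem_sup_of_normal_left.mp (e.symm ▸ Subgroup.mem_top z : z ∈ M ⊔ A)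
            exact ⟨a, ha, by
              show QuotientGroup.mk' M (m * a) = _
              rw [map_mul, (QuotientGroup.eq_one_iff m).mpr hm |> fun h => (show QuotientGroup.mk' M m = 1 from h), one_mul]⟩
        intro u v
        obtain ⟨a, ha, rfl⟩ := hsur u
        obtain ⟨a', ha', rfl⟩ := hsur v
        rw [← map_mul, ← map_mul, mul_comm_of hAc ha ha']
      have : commutator X ≤ M := by
        rw [commutator_def, Subgroup.commutator_le]
        intro u _ v _
        rw [← QuotientGroup.eq_one_iff, ← QuotientGroup.mk'_apply, map_commutatorElement,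
          commutatorElement_eq_one_iff_mul_comm]
        exact hcomm _ _
      exact this hx
    have hnormal : ∀ M : Subgroup X, M.Normal → M = ⊤ ∨ M ≤ Subgroup.center X := by
      intro M hM
      by_cases hMA : M ⊓ A = ⊥
      · by_cases hmove : ∃ m ∈ M, Cfsg.conjBy A m ≠ A
        · left
          obtain ⟨m, hm, hne⟩ := hmove
          obtain ⟨a₀, ha₀, e⟩ : ∃ a₀ ∈ A, Cfsg.conjBy A m = Cfsg.conjBy B a₀ :=
            (eq_or_conj_right hp (conjBy_mem_unipotent (htop.symm ▸ Subgroup.mem_top m) left_mem_unipotent)).resolve_left hne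
          have e' : Cfsg.conjBy A (a₀⁻¹ * m * a₀) = B := by
            rw [← conjBy_conjBy, conjBy_self ha₀, ← conjBy_conjBy, e, conjBy_conjBy, inv_mul_cancel, conjBy_one]
          have hm' : a₀⁻¹ * m * a₀ ∈ M := by simpa using hM.conj_mem m hm a₀⁻¹
          apply habel M hM
          rw [eq_top_iff, ← htop, sup_le_iff]
          refine ⟨le_sup_right, ?_⟩
          rw [← e']
          rintro _ ⟨a, ha, rfl⟩
          exact mul_mem (mul_mem (Subgroup.mem_sup_left hm') (Subgroup.mem_sup_right ha)) (inv_mem (Subgroup.mem_sup_left hm'))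
        · right
          push Not at hmove
          have hcA : ∀ m ∈ M, ∀ a ∈ A, m * a = a * m := by
            intro m hm a ha
            have h1 : m * a * m⁻¹ * a⁻¹ ∈ M ⊓ A := by
              refine ⟨?_, A.mul_mem (hmove m hm ▸ conjBy_mem ha) (A.inv_mem ha)⟩
              rw [show m * a * m⁻¹ * a⁻¹ = m * (a * m⁻¹ * a⁻¹) by group]
              exact M.mul_mem hm (hM.conj_mem _ (inv_mem hm) a)
            rw [hMA, Subgroup.mem_bot, ← commutatorElement_def, commutatorElement_eq_one_iff_mul_comm] at h1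
            exact h1
          intro m hm
          rw [Subgroup.mem_center_iff]
          intro z
          have hle : A ⊔ B ≤ Subgroup.centralizer {m} := by
            refine sup_le (fun a ha => Subgroup.mem_centralizer_singleton_iff.mpr (hcA m hm a ha).symm) ?_
            intro b hb
            rw [eB] at hb
            obtain ⟨a, ha, rfl⟩ := hb
            rw [Subgroup.mem_centralizer_singleton_iff]
            have h1 := hcA (g₀⁻¹ * m * g₀⁻¹⁻¹) (hM.conj_mem m hm g₀⁻¹) a ha
            show g₀ * a * g₀⁻¹ * m = m * (g₀ * a * g₀⁻¹)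
            calc g₀ * a * g₀⁻¹ * m = g₀ * (a * (g₀⁻¹ * m * g₀⁻¹⁻¹)) * g₀⁻¹ := by group
              _ = g₀ * ((g₀⁻¹ * m * g₀⁻¹⁻¹) * a) * g₀⁻¹ := by rw [h1]
              _ = _ := by group
          rw [htop] at hle
          exact Subgroup.mem_centralizer_singleton_iff.mp (hle (Subgroup.mem_top z))
      · left
        obtain ⟨⟨a, haM, ha⟩, ha0⟩ := Subgroup.ne_bot_iff_exists_ne_one.mp hMA
        have ha1 : a ≠ 1 := fun e => ha0 (Subtype.ext e)
        obtain ⟨b, hb, -, e⟩ := hp.cond_left a ha ha1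
        haveI := hM
        let q := QuotientGroup.mk' M
        apply habel M hM
        have hqa : q a = 1 := (QuotientGroup.eq_one_iff a).mpr haM
        have h1 : B.map q = Cfsg.conjBy (A.map q) (q b)⁻¹ := by
          have h2 := congrArg (fun K : Subgroup X => K.map q) e
          simp only [Cfsg.conjBy, Subgroup.map_map] at h2 ⊢
          rw [show q.comp (MulAut.conj a⁻¹).toMonoidHom = q from MonoidHom.ext fun z => by simp [hqa]] at h2
          rw [← h2]
          congr 1
        have h3 : q b ∈ B.map q := Subgroup.mem_map_of_mem q hb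
        have h4 : A.map q = B.map q := by
          calc A.map q = Cfsg.conjBy (B.map q) (q b) := by rw [h1, conjBy_conjBy, mul_inv_cancel, conjBy_one]
            _ = B.map q := conjBy_self h3
        rw [eq_top_iff, ← htop, sup_le_iff]
        refine ⟨le_sup_right, ?_⟩
        intro z hz
        obtain ⟨z', hz', e'⟩ : q z ∈ A.map q := h4 ▸ Subgroup.mem_map_of_mem q hz
        rw [show z = (z * z'⁻¹) * z' by group]
        refine mul_mem (Subgroup.mem_sup_left ((QuotientGroup.eq_one_iff _).mp ?_)) (Subgroup.mem_sup_right hz')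
        show q (z * z'⁻¹) = 1
        rw [map_mul, map_inv, e', mul_inv_cancel]
    have hcne : Subgroup.center X ≠ ⊤ := by
      intro e
      obtain ⟨⟨a, ha⟩, ha0⟩ := Subgroup.ne_bot_iff_exists_ne_one.mp (ne_bot_left hp)
      obtain ⟨b, hb, hb1, -⟩ := hp.cond_left a ha (fun e => ha0 (Subtype.ext e))
      exact not_commute hp ha (fun e => ha0 (Subtype.ext e)) hb hb1
        (Subgroup.mem_center_iff.mp (e.symm ▸ Subgroup.mem_top b : b ∈ Subgroup.center X) a)
    rw [hperf]
    let eX : (⊤ : Subgroup X) ≃* X := Subgroup.topEquiv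
    haveI : Group.IsPerfect X := ⟨hperf⟩
    have hsimple : IsSimpleGroup (X ⧸ Subgroup.center X) := by
      haveI : Nontrivial (X ⧸ Subgroup.center X) := QuotientGroup.nontrivial_iff.mpr hcne
      refine ⟨fun N hN => ?_⟩
      have hq := QuotientGroup.mk'_surjective (Subgroup.center X)
      rcases hnormal _ (hN.comap (QuotientGroup.mk' (Subgroup.center X))) with e | e
      · right
        rw [← Subgroup.map_comap_eq_self_of_surjective hq N, e, Subgroup.map_top_of_surjective _ hq]
      · left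
        rw [← Subgroup.map_comap_eq_self_of_surjective hq N, eq_bot_iff]
        rintro _ ⟨z, hz, rfl⟩
        exact Subgroup.mem_bot.mpr ((QuotientGroup.eq_one_iff z).mpr (e hz))
    refine ⟨⟨?_⟩, ?_⟩
    · have h1 := Subgroup.map_commutator (⊤ : Subgroup (⊤ : Subgroup X)) ⊤ (Subgroup.subtype ⊤)
      apply Subgroup.map_injective (Subgroup.subtype_injective (⊤ : Subgroup X))
      rw [commutator_def, h1, ← MonoidHom.range_eq_map, Subgroup.range_subtype, ← commutator_def, hperf]
    · have hmap : (Subgroup.center (⊤ : Subgroup X)).map (eX.toMonoidHom) = Subgroup.center X := by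
        ext z
        constructor
        · rintro ⟨⟨z, hz⟩, hzc, rfl⟩
          rw [Subgroup.mem_center_iff]
          intro g
          exact congrArg Subtype.val (Subgroup.mem_center_iff.mp hzc ⟨g, Subgroup.mem_top g⟩)
        · intro hz
          exact ⟨⟨z, Subgroup.mem_top z⟩, Subgroup.mem_center_iff.mpr fun g =>
            Subtype.ext (Subgroup.mem_center_iff.mp hz g.1), rfl⟩
      exact (QuotientGroup.congr _ _ eX hmap).isSimpleGroup_congr.mpr hsimple
  · left
    have hle : ENat.card A ≤ 3 := not_lt.mp hbig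
    refine ⟨hle, ?_⟩
    haveI hfinA : Finite A := by
      by_contra h
      rw [not_finite_iff_infinite] at h
      rw [ENat.card_eq_top_of_infinite] at hle
      simp at hle
    obtain ⟨⟨a, ha⟩, ha0⟩ := Subgroup.ne_bot_iff_exists_ne_one.mp (ne_bot_left hp)
    have ha1 : a ≠ 1 := fun e => ha0 (Subtype.ext e)
    obtain ⟨b, hb, hb1, e⟩ := hp.cond_left a ha ha1
    have hcard : Nat.card A ≤ 3 := by
      have h := hle
      rw [ENat.card_eq_coe_natCard] at h
      exact_mod_cast h
    have hge : 2 ≤ Nat.card A := A.one_lt_card_iff_ne_bot.mpr (ne_bot_left hp)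
    obtain ⟨p, hprime, hpcard⟩ : ∃ p : ℕ, p.Prime ∧ Nat.card A = p := by
      rcases (show Nat.card A = 2 ∨ Nat.card A = 3 by omega) with h | h
      · exact ⟨2, Nat.prime_two, h⟩
      · exact ⟨3, Nat.prime_three, h⟩
    haveI := Fact.mk hprime
    have hel : Cfsg.IsElementaryAbelian p A := ⟨hAc, fun z hz => by
      have : (⟨z, hz⟩ : A) ^ p = 1 := by rw [← hpcard]; exact pow_card_eq_one'
      simpa using congrArg Subtype.val this⟩
    have hzA : Subgroup.zpowers a = A := by
      refine Subgroup.eq_of_le_of_card_ge (Subgroup.zpowers_le.mpr ha) ?_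
      rw [Nat.card_zpowers, orderOf_eq_prime (hel.2 a ha) ha1, hpcard]
    have hBcard : Nat.card B = p := by
      rw [eB, ← hpcard]; exact Subgroup.card_map_of_injective (MulAut.conj g₀).injective
    haveI : Finite B := Nat.finite_of_card_ne_zero (by rw [hBcard]; exact hprime.ne_zero)
    have hbp : b ^ p = 1 := by
      have : (⟨b, hb⟩ : B) ^ p = 1 := by rw [← hBcard]; exact pow_card_eq_one'
      simpa using congrArg Subtype.val this
    have hzB : Subgroup.zpowers b = B := by
      refine Subgroup.eq_of_le_of_card_ge (Subgroup.zpowers_le.mpr hb) ?_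
      rw [Nat.card_zpowers, orderOf_eq_prime hbp hb1, hBcard]
    have hclo : Subgroup.closure ({a, b} : Set X) = ⊤ := by
      rw [← htop, Set.insert_eq, Subgroup.closure_union, ← Subgroup.zpowers_eq_closure,
        ← Subgroup.zpowers_eq_closure, hzA, hzB]
    let eC : X ≃* ↥(Subgroup.closure ({a, b} : Set X)) :=
      Subgroup.topEquiv.symm.trans (MulEquiv.subgroupCongr hclo.symm)
    rcases Cfsg.Agent.S5022.result ⟨htop, hp⟩ hs ⟨hAc, hBc⟩ hel ha ha1 hb hb1 e with hh | hh
    · obtain ⟨f⟩ := hh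
      rcases (show p = 2 ∨ p = 3 by omega) with rfl | rfl
      · exact Or.inl ⟨eC.trans f⟩
      · exact Or.inr (Or.inl ⟨eC.trans f⟩)
    · obtain ⟨f⟩ := hh
      rcases (show p = 2 ∨ p = 3 by omega) with rfl | rfl
      · have hc2 : Subgroup.center (Matrix.SpecialLinearGroup (Fin 2) (ZMod 2)) = ⊥ := by
          rw [Subgroup.eq_bot_iff_forall]
          intro M hM
          obtain ⟨r, hr, hrM⟩ := Matrix.SpecialLinearGroup.mem_center_iff.mp hM
          have hr1 : r = 1 := by
            rcases (by simpa using hr : r = 1 ∨ r = -1) with h | h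
            · exact h
            · rw [h, CharTwo.neg_eq]
          apply Subtype.ext
          rw [← hrM, hr1, map_one]
          rfl
        exact Or.inl ⟨(eC.trans f).trans ((QuotientGroup.quotientMulEquivOfEq hc2).trans QuotientGroup.quotientBot)⟩
      · exact Or.inr (Or.inr ⟨eC.trans f⟩)

end

/-- Let X be a special rank one group with abelian unipotent subgroups A and B, and H = N(A) ∩ N(B) its diagonal subgroup. Then either A has at most three elements and X is isomorphic to SL₂(2), SL₂(3) or PSL₂(3); or X = X' A with the commutator subgroup X' quasisimple and the commutator subgroup ⁅A, H⁆ having more than three elements. -/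
theorem result {X : Type*} [Group X] {A B : Subgroup X} (h : Cfsg.IsRankOneGroup X A B)
    (hs : Cfsg.IsSpecialRankOnePair A B) (hab : Cfsg.HasAbelianUnipotents A B) :
    (ENat.card A ≤ 3 ∧ (Nonempty (X ≃* Matrix.SpecialLinearGroup (Fin 2) (ZMod 2)) ∨
        Nonempty (X ≃* Matrix.SpecialLinearGroup (Fin 2) (ZMod 3)) ∨
        Nonempty (X ≃* Matrix.ProjectiveSpecialLinearGroup (Fin 2) (ZMod 3)))) ∨
    (commutator X ⊔ A = ⊤ ∧ Cfsg.IsQuasisimple (commutator X) ∧
      3 < ENat.card ↥(⁅A, Cfsg.rankOneDiagonal A B⁆ : Subgroup X)) := by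
  exact main h hs hab

end Cfsg.Agent.S5020
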