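import Cfsg.Statements.S5021
import Mathlib
import Cfsg.Agent.Lib.RootSub.Special
-- import your own Cfsg.Agent.* helpers here

set_option autoImplicit false
open Cfsg

namespace Cfsg.Agent.S5021

open Cfsg CfsgLib.RootSub CfsgLib.RootSub.Special

theorem main {X : Type*} [Group X] {A B : Subgroup X} (h : Cfsg.IsRankOneGroup X A B)
    (hs : Cfsg.IsSpecialRankOnePair A B) (hab : Cfsg.HasAbelianUnipotents A B) :
    (∃ p : ℕ, p.Prime ∧ Cfsg.IsElementaryAbelian p A) ∨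
      ((∀ a ∈ A, a ≠ 1 → ¬ IsOfFinOrder a) ∧ ∀ a ∈ A, ∀ n : ℕ, 0 < n → ∃ c ∈ A, c ^ n = a) := by
  classical
  obtain ⟨hA, hB⟩ := hab
  have hp := h.2
  by_cases hfin : ∃ n : ℕ, 0 < n ∧ ∃ z, (z ∈ A ∨ z ∈ B) ∧ z ≠ 1 ∧ z ^ n = 1
  · left
    obtain ⟨hn, z, hz, hz1, hzn⟩ := Nat.find_spec hfin
    set p := Nat.find hfin with hpdef
    have hfree : ∀ z, z ∈ A ∨ z ∈ B → z ≠ 1 → ∀ i, 0 < i → i < p → z ^ i ≠ 1 :=
      fun z hz hz1 i hi hip he => Nat.find_min hfin hip ⟨hi, z, hz, hz1, he⟩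
    have hp1 : p ≠ 1 := fun e => hz1 (by rwa [e, pow_one] at hzn)
    have hprime : p.Prime := by
      rw [Nat.prime_def_lt']
      refine ⟨by omega, fun i hi hip hdvd => ?_⟩
      obtain ⟨j, hj⟩ := hdvd
      have hzi : z ^ i ≠ 1 := hfree z hz hz1 i (by omega) hip
      have hj0 : j ≠ 0 := fun e => by rw [e, mul_zero] at hj; omega
      have hjp : j < p := by
        rw [hj]; exact lt_mul_left (Nat.pos_of_ne_zero hj0) (by omega)
      refine hfree (z ^ i) (hz.imp (fun h => A.pow_mem h i) (fun h => B.pow_mem h i)) hzi j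
        (Nat.pos_of_ne_zero hj0) hjp ?_
      rw [← pow_mul, ← hj, hzn]
    obtain ⟨x, hx, hx1, hxp⟩ : ∃ x ∈ A, x ≠ 1 ∧ x ^ p = 1 := by
      rcases hz with hz | hz
      · exact ⟨z, hz, hz1, hzn⟩
      · obtain ⟨w, hw⟩ := exists_corr (Cfsg.RankOnePair_symm hp) hz hz1
        exact ⟨w, hw.2.2.1, hw.2.2.2.1, corr_pow_eq_one (special_symm hs) hw hzn⟩
    refine ⟨p, hprime, hA, fun y hy => ?_⟩
    by_contra hyp
    have hy1 : y ≠ 1 := fun e => hyp (by rw [e, one_pow])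
    have hyxp : (y * x) ^ p = y ^ p := by
      rw [(show Commute y x from mul_comm_of hA hy hx).mul_pow, hxp, mul_one]
    obtain ⟨b, hb⟩ := exists_corr hp hy hy1
    obtain ⟨c, hc⟩ := exists_corr hp (A.pow_mem hy p) hyp
    obtain ⟨b', hb'⟩ := exists_corr hp (mul_mem hy hx) (fun e => hyp (by rw [← hyxp, e, one_pow]))
    have e1 := powRel p A B hs hA hB hfree hprime.pos y b c hb hyp hc
    have e2 := powRel p A B hs hA hB hfree hprime.pos (y * x) b' c hb' (by rwa [hyxp]) (by rwa [hyxp])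
    rw [← e2, e1] at hb'
    exact hx1 (mul_left_cancel ((corr_unique_left hp hb hb').symm.trans (mul_one y).symm))
  · right
    push Not at hfin
    have hfree : ∀ z, z ∈ A ∨ z ∈ B → z ≠ 1 → ∀ i, 0 < i → z ^ i ≠ 1 :=
      fun z hz hz1 i hi => hfin i hi z hz hz1
    refine ⟨fun a ha ha1 hf => hfree a (Or.inl ha) ha1 _ hf.orderOf_pos (pow_orderOf_eq_one a),
      fun a ha n hn => ?_⟩
    by_cases ha1 : a = 1
    · exact ⟨1, one_mem _, by rw [ha1, one_pow]⟩
    obtain ⟨b, hb⟩ := exists_corr hp ha ha1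
    have hbn : b ^ n ≠ 1 := hfree b (Or.inr hb.2.2.1) hb.2.2.2.1 n hn
    obtain ⟨c, hc⟩ := exists_corr (Cfsg.RankOnePair_symm hp) (B.pow_mem hb.2.2.1 n) hbn
    exact ⟨c, hc.2.2.1, powRel n B A (special_symm hs) hB hA
      (fun z hz hz1 i hi _ => hfree z hz.symm hz1 i hi) hn b a c (corr_symm hb) hbn hc⟩

/-- In a special rank one group with abelian unipotent subgroups A and B, either A is an elementary abelian p-group for some prime p, or A is torsion-free and divisible (every element of A has an n-th root in A for every positive n). -/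
theorem result {X : Type*} [Group X] {A B : Subgroup X} (h : Cfsg.IsRankOneGroup X A B)
    (hs : Cfsg.IsSpecialRankOnePair A B) (hab : Cfsg.HasAbelianUnipotents A B) :
    (∃ p : ℕ, p.Prime ∧ Cfsg.IsElementaryAbelian p A) ∨
    ((∀ a ∈ A, a ≠ 1 → ¬ IsOfFinOrder a) ∧ ∀ a ∈ A, ∀ n : ℕ, 0 < n → ∃ c ∈ A, c ^ n = a) := by
  exact main h hs hab

end Cfsg.Agent.S5021
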