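import Cfsg.Statements.S5023
import Mathlib
import Cfsg.Agent.Lib.RootSub.Quadratic
-- import your own Cfsg.Agent.* helpers here

set_option autoImplicit false
open Cfsg

namespace Cfsg.Agent.S5023

open Cfsg CfsgLib.RootSub CfsgLib.RootSub.Quadratic

theorem main {X : Type*} [Group X] {A B : Subgroup X} (h : Cfsg.IsRankOneGroup X A B) {V : Type*}
    [AddCommGroup V] [DistribMulAction X V] (hf : ∀ x : X, (∀ v : V, x • v = v) → x = 1)
    (hq : ∀ a ∈ A, ∀ a' ∈ A, ∀ v : V, a' • (a • v - v) = a • v - v) :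
    (∀ a ∈ A, a ≠ 1 → ¬ IsOfFinOrder a) ∨ ∃ p : ℕ, p.Prime ∧ Cfsg.IsElementaryAbelian p A := by
  obtain ⟨htop, h⟩ := h
  have hq' : Quad V A := fun a ha n a' ha' => hq a ha a' ha' n
  have heq : ∀ x y : X, (∀ v : V, x • v = y • v) → x = y := fun x y hxy =>
    inv_mul_eq_one.mp (hf (x⁻¹ * y) fun v => by rw [mul_smul, ← hxy v, inv_smul_smul])
  have hcomm : IsMulCommutative A := ⟨⟨fun a a' => Subtype.ext (heq _ _ fun v => by
    show (a.1 * a'.1) • v = (a'.1 * a.1) • v
    have e1 : a'.1 • v = v + (a'.1 • v - v) := by abel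
    have e2 : a.1 • v = v + (a.1 • v - v) := by abel
    rw [mul_smul, mul_smul, e1, smul_add, hq a'.1 a'.2 a.1 a.2 v]
    conv_rhs => rw [e2, smul_add, hq a.1 a.2 a'.1 a'.2 v]
    abel)⟩⟩
  by_cases hall : ∀ a ∈ A, a ≠ 1 → ¬ IsOfFinOrder a
  · exact Or.inl hall
  right
  push Not at hall
  obtain ⟨a₀, ha₀, ha₀1, hfin⟩ := hall
  obtain ⟨a, ha, ha1, p, hp, hap⟩ : ∃ a ∈ A, a ≠ 1 ∧ ∃ p : ℕ, p.Prime ∧ a ^ p = 1 := by
    have hn1 : orderOf a₀ ≠ 1 := fun e => ha₀1 (orderOf_eq_one_iff.mp e)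
    have hpos : 0 < orderOf a₀ := hfin.orderOf_pos
    refine ⟨a₀ ^ (orderOf a₀ / (orderOf a₀).minFac), A.pow_mem ha₀ _, ?_, _, Nat.minFac_prime hn1, ?_⟩
    · intro e
      have := Nat.le_of_dvd (Nat.div_pos (Nat.minFac_le hpos) (Nat.minFac_pos _)) (orderOf_dvd_of_pow_eq_one e)
      have := Nat.div_lt_self hpos (Nat.minFac_prime hn1).one_lt
      omega
    · rw [← pow_mul, Nat.div_mul_cancel (Nat.minFac_dvd _), pow_orderOf_eq_one]
  refine ⟨p, hp, hcomm, fun a' ha' => ?_⟩
  by_contra hne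
  obtain ⟨b, hb, -, e⟩ := h.cond_left a ha ha1
  have hpd : ∀ v : V, p • (a • v - v) = 0 := fun v => by
    have := pow_smul_eq hq' ha v p
    rw [hap, one_smul] at this
    simpa using this
  have hpc : ∀ c : V, Fixed A c → ∀ g : X, g • (p • c) = p • c := by
    intro c hc g
    have h1 := rel htop h hq' ha hb e hc g
    set w := c + (a • (b⁻¹ • c - c) - (b⁻¹ • c - c)) with hw
    have h2 : p • c = p • w := by rw [hw, nsmul_add, hpd, add_zero]
    rw [h2, smul_comm g p w, h1]
  have hzn : ∀ n : V, ∀ g : X, g • ((a' ^ p) • n - n) = (a' ^ p) • n - n := by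
    intro n g
    rw [pow_smul_eq hq' ha' n p, add_sub_cancel_left]
    exact hpc _ (hq' a' ha' n) g
  have htriv := trivial_mod htop h hq' (A.pow_mem ha' p) hne hzn
  have hab : ∀ x y : X, x * y = y * x := fun x y => heq _ _ fun v => by
    have e1 : y • v = v + (y • v - v) := by abel
    have e2 : x • v = v + (x • v - v) := by abel
    rw [mul_smul, mul_smul, e1, smul_add, htriv y v x]
    conv_rhs => rw [e2, smul_add, htriv x v y]
    abel
  obtain ⟨b', hb', hb'1, -⟩ := h.cond_left a ha ha1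
  exact not_commute h ha ha1 hb' hb'1 (hab a b')

/-- Let X be a rank one group with unipotent subgroups A and B that acts faithfully on an abelian group V (written additively) with A acting quadratically: a' • (a • v − v) = a • v − v for all a, a' in A and v in V. Then A is either torsion-free or an elementary abelian p-group for some prime p. -/
theorem result {X : Type*} [Group X] {A B : Subgroup X} (h : Cfsg.IsRankOneGroup X A B)
    {V : Type*} [AddCommGroup V] [DistribMulAction X V] (hf : ∀ x : X, (∀ v : V, x • v = v) → x = 1)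
    (hq : ∀ a ∈ A, ∀ a' ∈ A, ∀ v : V, a' • (a • v - v) = a • v - v) :
    (∀ a ∈ A, a ≠ 1 → ¬ IsOfFinOrder a) ∨ ∃ p : ℕ, p.Prime ∧ Cfsg.IsElementaryAbelian p A := by
  exact main h hf hq

end Cfsg.Agent.S5023
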