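import Cfsg.Statements.S5024
import Mathlib
import Cfsg.Agent.Lib.RootSub.RootSet
-- import your own Cfsg.Agent.* helpers here

set_option autoImplicit false
open Cfsg

namespace Cfsg.Agent.S5024

/-- Let S be a set of abstract root subgroups of G, A and C members of S, B a rank one partner of A in S and D a rank one partner of C in S. If the rank one group ⟨A, B⟩ is contained in ⟨C, D⟩ then the two coincide, and C and D are conjugates of A inside ⟨A, B⟩. -/
theorem result {G : Type*} [Group G] {S : Set (Subgroup G)} (hS : Cfsg.IsRootSubgroupSet S)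
    {A B C D : Subgroup G} (hA : A ∈ S) (hC : C ∈ S) (hB : B ∈ Cfsg.rankOnePartners S A) (hD : D ∈ Cfsg.rankOnePartners S C)
    (hle : A ⊔ B ≤ C ⊔ D) : A ⊔ B = C ⊔ D ∧ C ∈ Cfsg.unipotentSubgroups A B ∧ D ∈ Cfsg.unipotentSubgroups A B := by
    obtain ⟨hBS, hAB⟩ := hB
    obtain ⟨hDS, hCD⟩ := hD
    have key : ∀ P Q : Subgroup G, P ∈ S → Cfsg.IsRankOnePair P Q → P ⊔ Q ≤ C ⊔ D → P ∈ Cfsg.unipotentSubgroups C D := by
      intro P Q hP hPQ hle'
      by_contra hnot
      have hUS : ∀ E ∈ Cfsg.unipotentSubgroups C D, E ∈ S := by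
        rintro E ⟨x, -, rfl⟩; exact hS.conj_mem C hC x
      have hnorm : ∀ E ∈ Cfsg.unipotentSubgroups C D, ∀ x ∈ P, x ∈ Subgroup.normalizer (E : Set G) := by
        intro E hE x hx
        by_cases hr : Cfsg.IsRankOnePair P E
        · obtain ⟨⟨p, hp⟩, hne⟩ := Subgroup.ne_bot_iff_exists_ne_one.mp (hS.ne_bot P hP)
          exact absurd (CfsgLib.RootSub.mem_unipotent_of_rankOne hCD hr hE hp (fun e => hne (Subtype.ext e))
            (CfsgLib.RootSub.conjBy_mem_unipotent (inv_mem (hle' (Subgroup.mem_sup_left hp))) hE)) hnot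
        · exact CfsgLib.RootSub.normalizes_of_not_rankOne hS hP (hUS E hE) hr hCD hE hx
            (CfsgLib.RootSub.conjBy_mem_unipotent (hle' (Subgroup.mem_sup_left hx)) hE)
      have hcent : ∀ E F, Cfsg.IsRankOnePair E F → E ∈ Cfsg.unipotentSubgroups C D → F ∈ Cfsg.unipotentSubgroups C D →
          E ≤ C ⊔ D → E ≤ Subgroup.centralizer (P : Set G) := by
        intro E F hEF hE hF hEle e he
        refine Subgroup.mem_centralizer_iff.mpr fun p hp => ?_
        have h1 : p * e * p⁻¹ ∈ E := (Subgroup.mem_normalizer_iff.mp (hnorm E hE p hp) e).mp he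
        have hconjn : e * p⁻¹ * e⁻¹ ∈ Subgroup.normalizer (F : Set G) := by
          have h2 := CfsgLib.RootSub.conjBy_eq_self_iff.mpr
            (hnorm _ (CfsgLib.RootSub.conjBy_mem_unipotent (inv_mem (hEle he)) hF) p⁻¹ (inv_mem hp))
          rw [← CfsgLib.RootSub.conjBy_eq_self_iff]
          have h3 := congrArg (fun K => Cfsg.conjBy K e) h2
          simp only [CfsgLib.RootSub.conjBy_conjBy, mul_inv_cancel, CfsgLib.RootSub.conjBy_one] at h3
          rwa [show e * p⁻¹ * e⁻¹ = e * (p⁻¹ * e⁻¹) by group]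
        have h4 : p * e * p⁻¹ * e⁻¹ ∈ Subgroup.normalizer (F : Set G) := by
          have := mul_mem (hnorm F hF p hp) hconjn
          rwa [show p * (e * p⁻¹ * e⁻¹) = p * e * p⁻¹ * e⁻¹ by group] at this
        have h5 := CfsgLib.RootSub.eq_one_of_normalizes hEF (mul_mem h1 (inv_mem he)) h4
        calc p * e = (p * e * p⁻¹ * e⁻¹) * (e * p) := by group
          _ = _ := by rw [h5, one_mul]
      have hCc := hcent C D hCD CfsgLib.RootSub.left_mem_unipotent (CfsgLib.RootSub.right_mem_unipotent hCD) le_sup_left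
      have hDc := hcent D C (Cfsg.RankOnePair_symm hCD) (CfsgLib.RootSub.right_mem_unipotent hCD) CfsgLib.RootSub.left_mem_unipotent le_sup_right
      refine CfsgLib.RootSub.ne_bot_left (Cfsg.RankOnePair_symm hPQ) ((Subgroup.eq_bot_iff_forall Q).mpr fun q hq => ?_)
      refine CfsgLib.RootSub.eq_one_of_normalizes (Cfsg.RankOnePair_symm hPQ) hq ?_
      exact Subgroup.centralizer_le_normalizer _ ((sup_le hCc hDc) (hle' (Subgroup.mem_sup_right hq)))
    have hAU := key A B hA hAB hle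
    have hBU := key B A hBS (Cfsg.RankOnePair_symm hAB) (by rwa [sup_comm])
    obtain ⟨x, hx, rfl, rfl⟩ := CfsgLib.RootSub.exists_map_pair hCD hAU hBU hAB.ne
    have heq : Cfsg.conjBy C x ⊔ Cfsg.conjBy D x = C ⊔ D := by
      rw [Cfsg.conjBy, Cfsg.conjBy, ← Subgroup.map_sup]
      exact CfsgLib.RootSub.conjBy_self hx
    have hU : ∀ E ∈ Cfsg.unipotentSubgroups C D, E ∈ Cfsg.unipotentSubgroups (Cfsg.conjBy C x) (Cfsg.conjBy D x) := by
      rintro E ⟨y, hy, rfl⟩
      exact ⟨y * x⁻¹, heq.symm ▸ mul_mem hy (inv_mem hx), by rw [CfsgLib.RootSub.conjBy_conjBy, inv_mul_cancel_right]⟩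
    exact ⟨heq, hU C CfsgLib.RootSub.left_mem_unipotent, hU D (CfsgLib.RootSub.right_mem_unipotent hCD)⟩

end Cfsg.Agent.S5024
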