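import Cfsg.Statements.S5026
import Mathlib
import Cfsg.Agent.Lib.RootSub.Central
-- import your own Cfsg.Agent.* helpers here

set_option autoImplicit false
open Cfsg

namespace Cfsg.Agent.S5026

/-- Let S be a degenerate set of abstract root subgroups of G (a set of abstract transvection groups) and let a, b be commuting non-identity elements of members of S with a b ≠ 1. Then the members of S centralizing a b are exactly those centralizing both a and b. -/
theorem result {G : Type*} [Group G] {S : Set (Subgroup G)} (hS : Cfsg.IsRootSubgroupSet S) (hdeg : Cfsg.IsDegenerateRootSet S)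
    {a b : G} (ha : a ∈ Cfsg.rootElements S) (hb : b ∈ Cfsg.rootElements S) (hab : a * b = b * a) (hab1 : a * b ≠ 1) :
    Cfsg.centralizingMembers S (Subgroup.zpowers (a * b)) =
      Cfsg.centralizingMembers S (Subgroup.zpowers a) ∩ Cfsg.centralizingMembers S (Subgroup.zpowers b) := by
  classical
  obtain ⟨ha1, A, hA, haA⟩ := ha
  obtain ⟨hb1, B, hB, hbB⟩ := hb
  have hdich : ∀ P ∈ S, ∀ Q ∈ S, (∀ p ∈ P, ∀ q ∈ Q, p * q = q * p) ∨ Cfsg.IsRankOnePair P Q := fun P hP Q hQ => by
    rcases hS.pair P hP Q hQ with h | h | h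
    · rw [Subgroup.commutator_eq_bot_iff_le_centralizer] at h
      exact Or.inl fun p hp q hq => ((Subgroup.mem_centralizer_iff.mp (h hp)) q hq).symm
    · exact Or.inr h
    · exact absurd h (hdeg P hP Q hQ)
  have hmem : ∀ (g : G) (C : Subgroup G), C ≤ Subgroup.centralizer ((Subgroup.zpowers g : Subgroup G) : Set G) ↔ ∀ c ∈ C, c * g = g * c := fun g C => by
    rw [Subgroup.zpowers_eq_closure, Subgroup.centralizer_closure]
    exact ⟨fun h c hc => Subgroup.mem_centralizer_singleton_iff.mp (h hc), fun h c hc => Subgroup.mem_centralizer_singleton_iff.mpr (h c hc)⟩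
  ext C
  simp only [Cfsg.centralizingMembers, Set.mem_inter_iff, Set.mem_ofPred_eq, hmem]
  constructor
  swap
  · rintro ⟨⟨hC, h1⟩, -, h2⟩
    exact ⟨hC, fun c hc => by rw [← mul_assoc, h1 c hc, mul_assoc, h2 c hc, mul_assoc]⟩
  rintro ⟨hC, h⟩
  have hb' : (∀ c ∈ C, c * a = a * c) → ∀ c ∈ C, c * b = b * c := fun h1 c hc => by
    have := h c hc
    rw [← mul_assoc, h1 c hc, mul_assoc, mul_assoc] at this
    exact mul_left_cancel this
  have ha' : (∀ c ∈ C, c * b = b * c) → ∀ c ∈ C, c * a = a * c := fun h1 c hc => by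
    have := h c hc
    rw [hab, ← mul_assoc, h1 c hc, mul_assoc, mul_assoc] at this
    exact mul_left_cancel this
  rcases hdich C hC A hA with hCA | hCA
  · exact ⟨⟨hC, fun c hc => hCA c hc a haA⟩, hC, hb' fun c hc => hCA c hc a haA⟩
  rcases hdich C hC B hB with hCB | hCB
  · exact ⟨⟨hC, ha' fun c hc => hCB c hc b hbB⟩, hC, fun c hc => hCB c hc b hbB⟩
  exfalso
  have hAC := Cfsg.RankOnePair_symm hCA
  have hBC := Cfsg.RankOnePair_symm hCB
  -- `b` and `a⁻¹` have the same effect on `C`
  have hfix : Cfsg.conjBy C (a * b) = C :=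
    CfsgLib.RootSub.conjBy_eq_self_iff.mpr (CfsgLib.RootSub.mem_normalizer_of_commute_all fun c hc => (h c hc).symm)
  have e1 : Cfsg.conjBy C b = Cfsg.conjBy C a⁻¹ := by
    conv_rhs => rw [← hfix, CfsgLib.RootSub.conjBy_conjBy, inv_mul_cancel_left]
  obtain ⟨c, hc, -, e2⟩ := hBC.cond_left b⁻¹ (B.inv_mem hbB) (inv_ne_one.mpr hb1)
  rw [inv_inv, e1] at e2
  have hBU : B ∈ Cfsg.unipotentSubgroups A C := by
    have := CfsgLib.RootSub.conjBy_mem_unipotent (Subgroup.mem_sup_right (S := A) hc) (e2 ▸ CfsgLib.RootSub.conjBy_right_mem hAC (A.inv_mem haA))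
    rwa [CfsgLib.RootSub.conjBy_conjBy, mul_inv_cancel, CfsgLib.RootSub.conjBy_one] at this
  have hAB : A = B := by
    rcases hdich B hB A hA with hBA | hBA
    · exact CfsgLib.RootSub.eq_of_unipotent_commute hAC hBU hbB hb1 fun x hx => hBA b hbB x hx
    · exact absurd hab.symm (CfsgLib.RootSub.not_commute hBA hbB hb1 haA ha1)
  subst hAB
  exact hab1 (CfsgLib.RootSub.eq_one_of_normalizes hAC (A.mul_mem haA hbB) (CfsgLib.RootSub.mem_normalizer_of_commute_all fun c hc => (h c hc).symm))

end Cfsg.Agent.S5026
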