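import Cfsg.Statements.S5027
import Mathlib
import Cfsg.Agent.Lib.RootSub.Central
-- import your own Cfsg.Agent.* helpers here

set_option autoImplicit false
open Cfsg

namespace Cfsg.Agent.S5027

/-- Let S be a set of abstract root subgroups of G such that every member of S has a rank one partner in S (the graph of rank one pairs on S has no isolated vertex). Then the second centre of G equals its centre. -/
theorem result {G : Type*} [Group G] {S : Set (Subgroup G)} (hS : Cfsg.IsRootSubgroupSet S)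
    (hF : ∀ A ∈ S, ¬ Cfsg.IsIsolatedIn (Cfsg.FAdj S) S A) : Subgroup.upperCentralSeries G 2 = Subgroup.center G := by
  classical
  refine le_antisymm (fun z hz => ?_) ?_
  swap
  · rw [← Subgroup.upperCentralSeries_one]
    exact Subgroup.upperCentralSeries_mono G (by norm_num)
  have hw : ∀ y : G, z * y * z⁻¹ * y⁻¹ ∈ Subgroup.center G := fun y => by
    rw [← Subgroup.upperCentralSeries_one]
    exact (Subgroup.mem_upperCentralSeries_succ_iff.mp hz) y
  suffices H : ∀ A ∈ S, ∀ a ∈ A, z * a = a * z by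
    rw [Subgroup.mem_center_iff]
    intro g
    have hle : (⨆ A ∈ S, A) ≤ Subgroup.centralizer ({z} : Set G) :=
      iSup₂_le fun A hA a ha => Subgroup.mem_centralizer_singleton_iff.mpr (H A hA a ha).symm
    rw [hS.generates] at hle
    exact Subgroup.mem_centralizer_singleton_iff.mp (hle (Subgroup.mem_top g))
  intro A hA a ha
  by_cases ha1 : a = 1
  · rw [ha1, mul_one, one_mul]
  have hni := hF A hA
  simp only [Cfsg.IsIsolatedIn, not_and, not_forall, not_not] at hni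
  obtain ⟨B, hB⟩ := hni hA
  obtain ⟨hB, h⟩ : B ∈ S ∧ Cfsg.IsRankOnePair A B := by
    by_cases hAB : Cfsg.FAdj S A B
    · exact ⟨hAB.2.1, hAB.2.2⟩
    · obtain ⟨hBS, -, hr⟩ := hB hAB
      exact ⟨hBS, Cfsg.RankOnePair_symm hr⟩
  obtain ⟨⟨b, hb⟩, hb1'⟩ := Subgroup.ne_bot_iff_exists_ne_one.mp (CfsgLib.RootSub.ne_bot_left (Cfsg.RankOnePair_symm h))
  have hb1 : b ≠ 1 := fun e => hb1' (Subtype.ext e)
  set A' := Cfsg.conjBy A z with hA'
  -- members of `A'` differ from members of `A` by central elements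
  have hrep : ∀ x ∈ A', ∃ a₀ ∈ A, ∀ y : G, x * y * x⁻¹ = a₀ * y * a₀⁻¹ := by
    intro x hx
    obtain ⟨a₀, ha₀, rfl⟩ := hx
    refine ⟨a₀, ha₀, fun y => ?_⟩
    simp only [MulEquiv.coe_toMonoidHom, MulAut.conj_apply]
    have e : z * a₀ * z⁻¹ = (z * a₀ * z⁻¹ * a₀⁻¹) * a₀ := by group
    have hc := Subgroup.mem_center_iff.mp (hw a₀)
    rw [e]
    calc (z * a₀ * z⁻¹ * a₀⁻¹) * a₀ * y * ((z * a₀ * z⁻¹ * a₀⁻¹) * a₀)⁻¹
        = ((z * a₀ * z⁻¹ * a₀⁻¹) * (a₀ * y * a₀⁻¹)) * (z * a₀ * z⁻¹ * a₀⁻¹)⁻¹ := by group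
      _ = ((a₀ * y * a₀⁻¹) * (z * a₀ * z⁻¹ * a₀⁻¹)) * (z * a₀ * z⁻¹ * a₀⁻¹)⁻¹ := by rw [hc (a₀ * y * a₀⁻¹)]
      _ = a₀ * y * a₀⁻¹ := by group
  set a' := z * a * z⁻¹ with ha'def
  have ha' : a' ∈ A' := CfsgLib.RootSub.conjBy_mem ha
  set w := z * a * z⁻¹ * a⁻¹ with hwdef
  have hwa : a' = w * a := by rw [hwdef, ha'def]; group
  have hwc := Subgroup.mem_center_iff.mp (hw a)
  have hA'A : A' = A := by
    rcases hS.pair A' (hS.conj_mem A hA z) B hB with hc | hr | hc
    · exfalso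
      rw [Subgroup.commutator_eq_bot_iff_le_centralizer] at hc
      have e := (Subgroup.mem_centralizer_iff.mp (hc ha')) b hb
      have e' : w * (b * a) = w * (a * b) := by
        calc w * (b * a) = (w * b) * a := (mul_assoc _ _ _).symm
          _ = (b * w) * a := by rw [hwc b]
          _ = b * a' := by rw [hwa]; exact mul_assoc _ _ _
          _ = a' * b := e
          _ = w * (a * b) := by rw [hwa]; exact mul_assoc _ _ _
      exact CfsgLib.RootSub.not_commute h ha ha1 hb hb1 (mul_left_cancel e').symm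
    · have hU : Cfsg.conjBy A' b⁻¹ ∈ Cfsg.unipotentSubgroups A' B :=
        CfsgLib.RootSub.conjBy_mem_unipotent (Subgroup.mem_sup_right (B.inv_mem hb)) CfsgLib.RootSub.left_mem_unipotent
      rcases CfsgLib.RootSub.eq_or_conj_right hr hU with e | ⟨x, hx, e⟩
      · exact absurd (CfsgLib.RootSub.eq_one_of_normalizes (Cfsg.RankOnePair_symm hr) (B.inv_mem hb) (CfsgLib.RootSub.conjBy_eq_self_iff.mp e)) (inv_ne_one.mpr hb1)
      · obtain ⟨a₀, ha₀, hsame⟩ := hrep x hx
        have e2 : Cfsg.conjBy B x = Cfsg.conjBy B a₀ := by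
          ext y
          simp only [Cfsg.conjBy, Subgroup.mem_map, MulEquiv.coe_toMonoidHom, MulAut.conj_apply, hsame]
        have hA'U : A' ∈ Cfsg.unipotentSubgroups A B := by
          have := CfsgLib.RootSub.conjBy_mem_unipotent (Subgroup.mem_sup_right (S := A) hb) (show Cfsg.conjBy A' b⁻¹ ∈ Cfsg.unipotentSubgroups A B by rw [e, e2]; exact CfsgLib.RootSub.conjBy_right_mem h ha₀)
          rwa [CfsgLib.RootSub.conjBy_conjBy, mul_inv_cancel, CfsgLib.RootSub.conjBy_one] at this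
        refine (CfsgLib.RootSub.eq_of_unipotent_commute h hA'U ha' (fun e' => ha1 (conj_eq_one_iff.mp e')) fun a₁ ha₁ => ?_).symm
        have hcomm : a * a₁ = a₁ * a := congrArg Subtype.val ((hS.commutative A hA).is_comm.comm ⟨a, ha⟩ ⟨a₁, ha₁⟩)
        rw [hwa, mul_assoc, hcomm, ← mul_assoc, ← mul_assoc, hwc a₁]
    · exfalso
      obtain ⟨-, hcen, -, -⟩ := hc
      have hn : b ∈ Subgroup.normalizer (Cfsg.conjBy B a : Set G) := by
        refine CfsgLib.RootSub.mem_normalizer_of_commute_all fun y hy => ?_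
        obtain ⟨b₂, hb₂, rfl⟩ := hy
        simp only [MulEquiv.coe_toMonoidHom, MulAut.conj_apply]
        have hk : a * b₂ * a⁻¹ * b₂⁻¹ ∈ ⁅A', B⁆ := by
          have e : a * b₂ * a⁻¹ = a' * b₂ * a'⁻¹ := by
            rw [hwa, show w * a * b₂ * (w * a)⁻¹ = (w * (a * b₂ * a⁻¹)) * w⁻¹ by group, ← hwc (a * b₂ * a⁻¹), mul_inv_cancel_right]
          rw [e, ← commutatorElement_def]
          exact Subgroup.commutator_mem_commutator ha' hb₂
        have h1 := hcen _ hk b (Subgroup.mem_sup_right hb)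
        have h2 : b * b₂ = b₂ * b := congrArg Subtype.val ((hS.commutative B hB).is_comm.comm ⟨b, hb⟩ ⟨b₂, hb₂⟩)
        calc b * (a * b₂ * a⁻¹) = (b * (a * b₂ * a⁻¹ * b₂⁻¹)) * b₂ := by group
          _ = ((a * b₂ * a⁻¹ * b₂⁻¹) * b) * b₂ := by rw [h1]
          _ = (a * b₂ * a⁻¹ * b₂⁻¹) * (b * b₂) := by group
          _ = (a * b₂ * a⁻¹ * b₂⁻¹) * (b₂ * b) := by rw [h2]
          _ = a * b₂ * a⁻¹ * b := by group
      have hD := CfsgLib.RootSub.eq_of_normalizes h (CfsgLib.RootSub.right_mem_unipotent h) (CfsgLib.RootSub.conjBy_right_mem h ha) hb hb1 hn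
      exact ha1 (CfsgLib.RootSub.eq_one_of_normalizes h ha (CfsgLib.RootSub.conjBy_eq_self_iff.mp hD))
  have hwA : w ∈ A := by
    have : a' ∈ A := hA'A ▸ ha'
    rw [show w = a' * a⁻¹ by rw [hwa, mul_inv_cancel_right]]
    exact A.mul_mem this (A.inv_mem ha)
  have hw1 : w = 1 := CfsgLib.RootSub.eq_one_of_normalizes h hwA (CfsgLib.RootSub.mem_normalizer_of_commute_all fun y _ => (hwc y).symm)
  rw [hwdef, mul_inv_eq_one] at hw1
  exact mul_inv_eq_iff_eq_mul.mp hw1

end Cfsg.Agent.S5027
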