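import Cfsg.Statements.S5030
import Mathlib
import Cfsg.Agent.Lib.RootSub.CommCase
-- import your own Cfsg.Agent.* helpers here

set_option autoImplicit false
open Cfsg

namespace Cfsg.Agent.S5030

open scoped commutatorElement
universe u
variable {G : Type u} [Group G] {S : Set (Subgroup G)}

/-- A commutator of two generated subgroups lies in a normalised subgroup containing the commutators of the generators. -/
private theorem comm_le {s t : Set G} {Y : Subgroup G} (hs : s ⊆ Subgroup.normalizer (Y : Set G))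
    (ht : t ⊆ Subgroup.normalizer (Y : Set G)) (h : ∀ x ∈ s, ∀ y ∈ t, ⁅x, y⁆ ∈ Y) :
    ⁅Subgroup.closure s, Subgroup.closure t⁆ ≤ Y := by
  refine (Subgroup.closure_le _).mpr ?_
  rintro _ ⟨x, hx, y, hy, rfl⟩
  have key : ∀ y ∈ Subgroup.closure t, ∀ x ∈ s, ⁅x, y⁆ ∈ Y := by
    intro y hy
    induction hy using Subgroup.closure_induction with
    | mem y hy => exact fun x hx => h x hx y hy
    | one => intro x _; simp
    | mul y z hy _ h1 h2 =>
      intro x hx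
      rw [show ⁅x, y * z⁆ = ⁅x, y⁆ * (y * ⁅x, z⁆ * y⁻¹) by simp only [commutatorElement_def]; group]
      exact mul_mem (h1 x hx) (CfsgLib.RootSub.conj_mem_of_normalizes ((Subgroup.closure_le _).mpr ht hy) (h2 x hx))
    | inv y hy h1 =>
      intro x hx
      rw [show ⁅x, y⁻¹⁆ = y⁻¹ * ⁅x, y⁆⁻¹ * y⁻¹⁻¹ by simp only [commutatorElement_def]; group]
      exact CfsgLib.RootSub.conj_mem_of_normalizes (inv_mem ((Subgroup.closure_le _).mpr ht hy)) (inv_mem (h1 x hx))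
  induction hx using Subgroup.closure_induction with
  | mem x hx => exact key y hy x hx
  | one => simp
  | mul x z hx _ h1 h2 =>
    rw [show ⁅x * z, y⁆ = (x * ⁅z, y⁆ * x⁻¹) * ⁅x, y⁆ by simp only [commutatorElement_def]; group]
    exact mul_mem (CfsgLib.RootSub.conj_mem_of_normalizes ((Subgroup.closure_le _).mpr hs hx) h2) h1
  | inv x hx h1 =>
    rw [show ⁅x⁻¹, y⁆ = x⁻¹ * ⁅x, y⁆⁻¹ * x⁻¹⁻¹ by simp only [commutatorElement_def]; group]
    exact CfsgLib.RootSub.conj_mem_of_normalizes (inv_mem ((Subgroup.closure_le _).mpr hs hx)) (inv_mem h1)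

private theorem mem_normalizer_of_central {Y : Subgroup G} {x : G} (h : ∀ y ∈ Y, x * y = y * x) :
    x ∈ Subgroup.normalizer (Y : Set G) := CfsgLib.RootSub.mem_normalizer_of_commute_all h

private theorem comm_mem_symm {Y : Subgroup G} {x y : G} (h : ⁅x, y⁆ ∈ Y) : ⁅y, x⁆ ∈ Y := by
  rw [← commutatorElement_inv]; exact inv_mem h

private theorem sup_commutative {P Q : Subgroup G} (hP : IsMulCommutative P) (hQ : IsMulCommutative Q)
    (h : ∀ p ∈ P, ∀ q ∈ Q, p * q = q * p) : ∀ x ∈ P ⊔ Q, ∀ y ∈ P ⊔ Q, x * y = y * x := by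
  intro x hx y hy
  have key : ∀ w ∈ P ⊔ Q, (∀ p ∈ P, w * p = p * w) ∧ ∀ q ∈ Q, w * q = q * w := by
    intro w hw
    refine ⟨fun p hp => ?_, fun q hq => ?_⟩
    · exact Subgroup.mem_centralizer_singleton_iff.mp ((sup_le
        (fun a ha => Subgroup.mem_centralizer_singleton_iff.mpr (congrArg Subtype.val (hP.is_comm.comm ⟨a, ha⟩ ⟨p, hp⟩)))
        (fun a ha => Subgroup.mem_centralizer_singleton_iff.mpr (h p hp a ha).symm) :
          P ⊔ Q ≤ Subgroup.centralizer ({p} : Set G)) hw)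
    · exact Subgroup.mem_centralizer_singleton_iff.mp ((sup_le
        (fun a ha => Subgroup.mem_centralizer_singleton_iff.mpr (h a ha q hq))
        (fun a ha => Subgroup.mem_centralizer_singleton_iff.mpr (congrArg Subtype.val (hQ.is_comm.comm ⟨a, ha⟩ ⟨q, hq⟩))) :
          P ⊔ Q ≤ Subgroup.centralizer ({q} : Set G)) hw)
  exact (Subgroup.mem_centralizer_singleton_iff.mp ((sup_le
    (fun a ha => Subgroup.mem_centralizer_singleton_iff.mpr ((key x hx).1 a ha).symm)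
    (fun a ha => Subgroup.mem_centralizer_singleton_iff.mpr ((key x hx).2 a ha).symm) :
      P ⊔ Q ≤ Subgroup.centralizer ({x} : Set G)) hy)).symm

/-- Half of the configuration: `U = A ⊔ C^b`, with `E = ⁅B, C⁆`. -/
private theorem side (hS : Cfsg.IsRootSubgroupSet S) {A B C : Subgroup G} (hA : A ∈ S) (hB : B ∈ S) (hC : C ∈ S)
    (hBC : ⁅B, C⁆ ∈ S) (hAC : ∀ a ∈ A, ∀ c ∈ C, a * c = c * a) :
    ∃ D : Subgroup G, ⁅A, ⁅B, C⁆⁆ = D ∧ ∀ d ∈ D, ∀ x ∈ A ⊔ ⁅B, C⁆ ⊔ C, d * x = x * d := by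
  have h := CfsgLib.RootSub.rcc_of_mem hS hB hC hBC
  have h' := CfsgLib.RootSub.rcc_symm h
  refine ⟨_, rfl, ?_⟩
  have hEC : ∀ e ∈ ⁅B, C⁆, ∀ c ∈ C, e * c = c * e := fun e he c hc => h.2.1 e he c (Subgroup.mem_sup_right hc)
  have hcen : ∀ d ∈ ⁅A, ⁅B, C⁆⁆, ∀ c ∈ C, d * c = c * d := by
    intro d hd c hc
    refine Subgroup.mem_centralizer_singleton_iff.mp ((?_ : ⁅A, ⁅B, C⁆⁆ ≤ Subgroup.centralizer ({c} : Set G)) hd)
    refine (Subgroup.closure_le _).mpr ?_
    rintro _ ⟨a, ha, e, he, rfl⟩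
    rw [SetLike.mem_coe, Subgroup.mem_centralizer_singleton_iff]
    have c1 : Commute a c := hAC a ha c hc
    have c2 : Commute e c := hEC e he c hc
    simp only [commutatorElement_def]
    exact (((c1.mul_left c2).mul_left c1.inv_left).mul_left c2.inv_left).eq
  have hAE : ∀ d ∈ ⁅A, ⁅B, C⁆⁆, ∀ x ∈ A ⊔ ⁅B, C⁆, d * x = x * d := by
    rcases hS.pair A hA _ hBC with h1 | h1 | h1
    · intro d hd x _
      rw [h1, Subgroup.mem_bot] at hd
      rw [hd, one_mul, mul_one]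
    · exfalso
      obtain ⟨⟨c, hc⟩, hc0⟩ := Subgroup.ne_bot_iff_exists_ne_one.mp (hS.ne_bot C hC)
      have hc1 : c ≠ 1 := fun e => hc0 (Subtype.ext e)
      obtain ⟨⟨e, he⟩, he0⟩ := Subgroup.ne_bot_iff_exists_ne_one.mp (hS.ne_bot _ hBC)
      have he1 : e ≠ 1 := fun h => he0 (Subtype.ext h)
      have hz : c ∈ Subgroup.centralizer ((⁅B, C⁆ ⊔ A : Subgroup G) : Set G) := by
        rw [Subgroup.mem_centralizer_iff]
        intro x hx
        exact Subgroup.mem_centralizer_singleton_iff.mp ((sup_le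
          (fun y hy => Subgroup.mem_centralizer_singleton_iff.mpr (hEC y hy c hc))
          (fun y hy => Subgroup.mem_centralizer_singleton_iff.mpr (hAC y hy c hc)) :
            ⁅B, C⁆ ⊔ A ≤ Subgroup.centralizer ({c} : Set G)) hx)
      obtain ⟨y, hy, ey⟩ := CfsgLib.RootSub.rcc_conj h' hc hc1 (show e ∈ ⁅C, B⁆ by rw [Subgroup.commutator_comm]; exact he)
      refine Cfsg.Agent.S5025.result hS hBC ⟨hA, Cfsg.RankOnePair_symm h1⟩ hz hc1 e he he1
        ⟨fun e0 => ?_, Cfsg.conjBy C y, hS.conj_mem C hC y, ey ▸ CfsgLib.RootSub.conjBy_mem hc⟩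
      rw [e0, mul_inv_eq_one] at ey
      exact hc1 (mul_left_cancel (ey.trans (mul_one y).symm))
    · exact h1.2.1
  intro d hd x hx
  exact Subgroup.mem_centralizer_singleton_iff.mp ((sup_le
    (fun y hy => Subgroup.mem_centralizer_singleton_iff.mpr (hAE d hd y hy).symm)
    (fun y hy => Subgroup.mem_centralizer_singleton_iff.mpr (hcen d hd y hy).symm) :
      A ⊔ ⁅B, C⁆ ⊔ C ≤ Subgroup.centralizer ({d} : Set G)) hx) |>.symm

/-- The group `U = A ⊔ C^b` is abelian or of class two. -/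
private theorem U_facts (hS : Cfsg.IsRootSubgroupSet S) {A B C : Subgroup G} (hA : A ∈ S) (hB : B ∈ S) (hC : C ∈ S)
    (hBC : ⁅B, C⁆ ∈ S) (hAC : ∀ a ∈ A, ∀ c ∈ C, a * c = c * a) {b : G} (hb : b ∈ B) (hb1 : b ≠ 1)
    {U : Subgroup G} (hU : U = A ⊔ Cfsg.conjBy C b⁻¹) :
    ⁅U, U⁆ ≤ ⁅A, ⁅B, C⁆⁆ ∧ (∀ d ∈ ⁅A, ⁅B, C⁆⁆, ∀ x ∈ U, d * x = x * d) ∧ ⁅A, ⁅B, C⁆⁆ ≤ U ∧
      (IsMulCommutative U ↔ ⁅A, ⁅B, C⁆⁆ = ⊥) ∧ ⁅B, C⁆ ≤ C ⊔ Cfsg.conjBy C b⁻¹ := by
  obtain ⟨D, hD, hcen⟩ := side hS hA hB hC hBC hAC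
  subst hD
  have h := CfsgLib.RootSub.rcc_of_mem hS hB hC hBC
  have hconj : Cfsg.conjBy C b⁻¹ ≤ C ⊔ ⁅B, C⁆ := by
    rw [Subgroup.commutator_comm]
    exact CfsgLib.RootSub.conjBy_le_sup C B (inv_mem hb)
  have hE : ⁅B, C⁆ ≤ C ⊔ Cfsg.conjBy C b⁻¹ := by
    rw [← h.2.2.1 b⁻¹ (inv_mem hb) (inv_ne_one.mpr hb1), Subgroup.closure_le]
    rintro _ ⟨c, hc, rfl⟩
    exact mul_mem (Subgroup.mem_sup_right (CfsgLib.RootSub.conjBy_mem hc)) (Subgroup.mem_sup_left (inv_mem hc))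
  have hUle : U ≤ A ⊔ ⁅B, C⁆ ⊔ C := by
    rw [hU]
    exact sup_le (le_sup_left.trans le_sup_left) (hconj.trans (sup_le le_sup_right (le_sup_right.trans le_sup_left)))
  have hD1 : ∀ a ∈ A, ∀ c ∈ C, ⁅a, b⁻¹ * c * b * c⁻¹⁆ = ⁅a, b⁻¹ * c * b⁆ := by
    intro a ha c hc
    have c1 : Commute a c⁻¹ := (show Commute a c from hAC a ha c hc).inv_right
    simp only [commutatorElement_def]
    calc a * (b⁻¹ * c * b * c⁻¹) * a⁻¹ * (b⁻¹ * c * b * c⁻¹)⁻¹
        = a * (b⁻¹ * c * b) * (c⁻¹ * a⁻¹) * c * (b⁻¹ * c * b)⁻¹ := by group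
      _ = a * (b⁻¹ * c * b) * a⁻¹ * (b⁻¹ * c * b)⁻¹ := by rw [← c1.inv_left.eq]; group
  have hE' : ⁅B, C⁆ = Subgroup.closure ((fun c : G => b⁻¹ * c * b * c⁻¹) '' (C : Set G)) := by
    rw [← h.2.2.1 b⁻¹ (inv_mem hb) (inv_ne_one.mpr hb1)]
    simp only [inv_inv]
  have hsU : A ⊔ Cfsg.conjBy C b⁻¹ = Subgroup.closure ((A : Set G) ∪ (Cfsg.conjBy C b⁻¹ : Set G)) := Subgroup.sup_eq_closure _ _
  have hnD : ∀ x ∈ A ⊔ ⁅B, C⁆ ⊔ C, x ∈ Subgroup.normalizer ((⁅A, ⁅B, C⁆⁆ : Subgroup G) : Set G) :=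
    fun x hx => mem_normalizer_of_central fun d hd => (hcen d hd x hx).symm
  have hAA : ∀ a ∈ A, ∀ a' ∈ A, ⁅a, a'⁆ = 1 := fun a ha a' ha' => commutatorElement_eq_one_iff_mul_comm.mpr
    (congrArg Subtype.val ((hS.commutative A hA).is_comm.comm ⟨a, ha⟩ ⟨a', ha'⟩))
  have hCC : ∀ x ∈ Cfsg.conjBy C b⁻¹, ∀ y ∈ Cfsg.conjBy C b⁻¹, ⁅x, y⁆ = 1 := fun x hx y hy =>
    commutatorElement_eq_one_iff_mul_comm.mpr
      (congrArg Subtype.val ((hS.commutative _ (hS.conj_mem C hC b⁻¹)).is_comm.comm ⟨x, hx⟩ ⟨y, hy⟩))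
  have hAY : ∀ a ∈ A, ∀ y ∈ Cfsg.conjBy C b⁻¹, ⁅a, y⁆ ∈ ⁅A, ⁅B, C⁆⁆ := by
    rintro a ha _ ⟨c, hc, rfl⟩
    show ⁅a, b⁻¹ * c * b⁻¹⁻¹⁆ ∈ _
    rw [inv_inv, ← hD1 a ha c hc]
    exact Subgroup.commutator_mem_commutator ha (by rw [hE']; exact Subgroup.subset_closure ⟨c, hc, rfl⟩)
  have h1 : ⁅U, U⁆ ≤ ⁅A, ⁅B, C⁆⁆ := by
    have hn : ((A : Set G) ∪ (Cfsg.conjBy C b⁻¹ : Set G)) ⊆ Subgroup.normalizer ((⁅A, ⁅B, C⁆⁆ : Subgroup G) : Set G) :=
      fun x hx => hnD x (hUle (by rw [hU, hsU]; exact Subgroup.subset_closure hx))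
    rw [hU, hsU]
    refine comm_le hn hn ?_
    rintro x (hx | hx) y (hy | hy)
    · rw [hAA x hx y hy]; exact one_mem _
    · exact hAY x hx y hy
    · exact comm_mem_symm (hAY y hy x hx)
    · rw [hCC x hx y hy]; exact one_mem _
  have h3 : ⁅A, ⁅B, C⁆⁆ ≤ ⁅U, U⁆ ⊔ ⊥ := by
    have hs : ⁅A, ⁅B, C⁆⁆ = ⁅Subgroup.closure (A : Set G), Subgroup.closure ((fun c : G => b⁻¹ * c * b * c⁻¹) '' (C : Set G))⁆ := by
      rw [Subgroup.closure_eq, ← hE']
    have hmem : ∀ x ∈ A ⊔ ⁅B, C⁆ ⊔ C, x ∈ Subgroup.normalizer ((⁅U, U⁆ ⊔ ⊥ : Subgroup G) : Set G) := fun x hx =>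
      mem_normalizer_of_central fun d hd => (hcen d (h1 (by simpa using hd)) x hx).symm
    rw [hs]
    refine comm_le (fun x hx => hmem x (Subgroup.mem_sup_left (Subgroup.mem_sup_left hx))) ?_ ?_
    · rintro _ ⟨c, hc, rfl⟩
      exact hmem _ (Subgroup.mem_sup_left (Subgroup.mem_sup_right (by rw [hE']; exact Subgroup.subset_closure ⟨c, hc, rfl⟩)))
    · rintro a ha _ ⟨c, hc, rfl⟩
      rw [hD1 a ha c hc]
      refine Subgroup.mem_sup_left (Subgroup.commutator_mem_commutator (hU ▸ Subgroup.mem_sup_left ha) ?_)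
      rw [hU]
      refine Subgroup.mem_sup_right ?_
      have := CfsgLib.RootSub.conjBy_mem (g := b⁻¹) hc
      rwa [inv_inv] at this
  rw [sup_bot_eq] at h3
  refine ⟨h1, fun d hd x hx => hcen d hd x (hUle hx), h3.trans (Subgroup.commutator_le.mpr fun x hx y hy => ?_), ?_, hE⟩
  · rw [commutatorElement_def]
    exact mul_mem (mul_mem (mul_mem hx hy) (inv_mem hx)) (inv_mem hy)
  · constructor
    · intro hc
      rw [eq_bot_iff]
      refine h3.trans (le_of_eq (CfsgLib.RootSub.comm_eq_bot_of_commute fun x hx y hy => ?_))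
      exact congrArg Subtype.val (hc.is_comm.comm ⟨x, hx⟩ ⟨y, hy⟩)
    · intro hb'
      refine ⟨⟨fun x y => Subtype.ext ?_⟩⟩
      exact CfsgLib.RootSub.commute_of_comm_eq_bot (eq_bot_iff.mpr (hb' ▸ h1)) x.2 y.2

private theorem conj_pull {A C : Subgroup G} (h : ∀ a ∈ A, ∀ c ∈ C, a * c = c * a) (g : G) :
    ∀ x ∈ Cfsg.conjBy A g, ∀ y ∈ Cfsg.conjBy C g, x * y = y * x := by
  rintro _ ⟨a, ha, rfl⟩ _ ⟨c, hc, rfl⟩
  rw [← map_mul, ← map_mul, h a ha c hc]

/-- Let S be a set of abstract root subgroups of G and A, B, C ∈ S with ⁅A, B⁆ ∈ S and ⁅B, C⁆ ∈ S, where A and C are different and commute. For a non-identity b ∈ B put X = ⟨A, b⁻¹ C b⟩ and Y = ⟨b⁻¹ A b, C⟩ and R = ⟨A, B, C⟩. Then X and Y are either both abelian or both nilpotent of class exactly two; X and Y commute elementwise; XY is normal in R with R = (XY) B; and R is nilpotent. -/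
theorem result {G : Type*} [Group G] {S : Set (Subgroup G)} (hS : Cfsg.IsRootSubgroupSet S)
    {A B C : Subgroup G} (hA : A ∈ S) (hB : B ∈ S) (hC : C ∈ S) (hAB : ⁅A, B⁆ ∈ S) (hBC : ⁅B, C⁆ ∈ S)
    (hAC : C ∈ Cfsg.commutingPartners S A)
    {b : G} (hb : b ∈ B) (hb1 : b ≠ 1) :
    ((IsMulCommutative ↥(A ⊔ Cfsg.conjBy C b⁻¹) ∧ IsMulCommutative ↥(Cfsg.conjBy A b⁻¹ ⊔ C)) ∨
      ((¬ IsMulCommutative ↥(A ⊔ Cfsg.conjBy C b⁻¹) ∧
          ⁅⁅A ⊔ Cfsg.conjBy C b⁻¹, A ⊔ Cfsg.conjBy C b⁻¹⁆, A ⊔ Cfsg.conjBy C b⁻¹⁆ = ⊥) ∧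
        (¬ IsMulCommutative ↥(Cfsg.conjBy A b⁻¹ ⊔ C) ∧
          ⁅⁅Cfsg.conjBy A b⁻¹ ⊔ C, Cfsg.conjBy A b⁻¹ ⊔ C⁆, Cfsg.conjBy A b⁻¹ ⊔ C⁆ = ⊥))) ∧
    ⁅A ⊔ Cfsg.conjBy C b⁻¹, Cfsg.conjBy A b⁻¹ ⊔ C⁆ = ⊥ ∧
    (∀ r ∈ A ⊔ B ⊔ C, Cfsg.conjBy ((A ⊔ Cfsg.conjBy C b⁻¹) ⊔ (Cfsg.conjBy A b⁻¹ ⊔ C)) r =
      (A ⊔ Cfsg.conjBy C b⁻¹) ⊔ (Cfsg.conjBy A b⁻¹ ⊔ C)) ∧
    ((A ⊔ Cfsg.conjBy C b⁻¹) ⊔ (Cfsg.conjBy A b⁻¹ ⊔ C)) ⊔ B = A ⊔ B ⊔ C ∧
    Group.IsNilpotent ↥(A ⊔ B ⊔ C) := by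
  have hb1' : b⁻¹ ≠ 1 := inv_ne_one.mpr hb1
  obtain ⟨hC', hne, hAC'⟩ := hAC
  have hac : ∀ a ∈ A, ∀ c ∈ C, a * c = c * a := fun a ha c hc => CfsgLib.RootSub.commute_of_comm_eq_bot hAC' ha hc
  have hca : ∀ c ∈ C, ∀ a ∈ A, c * a = a * c := fun c hc a ha => (hac a ha c hc).symm
  have hFe : ⁅B, A⁆ = ⁅A, B⁆ := Subgroup.commutator_comm _ _
  set E := ⁅B, C⁆ with hEdef
  set F := ⁅A, B⁆ with hFdef
  set U := A ⊔ Cfsg.conjBy C b⁻¹ with hUdef
  set V := Cfsg.conjBy A b⁻¹ ⊔ C with hVdef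
  obtain ⟨hU1, hU2, hU3, hU4, hEle⟩ := U_facts hS hA hB hC hBC hac hb hb1 hUdef
  obtain ⟨hV1, hV2, hV3, hV4, hFle⟩ := U_facts hS hC hB hA (hFe ▸ hAB) hca hb hb1
    (show V = C ⊔ Cfsg.conjBy A b⁻¹ from sup_comm _ _)
  rw [hFe] at hV1 hV2 hV3 hV4 hFle
  have h1 := CfsgLib.RootSub.rcc_of_mem hS hA hB hAB
  have h2 := CfsgLib.RootSub.rcc_of_mem hS hB hC hBC
  have hYle : Cfsg.conjBy A b⁻¹ ≤ A ⊔ F := CfsgLib.RootSub.conjBy_le_sup A B (inv_mem hb)
  have hXle : Cfsg.conjBy C b⁻¹ ≤ C ⊔ E := by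
    rw [hEdef, Subgroup.commutator_comm]
    exact CfsgLib.RootSub.conjBy_le_sup C B (inv_mem hb)
  -- `U` and `V` commute elementwise
  have hAY : ∀ a ∈ A, ∀ y ∈ Cfsg.conjBy A b⁻¹, a * y = y * a := by
    intro a ha y hy
    obtain ⟨a', ha', f, hf, rfl⟩ := CfsgLib.RootSub.exists_mul_of_mem_sup h1 (hYle hy)
    have c1 : Commute a a' := congrArg Subtype.val ((hS.commutative A hA).is_comm.comm ⟨a, ha⟩ ⟨a', ha'⟩)
    have c2 : Commute a f := (h1.2.1 f hf a (Subgroup.mem_sup_left ha)).symm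
    exact (c1.mul_right c2).eq
  have hXC : ∀ x ∈ Cfsg.conjBy C b⁻¹, ∀ c ∈ C, x * c = c * x := by
    intro x hx c hc
    exact Subgroup.mem_centralizer_singleton_iff.mp ((sup_le
      (fun y hy => Subgroup.mem_centralizer_singleton_iff.mpr
        (congrArg Subtype.val ((hS.commutative C hC).is_comm.comm ⟨y, hy⟩ ⟨c, hc⟩)))
      (fun y hy => Subgroup.mem_centralizer_singleton_iff.mpr (h2.2.1 y hy c (Subgroup.mem_sup_right hc))) :
        C ⊔ E ≤ Subgroup.centralizer ({c} : Set G)) (hXle hx))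
  have hUV : ∀ u ∈ U, ∀ v ∈ V, u * v = v * u := by
    intro u hu v hv
    have hu' : ∀ u ∈ U, (∀ y ∈ Cfsg.conjBy A b⁻¹, u * y = y * u) ∧ ∀ c ∈ C, u * c = c * u := by
      intro u hu
      refine ⟨fun y hy => ?_, fun c hc => ?_⟩
      · exact Subgroup.mem_centralizer_singleton_iff.mp ((sup_le
          (fun a ha => Subgroup.mem_centralizer_singleton_iff.mpr (hAY a ha y hy))
          (fun x hx => Subgroup.mem_centralizer_singleton_iff.mpr (conj_pull hca b⁻¹ x hx y hy)) :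
            U ≤ Subgroup.centralizer ({y} : Set G)) hu)
      · exact Subgroup.mem_centralizer_singleton_iff.mp ((sup_le
          (fun a ha => Subgroup.mem_centralizer_singleton_iff.mpr (hac a ha c hc))
          (fun x hx => Subgroup.mem_centralizer_singleton_iff.mpr (hXC x hx c hc)) :
            U ≤ Subgroup.centralizer ({c} : Set G)) hu)
    exact (Subgroup.mem_centralizer_singleton_iff.mp ((sup_le
      (fun y hy => Subgroup.mem_centralizer_singleton_iff.mpr ((hu' u hu).1 y hy).symm)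
      (fun c hc => Subgroup.mem_centralizer_singleton_iff.mpr ((hu' u hu).2 c hc).symm) :
        V ≤ Subgroup.centralizer ({u} : Set G)) hv)).symm
  have hUV' : ⁅U, V⁆ = ⊥ := CfsgLib.RootSub.comm_eq_bot_of_commute hUV
  set M := U ⊔ V with hMdef
  have hAM : A ≤ M := le_sup_left.trans le_sup_left
  have hCM : C ≤ M := le_sup_right.trans le_sup_right
  have hXM : Cfsg.conjBy C b⁻¹ ≤ M := le_sup_right.trans le_sup_left
  have hYM : Cfsg.conjBy A b⁻¹ ≤ M := le_sup_left.trans le_sup_right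
  have hFM : F ≤ M := hFle.trans (sup_le hAM hYM)
  have hEM : E ≤ M := hEle.trans (sup_le hCM hXM)
  have hMeq : M = A ⊔ C ⊔ F ⊔ E := by
    refine le_antisymm (sup_le (sup_le ?_ ?_) (sup_le ?_ ?_)) (sup_le (sup_le (sup_le hAM hCM) hFM) hEM)
    · exact le_sup_left.trans (le_sup_left.trans le_sup_left)
    · exact hXle.trans (sup_le (le_sup_right.trans (le_sup_left.trans le_sup_left)) le_sup_right)
    · exact hYle.trans (sup_le (le_sup_left.trans (le_sup_left.trans le_sup_left)) (le_sup_right.trans le_sup_left))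
    · exact le_sup_right.trans (le_sup_left.trans le_sup_left)
  set D := ⁅A, E⁆ with hDdef
  set D' := ⁅C, F⁆ with hD'def
  have hDM : ∀ d ∈ D, ∀ x ∈ M, d * x = x * d := fun d hd x hx => (Subgroup.mem_centralizer_singleton_iff.mp ((sup_le
    (fun y hy => Subgroup.mem_centralizer_singleton_iff.mpr (hU2 d hd y hy).symm)
    (fun y hy => Subgroup.mem_centralizer_singleton_iff.mpr (hUV d (hU3 hd) y hy).symm) :
      M ≤ Subgroup.centralizer ({d} : Set G)) hx)).symm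
  have hD'M : ∀ d ∈ D', ∀ x ∈ M, d * x = x * d := fun d hd x hx => (Subgroup.mem_centralizer_singleton_iff.mp ((sup_le
    (fun y hy => Subgroup.mem_centralizer_singleton_iff.mpr (hUV y hy d (hV3 hd)))
    (fun y hy => Subgroup.mem_centralizer_singleton_iff.mpr (hV2 d hd y hy).symm) :
      M ≤ Subgroup.centralizer ({d} : Set G)) hx)).symm
  set Z := D ⊔ D' with hZdef
  have hZM : ∀ d ∈ Z, ∀ x ∈ M, d * x = x * d := fun d hd x hx => Subgroup.mem_centralizer_singleton_iff.mp ((sup_le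
    (fun y hy => Subgroup.mem_centralizer_singleton_iff.mpr (hDM y hy x hx))
    (fun y hy => Subgroup.mem_centralizer_singleton_iff.mpr (hD'M y hy x hx)) :
      Z ≤ Subgroup.centralizer ({x} : Set G)) hd)
  have hZle : Z ≤ M := sup_le (hU3.trans le_sup_left) (hV3.trans le_sup_right)
  have hMM : ⁅M, M⁆ ≤ Z := by
    have hs : M = Subgroup.closure ((U : Set G) ∪ (V : Set G)) := Subgroup.sup_eq_closure _ _
    have hn : ((U : Set G) ∪ (V : Set G)) ⊆ Subgroup.normalizer (Z : Set G) := fun x hx =>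
      mem_normalizer_of_central fun d hd => (hZM d hd x (by rw [hs]; exact Subgroup.subset_closure hx)).symm
    rw [hs]
    refine comm_le hn hn ?_
    rintro x (hx | hx) y (hy | hy)
    · exact Subgroup.mem_sup_left (hU1 (Subgroup.commutator_mem_commutator hx hy))
    · rw [commutatorElement_eq_one_iff_mul_comm.mpr (hUV x hx y hy)]; exact one_mem _
    · rw [commutatorElement_eq_one_iff_mul_comm.mpr (hUV y hy x hx).symm]; exact one_mem _
    · exact Subgroup.mem_sup_right (hV1 (Subgroup.commutator_mem_commutator hx hy))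
  set K := ⁅F, E⁆ with hKdef
  have hKZ : K ≤ Z := (Subgroup.commutator_mono hFM hEM).trans hMM
  have hFB : ∀ f ∈ F, ∀ y ∈ B, f * y = y * f := fun f hf y hy => h1.2.1 f hf y (Subgroup.mem_sup_right hy)
  have hEB : ∀ e ∈ E, ∀ y ∈ B, e * y = y * e := fun e he y hy => h2.2.1 e he y (Subgroup.mem_sup_left hy)
  set R := A ⊔ B ⊔ C with hRdef
  set gR : Set G := (A : Set G) ∪ (B : Set G) ∪ (C : Set G) with hgR
  have hRs : R = Subgroup.closure gR := by
    rw [hgR, Subgroup.closure_union, Subgroup.closure_union, Subgroup.closure_eq, Subgroup.closure_eq, Subgroup.closure_eq]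
  have hKB : ∀ k ∈ K, ∀ y ∈ B, k * y = y * k := by
    intro k hk y hy
    refine Subgroup.mem_centralizer_singleton_iff.mp ((?_ : K ≤ Subgroup.centralizer ({y} : Set G)) hk)
    refine (Subgroup.closure_le _).mpr ?_
    rintro _ ⟨f, hf, e, he, rfl⟩
    rw [SetLike.mem_coe, Subgroup.mem_centralizer_singleton_iff]
    have c1 : Commute f y := hFB f hf y hy
    have c2 : Commute e y := hEB e he y hy
    simp only [commutatorElement_def]
    exact (((c1.mul_left c2).mul_left c1.inv_left).mul_left c2.inv_left).eq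
  have hKR : ∀ k ∈ K, ∀ y ∈ gR, k * y = y * k := by
    rintro k hk y ((hy | hy) | hy)
    · exact hZM k (hKZ hk) y (hAM hy)
    · exact hKB k hk y hy
    · exact hZM k (hKZ hk) y (hCM hy)
  have hKn : gR ⊆ Subgroup.normalizer (K : Set G) := fun y hy => mem_normalizer_of_central fun k hk => (hKR k hk y hy).symm
  have hn0 : ∀ x : G, x ∈ Subgroup.normalizer ((⊥ : Subgroup G) : Set G) := fun x => by
    rw [Subgroup.normalizer_eq_top]; exact Subgroup.mem_top x
  have hR4 : ⁅K, R⁆ ≤ ⊥ := by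
    rw [← Subgroup.closure_eq K, hRs]
    exact comm_le (fun x _ => hn0 x) (fun x _ => hn0 x) fun x hx y hy => by
      rw [commutatorElement_eq_one_iff_mul_comm.mpr (hKR x hx y hy)]; exact one_mem _
  have hEn : (E : Set G) ⊆ Subgroup.normalizer (K : Set G) := fun e he =>
    mem_normalizer_of_central fun k hk => (hZM k (hKZ hk) e (hEM he)).symm
  have hR3 : ⁅Z, R⁆ ≤ K := by
    have hs : Z = Subgroup.closure ({d | ∃ a ∈ A, ∃ e ∈ E, ⁅a, e⁆ = d} ∪ {d | ∃ c ∈ C, ∃ f ∈ F, ⁅c, f⁆ = d}) := by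
      rw [Subgroup.closure_union]; rfl
    rw [hs, hRs]
    refine comm_le (fun x hx => ?_) hKn ?_
    · exact mem_normalizer_of_central fun k hk => (hZM k (hKZ hk) x (hZle (by rw [hs]; exact Subgroup.subset_closure hx))).symm
    rintro x hx y ((hy | hy) | hy)
    · rw [commutatorElement_eq_one_iff_mul_comm.mpr (hZM x (by rw [hs]; exact Subgroup.subset_closure hx) y (hAM hy))]
      exact one_mem _
    · rcases hx with ⟨a, ha, e, he, rfl⟩ | ⟨c, hc, f, hf, rfl⟩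
      · set f' := ⁅y, a⁆ with hf'
        have hf'F : f' ∈ F := hFe ▸ Subgroup.commutator_mem_commutator hy ha
        have e1 : y * ⁅a, e⁆ * y⁻¹ = ⁅a, e⁆ * ⁅f', e⁆ := by
          have c1 : Commute f' a := h1.2.1 f' hf'F a (Subgroup.mem_sup_left ha)
          have c2 : Commute f' ⁅a, e⁆ := (hDM _ (Subgroup.commutator_mem_commutator ha he) f' (hFM hf'F)).symm
          calc y * ⁅a, e⁆ * y⁻¹ = ⁅y * a * y⁻¹, y * e * y⁻¹⁆ := by simp only [commutatorElement_def]; group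
            _ = ⁅f' * a, e⁆ := by
              rw [← hEB e he y hy, mul_inv_cancel_right, show y * a * y⁻¹ = f' * a by rw [hf', commutatorElement_def]; group]
            _ = f' * ⁅a, e⁆ * f'⁻¹ * ⁅f', e⁆ := by simp only [commutatorElement_def]; group
            _ = ⁅a, e⁆ * ⁅f', e⁆ := by rw [c2.eq, mul_inv_cancel_right]
        refine comm_mem_symm ?_
        rw [show ⁅y, ⁅a, e⁆⁆ = (y * ⁅a, e⁆ * y⁻¹) * ⁅a, e⁆⁻¹ from commutatorElement_def _ _, e1]
        have hk : ⁅f', e⁆ ∈ K := Subgroup.commutator_mem_commutator hf'F he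
        rw [← hZM _ (hKZ hk) ⁅a, e⁆ (hZle (Subgroup.mem_sup_left (Subgroup.commutator_mem_commutator ha he))),
          mul_inv_cancel_right]
        exact hk
      · set e' := ⁅y, c⁆ with he'
        have he'E : e' ∈ E := Subgroup.commutator_mem_commutator hy hc
        have e1 : y * ⁅c, f⁆ * y⁻¹ = ⁅c, f⁆ * ⁅e', f⁆ := by
          have c2 : Commute e' ⁅c, f⁆ := (hD'M _ (Subgroup.commutator_mem_commutator hc hf) e' (hEM he'E)).symm
          calc y * ⁅c, f⁆ * y⁻¹ = ⁅y * c * y⁻¹, y * f * y⁻¹⁆ := by simp only [commutatorElement_def]; group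
            _ = ⁅e' * c, f⁆ := by
              rw [← hFB f hf y hy, mul_inv_cancel_right, show y * c * y⁻¹ = e' * c by rw [he', commutatorElement_def]; group]
            _ = e' * ⁅c, f⁆ * e'⁻¹ * ⁅e', f⁆ := by simp only [commutatorElement_def]; group
            _ = ⁅c, f⁆ * ⁅e', f⁆ := by rw [c2.eq, mul_inv_cancel_right]
        refine comm_mem_symm ?_
        rw [show ⁅y, ⁅c, f⁆⁆ = (y * ⁅c, f⁆ * y⁻¹) * ⁅c, f⁆⁻¹ from commutatorElement_def _ _, e1]
        have hk : ⁅e', f⁆ ∈ K := comm_mem_symm (Subgroup.commutator_mem_commutator hf he'E)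
        rw [← hZM _ (hKZ hk) ⁅c, f⁆ (hZle (Subgroup.mem_sup_right (Subgroup.commutator_mem_commutator hc hf))),
          mul_inv_cancel_right]
        exact hk
    · rw [commutatorElement_eq_one_iff_mul_comm.mpr (hZM x (by rw [hs]; exact Subgroup.subset_closure hx) y (hCM hy))]
      exact one_mem _
  have hRle : ∀ {Y : Subgroup G} {X : Subgroup G}, ⁅Y, R⁆ ≤ X → X ≤ Y → gR ⊆ Subgroup.normalizer (Y : Set G) := by
    intro Y X h hXY y hy
    exact Subgroup.le_normalizer_iff_commutator_le_left.mpr (h.trans hXY) (by rw [hRs]; exact Subgroup.subset_closure hy)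
  set L2 := Z ⊔ F ⊔ E with hL2
  have hL2M : L2 ≤ M := sup_le (sup_le hZle hFM) hEM
  have hR2 : ⁅L2, R⁆ ≤ Z := by
    have hs : L2 = Subgroup.closure ((Z : Set G) ∪ (F : Set G) ∪ (E : Set G)) := by
      rw [Subgroup.closure_union, Subgroup.closure_union, Subgroup.closure_eq, Subgroup.closure_eq, Subgroup.closure_eq]
    have hn := hRle hR3 hKZ
    rw [hs, hRs]
    refine comm_le (fun x hx => mem_normalizer_of_central fun d hd => (hZM d hd x
      (hL2M (by rw [hs]; exact Subgroup.subset_closure hx))).symm) hn ?_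
    rintro x hx y hy
    have hxM : x ∈ M := hL2M (by rw [hs]; exact Subgroup.subset_closure hx)
    rcases hy with (hy | hy) | hy
    · exact hMM (Subgroup.commutator_mem_commutator hxM (hAM hy))
    · rcases hx with (hx | hx) | hx
      · exact hKZ (hR3 (Subgroup.commutator_mem_commutator hx (Subgroup.mem_sup_left (Subgroup.mem_sup_right hy))))
      · rw [commutatorElement_eq_one_iff_mul_comm.mpr (hFB x hx y hy)]; exact one_mem _
      · rw [commutatorElement_eq_one_iff_mul_comm.mpr (hEB x hx y hy)]; exact one_mem _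
    · exact hMM (Subgroup.commutator_mem_commutator hxM (hCM hy))
  have hMs : M = Subgroup.closure ((A : Set G) ∪ (C : Set G) ∪ (F : Set G) ∪ (E : Set G)) := by
    rw [hMeq, Subgroup.closure_union, Subgroup.closure_union, Subgroup.closure_union, Subgroup.closure_eq,
      Subgroup.closure_eq, Subgroup.closure_eq, Subgroup.closure_eq]
  have hMn : ∀ {Y : Subgroup G}, Z ≤ Y → Y ≤ M → ∀ x ∈ M, x ∈ Subgroup.normalizer (Y : Set G) := by
    intro Y hZY hYM x hx
    exact Subgroup.le_normalizer_iff_commutator_le_left.mpr (((Subgroup.commutator_mono hYM le_rfl).trans hMM).trans hZY) hx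
  have hZL2 : Z ≤ L2 := le_sup_left.trans le_sup_left
  have hR1 : ⁅M, R⁆ ≤ L2 := by
    have hn := hRle hR2 hZL2
    rw [hMs, hRs]
    refine comm_le (fun x hx => hMn hZL2 hL2M x (by rw [hMs]; exact Subgroup.subset_closure hx)) hn ?_
    rintro x hx y hy
    have hxM : x ∈ M := by rw [hMs]; exact Subgroup.subset_closure hx
    rcases hy with (hy | hy) | hy
    · exact hZL2 (hMM (Subgroup.commutator_mem_commutator hxM (hAM hy)))
    · rcases hx with ((hx | hx) | hx) | hx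
      · exact Subgroup.mem_sup_left (Subgroup.mem_sup_right (Subgroup.commutator_mem_commutator hx hy))
      · exact comm_mem_symm (Subgroup.mem_sup_right (Subgroup.commutator_mem_commutator hy hx))
      · rw [commutatorElement_eq_one_iff_mul_comm.mpr (hFB x hx y hy)]; exact one_mem _
      · rw [commutatorElement_eq_one_iff_mul_comm.mpr (hEB x hx y hy)]; exact one_mem _
    · exact hZL2 (hMM (Subgroup.commutator_mem_commutator hxM (hCM hy)))
  have hMn' := hRle hR1 hL2M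
  have hR0 : ⁅R, R⁆ ≤ M := by
    rw [hRs]
    refine comm_le hMn' hMn' ?_
    rintro x hx y hy
    rcases hx with (hx | hx) | hx <;> rcases hy with (hy | hy) | hy
    · exact hZle (hMM (Subgroup.commutator_mem_commutator (hAM hx) (hAM hy)))
    · exact hFM (Subgroup.commutator_mem_commutator hx hy)
    · exact hZle (hMM (Subgroup.commutator_mem_commutator (hAM hx) (hCM hy)))
    · exact comm_mem_symm (hFM (Subgroup.commutator_mem_commutator hy hx))
    · rw [commutatorElement_eq_one_iff_mul_comm.mpr (congrArg Subtype.val ((hS.commutative B hB).is_comm.comm ⟨x, hx⟩ ⟨y, hy⟩))]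
      exact one_mem _
    · exact hEM (Subgroup.commutator_mem_commutator hx hy)
    · exact hZle (hMM (Subgroup.commutator_mem_commutator (hCM hx) (hAM hy)))
    · exact comm_mem_symm (hEM (Subgroup.commutator_mem_commutator hy hx))
    · exact hZle (hMM (Subgroup.commutator_mem_commutator (hCM hx) (hCM hy)))
  have hnil : Group.IsNilpotent R := by
    rw [Subgroup.isNilpotent_iff_lowerCentralSeries]
    refine ⟨5, eq_bot_iff.mpr ?_⟩
    simp only [Subgroup.lowerCentralSeries_succ, Subgroup.lowerCentralSeries_zero]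
    refine (Subgroup.commutator_mono ?_ le_rfl).trans hR4
    refine (Subgroup.commutator_mono ?_ le_rfl).trans hR3
    refine (Subgroup.commutator_mono ?_ le_rfl).trans hR2
    exact (Subgroup.commutator_mono hR0 le_rfl).trans hR1
  have hiff : D = ⊥ ↔ D' = ⊥ := by
    have hCA : ⁅C, A⁆ = ⊥ := CfsgLib.RootSub.comm_eq_bot_of_commute hca
    have e1 : D = ⁅⁅B, C⁆, A⁆ := Subgroup.commutator_comm _ _
    have e2 : D' = ⁅⁅A, B⁆, C⁆ := Subgroup.commutator_comm _ _
    rw [e1, e2]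
    refine ⟨fun h => Subgroup.commutator_commutator_eq_bot_of_rotate h (by rw [hCA, Subgroup.commutator_bot_left]),
      fun h => Subgroup.commutator_commutator_eq_bot_of_rotate (by rw [hCA, Subgroup.commutator_bot_left]) h⟩
  refine ⟨?_, hUV', fun r hr => ?_, ?_, hnil⟩
  · by_cases hD : D = ⊥
    · exact Or.inl ⟨hU4.mpr hD, hV4.mpr (hiff.mp hD)⟩
    · refine Or.inr ⟨⟨fun h => hD (hU4.mp h), ?_⟩, fun h => hD (hiff.mpr (hV4.mp h)), ?_⟩
      · exact eq_bot_iff.mpr ((Subgroup.commutator_mono hU1 le_rfl).trans (le_of_eq (CfsgLib.RootSub.comm_eq_bot_of_commute hU2)))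
      · exact eq_bot_iff.mpr ((Subgroup.commutator_mono hV1 le_rfl).trans (le_of_eq (CfsgLib.RootSub.comm_eq_bot_of_commute hV2)))
  · exact CfsgLib.RootSub.conjBy_eq_self_iff.mpr (Subgroup.le_normalizer_iff_commutator_le_left.mpr (hR1.trans hL2M) hr)
  · refine le_antisymm (sup_le ?_ (le_sup_right.trans le_sup_left)) (sup_le (sup_le (hAM.trans le_sup_left) le_sup_right) (hCM.trans le_sup_left))
    rw [hMeq]
    refine sup_le (sup_le (sup_le (le_sup_left.trans le_sup_left) le_sup_right) ?_) ?_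
    · exact Subgroup.commutator_le.mpr fun x hx y hy => by
        rw [commutatorElement_def]
        exact mul_mem (mul_mem (mul_mem (Subgroup.mem_sup_left (Subgroup.mem_sup_left hx)) (Subgroup.mem_sup_left (Subgroup.mem_sup_right hy)))
          (inv_mem (Subgroup.mem_sup_left (Subgroup.mem_sup_left hx)))) (inv_mem (Subgroup.mem_sup_left (Subgroup.mem_sup_right hy)))
    · exact Subgroup.commutator_le.mpr fun x hx y hy => by
        rw [commutatorElement_def]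
        exact mul_mem (mul_mem (mul_mem (Subgroup.mem_sup_left (Subgroup.mem_sup_right hx)) (Subgroup.mem_sup_right hy))
          (inv_mem (Subgroup.mem_sup_left (Subgroup.mem_sup_right hx)))) (inv_mem (Subgroup.mem_sup_right hy))

end Cfsg.Agent.S5030
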