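import Cfsg.Statements.S5032
import Mathlib
import Cfsg.Agent.Lib.RootSub.CommCase
import Cfsg.Agent.S5029
import Cfsg.Agent.S5031
-- import your own Cfsg.Agent.* helpers here

set_option autoImplicit false
open Cfsg

namespace Cfsg.Agent.S5032

/-- Let S be a set of abstract root subgroups of G with more than one member. Then the graph of rank one pairs on S is connected if and only if S is a single conjugacy class of G and some member of S has a rank one partner in S. -/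
theorem result {G : Type*} [Group G] {S : Set (Subgroup G)} (hS : Cfsg.IsRootSubgroupSet S) (h2 : ∃ A ∈ S, ∃ B ∈ S, A ≠ B) :
    Cfsg.IsConnectedFamily (Cfsg.FAdj S) S ↔
      (Cfsg.IsConjClassOfSubgroups S ∧ ∃ A ∈ S, ¬ Cfsg.IsIsolatedIn (Cfsg.FAdj S) S A) := by
  have hedge : ∀ {A B : Subgroup G}, Relation.ReflTransGen (Cfsg.FAdj S) A B → A ≠ B → ∃ C, Cfsg.FAdj S A C := by
    intro A B h hne
    rcases h.cases_head with e | ⟨C, hC, -⟩
    · exact absurd e hne
    · exact ⟨C, hC⟩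
  have hsymm : ∀ {X Y : Subgroup G}, Relation.ReflTransGen (Cfsg.FAdj S) X Y → Relation.ReflTransGen (Cfsg.FAdj S) Y X := fun {X Y} h => by
    haveI : Std.Symm (Cfsg.FAdj S) := ⟨fun X Y h => ⟨h.2.1, h.1, Cfsg.RankOnePair_symm h.2.2⟩⟩
    exact Std.Symm.symm (r := Relation.ReflTransGen (Cfsg.FAdj S)) X Y h
  obtain ⟨A₀, hA₀, B₀, hB₀, hne₀⟩ := h2
  constructor
  · intro hc
    refine ⟨⟨⟨A₀, hA₀⟩, fun A hA B hB => ?_⟩, A₀, hA₀, fun hi => ?_⟩
    · have hr := hc A hA B hB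
      clear hB
      induction hr with
      | refl => exact ⟨1, CfsgLib.RootSub.conjBy_one.symm⟩
      | tail _ hBC ih =>
        obtain ⟨g, rfl⟩ := ih
        obtain ⟨x, -, e⟩ := CfsgLib.RootSub.right_mem_unipotent hBC.2.2
        exact ⟨x * g, by rw [e, CfsgLib.RootSub.conjBy_conjBy]⟩
    · obtain ⟨C, hC⟩ := hedge (hc A₀ hA₀ B₀ hB₀) hne₀
      exact (hi.2 C).1 hC
  rintro ⟨⟨-, hconj⟩, A₁, hA₁, hA₁ni⟩
  have hni : ∀ A ∈ S, ¬ Cfsg.IsIsolatedIn (Cfsg.FAdj S) S A := fun A hA => by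
    obtain ⟨g, rfl⟩ := hconj A₁ hA₁ A hA
    exact CfsgLib.RootSub.not_isolated_conj hS hA₁ni hA₁ g
  have hmap : ∀ (g : G) {X Y : Subgroup G}, Relation.ReflTransGen (Cfsg.FAdj S) X Y →
      Relation.ReflTransGen (Cfsg.FAdj S) (Cfsg.conjBy X g) (Cfsg.conjBy Y g) := fun g X Y h => by
    induction h with
    | refl => exact Relation.ReflTransGen.refl
    | tail _ e ih => exact ih.tail ⟨hS.conj_mem _ e.1 g, hS.conj_mem _ e.2.1 g, CfsgLib.RootSub.isRankOnePair_conjBy e.2.2 g⟩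
  have hstep : ∀ A ∈ S, ∀ C ∈ S, ∀ c ∈ C, Relation.ReflTransGen (Cfsg.FAdj S) A (Cfsg.conjBy A c) := by
    intro A hA C hC c hc
    rcases hS.pair A hA C hC with h | h | h
    · rw [CfsgLib.RootSub.conjBy_eq_self_iff.mpr (CfsgLib.RootSub.mem_normalizer_of_commute_all fun a ha =>
        (CfsgLib.RootSub.commute_of_comm_eq_bot h ha hc).symm)]
    · have h1 : Relation.ReflTransGen (Cfsg.FAdj S) A C := Relation.ReflTransGen.single ⟨hA, hC, h⟩
      have h2 := hmap c h1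
      rw [CfsgLib.RootSub.conjBy_self hc] at h2
      exact h1.trans (hsymm h2)
    by_cases hc1 : c = 1
    · rw [hc1, CfsgLib.RootSub.conjBy_one]
    obtain ⟨hset, hpart, -, -⟩ := Cfsg.Agent.S5029.result hS (hni A hA) hA hC h.1
    by_contra hno
    have hne : Cfsg.conjBy A c ≠ A := fun e => hno (by rw [e])
    have hsup : A ⊔ Cfsg.conjBy A c = A ⊔ ⁅A, C⁆ := by
      refine le_antisymm (sup_le le_sup_left (CfsgLib.RootSub.conjBy_le_sup A C hc)) (sup_le le_sup_left ?_)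
      rw [← h.2.2.2 c hc hc1, Subgroup.closure_le]
      rintro _ ⟨a, ha, rfl⟩
      show a * c * a⁻¹ * c⁻¹ ∈ A ⊔ Cfsg.conjBy A c
      rw [show a * c * a⁻¹ * c⁻¹ = a * (c * a⁻¹ * c⁻¹) by group]
      exact mul_mem (Subgroup.mem_sup_left ha) (Subgroup.mem_sup_right (CfsgLib.RootSub.conjBy_mem (inv_mem ha)))
    have hline : Cfsg.conjBy A c ∈ Cfsg.linePartners S A := by
      refine ⟨⟨hS.conj_mem A hA c, hne, CfsgLib.RootSub.comm_eq_bot_of_commute fun x hx y hy => ?_⟩, hsup ▸ hpart⟩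
      obtain ⟨a, ha, d, hd, rfl⟩ := CfsgLib.RootSub.exists_mul_of_mem_sup h (CfsgLib.RootSub.conjBy_le_sup A C hc hy)
      have c1 : Commute x a := congrArg Subtype.val ((hS.commutative A hA).is_comm.comm ⟨x, hx⟩ ⟨a, ha⟩)
      have c2 : Commute x d := (h.2.1 d hd x (Subgroup.mem_sup_left hx)).symm
      exact (c1.mul_right c2).eq
    obtain ⟨P, hP, hAP⟩ := CfsgLib.RootSub.exists_partner_of_not_isolated (hni A hA) hA
    refine Cfsg.Agent.S5031.result hS hA (hS.conj_mem A hA c) (fun e => hno ?_)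
      ⟨P, ⟨hP, Relation.ReflTransGen.single ⟨hA, hP, hAP⟩⟩, hAP.ne.symm⟩
      ⟨Cfsg.conjBy P c, ⟨hS.conj_mem P hP c, hmap c (Relation.ReflTransGen.single ⟨hA, hP, hAP⟩)⟩,
        fun e => hAP.ne (CfsgLib.RootSub.conjBy_injective c e.symm)⟩ hline
    exact ((Set.ext_iff.mp e (Cfsg.conjBy A c)).mpr ⟨hS.conj_mem A hA c, Relation.ReflTransGen.refl⟩).2
  intro A hA B hB
  obtain ⟨g, rfl⟩ := hconj A hA B hB
  clear hB
  have key : ∀ X ∈ S, Relation.ReflTransGen (Cfsg.FAdj S) X (Cfsg.conjBy X g) := by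
    have hg : g ∈ ⨆ C ∈ S, C := hS.generates ▸ Subgroup.mem_top g
    rw [iSup_subtype'] at hg
    induction hg using Subgroup.iSup_induction' with
    | hp C x hx => exact fun X hX => hstep X hX C.1 C.2 x hx
    | h1 => exact fun X _ => by rw [CfsgLib.RootSub.conjBy_one]
    | hmul x y _ _ h1 h2 =>
      exact fun X hX => by rw [← CfsgLib.RootSub.conjBy_conjBy]; exact (h2 X hX).trans (h1 _ (hS.conj_mem X hX y))
  exact key A hA

end Cfsg.Agent.S5032
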