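import Cfsg.Statements.S5034
import Mathlib
import Cfsg.Agent.Lib.RootSub.SubFlip
import Cfsg.Agent.S5038
-- import your own Cfsg.Agent.* helpers here

set_option autoImplicit false
open Cfsg

namespace Cfsg.Agent.S5034

open Cfsg CfsgLib.RootSub
open scoped commutatorElement

universe u
variable {G : Type u} [Group G] {S : Set (Subgroup G)}

theorem main (hS : Cfsg.IsRootSubgroupClass S) (hnd : Cfsg.IsNondegenerateRootSet S) {A B : Subgroup G}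
    (hA : A ∈ S) (hB : B ∈ Cfsg.rankOnePartners S A) :
    (∃ C ∈ Cfsg.linePartners S A, C ∈ Cfsg.commutatorPartners S B) ∧ Cfsg.IsSpecialRankOnePair A B := by
  obtain ⟨hS, -, hconj⟩ := hS
  obtain ⟨-, ⟨P₀, hP₀, Q₀, hQ₀, hr⟩, ⟨P, hP, Q, hQ, hcase⟩⟩ := hnd
  obtain ⟨hBS, hAB⟩ := hB
  have hF : ∀ X ∈ S, ¬ Cfsg.IsIsolatedIn (Cfsg.FAdj S) S X := by
    intro X hX
    obtain ⟨g, rfl⟩ := hconj P₀ hP₀ X hX
    exact not_isolated_conj hS (not_isolated hP₀ hQ₀ hr) hP₀ g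
  -- a line through `A`
  obtain ⟨C₀, hC₀⟩ : ∃ C₀, C₀ ∈ Cfsg.linePartners S A := by
    obtain ⟨g, hg⟩ := hconj _ hcase.1 A hA
    have hPg := hS.conj_mem P hP g
    have e : ⁅Cfsg.conjBy P g, Cfsg.conjBy Q g⁆ = A := by
      rw [hg]; exact (Subgroup.map_commutator _ _ _).symm
    obtain ⟨-, -, h3, -⟩ := Cfsg.Agent.S5029.result hS (hF _ hPg) hPg (hS.conj_mem Q hQ g) (e.symm ▸ hA)
    exact ⟨_, e ▸ h3⟩
  obtain ⟨⟨hC₀S, hC₀ne, hC₀c⟩, hpart⟩ := hC₀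
  have hLcomm : ∀ x ∈ A, ∀ y ∈ A ⊔ C₀, x * y = y * x := by
    intro x hx y hy
    have hle : A ⊔ C₀ ≤ Subgroup.centralizer ({x} : Set G) := sup_le
      (fun z hz => Subgroup.mem_centralizer_singleton_iff.mpr
        (congrArg Subtype.val ((hS.commutative A hA).is_comm.comm ⟨z, hz⟩ ⟨x, hx⟩)))
      (fun z hz => Subgroup.mem_centralizer_singleton_iff.mpr (commute_of_comm_eq_bot hC₀c hx hz).symm)
    exact (Subgroup.mem_centralizer_singleton_iff.mp (hle hy)).symm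
  have hAm : A ∈ Cfsg.membersIn S (A ⊔ C₀) := ⟨hA, le_sup_left⟩
  have hC₀m : C₀ ∈ Cfsg.membersIn S (A ⊔ C₀) := ⟨hC₀S, le_sup_right⟩
  -- a member of the line not opposite to `B`
  obtain ⟨R, hRm, hRnr⟩ : ∃ R ∈ Cfsg.membersIn S (A ⊔ C₀), ¬ Cfsg.IsRankOnePair B R := by
    by_contra hno
    push Not at hno
    exact SubFlip.line_lemma hS (Cfsg.RankOnePair_symm hAB) (hno C₀ hC₀m)
      (fun x hx y hy => commute_of_comm_eq_bot hC₀c hx hy)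
      (hpart.2.2 A hAm C₀ hC₀m hC₀ne.symm) hpart hno
  obtain ⟨hRS, hRle⟩ := hRm
  have hRA : R ≠ A := fun e => hRnr (e ▸ Cfsg.RankOnePair_symm hAB)
  have hAR : ⁅A, R⁆ = ⊥ := comm_eq_bot_of_commute fun x hx y hy => hLcomm x hx y (hRle hy)
  have hroot : ∀ a ∈ A, a ≠ 1 → ∀ r ∈ R, r ≠ 1 → a * r ≠ 1 ∧ ∃ T ∈ S, a * r ∈ T := by
    intro a ha ha1 r hr _
    have h1 : a * r ≠ 1 := fun e => by
      refine hRA (eq_of_mem_mem hS (hF A hA) hA hRS ha ?_ ha1).symm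
      rw [eq_inv_of_mul_eq_one_left e]; exact inv_mem hr
    obtain ⟨T, hT, hmem⟩ := hpart.2.1 (a * r) (mul_mem (Subgroup.mem_sup_left ha) (hRle hr)) h1
    exact ⟨h1, T, hT.1, hmem⟩
  obtain ⟨⟨a₀, ha₀⟩, ha₀'⟩ := Subgroup.ne_bot_iff_exists_ne_one.mp (hS.ne_bot A hA)
  have ha₀1 : a₀ ≠ 1 := fun e => ha₀' (Subtype.ext e)
  obtain ⟨⟨r₀, hr₀⟩, hr₀'⟩ := Subgroup.ne_bot_iff_exists_ne_one.mp (hS.ne_bot R hRS)
  have hr₀1 : r₀ ≠ 1 := fun e => hr₀' (Subtype.ext e)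
  have hBR : Cfsg.RootCommutatorCase S B R := by
    rcases hS.pair B hBS R hRS with h | h | h
    · exfalso
      obtain ⟨h1, T, hT, hmem⟩ := hroot a₀ ha₀ ha₀1 r₀ hr₀ hr₀1
      have e := hLcomm a₀ ha₀ r₀ (hRle hr₀)
      exact SubFlip.translate hS hA hBS hAB hT (fun x hx => (hLcomm x hx r₀ (hRle hr₀)).symm)
        (fun x hx => (commute_of_comm_eq_bot h hx hr₀).symm) hr₀1 ha₀ ha₀1 (e ▸ hmem) (e ▸ h1)
    · exact absurd h hRnr
    · exact h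
  have hRB := rcc_symm hBR
  have hflip := SubFlip.flip_eq hS hA hRS hBS hAB (fun x hx y hy => commute_of_comm_eq_bot hAR hx hy)
    (hF R hRS) hRB hroot
  refine ⟨⟨R, ⟨⟨hRS, hRA, hAR⟩, ?_⟩, hRS, hBR.1⟩, hAB, ?_⟩
  · -- `A` and `R` generate the same line
    obtain ⟨x, hx, hxA, hxR⟩ := Cfsg.Agent.S5038.result hS hF hA ⟨⟨hC₀S, hC₀ne, hC₀c⟩, hpart⟩
      A hAm C₀ hC₀m A hAm R ⟨hRS, hRle⟩ hC₀ne.symm hRA.symm
    have hxN : x ∈ Subgroup.normalizer ((A ⊔ C₀ : Subgroup G) : Set G) :=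
      (iSup₂_le (a := Subgroup.normalizer ((A ⊔ C₀ : Subgroup G) : Set G)) (fun E hE => hE.2) :
        (⨆ E ∈ Cfsg.normalizingMembers S (A ⊔ C₀), E) ≤ _) hx
    have e : A ⊔ R = A ⊔ C₀ := by
      rw [← conjBy_eq_self_iff.mpr hxN]
      show _ = (A ⊔ C₀).map (MulAut.conj x).toMonoidHom
      rw [Subgroup.map_sup]
      conv_lhs => rw [← hxA, ← hxR]
    rw [e]; exact hpart
  -- special
  intro a ha ha1 b hb hb1 hab
  set D := ⁅B, R⁆ with hD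
  obtain ⟨hAD, hcaseAD⟩ := hflip
  have hDc := hBR.2.1
  obtain ⟨c, hc, hc1⟩ : ∃ c ∈ R, c ≠ 1 := ⟨r₀, hr₀, hr₀1⟩
  set δ := b⁻¹ * c * b * c⁻¹ with hδ
  have hδD : δ ∈ D := by
    have h := Subgroup.commutator_mem_commutator (inv_mem hb) hc (H₁ := B) (H₂ := R)
    rwa [commutatorElement_def, inv_inv] at h
  have hδ1 : δ ≠ 1 := by
    intro e
    refine hb1 (rcc_fixed hS (hF R hRS) hRS hRB hc hc1 hb ?_)
    have e' : b⁻¹ * c * b = c := mul_inv_eq_one.mp e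
    calc c * b = b * (b⁻¹ * c * b) := by group
      _ = b * c := by rw [e']
  have hac : Commute a c := hLcomm a ha c (hRle hc)
  have hcδ : Commute c δ := (hDc δ hδD c (Subgroup.mem_sup_right hc)).symm
  have hbδ : Commute b δ := (hDc δ hδD b (Subgroup.mem_sup_left hb)).symm
  -- the image of `δ` under `a`
  have hε : a * δ * a⁻¹ * δ⁻¹ ∈ R := by
    rw [← hAD]
    exact Subgroup.commutator_mem_commutator ha hδD
  have key : a * δ * a⁻¹ = c⁻¹ * δ := by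
    have hfix : ∀ y ∈ B, Commute (a * (b⁻¹ * c * b) * a⁻¹) y := by
      intro y hy
      have h1 : a⁻¹ * y * a⁻¹⁻¹ ∈ Cfsg.conjBy B a⁻¹ := CfsgLib.RootSub.conjBy_mem hy
      rw [← hab] at h1
      obtain ⟨x, hx, ex⟩ := h1
      have ey : y = a * (b⁻¹ * x * b) * a⁻¹ := by
        have : b⁻¹ * x * b = a⁻¹ * y * a⁻¹⁻¹ := by simpa using ex
        rw [this]; group
      rw [ey]
      have hcx : Commute c x := (hLcomm x hx c (hRle hc)).symm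
      show _ = _
      calc a * (b⁻¹ * c * b) * a⁻¹ * (a * (b⁻¹ * x * b) * a⁻¹) = a * (b⁻¹ * (c * x) * b) * a⁻¹ := by group
        _ = a * (b⁻¹ * (x * c) * b) * a⁻¹ := by rw [hcx.eq]
        _ = _ := by group
    have em : a * (b⁻¹ * c * b) * a⁻¹ = (a * δ * a⁻¹ * δ⁻¹ * δ) * c := by
      calc a * (b⁻¹ * c * b) * a⁻¹ = (a * δ * a⁻¹) * (a * c * a⁻¹) := by rw [hδ]; group
        _ = _ := by rw [hac.eq]; group
    set ε := a * δ * a⁻¹ * δ⁻¹ with hεdef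
    have hεδ : Commute ε δ := (hDc δ hδD ε (Subgroup.mem_sup_right hε)).symm
    have hεc : ε * c ∈ R := mul_mem hε hc
    have hone : ε * c = 1 := by
      by_contra h1
      refine hb1 (rcc_fixed hS (hF R hRS) hRS hRB hεc h1 hb ?_)
      have h2 := hfix b hb
      rw [em] at h2
      have : ε * c = ε * δ * c * δ⁻¹ := by
        rw [mul_assoc ε δ c, ← hcδ.eq]; group
      rw [this]
      exact (h2.mul_left hbδ.symm.inv_left).eq
    have : a * δ * a⁻¹ = ε * δ := by rw [hεdef]; group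
    rw [this, eq_inv_of_mul_eq_one_left hone]
  -- both elements act alike on `δ`
  have hyU : a⁻¹ * b⁻¹ * a ∈ Cfsg.conjBy A b⁻¹ := by
    rw [hab]
    simpa using CfsgLib.RootSub.conjBy_mem (g := a⁻¹) (inv_mem hb)
  have hxU : b⁻¹ * a * b ∈ Cfsg.conjBy A b⁻¹ := by
    simpa using CfsgLib.RootSub.conjBy_mem (g := b⁻¹) ha
  obtain ⟨z, hz, ez⟩ := mul_mem (inv_mem hyU) hxU
  have ez' : b⁻¹ * z * b = (a⁻¹ * b⁻¹ * a)⁻¹ * (b⁻¹ * a * b) := by simpa using ez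
  have hbi : b⁻¹ * δ * b = δ := by rw [mul_assoc, ← hbδ.eq, inv_mul_cancel_left]
  have hbo : b * δ * b⁻¹ = δ := by rw [hbδ.eq, mul_inv_cancel_right]
  have ex : (b⁻¹ * a * b) * δ * (b⁻¹ * a * b)⁻¹ = c⁻¹ := by
    calc _ = b⁻¹ * (a * (b * δ * b⁻¹) * a⁻¹) * b := by group
      _ = b⁻¹ * (c⁻¹ * δ) * b := by rw [hbo, key]
      _ = (b⁻¹ * c * b)⁻¹ * (b⁻¹ * δ * b) := by group
      _ = (δ * c)⁻¹ * δ := by rw [hbi, hδ]; group
      _ = c⁻¹ := by group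
  have ey : (a⁻¹ * b⁻¹ * a) * δ * (a⁻¹ * b⁻¹ * a)⁻¹ = c⁻¹ := by
    have e1 : b⁻¹ * c⁻¹ * b = (δ * c)⁻¹ := by rw [hδ]; group
    calc _ = a⁻¹ * (b⁻¹ * (a * δ * a⁻¹) * b) * a := by group
      _ = a⁻¹ * ((b⁻¹ * c⁻¹ * b) * (b⁻¹ * δ * b)) * a := by rw [key]; group
      _ = a⁻¹ * c⁻¹ * a := by rw [e1, hbi]; group
      _ = c⁻¹ := by rw [mul_assoc, ← (hac.inv_right).eq, inv_mul_cancel_left]
  have hzδ : z * δ = δ * z := by
    have e1 : (b⁻¹ * z * b) * δ * (b⁻¹ * z * b)⁻¹ = δ := by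
      rw [ez']
      calc _ = (a⁻¹ * b⁻¹ * a)⁻¹ * ((b⁻¹ * a * b) * δ * (b⁻¹ * a * b)⁻¹) * (a⁻¹ * b⁻¹ * a) := by group
        _ = δ := by rw [ex, ← ey]; group
    calc z * δ = b * ((b⁻¹ * z * b) * (b⁻¹ * δ * b) * (b⁻¹ * z * b)⁻¹) * b⁻¹ * z := by group
      _ = δ * z := by rw [hbi, e1, hbo]
  have hz1 : z = 1 := by
    by_contra hz1
    exact hδ1 (rcc_fixed hS (hF A hA) hA hcaseAD hz hz1 hδD hzδ)
  rw [hz1] at ez'
  have : (a⁻¹ * b⁻¹ * a)⁻¹ * (b⁻¹ * a * b) = 1 := by rw [← ez']; group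
  exact (inv_mul_eq_one.mp this).symm

/-- Let S be a non-degenerate class of abstract root subgroups of G, A ∈ S and B a rank one partner of A. Then some line partner C of A has ⁅B, C⁆ ∈ S, and the rank one pair A, B is special. -/
theorem result {G : Type*} [Group G] {S : Set (Subgroup G)} (hS : Cfsg.IsRootSubgroupClass S) (hnd : Cfsg.IsNondegenerateRootSet S)
    {A B : Subgroup G} (hA : A ∈ S) (hB : B ∈ Cfsg.rankOnePartners S A) :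
    (∃ C ∈ Cfsg.linePartners S A, C ∈ Cfsg.commutatorPartners S B) ∧ Cfsg.IsSpecialRankOnePair A B := by
  exact main hS hnd hA hB

end Cfsg.Agent.S5034
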