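import Cfsg.Statements.S5033
import Mathlib
import Cfsg.Agent.Lib.RootSub.CommCase
import Cfsg.Agent.Lib.RootSub.Special
import Cfsg.Agent.S5032
import Cfsg.Agent.S5034
-- import your own Cfsg.Agent.* helpers here

set_option autoImplicit false
open Cfsg

namespace Cfsg.Agent.S5033

open CfsgLib.RootSub in
/-- A map with commuting images on a special rank one pair kills the first member if it has more than three elements. -/
theorem le_ker {G Q : Type*} [Group G] [Group Q] (φ : G →* Q) {A B : Subgroup G} (h : Cfsg.IsSpecialRankOnePair A B)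
    (hA : IsMulCommutative A) (hcard : 3 < ENat.card A)
    (hcomm : ∀ a ∈ A, ∀ b ∈ B, φ a * φ b = φ b * φ a) : A ≤ φ.ker := by
  have hsw : ∀ w : G, Cfsg.conjBy A w = B → Cfsg.conjBy B w = A → (∀ y ∈ A, φ w * φ y = φ y * φ w) →
      ∀ y ∈ A, y ≠ 1 → ∃ z ∈ A, z ≠ 1 ∧ φ z = (φ y)⁻¹ ∧
        Cfsg.conjBy (Cfsg.conjBy B y) w = Cfsg.conjBy B z := by
    intro w hwA hwB hwc y hy hy1
    have hd : w * y * w⁻¹ ∈ B := hwA ▸ conjBy_mem hy
    have hd1 : w * y * w⁻¹ ≠ 1 := fun e => hy1 (conj_eq_one_iff.mp e)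
    obtain ⟨y', hy', hy'1, e⟩ := h.1.cond_right (w * y * w⁻¹)⁻¹ (inv_mem hd) (inv_ne_one.mpr hd1)
    rw [inv_inv] at e
    have hrel : φ y' = φ (w * y * w⁻¹) := by
      have hc : Commute (φ y') (φ (w * y * w⁻¹)) := hcomm _ hy' _ hd
      have hs := congrArg φ (h.2 y' hy' hy'1 (w * y * w⁻¹)⁻¹ (inv_mem hd) (inv_ne_one.mpr hd1)
        (by rw [inv_inv]; exact e.symm))
      generalize hD : w * y * w⁻¹ = d at hs hc ⊢
      rw [inv_inv, map_mul, map_mul, map_mul, map_mul, map_inv, map_inv] at hs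
      rw [← hc.eq, mul_inv_cancel_right, mul_assoc, ← hc.eq, inv_mul_cancel_left] at hs
      exact hs
    refine ⟨y'⁻¹, inv_mem hy', inv_ne_one.mpr hy'1, ?_, ?_⟩
    · rw [map_inv, hrel, map_mul, map_mul, map_inv, hwc y hy, mul_inv_cancel_right]
    · rw [conjBy_conjBy, show w * y = (w * y * w⁻¹) * w by group, ← conjBy_conjBy, hwB]
      exact e.symm
  have key : ∀ a ∈ A, a ≠ 1 → ∀ y ∈ A, y ≠ 1 → y ≠ a → φ a = φ y * φ y := by
    intro a ha ha1 y hy hy1 hya
    obtain ⟨b, hb, hb1, e⟩ := h.1.cond_left a ha ha1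
    have hs := h.2 a ha ha1 b hb hb1 e
    have hbraid : a * b⁻¹ * a = b⁻¹ * a * b⁻¹ := by
      calc a * b⁻¹ * a = a * (b⁻¹ * a * b) * b⁻¹ := by group
        _ = a * (a⁻¹ * b⁻¹ * a) * b⁻¹ := by rw [hs]
        _ = _ := by group
    set w := a * b⁻¹ * a with hw
    have hwA : Cfsg.conjBy A w = B := by
      rw [hw, ← conjBy_conjBy a (a * b⁻¹), conjBy_self ha, ← conjBy_conjBy b⁻¹ a, e, conjBy_conjBy,
        mul_inv_cancel, conjBy_one]
    have hflip := CfsgLib.RootSub.Special.corr_flip h (x := a) (b := b) ⟨ha, ha1, hb, hb1, e⟩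
    have hwB : Cfsg.conjBy B w = A := by
      rw [hbraid, ← conjBy_conjBy b⁻¹ (b⁻¹ * a), conjBy_self (inv_mem hb), ← conjBy_conjBy a b⁻¹, ← hflip,
        conjBy_conjBy, inv_mul_cancel, conjBy_one]
    have hwc : ∀ z ∈ A, φ w * φ z = φ z * φ w := by
      intro z hz
      have h1 : Commute (φ a) (φ z) := by
        rw [Commute, SemiconjBy, ← map_mul, ← map_mul, CfsgLib.RootSub.Special.mul_comm_of hA ha hz]
      have h2 : Commute (φ b⁻¹) (φ z) := (show Commute (φ z) (φ b⁻¹) from hcomm _ hz _ (inv_mem hb)).symm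
      rw [hw, map_mul, map_mul]
      exact ((h1.mul_left h2).mul_left h1).eq
    have hwA' : Cfsg.conjBy A w⁻¹ = B := by
      conv_lhs => rw [← hwB]
      rw [conjBy_conjBy, inv_mul_cancel, conjBy_one]
    have hwB' : Cfsg.conjBy B w⁻¹ = A := by
      conv_lhs => rw [← hwA]
      rw [conjBy_conjBy, inv_mul_cancel, conjBy_one]
    have hwc' : ∀ z ∈ A, φ w⁻¹ * φ z = φ z * φ w⁻¹ := fun z hz => by
      rw [map_inv]; exact (Commute.inv_left (hwc z hz)).eq
    have hcomA : Commute (φ a) (φ y) := by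
      rw [Commute, SemiconjBy, ← map_mul, ← map_mul, CfsgLib.RootSub.Special.mul_comm_of hA ha hy]
    -- `b⁻¹ = a⁻¹ w a⁻¹`
    have hy0 : a⁻¹ * y ≠ 1 := fun e0 => hya (inv_mul_eq_one.mp e0).symm
    obtain ⟨z, hz, hz1, hzφ, hze⟩ := hsw w hwA hwB hwc _ (mul_mem (inv_mem ha) hy) hy0
    have h1 : Cfsg.conjBy (Cfsg.conjBy B y) b⁻¹ = Cfsg.conjBy B (a⁻¹ * z) := by
      rw [show b⁻¹ = a⁻¹ * w * a⁻¹ by rw [hw]; group, ← conjBy_conjBy a⁻¹ (a⁻¹ * w), conjBy_conjBy y a⁻¹,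
        ← conjBy_conjBy w a⁻¹, hze, conjBy_conjBy]
    -- `b⁻¹ = w a w⁻¹`
    obtain ⟨z1, hz1A, hz11, hz1φ, hz1e⟩ := hsw w⁻¹ hwA' hwB' hwc' y hy hy1
    have hbw : b⁻¹ = w * a * w⁻¹ := by
      calc b⁻¹ = b⁻¹ * (a * b⁻¹ * a) * w⁻¹ := by rw [← hw, mul_inv_cancel_right]
        _ = (b⁻¹ * a * b⁻¹) * a * w⁻¹ := by group
        _ = _ := by rw [← hbraid]
    have h2 : Cfsg.conjBy (Cfsg.conjBy B y) b⁻¹ = Cfsg.conjBy (Cfsg.conjBy B (a * z1)) w := by
      rw [hbw, ← conjBy_conjBy w⁻¹ (w * a), hz1e, ← conjBy_conjBy a w, conjBy_conjBy z1 a]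
    by_cases haz : a * z1 = 1
    · exfalso
      rw [haz, conjBy_one, hwB] at h2
      exact conjBy_right_ne h.1 (mul_mem (inv_mem ha) hz) (h1.symm.trans h2)
    obtain ⟨z2, hz2, -, hz2φ, hz2e⟩ := hsw w hwA hwB hwc _ (mul_mem ha hz1A) haz
    have heq : a⁻¹ * z = z2 := conjBy_inj_left h.1 (mul_mem (inv_mem ha) hz) hz2
      (h1.symm.trans (h2.trans hz2e))
    have := congrArg φ heq
    simp only [map_mul, map_inv, hzφ, hz2φ, hz1φ, mul_inv_rev, inv_inv] at this
    -- `(φ a)⁻¹ * ((φ y)⁻¹ * φ a) = φ y * (φ a)⁻¹`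
    rw [hcomA.symm.inv_left.eq, inv_mul_cancel_left] at this
    calc φ a = (φ y * (φ y)⁻¹) * φ a := by group
      _ = φ y * (φ y * (φ a)⁻¹ * φ a) := by rw [← this]; group
      _ = _ := by group
  have htwo : ∀ p q : G, ∃ r ∈ A, r ≠ 1 ∧ r ≠ p ∧ r ≠ q := by
    intro p q
    by_contra! hcon
    classical
    have hsub : (A : Set G) ⊆ (({1, p, q} : Finset G) : Set G) := by
      intro x hx
      simp only [Finset.coe_insert, Finset.coe_singleton, Set.mem_insert_iff, Set.mem_singleton_iff]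
      by_cases x1 : x = 1
      · exact Or.inl x1
      by_cases xp : x = p
      · exact Or.inr (Or.inl xp)
      exact Or.inr (Or.inr (hcon x hx x1 xp))
    have h3 := (Set.encard_le_encard hsub).trans
      (le_of_eq_of_le (Set.encard_coe_eq_coe_finsetCard _) (Nat.cast_le.mpr Finset.card_le_three))
    exact absurd (lt_of_lt_of_le hcard h3) (lt_irrefl _)
  by_cases h0 : ∃ y ∈ A, y ≠ 1 ∧ φ y = 1
  · obtain ⟨y, hy, hy1, hφy⟩ := h0
    intro a ha
    rw [MonoidHom.mem_ker]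
    by_cases ha1 : a = 1
    · rw [ha1, map_one]
    by_cases hay : y = a
    · rw [← hay, hφy]
    rw [key a ha ha1 y hy hy1 hay, hφy, mul_one]
  · push Not at h0
    exfalso
    obtain ⟨y, hy, hy1, -, -⟩ := htwo 1 1
    obtain ⟨a1, h11, h12, h13, -⟩ := htwo y y
    obtain ⟨a2, h21, h22, h23, h24⟩ := htwo y a1
    refine h0 (a2 * a1⁻¹) (mul_mem h21 (inv_mem h11)) (fun e0 => h24 (mul_inv_eq_one.mp e0)) ?_
    rw [map_mul, map_inv, key a2 h21 h22 y hy hy1 (Ne.symm h23), key a1 h11 h12 y hy hy1 (Ne.symm h13),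
      mul_inv_cancel]
open CfsgLib.RootSub in
theorem exists_member_le {G : Type*} [Group G] {S : Set (Subgroup G)} (hS : Cfsg.IsRootSubgroupSet S)
    (hcl : Cfsg.IsConjClassOfSubgroups S)
    (h3 : Cfsg.IsDegenerateRootSet S → ∀ A ∈ S, 3 < ENat.card A)
    (h4 : ∀ A ∈ S, ∀ B ∈ Cfsg.rankOnePartners S A, Cfsg.IsSpecialRankOnePair A B)
    (N : Subgroup G) [N.Normal] {P Q : Subgroup G} (hP : P ∈ S) (hQ : Q ∈ S) (hPQ : Cfsg.IsRankOnePair P Q)
    (hc : ∀ a ∈ P, ∀ b ∈ Q, (a : G ⧸ N) * b = b * a) : ∃ D ∈ S, D ≤ N := by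
  by_cases hdeg : Cfsg.IsDegenerateRootSet S
  · refine ⟨P, hP, fun x hx => ?_⟩
    have := le_ker (QuotientGroup.mk' N) (h4 P hP Q ⟨hQ, hPQ⟩) (hS.commutative P hP) (h3 hdeg P hP) hc hx
    rwa [QuotientGroup.ker_mk'] at this
  · have hnd : Cfsg.IsNondegenerateRootSet S := by
      simp only [Cfsg.IsDegenerateRootSet, not_forall, not_not] at hdeg
      obtain ⟨X, hX, Y, hY, hXY⟩ := hdeg
      refine ⟨⟨⁅X, Y⁆, hXY.1, X, hX, fun e => hS.ne_bot X hX ?_, ?_⟩, ⟨P, hP, Q, hQ, hPQ⟩, ⟨X, hX, Y, hY, hXY⟩⟩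
      · rw [← e]
        refine comm_eq_bot_of_commute fun a ha b hb => ?_
        exact hXY.2.1 a (e.symm ▸ ha) b (Subgroup.mem_sup_right hb)
      · exact comm_eq_bot_of_commute fun a ha b hb => hXY.2.1 a ha b (Subgroup.mem_sup_left hb)
    obtain ⟨⟨C, hC, hCQ⟩, -⟩ := Cfsg.Agent.S5034.result ⟨hS, hcl⟩ hnd hP ⟨hQ, hPQ⟩
    refine ⟨⁅Q, C⁆, hCQ.2, ?_⟩
    rw [Subgroup.commutator_le]
    intro q hq c hcm
    obtain ⟨p, hp, hp1, e⟩ : ∃ p ∈ P, True ∧ (q : G ⧸ N) = (p : G ⧸ N) := by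
      by_cases hq1 : q = 1
      · exact ⟨1, one_mem _, trivial, by rw [hq1]⟩
      obtain ⟨a, ha, ha1, e⟩ := hPQ.cond_right q hq hq1
      have hs := congrArg (fun z : G => (z : G ⧸ N))
        ((h4 P hP Q ⟨hQ, hPQ⟩).2 a ha ha1 q hq hq1 e.symm)
      simp only [QuotientGroup.mk_mul, QuotientGroup.mk_inv] at hs
      have hcc : Commute (a : G ⧸ N) (q : G ⧸ N) := hc a ha q hq
      refine ⟨a⁻¹, inv_mem ha, trivial, ?_⟩
      rw [← hcc.inv_left.inv_right.symm.eq, inv_mul_cancel_right, mul_assoc, hcc.eq, inv_mul_cancel_left] at hs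
      rw [QuotientGroup.mk_inv, hs, inv_inv]
    have hpc : (p : G ⧸ N) * c = c * p := by
      rw [← QuotientGroup.mk_mul, ← QuotientGroup.mk_mul, commute_of_comm_eq_bot hC.1.2.2 hp hcm]
    rw [← QuotientGroup.eq_one_iff, commutatorElement_def, QuotientGroup.mk_mul, QuotientGroup.mk_mul,
      QuotientGroup.mk_mul, QuotientGroup.mk_inv, QuotientGroup.mk_inv, e, hpc, mul_inv_cancel_right, mul_inv_cancel]

open CfsgLib.RootSub in
theorem dichotomy {G : Type*} [Group G] {S : Set (Subgroup G)} (hS : Cfsg.IsRootSubgroupSet S)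
    (hcl : Cfsg.IsConjClassOfSubgroups S) (hpart : ∀ A ∈ S, ∃ B ∈ S, Cfsg.IsRankOnePair A B)
    (h2' : ∀ A ∈ S, ∀ C ∈ S, A ≠ C → Cfsg.centralizingMembers S A ≠ Cfsg.centralizingMembers S C)
    (h3 : Cfsg.IsDegenerateRootSet S → ∀ A ∈ S, 3 < ENat.card A)
    (h4 : ∀ A ∈ S, ∀ B ∈ Cfsg.rankOnePartners S A, Cfsg.IsSpecialRankOnePair A B)
    (N : Subgroup G) [hN : N.Normal] : N ≤ Subgroup.center G ∨ N = ⊤ := by
  have htop : (∃ D ∈ S, D ≤ N) → N = ⊤ := by
    rintro ⟨D, hD, hDN⟩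
    rw [eq_top_iff, ← hS.generates]
    refine iSup₂_le fun A hA => ?_
    obtain ⟨g, rfl⟩ := hcl.2 D hD A hA
    intro x hx
    rw [conjBy_mem_iff] at hx
    simpa [mul_assoc] using hN.conj_mem _ (hDN hx) g
  have hpair : ∀ P ∈ S, ∀ Q ∈ S, ⁅P, Q⁆ ≠ ⊥ → (∀ a ∈ P, ∀ b ∈ Q, (a : G ⧸ N) * b = b * a) → N = ⊤ := by
    intro P hP Q hQ hne hc
    rcases hS.pair P hP Q hQ with h | h | h
    · exact absurd h hne
    · exact htop (exists_member_le hS hcl h3 h4 N hP hQ h hc)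
    · refine htop ⟨⁅P, Q⁆, h.1, ?_⟩
      rw [Subgroup.commutator_le]
      intro a ha b hb
      rw [← QuotientGroup.eq_one_iff, commutatorElement_def, QuotientGroup.mk_mul, QuotientGroup.mk_mul,
        QuotientGroup.mk_mul, QuotientGroup.mk_inv, QuotientGroup.mk_inv, hc a ha b hb, mul_inv_cancel_right,
        mul_inv_cancel]
  by_cases hall : ∀ A ∈ S, ∀ n ∈ N, Cfsg.conjBy A n = A
  · left
    intro n hn
    have hle : (⊤ : Subgroup G) ≤ Subgroup.centralizer {n} := by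
      rw [← hS.generates]
      refine iSup₂_le fun A hA a ha => ?_
      rw [Subgroup.mem_centralizer_singleton_iff]
      have hm1 : n * a * n⁻¹ * a⁻¹ ∈ N := by
        simpa [mul_assoc] using mul_mem hn (hN.conj_mem _ (inv_mem hn) a)
      have hm2 : n * a * n⁻¹ * a⁻¹ ∈ A :=
        mul_mem (by have := conjBy_mem (A := A) (g := n) ha; rwa [hall A hA n hn] at this) (inv_mem ha)
      obtain ⟨B, hB, hAB⟩ := hpart A hA
      have := eq_one_of_normalizes hAB hm2 (conjBy_eq_self_iff.mp (hall B hB _ hm1))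
      rw [mul_inv_eq_one, mul_inv_eq_iff_eq_mul] at this
      exact this.symm
    rw [Subgroup.mem_center_iff]
    exact fun g => Subgroup.mem_centralizer_singleton_iff.mp (hle (Subgroup.mem_top g))
  · right
    push Not at hall
    obtain ⟨A, hA, n, hn, hne⟩ := hall
    have hA' := hS.conj_mem A hA n
    have himg : ∀ x ∈ Cfsg.conjBy A n, ∃ a ∈ A, (x : G ⧸ N) = (a : G ⧸ N) := fun x hx => by
      refine ⟨_, conjBy_mem_iff.mp hx, ?_⟩
      simp [(QuotientGroup.eq_one_iff n).mpr hn]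
    by_cases hc : ⁅A, Cfsg.conjBy A n⁆ = ⊥
    · have hAA : ∀ a ∈ A, ∀ a' ∈ A, (a : G ⧸ N) * a' = a' * a := fun a ha a' ha' => by
        rw [← QuotientGroup.mk_mul, ← QuotientGroup.mk_mul, Special.mul_comm_of (hS.commutative A hA) ha ha']
      have hdiff := h2' A hA _ hA' (Ne.symm hne)
      rw [Ne, Set.ext_iff] at hdiff
      push Not at hdiff
      have hmem : ∀ (E Y : Subgroup G), E ∈ Cfsg.centralizingMembers S Y ↔ E ∈ S ∧ ⁅E, Y⁆ = ⊥ := fun E Y => by
        rw [Subgroup.commutator_eq_bot_iff_le_centralizer]; rfl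
      obtain ⟨E, ⟨h1, h2⟩ | ⟨h1, h2⟩⟩ := hdiff
      · rw [hmem] at h1 h2
        refine hpair E h1.1 _ hA' (fun e => h2 ⟨h1.1, e⟩) fun e he x hx => ?_
        obtain ⟨a, ha, hxa⟩ := himg x hx
        rw [hxa, ← QuotientGroup.mk_mul, ← QuotientGroup.mk_mul, commute_of_comm_eq_bot h1.2 he ha]
      · rw [hmem] at h1 h2
        refine hpair E h2.1 A hA (fun e => h1 ⟨h2.1, e⟩) fun e he a ha => ?_
        have hna : n * a * n⁻¹ ∈ Cfsg.conjBy A n := conjBy_mem ha
        have := congrArg (fun z : G => (z : G ⧸ N)) (commute_of_comm_eq_bot h2.2 he hna)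
        simpa [(QuotientGroup.eq_one_iff n).mpr hn] using this
    · refine hpair A hA _ hA' hc fun a ha x hx => ?_
      obtain ⟨a', ha', hxa⟩ := himg x hx
      rw [hxa, ← QuotientGroup.mk_mul, ← QuotientGroup.mk_mul, Special.mul_comm_of (hS.commutative A hA) ha ha']

/-- Quasisimplicity criterion for groups generated by abstract root subgroups. Let S be a set of abstract root subgroups of G with more than one member such that: the graph of rank one pairs on S is connected; no two different members of S have the same set of commuting members of S; if S is degenerate then every member of S has more than three elements; and every rank one pair in S is special. Then for every A ∈ S one has G = G' A with A ∩ G' ≠ 1, and the commutator subgroup G' is quasisimple. Moreover G is perfect if S is non-degenerate, or if some rank one pair A, B in S generates a perfect group. -/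
theorem result {G : Type*} [Group G] {S : Set (Subgroup G)} (hS : Cfsg.IsRootSubgroupSet S) (h2 : ∃ A ∈ S, ∃ B ∈ S, A ≠ B)
    (h1 : Cfsg.IsConnectedFamily (Cfsg.FAdj S) S)
    (h2' : ∀ A ∈ S, ∀ C ∈ S, A ≠ C → Cfsg.centralizingMembers S A ≠ Cfsg.centralizingMembers S C)
    (h3 : Cfsg.IsDegenerateRootSet S → ∀ A ∈ S, 3 < ENat.card A)
    (h4 : ∀ A ∈ S, ∀ B ∈ Cfsg.rankOnePartners S A, Cfsg.IsSpecialRankOnePair A B) :
    (∀ A ∈ S, commutator G ⊔ A = ⊤ ∧ A ⊓ commutator G ≠ ⊥) ∧ Cfsg.IsQuasisimple ↥(commutator G) ∧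
    (Cfsg.IsNondegenerateRootSet S → commutator G = ⊤) ∧
    ((∃ A ∈ S, ∃ B ∈ Cfsg.rankOnePartners S A, Group.IsPerfect ↥(A ⊔ B)) → commutator G = ⊤) := by
  obtain ⟨hcl, A0, hA0, hiso⟩ := (Cfsg.Agent.S5032.result hS h2).mp h1
  have hpart : ∀ A ∈ S, ∃ B ∈ S, Cfsg.IsRankOnePair A B := by
    intro A hA
    obtain ⟨g, hg⟩ := hcl.2 A0 hA0 A hA
    obtain ⟨X, hX, hAX⟩ := CfsgLib.RootSub.exists_partner_of_not_isolated
      (hg ▸ CfsgLib.RootSub.not_isolated_conj hS hiso hA0 g) hA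
    exact ⟨X, hX, hAX⟩
  have hd := fun (N : Subgroup G) (hN : N.Normal) => @dichotomy G _ S hS hcl hpart h2' h3 h4 N hN
  obtain ⟨A1, hA1⟩ := hcl.1
  obtain ⟨B1, hB1, hAB1⟩ := hpart A1 hA1
  have hnab : ¬ ∀ x y : G, x * y = y * x := fun hab => hAB1.ne (by
    obtain ⟨⟨a, ha⟩, hne⟩ := Subgroup.ne_bot_iff_exists_ne_one.mp (hS.ne_bot A1 hA1)
    have ha1 : a ≠ 1 := fun e => hne (Subtype.ext e)
    exact absurd (CfsgLib.RootSub.eq_one_of_normalizes hAB1 ha
      (CfsgLib.RootSub.mem_normalizer_of_commute_all fun b _ => hab a b)) ha1)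
  have hperf : commutator G = ⊤ := by
    obtain ⟨D, hD, hDN⟩ := exists_member_le hS hcl h3 h4 (commutator G) hA1 hB1 hAB1 fun a _ b _ => by
      rw [← QuotientGroup.mk_mul, ← QuotientGroup.mk_mul, QuotientGroup.eq]
      have : b⁻¹ * a⁻¹ * b⁻¹⁻¹ * a⁻¹⁻¹ ∈ commutator G := Subgroup.commutator_mem_commutator (Subgroup.mem_top _) (Subgroup.mem_top _)
      simpa [mul_assoc] using this
    rw [eq_top_iff, ← hS.generates]
    refine iSup₂_le fun A hA => ?_
    obtain ⟨g, rfl⟩ := hcl.2 D hD A hA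
    intro x hx
    rw [CfsgLib.RootSub.conjBy_mem_iff] at hx
    simpa [mul_assoc] using (inferInstance : (commutator G).Normal).conj_mem _ (hDN hx) g
  refine ⟨fun A hA => ⟨by rw [hperf, top_sup_eq], by rw [hperf, inf_top_eq]; exact hS.ne_bot A hA⟩, ?_, fun _ => hperf,
    fun _ => hperf⟩
  rw [hperf]
  refine ⟨?_, ?_⟩
  · rw [Subgroup.isPerfect_iff]
    exact hperf
  · haveI : Nontrivial ((⊤ : Subgroup G) ⧸ Subgroup.center (⊤ : Subgroup G)) := by
      rw [QuotientGroup.nontrivial_iff]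
      intro e
      refine hnab fun x y => ?_
      have := Subgroup.mem_center_iff.mp (show (⟨y, Subgroup.mem_top y⟩ : (⊤ : Subgroup G)) ∈ Subgroup.center _ by
        rw [e]; trivial) ⟨x, Subgroup.mem_top x⟩
      exact congrArg Subtype.val this
    refine ⟨fun K hK => ?_⟩
    set M : Subgroup G := (K.comap (QuotientGroup.mk' _)).map Subgroup.topEquiv.toMonoidHom with hM
    have hMn : M.Normal := (hK.comap _).map _ Subgroup.topEquiv.surjective
    have hmemM : ∀ x : (⊤ : Subgroup G), (x : G) ∈ M ↔ QuotientGroup.mk' _ x ∈ K := fun x => by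
      rw [hM]
      exact Subgroup.mem_map_equiv.trans (Iff.rfl)
    rcases hd M hMn with h | h
    · left
      rw [eq_bot_iff]
      intro z hz
      obtain ⟨x, rfl⟩ := QuotientGroup.mk'_surjective _ z
      rw [Subgroup.mem_bot, QuotientGroup.mk'_apply, QuotientGroup.eq_one_iff, Subgroup.mem_center_iff]
      exact fun g => Subtype.ext (Subgroup.mem_center_iff.mp (h ((hmemM x).mpr hz)) g)
    · right
      rw [eq_top_iff]
      intro z _
      obtain ⟨x, rfl⟩ := QuotientGroup.mk'_surjective _ z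
      exact (hmemM x).mp (by rw [h]; exact Subgroup.mem_top _)

end Cfsg.Agent.S5033
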