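import Cfsg.Statements.S5035
import Mathlib
import Cfsg.Agent.Lib.RootSub.CommCase
-- import your own Cfsg.Agent.* helpers here

set_option autoImplicit false
open Cfsg

namespace Cfsg.Agent.S5035

/-- Let S be a set of abstract root subgroups of G whose graph of rank one pairs is connected, and f a homomorphism from G onto a group H. Then either the images of the members of S form a set of abstract root subgroups of H whose graph of rank one pairs is again connected, or H equals the image of a member of S. -/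
theorem result {G H : Type*} [Group G] [Group H] {S : Set (Subgroup G)} (hS : Cfsg.IsRootSubgroupSet S)
    (hc : Cfsg.IsConnectedFamily (Cfsg.FAdj S) S) (f : G →* H) (hf : Function.Surjective f) :
    (Cfsg.IsRootSubgroupSet ((fun A : Subgroup G => A.map f) '' S) ∧
      Cfsg.IsConnectedFamily (Cfsg.FAdj ((fun A : Subgroup G => A.map f) '' S)) ((fun A : Subgroup G => A.map f) '' S)) ∨
    ∃ A ∈ S, A.map f = ⊤ := by
  classical
  by_cases htriv : ∃ A ∈ S, A.map f = ⊥
  · right
    obtain ⟨A, hA, hAf⟩ := htriv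
    refine ⟨A, hA, ?_⟩
    rw [hAf]
    symm
    rw [eq_bot_iff, ← Subgroup.map_top_of_surjective f hf, ← hS.generates, Subgroup.map_iSup]
    refine iSup_le fun B => ?_
    rw [Subgroup.map_iSup]
    refine iSup_le fun hB => ?_
    have hr := hc A hA B hB
    clear hB
    induction hr with
    | refl => exact hAf.le
    | tail _ hBC ih =>
      obtain ⟨x, -, e⟩ := CfsgLib.RootSub.right_mem_unipotent hBC.2.2
      rintro _ ⟨y, hy, rfl⟩
      rw [e] at hy
      obtain ⟨z, hz, rfl⟩ := hy
      have hz' : f z = 1 := Subgroup.mem_bot.mp (ih (Subgroup.mem_map_of_mem f hz))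
      rw [Subgroup.mem_bot]
      show f (x * z * x⁻¹) = 1
      rw [map_mul, map_mul, hz', mul_one, map_inv, mul_inv_cancel]
  left
  push Not at htriv
  have hconj : ∀ (A : Subgroup G) (g : G), Cfsg.conjBy (A.map f) (f g) = (Cfsg.conjBy A g).map f := by
    intro A g
    ext y
    constructor
    · rintro ⟨_, ⟨a, ha, rfl⟩, rfl⟩
      exact ⟨g * a * g⁻¹, CfsgLib.RootSub.conjBy_mem ha, by simp⟩
    · rintro ⟨_, ⟨a, ha, rfl⟩, rfl⟩
      exact ⟨f a, Subgroup.mem_map_of_mem f ha, by simp⟩
  have hcomm : ∀ A ∈ S, IsMulCommutative (A.map f : Subgroup H) := fun A hA => ⟨⟨by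
    rintro ⟨_, a, ha, rfl⟩ ⟨_, b, hb, rfl⟩
    refine Subtype.ext (show f a * f b = f b * f a from ?_)
    rw [← map_mul, ← map_mul, show a * b = b * a from congrArg Subtype.val ((hS.commutative A hA).is_comm.comm ⟨a, ha⟩ ⟨b, hb⟩)]⟩⟩
  have hrank : ∀ A ∈ S, ∀ B ∈ S, Cfsg.IsRankOnePair A B → A.map f ≠ B.map f →
      Cfsg.IsRankOnePair (A.map f) (B.map f) := by
    intro A hA B hB h hne
    have hcond : ∀ {P Q : Subgroup G}, Cfsg.RankOneCondition P Q → P.map f ≠ Q.map f →
        Cfsg.RankOneCondition (P.map f) (Q.map f) := by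
      rintro P Q hPQ hne' _ ⟨p, hp, rfl⟩ hp1
      obtain ⟨q, hq, -, e⟩ := hPQ p hp (fun e => hp1 (by rw [e, map_one]))
      have e' : Cfsg.conjBy (P.map f) (f q)⁻¹ = Cfsg.conjBy (Q.map f) (f p)⁻¹ := by
        rw [← map_inv, ← map_inv, hconj, hconj, e]
      refine ⟨f q, Subgroup.mem_map_of_mem f hq, fun hq1 => hne' ?_, e'⟩
      rw [hq1, inv_one, CfsgLib.RootSub.conjBy_one] at e'
      refine CfsgLib.RootSub.conjBy_injective (f p)⁻¹ ?_
      show Cfsg.conjBy (P.map f) (f p)⁻¹ = _
      rw [CfsgLib.RootSub.conjBy_self (inv_mem (Subgroup.mem_map_of_mem f hp))]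
      exact e'
    haveI := hcomm A hA
    haveI := hcomm B hB
    have hnA : Group.IsNilpotent (A.map f : Subgroup H) := letI : CommGroup (A.map f : Subgroup H) := { (inferInstance : Group (A.map f : Subgroup H)) with mul_comm := (hcomm A hA).is_comm.comm }; inferInstance
    have hnB : Group.IsNilpotent (B.map f : Subgroup H) := letI : CommGroup (B.map f : Subgroup H) := { (inferInstance : Group (B.map f : Subgroup H)) with mul_comm := (hcomm B hB).is_comm.comm }; inferInstance
    exact ⟨hne, hnA, hnB, hcond h.cond_left hne, hcond h.cond_right hne.symm⟩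
  have hset : Cfsg.IsRootSubgroupSet ((fun A : Subgroup G => A.map f) '' S) := by
    refine ⟨?_, ?_, ?_, ?_, ?_⟩
    · rintro _ ⟨A, hA, rfl⟩; exact hcomm A hA
    · rintro _ ⟨A, hA, rfl⟩; exact htriv A hA
    · rw [iSup_image, eq_top_iff, ← Subgroup.map_top_of_surjective f hf, ← hS.generates, Subgroup.map_iSup]
      exact iSup_mono fun A => (Subgroup.map_iSup _ _).le
    · rintro _ ⟨A, hA, rfl⟩ g
      obtain ⟨g, rfl⟩ := hf g
      exact ⟨_, hS.conj_mem A hA g, (hconj A g).symm⟩
    · rintro _ ⟨A, hA, rfl⟩ _ ⟨B, hB, rfl⟩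
      rcases hS.pair A hA B hB with h | h | h
      · left; rw [← Subgroup.map_commutator, h, Subgroup.map_bot]
      · by_cases e : A.map f = B.map f
        · left
          show ⁅A.map f, B.map f⁆ = ⊥
          rw [← e]
          exact CfsgLib.RootSub.comm_eq_bot_of_commute fun x hx y hy =>
            congrArg Subtype.val ((hcomm A hA).is_comm.comm ⟨x, hx⟩ ⟨y, hy⟩)
        · exact Or.inr (Or.inl (hrank A hA B hB h e))
      · refine Or.inr (Or.inr ⟨⟨_, h.1, Subgroup.map_commutator _ _ f⟩, ?_, ?_, ?_⟩)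
        · intro c hc' x hx
          rw [← Subgroup.map_commutator] at hc'
          rw [← Subgroup.map_sup] at hx
          obtain ⟨c, hc', rfl⟩ := hc'
          obtain ⟨x, hx, rfl⟩ := hx
          rw [← map_mul, ← map_mul, h.2.1 c hc' x hx]
        · rintro _ ⟨a, ha, rfl⟩ ha1
          rw [← Subgroup.map_commutator, ← h.2.2.1 a ha (fun e => ha1 (by rw [e, map_one])), MonoidHom.map_closure,
            Subgroup.coe_map, Set.image_image, Set.image_image]
          simp only [map_mul, map_inv]
        · rintro _ ⟨b, hb, rfl⟩ hb1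
          rw [← Subgroup.map_commutator, ← h.2.2.2 b hb (fun e => hb1 (by rw [e, map_one])), MonoidHom.map_closure,
            Subgroup.coe_map, Set.image_image, Set.image_image]
          simp only [map_mul, map_inv]
  refine ⟨hset, ?_⟩
  rintro _ ⟨A, hA, rfl⟩ _ ⟨B, hB, rfl⟩
  have hr := hc A hA B hB
  clear hB
  induction hr with
  | refl => exact Relation.ReflTransGen.refl
  | @tail P Q _ hPQ ih =>
    by_cases e : P.map f = Q.map f
    · show Relation.ReflTransGen _ (A.map f) (Q.map f)
      rw [← e]; exact ih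
    · exact ih.tail ⟨⟨P, hPQ.1, rfl⟩, ⟨Q, hPQ.2.1, rfl⟩, hrank P hPQ.1 Q hPQ.2.1 hPQ.2.2 e⟩

end Cfsg.Agent.S5035
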