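import Cfsg.Statements.S5037
import Mathlib
import Cfsg.Agent.Lib.RootSub.SubClass
-- import your own Cfsg.Agent.* helpers here

set_option autoImplicit false
open Cfsg

namespace Cfsg.Agent.S5037

open Cfsg CfsgLib.RootSub
open scoped commutatorElement

section
variable {G : Type*} [Group G] {S : Set (Subgroup G)}

/-- An inclusion between the partner sets of commuting members is an equality. -/
theorem eq_of_subset (hS : Cfsg.IsRootSubgroupSet S) (hF : ∀ X ∈ S, ¬ Cfsg.IsIsolatedIn (Cfsg.FAdj S) S X)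
    {A C : Subgroup G} (hA : A ∈ S) (hC : C ∈ S)
    (hcom : ∀ a ∈ A, ∀ c ∈ C, a * c = c * a)
    (h : Cfsg.rankOnePartners S A ⊆ Cfsg.rankOnePartners S C) :
    Cfsg.rankOnePartners S C ⊆ Cfsg.rankOnePartners S A := by
  have conjP : ∀ {P Q : Subgroup G} (g : G), Cfsg.rankOnePartners S P ⊆ Cfsg.rankOnePartners S Q →
      Cfsg.rankOnePartners S (Cfsg.conjBy P g) ⊆ Cfsg.rankOnePartners S (Cfsg.conjBy Q g) := by
    intro P Q g hPQ Z hZ
    have h1 := hPQ (show Cfsg.conjBy Z g⁻¹ ∈ Cfsg.rankOnePartners S P from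
      ⟨hS.conj_mem Z hZ.1 _, by
        have := isRankOnePair_conjBy hZ.2 g⁻¹
        rwa [conjBy_conjBy, inv_mul_cancel, conjBy_one] at this⟩)
    have h2 := isRankOnePair_conjBy h1.2 g
    rw [conjBy_conjBy (A := Z), mul_inv_cancel, conjBy_one] at h2
    exact ⟨hZ.1, h2⟩
  obtain ⟨Y, hY, hAY⟩ := exists_partner_of_not_isolated (hF A hA) hA
  have hCY : Cfsg.IsRankOnePair C Y := (h ⟨hY, hAY⟩).2
  have step : ∀ a ∈ A, a ≠ 1 → ∃ y ∈ Y, ∃ c ∈ C, Cfsg.conjBy A y⁻¹ = Cfsg.conjBy Y a⁻¹ ∧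
      Cfsg.conjBy C y⁻¹ = Cfsg.conjBy Y c⁻¹ := by
    intro a ha ha1
    obtain ⟨y, hy, hy1, e⟩ := hAY.cond_left a ha ha1
    obtain ⟨c, hc, -, e'⟩ := hCY.cond_right y hy hy1
    exact ⟨y, hy, c, hc, e, e'.symm⟩
  obtain ⟨⟨a, ha⟩, ha0⟩ := Subgroup.ne_bot_iff_exists_ne_one.mp (hS.ne_bot A hA)
  have ha1 : a ≠ 1 := fun e => ha0 (Subtype.ext e)
  obtain ⟨y, hy, c, hc, e1, e2⟩ := step a ha ha1
  obtain ⟨y', hy', d, hd, e3, e4⟩ := step a⁻¹ (inv_mem ha) (inv_ne_one.mpr ha1)
  have r1 := conjP y⁻¹ h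
  rw [e1, e2] at r1
  have r2 := conjP a⁻¹ (conjP y'⁻¹ h)
  rw [e3, e4, inv_inv, conjBy_conjBy (g := a), inv_mul_cancel, conjBy_one, conjBy_conjBy (g := d⁻¹)] at r2
  have hda : a⁻¹ * d⁻¹ = d⁻¹ * a⁻¹ := hcom _ (inv_mem ha) _ (inv_mem hd)
  rw [hda, ← conjBy_conjBy] at r2
  have r3 := r2.trans (conjP d⁻¹ r1)
  rw [conjBy_conjBy] at r3
  -- distinct conjugates of `Y` inside `⟨C, Y⟩` are opposite
  have hdc : d⁻¹ * c⁻¹ = 1 := by
    by_contra he
    have hmem : d⁻¹ * c⁻¹ ∈ C := mul_mem (inv_mem hd) (inv_mem hc)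
    obtain ⟨z, hz, -, e5⟩ := hCY.cond_left (d⁻¹ * c⁻¹)⁻¹ (inv_mem hmem) (inv_ne_one.mpr he)
    rw [inv_inv] at e5
    have h5 : Cfsg.IsRankOnePair (Cfsg.conjBy C z⁻¹) Y := by
      have := isRankOnePair_conjBy hCY z⁻¹
      rwa [conjBy_self (A := Y) (inv_mem hz)] at this
    rw [e5] at h5
    exact (r3 ⟨hS.conj_mem Y hY _, Cfsg.RankOnePair_symm h5⟩).2.ne rfl
  have hd' : d⁻¹ = c := by
    rw [mul_inv_eq_one] at hdc; exact hdc
  rw [hd'] at r2
  have r4 := conjP c⁻¹ r2
  rw [conjBy_conjBy (g := c), inv_mul_cancel, conjBy_one] at r4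
  rw [← e1, ← e2] at r4
  have r5 := conjP y r4
  rwa [conjBy_conjBy, mul_inv_cancel, conjBy_one, conjBy_conjBy, mul_inv_cancel, conjBy_one] at r5

theorem main (hS : Cfsg.IsRootSubgroupClass S) (hdn : Cfsg.IsDegenerateRootSet S ∨ Cfsg.IsNondegenerateRootSet S)
    {A C : Subgroup G} (hA : A ∈ S) (hC : C ∈ S) (hAC : A ≠ C) :
    (Cfsg.centralizingMembers S A ⊆ Cfsg.centralizingMembers S C →
        Cfsg.centralizingMembers S A = Cfsg.centralizingMembers S C) ∧
      (Cfsg.rankOnePartners S A ⊆ Cfsg.rankOnePartners S C →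
        ⁅A, C⁆ = ⊥ ∧ Cfsg.rankOnePartners S A = Cfsg.rankOnePartners S C) := by
  have hpairs : ∃ P ∈ S, ∃ Q ∈ S, Cfsg.IsRankOnePair P Q := by
    rcases hdn with hd | hnd
    · by_contra hno
      push Not at hno
      exact hAC (SubClass.eq_of_le_normalizer hS hno hd hA hC)
    · exact hnd.2.1
  obtain ⟨P₀, hP₀, Q₀, hQ₀, h₀⟩ := hpairs
  have hF := SubClass.not_iso_all hS hP₀ hQ₀ h₀
  have part2 : ∀ A ∈ S, ∀ C ∈ S, Cfsg.rankOnePartners S A ⊆ Cfsg.rankOnePartners S C →
      ⁅A, C⁆ = ⊥ ∧ Cfsg.rankOnePartners S A = Cfsg.rankOnePartners S C := by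
    intro A hA C hC h
    have hbot : ⁅A, C⁆ = ⊥ := by
      rcases hS.1.pair A hA C hC with e | e | e
      · exact e
      · exact absurd rfl (h ⟨hC, e⟩).2.ne
      · exfalso
        have hline := SubClass.rcc_line hS.1 hF hC hA (by rw [Subgroup.commutator_comm]; exact e.1)
        rw [Subgroup.commutator_comm] at hline
        obtain ⟨Y, hY, hYC, hYline⟩ := SubClass.exists_back hS.1 hF e.1 hline
        have hp := SubClass.back_rankOne hS.1 hC hA (by rw [Subgroup.commutator_comm]; exact e.1) hY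
          (by rw [Subgroup.commutator_comm C A]; exact hYC)
        exact SubClass.not_bot_of_pair hS.1 hC hY (h ⟨hY, hp⟩).2 hYline.1.2.2
    exact ⟨hbot, h.antisymm (eq_of_subset hS.1 hF hA hC
      (fun a ha c hc => commute_of_comm_eq_bot hbot ha hc) h)⟩
  refine ⟨fun h => ?_, part2 A hA C hC⟩
  have hcm : ∀ {P X : Subgroup G}, X ∈ S → (X ∈ Cfsg.centralizingMembers S P ↔ ⁅X, P⁆ = ⊥) :=
    fun {P X} hX => ⟨fun hx => Subgroup.commutator_eq_bot_iff_le_centralizer.mpr hx.2,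
      fun hx => ⟨hX, Subgroup.commutator_eq_bot_iff_le_centralizer.mp hx⟩⟩
  -- partners of `C` are partners of `A`
  have hΩ : Cfsg.rankOnePartners S C ⊆ Cfsg.rankOnePartners S A := by
    rintro X ⟨hX, hp⟩
    rcases hS.1.pair A hA X hX with e | e | e
    · exfalso
      have := (hcm hX).mp (h ((hcm hX).mpr (by rw [Subgroup.commutator_comm]; exact e)))
      exact SubClass.not_bot_of_pair hS.1 hC hX hp (by rw [Subgroup.commutator_comm]; exact this)
    · exact ⟨hX, e⟩
    · exfalso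
      have hline := SubClass.rcc_line hS.1 hF hX hA (by rw [Subgroup.commutator_comm]; exact e.1)
      rw [Subgroup.commutator_comm] at hline
      have hKA : ⁅⁅A, X⁆, A⁆ = ⊥ := comm_eq_bot_of_commute fun k hk a ha => e.2.1 k hk a (Subgroup.mem_sup_left ha)
      exact SubClass.no_line_commute hS.1 hF hX hC (Cfsg.RankOnePair_symm hp)
        (SubClass.line_symm e.1 hline) ((hcm e.1).mp (h ((hcm e.1).mpr hKA)))
  obtain ⟨-, heq⟩ := part2 C hC A hA hΩ
  refine h.antisymm fun X hX => ?_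
  have hXC := (hcm hX.1).mp hX
  refine (hcm hX.1).mpr ?_
  rcases hS.1.pair A hA X hX.1 with e | e | e
  · rw [Subgroup.commutator_comm]; exact e
  · exfalso
    have h1 : X ∈ Cfsg.rankOnePartners S C := heq.symm ▸ ⟨hX.1, e⟩
    exact SubClass.not_bot_of_pair hS.1 hC hX.1 h1.2 (by rw [Subgroup.commutator_comm]; exact hXC)
  · exfalso
    have hline := SubClass.rcc_line hS.1 hF hX.1 hA (by rw [Subgroup.commutator_comm]; exact e.1)
    rw [Subgroup.commutator_comm] at hline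
    obtain ⟨P, hP, hPX, hPline⟩ := SubClass.exists_back hS.1 hF e.1 hline
    have hp := SubClass.back_rankOne hS.1 hX.1 hA (by rw [Subgroup.commutator_comm]; exact e.1) hP
      (by rw [Subgroup.commutator_comm X A]; exact hPX)
    have h1 : P ∈ Cfsg.rankOnePartners S C := heq.symm ▸ ⟨hP, hp⟩
    exact SubClass.no_line_commute hS.1 hF hP hC (Cfsg.RankOnePair_symm h1.2)
      (SubClass.line_symm hX.1 hPline) hXC

end

/-- Let S be a class of abstract root subgroups of G that is either degenerate or non-degenerate (so either the commutator case never occurs, or all three cases occur), and A ≠ C members of S. If every member of S commuting with A commutes with C, then A and C have the same commuting members of S; and if every rank one partner of A is a rank one partner of C, then A and C commute and have the same rank one partners. -/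
theorem result {G : Type*} [Group G] {S : Set (Subgroup G)} (hS : Cfsg.IsRootSubgroupClass S)
    (hdn : Cfsg.IsDegenerateRootSet S ∨ Cfsg.IsNondegenerateRootSet S)
    {A C : Subgroup G} (hA : A ∈ S) (hC : C ∈ S) (hAC : A ≠ C) :
    (Cfsg.centralizingMembers S A ⊆ Cfsg.centralizingMembers S C →
      Cfsg.centralizingMembers S A = Cfsg.centralizingMembers S C) ∧
    (Cfsg.rankOnePartners S A ⊆ Cfsg.rankOnePartners S C →
      ⁅A, C⁆ = ⊥ ∧ Cfsg.rankOnePartners S A = Cfsg.rankOnePartners S C) := by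
  exact main hS hdn hA hC hAC

end Cfsg.Agent.S5037
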