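import Cfsg.Statements.S5039
import Cfsg.Agent.S5034
import Cfsg.Agent.Lib.RootSpecial.Bad

set_option autoImplicit false
universe u
open Cfsg

namespace Cfsg.Agent.S5039

open CfsgLib.RootSub CfsgLib.RootSpecial in
/-- A degenerate class with two commuting members. -/
theorem deg {G : Type u} [Group G] {S : Set (Subgroup G)} (hS : Cfsg.IsRootSubgroupClass S)
    (hcomm : ∃ A ∈ S, ∃ C ∈ S, A ≠ C ∧ ⁅A, C⁆ = ⊥) (hd : Cfsg.IsDegenerateRootSet S) : Deg S where
  conj P hP g := hS.1.conj_mem P hP g⁻¹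
  pair P hP Q hQ := by
    rcases hS.1.pair P hP Q hQ with h | h | h
    · exact Or.inl fun x hx y hy => commute_of_comm_eq_bot h hx hy
    · exact Or.inr h
    · exact absurd h (hd P hP Q hQ)
  cls P hP Q hQ := by
    obtain ⟨g, hg⟩ := hS.2.2 P hP Q hQ
    exact ⟨g⁻¹, by rw [hg, cj, inv_inv]⟩
  gen := hS.1.generates
  perp P hP := by
    obtain ⟨A, hA, C, hC, hne, hc⟩ := hcomm
    obtain ⟨g, rfl⟩ := hS.2.2 A hA P hP
    refine ⟨Cfsg.conjBy C g, hS.1.conj_mem C hC g, fun e => hne (conjBy_injective g e).symm, ?_⟩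
    have h : Comm A C := fun x hx y hy => commute_of_comm_eq_bot hc hx hy
    simpa [cj] using h.cj g⁻¹
  abel := hS.1.commutative

/-- Let S be a class of abstract root subgroups of G containing two different commuting members. Suppose that, in case S is degenerate and every element of every member of S has order at most 3, the following holds: for every A ∈ S and every rank one partner B of A there are subgroups A₀ ≤ A and B₀ ≤ B generating an image of SL₂(k) with central kernel, k a field with at least four elements, A₀ and B₀ being the images of the unitriangular subgroups. Then every rank one pair A, B in S is special. -/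
theorem result {G : Type u} [Group G] {S : Set (Subgroup G)} (hS : Cfsg.IsRootSubgroupClass S)
    (hcomm : ∃ A ∈ S, ∃ C ∈ S, A ≠ C ∧ ⁅A, C⁆ = ⊥)
    (hH : Cfsg.IsDegenerateRootSet S → (∀ A ∈ S, ∀ a ∈ A, 0 < orderOf a ∧ orderOf a ≤ 3) →
      ∀ A ∈ S, ∀ B ∈ Cfsg.rankOnePartners S A, ∃ A₀ B₀ : Subgroup G, A₀ ≤ A ∧ B₀ ≤ B ∧
        ∃ (k : Type u) (_ : Field k), 3 < ENat.card k ∧ Cfsg.IsPSL2PairOver k A₀ B₀)
    {A B : Subgroup G} (hA : A ∈ S) (hB : B ∈ Cfsg.rankOnePartners S A) : Cfsg.IsSpecialRankOnePair A B := by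
  by_cases hd : Cfsg.IsDegenerateRootSet S
  · exact CfsgLib.RootSpecial.special_of_deg (deg hS hcomm hd) (hH hd) hA hB.1 hB.2
  · unfold Cfsg.IsDegenerateRootSet at hd
    push Not at hd
    exact (Cfsg.Agent.S5034.result hS ⟨hcomm, ⟨A, hA, B, hB.1, hB.2⟩, hd⟩ hA hB).2

end Cfsg.Agent.S5039
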