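import Cfsg.Statements.S5041
import Mathlib
import Cfsg.Agent.Lib.RootSub.SubClass
import Cfsg.Agent.S5032
import Cfsg.Agent.S5034
-- import your own Cfsg.Agent.* helpers here

set_option autoImplicit false
open Cfsg

namespace Cfsg.Agent.S5041

open Cfsg CfsgLib.RootSub

theorem main {G : Type*} [Group G] {S : Set (Subgroup G)} (hS : Cfsg.IsRootSubgroupClass S)
    (hnd : Cfsg.IsNondegenerateRootSet S) :
    Cfsg.IsConnectedFamily (Cfsg.EAdj S S) S ∧ Cfsg.IsConnectedFamily (Cfsg.DAdj S) S := by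
  have hF := SubClass.nd_not_iso hS hnd
  obtain ⟨A₀, hA₀, B₀, hB₀, h₀⟩ := hnd.2.1
  have hconn : Cfsg.IsConnectedFamily (Cfsg.FAdj S) S :=
    (Cfsg.Agent.S5032.result hS.1 ⟨A₀, hA₀, B₀, hB₀, h₀.ne⟩).mpr ⟨hS.2, A₀, hA₀, hF A₀ hA₀⟩
  have hE : Cfsg.IsConnectedFamily (Cfsg.EAdj S S) S := by
    intro A hA B hB
    induction hconn A hA B hB with
    | refl => exact Relation.ReflTransGen.refl
    | @tail X Y _ hXY ih =>
      obtain ⟨hX, hY, hp⟩ := hXY
      obtain ⟨⟨C, hC, hCY⟩, -⟩ := Cfsg.Agent.S5034.result hS hnd hX ⟨hY, hp⟩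
      have hC' := hC.1.1
      have hK := hCY.2
      have h1 := SubClass.rcc_line hS.1 hF hY hC' hK
      have h2 : C ∈ Cfsg.linePartners S ⁅Y, C⁆ := by
        have h := SubClass.rcc_line hS.1 hF hC' hY (by rw [Subgroup.commutator_comm]; exact hK)
        rwa [Subgroup.commutator_comm] at h
      exact ((ih hX).tail ⟨hX, hC', hC⟩).tail ⟨hC', hK, SubClass.line_symm hK h2⟩ |>.tail ⟨hK, hY, h1⟩
  refine ⟨hE, fun A hA B hB => ?_⟩
  induction hE A hA B hB with
  | refl => exact Relation.ReflTransGen.refl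
  | tail _ h ih => exact (ih h.1).tail ⟨h.1, h.2.1, h.2.2.1.2.1.symm, h.2.2.1.2.2⟩

/-- Let S be a non-degenerate class of abstract root subgroups of G. Then the graph on S joining A to its line partners, and the commuting graph on S, are both connected. -/
theorem result {G : Type*} [Group G] {S : Set (Subgroup G)} (hS : Cfsg.IsRootSubgroupClass S) (hnd : Cfsg.IsNondegenerateRootSet S) :
    Cfsg.IsConnectedFamily (Cfsg.EAdj S S) S ∧ Cfsg.IsConnectedFamily (Cfsg.DAdj S) S := by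
  exact main hS hnd

end Cfsg.Agent.S5041
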