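import Cfsg.Statements.S5042
import Mathlib
import Cfsg.Agent.Lib.RootSub.SubClass
import Cfsg.Agent.S5034
import Cfsg.Agent.S5041
-- import your own Cfsg.Agent.* helpers here

set_option autoImplicit false
open Cfsg

namespace Cfsg.Agent.S5042

open Cfsg CfsgLib.RootSub

theorem main {G : Type*} [Group G] {S : Set (Subgroup G)} (hS : Cfsg.IsRootSubgroupClass S)
    (hnd : Cfsg.IsNondegenerateRootSet S) {A B : Subgroup G} (hA : A ∈ S) (hB : B ∈ Cfsg.rankOnePartners S A) :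
    (⨆ C ∈ Cfsg.linePartners S A, C) ⊔ B = ⊤ := by
  set H := (⨆ C ∈ Cfsg.linePartners S A, C) ⊔ B with hH
  have hF := SubClass.nd_not_iso hS hnd
  obtain ⟨hBS, hAB⟩ := hB
  have hΛ : ∀ C ∈ Cfsg.linePartners S A, C ≤ H := fun C hC =>
    (le_iSup₂ (f := fun (C : Subgroup G) (_ : C ∈ Cfsg.linePartners S A) => C) C hC).trans le_sup_left
  have hBH : B ≤ H := le_sup_right
  -- the member of the line through `A` not opposite to `B`
  obtain ⟨⟨R, hR, hRB⟩, -⟩ := Cfsg.Agent.S5034.result hS hnd hA ⟨hBS, hAB⟩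
  have hRS := hR.1.1
  obtain ⟨D, hD, hDA, hDline⟩ := SubClass.exists_back hS.1 hF hRS (SubClass.line_symm hA hR)
  have hRH : R ≤ H := hΛ R hR
  have hDH : D ≤ H := hΛ D hDline
  -- `A` itself lies in `H`
  have hAH : A ≤ H := by
    rw [← hDA]
    exact Subgroup.commutator_le.mpr fun r hr d hd => by
      rw [commutatorElement_def]
      exact mul_mem (mul_mem (mul_mem (hRH hr) (hDH hd)) (inv_mem (hRH hr))) (inv_mem (hDH hd))
  have conjLE : ∀ (X : Subgroup G) (g : G), g ∈ H → X ≤ H → Cfsg.conjBy X g ≤ H := by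
    intro X g hg hX
    rintro _ ⟨x, hx, rfl⟩
    exact mul_mem (mul_mem hg (hX hx)) (inv_mem hg)
  -- every line partner of `A` is an `H`-conjugate of `A`
  have key : ∀ C ∈ Cfsg.linePartners S A, ∃ h ∈ H, C = Cfsg.conjBy A h := by
    intro C hC
    obtain ⟨⟨R', hR', hR'B⟩, -⟩ := Cfsg.Agent.S5034.result hS hnd hA ⟨hBS, hAB⟩
    -- a member of the line `A C` not opposite to `B`
    obtain ⟨R₀, hR₀m, hR₀⟩ : ∃ R₀ ∈ Cfsg.membersIn S (A ⊔ C), ¬ Cfsg.IsRankOnePair B R₀ := by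
      by_contra hno
      push Not at hno
      exact SubFlip.line_lemma hS.1 (Cfsg.RankOnePair_symm hAB) (hno C ⟨hC.1.1, le_sup_right⟩)
        (fun x hx y hy => SubClass.line_commute hC hx hy)
        (hC.2.2.2 A ⟨hA, le_sup_left⟩ C ⟨hC.1.1, le_sup_right⟩ hC.1.2.1.symm) hC.2 hno
    have hR₀A : R₀ ≠ A := fun e => hR₀ (e ▸ Cfsg.RankOnePair_symm hAB)
    have hsup := SubClass.line_sup_eq hS.1 hF hA hC ⟨hA, le_sup_left⟩ hR₀m hR₀A.symm
    have hR₀line : R₀ ∈ Cfsg.linePartners S A := by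
      refine ⟨⟨hR₀m.1, hR₀A, comm_eq_bot_of_commute fun x hx y hy => ?_⟩, hsup.symm ▸ hC.2⟩
      have hle : A ⊔ C ≤ Subgroup.centralizer ({x} : Set G) := sup_le
        (fun z hz => Subgroup.mem_centralizer_singleton_iff.mpr
          (congrArg Subtype.val ((hS.1.commutative A hA).is_comm.comm ⟨z, hz⟩ ⟨x, hx⟩)))
        (fun z hz => Subgroup.mem_centralizer_singleton_iff.mpr (SubClass.line_commute hC hx hz).symm)
      exact (Subgroup.mem_centralizer_singleton_iff.mp (hle (hR₀m.2 hy))).symm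
    have hBR₀ : ⁅B, R₀⁆ ∈ S := by
      rcases hS.1.pair B hBS R₀ hR₀m.1 with h | h | h
      · exact (SubClass.no_line_commute hS.1 hF hA hBS hAB hR₀line
          (by rw [Subgroup.commutator_comm]; exact h)).elim
      · exact absurd h hR₀
      · exact h.1
    -- `A`, `R₀` and the two opposite members `D₀`, `K` inside `H`
    obtain ⟨D₀, hD₀, hD₀A, hD₀line⟩ := SubClass.exists_back hS.1 hF hR₀m.1 (SubClass.line_symm hA hR₀line)
    have hroot : ∀ a ∈ A, a ≠ 1 → ∀ r ∈ R₀, r ≠ 1 → a * r ≠ 1 ∧ ∃ T ∈ S, a * r ∈ T := by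
      intro a ha ha1 r hr _
      have h1 : a * r ≠ 1 := fun e => by
        refine hR₀A (eq_of_mem_mem hS.1 (hF A hA) hA hR₀m.1 ha ?_ ha1).symm
        rw [eq_inv_of_mul_eq_one_left e]; exact inv_mem hr
      obtain ⟨T, hT, hmem⟩ := hR₀line.2.2.1 (a * r)
        (mul_mem (Subgroup.mem_sup_left ha) (Subgroup.mem_sup_right hr)) h1
      exact ⟨h1, T, hT.1, hmem⟩
    have hflip := SubFlip.flip_eq hS.1 hA hR₀m.1 hBS hAB
      (fun x hx y hy => SubClass.line_commute hR₀line hx hy) (hF R₀ hR₀m.1)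
      (rcc_symm (rcc_of_mem hS.1 hBS hR₀m.1 hBR₀)) hroot
    have hKH : ⁅B, R₀⁆ ≤ H := Subgroup.commutator_le.mpr fun b hb r hr => by
      rw [commutatorElement_def]
      exact mul_mem (mul_mem (mul_mem (hBH hb) (hΛ R₀ hR₀line hr)) (inv_mem (hBH hb))) (inv_mem (hΛ R₀ hR₀line hr))
    have hDH₀ : D₀ ≤ H := hΛ D₀ hD₀line
    have hKD : ⁅⁅B, R₀⁆, A⁆ = R₀ := by rw [Subgroup.commutator_comm]; exact hflip.1
    obtain ⟨-, hset, hAorb, -, -, -⟩ := Cfsg.Agent.S5036.result hS.1 hR₀m.1 hD₀ (hD₀A.symm ▸ hA) hBR₀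
      (by rw [hD₀A]; exact hKD)
    rw [hD₀A] at hset hAorb
    have hsubH : D₀ ⊔ ⁅B, R₀⁆ ≤ H := sup_le hDH₀ hKH
    -- `R₀` is conjugate to `A` in `H`
    obtain ⟨x, hx, ex⟩ : ∃ x ∈ D₀ ⊔ ⁅B, R₀⁆, A = Cfsg.conjBy R₀ x := by
      have : A ∈ {E | ∃ x ∈ D₀ ⊔ ⁅B, R₀⁆, E = Cfsg.conjBy R₀ x} := by
        rw [hAorb]; exact Or.inr rfl
      exact this
    have hR₀conj : R₀ = Cfsg.conjBy A x⁻¹ := by
      rw [ex, conjBy_conjBy, inv_mul_cancel, conjBy_one]
    have hxH : x⁻¹ ∈ H := inv_mem (hsubH hx)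
    -- and so is every point of their line
    obtain ⟨hmem, -, -, -⟩ := Cfsg.Agent.S5029.result hS.1 (hF R₀ hR₀m.1) hR₀m.1 hD₀ (hD₀A.symm ▸ hA)
    rw [hD₀A, sup_comm, hsup] at hmem
    have hCm : C ∈ Cfsg.membersIn S (A ⊔ C) := ⟨hC.1.1, le_sup_right⟩
    rw [hmem] at hCm
    rcases hCm with ⟨d, hd, rfl⟩ | e
    · exact ⟨d * x⁻¹, mul_mem (hDH₀ hd) hxH, (by show Cfsg.conjBy R₀ d = _; rw [hR₀conj, conjBy_conjBy])⟩
    · exact absurd e hC.1.2.1
  have hall : ∀ X ∈ S, ∃ h ∈ H, X = Cfsg.conjBy A h := by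
    intro X hX
    induction (Cfsg.Agent.S5041.result hS hnd).1 A hA X hX with
    | refl => exact ⟨1, one_mem _, conjBy_one.symm⟩
    | @tail Y Z _ hYZ ih =>
      obtain ⟨h, hh, rfl⟩ := ih hYZ.1
      have h1 := SubClass.line_conj hS.1 h⁻¹ hYZ.2.2
      rw [conjBy_conjBy, inv_mul_cancel, conjBy_one] at h1
      obtain ⟨h', hh', e⟩ := key _ h1
      refine ⟨h * h', mul_mem hh hh', ?_⟩
      rw [← conjBy_conjBy, ← e, conjBy_conjBy, mul_inv_cancel, conjBy_one]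
  rw [eq_top_iff, ← hS.1.generates, iSup₂_le_iff]
  intro X hX
  obtain ⟨h, hh, rfl⟩ := hall X hX
  exact conjLE A h hh hAH

/-- Let S be a non-degenerate class of abstract root subgroups of G, A ∈ S and B a rank one partner of A. Then G is generated by the line partners of A together with B. -/
theorem result {G : Type*} [Group G] {S : Set (Subgroup G)} (hS : Cfsg.IsRootSubgroupClass S) (hnd : Cfsg.IsNondegenerateRootSet S)
    {A B : Subgroup G} (hA : A ∈ S) (hB : B ∈ Cfsg.rankOnePartners S A) :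
    (⨆ C ∈ Cfsg.linePartners S A, C) ⊔ B = ⊤ := by
  exact main hS hnd hA hB

end Cfsg.Agent.S5042
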