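import Cfsg.Statements.S5040
import Mathlib
import Cfsg.Agent.Lib.RootSub.SubClass
import Cfsg.Agent.S5042
-- import your own Cfsg.Agent.* helpers here

set_option autoImplicit false
open Cfsg

namespace Cfsg.Agent.S5040

open Cfsg CfsgLib.RootSub
open scoped commutatorElement

/-- The stabiliser of a family of subgroups under conjugation. -/
def famStab {G : Type*} [Group G] (Δ : Set (Subgroup G)) : Subgroup G where
  carrier := {g | (fun A => Cfsg.conjBy A g) '' Δ = Δ}
  one_mem' := by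
    show _ = Δ
    simp only [conjBy_one, Set.image_id']
  mul_mem' {g h} hg hh := by
    show _ = Δ
    have e : (fun A : Subgroup G => Cfsg.conjBy A (g * h)) =
        (fun A => Cfsg.conjBy A g) ∘ fun A => Cfsg.conjBy A h := by
      funext A; exact (conjBy_conjBy _ _).symm
    rw [e, Set.image_comp, hh, hg]
  inv_mem' {g} hg := by
    show _ = Δ
    conv_lhs => rw [← (hg : (fun A => Cfsg.conjBy A g) '' Δ = Δ)]
    rw [Set.image_image]
    simp only [conjBy_conjBy, inv_mul_cancel, conjBy_one, Set.image_id']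

theorem main {G : Type*} [Group G] {S : Set (Subgroup G)} (hS : Cfsg.IsRootSubgroupClass S)
    (hnd : Cfsg.IsNondegenerateRootSet S) {Δ : Set (Subgroup G)} (hΔ : Cfsg.IsWeakTISubset S Δ) :
    Cfsg.IsAbelianFamily Δ := by
  obtain ⟨hsub, -, hne, hTI⟩ := hΔ
  have hF := SubClass.nd_not_iso hS hnd
  -- members fixing some member of `Δ` stabilise `Δ`
  have hfix : ∀ X ∈ Δ, ∀ D ∈ S, ⁅X, D⁆ = ⊥ → D ≤ famStab Δ := by
    intro X hX D hD hc d hd
    by_cases hd1 : d = 1
    · rw [hd1]; exact one_mem _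
    rcases hTI d ⟨hd1, D, hD, hd⟩ with h | h
    · exact h
    · have e : Cfsg.conjBy X d = X := conjBy_eq_self_iff.mpr
        (mem_normalizer_of_commute_all fun x hx => (commute_of_comm_eq_bot hc hx hd).symm)
      exact absurd hX (fun hX' => Set.disjoint_left.mp h ⟨X, hX, e⟩ hX')
  have hmemfix : ∀ X ∈ Δ, X ≤ famStab Δ := fun X hX => hfix X hX X (hsub hX)
    (comm_eq_bot_of_commute fun a ha b hb =>
      congrArg Subtype.val ((hS.1.commutative X (hsub hX)).is_comm.comm ⟨a, ha⟩ ⟨b, hb⟩))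
  have hmove : ∀ g ∈ famStab Δ, ∀ X ∈ Δ, Cfsg.conjBy X g ∈ Δ := fun g hg X hX => by
    have h : Cfsg.conjBy X g ∈ (fun A => Cfsg.conjBy A g) '' Δ := ⟨X, hX, rfl⟩
    rwa [(hg : (fun A => Cfsg.conjBy A g) '' Δ = Δ)] at h
  -- there is no rank one pair inside `Δ`
  have hnopair : ∀ P ∈ Δ, ∀ Q ∈ Δ, ¬ Cfsg.IsRankOnePair P Q := by
    intro P hP Q hQ hp
    apply hne
    have htop : famStab Δ = ⊤ := by
      rw [eq_top_iff, ← Cfsg.Agent.S5042.result hS hnd (hsub hP) (B := Q) ⟨hsub hQ, hp⟩]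
      refine sup_le (iSup₂_le fun C hC => hfix P hP C hC.1.1 hC.1.2.2) (hmemfix Q hQ)
    refine Set.Subset.antisymm hsub fun X hX => ?_
    obtain ⟨g, rfl⟩ := hS.2.2 P (hsub hP) X hX
    exact hmove g (htop ▸ Subgroup.mem_top g) P hP
  intro A hA B hB
  rcases hS.1.pair A (hsub hA) B (hsub hB) with h | h | h
  · exact fun a ha b hb => commute_of_comm_eq_bot h ha hb
  · exact absurd h (hnopair A hA B hB)
  · exfalso
    have hline := SubClass.rcc_line hS.1 hF (hsub hA) (hsub hB) h.1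
    obtain ⟨D, hD, hDA, hDline⟩ := SubClass.exists_back hS.1 hF h.1 hline
    obtain ⟨hp, hset, hCorb, -, -, -⟩ := Cfsg.Agent.S5036.result hS.1 (hsub hA) (hsub hB) h.1 hD
      (by rw [Subgroup.commutator_comm]; exact hDA)
    have hle : B ⊔ D ≤ famStab Δ := sup_le (hmemfix B hB) (hfix A hA D hD hDline.1.2.2)
    obtain ⟨x, hx, ex⟩ := mem_unipotent_iff.mp (right_mem_unipotent hp)
    exact hnopair B hB _ (hmove x (hle hx) B hB) (ex ▸ hp)

/-- Let S be a non-degenerate class of abstract root subgroups of G and Δ a weak TI-subset of S. Then the members of Δ commute with one another elementwise. -/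
theorem result {G : Type*} [Group G] {S : Set (Subgroup G)} (hS : Cfsg.IsRootSubgroupClass S) (hnd : Cfsg.IsNondegenerateRootSet S)
    {Δ : Set (Subgroup G)} (hΔ : Cfsg.IsWeakTISubset S Δ) : Cfsg.IsAbelianFamily Δ := by
  exact main hS hnd hΔ

end Cfsg.Agent.S5040
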