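import Cfsg.Statements.S5043
import Mathlib
import Cfsg.Agent.Lib.RootSub.TransvClass
-- import your own Cfsg.Agent.* helpers here

set_option autoImplicit false
open Matrix
open Cfsg

namespace Cfsg.Agent.S5043

open CfsgLib.RootSub.Transv Matrix in
theorem main (k : Type*) [Field k] (n : ℕ) :
    Cfsg.IsRootSubgroupClass (cls k n) ∧ Cfsg.IsNondegenerateRootSet (cls k n) ∧
      Cfsg.IsKRootSubgroupSet k (cls k n) ∧ Cfsg.IsConnectedFamily (Cfsg.FAdj (cls k n)) (cls k n) := by
  have d02 : (0 : Fin (n + 3)) ≠ 2 := by simp [Fin.ext_iff, Nat.mod_eq_of_lt (show 2 < n + 3 by omega)]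
  have d01 : (0 : Fin (n + 3)) ≠ 1 := by simp [Fin.ext_iff]
  have d12 : (1 : Fin (n + 3)) ≠ 2 := by simp [Fin.ext_iff, Nat.mod_eq_of_lt (show 2 < n + 3 by omega)]
  have m01 := single_mem_cls k n d01
  have m02 := single_mem_cls k n d02
  have m10 := single_mem_cls k n d01.symm
  have m12 := single_mem_cls k n d12
  refine ⟨⟨rootSet k n, ⟨_, m01⟩, fun A hA B hB => conj_of_mem k n hA hB⟩, ⟨?_, ?_, ?_⟩, kRootSet k n, ?_⟩
  · refine ⟨_, m01, _, m02, ?_, commutator_eq_bot _ _ _ _ (dot_pi k n d01.symm) (dot_pi k n d02.symm)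
      (dot_pi k n d01.symm) (dot_pi k n d02.symm)⟩
    intro e
    have h2 := commutator_eq_bot (k := k) _ _ _ _ (dot_pi k n d02.symm) (dot_pi k n d12.symm)
      (dot_pi k n d12.symm) (dot_pi k n d02.symm)
    rw [← e] at h2
    exact dot_pi_self k n 1 (pairings_of_bot k n (pi_ne k n 0) (pi_ne k n 1) (pi_ne k n 1) (pi_ne k n 2)
      (dot_pi k n d01.symm) (dot_pi k n d12.symm) h2).1
  · exact ⟨_, m01, _, m10, (pair (dot_pi k n d01.symm) (dot_pi k n d01) (dot_pi_self k n 1)
      (dot_pi_self k n 0)).1⟩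
  · exact ⟨_, m01, _, m12, mem_commCase k n m01 m12 (pi_ne k n 0) (pi_ne k n 1) (pi_ne k n 2) (pi_ne k n 1)
      (dot_pi k n d01.symm) (dot_pi k n d12.symm) (Or.inl ⟨dot_pi_self k n 1, dot_pi k n d02.symm⟩)⟩
  · intro A hA B hB
    obtain ⟨v, φ, hv, hφ, h, rfl⟩ := repr_cls k n hA
    obtain ⟨v', φ', hv', hφ', h', rfl⟩ := repr_cls k n hB
    obtain ⟨w, ψ, hwψ, hx, hx', hy, hy'⟩ := exists_partner h h' hv hφ hv' hφ'
    have hm := mem_of_pair k n hA hv hφ h hwψ hx hy
    exact (Relation.ReflTransGen.single ⟨hA, hm, (pair h hwψ hx hy).1⟩).tail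
      ⟨hm, hB, (pair hwψ h' hy' hx').1⟩

/-- Let k be a field and n a natural number. In SL_{n+3}(k) (so in every dimension at least 3) the conjugates of the root subgroup of elementary transvections 1 + c E₁₂ (c ∈ k) — that is, the groups of transvections attached to an incident point–hyperplane pair — form a non-degenerate class of abstract k-root subgroups of SL_{n+3}(k) whose graph of rank one pairs is connected. -/
theorem result (k : Type*) [Field k] (n : ℕ) :
    Cfsg.IsRootSubgroupClass {A : Subgroup (Matrix.SpecialLinearGroup (Fin (n + 3)) k) |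
        ∃ g : Matrix.SpecialLinearGroup (Fin (n + 3)) k,
          A = Cfsg.conjBy (Subgroup.closure {t : Matrix.SpecialLinearGroup (Fin (n + 3)) k |
            ∃ c : k, (t : Matrix (Fin (n + 3)) (Fin (n + 3)) k) = Matrix.transvection 0 1 c}) g} ∧
    Cfsg.IsNondegenerateRootSet {A : Subgroup (Matrix.SpecialLinearGroup (Fin (n + 3)) k) |
        ∃ g : Matrix.SpecialLinearGroup (Fin (n + 3)) k,
          A = Cfsg.conjBy (Subgroup.closure {t : Matrix.SpecialLinearGroup (Fin (n + 3)) k |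
            ∃ c : k, (t : Matrix (Fin (n + 3)) (Fin (n + 3)) k) = Matrix.transvection 0 1 c}) g} ∧
    Cfsg.IsKRootSubgroupSet k {A : Subgroup (Matrix.SpecialLinearGroup (Fin (n + 3)) k) |
        ∃ g : Matrix.SpecialLinearGroup (Fin (n + 3)) k,
          A = Cfsg.conjBy (Subgroup.closure {t : Matrix.SpecialLinearGroup (Fin (n + 3)) k |
            ∃ c : k, (t : Matrix (Fin (n + 3)) (Fin (n + 3)) k) = Matrix.transvection 0 1 c}) g} ∧
    Cfsg.IsConnectedFamily (Cfsg.FAdj {A : Subgroup (Matrix.SpecialLinearGroup (Fin (n + 3)) k) |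
        ∃ g : Matrix.SpecialLinearGroup (Fin (n + 3)) k,
          A = Cfsg.conjBy (Subgroup.closure {t : Matrix.SpecialLinearGroup (Fin (n + 3)) k |
            ∃ c : k, (t : Matrix (Fin (n + 3)) (Fin (n + 3)) k) = Matrix.transvection 0 1 c}) g})
      {A : Subgroup (Matrix.SpecialLinearGroup (Fin (n + 3)) k) |
        ∃ g : Matrix.SpecialLinearGroup (Fin (n + 3)) k,
          A = Cfsg.conjBy (Subgroup.closure {t : Matrix.SpecialLinearGroup (Fin (n + 3)) k |
            ∃ c : k, (t : Matrix (Fin (n + 3)) (Fin (n + 3)) k) = Matrix.transvection 0 1 c}) g} := by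
  exact main k n

end Cfsg.Agent.S5043
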