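import Cfsg.Statements.S5046
import Mathlib
import Cfsg.Agent.Lib.RootSub.RootClass
-- import your own Cfsg.Agent.* helpers here

set_option autoImplicit false
open Cfsg

namespace Cfsg.Agent.S5046

/-- Let G be a finite group generated by a set D of root involutions whose odd-order-product graph is connected, and d ∈ D. Then the members e of D with the same commuting members as d are exactly those for which the union of the commuting members of d and the members whose product with d has order 4 equals the corresponding union for e. -/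
theorem result {G : Type*} [Group G] [Finite G] {D : Set G} (hD : Cfsg.IsRootInvolutionSet D)
    (hc : Cfsg.IsConnectedSet (Cfsg.OddAdj D) D) {d : G} (hd : d ∈ D) :
    Cfsg.sameCommutingClass D d =
      {e | e ∈ D ∧ Cfsg.commutingMembers D d ∪ Cfsg.fourPartners D d = Cfsg.commutingMembers D e ∪ Cfsg.fourPartners D e} := by
  have hkey : ∀ {x y : G}, x ∈ D → y ∈ D → (y ∈ Cfsg.commutingMembers D x ∪ Cfsg.fourPartners D x ↔ y ∉ Cfsg.oddPartners D x) := by
    intro x y hx hy
    have hxx := CfsgLib.RootInv.mul_self hD hx
    have hyy := CfsgLib.RootInv.mul_self hD hy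
    constructor
    · intro h hodd
      have hne : x * y ≠ 1 := fun e => hodd.2.1 (by rw [← CfsgLib.RootInv.inv_eq hD hx, inv_eq_of_mul_eq_one_right e])
      rcases h with h | h
      · have h2 : (x * y) ^ 2 = 1 := by
          rw [(show Commute x y from h.2.symm).mul_pow, pow_two, pow_two, hxx, hyy, one_mul]
        exact hne (orderOf_eq_one_iff.mp ((Nat.coprime_two_right.mpr hodd.2.2).eq_one_of_dvd (orderOf_dvd_of_pow_eq_one h2)))
      · have h4 := hodd.2.2
        rw [h.2] at h4
        exact Nat.not_even_iff_odd.mpr h4 ⟨2, rfl⟩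
    · intro h
      rcases hD.pair x hx y hy with e | e | ⟨e, -⟩
      · exact Or.inl ⟨hy, e.symm⟩
      · by_cases hxy : y = x
        · exact Or.inl ⟨hy, by rw [hxy]⟩
        · exact absurd ⟨hy, hxy, e⟩ h
      · exact Or.inr ⟨hy, e⟩
  ext e
  constructor
  · rintro ⟨he, hC⟩
    refine ⟨he, Set.ext fun y => ?_⟩
    have hA : Cfsg.oddPartners D d = Cfsg.oddPartners D e := Set.Subset.antisymm
      (CfsgLib.RootInv.sameOdd_of_sameComm hD hd he hC) (CfsgLib.RootInv.sameOdd_of_sameComm hD he hd hC.symm)
    by_cases hy : y ∈ D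
    · rw [hkey hd hy, hkey he hy, hA]
    · exact ⟨fun h => absurd (h.elim (fun h => h.1) fun h => h.1) hy, fun h => absurd (h.elim (fun h => h.1) fun h => h.1) hy⟩
  · rintro ⟨he, hU⟩
    have hA : Cfsg.oddPartners D d = Cfsg.oddPartners D e := Set.ext fun y => by
      by_cases hy : y ∈ D
      · have h1 := hkey hd hy
        rw [hU, hkey he hy] at h1
        exact (not_iff_not.mp h1).symm
      · exact ⟨fun h => absurd h.1 hy, fun h => absurd h.1 hy⟩
    exact ⟨he, Set.Subset.antisymm (CfsgLib.RootInv.sameComm_of_sameOdd hD hc hd he hA)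
      (CfsgLib.RootInv.sameComm_of_sameOdd hD hc he hd hA.symm)⟩

end Cfsg.Agent.S5046
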