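import Cfsg.Statements.S5047
import Mathlib
import Cfsg.Agent.Lib.RootSub.RootClass
-- import your own Cfsg.Agent.* helpers here

set_option autoImplicit false
open Cfsg

namespace Cfsg.Agent.S5047

/-- Let G be a finite group generated by a set D of root involutions whose odd-order-product graph is connected, a ∈ D, and b a member of D different from a, commuting with a, with ab ∈ D, but not having the same commuting members as a. Then some member x of D with bx of order 4 has ax of order 3. -/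
theorem result {G : Type*} [Group G] [Finite G] {D : Set G} (hD : Cfsg.IsRootInvolutionSet D)
    (hc : Cfsg.IsConnectedSet (Cfsg.OddAdj D) D) {a b : G} (ha : a ∈ D) (hb : b ∈ Cfsg.productPartners D a)
    (hbE : b ∉ Cfsg.sameCommutingClass D a) : ∃ x ∈ Cfsg.fourPartners D b, orderOf (a * x) = 3 := by
  obtain ⟨⟨hbD, hba, hne⟩, hbaD⟩ := hb
  have haa := CfsgLib.RootInv.mul_self hD ha
  have hbb := CfsgLib.RootInv.mul_self hD hbD
  have hb1 := CfsgLib.RootInv.ne_one hD hbD
  have hAab : Cfsg.oddPartners D a ≠ Cfsg.oddPartners D b := fun h => hbE ⟨hbD, Set.Subset.antisymm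
    (CfsgLib.RootInv.sameComm_of_sameOdd hD hc ha hbD h) (CfsgLib.RootInv.sameComm_of_sameOdd hD hc hbD ha h.symm)⟩
  obtain ⟨p, hp, hp'⟩ := CfsgLib.RootInv.exists_diff hD hc ha hbD hAab
  obtain ⟨v, hv, hvb, hav⟩ := CfsgLib.RootInv.flip hD hbD hba.symm (hba ▸ hbaD) hp hp'
  have hvv := CfsgLib.RootInv.mul_self hD hv
  have hbv : b * v = a * v * a⁻¹ := by
    calc b * v = a * v * a * (v * v) := by rw [← hav]; group
      _ = a * v * a⁻¹ := by rw [hvv, mul_one, CfsgLib.RootInv.inv_eq hD ha]
  have hAbv : Cfsg.oddPartners D b ≠ Cfsg.oddPartners D v := by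
    intro h
    have hh := CfsgLib.RootInv.sameComm_of_sameOdd hD hc hbD hv h ⟨ha, hba.symm⟩
    apply hb1
    rw [← hav, hh.2, show v * a * a * v = v * (a * a) * v by group, haa, mul_one, hvv]
  obtain ⟨q, hq, hq'⟩ := CfsgLib.RootInv.exists_diff hD hc hbD hv hAbv
  obtain ⟨x, hx, hxv, hbx⟩ := CfsgLib.RootInv.flip hD hv hvb.symm (hbv ▸ hD.conj_mem v hv a) hq hq'
  refine ⟨x, ⟨hx, ?_⟩, ?_⟩
  · have h2 : (b * x) ^ 2 = v := by rw [← hbx, pow_two]; group
    refine orderOf_eq_prime_pow (p := 2) (n := 1) ?_ ?_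
    · rw [pow_one, h2]; exact CfsgLib.RootInv.ne_one hD hv
    · rw [show 2 ^ (1 + 1) = 2 * 2 from rfl, pow_mul, h2, pow_two, hvv]
  · refine CfsgLib.RootInv.order_three hD ha hx (CfsgLib.RootInv.ne_one hD hv) hb1 hvv ?_ hvb hv ?_ hba.symm ?_ hxv
    · intro e
      rw [e] at hbv
      rw [hbb, hba.symm, mul_inv_cancel_right] at hbv
      exact hb1 hbv.symm
    · calc a * v * a = a * v * a⁻¹ := by rw [CfsgLib.RootInv.inv_eq hD ha]
        _ = b * v := hbv.symm
        _ = v * b := hvb.symm
    · calc x * b * x = b * (b * x * b * x) := by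
            calc x * b * x = (b * b) * x * b * x := by rw [hbb, one_mul]
              _ = _ := by group
        _ = b * v := by rw [hbx]

end Cfsg.Agent.S5047
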