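import Cfsg.Statements.S5049
import Mathlib
import Cfsg.Agent.Lib.Basic
-- import your own Cfsg.Agent.* helpers here

set_option autoImplicit false
open Cfsg

namespace Cfsg.Agent.S5049

/-- Let G be a finite group generated by a set D of odd transpositions (root involutions with no product of order 4), Q = O₂(G), and for a ∈ D let Q_a be the commutator subgroup of Q with a. Then every member of D commuting with a centralizes Q_a; and for b ∈ D with ab of odd order greater than 1, the centralizer of ab in Q is the intersection of the centralizers of a and b in Q. -/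
theorem result {G : Type*} [Group G] [Finite G] {D : Set G} (hD : Cfsg.IsOddTranspositionSet D) {a : G} (ha : a ∈ D) :
    (∀ e ∈ Cfsg.commutingMembers D a, ∀ q ∈ ⁅Cfsg.pCore 2 G, Subgroup.zpowers a⁆, e * q = q * e) ∧
    (∀ b ∈ Cfsg.oddPartners D a,
      Cfsg.pCore 2 G ⊓ Subgroup.centralizer {a * b} = Cfsg.pCore 2 G ⊓ Subgroup.centralizer {a} ⊓ Subgroup.centralizer {b}) := by
  classical
  obtain ⟨hR, h4⟩ := hD
  set Q := Cfsg.pCore 2 G with hQ
  have hQp : IsPGroup 2 Q := CfsgLib.isPGroup_pCore 2
  haveI : Q.Characteristic := CfsgLib.pCore_characteristic 2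
  have hinv : ∀ d ∈ D, d * d = 1 := fun d hd => by
    have := pow_orderOf_eq_one d
    rwa [hR.orderOf_eq d hd, pow_two] at this
  have hinv' : ∀ d ∈ D, d⁻¹ = d := fun d hd => inv_eq_of_mul_eq_one_right (hinv d hd)
  have hQo : ∀ x ∈ Q, ∃ k, orderOf x = 2 ^ k := fun x hx => by
    obtain ⟨k, hk⟩ := IsPGroup.iff_orderOf.mp hQp ⟨x, hx⟩
    exact ⟨k, by rwa [Subgroup.orderOf_mk] at hk⟩
  -- two members whose product has 2-power order commute
  have h2pow : ∀ x ∈ D, ∀ y ∈ D, (∃ k, (x * y) ^ (2 ^ k) = 1) → x * y = y * x := fun x hx y hy ⟨k, hk⟩ => by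
    rcases hR.pair x hx y hy with h | h | ⟨h, -⟩
    · exact h
    · obtain ⟨j, -, hj⟩ := (Nat.dvd_prime_pow Nat.prime_two).mp (orderOf_dvd_of_pow_eq_one hk)
      have hj0 : j = 0 := by
        by_contra hj0
        rw [hj] at h
        exact Nat.not_even_iff_odd.mpr h (Nat.even_pow.mpr ⟨even_two, hj0⟩)
      rw [hj0, pow_zero, orderOf_eq_one_iff] at hj
      rw [hj, eq_inv_of_mul_eq_one_left hj, hinv' y hy, hinv y hy]
    · exact absurd h (h4 x hx y hy)
  have hconj : ∀ q ∈ Q, q * a * q⁻¹ * a⁻¹ ∈ Q := fun q hq => by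
    rw [show q * a * q⁻¹ * a⁻¹ = q * (a * q⁻¹ * a⁻¹) by group]
    exact Q.mul_mem hq ((inferInstance : Q.Normal).conj_mem _ (Q.inv_mem hq) a)
  have hcomm_a : ∀ q ∈ Q, (q * a * q⁻¹) * a = a * (q * a * q⁻¹) := fun q hq => by
    obtain ⟨k, hk⟩ := hQo _ (hconj q hq)
    refine h2pow _ (hR.conj_mem a ha q) a ha ⟨k, ?_⟩
    rw [hinv' a ha] at hk
    rw [← hk, pow_orderOf_eq_one]
  constructor
  · intro e he
    suffices hle : ⁅Q, Subgroup.zpowers a⁆ ≤ Subgroup.centralizer ({e} : Set G) from fun x hx => (Subgroup.mem_centralizer_singleton_iff.mp (hle hx)).symm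
    rw [Subgroup.commutator_le]
    intro q hq y hy
    obtain ⟨i, rfl⟩ := hy
    rw [Subgroup.mem_centralizer_singleton_iff, commutatorElement_def]
    rcases Int.even_or_odd' i with ⟨j, rfl | rfl⟩
    · have : a ^ (2 * j) = 1 := by rw [zpow_mul, zpow_two, hinv a ha, one_zpow]
      simp [this]
    have hp : a ^ (2 * j + 1) = a := by rw [zpow_add_one, zpow_mul, zpow_two, hinv a ha, one_zpow, one_mul]
    simp only [hp]
    set d := q * a * q⁻¹ with hd
    have hdD : d ∈ D := hR.conj_mem a ha q
    have hea : e * a = a * e := he.2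
    have hed : e * d = d * e := by
      refine h2pow e he.1 d hdD ?_
      have h1 : (e * d) ^ 2 ∈ Q := by
        rw [← QuotientGroup.eq_one_iff, QuotientGroup.mk_pow]
        have h2 : ((d : G) : G ⧸ Q) = (a : G ⧸ Q) := by
          rw [QuotientGroup.eq_iff_div_mem, div_eq_mul_inv]
          exact hconj q hq
        rw [QuotientGroup.mk_mul, h2, ← QuotientGroup.mk_mul, ← QuotientGroup.mk_pow,
          (show Commute e a from hea).mul_pow, pow_two, pow_two, hinv e he.1, hinv a ha, one_mul]
        rfl
      obtain ⟨k, hk⟩ := hQo _ h1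
      exact ⟨k + 1, by rw [pow_succ', pow_mul, ← hk, pow_orderOf_eq_one]⟩
    rw [hinv' a ha, mul_assoc d, ← hea, ← mul_assoc, ← hed, mul_assoc]
  · rintro b ⟨hb, hba, hodd⟩
    refine le_antisymm ?_ ?_
    swap
    · rintro q ⟨⟨hq, hqa⟩, hqb⟩
      refine Subgroup.mem_inf.mpr ⟨hq, Subgroup.mem_centralizer_singleton_iff.mpr ?_⟩
      rw [← mul_assoc, Subgroup.mem_centralizer_singleton_iff.mp hqa, mul_assoc, Subgroup.mem_centralizer_singleton_iff.mp hqb, mul_assoc]
    rintro q ⟨hq, hqx⟩
    have hqx' : q * (a * b) = a * b * q := Subgroup.mem_centralizer_singleton_iff.mp hqx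
    set x := a * b with hx
    set d := q * a * q⁻¹ with hd
    have hdD : d ∈ D := hR.conj_mem a ha q
    have hax : a * x * a = x⁻¹ := by
      rw [hx, mul_inv_rev, hinv' a ha, hinv' b hb, ← mul_assoc, hinv a ha, one_mul]
    have hqx2 : q * x⁻¹ * q⁻¹ = x⁻¹ := by
      rw [(show Commute q x from hqx').inv_right.eq, mul_inv_cancel_right]
    have hqinv : q⁻¹ * x * q = x := by rw [mul_assoc, ← hqx', inv_mul_cancel_left]
    have hdx : d * x * d = x⁻¹ := by
      calc d * x * d = q * (a * (q⁻¹ * x * q) * a) * q⁻¹ := by rw [hd]; group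
        _ = x⁻¹ := by rw [hqinv, hax, hqx2]
    set t := d * a with ht
    have hda : d * a = a * d := hcomm_a q hq
    have htt : t * t = 1 := by
      calc t * t = d * (a * d) * a := by rw [ht]; group
        _ = (d * d) * (a * a) := by rw [← hda]; group
        _ = 1 := by rw [hinv d hdD, hinv a ha, one_mul]
    have htx : t * x = x * t := by
      have h1 : a * x = x⁻¹ * a := by rw [← hax, mul_assoc, hinv a ha, mul_one]
      have h2 : d * x⁻¹ = x * d := by
        have h3 : d * x⁻¹ * d = x := by
          calc d * x⁻¹ * d = (d⁻¹ * x * d⁻¹)⁻¹ := by group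
            _ = (x⁻¹)⁻¹ := by rw [hinv' d hdD, hdx]
            _ = x := inv_inv x
        conv_rhs => rw [← h3, mul_assoc, hinv d hdD, mul_one]
      calc t * x = d * (a * x) := mul_assoc d a x
        _ = (d * x⁻¹) * a := by rw [h1]; exact (mul_assoc d x⁻¹ a).symm
        _ = x * t := by rw [h2]; exact mul_assoc x d a
    have hdb : d * b = t * x := by
      rw [ht, hx, mul_assoc d a (a * b), ← mul_assoc a a b, hinv a ha, one_mul]
    have hx1 : x ≠ 1 := fun e => hba (by
      rw [hx] at e
      rw [eq_inv_of_mul_eq_one_left e, hinv' b hb])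
    have ht1 : t = 1 := by
      rcases hR.pair d hdD b hb with hc | hodd' | ⟨hc, -⟩
      · exfalso
        refine hx1 ?_
        have h1 : t * x = t * x⁻¹ := by
          rw [← hdb, hc, hx, mul_inv_rev, hinv' a ha, hinv' b hb]
          calc b * d = b * (t * a) := by rw [ht, mul_assoc d, hinv a ha, mul_one]
            _ = (b * t) * a := by group
            _ = (t * b) * a := by
              congr 1
              have hat : a * t = t * a := by
                rw [ht, ← mul_assoc, ← hda]
              have hb2 : b = a * x := by rw [hx, ← mul_assoc, hinv a ha, one_mul]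
              rw [hb2, mul_assoc, ← htx, ← mul_assoc, hat, mul_assoc]
            _ = t * (b * a) := by group
        have h2 : x ^ 2 = 1 := by
          rw [pow_two]; nth_rewrite 2 [mul_left_cancel h1]; exact mul_inv_cancel x
        have hd2 := orderOf_dvd_of_pow_eq_one h2
        rw [← orderOf_eq_one_iff]
        rcases (Nat.dvd_prime Nat.prime_two).mp hd2 with h | h
        · exact h
        · exact absurd hodd (by rw [h]; decide)
      · obtain ⟨j, hj⟩ := hodd'
        have h1 : (t * x) ^ (2 * j + 1) = 1 := by rw [← hdb, ← hj, pow_orderOf_eq_one]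
        rw [(show Commute t x from htx).mul_pow, pow_succ, pow_mul, pow_two, htt, one_pow, one_mul] at h1
        have h2 : t ^ orderOf x = 1 := by
          rw [eq_inv_of_mul_eq_one_left h1, inv_pow, ← pow_mul, mul_comm, pow_mul, pow_orderOf_eq_one, one_pow, inv_one]
        obtain ⟨i, hi⟩ := hodd
        rw [hi, pow_succ, pow_mul, pow_two, htt, one_pow, one_mul] at h2
        exact h2
      · exact absurd hc (h4 d hdD b hb)
    have hqa : q * a = a * q := by
      have e : d = a := by rw [← hinv' a ha]; exact eq_inv_of_mul_eq_one_left ht1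
      rw [hd] at e
      exact mul_inv_eq_iff_eq_mul.mp e
    refine Subgroup.mem_inf.mpr ⟨Subgroup.mem_inf.mpr ⟨hq, Subgroup.mem_centralizer_singleton_iff.mpr hqa⟩, Subgroup.mem_centralizer_singleton_iff.mpr ?_⟩
    have hb2 : b = a * x := by rw [hx, ← mul_assoc, hinv a ha, one_mul]
    rw [hb2, ← mul_assoc q a x, hqa, mul_assoc a q x, hqx', ← mul_assoc a x q]

end Cfsg.Agent.S5049
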