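import Cfsg.Statements.S5052
import Cfsg.Agent.Lib.OddTrans.L2

set_option autoImplicit false
open Cfsg

namespace Cfsg.Agent.S5052

open CfsgLib.OddTrans in
/-- The pair is simple. -/
theorem classPair {G : Type*} [Group G] [Finite G] {D : Set G} (hD : Cfsg.IsOddTranspositionSet D)
    (hcl : Cfsg.IsRootInvolutionClass D) (hO : Cfsg.pCore 2 G = ⊥) (hZ : Subgroup.center G = ⊥)
    (hDD : (D ∩ Cfsg.commutingProducts D).Nonempty) {d : G} (hd : d ∈ D) : IsClassPair G D := by
  obtain ⟨l, hl, a, ha, b, hb, hab, -, rfl⟩ := id hDD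
  obtain ⟨y, hy⟩ : ∃ y, Cfsg.OddAdj D d y := by
    by_contra hno
    push Not at hno
    refine CfsgLib.RootInv.ne_one hD.1 hd (Subgroup.mem_bot.mp (hZ ▸ Subgroup.mem_center_iff.mpr fun g => ?_))
    exact (commute_of_mem_closure hD (fun s hs => ((commute_or_odd hD hd hs).resolve_right (hno s)).symm)
      (hD.1.generates ▸ Subgroup.mem_top g : g ∈ Subgroup.closure D)).eq
  have hz : Cfsg.twoZCore G = ⊥ := by
    rw [eq_bot_iff]
    intro g hg
    rw [Cfsg.twoZCore, Subgroup.mem_comap, Subgroup.mem_center_iff] at hg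
    rw [← hZ, Subgroup.mem_center_iff]
    intro h
    have h1 := hg (QuotientGroup.mk' _ h)
    rw [← map_mul, ← map_mul] at h1
    have h2 := QuotientGroup.eq.mp h1
    rw [hO, Subgroup.mem_bot] at h2
    exact inv_mul_eq_one.mp h2
  have h := (Cfsg.Agent.S5048.main hD.1 (oddConnected_of_class hD hcl hy) hDD).2
  have := h
  exact ⟨hD, hcl, ⟨a, ha, b, hb, hab, hl⟩,
    ((QuotientGroup.quotientMulEquivOfEq hz).trans QuotientGroup.quotientBot).symm.isSimpleGroup⟩

/-- Let G be a finite group with O₂(G) = 1 and trivial centre, generated by a class D of odd transpositions whose commuting graph is connected, with some product of two different commuting members again in D. Then for each d ∈ D the members of D with the same commuting members as d, together with 1, form a subgroup E(d); and for every x ∈ D with dx of odd order greater than 1, the subgroup generated by E(d) and x is isomorphic to L₂(q) where q is the order of E(d). -/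
theorem result {G : Type*} [Group G] [Finite G] {D : Set G} (hD : Cfsg.IsOddTranspositionSet D) (hcl : Cfsg.IsRootInvolutionClass D)
    (hO : Cfsg.pCore 2 G = ⊥) (hZ : Subgroup.center G = ⊥) (hDD : (D ∩ Cfsg.commutingProducts D).Nonempty)
    (hc : Cfsg.IsConnectedSet (Cfsg.CommAdj D) D) {d : G} (hd : d ∈ D) :
    (Cfsg.sameCommutingSubgroup D d : Set G) = Cfsg.sameCommutingClass D d ∪ {1} ∧
    ∀ x ∈ Cfsg.oddPartners D d, ∃ (F : Type) (_ : Field F) (_ : Fintype F),
      Fintype.card F = Nat.card ↥(Cfsg.sameCommutingSubgroup D d) ∧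
      Nonempty (↥(Subgroup.closure (Cfsg.sameCommutingClass D d ∪ {x})) ≃* Matrix.ProjectiveSpecialLinearGroup (Fin 2) F) := by
  have P := classPair hD hcl hO hZ hDD hd
  have hrig := P.rigid hc
  have heq : (Cfsg.sameCommutingSubgroup D d : Set G) = Cfsg.sameCommutingClass D d ∪ {1} := by
    refine Set.Subset.antisymm (fun g hg => ?_) ?_
    · exact (Subgroup.closure_le (CfsgLib.OddTrans.rootGroup hD hrig.root hd)).mpr (fun b hb => Or.inl hb) hg
    · rintro g (hg | rfl)
      · exact Subgroup.subset_closure hg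
      · exact one_mem _
  refine ⟨heq, fun x hx => ?_⟩
  obtain ⟨F, iF, iFF, hF, hE⟩ := P.block_psl hrig.root hrig.torus (P.hasTriangle hc)
    (d := d) (x := x) ⟨hd, hx.1, hx.2.1.symm, hx.2.2⟩
  refine ⟨F, iF, iFF, ?_, hE⟩
  rw [hF, show Nat.card ↥(Cfsg.sameCommutingSubgroup D d) =
    (Cfsg.sameCommutingSubgroup D d : Set G).ncard from Nat.card_coe_set_eq _, heq, Set.union_singleton,
    Set.ncard_insert_of_notMem (fun h => CfsgLib.RootInv.ne_one hD.1 h.1 rfl) (Set.toFinite _)]

end Cfsg.Agent.S5052
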