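import Cfsg.Statements.S5055
import Cfsg.Agent.Lib.RootStruct.Central

set_option autoImplicit false
open Cfsg

namespace Cfsg.Agent.S5055

/-- The Root Structure Theorem for root involutions. Let G be a finite group with O₂(G) = 1 and trivial centre, generated by a non-degenerate class D of root involutions such that for every d ∈ D the members of D with the same commuting members as d, together with 1, form a subgroup E(d). For d ∈ D let M_d be the subgroup generated by d and the members e ≠ d of D commuting with d with ed ∈ D, let W_d be the set of members of D commuting with d that have no partner with product of odd order among the members commuting with d, and let N_d be the subgroup generated by W_d. Then N_d = M_d; the members of D in N_d are d and the e just described; the commutator subgroup of N_d is E(d); and the members of D central in N_d are exactly those with the same commuting members as d. -/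
theorem result {G : Type*} [Group G] [Finite G] {D : Set G} (hD : Cfsg.IsNondegenerateRootInvolutionSet D)
    (hcl : Cfsg.IsRootInvolutionClass D) (hO : Cfsg.pCore 2 G = ⊥) (hZ : Subgroup.center G = ⊥)
    (hE : ∀ d ∈ D, (Cfsg.sameCommutingSubgroup D d : Set G) = Cfsg.sameCommutingClass D d ∪ {1}) {d : G} (hd : d ∈ D) :
    Subgroup.closure {w | Cfsg.IsIsolatedElem (Cfsg.OddAdj (Cfsg.commutingMembers D d)) (Cfsg.commutingMembers D d) w} =
      Subgroup.closure (Cfsg.productPartners D d ∪ {d}) ∧
    D ∩ (Subgroup.closure (Cfsg.productPartners D d ∪ {d}) : Set G) = Cfsg.productPartners D d ∪ {d} ∧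
    ⁅Subgroup.closure (Cfsg.productPartners D d ∪ {d}), Subgroup.closure (Cfsg.productPartners D d ∪ {d})⁆ =
      Cfsg.sameCommutingSubgroup D d ∧
    Cfsg.sameCommutingClass D d = {e | e ∈ D ∧ e ∈ Subgroup.closure (Cfsg.productPartners D d ∪ {d}) ∧
      ∀ y ∈ Subgroup.closure (Cfsg.productPartners D d ∪ {d}), e * y = y * e} := by
  open CfsgLib.RootStruct in
  have H : Hyp D := ⟨hcl.1, CfsgLib.RootConn.odd_connected hD hcl, hE⟩
  have hW := CfsgLib.RootStruct.iso_eq H hd
  rw [← hW]
  obtain ⟨-, v, hv, h4⟩ := CfsgLib.RootConn.class_partners hD hcl hd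
  refine ⟨rfl, Set.ext fun x => ⟨fun h => CfsgLib.RootStruct.mem_iso_of_mem_closure H.cls h.1 h.2,
    fun h => ⟨CfsgLib.RootStruct.iso_mem h, Subgroup.subset_closure h⟩⟩,
    CfsgLib.RootStruct.commutator_iso H hd hv h4, Set.ext fun e => ⟨fun he => ?_, fun he => ?_⟩⟩
  · refine ⟨he.1, Subgroup.subset_closure (CfsgLib.RootStruct.twins_sub_iso H.cls hd he), fun y hy => ?_⟩
    have h1 : Subgroup.closure (CfsgLib.RootStruct.iso D d) ≤ Subgroup.centralizer {e} :=
      (Subgroup.closure_le _).mpr fun w hw => Subgroup.mem_centralizer_singleton_iff.mpr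
        ((CfsgLib.RootStruct.twin_comm he (CfsgLib.RootStruct.iso_mem hw)).mpr
          (CfsgLib.RootStruct.iso_comm hw)).eq
    exact (Subgroup.mem_centralizer_singleton_iff.mp (h1 hy)).symm
  · obtain ⟨heD, heN, hc⟩ := he
    exact CfsgLib.RootStruct.twin_of_central H hd (CfsgLib.RootStruct.mem_iso_of_mem_closure H.cls heD heN)
      fun y hy => hc y (Subgroup.subset_closure (CfsgLib.RootStruct.line_partner_iso H hd hy))

end Cfsg.Agent.S5055
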