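import Cfsg.Statements.S5057
import Mathlib
-- import your own Cfsg.Agent.* helpers here

set_option autoImplicit false
open Cfsg

namespace Cfsg.Agent.S5057

set_option maxRecDepth 100000 in
private theorem a6_small : ∀ g : alternatingGroup (Fin 6), g ^ 3 = 1 ∨ g ^ 4 = 1 ∨ g ^ 5 = 1 := by decide +kernel

set_option maxRecDepth 100000 in
private theorem a6_conj : ∀ g : alternatingGroup (Fin 6), g * g = 1 → g = 1 ∨ ∃ x : alternatingGroup (Fin 6),
    x * ⟨Equiv.swap 0 1 * Equiv.swap 2 3, Equiv.Perm.mem_alternatingGroup.mpr (by decide)⟩ * x⁻¹ = g := by decide +kernel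

/-- The involutions of the alternating group of degree 6 form a class of root involutions (a single conjugacy class of involutions generating the group, any two of which commute, have product of odd order, or have product of order 4 whose square is again an involution of the class), and the product of any two of them has order at most 5. -/
theorem result :
    Cfsg.IsRootInvolutionClass {g : ↥(alternatingGroup (Fin 6)) | orderOf g = 2} ∧
    ∀ d ∈ {g : ↥(alternatingGroup (Fin 6)) | orderOf g = 2}, ∀ e ∈ {g : ↥(alternatingGroup (Fin 6)) | orderOf g = 2},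
      orderOf (d * e) ≤ 5 := by
    have h2iff : ∀ g : alternatingGroup (Fin 6), orderOf g = 2 ↔ g * g = 1 ∧ g ≠ 1 := fun g => by
      rw [orderOf_eq_prime_iff (p := 2) (hp := ⟨Nat.prime_two⟩), pow_two]
    set D := {g : ↥(alternatingGroup (Fin 6)) | orderOf g = 2} with hD
    have hle5 : ∀ d e : alternatingGroup (Fin 6), orderOf (d * e) ≤ 5 := fun d e => by
      rcases a6_small (d * e) with h | h | h <;>
        exact (Nat.le_of_dvd (by norm_num) (orderOf_dvd_of_pow_eq_one h)).trans (by norm_num)
    refine ⟨?_, fun d _ e _ => hle5 d e⟩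
    set d₀ : alternatingGroup (Fin 6) := ⟨Equiv.swap 0 1 * Equiv.swap 2 3, Equiv.Perm.mem_alternatingGroup.mpr (by decide)⟩ with hd₀
    have hd₀D : d₀ ∈ D := by
      show orderOf d₀ = 2
      rw [h2iff]; decide +kernel
    have hconj : ∀ d ∈ D, ∃ x, x * d₀ * x⁻¹ = d := fun d hd => by
      obtain ⟨h1, h2⟩ := (h2iff d).mp hd
      exact (a6_conj d h1).resolve_left h2
    have hcm : ∀ d ∈ D, ∀ g : alternatingGroup (Fin 6), g * d * g⁻¹ ∈ D := fun d hd g => by
      show orderOf (g * d * g⁻¹) = 2
      rw [← MulAut.conj_apply, MulEquiv.orderOf_eq]; exact hd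
    refine ⟨⟨fun d hd => hd, ?_, hcm, fun a ha b hb => ?_⟩, ⟨d₀, hd₀D⟩, fun a ha b hb => ?_⟩
    · have : IsSimpleGroup (alternatingGroup (Fin 6)) := alternatingGroup.isSimpleGroup (by simp)
      have hn : (Subgroup.closure D).Normal := ⟨fun x hx g => by
        induction hx using Subgroup.closure_induction with
        | mem y hy => exact Subgroup.subset_closure (hcm y hy g)
        | one => simp
        | mul y z _ _ hy hz => rw [show g * (y * z) * g⁻¹ = (g * y * g⁻¹) * (g * z * g⁻¹) by group]; exact mul_mem hy hz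
        | inv y _ hy => rw [show g * y⁻¹ * g⁻¹ = (g * y * g⁻¹)⁻¹ by group]; exact inv_mem hy⟩
      refine hn.eq_bot_or_eq_top.resolve_left fun h => ((h2iff d₀).mp hd₀D).2 ?_
      have := Subgroup.subset_closure (k := D) hd₀D
      rwa [h, SetLike.mem_coe, Subgroup.mem_bot] at this
    · obtain ⟨ha1, ha2⟩ := (h2iff a).mp ha
      obtain ⟨hb1, hb2⟩ := (h2iff b).mp hb
      by_cases hodd : Odd (orderOf (a * b))
      · exact Or.inr (Or.inl hodd)
      have hpos := orderOf_pos (a * b)
      have h5 := hle5 a b
      rw [Nat.not_odd_iff] at hodd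
      have h24 : orderOf (a * b) = 2 ∨ orderOf (a * b) = 4 := by omega
      rcases h24 with h | h
      · left
        have h1 := (h2iff (a * b)).mp h
        calc a * b = a * b * (b * b) * 1 := by rw [hb1]; group
          _ = a * b * (b * b) * (a * a) := by rw [ha1]
          _ = (a * b) * (b * b * (a * a)) := by group
          _ = (a * b) * ((a * b) * (a * b))⁻¹ := by rw [h1.1, hb1, ha1]; group
          _ = b⁻¹ * a⁻¹ := by group
          _ = b * a := by rw [inv_eq_of_mul_eq_one_right hb1, inv_eq_of_mul_eq_one_right ha1]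
      · right; right
        refine ⟨h, ?_⟩
        show orderOf ((a * b) ^ 2) = 2
        rw [orderOf_pow' _ two_ne_zero, h]; rfl
    · obtain ⟨x, rfl⟩ := hconj a ha
      obtain ⟨y, rfl⟩ := hconj b hb
      exact ⟨y * x⁻¹, by group⟩

end Cfsg.Agent.S5057
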