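import Cfsg.Statements.S5058
import Mathlib
import Cfsg.Agent.Lib.RootSub.TransvClass
-- import your own Cfsg.Agent.* helpers here

set_option autoImplicit false
set_option backward.isDefEq.respectTransparency.types false
set_option backward.isDefEq.respectTransparency false
open Matrix
open Cfsg

namespace Cfsg.Agent.S5058

open CfsgLib.RootSub.Transv Matrix
open scoped commutatorElement

section
variable (F : Type*) [Field F] [Fintype F] [CharP F 2] (n : ℕ)

local notation "SLn" => Matrix.SpecialLinearGroup (Fin (n + 3)) F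

/-- The transvections. -/
def transvs : Set (Matrix.SpecialLinearGroup (Fin (n + 3)) F) :=
  {t : SLn | ∃ c : F, c ≠ 0 ∧ ∃ g : SLn,
    ((g⁻¹ * t * g : SLn) : Matrix (Fin (n + 3)) (Fin (n + 3)) F) = Matrix.transvection 0 1 c}

theorem d01 : (0 : Fin (n + 3)) ≠ 1 := by simp [Fin.ext_iff]

theorem d02 : (0 : Fin (n + 3)) ≠ 2 := by
  simp [Fin.ext_iff, Nat.mod_eq_of_lt (show 2 < n + 3 by omega)]

theorem d12 : (1 : Fin (n + 3)) ≠ 2 := by
  simp [Fin.ext_iff, Nat.mod_eq_of_lt (show 2 < n + 3 by omega)]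

/-- The standard transvection. -/
def std (c : F) : SLn := SpecialLinearGroup.transvection (d01 n) c

theorem std_eq (c : F) :
    std F n c = elt (Pi.single 0 1) (Pi.single 1 1) (dot_pi F n (d01 n).symm) c :=
  Subtype.ext (transvection_eq F n 0 1 c)

theorem mem_transvs {t : SLn} :
    t ∈ transvs F n ↔ ∃ c, c ≠ 0 ∧ ∃ g : SLn, t = g * std F n c * g⁻¹ := by
  constructor
  · rintro ⟨c, hc, g, hg⟩
    refine ⟨c, hc, g, ?_⟩
    have e : g⁻¹ * t * g = std F n c := Subtype.ext hg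
    rw [← e]; group
  · rintro ⟨c, hc, g, rfl⟩
    refine ⟨c, hc, g, ?_⟩
    have e : g⁻¹ * (g * std F n c * g⁻¹) * g = std F n c := by group
    rw [e]; rfl

theorem elt_mem_transvs {v φ : Fin (n + 3) → F} (h : φ ⬝ᵥ v = 0) (hm : grp v φ ∈ cls F n) (hv : v ≠ 0)
    (hφ : φ ≠ 0) {c : F} (hc : c ≠ 0) : elt v φ h c ∈ transvs F n := by
  obtain ⟨g, hg⟩ := hm
  rw [base_eq] at hg
  have h1 : elt v φ h c ∈ Cfsg.conjBy (grp (Pi.single 0 1) (Pi.single 1 1)) g := hg ▸ elt_mem v φ h c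
  obtain ⟨x, hx, e⟩ := h1
  obtain ⟨d, rfl⟩ := exists_elt _ _ (dot_pi F n (d01 n).symm) hx
  rw [mem_transvs]
  refine ⟨d, fun hd => hc (elt_eq_one v φ h hv hφ ?_), g, ?_⟩
  · rw [← e, hd, elt_zero, map_one]
  · rw [std_eq, ← e]; rfl

theorem repr_transvs {t : SLn} (ht : t ∈ transvs F n) : ∃ (v φ : Fin (n + 3) → F) (h : φ ⬝ᵥ v = 0) (c : F),
    v ≠ 0 ∧ φ ≠ 0 ∧ c ≠ 0 ∧ grp v φ ∈ cls F n ∧ t = elt v φ h c := by
  obtain ⟨c, hc, g, rfl⟩ := (mem_transvs F n).mp ht
  have h0 := dot_pi F n (d01 n).symm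
  refine ⟨_, _, conj_valid _ _ h0 g, c, mulVec_ne_zero (pi_ne F n 0) g,
    vecMul_ne_zero (pi_ne F n 1) g⁻¹, hc, ?_, ?_⟩
  · rw [← conj_grp _ _ h0 g]
    exact conj_mem_cls F n (one_mem_cls F n) g
  · rw [std_eq]
    exact Subtype.ext (conj_elt _ _ h0 c g)

theorem elt_sq {v φ : Fin (n + 3) → F} (h : φ ⬝ᵥ v = 0) (c : F) : elt v φ h c * elt v φ h c = 1 := by
  rw [← elt_add, CharTwo.add_self_eq_zero, elt_zero]

theorem diag_conj {c : F} (hc : c ≠ 0) :
    std F n c = SpecialLinearGroup.diag2n (d02 n) c hc * std F n 1 *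
      (SpecialLinearGroup.diag2n (d02 n) c hc)⁻¹ := by
  rw [eq_mul_inv_iff_mul_eq]
  apply Subtype.ext
  have a : (1 : Fin (n + 3)) ≠ 0 := (d01 n).symm
  have b : (1 : Fin (n + 3)) ≠ 2 := d12 n
  rw [val_mul, val_mul, SpecialLinearGroup.diag2n_coe]
  show (1 + Matrix.single (0 : Fin (n + 3)) 1 c) * _ = _ * (1 + Matrix.single (0 : Fin (n + 3)) 1 (1 : F))
  rw [Matrix.mul_add, Matrix.add_mul, Matrix.one_mul, Matrix.mul_one]
  congr 1
  ext i j
  rw [Matrix.mul_diagonal, Matrix.diagonal_mul]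
  by_cases hi : i = 0 <;> by_cases hj : j = 1
  · subst hi hj; simp [a, b, d02 n]
  all_goals simp [hi, hj, Matrix.single_apply, eq_comm, Ne.symm]

theorem sl2_sq_eq_one {α β : F} (hα : α ≠ 0) (hβ : β ≠ 0) {j : ℕ}
    (hj : (up α * low β) ^ (2 * j) = (1 : Matrix.SpecialLinearGroup (Fin 2) F)) :
    (up α * low β) ^ j = (1 : Matrix.SpecialLinearGroup (Fin 2) F) := by
  set M : Matrix (Fin 2) (Fin 2) F := !![1 + α * β, α; β, 1] with hM
  have hval : (up α * low β).1 = M := by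
    show (!![1, α; 0, 1] : Matrix (Fin 2) (Fin 2) F) * !![1, 0; β, 1] = M
    ext a b; fin_cases a <;> fin_cases b <;> simp [hM, Matrix.mul_apply]
  have hsq : M * M = (α * β) • M + 1 := by
    have e2 := CharTwo.two_eq_zero (R := F)
    ext a b; fin_cases a <;> fin_cases b <;> simp [hM, Matrix.mul_apply] <;>
      first
        | ring1
        | linear_combination α * e2
        | linear_combination β * e2
        | linear_combination (α * β) * e2
  have hlin : ∀ m : ℕ, ∃ p q : F, M ^ m = p • M + q • 1 := by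
    intro m
    induction m with
    | zero => exact ⟨0, 1, by simp⟩
    | succ m ih =>
      obtain ⟨p, q, e⟩ := ih
      refine ⟨p * (α * β) + q, p, ?_⟩
      rw [pow_succ, e, Matrix.add_mul, smul_mul, smul_mul, hsq, Matrix.one_mul, smul_add, smul_smul,
        add_smul]
      abel
  obtain ⟨p, q, e⟩ := hlin j
  have hval' : ∀ m, ((up α * low β) ^ m).1 = M ^ m := fun m => by
    induction m with
    | zero => rfl
    | succ m ih => rw [pow_succ, val_mul, ih, hval, pow_succ]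
  have h2 : (p • M + q • 1) * (p • M + q • 1) = 1 := by
    rw [← e, ← pow_add, ← two_mul, ← hval', hj]; rfl
  have e10 := congrFun (congrFun h2 1) 0
  have e11 := congrFun (congrFun h2 1) 1
  simp [hM, Matrix.mul_apply] at e10 e11
  have hp : p = 0 := by
    have : p ^ 2 * (α * β * β) = 0 := by
      linear_combination e10 - (p ^ 2 * β + p * q * β) * CharTwo.two_eq_zero (R := F)
    simpa [hα, hβ] using this
  have hq : q = 1 := by
    rw [hp] at e11
    have : (q - 1) ^ 2 = 0 := by linear_combination e11 + (1 - q) * CharTwo.two_eq_zero (R := F)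
    exact sub_eq_zero.mp (pow_eq_zero_iff two_ne_zero |>.mp this)
  apply Subtype.ext
  rw [hval', e, hp, hq]
  simp

theorem sl2_cube (hF : Fintype.card F = 2) {α β : F} (hα : α ≠ 0) (hβ : β ≠ 0) :
    (up α * low β) ^ 3 = (1 : Matrix.SpecialLinearGroup (Fin 2) F) := by
  have h1 : ∀ x : F, x ≠ 0 → x = 1 := by
    intro x hx
    have := FiniteField.pow_card_sub_one_eq_one x hx
    simpa [hF] using this
  rw [h1 α hα, h1 β hβ]
  have e2 := CharTwo.two_eq_zero (R := F)
  apply Subtype.ext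
  show ((!![1, 1; 0, 1] : Matrix (Fin 2) (Fin 2) F) * !![1, 0; 1, 1]) ^ 3 = 1
  rw [pow_three]
  ext a b; fin_cases a <;> fin_cases b <;> simp [Matrix.mul_apply]
  · linear_combination (6 : F) * e2
  · linear_combination (4 : F) * e2
  · linear_combination (4 : F) * e2
  · linear_combination (2 : F) * e2

theorem main : Cfsg.IsRootInvolutionClass (transvs F n) ∧
    (Fintype.card F = 2 → Cfsg.IsThreeFourPlusTranspositionSet (transvs F n)) := by
  have hconjmem : ∀ t ∈ transvs F n, ∀ g : SLn, g * t * g⁻¹ ∈ transvs F n := by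
    intro t ht g
    obtain ⟨c, hc, h, rfl⟩ := (mem_transvs F n).mp ht
    exact (mem_transvs F n).mpr ⟨c, hc, g * h, by group⟩
  have hord : ∀ t ∈ transvs F n, orderOf t = 2 := by
    intro t ht
    obtain ⟨v, φ, h, c, hv, hφ, hc, -, rfl⟩ := repr_transvs F n ht
    exact orderOf_eq_prime (by rw [sq]; exact elt_sq F n h c)
      (fun e => hc (elt_eq_one v φ h hv hφ e))
  have hgen : Subgroup.closure (transvs F n) = ⊤ := by
    rw [eq_top_iff, ← generates F n, iSup₂_le_iff]
    intro A hA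
    obtain ⟨v, φ, hv, hφ, h, rfl⟩ := repr_cls F n hA
    intro x hx
    obtain ⟨c, rfl⟩ := exists_elt v φ h hx
    by_cases hc : c = 0
    · rw [hc, elt_zero]; exact one_mem _
    · exact Subgroup.subset_closure (elt_mem_transvs F n h hA hv hφ hc)
  have hpair : ∀ a ∈ transvs F n, ∀ b ∈ transvs F n,
      (a * b = b * a ∨ Odd (orderOf (a * b)) ∨ (orderOf (a * b) = 4 ∧ (a * b) ^ 2 ∈ transvs F n)) ∧
      (Fintype.card F = 2 → Odd (orderOf (a * b)) → orderOf (a * b) = 1 ∨ orderOf (a * b) = 3) := by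
    intro a ha b hb
    obtain ⟨v, φ, h, c, hv, hφ, hc, hA, rfl⟩ := repr_transvs F n ha
    obtain ⟨w, ψ, h', d, hw, hψ, hd, hB, rfl⟩ := repr_transvs F n hb
    haveI : Finite SLn := Subtype.finite
    have hsqcomm : (elt v φ h c * elt w ψ h' d) ^ 2 = ⁅elt v φ h c, elt w ψ h' d⁆ := by
      rw [commutatorElement_def, inv_eq_of_mul_eq_one_right (elt_sq F n h c),
        inv_eq_of_mul_eq_one_right (elt_sq F n h' d), sq]
      simp only [mul_assoc]
    have hodd4 : orderOf (elt v φ h c * elt w ψ h' d) = 4 →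
        ¬ Odd (orderOf (elt v φ h c * elt w ψ h' d)) := fun e ho => by
      rw [e] at ho; exact absurd ho (by decide)
    have four : ∀ z : SLn, z ∈ transvs F n → (elt v φ h c * elt w ψ h' d) ^ 2 = z →
        orderOf (elt v φ h c * elt w ψ h' d) = 4 := by
      intro z hz e
      have hz2 := hord z hz
      have h1 : z ≠ 1 := fun e' => by rw [e', orderOf_one] at hz2; omega
      have := orderOf_eq_prime_pow (p := 2) (n := 1) (x := elt v φ h c * elt w ψ h' d)
        (by rw [pow_one, e]; exact h1)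
        (by rw [pow_succ, pow_one, pow_mul, e, ← hz2]; exact pow_orderOf_eq_one z)
      simpa using this
    by_cases hx : φ ⬝ᵥ w = 0 <;> by_cases hy : ψ ⬝ᵥ v = 0
    · refine ⟨Or.inl (elt_commute v φ w ψ h h' hx hy c d), fun _ ho => Or.inl ?_⟩
      have h2 : (elt v φ h c * elt w ψ h' d) ^ 2 = 1 := by
        rw [hsqcomm, commutatorElement_eq_one_iff_mul_comm]
        exact elt_commute v φ w ψ h h' hx hy c d
      rcases (Nat.dvd_prime Nat.prime_two).mp (orderOf_dvd_of_pow_eq_one h2) with e | e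
      · exact e
      · rw [e] at ho; exact absurd ho (by decide)
    · have hz : ⁅elt v φ h c, elt w ψ h' d⁆ ∈ transvs F n := by
        rw [elt_comm_right v φ w ψ h h' hx]
        exact elt_mem_transvs F n hx (mem_of_move F n hB h' hx hy h hφ) hw hφ
          (mul_ne_zero (mul_ne_zero (neg_ne_zero.mpr hy) hc) hd)
      exact ⟨Or.inr (Or.inr ⟨four _ hz hsqcomm, hsqcomm ▸ hz⟩),
        fun _ ho => absurd ho (hodd4 (four _ hz hsqcomm))⟩
    · have hz : ⁅elt v φ h c, elt w ψ h' d⁆ ∈ transvs F n := by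
        rw [elt_comm_left v φ w ψ h h' hy]
        exact elt_mem_transvs F n hy (mem_of_move F n hA h hy hx h' hψ) hv hψ
          (mul_ne_zero (mul_ne_zero hx hc) hd)
      exact ⟨Or.inr (Or.inr ⟨four _ hz hsqcomm, hsqcomm ▸ hz⟩),
        fun _ ho => absurd ho (hodd4 (four _ hz hsqcomm))⟩
    · -- a copy of `SL₂`
      have e1 : φ ⬝ᵥ ((ψ ⬝ᵥ v)⁻¹ • v) = 0 := by rw [dotProduct_smul, h, smul_zero]
      have e2 : ψ ⬝ᵥ ((φ ⬝ᵥ w)⁻¹ • w) = 0 := by rw [dotProduct_smul, h', smul_zero]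
      have e3 : φ ⬝ᵥ ((φ ⬝ᵥ w)⁻¹ • w) = 1 := by rw [dotProduct_smul, smul_eq_mul, inv_mul_cancel₀ hx]
      have e4 : ψ ⬝ᵥ ((ψ ⬝ᵥ v)⁻¹ • v) = 1 := by rw [dotProduct_smul, smul_eq_mul, inv_mul_cancel₀ hy]
      have hα : c * (ψ ⬝ᵥ v) ≠ 0 := mul_ne_zero hc hy
      have hβ : d * (φ ⬝ᵥ w) ≠ 0 := mul_ne_zero hd hx
      have ea : elt v φ h c = elt _ φ e1 (c * (ψ ⬝ᵥ v)) := Subtype.ext (by
        rw [coe_elt, coe_elt, smul_vecMulVec, smul_smul, mul_assoc, mul_inv_cancel₀ hy, mul_one])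
      have eb : elt w ψ h' d = elt _ ψ e2 (d * (φ ⬝ᵥ w)) := Subtype.ext (by
        rw [coe_elt, coe_elt, smul_vecMulVec, smul_smul, mul_assoc, mul_inv_cancel₀ hx, mul_one])
      have hHU := row_mul_col e1 e2 e3 e4
      have hord' : orderOf (elt v φ h c * elt w ψ h' d) =
          orderOf (up (c * (ψ ⬝ᵥ v)) * low (d * (φ ⬝ᵥ w))) := by
        rw [ea, eb, ← emb_up hHU e1, ← emb_low hHU e2, ← map_mul]
        exact orderOf_injective _ (emb_injective _ _ hHU) _
      rw [hord']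
      haveI : Finite (Matrix.SpecialLinearGroup (Fin 2) F) := Subtype.finite
      have hodd : Odd (orderOf (up (c * (ψ ⬝ᵥ v)) * low (d * (φ ⬝ᵥ w)))) := by
        by_contra hev
        obtain ⟨j, hj⟩ := even_iff_two_dvd.mp (Nat.not_odd_iff_even.mp hev)
        have hpos := orderOf_pos (up (c * (ψ ⬝ᵥ v)) * low (d * (φ ⬝ᵥ w)))
        have h1 := sl2_sq_eq_one F hα hβ (j := j) (by rw [← hj]; exact pow_orderOf_eq_one _)
        have := Nat.le_of_dvd (by omega) (orderOf_dvd_of_pow_eq_one h1)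
        omega
      exact ⟨Or.inr (Or.inl hodd), fun hF _ =>
        (Nat.dvd_prime Nat.prime_three).mp (orderOf_dvd_of_pow_eq_one (sl2_cube F hF hα hβ))⟩
  have hset : Cfsg.IsRootInvolutionSet (transvs F n) :=
    ⟨hord, hgen, hconjmem, fun a ha b hb => (hpair a ha b hb).1⟩
  refine ⟨⟨hset, ⟨std F n 1, (mem_transvs F n).mpr ⟨1, one_ne_zero, 1, by group⟩⟩, ?_⟩,
    fun hF => ⟨hset, fun a ha b hb => (hpair a ha b hb).2 hF⟩⟩
  intro a ha b hb
  obtain ⟨c, hc, g, rfl⟩ := (mem_transvs F n).mp ha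
  obtain ⟨d, hd, h, rfl⟩ := (mem_transvs F n).mp hb
  rw [diag_conj F n hc, diag_conj F n hd]
  refine ⟨h * SpecialLinearGroup.diag2n (d02 n) d hd *
    (g * SpecialLinearGroup.diag2n (d02 n) c hc)⁻¹, ?_⟩
  group

end

/-- Let F be a finite field of characteristic 2 and n a natural number. Then the transvections of SL_{n+3}(F) (so in every dimension at least 3) (the conjugates of the elementary matrices 1 + c E₁₂, c ≠ 0) form a class of root involutions of SL_{n+3}(F); when F has two elements they form a class of {3,4}⁺-transpositions (every product of odd order has order 1 or 3). -/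
theorem result (F : Type*) [Field F] [Fintype F] [CharP F 2] (n : ℕ) :
    Cfsg.IsRootInvolutionClass {t : Matrix.SpecialLinearGroup (Fin (n + 3)) F | ∃ c : F, c ≠ 0 ∧
        ∃ g : Matrix.SpecialLinearGroup (Fin (n + 3)) F, ((g⁻¹ * t * g : Matrix.SpecialLinearGroup (Fin (n + 3)) F) :
          Matrix (Fin (n + 3)) (Fin (n + 3)) F) = Matrix.transvection 0 1 c} ∧
    (Fintype.card F = 2 → Cfsg.IsThreeFourPlusTranspositionSet {t : Matrix.SpecialLinearGroup (Fin (n + 3)) F | ∃ c : F, c ≠ 0 ∧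
        ∃ g : Matrix.SpecialLinearGroup (Fin (n + 3)) F, ((g⁻¹ * t * g : Matrix.SpecialLinearGroup (Fin (n + 3)) F) :
          Matrix (Fin (n + 3)) (Fin (n + 3)) F) = Matrix.transvection 0 1 c}) := by
  exact main F n

end Cfsg.Agent.S5058
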