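import Cfsg.Statements.S5059
import Mathlib
-- import your own Cfsg.Agent.* helpers here

set_option autoImplicit false
universe u
open Cfsg

namespace Cfsg.Agent.S5059

/-- Let k be a field of characteristic not 2 with k not of order 3, M a finite-dimensional k-vector space and G ≤ GL(M) such that (G, M) is a quadratic pair (M irreducible for G, and G generated by its quadratically acting elements σ whose scalar family 1 + c(σ − 1), c ∈ k, lies in G). Write 𝒬_d for the quadratic elements of G of minimal commutator rank, E(σ) for the subgroup generated by the members of 𝒬_d with the same fixed space and commutator space as σ, and Σ for the set of these subgroups. Then for σ ∈ 𝒬_d the subgroup E(σ) consists exactly of those members together with the identity, it is abelian, and if k has prime characteristic p every element of E(σ) has order dividing p. -/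
theorem result {k : Type u} [Field k] (hk2 : ringChar k ≠ 2) (hk3 : Nat.card k ≠ 3)
    {M : Type u} [AddCommGroup M] [Module k M] [FiniteDimensional k M]
    {G : Subgroup (LinearMap.GeneralLinearGroup k M)} (hG : Cfsg.IsQuadraticPair G)
    {σ : LinearMap.GeneralLinearGroup k M} (hσ : σ ∈ Cfsg.minimalQuadraticElements G) :
    (Cfsg.sameActionSubgroup G σ : Set (LinearMap.GeneralLinearGroup k M)) = Cfsg.sameActionClass G σ ∪ {1} ∧
    IsMulCommutative ↥(Cfsg.sameActionSubgroup G σ) ∧
    (∀ p : ℕ, p.Prime → ringChar k = p → ∀ x ∈ Cfsg.sameActionSubgroup G σ, x ^ p = 1) := by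
  classical
  obtain ⟨hσQ, hσmin⟩ := hσ
  set E := Cfsg.sameActionClass G σ with hE
  have hsq : ∀ {f : M →ₗ[k] M}, LinearMap.range f ≤ LinearMap.range ((σ : M →ₗ[k] M) - 1) → ∀ {g : M →ₗ[k] M}, LinearMap.ker ((σ : M →ₗ[k] M) - 1) ≤ LinearMap.ker g → g * f = 0 := fun {f} hf {g} hg => by
    refine LinearMap.ext fun m => ?_
    have h1 : (f m) ∈ LinearMap.ker g := by
      refine hg ?_
      obtain ⟨m', hm'⟩ := hf (LinearMap.mem_range_self f m)
      rw [LinearMap.mem_ker, ← hm']
      exact LinearMap.congr_fun hσQ.2.1.1 m'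
    simpa using h1
  have hmul : ∀ {x y : LinearMap.GeneralLinearGroup k M}, x ∈ E → y ∈ E → ((x : M →ₗ[k] M) - 1) * ((y : M →ₗ[k] M) - 1) = 0 :=
    fun {x y} hx hy => hsq hy.2.2.le hx.2.1.ge
  -- closure under products
  have hprod : ∀ {x y : LinearMap.GeneralLinearGroup k M}, x ∈ E → y ∈ E → x * y ∈ E ∪ {1} := by
    intro x y hx hy
    have e : ((x * y : LinearMap.GeneralLinearGroup k M) : M →ₗ[k] M) - 1 = ((x : M →ₗ[k] M) - 1) + ((y : M →ₗ[k] M) - 1) := by
      have h := hmul hx hy
      rw [sub_mul, mul_sub, one_mul, mul_one, sub_eq_zero] at h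
      rw [Units.val_mul, eq_add_of_sub_eq h]
      abel
    by_cases h0 : ((x * y : LinearMap.GeneralLinearGroup k M) : M →ₗ[k] M) - 1 = 0
    · exact Or.inr (Units.ext (sub_eq_zero.mp h0))
    left
    have hker : LinearMap.ker ((σ : M →ₗ[k] M) - 1) ≤ LinearMap.ker (((x * y : LinearMap.GeneralLinearGroup k M) : M →ₗ[k] M) - 1) := fun m hm => by
      have h1 : ((x : M →ₗ[k] M) - 1) m = 0 := LinearMap.mem_ker.mp (hx.2.1.ge hm)
      have h2 : ((y : M →ₗ[k] M) - 1) m = 0 := LinearMap.mem_ker.mp (hy.2.1.ge hm)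
      rw [LinearMap.mem_ker, e, LinearMap.add_apply, h1, h2, add_zero]
    have hran : LinearMap.range (((x * y : LinearMap.GeneralLinearGroup k M) : M →ₗ[k] M) - 1) ≤ LinearMap.range ((σ : M →ₗ[k] M) - 1) := by
      rintro _ ⟨m, rfl⟩
      rw [e, LinearMap.add_apply]
      exact Submodule.add_mem _ (hx.2.2.le (LinearMap.mem_range_self _ m)) (hy.2.2.le (LinearMap.mem_range_self _ m))
    have hQ : x * y ∈ Cfsg.quadraticElements G := by
      refine ⟨G.mul_mem hx.1.1.1 hy.1.1.1, ⟨hsq hran hker, h0⟩, ?_⟩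
      rintro τ ⟨c, hc⟩
      have mk : ∀ f : M →ₗ[k] M, f * f = 0 → ∃ u : LinearMap.GeneralLinearGroup k M, (u : M →ₗ[k] M) = 1 + c • f := fun f hf => by
        have h0 : (c • f) * (c • f) = 0 := by rw [smul_mul_smul_comm, hf, smul_zero]
        exact ⟨⟨1 + c • f, 1 - c • f, by rw [show (1 + c • f) * (1 - c • f) = 1 - (c • f) * (c • f) by generalize c • f = g; noncomm_ring, h0, sub_zero],
          by rw [show (1 - c • f) * (1 + c • f) = 1 - (c • f) * (c • f) by generalize c • f = g; noncomm_ring, h0, sub_zero]⟩, rfl⟩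
      obtain ⟨u, hu⟩ := mk _ hx.1.1.2.1.1
      obtain ⟨v, hv⟩ := mk _ hy.1.1.2.1.1
      have : τ = u * v := Units.ext (by
        rw [hc, e, Units.val_mul u v, hu, hv, mul_add, mul_one, add_mul, one_mul, smul_mul_smul_comm, hmul hx hy, smul_zero, add_zero, smul_add, add_assoc])
      rw [this]
      exact G.mul_mem (hx.1.1.2.2 ⟨c, hu⟩) (hy.1.1.2.2 ⟨c, hv⟩)
    have hreq : LinearMap.range (((x * y : LinearMap.GeneralLinearGroup k M) : M →ₗ[k] M) - 1) = LinearMap.range ((σ : M →ₗ[k] M) - 1) :=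
      Submodule.eq_of_le_of_finrank_le hran (hσmin _ hQ)
    have hkeq : LinearMap.ker (((x * y : LinearMap.GeneralLinearGroup k M) : M →ₗ[k] M) - 1) = LinearMap.ker ((σ : M →ₗ[k] M) - 1) := by
      refine (Submodule.eq_of_le_of_finrank_le hker ?_).symm
      have h1 := LinearMap.finrank_range_add_finrank_ker (((x * y : LinearMap.GeneralLinearGroup k M) : M →ₗ[k] M) - 1)
      have h2 := LinearMap.finrank_range_add_finrank_ker ((σ : M →ₗ[k] M) - 1)
      rw [hreq] at h1
      omega
    refine ⟨⟨hQ, fun τ hτ => ?_⟩, hkeq, hreq⟩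
    show Module.finrank k _ ≤ _
    rw [hreq]
    exact hσmin τ hτ
  have hinvE : ∀ {x : LinearMap.GeneralLinearGroup k M}, x ∈ E → x⁻¹ ∈ E := by
    intro x hx
    have e : ((x⁻¹ : LinearMap.GeneralLinearGroup k M) : M →ₗ[k] M) - 1 = -((x : M →ₗ[k] M) - 1) := by
      have h1 : (x : M →ₗ[k] M) * (1 - ((x : M →ₗ[k] M) - 1)) = 1 := by
        have h := hx.1.1.2.1.1
        calc (x : M →ₗ[k] M) * (1 - ((x : M →ₗ[k] M) - 1)) = (1 + ((x : M →ₗ[k] M) - 1)) * (1 - ((x : M →ₗ[k] M) - 1)) := by rw [add_sub_cancel]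
          _ = 1 - ((x : M →ₗ[k] M) - 1) * ((x : M →ₗ[k] M) - 1) := by noncomm_ring
          _ = 1 := by rw [h, sub_zero]
      rw [Units.inv_eq_of_mul_eq_one_right h1]
      abel
    have hkeq : LinearMap.ker (((x⁻¹ : LinearMap.GeneralLinearGroup k M) : M →ₗ[k] M) - 1) = LinearMap.ker ((σ : M →ₗ[k] M) - 1) := by
      rw [← hx.2.1, e]; ext m; simp only [LinearMap.mem_ker, LinearMap.neg_apply, neg_eq_zero]
    have hreq : LinearMap.range (((x⁻¹ : LinearMap.GeneralLinearGroup k M) : M →ₗ[k] M) - 1) = LinearMap.range ((σ : M →ₗ[k] M) - 1) := by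
      rw [← hx.2.2, e, LinearMap.range_neg]
    refine ⟨⟨⟨G.inv_mem hx.1.1.1, ⟨?_, ?_⟩, ?_⟩, fun τ hτ => ?_⟩, hkeq, hreq⟩
    · rw [e, neg_mul_neg]; exact hx.1.1.2.1.1
    · rw [e, neg_ne_zero]; exact hx.1.1.2.1.2
    · rintro τ ⟨c, hc⟩
      exact hx.1.1.2.2 ⟨-c, by rw [hc, e, smul_neg, neg_smul]⟩
    · show Module.finrank k _ ≤ _
      rw [hreq]
      exact hσmin τ hτ
  have hset : ∀ x ∈ Cfsg.sameActionSubgroup G σ, x ∈ E ∪ {1} := by
    intro x hx
    induction hx using Subgroup.closure_induction with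
    | mem y hy => exact Or.inl hy
    | one => exact Or.inr rfl
    | mul y z _ _ hy hz =>
      rcases hy with hy | hy
      · rcases hz with hz | hz
        · exact hprod hy hz
        · rw [Set.mem_singleton_iff] at hz
          rw [hz, mul_one]; exact Or.inl hy
      · rw [Set.mem_singleton_iff] at hy
        rw [hy, one_mul]; exact hz
    | inv y _ hy =>
      rcases hy with hy | hy
      · exact Or.inl (hinvE hy)
      · rw [Set.mem_singleton_iff] at hy
        rw [hy, inv_one]; exact Or.inr rfl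
  refine ⟨Set.eq_of_subset_of_subset hset ?_, ⟨⟨fun x y => Subtype.ext ?_⟩⟩, ?_⟩
  · rintro x (hx | hx)
    · exact Subgroup.subset_closure hx
    · rw [Set.mem_singleton_iff] at hx
      rw [hx]; exact Subgroup.one_mem _
  · show (x : LinearMap.GeneralLinearGroup k M) * y = y * x
    rcases hset _ x.2 with hx | hx
    · rcases hset _ y.2 with hy | hy
      · refine Units.ext ?_
        have h1 := hmul hx hy
        have h2 := hmul hy hx
        rw [sub_mul, mul_sub, one_mul, mul_one, sub_eq_zero] at h1 h2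
        rw [Units.val_mul, Units.val_mul, eq_add_of_sub_eq h1, eq_add_of_sub_eq h2]
        abel
      · rw [Set.mem_singleton_iff] at hy
        rw [hy, mul_one, one_mul]
    · rw [Set.mem_singleton_iff] at hx
      rw [hx, mul_one, one_mul]
  · intro p hp hchar x hx
    rcases hset x hx with hx | hx
    · refine Units.ext ?_
      have hn : ∀ n : ℕ, (x : M →ₗ[k] M) ^ n = 1 + n • ((x : M →ₗ[k] M) - 1) := fun n => by
        induction n with
        | zero => simp
        | succ n ih =>
          calc (x : M →ₗ[k] M) ^ (n + 1) = (1 + n • ((x : M →ₗ[k] M) - 1)) * (1 + ((x : M →ₗ[k] M) - 1)) := by rw [pow_succ, ih, add_sub_cancel]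
            _ = 1 + (n + 1) • ((x : M →ₗ[k] M) - 1) + n • (((x : M →ₗ[k] M) - 1) * ((x : M →ₗ[k] M) - 1)) := by
              generalize (x : M →ₗ[k] M) - 1 = f
              rw [mul_add, mul_one, add_mul, one_mul, smul_mul_assoc, succ_nsmul]
              abel
            _ = 1 + (n + 1) • ((x : M →ₗ[k] M) - 1) := by rw [hx.1.1.2.1.1, smul_zero, add_zero]
      haveI : CharP k p := hchar ▸ ringChar.charP k
      rw [Units.val_pow_eq_pow_val, hn p, ← Nat.cast_smul_eq_nsmul k, CharP.cast_eq_zero, zero_smul, add_zero, Units.val_one]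
    · rw [Set.mem_singleton_iff] at hx
      rw [hx, one_pow]

end Cfsg.Agent.S5059
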