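import Cfsg.Statements.S5064
import Mathlib
import Cfsg.Agent.Lib.RootSub.QP.Classes
-- import your own Cfsg.Agent.* helpers here

set_option autoImplicit false
universe u
open Cfsg

namespace Cfsg.Agent.S5064

/-- Let k be a field of characteristic not 2 with k not of order 3, M a finite-dimensional k-vector space and G ≤ GL(M) such that (G, M) is a quadratic pair (M irreducible for G, and G generated by its quadratically acting elements σ whose scalar family 1 + c(σ − 1), c ∈ k, lies in G). Write 𝒬_d for the quadratic elements of G of minimal commutator rank, E(σ) for the subgroup generated by the members of 𝒬_d with the same fixed space and commutator space as σ, and Σ for the set of these subgroups. If σ, τ ∈ 𝒬_d and the subgroup H generated by their two scalar families does not act unipotently on M, then H is isomorphic to SL₂ over a simple algebraic extension k(λ) of k. -/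
theorem result {k : Type u} [Field k] (hk2 : ringChar k ≠ 2) (hk3 : Nat.card k ≠ 3)
    {M : Type u} [AddCommGroup M] [Module k M] [FiniteDimensional k M]
    {G : Subgroup (LinearMap.GeneralLinearGroup k M)} (hG : Cfsg.IsQuadraticPair G)
    {σ τ : LinearMap.GeneralLinearGroup k M} (hσ : σ ∈ Cfsg.minimalQuadraticElements G) (hτ : τ ∈ Cfsg.minimalQuadraticElements G)
    (hH : ¬ Cfsg.IsUnipotentOn (Subgroup.closure (Cfsg.scalarFamily σ ∪ Cfsg.scalarFamily τ))) :
    ∃ (K : Type u) (_ : Field K) (_ : Algebra k K) (lam : K), IsAlgebraic k lam ∧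
      IntermediateField.adjoin k ({lam} : Set K) = ⊤ ∧
      Nonempty (↥(Subgroup.closure (Cfsg.scalarFamily σ ∪ Cfsg.scalarFamily τ)) ≃* Matrix.SpecialLinearGroup (Fin 2) K) := by
  have hs := (CfsgLib.QP.mem_minimal_iff.mp hσ).1.sq
  have ht := (CfsgLib.QP.mem_minimal_iff.mp hτ).1.sq
  have hle : Subgroup.closure (Cfsg.scalarFamily σ ∪ Cfsg.scalarFamily τ) ≤
      Cfsg.sameActionSubgroup G σ ⊔ Cfsg.sameActionSubgroup G τ :=
    (Subgroup.closure_le _).mpr (Set.union_subset ((CfsgLib.QP.scalarFamily_subset hσ).trans (SetLike.coe_subset_coe.mpr le_sup_left))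
      ((CfsgLib.QP.scalarFamily_subset hτ).trans (SetLike.coe_subset_coe.mpr le_sup_right)))
  have hnil : ¬ IsNilpotent (((σ : Module.End k M) - 1) * ((τ : Module.End k M) - 1) +
      ((τ : Module.End k M) - 1) * ((σ : Module.End k M) - 1)) := fun hn =>
    hH (CfsgLib.QP.IsUnipotentOn_mono hle (CfsgLib.QP.unipotent_classes hk2 hk3 hσ hτ hn))
  obtain ⟨D⟩ := CfsgLib.QP.oppData hk2 hk3 (CfsgLib.QP.mem_minimal_iff.mp hσ) (CfsgLib.QP.mem_minimal_iff.mp hτ) hnil
  haveI := Fact.mk D.irr
  refine ⟨AdjoinRoot D.P, inferInstance, inferInstance, AdjoinRoot.root D.P, AdjoinRoot.isAlgebraic_root D.irr.ne_zero, ?_, ?_⟩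
  · rw [eq_top_iff]
    intro x _
    exact IntermediateField.algebra_adjoin_le_adjoin _ _ (AdjoinRoot.adjoinRoot_eq_top (f := D.P) ▸ Algebra.mem_top)
  · have e : Subgroup.closure (Cfsg.scalarFamily σ ∪ Cfsg.scalarFamily τ) = D.φ.range := by
      rw [D.range_eq, CfsgLib.QP.famGroup, CfsgLib.QP.scalarFamily_eq σ hs, CfsgLib.QP.scalarFamily_eq τ ht]
    rw [e]
    exact ⟨(MonoidHom.ofInjective D.inj).symm⟩

end Cfsg.Agent.S5064
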