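import Cfsg.Statements.S5067
import Mathlib
-- import your own Cfsg.Agent.* helpers here

set_option autoImplicit false
open Cfsg

namespace Cfsg.Agent.S5067

open scoped commutatorElement

private theorem class_lt {P : Type*} [Group P] [Group.IsNilpotent P] (hna : ¬ IsMulCommutative P) (E F : Subgroup P)
    (hE : IsMulCommutative ↥E) :
    Group.nilpotencyClass ↥(Subgroup.normalClosure (E : Set P)) < Group.nilpotencyClass P := by
  set γ : ℕ → Subgroup P := fun n => (⊤ : Subgroup P).lowerCentralSeries n with hγ
  have hanti : ∀ {m n}, m ≤ n → γ n ≤ γ m := fun h => Subgroup.lowerCentralSeries_antitone _ h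
  have hn1 : (γ 1).Normal := inferInstance
  have hn2 : (γ 2).Normal := inferInstance
  have hsupn : (E ⊔ γ 1).Normal := ⟨fun x hx g => by
    have h1 : g * x * g⁻¹ * x⁻¹ ∈ γ 1 := by
      have h : g * x * g⁻¹ * x⁻¹ ∈ ⁅(⊤ : Subgroup P), (⊤ : Subgroup P)⁆ :=
        Subgroup.commutator_mem_commutator (Subgroup.mem_top g) (Subgroup.mem_top x)
      exact h
    have h2 := mul_mem (Subgroup.mem_sup_right (S := E) h1) hx
    rwa [inv_mul_cancel_right] at h2⟩
  set N := Subgroup.normalClosure (E : Set P) with hN
  have hNle : N ≤ E ⊔ γ 1 := Subgroup.normalClosure_le_normal (fun x hx => Subgroup.mem_sup_left hx)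
  -- modulo `γ 2` the subgroup is commutative
  let π := QuotientGroup.mk' (γ 2)
  have hcenter : ∀ x ∈ γ 1, ∀ y : P, π x * π y = π y * π x := fun x hx y => by
    have h : ⁅x, y⁆ ∈ γ 2 := Subgroup.commutator_mem_commutator hx (Subgroup.mem_top y)
    have h1 : π ⁅x, y⁆ = 1 := (QuotientGroup.eq_one_iff _).mpr h
    rw [map_commutatorElement, commutatorElement_eq_one_iff_mul_comm] at h1
    exact h1
  have hbase : ⁅N, N⁆ ≤ γ 2 := by
    rw [Subgroup.commutator_le]
    intro x hx y hy
    obtain ⟨e, he, u, hu, rfl⟩ := Subgroup.mem_sup_of_normal_right.mp (hNle hx)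
    obtain ⟨f, hf, v, hv, rfl⟩ := Subgroup.mem_sup_of_normal_right.mp (hNle hy)
    refine (QuotientGroup.eq_one_iff _).mp (show π ⁅e * u, f * v⁆ = 1 from ?_)
    rw [map_commutatorElement, commutatorElement_eq_one_iff_mul_comm, map_mul, map_mul]
    have hef : π e * π f = π f * π e := by
      rw [← map_mul, ← map_mul, show e * f = f * e from congrArg Subtype.val (hE.is_comm.comm (⟨e, he⟩ : E) ⟨f, hf⟩)]
    calc π e * π u * (π f * π v) = π e * (π u * π f) * π v := by group
      _ = π e * (π f * π u) * π v := by rw [hcenter u hu]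
      _ = (π e * π f) * (π u * π v) := by group
      _ = (π f * π e) * (π v * π u) := by rw [hef, hcenter u hu v]
      _ = π f * (π e * π v) * π u := by group
      _ = π f * (π v * π e) * π u := by rw [← hcenter v hv e]
      _ = _ := by group
  have hstep : ∀ n, N.lowerCentralSeries (n + 1) ≤ γ (n + 2) := by
    intro n
    induction n with
    | zero => exact hbase
    | succ n ih =>
      rw [Subgroup.lowerCentralSeries_succ]
      exact Subgroup.commutator_mono ih le_top
  set c := Group.nilpotencyClass P with hc
  have hc2 : 2 ≤ c := by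
    by_contra hlt
    refine hna ⟨⟨fun a b => ?_⟩⟩
    have h1 : γ 1 = ⊥ := le_antisymm ((hanti (show Group.nilpotencyClass P ≤ 1 by omega)).trans
      (le_of_eq Subgroup.lowerCentralSeries_nilpotencyClass)) bot_le
    have h : ⁅a, b⁆ ∈ γ 1 := Subgroup.commutator_mem_commutator (Subgroup.mem_top a) (Subgroup.mem_top b)
    rw [h1, Subgroup.mem_bot, commutatorElement_eq_one_iff_mul_comm] at h
    exact h
  have hbot : N.lowerCentralSeries (c - 1) = ⊥ := by
    obtain ⟨m, hm⟩ := Nat.exists_eq_add_of_le hc2
    rw [show c - 1 = m + 1 by omega, eq_bot_iff]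
    refine (hstep m).trans ?_
    rw [← Subgroup.lowerCentralSeries_nilpotencyClass (G := P), ← hc, hm, Nat.add_comm]
  have hbot' : (⊤ : Subgroup N).lowerCentralSeries (c - 1) = ⊥ := by
    apply Subgroup.map_injective N.subtype_injective
    rw [Subgroup.top_subtype_lowerCentralSeries, hbot, Subgroup.map_bot]
  have hle : Group.nilpotencyClass N ≤ c - 1 := by
    classical
    rw [← Subgroup.lowerCentralSeries_length_eq_nilpotencyClass]
    exact Nat.find_min' _ hbot'
  omega

/-- Let P be a non-abelian nilpotent p-group (every element of p-power order; P possibly infinite) generated by two abelian subgroups E and F. Then the normal closure of E in P, and likewise that of F, has nilpotency class strictly smaller than that of P. -/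
theorem result {P : Type*} [Group P] {p : ℕ} [Fact p.Prime] (hP : IsPGroup p P) [Group.IsNilpotent P]
    (hna : ¬ IsMulCommutative P) {E F : Subgroup P} (hE : IsMulCommutative ↥E) (hF : IsMulCommutative ↥F) (hgen : E ⊔ F = ⊤) :
    Group.nilpotencyClass ↥(Subgroup.normalClosure (E : Set P)) < Group.nilpotencyClass P ∧
    Group.nilpotencyClass ↥(Subgroup.normalClosure (F : Set P)) < Group.nilpotencyClass P := by
    exact ⟨class_lt hna E F hE, class_lt hna F E hF⟩

end Cfsg.Agent.S5067
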