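import Cfsg.Statements.S5069
import Mathlib
import Cfsg.Agent.Lib.RootSub.QP.Comp
-- import your own Cfsg.Agent.* helpers here

set_option autoImplicit false
universe u
open Cfsg

namespace Cfsg.Agent.S5069

/-- Let k be a field of characteristic not 2 with k not of order 3, M a finite-dimensional k-vector space and G ≤ GL(M) such that (G, M) is a quadratic pair (M irreducible for G, and G generated by its quadratically acting elements σ whose scalar family 1 + c(σ − 1), c ∈ k, lies in G). Write 𝒬_d for the quadratic elements of G of minimal commutator rank, E(σ) for the subgroup generated by the members of 𝒬_d with the same fixed space and commutator space as σ, and Σ for the set of these subgroups. Then Σ is a disjoint union of finitely many parts Σ₁, …, Σ_r such that the subgroups G_i generated by the Σ_i commute pairwise, each G_i is quasisimple, and inside G_i the members of Σ_i form a class of abstract root subgroups in which every rank one pair A, B contains subgroups A₀ ≤ A, B₀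 ≤ B generating an image of SL₂(k₁) with central kernel on unitriangular subgroups for some field k₁ with at least four elements. -/
theorem result {k : Type u} [Field k] (hk2 : ringChar k ≠ 2) (hk3 : Nat.card k ≠ 3)
    {M : Type u} [AddCommGroup M] [Module k M] [FiniteDimensional k M]
    {G : Subgroup (LinearMap.GeneralLinearGroup k M)} (hG : Cfsg.IsQuadraticPair G) :
    ∃ (r : ℕ) (part : Fin r → Set (Subgroup (LinearMap.GeneralLinearGroup k M))),
      (⋃ i, part i) = Cfsg.quadraticRootSubgroups G ∧ (∀ i j, i ≠ j → Disjoint (part i) (part j)) ∧ (∀ i, (part i).Nonempty) ∧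
      (∀ i j, i ≠ j → ⁅(⨆ A ∈ part i, A), (⨆ A ∈ part j, A)⁆ = ⊥) ∧
      (∀ i, Cfsg.IsQuasisimple ↥(⨆ A ∈ part i, A) ∧
        Cfsg.IsRootSubgroupClass ((fun A : Subgroup (LinearMap.GeneralLinearGroup k M) => A.subgroupOf (⨆ B ∈ part i, B)) '' (part i)) ∧
        ∀ A ∈ part i, ∀ B ∈ Cfsg.rankOnePartners (part i) A, ∃ A₀ B₀ : Subgroup (LinearMap.GeneralLinearGroup k M), A₀ ≤ A ∧ B₀ ≤ B ∧
          ∃ (k₁ : Type u) (_ : Field k₁), 3 < ENat.card k₁ ∧ Cfsg.IsPSL2PairOver k₁ A₀ B₀) := by
  have hN := CfsgLib.QP.noFix_of_irreducible hG.1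
  have hS := CfsgLib.QP.semi_of_irreducible hG.1
  set T := CfsgLib.QP.Comp G '' Cfsg.quadraticRootSubgroups G with hT
  haveI : Finite T := (CfsgLib.QP.finite_components hk2 hk3 hN).to_subtype
  obtain ⟨r, ⟨e⟩⟩ := Finite.exists_equiv_fin T
  have hch : ∀ i, ∃ A ∈ Cfsg.quadraticRootSubgroups G, CfsgLib.QP.Comp G A = ((e.symm i : T) : Set _) := fun i => (e.symm i).2
  choose rep hrep hrepe using hch
  refine ⟨r, fun i => CfsgLib.QP.Comp G (rep i), ?_, fun i j hij => ?_, fun i => ⟨rep i, CfsgLib.QP.self_mem_comp (hrep i)⟩,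
    fun i j hij => ?_, fun i => ⟨CfsgLib.QP.isQuasisimple_comp hk2 hk3 hN hS (hrep i),
      CfsgLib.QP.isRootSubgroupClass_comp hk2 hk3 hN (hrep i), fun A hA B hB => ?_⟩⟩
  · refine Set.Subset.antisymm (Set.iUnion_subset fun i A hA => hA.1) fun A hA => Set.mem_iUnion.mpr ⟨e ⟨_, A, hA, rfl⟩, ?_⟩
    rw [hrepe, Equiv.symm_apply_apply]
    exact CfsgLib.QP.self_mem_comp hA
  · have hne : CfsgLib.QP.Comp G (rep i) ≠ CfsgLib.QP.Comp G (rep j) := by
      rw [hrepe, hrepe]; exact fun h => hij (e.symm.injective (Subtype.ext h))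
    rw [Set.disjoint_left]
    intro A hi hj
    exact hne ((CfsgLib.QP.comp_eq (hrep i) hi).symm.trans (CfsgLib.QP.comp_eq (hrep j) hj))
  · have hne : CfsgLib.QP.Comp G (rep i) ≠ CfsgLib.QP.Comp G (rep j) := by
      rw [hrepe, hrepe]; exact fun h => hij (e.symm.injective (Subtype.ext h))
    exact CfsgLib.QP.compGroup_commute hk2 hk3 hN (hrep i) (hrep j) hne
  · obtain ⟨σ, hσ, rfl⟩ := hA.1
    obtain ⟨⟨⟨τ, hτ, rfl⟩, -⟩, hr⟩ := hB
    exact CfsgLib.QP.exists_psl2 hk2 hk3 hσ hτ (CfsgLib.QP.opp_of_rankOnePair hk2 hk3 hN hσ hτ hr)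

end Cfsg.Agent.S5069
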