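import Cfsg.Statements.S5070
import Mathlib
import Cfsg.Agent.Lib.SympGen
import Cfsg.Agent.Lib.RootSub.Transv
-- import your own Cfsg.Agent.* helpers here

set_option autoImplicit false
set_option backward.isDefEq.respectTransparency.types false
set_option backward.isDefEq.respectTransparency false
open Matrix
open Cfsg

namespace Cfsg.Agent.S5070

open Matrix CfsgLib.SympTransvection CfsgLib.SympGen
open scoped commutatorElement

section
variable (F : Type*) [Field F] (m : ℕ)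

local notation "Vec" => (Fin (m + 1) ⊕ Fin (m + 1) → F)
local notation "Jm" => Matrix.J (Fin (m + 1)) F
local notation "Sp" => Matrix.symplecticGroup (Fin (m + 1)) F

/-- The transvection group of a point. -/
def pgrp (p : Fin (m + 1) ⊕ Fin (m + 1) → F) : Subgroup (Matrix.symplecticGroup (Fin (m + 1)) F) :=
  Subgroup.closure {g : ↥(Matrix.symplecticGroup (Fin (m + 1)) F) | ∃ c : F,
    ∀ v : Fin (m + 1) ⊕ Fin (m + 1) → F,
      (g : Matrix (Fin (m + 1) ⊕ Fin (m + 1)) (Fin (m + 1) ⊕ Fin (m + 1)) F) *ᵥ v =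
        v + (c * (v ⬝ᵥ (Matrix.J (Fin (m + 1)) F *ᵥ p))) • p}

/-- The class of transvection groups. -/
def pcls : Set (Subgroup (Matrix.symplecticGroup (Fin (m + 1)) F)) :=
  {A | ∃ p : Fin (m + 1) ⊕ Fin (m + 1) → F, p ≠ 0 ∧ A = pgrp F m p}

theorem ext_mulVec {g h : Sp} (e : ∀ v : Vec, g.1 *ᵥ v = h.1 *ᵥ v) : g = h :=
  Subtype.ext (Matrix.ext_of_mulVec_single fun i => e _)

theorem tv_mem' (p : Vec) (c : F) : tv p c ∈ pgrp F m p := Subgroup.subset_closure ⟨c, fun v => tv_apply p c v⟩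

theorem tv_zero' (p : Vec) : tv p (0 : F) = 1 :=
  ext_mulVec F m fun v => by rw [tv_apply, CfsgLib.SympGen.one_apply, zero_mul, zero_smul, add_zero]

theorem tv_neg' (p : Vec) (c : F) : (tv p c)⁻¹ = tv p (-c) :=
  inv_eq_of_mul_eq_one_right (by rw [tv_add, add_neg_cancel, tv_zero'])

theorem exists_tv {p : Vec} {g : Sp} (hg : g ∈ pgrp F m p) : ∃ c, g = tv p c := by
  induction hg using Subgroup.closure_induction with
  | mem x hx =>
    obtain ⟨c, hc⟩ := hx
    exact ⟨c, ext_mulVec F m fun v => by rw [hc v, tv_apply]⟩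
  | one => exact ⟨0, (tv_zero' F m p).symm⟩
  | mul x y _ _ hx hy =>
    obtain ⟨c, rfl⟩ := hx; obtain ⟨d, rfl⟩ := hy; exact ⟨c + d, tv_add p c d⟩
  | inv x _ hx => obtain ⟨c, rfl⟩ := hx; exact ⟨-c, tv_neg' F m p c⟩

theorem pgrp_comm (p : Vec) : IsMulCommutative (pgrp F m p) := by
  refine ⟨⟨fun a b => Subtype.ext ?_⟩⟩
  obtain ⟨c, hc⟩ := exists_tv F m a.2
  obtain ⟨d, hd⟩ := exists_tv F m b.2
  show a.1 * b.1 = b.1 * a.1
  rw [hc, hd, tv_add, tv_add, add_comm c d]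

theorem tv_eq_one' {p : Vec} (hp : p ≠ 0) {c : F} (h : tv p c = 1) : c = 0 := by
  obtain ⟨z, hz⟩ := exists_dot_ne hp
  have := congrArg (fun g : Sp => g.1 *ᵥ z) h
  simp only [tv_apply, CfsgLib.SympGen.one_apply, add_eq_left, smul_eq_zero, mul_eq_zero] at this
  rcases this with (h1 | h1) | h1
  · exact h1
  · exact absurd h1 hz
  · exact absurd h1 hp

theorem pgrp_ne_bot {p : Vec} (hp : p ≠ 0) : pgrp F m p ≠ ⊥ := fun e => by
  have := tv_mem' F m p 1
  rw [e, Subgroup.mem_bot] at this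
  exact one_ne_zero (tv_eq_one' F m hp this)

theorem pgrp_smul (p : Vec) {a : F} (ha : a ≠ 0) : pgrp F m (a • p) = pgrp F m p := by
  apply le_antisymm
  · intro g hg
    obtain ⟨c, rfl⟩ := exists_tv F m hg
    rw [tv_smul]; exact tv_mem' F m _ _
  · intro g hg
    obtain ⟨c, rfl⟩ := exists_tv F m hg
    have : tv p c = tv (a • p) ((a ^ 2)⁻¹ * c) := by
      rw [tv_smul, ← mul_assoc, mul_inv_cancel₀ (pow_ne_zero 2 ha), one_mul]
    rw [this]; exact tv_mem' F m _ _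

theorem conj_pgrp (p : Vec) (g : Sp) : Cfsg.conjBy (pgrp F m p) g = pgrp F m (g.1 *ᵥ p) := by
  apply le_antisymm
  · rintro _ ⟨x, hx, rfl⟩
    obtain ⟨c, rfl⟩ := exists_tv F m hx
    show g * tv p c * g⁻¹ ∈ _
    rw [conj_tv]; exact tv_mem' F m _ _
  · intro x hx
    obtain ⟨c, rfl⟩ := exists_tv F m hx
    exact ⟨tv p c, tv_mem' F m _ _, conj_tv g p c⟩

theorem mulVec_ne {p : Vec} (hp : p ≠ 0) (g : Sp) : g.1 *ᵥ p ≠ 0 := fun e => hp (by
  rw [← CfsgLib.SympGen.one_apply p, ← inv_mul_cancel g, CfsgLib.SympGen.mul_apply, e, Matrix.mulVec_zero])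

theorem tv_commute {p q : Vec} (h : B p q = 0) (c d : F) : tv p c * tv q d = tv q d * tv p c := by
  refine ext_mulVec F m fun v => ?_
  rw [CfsgLib.SympGen.mul_apply, CfsgLib.SympGen.mul_apply, tv_apply, tv_apply, tv_apply, tv_apply, B_add_left, B_smul_left, B_add_left,
    B_smul_left, h, B_swap q p, h, neg_zero, mul_zero, mul_zero, add_zero, add_zero]
  abel

theorem pgrp_commutator {p q : Vec} (h : B p q = 0) : ⁅pgrp F m p, pgrp F m q⁆ = ⊥ := by
  rw [eq_bot_iff, Subgroup.commutator_le]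
  intro a ha b hb
  obtain ⟨c, rfl⟩ := exists_tv F m ha
  obtain ⟨d, rfl⟩ := exists_tv F m hb
  rw [Subgroup.mem_bot, commutatorElement_eq_one_iff_mul_comm]
  exact tv_commute F m h c d

theorem rankOne_cond {p q : Vec} (hp : p ≠ 0) (hq : q ≠ 0) (h : B p q ≠ 0) :
    Cfsg.RankOneCondition (pgrp F m p) (pgrp F m q) := by
  intro a ha ha1
  obtain ⟨c, rfl⟩ := exists_tv F m ha
  have hc : c ≠ 0 := fun e => ha1 (by rw [e, tv_zero'])
  have hd : -(c * B p q ^ 2)⁻¹ ≠ 0 := neg_ne_zero.mpr (inv_ne_zero (mul_ne_zero hc (pow_ne_zero 2 h)))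
  refine ⟨tv q (-(c * B p q ^ 2)⁻¹), tv_mem' F m _ _, fun e => hd (tv_eq_one' F m hq e), ?_⟩
  rw [conj_pgrp, conj_pgrp, tv_neg', tv_neg', tv_apply, tv_apply, B_swap q p]
  have e : p + (- -(c * B p q ^ 2)⁻¹ * B p q) • q = (c * B p q)⁻¹ • (q + (-c * -B p q) • p) := by
    rw [smul_add, smul_smul, add_comm p]
    congr 1
    · congr 1; field_simp
    · rw [neg_mul_neg, inv_mul_cancel₀ (mul_ne_zero hc h), one_smul]
  rw [e, pgrp_smul F m _ (inv_ne_zero (mul_ne_zero hc h))]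

theorem rankOne {p q : Vec} (hp : p ≠ 0) (hq : q ≠ 0) (h : B p q ≠ 0) :
    Cfsg.IsRankOnePair (pgrp F m p) (pgrp F m q) := by
  haveI := pgrp_comm F m p
  haveI := pgrp_comm F m q
  refine ⟨?_, ?_, ?_, rankOne_cond F m hp hq h,
    rankOne_cond F m hq hp (by rw [B_swap]; exact neg_ne_zero.mpr h)⟩
  · intro e
    obtain ⟨c, hc⟩ := exists_tv F m (e ▸ tv_mem' F m p 1 : tv p 1 ∈ pgrp F m q)
    have := congrArg (fun g : Sp => g.1 *ᵥ q) hc
    simp only [tv_apply, B_self, mul_zero, zero_smul, add_zero, add_eq_left, smul_eq_zero, one_mul] at this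
    rcases this with h1 | h1
    · exact h (by rw [B_swap, h1, neg_zero])
    · exact hp h1
  · exact @CommGroup.isNilpotent _ (CommGroup.mk (fun a b => mul_comm' a b))
  · exact @CommGroup.isNilpotent _ (CommGroup.mk (fun a b => mul_comm' a b))

theorem psl2_one {p q : Vec} (h : B p q = 1) : Cfsg.IsPSL2PairOver F (pgrp F m p) (pgrp F m q) := by
  open CfsgLib.RootSub.Transv in
  have hHU : rowMat (Jm *ᵥ q) (-(Jm *ᵥ p)) * colMat p q = 1 := by
    refine row_mul_col ?_ ?_ ?_ ?_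
    · rw [neg_dotProduct, dotProduct_comm, dot_J_self, neg_zero]
    · rw [dotProduct_comm, dot_J_self]
    · rw [neg_dotProduct, dotProduct_comm]
      show -(B q p) = 1
      rw [B_swap, h, neg_neg]
    · rw [dotProduct_comm]; exact h
  let f₀ : Matrix.SpecialLinearGroup (Fin 2) F →* Matrix (Fin (m + 1) ⊕ Fin (m + 1)) (Fin (m + 1) ⊕ Fin (m + 1)) F :=
    { toFun := fun M => (CfsgLib.RootSub.Transv.emb _ _ hHU M).1
      map_one' := by rw [map_one]; rfl
      map_mul' := fun A B => by rw [map_mul]; rfl }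
  have hup : ∀ M : Matrix.SpecialLinearGroup (Fin 2) F, M.1 1 0 = 0 → M.1 0 0 = 1 → M.1 1 1 = 1 →
      f₀ M = (tv p (-(M.1 0 1))).1 := by
    intro M h10 h00 h11
    apply Matrix.ext_of_mulVec_single
    intro i
    show (CfsgLib.RootSub.Transv.emb _ _ hHU M).1 *ᵥ _ = _
    rw [CfsgLib.RootSub.Transv.emb_upper hHU (by rw [neg_dotProduct, dotProduct_comm, dot_J_self, neg_zero]) h10 h00 h11,
      CfsgLib.RootSub.Transv.elt_mulVec, tv_apply, neg_dotProduct, dotProduct_comm (Jm *ᵥ p), mul_neg, neg_mul]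
  have hlow : ∀ M : Matrix.SpecialLinearGroup (Fin 2) F, M.1 0 1 = 0 → M.1 0 0 = 1 → M.1 1 1 = 1 →
      f₀ M = (tv q (M.1 1 0)).1 := by
    intro M h01 h00 h11
    apply Matrix.ext_of_mulVec_single
    intro i
    show (CfsgLib.RootSub.Transv.emb _ _ hHU M).1 *ᵥ _ = _
    rw [CfsgLib.RootSub.Transv.emb_lower hHU (by rw [dotProduct_comm, dot_J_self]) h01 h00 h11,
      CfsgLib.RootSub.Transv.elt_mulVec, tv_apply, dotProduct_comm (Jm *ᵥ q)]
  have hmem : ∀ M, ∃ g ∈ pgrp F m p ⊔ pgrp F m q, (g : Sp).1 = f₀ M := by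
    intro M
    refine Matrix.SL2.transvection_induction (fun M => ∃ g ∈ pgrp F m p ⊔ pgrp F m q, (g : Sp).1 = f₀ M)
      (fun i j hij c => ?_) ?_ M
    · fin_cases i <;> fin_cases j
      · exact absurd rfl hij
      · exact ⟨_, Subgroup.mem_sup_left (tv_mem' F m _ _), (hup _
          (by simp [Matrix.SpecialLinearGroup.transvection_coe])
          (by simp [Matrix.SpecialLinearGroup.transvection_coe])
          (by simp [Matrix.SpecialLinearGroup.transvection_coe])).symm⟩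
      · exact ⟨_, Subgroup.mem_sup_right (tv_mem' F m _ _), (hlow _
          (by simp [Matrix.SpecialLinearGroup.transvection_coe])
          (by simp [Matrix.SpecialLinearGroup.transvection_coe])
          (by simp [Matrix.SpecialLinearGroup.transvection_coe])).symm⟩
      · exact absurd rfl hij
    · rintro A B ⟨a, ha, ea⟩ ⟨b, hb, eb⟩
      exact ⟨a * b, mul_mem ha hb, by rw [map_mul, ← ea, ← eb]; rfl⟩
  let f : Matrix.SpecialLinearGroup (Fin 2) F →* Sp :=
    f₀.codRestrict (Matrix.symplecticGroup (Fin (m + 1)) F) (fun M => by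
      obtain ⟨g, -, e⟩ := hmem M; rw [← e]; exact g.2)
  have hA : (Cfsg.upperUnipotentSL2 F).map f = pgrp F m p := by
    refine le_antisymm ?_ fun x hx => ?_
    · rw [Cfsg.upperUnipotentSL2, MonoidHom.map_closure, Subgroup.closure_le]
      rintro _ ⟨M, ⟨h10, h00, h11⟩, rfl⟩
      have : f M = tv p (-(M.1 0 1)) := Subtype.ext (hup M h10 h00 h11)
      rw [this]; exact tv_mem' F m _ _
    · obtain ⟨c, rfl⟩ := exists_tv F m hx
      refine ⟨CfsgLib.RootSub.Transv.up (-c), Subgroup.subset_closure (by simp [CfsgLib.RootSub.Transv.up]), Subtype.ext ?_⟩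
      refine (hup _ (by simp [CfsgLib.RootSub.Transv.up]) (by simp [CfsgLib.RootSub.Transv.up])
        (by simp [CfsgLib.RootSub.Transv.up])).trans ?_
      simp [CfsgLib.RootSub.Transv.up]
  have hB : (Cfsg.lowerUnipotentSL2 F).map f = pgrp F m q := by
    refine le_antisymm ?_ fun x hx => ?_
    · rw [Cfsg.lowerUnipotentSL2, MonoidHom.map_closure, Subgroup.closure_le]
      rintro _ ⟨M, ⟨h01, h00, h11⟩, rfl⟩
      have : f M = tv q (M.1 1 0) := Subtype.ext (hlow M h01 h00 h11)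
      rw [this]; exact tv_mem' F m _ _
    · obtain ⟨c, rfl⟩ := exists_tv F m hx
      refine ⟨CfsgLib.RootSub.Transv.low c, Subgroup.subset_closure (by simp [CfsgLib.RootSub.Transv.low]), Subtype.ext ?_⟩
      refine (hlow _ (by simp [CfsgLib.RootSub.Transv.low]) (by simp [CfsgLib.RootSub.Transv.low])
        (by simp [CfsgLib.RootSub.Transv.low])).trans ?_
      simp [CfsgLib.RootSub.Transv.low]
  refine ⟨f, le_antisymm ?_ (sup_le (hA ▸ Subgroup.map_le_range _ _) (hB ▸ Subgroup.map_le_range _ _)),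
    ?_, hA, hB⟩
  · rintro _ ⟨M, rfl⟩
    obtain ⟨g, hg, e⟩ := hmem M
    rwa [show f M = g from Subtype.ext e.symm]
  · have hinj : Function.Injective f := by
      intro M N e
      have e' : f₀ M = f₀ N := congrArg (fun g : Sp => g.1) e
      exact CfsgLib.RootSub.Transv.emb_injective _ _ hHU (Subtype.ext e')
    rw [(MonoidHom.ker_eq_bot_iff f).mpr hinj]
    exact bot_le

theorem not_commCase {p q : Vec} (hp : p ≠ 0) (hq : q ≠ 0) :
    ¬ Cfsg.RootCommutatorCase (pcls F m) (pgrp F m p) (pgrp F m q) := by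
  rintro ⟨⟨r, hr, e⟩, hcen, -, -⟩
  by_cases h : B p q = 0
  · rw [pgrp_commutator F m h] at e
    exact pgrp_ne_bot F m hr e.symm
  -- the commutator would fix `p`
  have hz := tv_mem' F m r 1
  rw [← e] at hz
  have h1 := congrArg (fun g : Sp => g.1 *ᵥ r) (hcen _ hz (tv p 1) (Subgroup.mem_sup_left (tv_mem' F m p 1)))
  simp only [CfsgLib.SympGen.mul_apply, tv_apply, B_self, mul_zero, zero_smul, add_zero, one_mul, B_add_left,
    B_smul_left, zero_add, Matrix.mulVec_add, Matrix.mulVec_smul] at h1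
  have hrp : B r p = 0 := by
    by_contra hne
    simp [hne, hr, B_swap p r, B_add_left, B_smul_left, B_self] at h1
  obtain ⟨c, hc⟩ := exists_tv F m (p := r) (g := ⁅tv p (1 : F), tv q 1⁆)
    (e ▸ Subgroup.commutator_mem_commutator (tv_mem' F m p 1) (tv_mem' F m q 1))
  have h2 := congrArg (fun g : Sp => B (g.1 *ᵥ p) p) hc
  simp only [commutatorElement_def, tv_neg', CfsgLib.SympGen.mul_apply, tv_apply, B_add_left, B_smul_left, B_self,
    hrp, B_swap q p] at h2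
  rw [B_swap p r] at h2
  simp [hrp, B_add_left, B_smul_left, B_self, B_swap q p] at h2
  have h4 : B p q ^ 4 = 0 := by linear_combination h2
  exact h (by simpa using h4)

theorem pair_cases {p q : Vec} (hp : p ≠ 0) (hq : q ≠ 0) (hpair : Cfsg.IsRankOnePair (pgrp F m p) (pgrp F m q)) :
    B p q ≠ 0 := by
  intro h
  apply hpair.ne
  obtain ⟨b, hb, -, e⟩ := hpair.cond_left _ (tv_mem' F m p 1) (fun e => one_ne_zero (tv_eq_one' F m hp e))
  obtain ⟨d, rfl⟩ := exists_tv F m hb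
  rw [conj_pgrp, conj_pgrp, tv_neg', tv_neg', tv_apply, tv_apply, h, B_swap q p, h] at e
  simpa using e

theorem main : Cfsg.IsRootSubgroupClass (pcls F m) ∧ Cfsg.IsDegenerateRootSet (pcls F m) ∧
    Cfsg.IsKRootSubgroupSet F (pcls F m) ∧
      Cfsg.IsConnectedFamily (Cfsg.FAdj (pcls F m)) (pcls F m) := by
  have hset : Cfsg.IsRootSubgroupSet (pcls F m) := by
    refine ⟨?_, ?_, ?_, ?_, ?_⟩
    · rintro A ⟨p, -, rfl⟩; exact pgrp_comm F m p
    · rintro A ⟨p, hp, rfl⟩; exact pgrp_ne_bot F m hp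
    · rw [eq_top_iff, ← TV_eq_top (F := F) (m := m + 1), TV, Subgroup.closure_le]
      rintro g ⟨w, c, e⟩
      have hg : g = tv w c := Subtype.ext e
      subst hg
      by_cases hw : w = 0
      · rw [show tv w c = 1 from ext_mulVec F m fun v => by
          rw [tv_apply, CfsgLib.SympGen.one_apply, hw, smul_zero, add_zero]]
        exact one_mem _
      · exact Subgroup.mem_iSup_of_mem _ (Subgroup.mem_iSup_of_mem ⟨w, hw, rfl⟩ (tv_mem' F m w c))
    · rintro A ⟨p, hp, rfl⟩ g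
      exact ⟨_, mulVec_ne F m hp g, conj_pgrp F m p g⟩
    · rintro A ⟨p, hp, rfl⟩ B' ⟨q, hq, rfl⟩
      by_cases h : B p q = 0
      · exact Or.inl (pgrp_commutator F m h)
      · exact Or.inr (Or.inl (rankOne F m hp hq h))
  refine ⟨⟨hset, ?_, ?_⟩, ?_, ⟨hset, ?_⟩, ?_⟩
  · have hne : (Pi.single (Sum.inl 0) 1 : Vec) ≠ 0 := by simp
    exact ⟨_, _, hne, rfl⟩
  · rintro A ⟨p, hp, rfl⟩ B' ⟨q, hq, rfl⟩
    obtain ⟨g, hg⟩ := transitive hp hq
    exact ⟨g, by rw [conj_pgrp, hg]⟩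
  · rintro A ⟨p, hp, rfl⟩ B' ⟨q, hq, rfl⟩
    exact not_commCase F m hp hq
  · rintro A ⟨p, hp, rfl⟩ B' ⟨q, hq, rfl⟩ hpair
    have h := pair_cases F m hp hq hpair
    have h1 : B p ((B p q)⁻¹ • q) = 1 := by rw [B_smul_right, inv_mul_cancel₀ h]
    have := psl2_one F m h1
    rwa [pgrp_smul F m q (inv_ne_zero h)] at this
  · rintro A ⟨p, hp, rfl⟩ B' ⟨q, hq, rfl⟩
    obtain ⟨z, hzp, hzq⟩ : ∃ z, B z p ≠ 0 ∧ B z q ≠ 0 := by
      obtain ⟨z₁, h₁⟩ := exists_dot_ne hp
      obtain ⟨z₂, h₂⟩ := exists_dot_ne hq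
      by_cases h₁' : B z₁ q = 0
      · by_cases h₂' : B z₂ p = 0
        · exact ⟨z₁ + z₂, by rw [B_add_left, h₂', add_zero]; exact h₁,
            by rw [B_add_left, h₁', zero_add]; exact h₂⟩
        · exact ⟨z₂, h₂', h₂⟩
      · exact ⟨z₁, h₁, h₁'⟩
    have hz : z ≠ 0 := fun e => hzp (by simp [e])
    exact (Relation.ReflTransGen.single ⟨⟨p, hp, rfl⟩, ⟨z, hz, rfl⟩,
      rankOne F m hp hz (by rw [B_swap]; exact neg_ne_zero.mpr hzp)⟩).tail
      ⟨⟨z, hz, rfl⟩, ⟨q, hq, rfl⟩, rankOne F m hz hq hzq⟩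

end

/-- Let F be a field, m a natural number and V = F^{2(m+1)} with the standard non-degenerate alternating form f(u, v) = uᵀ J v. For a non-zero vector p let T(p) be the group of symplectic transvections v ↦ v + c f(v, p) p, c ∈ F. Then the subgroups T(p), p ≠ 0, generate the symplectic group Sp_{2(m+1)}(F) and form a degenerate class of abstract F-root subgroups of it (any two of them either commute elementwise or are the unipotent subgroups of a rank one group that is an image of SL₂(F) with central kernel, never the commutator case), and their graph of rank one pairs is connected. -/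
theorem result (F : Type*) [Field F] (m : ℕ) :
    Cfsg.IsRootSubgroupClass {A : Subgroup ↥(Matrix.symplecticGroup (Fin (m + 1)) F) | ∃ p : Fin (m + 1) ⊕ Fin (m + 1) → F, p ≠ 0 ∧
        A = Subgroup.closure {g : ↥(Matrix.symplecticGroup (Fin (m + 1)) F) | ∃ c : F, ∀ v : Fin (m + 1) ⊕ Fin (m + 1) → F,
          (g : Matrix (Fin (m + 1) ⊕ Fin (m + 1)) (Fin (m + 1) ⊕ Fin (m + 1)) F) *ᵥ v =
            v + (c * (v ⬝ᵥ (Matrix.J (Fin (m + 1)) F *ᵥ p))) • p}} ∧
    Cfsg.IsDegenerateRootSet {A : Subgroup ↥(Matrix.symplecticGroup (Fin (m + 1)) F) | ∃ p : Fin (m + 1) ⊕ Fin (m + 1) → F, p ≠ 0 ∧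
        A = Subgroup.closure {g : ↥(Matrix.symplecticGroup (Fin (m + 1)) F) | ∃ c : F, ∀ v : Fin (m + 1) ⊕ Fin (m + 1) → F,
          (g : Matrix (Fin (m + 1) ⊕ Fin (m + 1)) (Fin (m + 1) ⊕ Fin (m + 1)) F) *ᵥ v =
            v + (c * (v ⬝ᵥ (Matrix.J (Fin (m + 1)) F *ᵥ p))) • p}} ∧
    Cfsg.IsKRootSubgroupSet F {A : Subgroup ↥(Matrix.symplecticGroup (Fin (m + 1)) F) | ∃ p : Fin (m + 1) ⊕ Fin (m + 1) → F, p ≠ 0 ∧
        A = Subgroup.closure {g : ↥(Matrix.symplecticGroup (Fin (m + 1)) F) | ∃ c : F, ∀ v : Fin (m + 1) ⊕ Fin (m + 1) → F,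
          (g : Matrix (Fin (m + 1) ⊕ Fin (m + 1)) (Fin (m + 1) ⊕ Fin (m + 1)) F) *ᵥ v =
            v + (c * (v ⬝ᵥ (Matrix.J (Fin (m + 1)) F *ᵥ p))) • p}} ∧
    Cfsg.IsConnectedFamily (Cfsg.FAdj {A : Subgroup ↥(Matrix.symplecticGroup (Fin (m + 1)) F) | ∃ p : Fin (m + 1) ⊕ Fin (m + 1) → F, p ≠ 0 ∧
        A = Subgroup.closure {g : ↥(Matrix.symplecticGroup (Fin (m + 1)) F) | ∃ c : F, ∀ v : Fin (m + 1) ⊕ Fin (m + 1) → F,
          (g : Matrix (Fin (m + 1) ⊕ Fin (m + 1)) (Fin (m + 1) ⊕ Fin (m + 1)) F) *ᵥ v =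
            v + (c * (v ⬝ᵥ (Matrix.J (Fin (m + 1)) F *ᵥ p))) • p}})
      {A : Subgroup ↥(Matrix.symplecticGroup (Fin (m + 1)) F) | ∃ p : Fin (m + 1) ⊕ Fin (m + 1) → F, p ≠ 0 ∧
        A = Subgroup.closure {g : ↥(Matrix.symplecticGroup (Fin (m + 1)) F) | ∃ c : F, ∀ v : Fin (m + 1) ⊕ Fin (m + 1) → F,
          (g : Matrix (Fin (m + 1) ⊕ Fin (m + 1)) (Fin (m + 1) ⊕ Fin (m + 1)) F) *ᵥ v =
            v + (c * (v ⬝ᵥ (Matrix.J (Fin (m + 1)) F *ᵥ p))) • p}} := by
  exact main F m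

end Cfsg.Agent.S5070
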