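import Cfsg.Statements.S5071
import Cfsg.Agent.Lib.RootSub.UnitClass
-- import your own Cfsg.Agent.* helpers here

set_option autoImplicit false
open Matrix
open Cfsg

namespace Cfsg.Agent.S5071

section
open CfsgLib.RootSub CfsgLib.RootSub.UnitClass CfsgLib.UnitaryTransvection CfsgLib.UnitarySimple Cfsg
open scoped commutatorElement

universe uF

theorem main {F : Type uF} [Field F] [Fintype F] {q n : ℕ} (hF : Fintype.card F = q ^ 2) (hn : 2 ≤ n) :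
    let H : Subgroup ↥(Cfsg.SU n F q) := ⨆ B ∈ ucls n F q, B
    let S := (fun A : Subgroup ↥(Cfsg.SU n F q) => A.subgroupOf H) '' ucls n F q
    Cfsg.IsRootSubgroupClass S ∧ Cfsg.IsDegenerateRootSet S ∧
      (∃ (L : Type) (_ : Field L) (_ : Fintype L), Fintype.card L = q ∧ Cfsg.IsKRootSubgroupSet L S) ∧
      Cfsg.IsConnectedFamily (Cfsg.FAdj S) S := by
  intro H S
  have hle : ∀ A ∈ ucls n F q, A ≤ H := fun A hA => le_iSup₂ (f := fun B (_ : B ∈ ucls n F q) => B) A hA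
  have hset : Cfsg.IsRootSubgroupSet S := by
    refine CfsgLib.QP.Sub.isRootSubgroupSet_subgroupOf rfl ?_ ?_ ?_ ?_
    · rintro A ⟨p, h0, hp, rfl⟩; exact ugrp_comm hF h0 hp
    · rintro A ⟨p, h0, hp, rfl⟩; exact ugrp_ne_bot hF h0 hp
    · rintro A ⟨p, h0, hp, rfl⟩ g -
      exact ⟨_, mat_ne_zero g h0, by rw [su_h, hp], conj_ugrp hF h0 hp g⟩
    · rintro A ⟨p, h0, hp, rfl⟩ B ⟨r, h0', hr, rfl⟩
      by_cases e : Cfsg.hermForm n F q p r = 0
      · exact Or.inl (ugrp_commutator hF h0 hp h0' hr e)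
      · exact Or.inr (Or.inl (rankOne hF h0 hp h0' hr e))
  -- rank one pairs inside the class are opposite points
  have hopp : ∀ {p r : Fin n → F}, p ≠ 0 → Cfsg.hermForm n F q p p = 0 → r ≠ 0 → Cfsg.hermForm n F q r r = 0 →
      Cfsg.IsRankOnePair ((ugrp (q := q) p).subgroupOf H) ((ugrp (q := q) r).subgroupOf H) →
      Cfsg.hermForm n F q p r ≠ 0 := by
    intro p r h0 hp h0' hr hpair e
    refine not_rankOne_of_bot (hset.commutative _ ⟨_, ⟨p, h0, hp, rfl⟩, rfl⟩)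
      (hset.ne_bot _ ⟨_, ⟨p, h0, hp, rfl⟩, rfl⟩) ?_ hpair
    rw [CfsgLib.QP.Sub.commutator_subgroupOf (hle _ ⟨p, h0, hp, rfl⟩) (hle _ ⟨r, h0', hr, rfl⟩),
      ugrp_commutator hF h0 hp h0' hr e]
    simp
  have hadj : ∀ {p r : Fin n → F}, p ≠ 0 → Cfsg.hermForm n F q p p = 0 → r ≠ 0 → Cfsg.hermForm n F q r r = 0 →
      Cfsg.hermForm n F q p r ≠ 0 →
      Cfsg.FAdj S ((ugrp (q := q) p).subgroupOf H) ((ugrp (q := q) r).subgroupOf H) := fun h0 hp h0' hr e =>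
    ⟨⟨_, ⟨_, h0, hp, rfl⟩, rfl⟩, ⟨_, ⟨_, h0', hr, rfl⟩, rfl⟩,
      CfsgLib.QP.Sub.isRankOnePair_subgroupOf (hle _ ⟨_, h0, hp, rfl⟩) (hle _ ⟨_, h0', hr, rfl⟩)
        (rankOne hF h0 hp h0' hr e)⟩
  have hconn : Cfsg.IsConnectedFamily (Cfsg.FAdj S) S := by
    rintro _ ⟨A, ⟨p, h0, hp, rfl⟩, rfl⟩ _ ⟨B, ⟨r, h0', hr, rfl⟩, rfl⟩
    obtain ⟨f, hf, hfp, hfr⟩ := avoid hF h0 hp h0'
    have hf0 : f ≠ 0 := fun e => hfp (by simp [e, Cfsg.hermForm])
    have hpf : Cfsg.hermForm n F q p f ≠ 0 := fun e => hfp (by rw [← h_swap hF p f, e, map_zero])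
    exact (Relation.ReflTransGen.single (hadj h0 hp hf0 hf hpf)).tail (hadj hf0 hf h0' hr hfr)
  refine ⟨⟨hset, ?_, ?_⟩, ?_, ?_, hconn⟩
  · obtain ⟨e, he0, he⟩ := exists_isotropic hF hn
    exact ⟨_, _, ⟨e, he0, he, rfl⟩, rfl⟩
  · intro A hA B hB
    induction hconn A hA B hB with
    | refl => exact ⟨1, CfsgLib.RootSub.conjBy_one.symm⟩
    | @tail X Y _ hXY ih =>
      obtain ⟨g, rfl⟩ := ih hXY.1
      obtain ⟨x, hx⟩ := CfsgLib.RootSub.Transv.exists_conj_of_pair (hset.ne_bot _ hXY.1) hXY.2.2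
      exact ⟨x * g, by rw [hx, CfsgLib.RootSub.conjBy_conjBy]⟩
  · intro A hA B hB hrcc
    obtain ⟨A', ⟨p, h0, hp, rfl⟩, rfl⟩ := hA
    obtain ⟨B', ⟨r, h0', hr, rfl⟩, rfl⟩ := hB
    by_cases e : Cfsg.hermForm n F q p r = 0
    · refine hset.ne_bot _ hrcc.1 ?_
      rw [CfsgLib.QP.Sub.commutator_subgroupOf (hle _ ⟨p, h0, hp, rfl⟩) (hle _ ⟨r, h0', hr, rfl⟩),
        ugrp_commutator hF h0 hp h0' hr e]
      simp
    · exact not_rcc_of_rankOne (hset.commutative _ ⟨_, ⟨p, h0, hp, rfl⟩, rfl⟩)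
        (hset.ne_bot _ ⟨_, ⟨p, h0, hp, rfl⟩, rfl⟩) (hadj h0 hp h0' hr e).2.2 hrcc
  · obtain ⟨L, fL, ftL, ι, hcard, hι⟩ := fixed_field hF
    refine ⟨L, fL, ftL, hcard, hset, ?_⟩
    rintro _ ⟨A, ⟨p, h0, hp, rfl⟩, rfl⟩ _ ⟨B, ⟨r, h0', hr, rfl⟩, rfl⟩ hpair
    have hx := hopp h0 hp h0' hr hpair
    set x := Cfsg.hermForm n F q p r with hxdef
    have ha : frob hF x⁻¹ ≠ 0 := fun e => inv_ne_zero hx (by rw [← frob_frob hF x⁻¹, e, map_zero])
    have h1 : Cfsg.hermForm n F q p (frob hF x⁻¹ • r) = 1 := by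
      rw [h_smul_right hF, frob_frob hF, inv_mul_cancel₀ hx]
    have := psl2_one hF ι hι h0 hp (smul_ne_zero ha h0')
      (by rw [h_smul_left, h_smul_right hF, hr]; ring) h1
    rw [ugrp_smul hF h0' hr ha] at this
    exact psl2_subgroupOf (hle _ ⟨p, h0, hp, rfl⟩) (hle _ ⟨r, h0', hr, rfl⟩) this

end

/-- Let F be a finite field with q² elements, n a natural number, and h the Hermitian form Σ uᵢ vᵢ^q on F^{n+2}. For a non-zero isotropic vector p let T(p) be the group of unitary transvections with centre ⟨p⟩: the elements of SU_{n+2}(q) moving every vector by a multiple of p and fixing every vector perpendicular to p. Let Σ be the set of these T(p) and G₀ the subgroup they generate. Then, viewed inside G₀, the members of Σ form a degenerate class of abstract k-root subgroups of G₀ for some field k with q elements (any two commute or are the unipotent subgroups of a rank one group that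 is an image of SL₂(k) with central kernel, never the commutator case), and their graph of rank one pairs is connected. -/
theorem result (F : Type*) [Field F] [Fintype F] (q n : ℕ) (hF : Fintype.card F = q ^ 2) :
    Cfsg.IsRootSubgroupClass ((fun A : Subgroup ↥(Cfsg.SU (n + 2) F q) => A.subgroupOf (⨆ B ∈ {A : Subgroup ↥(Cfsg.SU (n + 2) F q) | ∃ p : Fin (n + 2) → F, p ≠ 0 ∧ Cfsg.hermForm (n + 2) F q p p = 0 ∧
          A = Subgroup.closure {g : ↥(Cfsg.SU (n + 2) F q) |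
            (∀ v : Fin (n + 2) → F, ∃ c : F, ((g : Matrix.SpecialLinearGroup (Fin (n + 2)) F) : Matrix (Fin (n + 2)) (Fin (n + 2)) F) *ᵥ v = v + c • p) ∧
            ∀ v : Fin (n + 2) → F, Cfsg.hermForm (n + 2) F q v p = 0 →
              ((g : Matrix.SpecialLinearGroup (Fin (n + 2)) F) : Matrix (Fin (n + 2)) (Fin (n + 2)) F) *ᵥ v = v}}, B)) ''
      {A : Subgroup ↥(Cfsg.SU (n + 2) F q) | ∃ p : Fin (n + 2) → F, p ≠ 0 ∧ Cfsg.hermForm (n + 2) F q p p = 0 ∧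
          A = Subgroup.closure {g : ↥(Cfsg.SU (n + 2) F q) |
            (∀ v : Fin (n + 2) → F, ∃ c : F, ((g : Matrix.SpecialLinearGroup (Fin (n + 2)) F) : Matrix (Fin (n + 2)) (Fin (n + 2)) F) *ᵥ v = v + c • p) ∧
            ∀ v : Fin (n + 2) → F, Cfsg.hermForm (n + 2) F q v p = 0 →
              ((g : Matrix.SpecialLinearGroup (Fin (n + 2)) F) : Matrix (Fin (n + 2)) (Fin (n + 2)) F) *ᵥ v = v}}) ∧
    Cfsg.IsDegenerateRootSet ((fun A : Subgroup ↥(Cfsg.SU (n + 2) F q) => A.subgroupOf (⨆ B ∈ {A : Subgroup ↥(Cfsg.SU (n + 2) F q) | ∃ p : Fin (n + 2) → F, p ≠ 0 ∧ Cfsg.hermForm (n + 2) F q p p = 0 ∧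
          A = Subgroup.closure {g : ↥(Cfsg.SU (n + 2) F q) |
            (∀ v : Fin (n + 2) → F, ∃ c : F, ((g : Matrix.SpecialLinearGroup (Fin (n + 2)) F) : Matrix (Fin (n + 2)) (Fin (n + 2)) F) *ᵥ v = v + c • p) ∧
            ∀ v : Fin (n + 2) → F, Cfsg.hermForm (n + 2) F q v p = 0 →
              ((g : Matrix.SpecialLinearGroup (Fin (n + 2)) F) : Matrix (Fin (n + 2)) (Fin (n + 2)) F) *ᵥ v = v}}, B)) ''
      {A : Subgroup ↥(Cfsg.SU (n + 2) F q) | ∃ p : Fin (n + 2) → F, p ≠ 0 ∧ Cfsg.hermForm (n + 2) F q p p = 0 ∧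
          A = Subgroup.closure {g : ↥(Cfsg.SU (n + 2) F q) |
            (∀ v : Fin (n + 2) → F, ∃ c : F, ((g : Matrix.SpecialLinearGroup (Fin (n + 2)) F) : Matrix (Fin (n + 2)) (Fin (n + 2)) F) *ᵥ v = v + c • p) ∧
            ∀ v : Fin (n + 2) → F, Cfsg.hermForm (n + 2) F q v p = 0 →
              ((g : Matrix.SpecialLinearGroup (Fin (n + 2)) F) : Matrix (Fin (n + 2)) (Fin (n + 2)) F) *ᵥ v = v}}) ∧
    (∃ (L : Type) (_ : Field L) (_ : Fintype L), Fintype.card L = q ∧ Cfsg.IsKRootSubgroupSet L ((fun A : Subgroup ↥(Cfsg.SU (n + 2) F q) => A.subgroupOf (⨆ B ∈ {A : Subgroup ↥(Cfsg.SU (n + 2) F q) | ∃ p : Fin (n + 2) → F, p ≠ 0 ∧ Cfsg.hermForm (n + 2) F q p p = 0 ∧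
          A = Subgroup.closure {g : ↥(Cfsg.SU (n + 2) F q) |
            (∀ v : Fin (n + 2) → F, ∃ c : F, ((g : Matrix.SpecialLinearGroup (Fin (n + 2)) F) : Matrix (Fin (n + 2)) (Fin (n + 2)) F) *ᵥ v = v + c • p) ∧
            ∀ v : Fin (n + 2) → F, Cfsg.hermForm (n + 2) F q v p = 0 →
              ((g : Matrix.SpecialLinearGroup (Fin (n + 2)) F) : Matrix (Fin (n + 2)) (Fin (n + 2)) F) *ᵥ v = v}}, B)) ''
      {A : Subgroup ↥(Cfsg.SU (n + 2) F q) | ∃ p : Fin (n + 2) → F, p ≠ 0 ∧ Cfsg.hermForm (n + 2) F q p p = 0 ∧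
          A = Subgroup.closure {g : ↥(Cfsg.SU (n + 2) F q) |
            (∀ v : Fin (n + 2) → F, ∃ c : F, ((g : Matrix.SpecialLinearGroup (Fin (n + 2)) F) : Matrix (Fin (n + 2)) (Fin (n + 2)) F) *ᵥ v = v + c • p) ∧
            ∀ v : Fin (n + 2) → F, Cfsg.hermForm (n + 2) F q v p = 0 →
              ((g : Matrix.SpecialLinearGroup (Fin (n + 2)) F) : Matrix (Fin (n + 2)) (Fin (n + 2)) F) *ᵥ v = v}})) ∧
    Cfsg.IsConnectedFamily (Cfsg.FAdj ((fun A : Subgroup ↥(Cfsg.SU (n + 2) F q) => A.subgroupOf (⨆ B ∈ {A : Subgroup ↥(Cfsg.SU (n + 2) F q) | ∃ p : Fin (n + 2) → F, p ≠ 0 ∧ Cfsg.hermForm (n + 2) F q p p = 0 ∧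
          A = Subgroup.closure {g : ↥(Cfsg.SU (n + 2) F q) |
            (∀ v : Fin (n + 2) → F, ∃ c : F, ((g : Matrix.SpecialLinearGroup (Fin (n + 2)) F) : Matrix (Fin (n + 2)) (Fin (n + 2)) F) *ᵥ v = v + c • p) ∧
            ∀ v : Fin (n + 2) → F, Cfsg.hermForm (n + 2) F q v p = 0 →
              ((g : Matrix.SpecialLinearGroup (Fin (n + 2)) F) : Matrix (Fin (n + 2)) (Fin (n + 2)) F) *ᵥ v = v}}, B)) ''
      {A : Subgroup ↥(Cfsg.SU (n + 2) F q) | ∃ p : Fin (n + 2) → F, p ≠ 0 ∧ Cfsg.hermForm (n + 2) F q p p = 0 ∧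
          A = Subgroup.closure {g : ↥(Cfsg.SU (n + 2) F q) |
            (∀ v : Fin (n + 2) → F, ∃ c : F, ((g : Matrix.SpecialLinearGroup (Fin (n + 2)) F) : Matrix (Fin (n + 2)) (Fin (n + 2)) F) *ᵥ v = v + c • p) ∧
            ∀ v : Fin (n + 2) → F, Cfsg.hermForm (n + 2) F q v p = 0 →
              ((g : Matrix.SpecialLinearGroup (Fin (n + 2)) F) : Matrix (Fin (n + 2)) (Fin (n + 2)) F) *ᵥ v = v}})) ((fun A : Subgroup ↥(Cfsg.SU (n + 2) F q) => A.subgroupOf (⨆ B ∈ {A : Subgroup ↥(Cfsg.SU (n + 2) F q) | ∃ p : Fin (n + 2) → F, p ≠ 0 ∧ Cfsg.hermForm (n + 2) F q p p = 0 ∧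
          A = Subgroup.closure {g : ↥(Cfsg.SU (n + 2) F q) |
            (∀ v : Fin (n + 2) → F, ∃ c : F, ((g : Matrix.SpecialLinearGroup (Fin (n + 2)) F) : Matrix (Fin (n + 2)) (Fin (n + 2)) F) *ᵥ v = v + c • p) ∧
            ∀ v : Fin (n + 2) → F, Cfsg.hermForm (n + 2) F q v p = 0 →
              ((g : Matrix.SpecialLinearGroup (Fin (n + 2)) F) : Matrix (Fin (n + 2)) (Fin (n + 2)) F) *ᵥ v = v}}, B)) ''
      {A : Subgroup ↥(Cfsg.SU (n + 2) F q) | ∃ p : Fin (n + 2) → F, p ≠ 0 ∧ Cfsg.hermForm (n + 2) F q p p = 0 ∧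
          A = Subgroup.closure {g : ↥(Cfsg.SU (n + 2) F q) |
            (∀ v : Fin (n + 2) → F, ∃ c : F, ((g : Matrix.SpecialLinearGroup (Fin (n + 2)) F) : Matrix (Fin (n + 2)) (Fin (n + 2)) F) *ᵥ v = v + c • p) ∧
            ∀ v : Fin (n + 2) → F, Cfsg.hermForm (n + 2) F q v p = 0 →
              ((g : Matrix.SpecialLinearGroup (Fin (n + 2)) F) : Matrix (Fin (n + 2)) (Fin (n + 2)) F) *ᵥ v = v}}) := by
  exact main hF (by omega)

end Cfsg.Agent.S5071
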