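import Cfsg.Statements.S5072
import Cfsg.Agent.Lib.RootSub.SiegelClass
-- import your own Cfsg.Agent.* helpers here

set_option autoImplicit false
open Matrix
open Cfsg

namespace Cfsg.Agent.S5072

section
open CfsgLib.RootSub CfsgLib.RootSub.SiegelClass Cfsg
open scoped commutatorElement

variable {F : Type*} [Field F] {m : ℕ}

/-- The class. -/
def scls (n : ℕ) (F : Type*) [Field F] : Set (Subgroup (Og n F)) :=
  {A | ∃ p r : Fin n ⊕ Fin n → F, LinearIndependent F ![p, r] ∧ Cfsg.quadFormPlus n F p = 0 ∧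
    Cfsg.quadFormPlus n F r = 0 ∧ Cfsg.quadFormPlus n F (p + r) = 0 ∧ A = sgrp p r}

theorem mem_scls {n : ℕ} {p r : Fin n ⊕ Fin n → F} (h : TS p r) : sgrp p r ∈ scls n F :=
  ⟨p, r, h.li, h.qp, h.qr, h.qpr, rfl⟩

theorem repr_scls {n : ℕ} {A : Subgroup (Og n F)} (hA : A ∈ scls n F) : ∃ p r, TS p r ∧ A = sgrp p r := by
  obtain ⟨p, r, h1, h2, h3, h4, rfl⟩ := hA
  exact ⟨p, r, ⟨h1, h2, h3, h4⟩, rfl⟩

/-- A singular vector killed by fewer than `n` linear conditions. -/
theorem exists_sing {n k : ℕ} (hk : k < n) (u : Fin k → Fin n ⊕ Fin n → F) :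
    ∃ w : Fin n ⊕ Fin n → F, w ≠ 0 ∧ Cfsg.quadFormPlus n F w = 0 ∧ ∀ i, B w (u i) = 0 := by
  let f : (Fin n → F) →ₗ[F] (Fin k → F) :=
    { toFun := fun x i => B (Sum.elim x 0) (u i)
      map_add' := fun x y => funext fun i => by
        rw [Pi.add_apply, ← B_add_left]; congr 1; funext j; rcases j with j | j <;> simp
      map_smul' := fun c x => funext fun i => by
        rw [Pi.smul_apply, smul_eq_mul, RingHom.id_apply, ← B_smul_left]; congr 1; funext j; rcases j with j | j <;> simp }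
  obtain ⟨x, hx, hx0⟩ := (Submodule.ne_bot_iff _).mp (LinearMap.ker_ne_bot_of_finrank_lt (f := f) (by simpa using hk))
  refine ⟨Sum.elim x 0, fun e => hx0 (funext fun j => congrFun e (.inl j)), by simp [Cfsg.quadFormPlus], fun i => ?_⟩
  exact congrFun (LinearMap.mem_ker.mp hx) i

theorem exists_partner' {n : ℕ} {p : Fin n ⊕ Fin n → F} (hp0 : p ≠ 0) (hp : Cfsg.quadFormPlus n F p = 0) :
    ∃ a, Cfsg.quadFormPlus n F a = 0 ∧ B a p = 1 := by
  obtain ⟨y, hy⟩ : ∃ y, B y p ≠ 0 := by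
    by_contra e; push Not at e; exact hp0 (B_nondeg e)
  refine ⟨(B y p)⁻¹ • y + (-(Cfsg.quadFormPlus n F ((B y p)⁻¹ • y))) • p, ?_, ?_⟩
  · rw [Q_add, Q_smul (-_), hp, B_smul_right, B_smul_left, inv_mul_cancel₀ hy]; ring
  · rw [B_add_left, B_smul_left, B_smul_left, B_self, hp, inv_mul_cancel₀ hy]; ring

/-- Two lines through a point have a common opposite line. -/
theorem common_opp {n : ℕ} (hn : 3 ≤ n) {p r r' : Fin n ⊕ Fin n → F} (h : TS p r) (h' : TS p r') :
    Relation.ReflTransGen (Cfsg.FAdj (scls n F)) (sgrp p r) (sgrp p r') := by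
  obtain ⟨a, ha, hap⟩ := exists_partner' h.p_ne h.qp
  have haa : B a a = 0 := by rw [B_self, ha, mul_zero]
  have hpa : B p a = 1 := by rw [B_comm, hap]
  have normal : ∀ {r}, TS p r → ∃ r₁, TS p r₁ ∧ sgrp p r₁ = sgrp p r ∧ B a r₁ = 0 ∧ B p r₁ = 0 := by
    intro r h
    have d : (1 : F) * 1 - 0 * (-(B a r)) ≠ 0 := by simp
    refine ⟨-(B a r) • p + (1 : F) • r, ?_, ?_, ?_, ?_⟩
    · simpa using h.change d
    · have := sgrp_change h d
      simpa using this
    · rw [B_add_right, B_smul_right, B_smul_right, hap]; ring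
    · rw [B_add_right, B_smul_right, B_smul_right, h.bpr, h.bpp]; ring
  obtain ⟨r₁, h₁, er, har, hpr⟩ := normal h
  obtain ⟨r₂, h₂, er', har', hpr'⟩ := normal h'
  rw [← er, ← er']
  -- the common neighbour inside `⟨p, a⟩^⊥`
  have proj : ∀ x, B (x - B x a • p - B x p • a) a = 0 ∧ B (x - B x a • p - B x p • a) p = 0 := fun x =>
    ⟨by rw [B_sub_left, B_sub_left, B_smul_left, B_smul_left, hpa, haa]; ring,
      by rw [B_sub_left, B_sub_left, B_smul_left, B_smul_left, h.bpp, hap]; ring⟩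
  have lift : ∀ x r, B a r = 0 → B p r = 0 → B (x - B x a • p - B x p • a) r = B x r := fun x r h1 h2 => by
    rw [B_sub_left, B_sub_left, B_smul_left, B_smul_left, h1, h2]; ring
  obtain ⟨b, hb, hba, hbp, hb1, hb2⟩ : ∃ b, Cfsg.quadFormPlus n F b = 0 ∧ B b a = 0 ∧ B b p = 0 ∧
      B b r₁ ≠ 0 ∧ B b r₂ ≠ 0 := by
    by_cases h12 : B r₁ r₂ = 0
    · obtain ⟨y₁, hy₁⟩ : ∃ y, B y r₁ ≠ 0 := by by_contra e; push Not at e; exact h₁.r_ne (B_nondeg e)
      obtain ⟨y₂, hy₂⟩ : ∃ y, B y r₂ ≠ 0 := by by_contra e; push Not at e; exact h₂.r_ne (B_nondeg e)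
      obtain ⟨y, hy1, hy2⟩ : ∃ y, B y r₁ ≠ 0 ∧ B y r₂ ≠ 0 := by
        by_cases e1 : B y₁ r₂ = 0
        · by_cases e2 : B y₂ r₁ = 0
          · exact ⟨y₁ + y₂, by rw [B_add_left, e2, add_zero]; exact hy₁, by rw [B_add_left, e1, zero_add]; exact hy₂⟩
          · exact ⟨y₂, e2, hy₂⟩
        · exact ⟨y₁, hy₁, e1⟩
      set z := y - B y a • p - B y p • a with hz
      have z1 : B z r₁ = B y r₁ := lift y r₁ har hpr
      have z2 : B z r₂ = B y r₂ := lift y r₂ har' hpr'
      refine ⟨z + (-(Cfsg.quadFormPlus n F z / B z r₁)) • r₁, ?_, ?_, ?_, ?_, ?_⟩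
      · rw [Q_add, Q_smul, h₁.qr, B_smul_right, neg_mul (Cfsg.quadFormPlus n F z / B z r₁) (B z r₁),
          div_mul_cancel₀ _ (z1 ▸ hy1)]
        ring
      · rw [B_add_left, B_smul_left, (proj y).1, B_comm r₁ a, har]; ring
      · rw [B_add_left, B_smul_left, (proj y).2, h₁.brp]; ring
      · rw [B_add_left, B_smul_left, h₁.brr, z1]; simpa using hy1
      · rw [B_add_left, B_smul_left, h12, z2]; simpa using hy2
    · set x := B r₁ r₂ with hx
      have hx' : B r₂ r₁ = x := by rw [B_comm]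
      obtain ⟨v, hva, hvp, hv1, hv2, hqv⟩ : ∃ v, B v a = 0 ∧ B v p = 0 ∧ B v r₁ = 0 ∧ B v r₂ = 0 ∧
          Cfsg.quadFormPlus n F v ≠ 0 := by
        let P : (Fin n ⊕ Fin n → F) → (Fin n ⊕ Fin n → F) := fun y =>
          (y - B y a • p - B y p • a) - (B y r₂ / x) • r₁ - (B y r₁ / x) • r₂
        have hP : ∀ y, B (P y) a = 0 ∧ B (P y) p = 0 ∧ B (P y) r₁ = 0 ∧ B (P y) r₂ = 0 := fun y => by
          refine ⟨?_, ?_, ?_, ?_⟩ <;> (simp only [P]; rw [B_sub_left, B_sub_left, B_smul_left, B_smul_left])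
          · rw [(proj y).1, B_comm r₁ a, har, B_comm r₂ a, har']; ring
          · rw [(proj y).2, h₁.brp, h₂.brp]; ring
          · rw [lift y r₁ har hpr, h₁.brr, hx', div_mul_cancel₀ _ h12]; ring
          · rw [lift y r₂ har' hpr', h₂.brr, ← hx, div_mul_cancel₀ _ h12]; ring
        by_contra hno
        push Not at hno
        have hall : ∀ y, Cfsg.quadFormPlus n F (P y) = 0 := fun y => hno _ (hP y).1 (hP y).2.1 (hP y).2.2.1 (hP y).2.2.2
        let f : (Fin n ⊕ Fin n → F) →ₗ[F] (Fin 4 → F) :=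
          { toFun := fun w => ![B w a, B w p, B w r₁, B w r₂]
            map_add' := fun u w => by funext i; fin_cases i <;> simp [B_add_left]
            map_smul' := fun c u => by funext i; fin_cases i <;> simp [B_smul_left] }
        obtain ⟨u, hu, hu0⟩ := (Submodule.ne_bot_iff _).mp (LinearMap.ker_ne_bot_of_finrank_lt (f := f) (by simp; omega))
        have hu' := LinearMap.mem_ker.mp hu
        have u1 : B u a = 0 := congrFun hu' 0
        have u2 : B u p = 0 := congrFun hu' 1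
        have u3 : B u r₁ = 0 := congrFun hu' 2
        have u4 : B u r₂ = 0 := congrFun hu' 3
        refine hu0 (B_nondeg fun y => ?_)
        have q1 := hall y
        have q2 : Cfsg.quadFormPlus n F u = 0 := hno u u1 u2 u3 u4
        have q3 : Cfsg.quadFormPlus n F (P y + u) = 0 := hno _ (by rw [B_add_left, (hP y).1, u1, add_zero])
          (by rw [B_add_left, (hP y).2.1, u2, add_zero]) (by rw [B_add_left, (hP y).2.2.1, u3, add_zero])
          (by rw [B_add_left, (hP y).2.2.2, u4, add_zero])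
        rw [Q_add, q1, q2, zero_add, zero_add] at q3
        simp only [P, B_sub_left, B_smul_left, B_comm p u, B_comm a u, B_comm r₁ u, B_comm r₂ u, u1, u2, u3, u4,
          mul_zero, sub_zero] at q3
        exact q3
      refine ⟨(1 / x) • r₁ + (-(Cfsg.quadFormPlus n F v)) • r₂ + v, ?_, ?_, ?_, ?_, ?_⟩
      · simp only [Q_add, Q_smul, h₁.qr, h₂.qr, B_add_left, B_smul_left, B_smul_right, B_comm r₁ v, hv1,
          B_comm r₂ v, hv2, ← hx]
        field_simp
        ring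
      · rw [B_add_left, B_add_left, B_smul_left, B_smul_left, B_comm r₁ a, har, B_comm r₂ a, har', hva]; ring
      · rw [B_add_left, B_add_left, B_smul_left, B_smul_left, h₁.brp, h₂.brp, hvp]; ring
      · rw [B_add_left, B_add_left, B_smul_left, B_smul_left, h₁.brr, hx', hv1]
        simpa using ⟨hqv, h12⟩
      · rw [B_add_left, B_add_left, B_smul_left, B_smul_left, ← hx, h₂.brr, hv2]
        simp [h12]
  have hK : TS a b := by
    refine ⟨LinearIndependent.pair_iff.mpr fun u w e => ?_, ha, hb, by rw [Q_add, ha, hb, B_comm, hba]; ring⟩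
    have e1 := congrArg (fun z => B z p) e
    have e2 := congrArg (fun z => B z r₁) e
    simp [B_add_left, B_smul_left, hap, hbp, B_zero_left] at e1
    simp [B_add_left, B_smul_left, har, B_zero_left, hb1] at e2
    exact ⟨e1, e2⟩
  have adj : ∀ {r}, TS p r → B a r = 0 → B b r ≠ 0 →
      Cfsg.FAdj (scls n F) (sgrp p r) (sgrp a b) ∧ Cfsg.FAdj (scls n F) (sgrp a b) (sgrp p r) := by
    intro r hr h0 h1
    have hp := (SiegelClass.pair hr hK (by rw [hpa, B_comm p b, hbp, B_comm r b]; simpa using h1)).1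
    exact ⟨⟨mem_scls hr, mem_scls hK, hp⟩, ⟨mem_scls hK, mem_scls hr, Cfsg.RankOnePair_symm hp⟩⟩
  exact (Relation.ReflTransGen.single (adj h₁ har hb1).1).tail (adj h₂ har' hb2).2

theorem connected {n : ℕ} (hn : 3 ≤ n) : Cfsg.IsConnectedFamily (Cfsg.FAdj (scls n F)) (scls n F) := by
  intro A hA C hC
  obtain ⟨p, r, h, rfl⟩ := repr_scls hA
  obtain ⟨s, t, h', rfl⟩ := repr_scls hC
  by_cases e : B p s = 0
  · by_cases hli : LinearIndependent F ![p, s]
    · have k : TS p s := ⟨hli, h.qp, h'.qp, by rw [Q_add, h.qp, h'.qp, e]; ring⟩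
      refine (common_opp hn h k).trans ?_
      rw [← sgrp_swap k]
      exact common_opp hn k.symm h'
    · obtain ⟨c, hc⟩ : ∃ c : F, c • p = s := by
        rw [LinearIndependent.pair_iff] at hli
        push Not at hli
        obtain ⟨x, y, exy, hne⟩ := hli
        have hy : y ≠ 0 := fun e0 => by
          rw [e0, zero_smul, add_zero, smul_eq_zero] at exy
          exact hne (exy.resolve_right h.p_ne) e0
        refine ⟨-(x / y), ?_⟩
        have : y • s = -(x • p) := eq_neg_of_add_eq_zero_right exy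
        rw [neg_smul, div_eq_mul_inv, mul_comm, mul_smul, ← smul_neg, ← this, smul_smul, inv_mul_cancel₀ hy, one_smul]
      have hc0 : c ≠ 0 := fun e0 => h'.p_ne (by rw [← hc, e0, zero_smul])
      have d : c⁻¹ * 1 - 0 * 0 ≠ (0 : F) := by simpa using inv_ne_zero hc0
      have k := h'.change d
      rw [← sgrp_change h' d]
      have e' : c⁻¹ • s + (0 : F) • t = p := by rw [← hc, smul_smul, inv_mul_cancel₀ hc0]; simp
      rw [e'] at k ⊢
      exact common_opp hn h k
  · obtain ⟨w, hw0, hw, hwu⟩ := exists_sing (show 2 < n by omega) ![p, s]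
    have wp : B w p = 0 := hwu 0
    have ws : B w s = 0 := hwu 1
    have mk : ∀ {x y : Fin n ⊕ Fin n → F}, Cfsg.quadFormPlus n F x = 0 → x ≠ 0 → B w x = 0 → B x y ≠ 0 → B w y = 0 → TS x w := by
      intro x y hx hx0 hwx hxy hwy
      refine ⟨LinearIndependent.pair_iff.mpr fun u v euv => ?_, hx, hw, by rw [Q_add, hx, hw, B_comm, hwx]; ring⟩
      have := congrArg (fun z => B z y) euv
      simp [B_add_left, B_smul_left, hwy, B_zero_left, hxy] at this
      refine ⟨this, ?_⟩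
      rw [this, zero_smul, zero_add, smul_eq_zero] at euv
      exact euv.resolve_right hw0
    have k1 : TS p w := mk h.qp h.p_ne wp e ws
    have k2 : TS s w := mk h'.qp h'.p_ne ws (by rw [B_comm]; exact e) wp
    refine (common_opp hn h k1).trans ?_
    rw [← sgrp_swap k1]
    refine (common_opp hn k1.symm k2.symm).trans ?_
    rw [sgrp_swap k2]
    exact common_opp hn k2 h'

theorem main {n : ℕ} (hn : 3 ≤ n) :
    Cfsg.IsKRootSubgroupSet F ((fun A : Subgroup (Og n F) => A.subgroupOf (⨆ C ∈ scls n F, C)) '' scls n F) ∧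
      Cfsg.IsConnectedFamily (Cfsg.FAdj (scls n F)) (scls n F) := by
  refine ⟨?_, connected hn⟩
  set H : Subgroup (Og n F) := ⨆ C ∈ scls n F, C with hH
  have hle : ∀ A ∈ scls n F, A ≤ H := fun A hA => le_iSup₂ (f := fun C (_ : C ∈ scls n F) => C) A hA
  have hcases : ∀ A ∈ scls n F, ∀ C ∈ scls n F, (⁅A, C⁆ = ⊥ ∨ Cfsg.RootCommutatorCase (scls n F) A C) ∨
      (Cfsg.IsRankOnePair A C ∧ Cfsg.IsPSL2PairOver F A C) := by
    intro A hA C hC
    obtain ⟨p, r, h, rfl⟩ := repr_scls hA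
    obtain ⟨s, t, h', rfl⟩ := repr_scls hC
    by_cases hdet : B p s * B r t - B p t * B r s = 0
    · exact Or.inl (SiegelClass.degenerate (scls n F) (fun k => mem_scls k) h h' hdet)
    · exact Or.inr (SiegelClass.pair h h' hdet)
  have hset : Cfsg.IsRootSubgroupSet ((fun A : Subgroup (Og n F) => A.subgroupOf H) '' scls n F) := by
    refine CfsgLib.QP.Sub.isRootSubgroupSet_subgroupOf rfl ?_ ?_ ?_ ?_
    · intro A hA; obtain ⟨p, r, h, rfl⟩ := repr_scls hA; exact sgrp_comm h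
    · intro A hA; obtain ⟨p, r, h, rfl⟩ := repr_scls hA; exact sgrp_ne_bot h
    · intro A hA g _
      obtain ⟨p, r, h, rfl⟩ := repr_scls hA
      rw [conj_sgrp h]; exact mem_scls (h.move g)
    · intro A hA C hC
      rcases hcases A hA C hC with (h | h) | h
      · exact Or.inl h
      · exact Or.inr (Or.inr h)
      · exact Or.inr (Or.inl h.1)
  refine ⟨hset, ?_⟩
  rintro _ ⟨A, hA, rfl⟩ _ ⟨C, hC, rfl⟩ hp
  rcases hcases A hA C hC with h | h
  · exfalso
    refine CfsgLib.RootSub.UnitClass.not_rankOne_of_central (hset.commutative _ ⟨_, hA, rfl⟩)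
      (hset.ne_bot _ ⟨_, hA, rfl⟩) (fun c hc a ha => ?_) hp
    rcases h with h | h
    · rw [CfsgLib.QP.Sub.commutator_subgroupOf (hle A hA) (hle C hC), h] at hc
      rw [show c = 1 from Subtype.ext (Subgroup.mem_bot.mp hc)]; simp
    · exact (CfsgLib.QP.Sub.rcc_subgroupOf (hle A hA) (hle C hC) h).2.1 c hc a (Subgroup.mem_sup_left ha)
  · exact CfsgLib.RootSub.UnitClass.psl2_subgroupOf (hle A hA) (hle C hC) h.2

end

/-- Let F be a field, m a natural number and V = F^{2(m+3)} with the hyperbolic quadratic form q(x, y) = Σ xᵢ yᵢ (non-degenerate, Witt index m + 3 ≥ 3). For a singular line ℓ (a 2-dimensional subspace on which q vanishes) let T(ℓ) be the group of isometries of q fixing every vector of ℓ^⊥ (the Siegel transvection group of ℓ), let Σ be the set of these groups and G₀ the subgroup they generate. Then, viewed inside G₀, the members of Σ form a set of abstract F-root subgroups of G₀ (any two commute, or are the unipotent subgroups of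 a rank one group that is an image of SL₂(F) with central kernel, or satisfy the commutator case), and their graph of rank one pairs is connected. -/
theorem result (F : Type*) [Field F] (m : ℕ) :
    Cfsg.IsKRootSubgroupSet F ((fun A : Subgroup ↥(Cfsg.isometryGroup F (Cfsg.quadFormPlus (m + 3) F)) => A.subgroupOf (⨆ B ∈ {A : Subgroup ↥(Cfsg.isometryGroup F (Cfsg.quadFormPlus (m + 3) F)) | ∃ p r : Fin (m + 3) ⊕ Fin (m + 3) → F, LinearIndependent F ![p, r] ∧
          Cfsg.quadFormPlus (m + 3) F p = 0 ∧ Cfsg.quadFormPlus (m + 3) F r = 0 ∧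
          Cfsg.quadFormPlus (m + 3) F (p + r) = 0 ∧
          A = Subgroup.closure {σ : ↥(Cfsg.isometryGroup F (Cfsg.quadFormPlus (m + 3) F)) | ∀ v : Fin (m + 3) ⊕ Fin (m + 3) → F,
            Cfsg.quadFormPlus (m + 3) F (v + p) - Cfsg.quadFormPlus (m + 3) F v - Cfsg.quadFormPlus (m + 3) F p = 0 →
            Cfsg.quadFormPlus (m + 3) F (v + r) - Cfsg.quadFormPlus (m + 3) F v - Cfsg.quadFormPlus (m + 3) F r = 0 →
              ((σ : Matrix.GeneralLinearGroup (Fin (m + 3) ⊕ Fin (m + 3)) F) : Matrix (Fin (m + 3) ⊕ Fin (m + 3)) (Fin (m + 3) ⊕ Fin (m + 3)) F) *ᵥ v = v}}, B)) ''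
      {A : Subgroup ↥(Cfsg.isometryGroup F (Cfsg.quadFormPlus (m + 3) F)) | ∃ p r : Fin (m + 3) ⊕ Fin (m + 3) → F, LinearIndependent F ![p, r] ∧
          Cfsg.quadFormPlus (m + 3) F p = 0 ∧ Cfsg.quadFormPlus (m + 3) F r = 0 ∧
          Cfsg.quadFormPlus (m + 3) F (p + r) = 0 ∧
          A = Subgroup.closure {σ : ↥(Cfsg.isometryGroup F (Cfsg.quadFormPlus (m + 3) F)) | ∀ v : Fin (m + 3) ⊕ Fin (m + 3) → F,
            Cfsg.quadFormPlus (m + 3) F (v + p) - Cfsg.quadFormPlus (m + 3) F v - Cfsg.quadFormPlus (m + 3) F p = 0 →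
            Cfsg.quadFormPlus (m + 3) F (v + r) - Cfsg.quadFormPlus (m + 3) F v - Cfsg.quadFormPlus (m + 3) F r = 0 →
              ((σ : Matrix.GeneralLinearGroup (Fin (m + 3) ⊕ Fin (m + 3)) F) : Matrix (Fin (m + 3) ⊕ Fin (m + 3)) (Fin (m + 3) ⊕ Fin (m + 3)) F) *ᵥ v = v}}) ∧
    Cfsg.IsConnectedFamily (Cfsg.FAdj {A : Subgroup ↥(Cfsg.isometryGroup F (Cfsg.quadFormPlus (m + 3) F)) | ∃ p r : Fin (m + 3) ⊕ Fin (m + 3) → F, LinearIndependent F ![p, r] ∧
          Cfsg.quadFormPlus (m + 3) F p = 0 ∧ Cfsg.quadFormPlus (m + 3) F r = 0 ∧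
          Cfsg.quadFormPlus (m + 3) F (p + r) = 0 ∧
          A = Subgroup.closure {σ : ↥(Cfsg.isometryGroup F (Cfsg.quadFormPlus (m + 3) F)) | ∀ v : Fin (m + 3) ⊕ Fin (m + 3) → F,
            Cfsg.quadFormPlus (m + 3) F (v + p) - Cfsg.quadFormPlus (m + 3) F v - Cfsg.quadFormPlus (m + 3) F p = 0 →
            Cfsg.quadFormPlus (m + 3) F (v + r) - Cfsg.quadFormPlus (m + 3) F v - Cfsg.quadFormPlus (m + 3) F r = 0 →
              ((σ : Matrix.GeneralLinearGroup (Fin (m + 3) ⊕ Fin (m + 3)) F) : Matrix (Fin (m + 3) ⊕ Fin (m + 3)) (Fin (m + 3) ⊕ Fin (m + 3)) F) *ᵥ v = v}})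
      {A : Subgroup ↥(Cfsg.isometryGroup F (Cfsg.quadFormPlus (m + 3) F)) | ∃ p r : Fin (m + 3) ⊕ Fin (m + 3) → F, LinearIndependent F ![p, r] ∧
          Cfsg.quadFormPlus (m + 3) F p = 0 ∧ Cfsg.quadFormPlus (m + 3) F r = 0 ∧
          Cfsg.quadFormPlus (m + 3) F (p + r) = 0 ∧
          A = Subgroup.closure {σ : ↥(Cfsg.isometryGroup F (Cfsg.quadFormPlus (m + 3) F)) | ∀ v : Fin (m + 3) ⊕ Fin (m + 3) → F,
            Cfsg.quadFormPlus (m + 3) F (v + p) - Cfsg.quadFormPlus (m + 3) F v - Cfsg.quadFormPlus (m + 3) F p = 0 →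
            Cfsg.quadFormPlus (m + 3) F (v + r) - Cfsg.quadFormPlus (m + 3) F v - Cfsg.quadFormPlus (m + 3) F r = 0 →
              ((σ : Matrix.GeneralLinearGroup (Fin (m + 3) ⊕ Fin (m + 3)) F) : Matrix (Fin (m + 3) ⊕ Fin (m + 3)) (Fin (m + 3) ⊕ Fin (m + 3)) F) *ᵥ v = v}} := by
  exact main (by omega)

end Cfsg.Agent.S5072
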