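import Cfsg.Statements.S5075
import Cfsg.Agent.Lib.RootSub.McL.Final
-- import your own Cfsg.Agent.* helpers here

set_option autoImplicit false
open Cfsg

namespace Cfsg.Agent.S5075

/-- Let p be an odd prime, V a finite-dimensional vector space over the field with p elements, and H a group of linear automorphisms of V generated by transvections (elements of order p fixing a hyperplane pointwise) and having no nontrivial normal p-subgroup. Then for some n ≥ 1 there are a decomposition V = V₀ ⊕ V₁ ⊕ ⋯ ⊕ Vₙ into H-invariant subspaces and a decomposition of H as the internal direct product of normal subgroups H₁, …, Hₙ such that Hⱼ acts trivially on every Vᵢ with i ≠ j, and Hⱼ induces on Vⱼ exactly the special linear group of Vⱼ or exactly the isometry group of a non-degenerate alternating form on Vⱼ. -/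
theorem result {p : ℕ} [Fact p.Prime] (hp : Odd p) {V : Type*} [AddCommGroup V] [Module (ZMod p) V] [Finite V]
    (H : Subgroup (V ≃ₗ[ZMod p] V)) (T : Set (V ≃ₗ[ZMod p] V)) (hHT : H = Subgroup.closure T)
    (hT : ∀ t ∈ T, orderOf t = p ∧
      Module.finrank (ZMod p) ↥(LinearMap.ker ((t : V →ₗ[ZMod p] V) - LinearMap.id)) + 1 =
        Module.finrank (ZMod p) V)
    (hOp : Cfsg.pCore p ↥H = ⊥) :
    ∃ (n : ℕ) (W : Fin (n + 1) → Submodule (ZMod p) V) (K : Fin n → Subgroup (V ≃ₗ[ZMod p] V)),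
      1 ≤ n ∧ DirectSum.IsInternal W ∧
      (∀ h ∈ H, ∀ i, (W i).map (h : V →ₗ[ZMod p] V) = W i) ∧
      (∀ j, K j ≤ H ∧ ((K j).subgroupOf H).Normal) ∧ ⨆ j, K j = H ∧
      (∀ j, K j ⊓ (⨆ j' ∈ {j' : Fin n | j' ≠ j}, K j') = ⊥) ∧
      (∀ j j', j ≠ j' → ∀ a ∈ K j, ∀ b ∈ K j', a * b = b * a) ∧
      (∀ j, ∀ h ∈ K j, ∀ i : Fin (n + 1), i ≠ j.succ → ∀ v ∈ W i, h v = v) ∧
      (∀ j, ∃ ρ : ↥(K j) →* (↥(W j.succ) ≃ₗ[ZMod p] ↥(W j.succ)),
        (∀ (h : ↥(K j)) (v : ↥(W j.succ)), ((ρ h v : ↥(W j.succ)) : V) = (h : V ≃ₗ[ZMod p] V) (v : V)) ∧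
        ((ρ.range : Set (↥(W j.succ) ≃ₗ[ZMod p] ↥(W j.succ))) =
            {f : ↥(W j.succ) ≃ₗ[ZMod p] ↥(W j.succ) | LinearMap.det (f : ↥(W j.succ) →ₗ[ZMod p] ↥(W j.succ)) = 1} ∨
          ∃ B : LinearMap.BilinForm (ZMod p) ↥(W j.succ), B.IsAlt ∧ B.Nondegenerate ∧
            (ρ.range : Set (↥(W j.succ) ≃ₗ[ZMod p] ↥(W j.succ))) = {f : ↥(W j.succ) ≃ₗ[ZMod p] ↥(W j.succ) | ∀ x y, B (f x) (f y) = B x y})) := by
  have hS := CfsgLib.McL.tsys (H := H) hp hOp
  have h2 : (2 : ZMod p) ≠ 0 := by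
    haveI : Fact (2 < p) := ⟨lt_of_le_of_ne (Fact.out : p.Prime).two_le fun e => absurd (e ▸ hp) (by decide)⟩
    exact Ring.two_ne_zero (by rw [ZMod.ringChar_zmod_n]; exact (Fact.out : 2 < p).ne')
  obtain ⟨n, W, U, hB, hord, hblk⟩ := CfsgLib.McL.exists_blocks h2 _ hS
  have hcov : ∀ t ∈ T, ∃ i, t ∈ CfsgLib.McL.blockTv H (W i) (U i) := fun t ht => by
    obtain ⟨x, θ, hx, hθ, h0, hv⟩ := CfsgLib.McL.exists_tv (hT t ht).1 (hT t ht).2
    have htH : t ∈ H := hHT ▸ Subgroup.subset_closure ht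
    obtain ⟨i, hi, hiU⟩ := hblk x θ ⟨h0, t, htH, hv⟩ hx hθ
    exact ⟨i, Subgroup.subset_closure ⟨htH, x, θ, hi, hiU, h0, hv⟩⟩
  rcases Nat.eq_zero_or_pos n with rfl | hn
  · have hH : H = ⊥ := by
      rw [hHT, Subgroup.closure_eq_bot_iff]
      intro t ht
      obtain ⟨i, -⟩ := hcov t ht
      exact i.elim0
    subst hH
    refine ⟨1, Fin.cons ⊤ fun _ => ⊥, fun _ => ⊥, le_rfl, ?_, fun h hh i => ?_, fun j => ⟨le_rfl, inferInstance⟩,
      iSup_const, fun j => bot_inf_eq _, fun j j' hne => absurd (Subsingleton.elim j j') hne, fun j h hh i _ v _ => ?_,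
      fun j => ⟨1, fun h v => ?_, Or.inl ?_⟩⟩
    · rw [DirectSum.isInternal_submodule_iff_iSupIndep_and_iSup_eq_top]
      refine ⟨iSupIndep_def.mpr ?_, ?_⟩
      · refine Fin.cases ?_ fun i => ?_
        · simp only [Fin.cons_zero]
          refine disjoint_bot_right.mono_right (iSup₂_le fun j hj => ?_)
          obtain ⟨i, rfl⟩ := Fin.exists_succ_eq_of_ne_zero hj
          simp
        · simp
      · rw [eq_top_iff]
        exact le_iSup_of_le (f := (Fin.cons ⊤ fun _ => ⊥ : Fin 2 → Submodule (ZMod p) V)) 0 le_rfl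
    · rw [Subgroup.mem_bot] at hh; subst hh; exact Submodule.map_id _
    · rw [Subgroup.mem_bot] at hh; subst hh; rfl
    · obtain ⟨h, hh⟩ := h
      rw [Subgroup.mem_bot] at hh; subst hh; rfl
    · ext f
      simp only [Set.mem_setOf_eq, SetLike.mem_coe, Fin.cons_succ]
      haveI : Subsingleton (↥((Fin.cons ⊤ fun _ => ⊥ : Fin 2 → Submodule (ZMod p) V) j.succ)) := by
        simp only [Fin.cons_succ]; infer_instance
      exact ⟨fun _ => LinearMap.det_eq_one_of_subsingleton _, fun _ => ⟨1, LinearEquiv.ext fun v => Subsingleton.elim _ _⟩⟩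
  obtain ⟨W0, h1, h3, h4, h5, h6, h7, h8⟩ := CfsgLib.McL.decomp_of_blocks hS T hHT W U hB hord hcov
  exact ⟨n, Fin.cons W0 W, fun j => CfsgLib.McL.blockTv H (W j) (U j), hn, h1, h3, h4, h5, h6, h7, h8,
    fun j => CfsgLib.McL.block_range hS (hB j)⟩

end Cfsg.Agent.S5075
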