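import Cfsg.Statements.S5083
import Cfsg.Agent.Lib.Fusion.Normal
-- import your own Cfsg.Agent.* helpers here

set_option autoImplicit false
open Cfsg

namespace Cfsg.Agent.S5083

/-- If F is a saturated fusion system over a finite p-group S in which Aut_F(P) is a p-group for every P ≤ S, then F is the inner fusion system of S (all its maps are conjugations by elements of S). -/
theorem result {Ω : Type*} [Group Ω] {S : Subgroup Ω} [Finite S] (p : ℕ) [Fact p.Prime] (hS : IsPGroup p S) (F : Cfsg.FusionSystem S) (hF : F.IsSaturated p) (h : ∀ P : Subgroup Ω, P ≤ S → IsPGroup p (F.autGroup P)) : F = Cfsg.innerFusionSystem S := by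
  refine FusionSystem.hom_ext fun P => Set.Subset.antisymm ?_ (FusionSystem.innerFusionSystem_le F P)
  refine hF.le_of_autGroup_le hS _ ?_ P
  rintro Q (rfl | hQ)
  · rw [hF.autGroup_self_eq_inn hS (h Q le_rfl), FusionSystem.autGroup_innerFusionSystem le_rfl,
      inn_eq_autInducedBy]
  · exfalso
    have hQS := hQ.1.1
    have hfin := FusionSystem.finite_autGroup (F := F) hQS
    obtain ⟨-, -, hnorm, E, hE⟩ := hQ
    have hp := (h Q hQS).to_quotient ((Inn Q).subgroupOf (F.autGroup Q))
    have htop := Cfsg.IsStronglyPEmbedded.eq_bot_of_normal_pGroup hE ⊤ (hp.of_equiv Subgroup.topEquiv.symm)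
    have hcard := congrArg (fun H : Subgroup _ => Nat.card H) htop
    simp only [Subgroup.card_top, Subgroup.card_bot] at hcard
    obtain ⟨hd, -⟩ := hE
    rw [hcard, Nat.dvd_one] at hd
    exact (Fact.out : p.Prime).ne_one hd

end Cfsg.Agent.S5083
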