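import Cfsg.Statements.S5088
import Cfsg.Agent.Lib.Fusion.Normal
-- import your own Cfsg.Agent.* helpers here

set_option autoImplicit false
open Cfsg

namespace Cfsg.Agent.S5088

/-- The upper central series of `Q`, seen in the ambient group. -/
def ucs {Ω : Type*} [Group Ω] (Q : Subgroup Ω) (k : ℕ) : Subgroup Ω :=
  (Subgroup.upperCentralSeries Q k).map Q.subtype

/-- In a saturated fusion system over a finite p-group, a subgroup Q is normal in the system if and only if there is a chain of subgroups 1 = Q₀ ≤ Q₁ ≤ ⋯ ≤ Qₙ = Q such that each Qᵢ with i ≥ 1 is strongly closed in the system and [Q, Qᵢ] ≤ Qᵢ₋₁. -/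
theorem result {Ω : Type*} [Group Ω] {S : Subgroup Ω} [Finite S] (p : ℕ) [Fact p.Prime] (hS : IsPGroup p S) (F : Cfsg.FusionSystem S) (hF : F.IsSaturated p) (Q : Subgroup Ω) : F.IsNormal Q ↔ ∃ (n : ℕ) (Qs : Fin (n + 1) → Subgroup Ω), Qs 0 = ⊥ ∧ Qs (Fin.last n) = Q ∧ Monotone Qs ∧ ∀ i : Fin n, F.StronglyClosed (Qs i.succ) ∧ ⁅Q, Qs i.succ⁆ ≤ Qs (Fin.castSucc i) := by
  refine ⟨fun h => ?_, fun ⟨n, Qs, h0, hl, hm, hs⟩ => hF.isNormal_of_series hS Qs h0 hl hm hs⟩
  have hfin := FusionSystem.finite_of_le h.1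
  have : Group.IsNilpotent Q := (hS.to_le h.1).isNilpotent
  obtain ⟨c, hc⟩ := Group.IsNilpotent.nilpotent (G := Q)
  refine ⟨c, fun i => ucs Q i, by simp [ucs], ?_, ?_, fun i => ⟨?_, ?_⟩⟩
  · simp [ucs, hc, ← MonoidHom.range_eq_map]
  · exact fun i j hij => Subgroup.map_mono (Subgroup.upperCentralSeries_mono Q (by simpa using hij))
  · refine (h.of_characteristic (Subgroup.map_subtype_le _) ?_).stronglyClosed
    show ((ucs Q i.succ).subgroupOf Q).Characteristic
    simp only [ucs, Subgroup.subgroupOf]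
    rw [ Subgroup.comap_map_eq_self_of_injective Q.subtype_injective]
    infer_instance
  · rw [Subgroup.commutator_le]
    rintro q hq _ ⟨y, hy, rfl⟩
    refine ⟨(⟨q, hq⟩ : Q) * y * (⟨q, hq⟩ : Q)⁻¹ * y⁻¹, ?_, rfl⟩
    have := (Subgroup.mem_upperCentralSeries_succ_iff.mp hy) ⟨q, hq⟩
    have h2 := (Subgroup.upperCentralSeries Q i.castSucc).inv_mem this
    rwa [commutatorElement_inv] at h2

end Cfsg.Agent.S5088
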