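import Cfsg.Statements.S5094
import Cfsg.Agent.Lib.ZStar.Powers
import Cfsg.Agent.Lib.Fusion.Basic

set_option autoImplicit false
open Cfsg

namespace Cfsg.Agent.S5094

/-- Glauberman's Z*-Theorem in fusion language: for a finite group G with Sylow 2-subgroup S, the centre of the fusion system of G on S is the set of elements of S whose image in G/O(G) is central, O(G) being the largest normal subgroup of odd order. -/
theorem result {G : Type*} [Group G] [Finite G] (S : Sylow 2 G) : (Cfsg.groupFusionSystem (S : Subgroup G)).center = (S : Subgroup G) ⊓ (Subgroup.center (G ⧸ Cfsg.oddCore G)).comap (QuotientGroup.mk' (Cfsg.oddCore G)) := by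
  classical
  haveI : Fact (Nat.Prime 2) := ⟨Nat.prime_two⟩
  refine le_antisymm (sSup_le fun Q hQ z hz => ⟨hQ.1 hz, ?_⟩) (le_sSup ?_)
  · -- a central element is central modulo the odd core
    have hwc : ∀ (i : ℕ) (g : G), g * z ^ i * g⁻¹ ∈ (S : Subgroup G) →
        g * z ^ i * g⁻¹ = z ^ i := by
      intro i g hg
      have hzi : z ^ i ∈ Q := Q.pow_mem hz i
      have hcyc : Subgroup.zpowers (z ^ i) ≤ (S : Subgroup G) := Subgroup.zpowers_le.2 (hQ.1 hzi)
      obtain ⟨ψ, -, hψP, hψQ⟩ := hQ.2 (Subgroup.zpowers (z ^ i))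
        ((MulAut.conj g).toMonoidHom.comp (Subgroup.zpowers (z ^ i)).subtype) ⟨hcyc, fun x => by
          obtain ⟨m, hm⟩ := Subgroup.mem_zpowers_iff.1 x.2
          show g * (x : G) * g⁻¹ ∈ (S : Subgroup G)
          rw [← hm, ← conj_zpow]
          exact (S : Subgroup G).zpow_mem hg m, g, fun x => rfl⟩
      have h1 := hψP ⟨z ^ i, Subgroup.mem_zpowers _⟩
      have h2 := hψQ ⟨z ^ i, hzi⟩
      exact h1.symm.trans h2
    show QuotientGroup.mk' (Cfsg.oddCore G) z ∈ Subgroup.center (G ⧸ Cfsg.oddCore G)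
    rw [Subgroup.mem_center_iff]
    intro q
    obtain ⟨g, rfl⟩ := QuotientGroup.mk_surjective q
    have hin := CfsgLib.ZStar.inZStar_of_powers (Nat.card G) G rfl S z (hQ.1 hz) hwc g
    have h3 : ((g * z * g⁻¹ * z⁻¹ : G) : G ⧸ Cfsg.oddCore G) = 1 := (QuotientGroup.eq_one_iff _).2 hin
    simp only [QuotientGroup.mk'_apply]
    rw [QuotientGroup.mk_mul, QuotientGroup.mk_mul, QuotientGroup.mk_mul, QuotientGroup.mk_inv,
      QuotientGroup.mk_inv, mul_inv_eq_one, mul_inv_eq_iff_eq_mul] at h3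
    exact h3
  · -- the intersection is central
    set O := Cfsg.oddCore G with hO
    set Q := (S : Subgroup G) ⊓ (Subgroup.center (G ⧸ O)).comap (QuotientGroup.mk' O) with hQdef
    have hOodd : ∀ x ∈ O, ∀ k : ℕ, x ^ 2 ^ k = 1 → x = 1 := by
      intro x hx k hk
      refine orderOf_eq_one_iff.1 (Nat.eq_one_of_dvd_coprimes ?_ (orderOf_dvd_of_pow_eq_one hk)
        (Subgroup.orderOf_dvd_natCard _ hx))
      exact ((CfsgLib.card_pPrimeCore_coprime 2).symm).pow_left k
    have hcomm : ∀ (g : G) (q : G), q ∈ Q → g * q * g⁻¹ * q⁻¹ ∈ O := by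
      intro g q hq
      rw [← QuotientGroup.eq_one_iff, QuotientGroup.mk_mul, QuotientGroup.mk_mul,
        QuotientGroup.mk_mul, QuotientGroup.mk_inv, QuotientGroup.mk_inv]
      have h1 := Subgroup.mem_center_iff.1 hq.2 (g : G ⧸ O)
      simp only [QuotientGroup.mk'_apply] at h1
      rw [h1, mul_inv_cancel_right, mul_inv_cancel]
    have hSO : ∀ x ∈ (S : Subgroup G), x ∈ O → x = 1 := fun x hxS hxO => by
      obtain ⟨k, hk⟩ := S.2 ⟨x, hxS⟩
      exact hOodd x hxO k (congrArg Subtype.val hk)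
    have hQS : ∀ q ∈ Q, ∀ s ∈ (S : Subgroup G), q * s = s * q := fun q hq s hs => by
      have h2 := hSO _ ((S : Subgroup G).mul_mem ((S : Subgroup G).mul_mem
        ((S : Subgroup G).mul_mem hs hq.1) ((S : Subgroup G).inv_mem hs))
        ((S : Subgroup G).inv_mem hq.1)) (hcomm s q hq)
      exact (mul_inv_eq_iff_eq_mul.1 (mul_inv_eq_one.1 h2)).symm
    refine ⟨inf_le_left, fun P φ hφ => ?_⟩
    obtain ⟨hPS, hφS, g, hg⟩ := hφ
    -- find a conjugating element fixing `Q`
    set H : Subgroup G := (Q ⊔ O) ⊓ Subgroup.centralizer (Set.range φ) with hH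
    have hmemH : ∀ q ∈ Q, q ∈ H := fun q hq =>
      ⟨Subgroup.mem_sup_left hq, Subgroup.mem_centralizer_iff.2 fun y ⟨x, hx⟩ => by
        subst hx; exact (hQS q hq (φ x) (hφS x)).symm⟩
    have hmemH' : ∀ q ∈ Q, g * q * g⁻¹ ∈ H := fun q hq =>
      ⟨by rw [show g * q * g⁻¹ = g * q * g⁻¹ * q⁻¹ * q by group]
          exact Subgroup.mul_mem _ (Subgroup.mem_sup_right (hcomm g q hq)) (Subgroup.mem_sup_left hq),
        Subgroup.mem_centralizer_iff.2 fun y ⟨x, hx⟩ => by
          subst hx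
          rw [hg x]
          calc g * (x : G) * g⁻¹ * (g * q * g⁻¹) = g * ((x : G) * q) * g⁻¹ := by group
            _ = g * (q * (x : G)) * g⁻¹ := by rw [hQS q hq x (hPS x.2)]
            _ = g * q * g⁻¹ * (g * (x : G) * g⁻¹) := by group⟩
    have hQ2 : IsPGroup 2 Q := S.2.to_le inf_le_left
    let R1 : Subgroup H := Q.subgroupOf H
    let R2 : Subgroup H := (Q.map (MulAut.conj g).toMonoidHom).subgroupOf H
    obtain ⟨T1, hT1⟩ := (hQ2.comap_of_injective H.subtype H.subtype_injective : IsPGroup 2 R1).exists_le_sylow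
    obtain ⟨T2, hT2⟩ := ((hQ2.map _).comap_of_injective H.subtype H.subtype_injective :
      IsPGroup 2 R2).exists_le_sylow
    obtain ⟨c, hc⟩ := MulAction.exists_smul_eq H T2 T1
    have hfix : ∀ q ∈ Q, (c : G) * g * q * ((c : G) * g)⁻¹ = q := by
      intro q hq
      have h1 : (⟨_, hmemH' q hq⟩ : H) ∈ (T2 : Subgroup H) := hT2 ⟨q, hq, rfl⟩
      have h2 : c * ⟨_, hmemH' q hq⟩ * c⁻¹ ∈ (T1 : Subgroup H) := by
        rw [← hc, Sylow.smul_def]
        exact Subgroup.smul_mem_pointwise_smul _ (MulAut.conj c) _ h1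
      have h3 : (⟨q, hmemH q hq⟩ : H) ∈ (T1 : Subgroup H) := hT1 hq
      have h4 := (T1 : Subgroup H).mul_mem h2 ((T1 : Subgroup H).inv_mem h3)
      obtain ⟨k, hk⟩ := T1.2 ⟨_, h4⟩
      have h5 := hOodd ((c : G) * g * q * ((c : G) * g)⁻¹ * q⁻¹) (hcomm _ q hq) k (by
        have := congrArg (fun z : (T1 : Subgroup H) => ((z : H) : G)) hk
        simp only [SubmonoidClass.coe_pow, Subgroup.coe_mul, Subgroup.coe_inv,
          OneMemClass.coe_one] at this
        rw [show (c : G) * g * q * ((c : G) * g)⁻¹ * q⁻¹ =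
          (c : G) * (g * q * g⁻¹) * (c : G)⁻¹ * q⁻¹ by group]
        exact this)
      exact mul_inv_eq_one.1 h5
    have hcP : ∀ x : P, (c : G) * φ x = φ x * (c : G) := fun x =>
      (Subgroup.mem_centralizer_iff.1 c.2.2 (φ x) ⟨x, rfl⟩).symm
    have hconj : ∀ x : P, (c : G) * g * (x : G) * ((c : G) * g)⁻¹ = φ x := fun x => by
      rw [show (c : G) * g * (x : G) * ((c : G) * g)⁻¹ = (c : G) * (g * (x : G) * g⁻¹) * (c : G)⁻¹ by group,
        ← hg, hcP, mul_inv_cancel_right]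
    refine ⟨(MulAut.conj ((c : G) * g)).toMonoidHom.comp (P ⊔ Q).subtype,
      ⟨sup_le hPS inf_le_left, fun x => ?_, (c : G) * g, fun x => rfl⟩, hconj, fun x => hfix x x.2⟩
    have hle : P ⊔ Q ≤ (S : Subgroup G).comap (MulAut.conj ((c : G) * g)).toMonoidHom :=
      sup_le (fun y hy => by
        rw [Subgroup.mem_comap]
        show (c : G) * g * y * ((c : G) * g)⁻¹ ∈ (S : Subgroup G)
        rw [hconj ⟨y, hy⟩]; exact hφS _) (fun y hy => by
        rw [Subgroup.mem_comap]
        show (c : G) * g * y * ((c : G) * g)⁻¹ ∈ (S : Subgroup G)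
        rw [hfix y hy]; exact hy.1)
    exact hle x.2

end Cfsg.Agent.S5094
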