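import Cfsg.Statements.S5102
import Cfsg.Agent.Lib.Fusion.Group
-- import your own Cfsg.Agent.* helpers here

set_option autoImplicit false
open Cfsg

namespace Cfsg.Agent.S5102

/-- A normal p-subgroup of a finite group G is normal in the fusion system of G on a Sylow p-subgroup. -/
theorem result {G : Type*} [Group G] [Finite G] (p : ℕ) [Fact p.Prime] (S : Sylow p G) (R : Subgroup G) [R.Normal] (hR : IsPGroup p R) : (Cfsg.groupFusionSystem (S : Subgroup G)).IsNormal R := by
  have hRS : R ≤ (S : Subgroup G) := by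
    obtain ⟨a, ha⟩ := Cfsg.exists_conj_mem_sylow S hR
    intro r hr
    have := ha _ ((inferInstance : R.Normal).conj_mem r hr a⁻¹)
    simpa [mul_assoc] using this
  refine ⟨hRS, fun P φ hφ => ?_⟩
  obtain ⟨hP, hφS, g, hg⟩ := hφ
  refine ⟨Cfsg.conjHom (P ⊔ R) g, Cfsg.FusionSystem.conjHom_mem_groupFusionSystem (sup_le hP hRS) ?_,
    fun x => (hg x).symm, ?_⟩
  · have h : P ⊔ R ≤ (S : Subgroup G).comap (MulAut.conj g).toMonoidHom :=
      sup_le (fun x hx => show g * x * g⁻¹ ∈ (S : Subgroup G) from hg ⟨x, hx⟩ ▸ hφS ⟨x, hx⟩)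
        (fun x hx => hRS ((inferInstance : R.Normal).conj_mem x hx g))
    exact fun x hx => h hx
  · ext y
    constructor
    · rintro ⟨x, hx, rfl⟩
      exact (inferInstance : R.Normal).conj_mem x hx g
    · intro hy
      have h1 := (inferInstance : R.Normal).conj_mem y hy g⁻¹
      rw [inv_inv] at h1
      refine ⟨⟨g⁻¹ * y * g, Subgroup.mem_sup_right h1⟩, h1, ?_⟩
      show g * (g⁻¹ * y * g) * g⁻¹ = y
      group

end Cfsg.Agent.S5102
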