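import Cfsg.Statements.S5103
import Cfsg.Agent.Lib.Fusion.Image
import Cfsg.Agent.Lib.Fusion.Series
-- import your own Cfsg.Agent.* helpers here

set_option autoImplicit false
open Cfsg

namespace Cfsg.Agent.S5103

/-- A fusion system over a finite p-group that has a model (a finite group realizing it on a Sylow p-subgroup with self-centralizing largest normal p-subgroup) is constrained. -/
theorem result {Ω : Type*} [Group Ω] {S : Subgroup Ω} [Finite S] (p : ℕ) [Fact p.Prime] (hS : IsPGroup p S) (F : Cfsg.FusionSystem S) {G : Type*} [Group G] (ι : S →* G) (hG : F.IsModel p G ι) : F.IsConstrained p := by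
  obtain ⟨hfin, hreal, ⟨T, hT⟩, hC⟩ := hG
  have hF := hreal.isSaturated T hT
  obtain ⟨hinj, hiff⟩ := hreal
  refine ⟨hF, ?_⟩
  have hle : Cfsg.pCore p G ≤ ι.range := hT ▸ CfsgLib.pCore_le_sylow T
  let Q : Subgroup Ω := ((Cfsg.pCore p G).comap ι).map S.subtype
  have hmem : ∀ (x : Ω) (hx : x ∈ S), x ∈ Q ↔ ι ⟨x, hx⟩ ∈ Cfsg.pCore p G := fun x hx =>
    ⟨fun ⟨y, hy, he⟩ => by rw [show (⟨x, hx⟩ : S) = y from Subtype.ext he.symm]; exact hy,
      fun h => ⟨⟨x, hx⟩, h, rfl⟩⟩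
  have hQS : Q ≤ S := Subgroup.map_subtype_le _
  have hQ : F.IsNormal Q := by
    refine ⟨hQS, fun P φ hφ => ?_⟩
    have hPS := F.source_le hφ
    obtain ⟨g, hg⟩ := (hiff P hPS φ (F.apply_mem hφ)).mp hφ
    let j : ↥(P ⊔ Q) →* G := (MulAut.conj g).toMonoidHom.comp (ι.comp (Subgroup.inclusion (sup_le hPS hQS)))
    have hj : ∀ x, j x ∈ ι.range := by
      have h : P ⊔ Q ≤ (ι.range.comap ((MulAut.conj g).toMonoidHom.comp ι)).map S.subtype := by
        refine sup_le (fun x hx => ⟨⟨x, hPS hx⟩, ⟨_, hg ⟨x, hx⟩⟩, rfl⟩)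
          (fun x hx => ⟨⟨x, hQS hx⟩, hle ?_, rfl⟩)
        exact (inferInstance : (Cfsg.pCore p G).Normal).conj_mem _ ((hmem x (hQS hx)).mp hx) g
      intro x
      obtain ⟨y, hy, hyx⟩ := h x.2
      show g * ι ⟨x, _⟩ * g⁻¹ ∈ ι.range
      rw [show (⟨(x : Ω), sup_le hPS hQS x.2⟩ : S) = y from Subtype.ext hyx.symm]
      exact hy
    let ψ : ↥(P ⊔ Q) →* Ω :=
      S.subtype.comp ((MonoidHom.ofInjective hinj).symm.toMonoidHom.comp (j.codRestrict ι.range hj))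
    have hψS : ∀ x, ψ x ∈ S := fun x => SetLike.coe_mem _
    have hψe : ∀ x, ι ⟨ψ x, hψS x⟩ = g * ι ⟨x, sup_le hPS hQS x.2⟩ * g⁻¹ := fun x =>
      congrArg Subtype.val ((MonoidHom.ofInjective hinj).apply_symm_apply (j.codRestrict ι.range hj x))
    refine ⟨ψ, (hiff _ (sup_le hPS hQS) ψ hψS).mpr ⟨g, hψe⟩, fun x => ?_, ?_⟩
    · exact congrArg Subtype.val (hinj ((hψe (Subgroup.inclusion le_sup_left x)).trans (hg x).symm) :
      (⟨_, hψS _⟩ : S) = ⟨φ x, F.apply_mem hφ x⟩)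
    · ext y
      constructor
      · rintro ⟨x, hx, rfl⟩
        refine (hmem _ (hψS x)).mpr ?_
        rw [hψe]
        exact (inferInstance : (Cfsg.pCore p G).Normal).conj_mem _ ((hmem x _).mp hx) g
      · intro hy
        have h1 := (inferInstance : (Cfsg.pCore p G).Normal).conj_mem _ ((hmem y (hQS hy)).mp hy) g⁻¹
        rw [inv_inv] at h1
        obtain ⟨x, hx⟩ := hle h1
        have hxQ : (x : Ω) ∈ Q := (hmem x x.2).mpr (by rw [hx]; exact h1)
        refine ⟨⟨x, Subgroup.mem_sup_right hxQ⟩, hxQ, ?_⟩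
        refine congrArg Subtype.val (hinj (((hψe _).trans ?_)) : (⟨_, hψS _⟩ : S) = ⟨y, hQS hy⟩)
        show g * ι x * g⁻¹ = _
        rw [hx]
        group
  refine ⟨Q, hQ, hQS, fun R hR => ?_⟩
  obtain ⟨φ, hφ, hr⟩ := hR
  obtain rfl : R = Q := hr ▸ hQ.stronglyClosed.weaklyClosed.2 φ hφ
  intro c hc
  refine (hmem c hc.1).mpr (hC ?_)
  refine Subgroup.mem_centralizer_iff.mpr fun z hz => ?_
  obtain ⟨x, hx⟩ := hle hz
  have hxQ : (x : Ω) ∈ Q := (hmem x x.2).mpr (hx ▸ hz)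
  rw [← hx, ← map_mul, ← map_mul]
  congr 1
  exact Subtype.ext (Subgroup.mem_centralizer_iff.mp hc.2 _ hxQ)

end Cfsg.Agent.S5103
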