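import Cfsg.Statements.S5107
import Cfsg.Agent.Lib.Fusion.Normal
import Cfsg.Agent.Lib.Fusion.Group
import Cfsg.Agent.Lib.Fusion.Center
-- import your own Cfsg.Agent.* helpers here

set_option autoImplicit false
open Cfsg

namespace Cfsg.Agent.S5107

open Cfsg Cfsg.FusionSystem in
theorem aux {G : Type*} [Group G] [Finite G] (p : ℕ) [Fact p.Prime] (S : Sylow p G)
    (hcl : ⁅(S : Subgroup G), (S : Subgroup G)⁆ ≤ (S : Subgroup G) ⊓ Subgroup.centralizer ((S : Subgroup G) : Set G))
    (hZ : Cfsg.IsStronglyClosed ((S : Subgroup G) ⊓ Subgroup.centralizer ((S : Subgroup G) : Set G)) (S : Subgroup G)) :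
    (groupFusionSystem (S : Subgroup G)).IsNormal (S : Subgroup G) := by
  set Z := (S : Subgroup G) ⊓ Subgroup.centralizer ((S : Subgroup G) : Set G)
  let Qs : Fin 3 → Subgroup G := ![⊥, Z, (S : Subgroup G)]
  refine (groupFusionSystem_isSaturated S).isNormal_of_series S.2 Qs rfl rfl ?_ ?_
  · refine Fin.monotone_iff_le_succ.mpr fun i => ?_
    fin_cases i
    · exact bot_le
    · exact inf_le_left
  · intro i
    fin_cases i
    · refine ⟨⟨inf_le_left, ?_⟩, ?_⟩
      · rintro R hR φ ⟨-, hφS, g, hg⟩ x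
        rw [hg]
        exact hZ.2 x (hR x.2) g (hg x ▸ hφS x)
      · show ⁅(S : Subgroup G), Z⁆ ≤ ⊥
        rw [le_bot_iff, Subgroup.commutator_eq_bot_iff_le_centralizer]
        exact fun x hx => Subgroup.mem_centralizer_iff.mpr fun z hz =>
          (Subgroup.mem_centralizer_iff.mp hz.2 x hx).symm
    · exact ⟨⟨le_rfl, fun R _ φ hφ x => (groupFusionSystem (S : Subgroup G)).apply_mem hφ x⟩, hcl⟩

/-- If a Sylow p-subgroup S of a finite group G has nilpotency class at most two and its centre is strongly closed in S with respect to G, then every map of the fusion system of G on S is conjugation by an element of N_G(S), and S is the largest subgroup normal in that fusion system. -/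
theorem result {G : Type*} [Group G] [Finite G] (p : ℕ) [Fact p.Prime] (S : Sylow p G) (hcl : ⁅(S : Subgroup G), (S : Subgroup G)⁆ ≤ (S : Subgroup G) ⊓ Subgroup.centralizer ((S : Subgroup G) : Set G)) (hZ : Cfsg.IsStronglyClosed ((S : Subgroup G) ⊓ Subgroup.centralizer ((S : Subgroup G) : Set G)) (S : Subgroup G)) : (∀ (P : Subgroup G) (φ : P →* G), φ ∈ (Cfsg.groupFusionSystem (S : Subgroup G)).Hom P → ∃ g ∈ Subgroup.normalizer ((S : Subgroup G) : Set G), ∀ x : P, φ x = g * (x : G) * g⁻¹) ∧ (Cfsg.groupFusionSystem (S : Subgroup G)).core = S := by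
  have hn := aux p S hcl hZ
  refine ⟨fun P φ hφ => ?_, le_antisymm (Cfsg.FusionSystem.isNormal_core _).1 hn.le_core⟩
  obtain ⟨ψ, ⟨-, -, g, hg⟩, hψe, hψS⟩ := hn.2 P φ hφ
  refine ⟨g, ?_, fun x => (hψe x).symm.trans (hg _)⟩
  refine Subgroup.mem_normalizer_iff.mpr fun z => ⟨fun hz => ?_, fun hz => ?_⟩
  · have h1 : ψ ⟨z, Subgroup.mem_sup_right hz⟩ ∈ (S : Subgroup G) := hψS.le ⟨_, hz, rfl⟩
    rwa [hg] at h1
  · obtain ⟨w, hw, hwe⟩ := hψS.ge hz
    rw [hg] at hwe
    have : (w : G) = z := mul_left_cancel (mul_right_cancel hwe)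
    exact this ▸ hw

end Cfsg.Agent.S5107
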