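import Cfsg.Statements.S5109
import Cfsg.Agent.Lib.S3Simple.FusionRows
import Cfsg.Agent.Lib.S3Simple.Classification
-- import your own Cfsg.Agent.* helpers here

set_option autoImplicit false
open Cfsg

namespace Cfsg.Agent.S5109

/-- A saturated fusion system over a finite 2-group S in which no automorphism group Aut_F(U), U ≤ S, has a section isomorphic to the symmetric group of degree 3 is constrained. -/
theorem result {Ω : Type*} [Group Ω] {S : Subgroup Ω} [Finite S] (hS : IsPGroup 2 S) (F : Cfsg.FusionSystem S) (hF : F.IsSaturated 2) (h3 : ∀ U : Subgroup Ω, U ≤ S → ¬ Cfsg.Involves (Equiv.Perm (Fin 3)) ↥(F.autGroup U)) : F.IsConstrained 2 := by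
  exact CfsgLib.S3Simple.constrained_of_killed CfsgLib.S3Simple.eightKilled CfsgLib.S3Simple.fourKilled hS hF h3

end Cfsg.Agent.S5109
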