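import Cfsg.Statements.S5111
import Cfsg.Agent.Lib.Fusion.Saturation
import Cfsg.Agent.Lib.Fusion.Alperin
import Cfsg.Agent.Lib.Fusion.Quotient
-- import your own Cfsg.Agent.* helpers here

set_option autoImplicit false
open Cfsg

namespace Cfsg.Agent.S5111

/-- A fusion system over a finite p-group S is saturated if and only if the inner automorphisms of S form a Sylow p-subgroup of Aut_F(S) and every fully normalized subgroup of S is receptive. -/
theorem result {Ω : Type*} [Group Ω] {S : Subgroup Ω} [Finite S] (p : ℕ) [Fact p.Prime] (hS : IsPGroup p S) (F : Cfsg.FusionSystem S) : F.IsSaturated p ↔ (F.IsFullyAutomized p S ∧ ∀ P : Subgroup Ω, F.IsFullyNormalized P → F.IsReceptive P) := by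
  constructor
  · intro hF
    exact ⟨hF.isFullyAutomized_of_isFullyNormalized hS Cfsg.FusionSystem.isFullyNormalized_self,
      fun P hP => hF.isReceptive_of_isFullyNormalized hS hP⟩
  rintro ⟨hSaut, hrec⟩
  suffices key : ∀ (d : ℕ) (P : Subgroup Ω), Nat.card S - Nat.card P = d → F.IsFullyNormalized P →
      F.IsFullyAutomized p P from
    Cfsg.FusionSystem.isSaturated_of_isFullyNormalized fun P hP => ⟨key _ P rfl hP, hrec P hP⟩
  intro d
  induction d using Nat.strong_induction_on with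
  | _ d ih =>
  intro P hd hP
  rcases eq_or_lt_of_le hP.1 with rfl | hlt
  · exact hSaut
  have hfin := Cfsg.FusionSystem.finite_autGroup (F := F) hP.1
  let A : Subgroup (F.autGroup P) := (Cfsg.autInducedBy S P).subgroupOf (F.autGroup P)
  have hAle := Cfsg.FusionSystem.autInducedBy_le_autGroup (F := F) hP.1
  have hAp : IsPGroup p A :=
    (Cfsg.isPGroup_autInducedBy hS).of_equiv (Subgroup.subgroupOfEquivOfLe hAle).symm
  obtain ⟨U, hU⟩ := hAp.exists_le_sylow
  by_contra hno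
  have hne : A < (U : Subgroup (F.autGroup P)) :=
    lt_of_le_of_ne hU fun e => hno ⟨hP.1, U, e.symm⟩
  have hUp : IsPGroup p (U : Subgroup (F.autGroup P)) := U.2
  have : Group.IsNilpotent (U : Subgroup (F.autGroup P)) := hUp.isNilpotent
  have hN := Group.normalizerCondition_of_isNilpotent (G := (U : Subgroup (F.autGroup P)))
    (A.subgroupOf (U : Subgroup (F.autGroup P))) (by
      rw [lt_top_iff_ne_top, Ne, Subgroup.subgroupOf_eq_top]
      exact not_le_of_gt hne)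
  obtain ⟨a, haN, haA⟩ := SetLike.exists_of_lt hN
  -- extend `a` to the normaliser
  let N : Subgroup Ω := Cfsg.FusionSystem.normalizerIn S P
  have hPN : P ≤ N := Cfsg.FusionSystem.le_normalizerIn hP.1
  have hNS : N ≤ S := Cfsg.FusionSystem.normalizerIn_le
  obtain ⟨ψ, hψ, hψe⟩ := Cfsg.FusionSystem.exists_extension_of_normalizes (hrec P hP)
    (a : F.autGroup P).2 (le_refl N) (by
      intro g hg hgN
      let c : F.autGroup P := ⟨P.normalizerMonoidHom ⟨g, hgN⟩,
        hAle (Cfsg.mem_autInducedBy_iff.mpr ⟨g, hg.1, hgN, fun _ => rfl⟩)⟩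
      have hc : c ∈ A := Cfsg.mem_autInducedBy_iff.mpr ⟨g, hg.1, hgN, fun _ => rfl⟩
      have h1 := (Subgroup.mem_normalizer_iff.mp haN ⟨c, hU hc⟩).mp hc
      exact h1)
  obtain ⟨φ, hφ, hφr, hφe⟩ := F.exists_map_of_mem_autGroup hP.1 (a : F.autGroup P).2
  let ψN : N →* Ω := ψ.comp (Subgroup.inclusion le_sup_right)
  have hψN : ψN ∈ F.Hom N := F.restrict_mem hψ le_sup_right
  have hPψ : ∀ x : P, ψN ⟨x, hPN x.2⟩ = φ x := fun x => (hψe x).trans (hφe x).symm
  have := Cfsg.FusionSystem.finite_of_le hNS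
  have hψr : ψN.range = N := by
    refine Subgroup.eq_of_le_of_card_ge ?_ ?_
    · rintro _ ⟨x, rfl⟩
      exact Cfsg.FusionSystem.mapsTo_normalizerIn hψN hPN le_rfl hPψ hφr x
    · exact (Nat.card_congr (MonoidHom.ofInjective (F.injective_of_mem hψN)).toEquiv).le
  let β : F.autGroup N := ⟨_, F.isoOf_mem_autGroup hψN hψr⟩
  have hfinN := Cfsg.FusionSystem.finite_autGroup (F := F) hNS
  -- pass to the `p`-part
  let e := (orderOf β).factorization p
  let m := orderOf β / p ^ e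
  have hm : (p ^ e) * m = orderOf β := Nat.mul_div_cancel' (Nat.ordProj_dvd _ _)
  have hβp : (β ^ m) ^ p ^ e = 1 := by rw [← pow_mul, mul_comm, hm, pow_orderOf_eq_one]
  have hcop : m.Coprime p :=
    (Nat.coprime_ordCompl (Fact.out : p.Prime) (orderOf_pos β).ne').symm
  -- conjugate into `Aut_S` of a fully normalised conjugate
  obtain ⟨N', hNN', hN'⟩ := F.exists_isFullyNormalized hNS
  obtain ⟨θ, hθ, hθr⟩ := hNN'
  have hN'S : N' ≤ S := hθr ▸ F.range_le hθ
  have hcard : Nat.card N' = Nat.card N := (Cfsg.FusionSystem.IsConj.card_eq ⟨θ, hθ, hθr⟩).symm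
  have hlt' : Nat.card P < Nat.card N :=
    Cfsg.FusionSystem.card_lt_of_lt (Cfsg.FusionSystem.lt_normalizerIn (p := p) hS hlt)
  have hN'le : Nat.card N' ≤ Nat.card S :=
    Nat.card_le_card_of_injective (Subgroup.inclusion hN'S) (Subgroup.inclusion_injective _)
  obtain ⟨-, T, hT⟩ := ih _ (by omega) N' rfl hN'
  have hfinN' := Cfsg.FusionSystem.finite_autGroup (F := F) hN'S
  have hmem : MulAut.congr (F.isoOf hθ hθr) ((β ^ m : F.autGroup N) : MulAut N) ∈ F.autGroup N' :=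
    (F.autGroup_map_congr hθ hθr).le ⟨_, (β ^ m).2, rfl⟩
  let x : F.autGroup N' := ⟨_, hmem⟩
  have hx : x ^ p ^ e = 1 := by
    apply Subtype.ext
    show (MulAut.congr (F.isoOf hθ hθr) ((β ^ m : F.autGroup N) : MulAut N)) ^ p ^ e = 1
    rw [← map_pow, ← Subgroup.coe_pow, hβp, Subgroup.coe_one, map_one]
  have hxp : IsPGroup p (Subgroup.zpowers x) := by
    rintro ⟨_, k, rfl⟩
    refine ⟨e, Subtype.ext ?_⟩
    show (x ^ k) ^ p ^ e = 1
    rw [← zpow_natCast, ← zpow_mul, mul_comm, zpow_mul, zpow_natCast, hx, one_zpow]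
  obtain ⟨b, hb⟩ := Cfsg.exists_conj_mem_sylow T hxp
  have h1 := hb _ (Subgroup.mem_zpowers _)
  rw [hT] at h1
  obtain ⟨g, hgS, hgN', hg⟩ := Cfsg.mem_autInducedBy_iff.mp (Subgroup.mem_subgroupOf.mp h1)
  let f : N ≃* N' := (F.isoOf hθ hθr).trans (b : MulAut N')
  have hfg : ∀ y : N, ((f (((β ^ m : F.autGroup N) : MulAut N) y) : N') : Ω) = g * f y * g⁻¹ := by
    intro y
    rw [← hg (f y)]
    simp [f, x, MulAut.congr]
  -- `β ^ m` acts on `P` as `a ^ m`
  have hpow : ∀ (k : ℕ) (y : P),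
      (((β ^ k : F.autGroup N) : MulAut N) ⟨y, hPN y.2⟩ : N) =
        ⟨((((a : F.autGroup P) : MulAut P) ^ k) y : P), hPN (SetLike.coe_mem _)⟩ := by
    intro k
    induction k with
    | zero => exact fun y => rfl
    | succ k ihk =>
      intro y
      rw [pow_succ', Subgroup.coe_mul, MulAut.mul_apply, ihk y]
      apply Subtype.ext
      show ψN _ = _
      rw [pow_succ', MulAut.mul_apply]
      exact (hPψ _).trans (hφe _)
  -- the image of `P` in `N'`
  let P' : Subgroup Ω := (P.subgroupOf N).map (N'.subtype.comp f.toMonoidHom)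
  obtain ⟨χ, hχ, -, hχe⟩ := F.exists_map_of_mem_autGroup hN'S b.2
  obtain ⟨ω, hω, hωe⟩ := F.exists_comp hθ hχ (fun y => hθr.le ⟨y, rfl⟩)
  have hωf : ∀ y : N, ω y = ((f y : N') : Ω) := fun y => by rw [hωe, hχe]; rfl
  have hPP' : F.IsConj P P' := by
    refine ⟨_, F.restrict_mem hω hPN, ?_⟩
    ext z
    constructor
    · rintro ⟨y, rfl⟩
      exact ⟨⟨y, hPN y.2⟩, y.2, (hωf _).symm⟩
    · rintro ⟨y, hy, rfl⟩
      exact ⟨⟨y, hy⟩, hωf y⟩
  have hP'N' : P' ≤ N' := by
    rintro _ ⟨y, -, rfl⟩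
    exact SetLike.coe_mem _
  have hN'le' : N' ≤ Cfsg.FusionSystem.normalizerIn S P' := by
    intro z hz
    refine ⟨hN'S hz, ?_⟩
    obtain ⟨w, hw⟩ := f.surjective ⟨z, hz⟩
    have hkey : ∀ (w : N) (v : Ω), v ∈ P' → (f w : Ω) * v * (f w : Ω)⁻¹ ∈ P' := by
      rintro w _ ⟨y, hy, rfl⟩
      exact ⟨w * y * w⁻¹, (Subgroup.mem_normalizer_iff.mp w.2.2 y).mp hy, by simp⟩
    have hz' : (f w : Ω) = z := congrArg Subtype.val hw
    refine Subgroup.mem_normalizer_iff.mpr fun v => ⟨fun hv => hz' ▸ hkey w v hv, fun hv => ?_⟩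
    have h := hkey w⁻¹ _ (hz'.symm ▸ hv : (f w : Ω) * v * (f w : Ω)⁻¹ ∈ P')
    simpa [mul_assoc] using h
  have := Cfsg.FusionSystem.finite_normalizerIn (S := S) (P := P')
  have hNP' : N' = Cfsg.FusionSystem.normalizerIn S P' :=
    Subgroup.eq_of_le_of_card_ge hN'le' (hcard ▸ hP.2 P' hPP')
  have hgP' : g ∈ Subgroup.normalizer (P' : Set Ω) := by
    have hinv : ∀ v, v ∈ P' → g * v * g⁻¹ ∈ P' := by
      rintro _ ⟨y, hy, rfl⟩
      refine ⟨((β ^ m : F.autGroup N) : MulAut N) y, ?_, hfg y⟩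
      show ((((β ^ m : F.autGroup N) : MulAut N) ⟨(y : Ω), y.2⟩ : N) : Ω) ∈ P
      rw [hpow m ⟨y, hy⟩]
      exact SetLike.coe_mem _
    refine Subgroup.mem_normalizer_iff.mpr fun v => ⟨hinv v, fun hv => ?_⟩
    have hsub : P'.map (MulAut.conj g).toMonoidHom ≤ P' := by
      rintro _ ⟨w, hw, rfl⟩
      exact hinv w hw
    have := Cfsg.FusionSystem.finite_of_le (hP'N'.trans hN'S)
    have heq := Subgroup.eq_of_le_of_card_ge hsub
      (ge_of_eq (Subgroup.card_map_of_injective (MulEquiv.injective _)))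
    obtain ⟨w, hw, hwz⟩ := heq.ge hv
    rwa [← mul_left_cancel (mul_right_cancel hwz : g * w = g * v)]
  have hgN : g ∈ N' := hNP'.ge ⟨hgS, hgP'⟩
  obtain ⟨h, hh⟩ := f.surjective ⟨g, hgN⟩
  apply haA
  have ham : (((a : F.autGroup P) : MulAut P) ^ m) ∈ Cfsg.autInducedBy S P := by
    refine Cfsg.mem_autInducedBy_iff.mpr ⟨h, h.2.1, h.2.2, fun y => ?_⟩
    have h2 := hfg ⟨y, hPN y.2⟩
    rw [hpow m y] at h2
    have h3 : f ⟨_, hPN (((((a : F.autGroup P) : MulAut P) ^ m) y : P)).2⟩ = f (h * ⟨y, hPN y.2⟩ * h⁻¹) := by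
      apply Subtype.ext
      rw [h2, map_mul, map_mul, map_inv, hh]
      rfl
    exact congrArg Subtype.val (f.injective h3)
  -- `a` is a power of `a ^ m`
  obtain ⟨k, hk⟩ := IsPGroup.iff_orderOf.mp hUp a
  obtain ⟨j, hj⟩ := exists_pow_eq_self_of_coprime (x := a) (n := m) (by rw [hk]; exact hcop.pow_right k)
  show (a : F.autGroup P) ∈ A
  rw [← hj]
  refine Subgroup.mem_subgroupOf.mpr ?_
  simp only [SubgroupClass.coe_pow]
  exact (Cfsg.autInducedBy S P).pow_mem ham j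

end Cfsg.Agent.S5111
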