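import Cfsg.Statements.S5112
import Cfsg.Agent.S3116
import Cfsg.Agent.Lib.Fusion.Saturation
-- import your own Cfsg.Agent.* helpers here

set_option autoImplicit false
open Cfsg

namespace Cfsg.Agent.S5112

/-- If S is a dihedral or generalized quaternion 2-group of order at least 16, then in every saturated fusion system over S (at the prime 2) the automorphism group Aut_F(S) consists of the inner automorphisms of S. -/
theorem result {Ω : Type*} [Group Ω] {S : Subgroup Ω} [Finite S] (n : ℕ) (hn : 4 ≤ n) (hshape : Nonempty (S ≃* DihedralGroup (2 ^ (n - 1))) ∨ Nonempty (S ≃* QuaternionGroup (2 ^ (n - 2)))) (F : Cfsg.FusionSystem S) (hF : F.IsSaturated 2) : F.autGroup S = Cfsg.Inn S := by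
  haveI : Fact (Nat.Prime 2) := ⟨Nat.prime_two⟩
  have hfacts : IsPGroup 2 S ∧ IsPGroup 2 (MulAut S) := by
    have hpow : 2 ^ 2 ≤ 2 ^ (n - 2) := Nat.pow_le_pow_right (by norm_num) (by omega)
    have hp1 : 2 ^ (n - 1) = 2 * 2 ^ (n - 2) := by rw [← pow_succ']; congr 1; omega
    rcases hshape with ⟨⟨e⟩⟩ | ⟨⟨e⟩⟩
    · have hc : Nat.card S = 2 ^ n := by
        rw [Nat.card_congr e.toEquiv, DihedralGroup.nat_card, ← pow_succ']
        congr 1; omega
      exact ⟨IsPGroup.of_card hc, Cfsg.Agent.S3116.result (IsPGroup.of_card hc) (Or.inl ⟨_, by omega, ⟨e⟩⟩)⟩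
    · haveI : NeZero (2 ^ (n - 2)) := ⟨by positivity⟩
      have hc : Nat.card S = 2 ^ n := by
        rw [Nat.card_congr e.toEquiv, Nat.card_eq_fintype_card, QuaternionGroup.card]
        obtain ⟨k, rfl⟩ : ∃ k, n = k + 2 := ⟨n - 2, by omega⟩
        rw [Nat.add_sub_cancel, pow_add]; ring
      refine ⟨IsPGroup.of_card hc, Cfsg.Agent.S3116.aut_two_group (e.symm (QuaternionGroup.a 1)) (n - 1) ?_ ?_ fun g hg hord => ?_⟩
      · rw [MulEquiv.orderOf_eq, QuaternionGroup.orderOf_a_one, hp1]
      · rw [hc]; congr 1; omega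
      · cases hφ : e g with
        | a i =>
          apply hg
          refine Subgroup.mem_zpowers_iff.mpr ⟨(i.val : ℤ), e.injective ?_⟩
          rw [zpow_natCast, map_pow, e.apply_symm_apply, QuaternionGroup.a_one_pow, hφ, ZMod.natCast_zmod_val]
        | xa i =>
          rw [← MulEquiv.orderOf_eq e, hφ, QuaternionGroup.orderOf_xa] at hord
          omega
  obtain ⟨hS, hAut⟩ := hfacts
  obtain ⟨-, T, hT⟩ := hF.isFullyAutomized_of_isFullyNormalized hS Cfsg.FusionSystem.isFullyNormalized_self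
  rw [← Cfsg.inn_eq_autInducedBy] at hT
  refine le_antisymm (fun α hα => ?_) ?_
  · have htop : (T : Subgroup (F.autGroup S)) = ⊤ :=
      (T.3 (Q := ⊤) ((hAut.to_subgroup _).of_equiv Subgroup.topEquiv.symm) le_top).symm
    have h : (⟨α, hα⟩ : F.autGroup S) ∈ (T : Subgroup (F.autGroup S)) := htop ▸ Subgroup.mem_top _
    rw [hT] at h
    exact h
  · rw [Cfsg.inn_eq_autInducedBy]
    exact Cfsg.FusionSystem.autInducedBy_le_autGroup le_rfl

end Cfsg.Agent.S5112
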