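import Cfsg.Statements.S5125
import Cfsg.Agent.Lib.Fusion.Series
import Mathlib.GroupTheory.SemidirectProduct
-- import your own Cfsg.Agent.* helpers here

set_option autoImplicit false
open Cfsg

namespace Cfsg.Agent.S5125

/-- Let F be a saturated fusion system over a finite p-group S and Q a subgroup strongly closed in F. If Q has a subgroup Q₁ that is normal in F, with Q/Q₁ abelian and Aut_F(Q₁) a p-group, then Q is normal in F. -/
theorem result {Ω : Type*} [Group Ω] {S : Subgroup Ω} [Finite S] (p : ℕ) [Fact p.Prime] (hS : IsPGroup p S) (F : Cfsg.FusionSystem S) (hF : F.IsSaturated p) (Q Q₁ : Subgroup Ω) (hQ : F.StronglyClosed Q) (hQ₁Q : Q₁ ≤ Q) (hQ₁ : F.IsNormal Q₁) (hab : ⁅Q, Q⁆ ≤ Q₁) (hAut : IsPGroup p ↥(F.autGroup Q₁)) : F.IsNormal Q := by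
  classical
  have hQS : Q ≤ S := hQ.1
  have hQ1S : Q₁ ≤ S := hQ₁.1
  have := Cfsg.FusionSystem.finite_of_le hQ1S
  have hfin := Cfsg.FusionSystem.finite_autGroup (F := F) hQ1S
  let ρ : F.autGroup Q₁ →* MulAut Q₁ := (F.autGroup Q₁).subtype
  let X := Q₁ ⋊[ρ] F.autGroup Q₁
  have : Finite X := Finite.of_equiv _ SemidirectProduct.equivProd.symm
  have hX : IsPGroup p X := by
    obtain ⟨a, ha⟩ := IsPGroup.iff_card.mp (hS.to_le hQ1S)
    obtain ⟨b, hb⟩ := IsPGroup.iff_card.mp hAut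
    refine IsPGroup.of_card (n := a + b) ?_
    rw [Nat.card_congr SemidirectProduct.equivProd, Nat.card_prod, ha, hb, pow_add]
  have : Group.IsNilpotent X := hX.isNilpotent
  obtain ⟨n, hn⟩ := Group.IsNilpotent.nilpotent X
  let C : ℕ → Subgroup Ω := fun i =>
    ((Subgroup.upperCentralSeries X i).comap SemidirectProduct.inl).map Q₁.subtype
  have hC : ∀ i, C i ≤ Q₁ := fun i => Subgroup.map_subtype_le _
  have hCsc : ∀ i, F.StronglyClosed (C i) := by
    intro i
    refine ⟨(hC i).trans hQ1S, fun P hP φ hφ x => ?_⟩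
    obtain ⟨ψ, hψ, hψe, hψQ⟩ := hQ₁.2 P φ hφ
    have hsup : Q₁ ≤ P ⊔ Q₁ := le_sup_right
    have hr : (ψ.comp (Subgroup.inclusion hsup)).range = Q₁ := by
      refine Eq.trans ?_ hψQ
      ext y
      exact ⟨fun ⟨x, hx⟩ => ⟨Subgroup.inclusion hsup x, x.2, hx⟩,
        fun ⟨x, hx, he⟩ => ⟨⟨x, hx⟩, he⟩⟩
    let α : F.autGroup Q₁ := ⟨_, F.isoOf_mem_autGroup (F.restrict_mem hψ hsup) hr⟩
    obtain ⟨y, hy, hyx⟩ := hP x.2
    refine ⟨(α : MulAut Q₁) y, ?_, ?_⟩
    · show SemidirectProduct.inl (ρ α y) ∈ Subgroup.upperCentralSeries X i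
      rw [SemidirectProduct.inl_aut]
      have hy' : (SemidirectProduct.inl y : X) ∈ Subgroup.upperCentralSeries X i := hy
      rw [map_inv]
      exact (inferInstance : (Subgroup.upperCentralSeries X i).Normal).conj_mem _ hy' _
    · show ψ ⟨y, _⟩ = φ x
      rw [← hψe x]
      congr 1
      exact Subtype.ext hyx
  have hcomm : ∀ i, ⁅Q, C (i + 1)⁆ ≤ C i := by
    intro i
    refine Subgroup.commutator_le.mpr fun q hq z hz => ?_
    obtain ⟨y, hy, rfl⟩ := hz
    have hqS : q ∈ S := hQS hq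
    have hqN := hQ₁.le_normalizer hqS
    let c : F.autGroup Q₁ := ⟨Q₁.normalizerMonoidHom ⟨q, hqN⟩,
      Cfsg.FusionSystem.autInducedBy_le_autGroup hQ1S (Cfsg.mem_autInducedBy_iff.mpr ⟨q, hqS, hqN, fun _ => rfl⟩)⟩
    have hy' : (SemidirectProduct.inl y : X) ∈ Subgroup.upperCentralSeries X (i + 1) := hy
    have h1 := (Subgroup.upperCentralSeries X i).inv_mem
      (Subgroup.mem_upperCentralSeries_succ_iff.mp hy' (SemidirectProduct.inr c))
    refine ⟨(c : MulAut Q₁) y * y⁻¹, ?_, ?_⟩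
    · show SemidirectProduct.inl (ρ c y * y⁻¹) ∈ Subgroup.upperCentralSeries X i
      rw [map_mul, SemidirectProduct.inl_aut, map_inv, map_inv]
      convert h1 using 1
      simp only [commutatorElement_def, mul_inv_rev, inv_inv]
      group
    · show q * (y : Ω) * q⁻¹ * (y : Ω)⁻¹ = _
      rfl
  have h0 : C 0 = ⊥ := by
    show ((Subgroup.upperCentralSeries X 0).comap SemidirectProduct.inl).map Q₁.subtype = ⊥
    rw [Subgroup.upperCentralSeries_zero, MonoidHom.comap_bot,
      (MonoidHom.ker_eq_bot_iff _).mpr SemidirectProduct.inl_injective, Subgroup.map_bot]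
  have hCn : C n = Q₁ := by
    show ((Subgroup.upperCentralSeries X n).comap SemidirectProduct.inl).map Q₁.subtype = Q₁
    rw [hn, Subgroup.comap_top, ← MonoidHom.range_eq_map, Subgroup.range_subtype]
  let D : ℕ → Subgroup Ω := fun i => if i ≤ n then C i else Q
  refine hF.isNormal_of_series hS (n := n + 1) (fun i => D i) ?_ ?_ ?_ fun i => ⟨?_, ?_⟩
  · show D 0 = ⊥
    simp [D, h0]
  · show D (n + 1) = Q
    simp [D]
  · intro i j hij
    show D i ≤ D j
    have hij' : (i : ℕ) ≤ j := hij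
    simp only [D]
    split_ifs with h1 h2
    · exact Subgroup.map_mono (Subgroup.comap_mono (Subgroup.upperCentralSeries_mono _ hij'))
    · exact (hC _).trans hQ₁Q
    · omega
    · exact le_rfl
  · show F.StronglyClosed (D (i + 1))
    simp only [D]
    split_ifs
    · exact hCsc _
    · exact hQ
  · show ⁅Q, D (i + 1)⁆ ≤ D i
    simp only [D]
    split_ifs with h1 h2
    · exact hcomm _
    · omega
    · rw [show (i : ℕ) = n by omega, hCn]
      exact hab
    · omega

end Cfsg.Agent.S5125
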