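import Cfsg.Statements.S5135
import Cfsg.Agent.Lib.Fusion.Group
import Cfsg.Agent.Lib.Fusion.Factor
-- import your own Cfsg.Agent.* helpers here

set_option autoImplicit false
open Cfsg

namespace Cfsg.Agent.S5135

/-- Let G be a finite group, S a Sylow p-subgroup and H a normal subgroup of G. Then the fusion system of G/H on the image SH/H of S is the factor system of the fusion system of G on S modulo S ∩ H, read through the quotient map restricted to S: for each subgroup P' of SH/H, the conjugation maps by elements of G/H defined on P' with values in SH/H are exactly the homomorphisms induced by the conjugation maps by elements of G defined on the full preimage of P' in S with values in S. -/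
theorem result {G : Type*} [Group G] [Finite G] (p : ℕ) [Fact p.Prime] (S : Sylow p G) (H : Subgroup G) [H.Normal] : (Cfsg.groupFusionSystem (S : Subgroup G)).IsFactorSystem ((S : Subgroup G) ⊓ H) ((QuotientGroup.mk' H).comp (S : Subgroup G).subtype) (Cfsg.groupFusionSystem ((S : Subgroup G).map (QuotientGroup.mk' H))) := by
  have hker : ∀ s : (S : Subgroup G),
      ((QuotientGroup.mk' H).comp (S : Subgroup G).subtype) s = 1 ↔ (s : G) ∈ (S : Subgroup G) ⊓ H :=
    fun s => ⟨fun h => ⟨s.2, (QuotientGroup.eq_one_iff _).mp h⟩, fun h => (QuotientGroup.eq_one_iff _).mpr h.2⟩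
  refine ⟨inf_le_left, hker, by rw [MonoidHom.range_comp, Subgroup.range_subtype], fun P' φ' => ?_⟩
  constructor
  · rintro ⟨hP', hval, gbar, hg⟩
    obtain ⟨g, rfl⟩ := QuotientGroup.mk'_surjective H gbar
    refine ⟨hP', ?_⟩
    have hX : Cfsg.FusionSystem.preimageAlong ((QuotientGroup.mk' H).comp (S : Subgroup G).subtype) P' ≤
        (S : Subgroup G) := Cfsg.FusionSystem.preimageAlong_le
    have hM : ∀ x ∈ Cfsg.FusionSystem.preimageAlong ((QuotientGroup.mk' H).comp (S : Subgroup G).subtype) P',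
        g * x * g⁻¹ ∈ (S : Subgroup G) ⊔ H := by
      intro x hx
      obtain ⟨hxS, hxP⟩ := Cfsg.FusionSystem.mem_preimageAlong.mp hx
      obtain ⟨s, hs, hse⟩ := hval ⟨_, hxP⟩
      rw [hg] at hse
      have he : (QuotientGroup.mk s : G ⧸ H) = QuotientGroup.mk (g * x * g⁻¹) := hse
      have := Subgroup.mul_mem_sup hs (QuotientGroup.eq.mp he)
      rwa [mul_inv_cancel_left] at this
    have hSyl : Cfsg.FusionSystem.IsSylowIn p (S : Subgroup G) ((S : Subgroup G) ⊔ H) := by
      refine ⟨le_sup_left, S.2, fun h => S.not_dvd_index (h.trans ?_)⟩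
      exact Subgroup.relIndex_dvd_index_of_le le_sup_left
    obtain ⟨b, hb, hb'⟩ := hSyl.exists_conj_le
      ((S.2.to_le hX).map (MulAut.conj g).toMonoidHom) (by
        rintro _ ⟨x, hx, rfl⟩
        exact hM x hx)
    rw [← SetLike.mem_coe, Subgroup.mul_normal] at hb
    obtain ⟨s, hs, h, hh, rfl⟩ := hb
    have hval' : ∀ x ∈ Cfsg.FusionSystem.preimageAlong ((QuotientGroup.mk' H).comp (S : Subgroup G).subtype) P',
        h * g * x * (h * g)⁻¹ ∈ (S : Subgroup G) := by
      intro x hx
      have h1 := S.1.mul_mem (S.1.mul_mem (S.1.inv_mem hs) (hb' _ ⟨x, hx, rfl⟩)) hs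
      simpa [mul_assoc] using h1
    have hmem := Cfsg.FusionSystem.conjHom_mem_groupFusionSystem hX hval'
    refine ⟨_, hmem, hX, (Cfsg.groupFusionSystem (S : Subgroup G)).apply_mem hmem,
      fun x => (Cfsg.FusionSystem.mem_preimageAlong.mp x.2).2, fun x => ?_⟩
    rw [hg]
    show QuotientGroup.mk' H g * QuotientGroup.mk' H x * (QuotientGroup.mk' H g)⁻¹ =
      QuotientGroup.mk' H (h * g * x * (h * g)⁻¹)
    have : QuotientGroup.mk' H h = 1 := (QuotientGroup.eq_one_iff _).mpr hh
    simp only [map_mul, map_inv, this, one_mul]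
  · rintro ⟨hP', φ, ⟨hX, hφS, g, hg⟩, hi⟩
    obtain ⟨hX', hφS', hXP, he⟩ := hi
    have key : ∀ y : P', ∃ (x : ↥(Cfsg.FusionSystem.preimageAlong
        ((QuotientGroup.mk' H).comp (S : Subgroup G).subtype) P')), y = ⟨_, hXP x⟩ := by
      intro y
      obtain ⟨s, hs, hse⟩ := hP' y.2
      have hx : ((QuotientGroup.mk' H).comp (S : Subgroup G).subtype) ⟨s, hs⟩ ∈ P' := hse ▸ y.2
      exact ⟨⟨s, Cfsg.FusionSystem.mem_preimageAlong.mpr ⟨hs, hx⟩⟩, Subtype.ext hse.symm⟩
    refine ⟨hP', fun y => ?_, QuotientGroup.mk' H g, fun y => ?_⟩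
    · obtain ⟨x, rfl⟩ := key y
      rw [he]
      exact ⟨_, hφS x, rfl⟩
    · obtain ⟨x, rfl⟩ := key y
      rw [he]
      show QuotientGroup.mk' H (φ x) = _
      rw [hg, map_mul, map_mul, map_inv]
      rfl

end Cfsg.Agent.S5135
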