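import Cfsg.Statements.S5330
import Cfsg.Agent.Lib.Fusion.Hyperfocal
import Cfsg.Agent.Lib.Fusion.Center
-- import your own Cfsg.Agent.* helpers here

set_option autoImplicit false
open Cfsg

namespace Cfsg.Agent.S5330

open scoped IsMulCommutative commutatorElement in
theorem aux {Ω : Type*} [Group Ω] {S : Subgroup Ω} [Finite S] (p : ℕ) [Fact p.Prime] (hS : IsPGroup p S)
    (F : Cfsg.FusionSystem S) (hF : F.IsSaturated p) (hab : ∀ x ∈ S, ∀ y ∈ S, x * y = y * x) :
    F.center ⊓ F.focalSubgroup = ⊥ ∧ F.center ⊔ F.focalSubgroup = S := by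
  classical
  have hc : IsMulCommutative S := ⟨⟨fun a b => Subtype.ext (hab a a.2 b b.2)⟩⟩
  have hfinA := Cfsg.FusionSystem.finite_autGroup (F := F) (P := S) le_rfl
  have hext : ∀ (P : Subgroup Ω) (φ : P →* Ω) (hφ : φ ∈ F.Hom P), ∃ α ∈ F.autGroup S,
      ∀ x : P, φ x = (α ⟨x, F.source_le hφ x.2⟩ : S) := by
    let E : Cfsg.FusionSystem S :=
      { Hom := fun P => {φ | ∃ hφ : φ ∈ F.Hom P, ∃ α ∈ F.autGroup S,
          ∀ x : P, φ x = (α ⟨x, F.source_le hφ x.2⟩ : S)}
        le_of_mem := fun h => F.le_of_mem h.1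
        injective_of_mem := fun h => F.injective_of_mem h.1
        conj_mem := fun {P g} hP hg => ⟨F.conj_mem hP hg, 1, one_mem _, fun x => by
          rw [Cfsg.FusionSystem.conjHom_apply, hab g hg x (hP x.2), mul_inv_cancel_right]
          rfl⟩
        comp_mem := by
          rintro P Q φ ψ ⟨hφ, α, hα, he⟩ ⟨hψ, β, hβ, he'⟩ h
          refine ⟨F.comp_mem hφ hψ h, β * α, mul_mem hβ hα, fun x => ?_⟩
          show ψ ⟨φ x, h x⟩ = _
          rw [he', MulAut.mul_apply]
          congr 2
          exact Subtype.ext (he x)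
        inv_mem := by
          rintro P φ ⟨hφ, α, hα, he⟩
          obtain ⟨ψ, hψ, hl⟩ := F.inv_mem hφ
          refine ⟨ψ, ⟨hψ, α⁻¹, InvMemClass.inv_mem hα, ?_⟩, hl⟩
          rintro ⟨_, x, rfl⟩
          rw [hl]
          have : (⟨φ x, F.apply_mem hφ x⟩ : S) = α ⟨x, F.source_le hφ x.2⟩ := Subtype.ext (he x)
          show (x : Ω) = ((α⁻¹ ⟨φ x, F.apply_mem hφ x⟩ : S) : Ω)
          rw [this]
          simp }
    have key : F ≤ E := by
      refine hF.le_of_autGroup_le hS E fun P hP => ?_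
      rcases hP with rfl | hP
      · intro α hα
        exact (E.mem_autGroup_iff le_rfl).mpr ⟨(F.mem_autGroup_iff le_rfl).mp hα, α, hα, fun _ => rfl⟩
      · exfalso
        refine (hP.lt hS hF).not_ge fun s hs => hP.1.centralizerIn_le_self ⟨hs, ?_⟩
        exact Subgroup.mem_centralizer_iff.mpr fun y hy => hab y (hP.2.1.1 hy) s hs
    intro P φ hφ
    obtain ⟨h, hh⟩ := key P hφ
    exact hh
  have hcop : (Nat.card (F.autGroup S)).Coprime p := by
    obtain ⟨-, R, hR⟩ := hF.isFullyAutomized_of_isFullyNormalized hS Cfsg.FusionSystem.isFullyNormalized_self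
    have hR1 : (R : Subgroup (F.autGroup S)) = ⊥ := by
      rw [hR, eq_bot_iff]
      intro β hβ
      obtain ⟨g, hg, -, he⟩ := Cfsg.mem_autInducedBy_iff.mp (Subgroup.mem_subgroupOf.mp hβ)
      refine Subgroup.mem_bot.mpr (Subtype.ext (MulEquiv.ext fun x => Subtype.ext ?_))
      rw [he, hab g hg x x.2, mul_inv_cancel_right]
      rfl
    have := R.not_dvd_index
    rw [hR1, Subgroup.index_bot] at this
    exact ((Fact.out : p.Prime).coprime_iff_not_dvd.mpr this).symm
  have := Fintype.ofFinite (F.autGroup S)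
  let N : S →* S :=
    { toFun := fun s => ∏ a : F.autGroup S, (a : MulAut S) s
      map_one' := by simp
      map_mul' := fun s t => by simp [Finset.prod_mul_distrib] }
  have hN1 : ∀ (b : F.autGroup S) (s : S), (b : MulAut S) (N s) = N s := by
    intro b s
    show (b : MulAut S) (∏ a : F.autGroup S, (a : MulAut S) s) = _
    rw [map_prod]
    exact Fintype.prod_equiv (Equiv.mulLeft b) _ _ fun a => rfl
  have hN2 : ∀ (b : F.autGroup S) (s : S), N ((b : MulAut S) s) = N s := by
    intro b s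
    exact Fintype.prod_equiv (Equiv.mulRight b) _ _ fun a => rfl
  have hker : F.focalSubgroup ≤ N.ker.map S.subtype := by
    rw [Cfsg.FusionSystem.focalSubgroup, Subgroup.closure_le]
    rintro _ ⟨P, φ, x, hφ, rfl⟩
    obtain ⟨α, hα, he⟩ := hext P φ hφ
    refine ⟨⟨x, F.source_le hφ x.2⟩⁻¹ * α ⟨x, F.source_le hφ x.2⟩, ?_, ?_⟩
    · show N _ = 1
      rw [map_mul, map_inv, hN2 ⟨α, hα⟩, inv_mul_cancel]
    · rw [Subgroup.subtype_apply, Subgroup.coe_mul, Subgroup.coe_inv, he]
  have hfix : ∀ s : S, (∀ b ∈ F.autGroup S, b s = s) → ∀ y, F.IsConjElt s y → y = s := by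
    rintro s hs y ⟨φ, hφ, rfl⟩
    obtain ⟨α, hα, he⟩ := hext _ φ hφ
    rw [he]
    exact congrArg Subtype.val (hs α hα)
  constructor
  · rw [eq_bot_iff]
    rintro z ⟨hz, hzf⟩
    obtain ⟨s, hs, rfl⟩ := hker hzf
    have hs' : N s = 1 := hs
    have hfs : ∀ a : F.autGroup S, (a : MulAut S) s = s := by
      intro a
      apply Subtype.ext
      refine (F.isCentral_center).isConjElt_eq hz ⟨_, F.restrict_mem
        ((F.mem_autGroup_iff le_rfl).mp a.2) (Subgroup.zpowers_le.mpr s.2), rfl⟩
    have h1 : s ^ Nat.card (F.autGroup S) = 1 := by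
      rw [← hs', Nat.card_eq_fintype_card]
      show _ = ∏ a : F.autGroup S, (a : MulAut S) s
      rw [Finset.prod_congr rfl fun a _ => hfs a, Finset.prod_const, Finset.card_univ]
    obtain ⟨k, hk⟩ := hS s
    have : orderOf s = 1 := Nat.eq_one_of_dvd_coprimes (Nat.Coprime.pow_right k hcop)
      (orderOf_dvd_of_pow_eq_one h1) (orderOf_dvd_of_pow_eq_one hk)
    rw [orderOf_eq_one_iff] at this
    simp [this]
  · refine le_antisymm (sup_le (F.isCentral_center).le ?_) fun x hx => ?_
    · exact hker.trans (Subgroup.map_subtype_le _)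
    let T := F.center ⊔ F.focalSubgroup
    let v : S := ⟨x, hx⟩
    have hNc : ((N v : S) : Ω) ∈ F.center := by
      refine (Cfsg.FusionSystem.isCentral_of_isConjElt_eq hF (Subgroup.zpowers_le.mpr (N v).2)
        fun z hz => ?_).le_center (Subgroup.mem_zpowers _)
      obtain ⟨n, rfl⟩ := Subgroup.mem_zpowers_iff.mp hz
      exact hfix ⟨_, zpow_mem (N v).2 n⟩ fun b hb => by
        have : b ((N v) ^ n) = (N v) ^ n := by rw [map_zpow, hN1 ⟨b, hb⟩]
        exact Eq.trans (congrArg b (Subtype.ext rfl)) (this.trans (Subtype.ext rfl))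
    have key : ((v ^ Nat.card (F.autGroup S) : S) : Ω) ∈ T := by
      have h1 : v ^ Nat.card (F.autGroup S) =
          (∏ a : F.autGroup S, (v * ((a : MulAut S) v)⁻¹)) * N v := by
        show _ = _ * ∏ a : F.autGroup S, (a : MulAut S) v
        rw [← Finset.prod_mul_distrib, Nat.card_eq_fintype_card]
        simp
      rw [h1, Subgroup.coe_mul]
      refine T.mul_mem ?_ (Subgroup.mem_sup_left hNc)
      refine Finset.prod_induction _ (fun z : S => (z : Ω) ∈ T) (fun a b ha hb => T.mul_mem ha hb)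
        T.one_mem fun a _ => Subgroup.mem_sup_right ?_
      have := InvMemClass.inv_mem (F.focal_gen_mem ((F.mem_autGroup_iff le_rfl).mp a.2) v)
      rw [Subgroup.coe_mul, Subgroup.coe_inv]
      simp only [mul_inv_rev, inv_inv, MonoidHom.comp_apply] at this
      rw [hab _ hx _ (InvMemClass.inv_mem ((a : MulAut S) v).2)]
      exact this
    obtain ⟨k, hk⟩ := hS v
    obtain ⟨j, hj⟩ := exists_pow_eq_self_of_coprime
      (((Nat.Coprime.pow_right k hcop).coprime_dvd_right (orderOf_dvd_of_pow_eq_one hk)) :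
        (Nat.card (F.autGroup S)).Coprime (orderOf v))
    have h2 : x = ((v ^ Nat.card (F.autGroup S) : S) : Ω) ^ j := by
      rw [← Subgroup.coe_pow, hj]
    rw [h2]
    exact T.pow_mem key j

/-- Let F be a saturated fusion system over a finite abelian p-group S. Then S is the internal direct product of the centre of the system and the focal subgroup: Z(F) ∩ foc(F) = 1 and Z(F)·foc(F) = S. -/
theorem result {Ω : Type*} [Group Ω] {S : Subgroup Ω} [Finite S] (p : ℕ) [Fact p.Prime] (hS : IsPGroup p S) (F : Cfsg.FusionSystem S) (hF : F.IsSaturated p) (hab : ∀ x ∈ S, ∀ y ∈ S, x * y = y * x) : F.center ⊓ F.focalSubgroup = ⊥ ∧ F.center ⊔ F.focalSubgroup = S := by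
  exact aux p hS F hF hab

end Cfsg.Agent.S5330
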