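import Cfsg.Statements.S5148
import Cfsg.Agent.Lib.Fusion.Inner
import Cfsg.Agent.Lib.Fusion.Factor
import Cfsg.Agent.Lib.Fusion.Invariant
import Cfsg.Agent.S5330
-- import your own Cfsg.Agent.* helpers here

set_option autoImplicit false
open Cfsg

namespace Cfsg.Agent.S5148

open Cfsg Cfsg.FusionSystem in
theorem inner_isNormalIn {Ω : Type*} [Group Ω] {S : Subgroup Ω} [Finite S] {p : ℕ} [Fact p.Prime]
    (hS : IsPGroup p S) (F : Cfsg.FusionSystem S) (hF : F.IsSaturated p)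
    (hab : ∀ x ∈ S, ∀ y ∈ S, x * y = y * x) : (innerFusionSystem S).IsNormalIn F p := by
  have htriv : ∀ {P : Subgroup Ω} {φ : P →* Ω}, φ ∈ (innerFusionSystem S).Hom P → ∀ x : P, φ x = x := by
    rintro P φ ⟨hP, g, hg, he⟩ x
    rw [he, hab g hg x (hP x.2), mul_inv_cancel_right]
  have hsub : (innerFusionSystem S).IsSubsystemOf F := innerFusionSystem_le F
  have hT : F.StronglyClosed S := ⟨le_rfl, fun R _ φ hφ x => F.apply_mem hφ x⟩
  refine ⟨⟨innerFusionSystem_isSaturated S p hS, hF, StrongInvariance.isInvariantIn hF hS hT hsub ?_⟩, ?_⟩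
  · intro P Q hPQ hQS φ hφ hφQ ψ hψ
    have hle : (P.subgroupOf Q).map ψ ≤ S := by
      rintro _ ⟨x, -, rfl⟩
      exact F.apply_mem hψ x
    refine ⟨_, (innerFusionSystem S).id_mem hle, fun x hx => ?_⟩
    show ψ (Subgroup.inclusion hPQ x) = _
    congr 1
    exact Subtype.ext (htriv hφ x).symm
  · intro α hα
    refine ⟨1, one_mem _, fun x => ?_, fun c _ => ?_⟩
    · exact (htriv (((innerFusionSystem S).mem_autGroup_iff le_rfl).mp hα) x).symm
    · simp

open Cfsg Cfsg.FusionSystem in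
theorem aux {Ω : Type*} [Group Ω] {S : Subgroup Ω} [Finite S] (p : ℕ) [Fact p.Prime] (hS : IsPGroup p S)
    (F : Cfsg.FusionSystem S) (hq : F.Quasisimple p) : ¬ IsMulCommutative S := by
  intro hc
  obtain ⟨hF, hhyp, hsimple⟩ := hq
  have hab : ∀ x ∈ S, ∀ y ∈ S, x * y = y * x := fun x hx y hy =>
    congrArg Subtype.val (hc.1.comm ⟨x, hx⟩ ⟨y, hy⟩)
  have hZ : F.center = ⊥ := by
    rw [eq_bot_iff, ← (Cfsg.Agent.S5330.aux p hS F hF hab).1]
    refine le_inf le_rfl ((F.isCentral_center).le.trans ?_)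
    exact hhyp.ge.trans F.hyperfocalSubgroup_le_focalSubgroup
  set Z := F.center.subgroupOf S
  set θ := QuotientGroup.mk' Z
  have hker : ∀ s : S, θ s = 1 ↔ (s : Ω) ∈ F.center := fun s => QuotientGroup.eq_one_iff s
  have hsc : F.StronglyClosed F.center := by
    refine ⟨(F.isCentral_center).le, fun R hR φ hφ x => ?_⟩
    rw [hZ] at hR ⊢
    have : x = 1 := Subtype.ext (hR x.2)
    rw [this, map_one]
    exact one_mem _
  have hex : ∀ T : Subgroup (S ⧸ Z), θ.range = T → ∃ E : FusionSystem T, F.IsFactorSystem F.center θ E := by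
    rintro T rfl
    exact ⟨factorSystem F.center F θ hker hsc, (F.isCentral_center).le, hker, rfl, fun P' φ' => Iff.rfl⟩
  obtain ⟨E, hE⟩ := hex ⊤ (QuotientGroup.range_mk' _)
  obtain ⟨hEsat, hne, hmin⟩ := hsimple E hE
  have habq : ∀ x ∈ (⊤ : Subgroup (S ⧸ Z)), ∀ y ∈ (⊤ : Subgroup (S ⧸ Z)), x * y = y * x := by
    intro x _ y _
    obtain ⟨a, rfl⟩ := QuotientGroup.mk'_surjective Z x
    obtain ⟨b, rfl⟩ := QuotientGroup.mk'_surjective Z y
    rw [← map_mul, ← map_mul, hc.1.comm]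
  have hp : IsPGroup p (⊤ : Subgroup (S ⧸ Z)) := (hS.to_quotient Z).to_subgroup _
  rcases hmin _ _ (inner_isNormalIn hp E hEsat habq) with h | ⟨-, h⟩
  · exact hne h
  -- every map of `F` is trivial
  have htriv : F.hyperfocalSubgroup p ≤ ⊥ := by
    refine hyperfocalSubgroup_le_iff.mpr fun P hP α hα _ x => ?_
    obtain ⟨φ', hφ'⟩ := exists_inducedAlong hker hsc ((F.mem_autGroup_iff hP).mp hα)
    have hpre : preimageAlong θ (imageAlong θ P) = P := by
      refine le_antisymm (fun y hy => ?_) fun y hy => mem_preimageAlong.mpr ⟨hP hy, _, hy, rfl⟩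
      obtain ⟨hyS, z, hz, hze⟩ := mem_preimageAlong.mp hy
      have h1 : (z⁻¹ * ⟨y, hyS⟩ : S) ∈ Z := by
        rw [← QuotientGroup.ker_mk' Z, MonoidHom.mem_ker, map_mul, map_inv]
        show (θ z)⁻¹ * θ _ = 1
        rw [hze, inv_mul_cancel]
      have h2 : ((z⁻¹ * ⟨y, hyS⟩ : S) : Ω) ∈ F.center := h1
      rw [hZ, Subgroup.mem_bot, Subgroup.coe_mul, Subgroup.coe_inv, inv_mul_eq_one] at h2
      have h5 : (y : Ω) = (z : Ω) := h2.symm
      rw [h5]
      exact hz
    have hmemE : φ' ∈ E.Hom (imageAlong θ P) := by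
      refine (hE.2.2.2 _ φ').mpr ⟨le_top, _, F.restrict_mem ((F.mem_autGroup_iff hP).mp hα) hpre.le, ?_⟩
      obtain ⟨_, _, hP', he⟩ := hφ'
      exact ⟨preimageAlong_le, fun y => hP (α _).2, fun y => hP' ⟨y, hpre.le y.2⟩,
        fun y => he ⟨y, hpre.le y.2⟩⟩
    rw [← h] at hmemE
    obtain ⟨-, g, -, hg⟩ := hmemE
    obtain ⟨_, _, hP', he⟩ := hφ'
    have h3 := (he x).symm.trans (hg _)
    rw [habq g trivial _ trivial, mul_inv_cancel_right] at h3
    have h4 : ((⟨x, hP x.2⟩ : S)⁻¹ * ⟨((α x : P) : Ω), hP (α x).2⟩ : S) ∈ Z := by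
      rw [← QuotientGroup.ker_mk' Z, MonoidHom.mem_ker, map_mul, map_inv, inv_mul_eq_one]
      exact h3.symm
    rw [← hZ]
    exact h4
  apply hne
  rw [eq_bot_iff]
  intro y _
  obtain ⟨a, rfl⟩ := QuotientGroup.mk'_surjective Z y
  have ha : (a : Ω) ∈ (⊥ : Subgroup Ω) := htriv (hhyp.ge a.2)
  rw [show a = 1 from Subtype.ext ha, map_one]
  exact one_mem _

/-- A quasisimple fusion system over a finite p-group S (saturated, equal to its p-residual subsystem, with simple — in particular nontrivial — factor system modulo its centre) has S nonabelian. -/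
theorem result {Ω : Type*} [Group Ω] {S : Subgroup Ω} [Finite S] (p : ℕ) [Fact p.Prime] (hS : IsPGroup p S) (F : Cfsg.FusionSystem S) (hq : F.Quasisimple p) : ¬ IsMulCommutative S := by
  exact aux p hS F hq

end Cfsg.Agent.S5148
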