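import Cfsg.Statements.S5341
import Cfsg.Agent.Lib.Fusion.Saturation
-- import your own Cfsg.Agent.* helpers here

set_option autoImplicit false
open Cfsg

namespace Cfsg.Agent.S5341

/-- Let F be a saturated fusion system over a finite p-group S, T a subgroup strongly closed in F, and F′ any fusion system over T all of whose maps are maps of F. For a subgroup Q ≤ T: if Q is fully centralized in F then it is fully centralized in F′, and if Q is fully normalized in F then it is fully normalized in F′. -/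
theorem result {Ω : Type*} [Group Ω] {S : Subgroup Ω} [Finite S] (p : ℕ) [Fact p.Prime] (hS : IsPGroup p S) (F : Cfsg.FusionSystem S) (hF : F.IsSaturated p) (T : Subgroup Ω) (hT : F.StronglyClosed T) (F' : Cfsg.FusionSystem T) (hsub : F'.IsSubsystemOf F) (Q : Subgroup Ω) (hQT : Q ≤ T) : (F.IsFullyCentralized Q → F'.IsFullyCentralized Q) ∧ (F.IsFullyNormalized Q → F'.IsFullyNormalized Q) := by
  have hconj : ∀ R, F'.IsConj Q R → F.IsConj R Q ∧ R ≤ T := fun R hR => by
    refine ⟨?_, hR.le_right⟩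
    obtain ⟨φ, hφ, hr⟩ := hR
    exact Cfsg.FusionSystem.IsConj.symm ⟨φ, hsub Q hφ, hr⟩
  have hfin := Cfsg.FusionSystem.finite_of_le hT.1
  have := Cfsg.FusionSystem.finite_centralizerIn (S := T) (P := Q)
  have := Cfsg.FusionSystem.finite_normalizerIn (S := T) (P := Q)
  constructor
  · intro hQ
    refine ⟨hQT, fun R hR => ?_⟩
    obtain ⟨⟨φ, hφ, hr⟩, -⟩ := hconj R hR
    obtain ⟨ψ, hψ, he⟩ := (hF.isReceptive_of_isFullyCentralized hS hQ).2 R φ hφ hr
    have hle : R ≤ Cfsg.FusionSystem.extender S R φ :=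
      Cfsg.FusionSystem.le_extender (F.source_le hφ) (F.apply_mem hφ)
    have hC : Cfsg.FusionSystem.centralizerIn T R ≤ Cfsg.FusionSystem.extender S R φ := fun c hc =>
      Cfsg.FusionSystem.centralizerIn_le_extender (F.apply_mem hφ) ⟨hT.1 hc.1, hc.2⟩
    exact Nat.card_le_card_of_injective
      (fun c : Cfsg.FusionSystem.centralizerIn T R => (⟨ψ ⟨c, hC c.2⟩,
        hT.2 _ inf_le_left _ (F.restrict_mem hψ (inf_le_right : T ⊓ _ ≤ Cfsg.FusionSystem.extender S R φ))
          ⟨c, c.2.1, hC c.2⟩,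
        Cfsg.FusionSystem.apply_mem_centralizer hle (fun x => he x x.2 _) hr _ c.2.2⟩ :
        Cfsg.FusionSystem.centralizerIn T Q))
      fun a b h => Subtype.ext (congrArg Subtype.val
        (F.injective_of_mem hψ (congrArg Subtype.val h) :
          (⟨a, hC a.2⟩ : Cfsg.FusionSystem.extender S R φ) = ⟨b, hC b.2⟩) :)
  · intro hQ
    refine ⟨hQT, fun R hR => ?_⟩
    obtain ⟨hRQ, hRT⟩ := hconj R hR
    obtain ⟨φ, hφ, hr, Ψ, hΨ, -, he⟩ := hF.exists_map_to_fullyNormalized hS hQ hRQ
    have hle : R ≤ Cfsg.FusionSystem.normalizerIn S R :=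
      Cfsg.FusionSystem.le_normalizerIn (F.source_le hφ)
    have hN : Cfsg.FusionSystem.normalizerIn T R ≤ Cfsg.FusionSystem.normalizerIn S R :=
      fun c hc => ⟨hT.1 hc.1, hc.2⟩
    exact Nat.card_le_card_of_injective
      (fun c : Cfsg.FusionSystem.normalizerIn T R => (⟨Ψ ⟨c, hN c.2⟩,
        hT.2 _ inf_le_left _ (F.restrict_mem hΨ (inf_le_right : T ⊓ _ ≤ Cfsg.FusionSystem.normalizerIn S R))
          ⟨c, c.2.1, hN c.2⟩,
        Cfsg.FusionSystem.apply_mem_normalizer hle (fun x => he x _) hr _ c.2.2⟩ :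
        Cfsg.FusionSystem.normalizerIn T Q))
      fun a b h => Subtype.ext (congrArg Subtype.val
        (F.injective_of_mem hΨ (congrArg Subtype.val h) :
          (⟨a, hN a.2⟩ : Cfsg.FusionSystem.normalizerIn S R) = ⟨b, hN b.2⟩) :)

end Cfsg.Agent.S5341
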