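import Cfsg.Statements.S5153
import Cfsg.Agent.S5341
-- import your own Cfsg.Agent.* helpers here

set_option autoImplicit false
open Cfsg

namespace Cfsg.Agent.S5153

theorem subnormal_fullyNormalized {Ω : Type*} [Group Ω] {T S : Subgroup Ω} {E : Cfsg.FusionSystem T}
    {F : Cfsg.FusionSystem S} {p : ℕ} (hE : E.IsSubnormalIn F p) :
    ∀ [Fact p.Prime] [Finite S], IsPGroup p S → F.IsSaturated p →
      T ≤ S ∧ ∀ P : Subgroup Ω, P ≤ T → F.IsFullyNormalized P → E.IsFullyNormalized P := by
  induction hE with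
  | refl F p =>
    intro _ _ _ _
    exact ⟨le_rfl, fun P _ h => h⟩
  | step hED hDF ih =>
    intro _ _ hS hF
    obtain ⟨⟨hDsat, -, hsub, hU, -, -⟩, -⟩ := hDF
    have hUS := hU.1
    have := Cfsg.FusionSystem.finite_of_le hUS
    obtain ⟨hTU, hrec⟩ := ih (hS.to_le hUS) hDsat
    exact ⟨hTU.trans hUS, fun P hPT hP =>
      hrec P hPT ((Cfsg.Agent.S5341.result _ hS _ hF _ hU _ hsub P (hPT.trans hTU)).2 hP)⟩

/-- Let F be a saturated fusion system over a finite p-group S and E a subnormal subsystem of F over T. Then every subgroup of T that is fully normalized in F is fully normalized in E. -/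
theorem result {Ω : Type*} [Group Ω] {S : Subgroup Ω} [Finite S] (p : ℕ) [Fact p.Prime] (hS : IsPGroup p S) (F : Cfsg.FusionSystem S) (hF : F.IsSaturated p) {T : Subgroup Ω} (E : Cfsg.FusionSystem T) (hE : E.IsSubnormalIn F p) (P : Subgroup Ω) (hPT : P ≤ T) (hP : F.IsFullyNormalized P) : E.IsFullyNormalized P := by
  exact (subnormal_fullyNormalized hE hS hF).2 P hPT hP

end Cfsg.Agent.S5153
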