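import Cfsg.Statements.S5160
import Cfsg.Agent.Lib.Fusion.Group
import Cfsg.Agent.Lib.Fusion.Centric
import Cfsg.Agent.Lib.Fusion.Normal
-- import your own Cfsg.Agent.* helpers here

set_option autoImplicit false
open Cfsg

namespace Cfsg.Agent.S5160

/-- Let G be a finite group with nontrivial Sylow p-subgroup S and F its fusion system on S. Suppose (a) no nontrivial proper subgroup of S is strongly closed in F, and (b) the automorphisms of S induced by G are generated by those induced, for R running over the fully normalized radical centric subgroups of F, by the subgroup of N_G(R) generated by its elements of p-power order. Then F is simple. -/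
theorem result {G : Type*} [Group G] [Finite G] (p : ℕ) [Fact p.Prime] (S : Sylow p G) (hS1 : (S : Subgroup G) ≠ ⊥) (ha : ∀ T : Subgroup G, (Cfsg.groupFusionSystem (S : Subgroup G)).StronglyClosed T → T = ⊥ ∨ T = (S : Subgroup G)) (hb : Cfsg.autInducedBy ⊤ (S : Subgroup G) = ⨆ (R : Subgroup G) (_ : (Cfsg.groupFusionSystem (S : Subgroup G)).IsFullyNormalized R ∧ (Cfsg.groupFusionSystem (S : Subgroup G)).IsRadical p R ∧ (Cfsg.groupFusionSystem (S : Subgroup G)).IsCentric R), Cfsg.autInducedBy (Subgroup.closure {g : G | g ∈ Subgroup.normalizer (R : Set G) ∧ ∃ k : ℕ, orderOf g = p ^ k}) (S : Subgroup G)) : (Cfsg.groupFusionSystem (S : Subgroup G)).IsSimple p := by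
  classical
  let F := Cfsg.groupFusionSystem (S : Subgroup G)
  have hF : F.IsSaturated p := Cfsg.FusionSystem.groupFusionSystem_isSaturated S
  refine ⟨hF, hS1, fun T E hE => ?_⟩
  obtain ⟨⟨hEsat, -, hsub, hT, hinv, hfr⟩, -⟩ := hE
  rcases ha T hT with h | rfl
  · exact Or.inl h
  refine Or.inr ⟨rfl, fun P => Set.Subset.antisymm (hsub P) fun φ hφ => ?_⟩
  -- it suffices to treat the automorphisms of `S`
  suffices htop : F.autGroup (S : Subgroup G) ≤ E.autGroup S by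
    obtain ⟨α, hα, φ₀, hφ₀, he⟩ := hfr P (F.source_le hφ) φ hφ
    obtain ⟨ψ, hψ, -, hψe⟩ := E.exists_map_of_mem_autGroup le_rfl (htop hα)
    obtain ⟨χ, hχ, hχe⟩ := E.exists_comp hφ₀ hψ (E.apply_mem hφ₀)
    exact E.mem_of_apply_eq hχ fun x => by rw [hχe, hψe, he x (E.apply_mem hφ₀ x)]
  rw [Cfsg.FusionSystem.autGroup_groupFusionSystem le_rfl, hb]
  refine iSup_le fun R => iSup_le fun ⟨hRn, hRr, hRc⟩ => ?_
  have hRS : R ≤ (S : Subgroup G) := hRn.1
  have hSn : Cfsg.FusionSystem.IsSylowIn p (Cfsg.FusionSystem.normalizerIn (S : Subgroup G) R)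
      (Subgroup.normalizer (R : Set G)) :=
    (Cfsg.FusionSystem.isFullyNormalized_groupFusionSystem_iff S hRS).mp hRn
  let ρ : Subgroup.normalizer (R : Set G) →* MulAut R := R.normalizerMonoidHom
  -- invariance under `N_G(R)`
  have hconj : ∀ g : Subgroup.normalizer (R : Set G), ∀ u : Subgroup.normalizer (R : Set G),
      ρ u ∈ E.autGroup R → ρ (g * u * g⁻¹) ∈ E.autGroup R := by
    intro g u hu
    obtain ⟨φu, hφu, -, hue⟩ := E.exists_map_of_mem_autGroup hRS hu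
    have hgF : Cfsg.conjHom R (g : G) ∈ F.Hom R := by
      refine Cfsg.FusionSystem.conjHom_mem_groupFusionSystem hRS fun x hx => hRS ?_
      exact (Subgroup.mem_normalizer_iff.mp g.2 x).mp hx
    obtain ⟨α, hα, φ₁, hφ₁, he₁⟩ := hfr R hRS _ hgF
    -- `c_g = α ∘ φ₁`: transport `u` first by `φ₁` inside `E`, then by `α`
    obtain ⟨i, hi, hir, hil, -⟩ := E.exists_inv hφ₁ (rfl : φ₁.range = φ₁.range)
    obtain ⟨m₁, hm₁, hm₁e⟩ := E.exists_comp hi hφu (fun y => hir.le ⟨y, rfl⟩)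
    obtain ⟨m₂, hm₂, hm₂e⟩ := E.exists_comp hm₁ hφ₁
      (fun y => by rw [hm₁e, hue]; exact SetLike.coe_mem _)
    obtain ⟨χ, hχ, hχe⟩ := hinv _ (E.range_le hφ₁) m₂ hm₂ α hα
    have himg : R ≤ (φ₁.range.subgroupOf (S : Subgroup G)).map ((S : Subgroup G).subtype.comp α.toMonoidHom) := by
      intro x hx
      refine ⟨⟨φ₁ ⟨(g : G)⁻¹ * x * g, (Subgroup.mem_normalizer_iff''.mp g.2 x).mp hx⟩, E.apply_mem hφ₁ _⟩,
        ⟨_, rfl⟩, ?_⟩
      show ((α _ : (S : Subgroup G)) : G) = x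
      rw [← he₁]
      show (g : G) * ((g : G)⁻¹ * x * g) * (g : G)⁻¹ = x
      group
    refine E.mem_autGroup_of_map (E.restrict_mem hχ himg) fun x => ?_
    have hx' : (g : G)⁻¹ * x * g ∈ R := (Subgroup.mem_normalizer_iff''.mp g.2 x).mp x.2
    have hy : ((α ⟨φ₁ ⟨_, hx'⟩, E.apply_mem hφ₁ _⟩ : (S : Subgroup G)) : G) = x := by
      rw [← he₁]
      show (g : G) * ((g : G)⁻¹ * x * g) * (g : G)⁻¹ = x
      group
    have hmem := himg x.2
    have h1 := hχe ⟨φ₁ ⟨_, hx'⟩, _, rfl⟩ (E.apply_mem hm₂ _) (hy.symm ▸ hmem)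
    show ((g * u * g⁻¹ : Subgroup.normalizer (R : Set G)) : G) * x * _ = χ _
    have h2 : (⟨(x : G), hmem⟩ :
        ↥((φ₁.range.subgroupOf (S : Subgroup G)).map ((S : Subgroup G).subtype.comp α.toMonoidHom))) =
        ⟨_, hy.symm ▸ hmem⟩ := Subtype.ext hy.symm
    refine Eq.trans ?_ ((congrArg χ h2).trans h1).symm
    have h3 : m₂ ⟨φ₁ ⟨_, hx'⟩, _, rfl⟩ = φ₁ (ρ u ⟨_, hx'⟩) := by
      rw [hm₂e]
      congr 1
      apply Subtype.ext
      show m₁ _ = _
      rw [hm₁e, hue]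
      congr 2
      exact Subtype.ext (hil ⟨_, hx'⟩ _)
    have h4 : (⟨m₂ ⟨φ₁ ⟨_, hx'⟩, _, rfl⟩, E.apply_mem hm₂ _⟩ : (S : Subgroup G)) =
        ⟨φ₁ (ρ u ⟨_, hx'⟩), E.apply_mem hφ₁ _⟩ := Subtype.ext h3
    rw [h4, ← he₁]
    show _ = (g : G) * ((u : G) * ((g : G)⁻¹ * x * g) * (u : G)⁻¹) * (g : G)⁻¹
    simp only [Subgroup.coe_mul, InvMemClass.coe_inv]
    group
  -- all `p`-elements of `N_G(R)` act in `E`
  have hpel : ∀ u : Subgroup.normalizer (R : Set G), (∃ k : ℕ, orderOf (u : G) = p ^ k) →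
      ρ u ∈ E.autGroup R := by
    rintro u ⟨k, hk⟩
    obtain ⟨b, hb, hb'⟩ := hSn.exists_conj_le (X := Subgroup.zpowers (u : G))
      (IsPGroup.of_card (by rw [Nat.card_zpowers, hk])) (Subgroup.zpowers_le.mpr u.2)
    have h1 := hb' _ (Subgroup.mem_zpowers _)
    have h2 : ρ (⟨b, hb⟩ * u * ⟨b, hb⟩⁻¹) ∈ E.autGroup R :=
      Cfsg.FusionSystem.autInducedBy_le_autGroup hRS
        (Cfsg.mem_autInducedBy_iff.mpr ⟨_, h1.1, h1.2, fun x => rfl⟩)
    have h3 := hconj (⟨b, hb⟩)⁻¹ _ h2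
    simpa [mul_assoc] using h3
  let H : Subgroup G := ((E.autGroup R).comap ρ).map (Subgroup.normalizer (R : Set G)).subtype
  have hH : Subgroup.closure {g : G | g ∈ Subgroup.normalizer (R : Set G) ∧ ∃ k : ℕ, orderOf g = p ^ k} ≤ H :=
    (Subgroup.closure_le _).mpr fun g ⟨hg, hk⟩ => ⟨⟨g, hg⟩, hpel ⟨g, hg⟩ hk, rfl⟩
  intro α hα
  obtain ⟨g, hg, hgS, he⟩ := Cfsg.mem_autInducedBy_iff.mp hα
  obtain ⟨u, hu, hug⟩ := hH hg
  have hψ : Cfsg.conjHom (S : Subgroup G) g ∈ F.Hom S :=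
    Cfsg.FusionSystem.conjHom_mem_groupFusionSystem le_rfl fun x hx =>
      (Subgroup.mem_normalizer_iff.mp hgS x).mp hx
  have hres : (Cfsg.conjHom (S : Subgroup G) g).comp (Subgroup.inclusion hRS) ∈ E.Hom R := by
    obtain ⟨φu, hφu, -, hue⟩ := E.exists_map_of_mem_autGroup hRS hu
    refine E.mem_of_apply_eq hφu fun x => ?_
    rw [hue, ← hug]
    rfl
  exact E.mem_autGroup_of_map
    (Cfsg.FusionSystem.mem_of_restrict_centric S.2 hF hEsat hsub hRc hRS hψ hres) he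

end Cfsg.Agent.S5160
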