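import Cfsg.Statements.S5166
import Cfsg.Agent.Lib.Fusion.RankTwoSimple
import Cfsg.Agent.Lib.Golay.Mathieu
import Cfsg.Agent.Lib.Golay.Fast
-- import your own Cfsg.Agent.* helpers here

set_option autoImplicit false
open Cfsg

namespace Cfsg.Agent.S5166

open CfsgGolay in
theorem exists_qd_gens : ∃ x ∈ Cfsg.Spor.M11, ∃ y ∈ Cfsg.Spor.M11,
    orderOf x = 2 ^ 3 ∧ orderOf y = 2 ∧ y * x * y⁻¹ = x ^ 3 := by
  rw [M11_eq]
  set cx : ℕ := 233950865888990746377447415904013344 with hcx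
  set cy : ℕ := 735500604421669808992593446508235808 with hcy
  set cid : ℕ := 984818244535754528103549039458486304 with hcid
  have hk : (permOK cx = true ∧ permOK cy = true) ∧ (gensKept cx = true ∧ gensKept cy = true) ∧
      (inSub [0] [340831] cx = true ∧ inSub [0] [340831] cy = true) := by
    rw [hcx, hcy]; decide +kernel
  have h1 : Repr cid (1 : Equiv.Perm Cfsg.GolayPt) := by rw [hcid]; decide +kernel
  have hc : pcomp (pcomp (pcomp cx cx) (pcomp cx cx)) (pcomp (pcomp cx cx) (pcomp cx cx)) = cid ∧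
      pcomp (pcomp cx cx) (pcomp cx cx) ≠ cid ∧ pcomp cy cy = cid ∧ cy ≠ cid ∧
      pcomp cy cx = pcomp (pcomp (pcomp cx cx) cx) cy ∧
      (∀ p : Cfsg.GolayPt, papp cid (CfsgGolay.idx p) = CfsgGolay.idx p) ∧
      (∃ i < 24, papp (pcomp (pcomp cx cx) (pcomp cx cx)) i ≠ i) ∧ (∃ i < 24, papp cy i ≠ i) := by
    rw [hcx, hcy, hcid]; decide +kernel
  clear_value cx cy cid
  obtain ⟨c8, -, cy2, -, ccj, -, ⟨i, hi, hne⟩, ⟨j, hj, hne'⟩⟩ := hc
  obtain ⟨x, hx⟩ := exists_repr_of_permOK hk.1.1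
  obtain ⟨y, hy⟩ := exists_repr_of_permOK hk.1.2
  have h2 : Repr (pcomp cx cx) (x * x) := hx.comp hx
  have h4 := h2.comp h2
  have h8 := h4.comp h4
  rw [c8] at h8
  have hnot : ∀ {c k : ℕ} {g : Equiv.Perm Cfsg.GolayPt}, Repr c g → k < 24 → papp c k ≠ k → g ≠ 1 := by
    intro c k g hg hk hne hg1
    have h := hg (CfsgGolay.pt k)
    rw [hg1, Equiv.Perm.one_apply, CfsgGolay.idx_pt hk] at h
    exact hne h.symm
  refine ⟨x, mem_subG_of_inSub (mem_M24_of_gensKept hx hk.2.1.1) hx hk.2.2.1,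
    y, mem_subG_of_inSub (mem_M24_of_gensKept hy hk.2.1.2) hy hk.2.2.2, ?_, ?_, ?_⟩
  · have e4 : x * x * (x * x) = x ^ 4 := by simp only [pow_succ, pow_zero, one_mul, mul_assoc]
    have e8 : x * x * (x * x) * (x * x * (x * x)) = x ^ 8 := by simp only [pow_succ, pow_zero, one_mul, mul_assoc]
    haveI : Fact (Nat.Prime 2) := ⟨Nat.prime_two⟩
    exact orderOf_eq_prime_pow (e4 ▸ hnot h4 hi hne : ¬ x ^ 2 ^ 2 = 1) (e8 ▸ h8.unique h1 : x ^ 2 ^ (2 + 1) = 1)
  · have hyy := hy.comp hy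
    rw [cy2] at hyy
    exact CfsgLib.Involutions.orderOf_eq_two_iff'.mpr ⟨hyy.unique h1, hnot hy hj hne'⟩
  · have ha := hy.comp hx
    rw [ccj] at ha
    rw [mul_inv_eq_iff_eq_mul, ha.unique ((h2.comp hx).comp hy), show x ^ 3 = x * x * x by simp only [pow_succ, pow_zero, one_mul]]

/-- The 2-fusion system of the Mathieu group M₁₁ (as the explicit permutation group carved out of the automorphism group of the binary Golay code) on a Sylow 2-subgroup is simple: saturated, over a nontrivial 2-group, with no normal subsystem other than the trivial one and itself. -/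
theorem result (S : Sylow 2 Cfsg.Spor.M11) : (Cfsg.groupFusionSystem (S : Subgroup Cfsg.Spor.M11)).IsSimple 2 := by
  haveI : Fact (Nat.Prime 2) := ⟨Nat.prime_two⟩
  haveI := CfsgGolay.isSimple_sporM11
  obtain ⟨x, hxM, y, hyM, hx, hy, hxy⟩ := exists_qd_gens
  let x' : Cfsg.Spor.M11 := ⟨x, hxM⟩
  let y' : Cfsg.Spor.M11 := ⟨y, hyM⟩
  let H : Subgroup Cfsg.Spor.M11 := Subgroup.closure {x', y'}
  let X : Subgroup Cfsg.Spor.M11 := Subgroup.zpowers x'
  have hxy' : y' * x' * y'⁻¹ = x' ^ 3 := Subtype.ext hxy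
  have hx' : orderOf x' = 8 := by rw [Subgroup.orderOf_mk, hx]; norm_num
  have hy' : orderOf y' = 2 := by rw [Subgroup.orderOf_mk, hy]
  have hyy : y' ^ 2 = 1 := hy' ▸ pow_orderOf_eq_one y'
  have hyN : y' ∈ Subgroup.normalizer (X : Set Cfsg.Spor.M11) := by
    refine Subgroup.mem_normalizer_iff.mpr fun a => ?_
    constructor
    · rintro ⟨k, rfl⟩
      refine ⟨3 * k, ?_⟩
      show x' ^ (3 * k) = y' * x' ^ k * y'⁻¹
      rw [← conj_zpow, hxy', ← zpow_natCast x' 3, ← zpow_mul]; rfl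
    · intro ha
      obtain ⟨k, hk⟩ := ha
      replace hk : x' ^ k = y' * a * y'⁻¹ := hk
      refine ⟨3 * k, ?_⟩
      show x' ^ (3 * k) = a
      have hinv : y'⁻¹ = y' := inv_eq_of_mul_eq_one_right (by rw [← sq, hyy])
      calc x' ^ (3 * k) = y' * x' ^ k * y'⁻¹ := by rw [← conj_zpow, hxy', ← zpow_natCast x' 3, ← zpow_mul]; rfl
        _ = y' * (y' * a * y'⁻¹) * y'⁻¹ := by rw [hk]
        _ = (y' * y') * a * (y' * y') := by rw [hinv]; group
        _ = a := by rw [← sq, hyy, one_mul, mul_one]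
  have hH : H = X ⊔ Subgroup.zpowers y' := by
    show Subgroup.closure {x', y'} = _
    rw [Set.insert_eq, Subgroup.closure_union]
    show Subgroup.closure _ ⊔ Subgroup.closure _ = Subgroup.zpowers _ ⊔ Subgroup.zpowers _
    rw [Subgroup.zpowers_eq_closure, Subgroup.zpowers_eq_closure]
  have hyX : y' ∉ X := by
    rintro ⟨k, hk⟩
    replace hk : x' ^ k = y' := hk
    have h := hxy'
    rw [← hk, (Commute.refl x').zpow_left k |>.eq, mul_inv_cancel_right] at h
    have h2 : x' ^ 2 = 1 := by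
      have := congrArg (fun a => x'⁻¹ * a) h
      simpa [pow_succ', mul_assoc] using this.symm
    have := Nat.le_of_dvd two_pos (hx' ▸ orderOf_dvd_of_pow_eq_one h2)
    omega
  have hcardH : Nat.card H = 16 := by
    have hmem : ∀ a : Cfsg.Spor.M11, a ∈ H ↔ a ∈ X ∨ a * y' ∈ X := by
      intro a
      rw [hH, ← SetLike.mem_coe, Subgroup.coe_mul_of_right_le_normalizer_left X _ (Subgroup.zpowers_le.mpr hyN)]
      constructor
      · rintro ⟨u, hu, v, ⟨k, rfl⟩, rfl⟩
        rcases Int.even_or_odd' k with ⟨j, rfl | rfl⟩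
        · left
          show u * y' ^ (2 * j) ∈ X
          rw [zpow_mul, zpow_two, ← sq, hyy, one_zpow, mul_one]; exact hu
        · right
          show u * y' ^ (2 * j + 1) * y' ∈ X
          rw [zpow_add_one, zpow_mul, zpow_two, ← sq, hyy, one_zpow, one_mul, mul_assoc, ← sq, hyy, mul_one]
          exact hu
      · rintro (h | h)
        · exact ⟨a, h, 1, one_mem _, mul_one a⟩
        · exact ⟨a * y', h, y', Subgroup.mem_zpowers _, by show a * y' * y' = a; rw [mul_assoc, ← sq, hyy, mul_one]⟩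
    have hXH : X ≤ H := fun a h => (hmem a).mpr (Or.inl h)
    have hidx : (X.subgroupOf H).index = 2 := by
      refine Subgroup.index_eq_two_iff.mpr ⟨⟨y', (hmem y').mpr (Or.inr (by rw [← sq, hyy]; exact one_mem _))⟩, ?_⟩
      rintro ⟨b, hb⟩
      show Xor (b * y' ∈ X) (b ∈ X)
      rcases (hmem b).mp hb with h | h
      · exact Or.inr ⟨h, fun h2 => hyX (by simpa using mul_mem (inv_mem h) h2)⟩
      · exact Or.inl ⟨h, fun h2 => hyX (by simpa using mul_mem (inv_mem h2) h)⟩
    rw [← (X.subgroupOf H).card_mul_index, hidx, Nat.card_congr (Subgroup.subgroupOfEquivOfLe hXH).toEquiv,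
      Nat.card_zpowers, hx']
  have hfac : (7920 : ℕ).factorization 2 = 4 := by
    rw [show (7920 : ℕ) = 2 ^ 4 * 495 by norm_num, Nat.factorization_mul (by norm_num) (by norm_num),
      Finsupp.add_apply, Nat.factorization_eq_zero_of_not_dvd (show ¬ 2 ∣ 495 by norm_num), add_zero,
      Nat.factorization_pow, Finsupp.smul_apply, Nat.Prime.factorization_self Nat.prime_two]
    rfl
  refine CfsgLib.RankTwoSimple.isSimple (Sylow.ofCard H (by rw [hcardH, CfsgGolay.card_sporM11, hfac]; norm_num)) S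
    (Or.inr ⟨3, le_rfl, by show Nat.card H = _; rw [hcardH]; norm_num,
      ⟨x', Subgroup.subset_closure (Or.inl rfl)⟩, ⟨y', Subgroup.subset_closure (Or.inr rfl)⟩, ?_, ?_, ?_⟩)
  · exact (Subgroup.orderOf_mk (a := x') _).trans (by rw [hx']; norm_num)
  · exact (Subgroup.orderOf_mk (a := y') _).trans hy'
  · exact Subtype.ext hxy'

end Cfsg.Agent.S5166
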