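import Cfsg.Statements.S5168
import Cfsg.Agent.Lib.Fusion.MathieuSylowData
-- import your own Cfsg.Agent.* helpers here

set_option autoImplicit false
open Cfsg

namespace Cfsg.Agent.S5168

/-- The 2-fusion system of the Mathieu group M₂₂ (as the explicit permutation group carved out of the automorphism group of the binary Golay code) on a Sylow 2-subgroup is simple: saturated, over a nontrivial 2-group, with no normal subsystem other than the trivial one and itself. -/
theorem result (S : Sylow 2 Cfsg.Spor.M22) : (Cfsg.groupFusionSystem (S : Subgroup Cfsg.Spor.M22)).IsSimple 2 := by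
  have hB : CfsgGolay.sylowM22.checkBasic = true := by decide +kernel
  have hP : CfsgGolay.sylowM22.checkPhi = true := by decide +kernel
  have hO : CfsgGolay.sylowM22.checkOrb = true := by decide +kernel
  have hC : CfsgGolay.sylowM22.checkCol = true := by decide +kernel
  have hZ : CfsgGolay.sylowM22.checkCen = true := by decide +kernel
  have hS : CfsgGolay.sylowM22.checkSteps = true := by decide +kernel
  have hlen : (CfsgGolay.spanC CfsgGolay.sylowM22.gens).length = 2 ^ 7 := by decide +kernel
  exact CfsgGolay.SylData.isSimple hB hP hO hC hZ hS (CfsgGolay.M22_eq) (k := 7) (m := 3465) (by norm_num) hlen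
    (by rw [CfsgGolay.card_sporM22]; norm_num) (by norm_num) S

end Cfsg.Agent.S5168
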