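import Cfsg.Statements.S5178
import Cfsg.Agent.Lib.Fusion.SmallCentre.Main
import Cfsg.Agent.Lib.ExtraspecialIndexP
import Cfsg.Agent.Lib.Fusion.SelfAut
-- import your own Cfsg.Agent.* helpers here

set_option autoImplicit false
universe u
open Cfsg

open scoped commutatorElement

namespace Cfsg.Agent.S5178

-- helpers
theorem card_mul_relIndex' {G : Type*} [Group G] {H K : Subgroup G} (h : H ≤ K) :
    Nat.card H * H.relIndex K = Nat.card K := by
  have := Subgroup.relIndex_mul_relIndex ⊥ H K bot_le h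
  rwa [Subgroup.relIndex_bot_left, Subgroup.relIndex_bot_left] at this

/-- A Sylow group of transvections with a common centre of prime order, of order more than `p`,
forces that centre to be invariant. -/
theorem centre_invariant {X : Type*} [Group X] [Finite X] {p : ℕ} [Fact p.Prime] (G : Subgroup (MulAut X))
    (L : Subgroup X) (hL : Nat.card L = p) (A : Sylow p G)
    (hA : ∀ a : G, a ∈ (A : Subgroup G) → (∀ l ∈ L, (a : MulAut X) l = l) ∧ ∀ x, x⁻¹ * (a : MulAut X) x ∈ L)
    (hAc : p < Nat.card (A : Subgroup G)) {g : MulAut X} (hg : g ∈ G) {l : X} (hl : l ∈ L) : g l ∈ L := by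
  haveI : Finite (MulAut X) := Finite.of_injective (fun α : MulAut X => (α : X → X)) DFunLike.coe_injective
  have hpp : p.Prime := Fact.out
  by_contra hnot
  have hl1 : l ≠ 1 := fun e => hnot (by rw [e, map_one]; exact L.one_mem)
  have hgen : ∀ c ∈ L, c ∈ Subgroup.zpowers l := by
    intro c hc
    have h1 : Subgroup.zpowers (⟨l, hl⟩ : L) = ⊤ := zpowers_eq_top_of_prime_card hL (fun e => hl1 (congrArg Subtype.val e))
    obtain ⟨i, hi⟩ := (h1 ▸ Subgroup.mem_top (⟨c, hc⟩ : L) : (⟨c, hc⟩ : L) ∈ Subgroup.zpowers (⟨l, hl⟩ : L))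
    exact ⟨i, congrArg Subtype.val hi⟩
  -- `M = g L`
  set M := L.map g.toMonoidHom with hM
  have hgM : ∀ c ∈ L, g c ∈ M := fun c hc => ⟨c, hc, rfl⟩
  have hLM : ∀ c ∈ L, c ∈ M → c = 1 := by
    rintro c hc ⟨d, hd, e⟩
    obtain ⟨i, rfl⟩ := hgen d hd
    by_contra hc1
    refine hnot ?_
    have h1 : Subgroup.zpowers (⟨c, hc⟩ : L) = ⊤ := zpowers_eq_top_of_prime_card hL (fun e => hc1 (congrArg Subtype.val e))
    have h2 : Subgroup.zpowers c = L := by
      have := congrArg (Subgroup.map L.subtype) h1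
      rwa [MonoidHom.map_zpowers, ← MonoidHom.range_eq_map, Subgroup.range_subtype] at this
    have h3 : Subgroup.zpowers c ≤ M := Subgroup.zpowers_le.mpr ⟨_, hd, e⟩
    have h4 : L = M := Subgroup.eq_of_le_of_card_ge (h2 ▸ h3)
      (le_of_eq (Subgroup.card_map_of_injective g.injective))
    rw [h4]
    exact ⟨l, hl, rfl⟩
  -- an element of `A` fixing `g l`
  let f : ↥(A : Subgroup G) → L := fun a => ⟨(g l)⁻¹ * ((a : G) : MulAut X) (g l), (hA _ a.2).2 _⟩
  obtain ⟨a, b, hab, he⟩ : ∃ a b, a ≠ b ∧ f a = f b := by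
    by_contra hh
    push Not at hh
    have := Nat.card_le_card_of_injective f fun a b e => by_contra fun h => hh a b h e
    omega
  have hfix : ((a : G) : MulAut X) (g l) = ((b : G) : MulAut X) (g l) :=
    mul_left_cancel (congrArg Subtype.val he)
  set c : G := (b : G)⁻¹ * a with hc
  have hcA : c ∈ (A : Subgroup G) := (A : Subgroup G).mul_mem ((A : Subgroup G).inv_mem b.2) a.2
  have hc1 : c ≠ 1 := fun e => hab (Subtype.ext (inv_mul_eq_one.mp e).symm)
  have hcfix : ∀ m ∈ M, (c : MulAut X) m = m := by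
    rintro _ ⟨d, hd, rfl⟩
    obtain ⟨i, rfl⟩ := hgen d hd
    show (c : MulAut X) (g (l ^ i)) = g (l ^ i)
    rw [map_zpow, map_zpow]
    congr 1
    show ((b : G) : MulAut X).symm (((a : G) : MulAut X) (g l)) = g l
    rw [hfix, MulEquiv.symm_apply_apply]
  -- the stabiliser of the series `1 ≤ M ≤ X`
  let T : Subgroup G :=
    { carrier := {h | (∀ m ∈ M, (h : MulAut X) m = m) ∧ ∀ x, x⁻¹ * (h : MulAut X) x ∈ M}
      one_mem' := ⟨fun m _ => rfl, fun x => by simp⟩
      mul_mem' := fun {u v} hu hv => ⟨fun m hm => by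
          show (u : MulAut X) ((v : MulAut X) m) = m
          rw [hv.1 m hm, hu.1 m hm], fun x => by
          have h1 := M.mul_mem (hu.2 x) (hv.2 x)
          show x⁻¹ * (u : MulAut X) ((v : MulAut X) x) ∈ M
          have e : (u : MulAut X) ((v : MulAut X) x) = (u : MulAut X) x * (x⁻¹ * (v : MulAut X) x) := by
            conv_lhs => rw [show (v : MulAut X) x = x * (x⁻¹ * (v : MulAut X) x) by group]
            rw [map_mul, hu.1 _ (hv.2 x)]
          rw [e, ← mul_assoc]
          exact h1⟩
      inv_mem' := fun {u} hu => ⟨fun m hm => by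
          show (u : MulAut X).symm m = m
          conv_lhs => rw [← hu.1 m hm, MulEquiv.symm_apply_apply], fun x => by
          show x⁻¹ * (u : MulAut X).symm x ∈ M
          have h1 := hu.2 ((u : MulAut X).symm x)
          rw [MulEquiv.apply_symm_apply] at h1
          have h2 := M.inv_mem h1
          simpa [mul_inv_rev] using h2⟩ }
  have hT : IsPGroup p T := by
    rintro ⟨h, hh⟩
    refine ⟨1, Subtype.ext (Subtype.ext (MulEquiv.ext fun x => ?_))⟩
    have hpow : ∀ k : ℕ, ((h : MulAut X) ^ k) x = x * (x⁻¹ * (h : MulAut X) x) ^ k := by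
      intro k
      induction k with
      | zero => simp
      | succ k ih => rw [pow_succ', MulAut.mul_apply, ih, map_mul, map_pow, hh.1 _ (hh.2 x), pow_succ', ← mul_assoc, mul_inv_cancel_left]
    show (((h ^ p ^ 1 : G) : MulAut X)) x = x
    rw [pow_one, Subgroup.coe_pow, hpow]
    have h1 : (⟨_, hh.2 x⟩ : M) ^ Nat.card M = 1 := pow_card_eq_one'
    rw [Subgroup.card_map_of_injective g.injective, hL] at h1
    have h2 := congrArg Subtype.val h1
    simp only [Subgroup.coe_pow, Subgroup.coe_one] at h2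
    rw [h2, mul_one]
  let B : Sylow p G := (⟨g, hg⟩ : G) • A
  have hBT : (B : Subgroup G) ≤ T := by
    rintro _ ⟨u, hu, rfl⟩
    refine ⟨?_, fun x => ⟨_, (hA u hu).2 (g.symm x), ?_⟩⟩
    · rintro _ ⟨d, hd, rfl⟩
      show g ((u : MulAut X) (g.symm (g d))) = g d
      rw [MulEquiv.symm_apply_apply, (hA u hu).1 d hd]
    · show g ((g.symm x)⁻¹ * (u : MulAut X) (g.symm x)) = x⁻¹ * g ((u : MulAut X) (g.symm x))
      rw [map_mul, map_inv, MulEquiv.apply_symm_apply]
  have hTB : T = (B : Subgroup G) := B.3 hT hBT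
  have hcn : c ∈ Subgroup.normalizer ((B : Subgroup G) : Set G) := by
    refine Subgroup.mem_normalizer_fintype fun t ht => ?_
    rw [← hTB] at ht ⊢
    refine ⟨fun m hm => ?_, fun x => ?_⟩
    · show (c : MulAut X) ((t : MulAut X) ((c : MulAut X).symm m)) = m
      rw [show (c : MulAut X).symm m = m by conv_lhs => rw [← hcfix m hm, MulEquiv.symm_apply_apply],
        ht.1 m hm, hcfix m hm]
    · show x⁻¹ * (c : MulAut X) ((t : MulAut X) ((c : MulAut X).symm x)) ∈ M
      have h1 := ht.2 ((c : MulAut X).symm x)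
      have h2 := hcfix _ h1
      rw [map_mul, map_inv, MulEquiv.apply_symm_apply] at h2
      rw [h2]
      exact h1
  have hcB : c ∈ (B : Subgroup G) := by
    have hp1 : IsPGroup p (Subgroup.zpowers c) := A.2.to_le (Subgroup.zpowers_le.mpr hcA)
    have h1 := hp1.to_sup_of_normal_right' B.2 (Subgroup.zpowers_le.mpr hcn)
    exact (B.3 h1 le_sup_right).le (Subgroup.mem_sup_left (Subgroup.mem_zpowers c))
  refine hc1 (Subtype.ext (MulEquiv.ext fun x => ?_))
  show (c : MulAut X) x = x
  exact (inv_mul_eq_one.mp (hLM _ ((hA c hcA).2 x) ((hBT hcB).2 x))).symm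


/-- Let p be an odd prime, S a finite p-group containing an extraspecial subgroup Q of index p, and F a saturated fusion system over S whose largest subgroup normal in F is trivial. Then the centre of S equals the centre of Q. -/
theorem result {Ω : Type u} [Group Ω] {S : Subgroup Ω} [Finite S] (p : ℕ) [Fact p.Prime] (hp : Odd p) (hS : IsPGroup p S)
    (Q : Subgroup Ω) (hQS : Q ≤ S) (hQ : Cfsg.IsExtraspecial p ↥Q) (hQi : (Q.subgroupOf S).index = p)
    (F : Cfsg.FusionSystem S) (hF : F.IsSaturated p) (hO : F.core = ⊥) :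
    S ⊓ Subgroup.centralizer (S : Set Ω) = Q ⊓ Subgroup.centralizer (Q : Set Ω) := by
  classical
  haveI : Finite Q := Cfsg.FusionSystem.finite_of_le hQS
  have hpp : p.Prime := Fact.out
  have hp2 : p ≠ 2 := fun e => by rw [e] at hp; exact (Nat.not_odd_iff_even.2 even_two) hp
  set L := Q ⊓ Subgroup.centralizer (Q : Set Ω) with hLdef
  -- `Q` is normal in `S`
  haveI hQn : (Q.subgroupOf S).Normal := CfsgLib.ExtraspecialIndexP.normal_of_index_prime hS hQi
  have hQnorm : S ≤ Subgroup.normalizer (Q : Set Ω) := (Subgroup.normal_subgroupOf_iff_le_normalizer hQS).mp hQn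
  have hLS : L ≤ S := inf_le_left.trans hQS
  have hLcard : Nat.card L = p := by
    rw [← hQ.2]
    refine Nat.card_congr ⟨fun x => ⟨⟨x, x.2.1⟩, Subgroup.mem_center_iff.mpr fun g =>
        Subtype.ext (Subgroup.mem_centralizer_iff.mp x.2.2 g g.2)⟩,
      fun x => ⟨(x : Q), (x : Q).2, Subgroup.mem_centralizer_iff.mpr fun g hg =>
        congrArg Subtype.val (Subgroup.mem_center_iff.mp x.2 ⟨g, hg⟩)⟩, fun _ => rfl, fun _ => rfl⟩
  have hLZ : L ≤ S ⊓ Subgroup.centralizer (S : Set Ω) := by
    have hLn : (L.subgroupOf S).Normal := by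
      refine ⟨fun x hx s => ⟨(Subgroup.mem_normalizer_iff.mp (hQnorm s.2) _).mp hx.1,
        Subgroup.mem_centralizer_iff.mpr fun q hq => ?_⟩⟩
      have h1 : (s : Ω)⁻¹ * q * s ∈ Q := (Subgroup.mem_normalizer_iff''.mp (hQnorm s.2) q).mp hq
      have h2 := Subgroup.mem_centralizer_iff.mp hx.2 _ h1
      show q * ((s : Ω) * x * (s : Ω)⁻¹) = (s : Ω) * x * (s : Ω)⁻¹ * q
      calc q * ((s : Ω) * x * (s : Ω)⁻¹) = (s : Ω) * (((s : Ω)⁻¹ * q * s) * (x : Ω)) * (s : Ω)⁻¹ := by
            group
        _ = (s : Ω) * ((x : Ω) * ((s : Ω)⁻¹ * q * s)) * (s : Ω)⁻¹ := by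
            exact congrArg (fun t => (s : Ω) * t * (s : Ω)⁻¹) h2
        _ = _ := by group
    haveI : Group.IsNilpotent S := hS.isNilpotent
    have hc : Nat.card (L.subgroupOf S) = p := by
      rw [Nat.card_congr (Subgroup.subgroupOfEquivOfLe hLS).toEquiv, hLcard]
    have hne : L.subgroupOf S ≠ ⊥ := fun e => hpp.ne_one (by rw [← hc, e, Subgroup.card_bot])
    have h := CfsgLib.inf_center_ne_bot_of_nilpotent (N := L.subgroupOf S) hne
    have hd := Subgroup.card_dvd_of_le (inf_le_left : L.subgroupOf S ⊓ Subgroup.center S ≤ L.subgroupOf S)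
    rw [hc] at hd
    rcases hpp.eq_one_or_self_of_dvd _ hd with e | e
    · exact absurd (Subgroup.card_eq_one.mp e) h
    · have h2 := Subgroup.eq_of_le_of_card_ge (inf_le_left : L.subgroupOf S ⊓ Subgroup.center S ≤ L.subgroupOf S)
        (by rw [hc, e])
      intro x hx
      have h3 : (⟨x, hLS hx⟩ : S) ∈ Subgroup.center S := (h2.ge (show (⟨x, hLS hx⟩ : S) ∈ L.subgroupOf S from hx)).2
      exact Cfsg.SmallCentre.mem_cen.mpr ⟨_, h3⟩
  refine le_antisymm ?_ hLZ
  by_contra hnot
  obtain ⟨z, hz, hzL⟩ := SetLike.not_le_iff_exists.mp hnot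
  set Z := S ⊓ Subgroup.centralizer (S : Set Ω) with hZdef
  have hzQ : z ∉ Q := fun h => hzL ⟨h, Subgroup.mem_centralizer_iff.mpr fun q hq =>
    Subgroup.mem_centralizer_iff.mp hz.2 q (hQS hq)⟩
  -- every element is `q z^i`
  have hdec : ∀ s ∈ S, ∃ q ∈ Q, ∃ c ∈ Z, s = q * c := by
    intro s hs
    have htop : Q.subgroupOf S ⊔ Z.subgroupOf S = ⊤ := by
      rw [← Subgroup.index_eq_one]
      refine ((Nat.dvd_prime hpp).mp (hQi ▸ Subgroup.index_dvd_of_le le_sup_left)).resolve_right fun h => hzQ ?_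
      haveI : Finite S := inferInstance
      have h1 : Q.subgroupOf S = Q.subgroupOf S ⊔ Z.subgroupOf S := by
        by_contra hne
        have h3 := Subgroup.index_strictAnti (lt_of_le_of_ne le_sup_left hne)
        omega
      have h2 : (⟨z, hz.1⟩ : S) ∈ Q.subgroupOf S := h1.ge (Subgroup.mem_sup_right (show (⟨z, hz.1⟩ : S) ∈ Z.subgroupOf S from hz))
      exact h2
    have hm : (⟨s, hs⟩ : S) ∈ ((Q.subgroupOf S ⊔ Z.subgroupOf S : Subgroup S) : Set S) := by rw [htop]; trivial
    rw [Subgroup.normal_mul] at hm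
    obtain ⟨q, hq, c, hc, e⟩ := hm
    exact ⟨q, hq, c, hc, (congrArg Subtype.val e).symm⟩
  -- commutators lie in `L`
  have hQQ : ∀ a ∈ Q, ∀ b ∈ Q, a * b * a⁻¹ * b⁻¹ ∈ L := by
    intro a ha b hb
    have h1 : ⁅(⟨a, ha⟩ : Q), (⟨b, hb⟩ : Q)⁆ ∈ commutator Q :=
      Subgroup.commutator_mem_commutator (Subgroup.mem_top _) (Subgroup.mem_top _)
    rw [hQ.1.2.2] at h1
    exact ⟨Q.mul_mem (Q.mul_mem (Q.mul_mem ha hb) (Q.inv_mem ha)) (Q.inv_mem hb),
      Subgroup.mem_centralizer_iff.mpr fun g hg => congrArg Subtype.val (Subgroup.mem_center_iff.mp h1 ⟨g, hg⟩)⟩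
  have hSS : ∀ a ∈ S, ∀ b ∈ S, a * b * a⁻¹ * b⁻¹ ∈ L := by
    intro a ha b hb
    obtain ⟨q, hq, c, hc, rfl⟩ := hdec a ha
    obtain ⟨r, hr, d, hd, rfl⟩ := hdec b hb
    have e1 : ∀ x ∈ S, x * c = c * x := fun x hx => Subgroup.mem_centralizer_iff.mp hc.2 x hx
    have e2 : ∀ x ∈ S, x * d = d * x := fun x hx => Subgroup.mem_centralizer_iff.mp hd.2 x hx
    have e : q * c * (r * d) * (q * c)⁻¹ * (r * d)⁻¹ = q * r * q⁻¹ * r⁻¹ := by
      calc q * c * (r * d) * (q * c)⁻¹ * (r * d)⁻¹ = q * (c * (r * d)) * c⁻¹ * q⁻¹ * d⁻¹ * r⁻¹ := by group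
        _ = q * r * (d * q⁻¹) * d⁻¹ * r⁻¹ := by rw [← e1 _ (S.mul_mem (hQS hr) hd.1)]; group
        _ = q * r * (q⁻¹ * d) * d⁻¹ * r⁻¹ := by rw [e2 _ (S.inv_mem (hQS hq))]
        _ = _ := by group
    rw [e]
    exact hQQ q hq r hr
  obtain ⟨n, hn1, hn⟩ := CfsgLib.ExtraspecialIndexP.exists_card hQ
  have hScard : Nat.card S = p * Nat.card Q := by
    have := Subgroup.card_mul_index (Q.subgroupOf S)
    rw [hQi, Nat.card_congr (Subgroup.subgroupOfEquivOfLe hQS).toEquiv] at this
    rw [← this, mul_comm]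
  have hZcard : p * p ≤ Nat.card (Subgroup.center S) := by
    rw [← Cfsg.SmallCentre.card_cen (S := S)]
    haveI : Finite Z := Cfsg.FusionSystem.finite_of_le inf_le_left
    obtain ⟨k, hk⟩ := IsPGroup.iff_card.mp (hS.to_le (inf_le_left : Z ≤ S))
    have hlt : Nat.card L < Nat.card Z := Cfsg.FusionSystem.card_lt_of_lt (lt_of_le_of_ne hLZ fun e => hzL (e ▸ hz))
    rw [hLcard, hk] at hlt
    show p * p ≤ Nat.card Z
    rw [hk, ← pow_two]
    exact Nat.pow_le_pow_right hpp.pos (by
      by_contra h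
      interval_cases k
      · rw [pow_zero] at hlt; have := hpp.one_lt; omega
      · rw [pow_one] at hlt; omega)
  have hS1 : S ≠ ⊥ := fun e => by
    rw [e, Subgroup.card_bot] at hScard
    exact hpp.ne_one (Nat.eq_one_of_mul_eq_one_right hScard.symm)
  rcases (show n = 1 ∨ 2 ≤ n by omega) with rfl | hn2
  · -- order `p⁴`
    have hidx : (Subgroup.center S).index ≤ p ^ 2 := by
      have h := Subgroup.card_mul_index (Subgroup.center S)
      rw [hScard, hn] at h
      by_contra hh
      have h1 : p * p * (Subgroup.center S).index ≤ p * p ^ (2 * 1 + 1) := h ▸ Nat.mul_le_mul_right _ hZcard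
      have h2 : p * p * p ^ 2 < p * p * (Subgroup.center S).index :=
        (Nat.mul_lt_mul_left (Nat.mul_pos hpp.pos hpp.pos)).mpr (not_le.mp hh)
      exact absurd (h2.trans_le h1) (not_lt.mpr (le_of_eq (by ring)))
    have hy := Cfsg.SmallCentre.hyp_of_le hS hF hS1 hO hidx
    have h := hy.card_cen_odd hp2
    rw [Cfsg.SmallCentre.card_cen] at h
    rw [h] at hZcard
    nlinarith [hpp.two_le]
  · -- no essential subgroups
    have hnone : ∀ E, ¬ F.IsEssential p E := by
      intro E hE
      have hES := hE.1.1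
      haveI : Finite E := Cfsg.FusionSystem.finite_of_le hES
      have hEL : L ≤ E := fun x hx => hE.1.centralizerIn_le_self ⟨hLS hx,
        Subgroup.mem_centralizer_iff.mpr fun e he => Subgroup.mem_centralizer_iff.mp (hLZ hx).2 e (hES he)⟩
      have hEn : S ≤ Cfsg.FusionSystem.normalizerIn S E := by
        intro s hs
        refine ⟨hs, Subgroup.mem_normalizer_fintype fun e he => ?_⟩
        have h1 := E.mul_mem (hEL (hSS s hs e (hES he))) he
        rwa [inv_mul_cancel_right] at h1
      set LE := L.subgroupOf E with hLEdef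
      have hLEcard : Nat.card LE = p := by
        rw [hLEdef, Nat.card_congr (Subgroup.subgroupOfEquivOfLe hEL).toEquiv, hLcard]
      haveI : Finite (F.autGroup E) := Cfsg.FusionSystem.finite_autGroup hES
      obtain ⟨-, R, hR⟩ := hF.isFullyAutomized_of_isFullyNormalized hS hE.2.1
      have hstab : ∀ a : MulAut E, a ∈ Cfsg.autInducedBy S E →
          (∀ l ∈ LE, a l = l) ∧ ∀ x, x⁻¹ * a x ∈ LE := by
        intro a ha
        obtain ⟨s, hs, hsN, hse⟩ := Cfsg.mem_autInducedBy_iff.mp ha
        refine ⟨fun l hl => Subtype.ext ?_, fun x => ?_⟩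
        · rw [hse, show s * (l : Ω) = (l : Ω) * s from Subgroup.mem_centralizer_iff.mp (hLZ hl).2 s hs, mul_inv_cancel_right]
        · show (x : Ω)⁻¹ * (a x : E) ∈ L
          rw [hse]
          have h1 := hSS (x : Ω)⁻¹ (S.inv_mem (hES x.2)) s hs
          have h2 := L.mul_mem h1 (L.one_mem)
          convert h2 using 1
          group
      -- `LE` is invariant
      have hinv : ∀ α ∈ F.autGroup E, ∀ l ∈ LE, α l ∈ LE := by
        intro α hα l hl
        by_cases hab : IsMulCommutative E
        · refine centre_invariant (F.autGroup E) LE hLEcard R (fun a ha => hstab _ (hR.le ha)) ?_ hα hl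
          rw [hR, Nat.card_congr (Subgroup.subgroupOfEquivOfLe (Cfsg.FusionSystem.autInducedBy_le_autGroup hES)).toEquiv]
          have hm := Cfsg.card_autInducedBy_mul S E
          have hCE : Cfsg.FusionSystem.centralizerIn S E = E := by
            refine le_antisymm hE.1.centralizerIn_le_self fun e he => ⟨hES he,
              Subgroup.mem_centralizer_iff.mpr fun g hg => ?_⟩
            exact congrArg Subtype.val (IsMulCommutative.is_comm.comm (⟨g, hg⟩ : E) ⟨e, he⟩)
          rw [hCE, show Cfsg.FusionSystem.normalizerIn S E = S from le_antisymm inf_le_left hEn, hScard] at hm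
          -- the order of `E`
          set EQ := (E ⊓ Q).subgroupOf Q with hEQdef
          have hEQab : IsMulCommutative EQ := ⟨⟨fun a b => Subtype.ext (Subtype.ext (by
            have h : ((a : Q) : Ω) * ((b : Q) : Ω) = ((b : Q) : Ω) * ((a : Q) : Ω) :=
              congrArg Subtype.val (IsMulCommutative.is_comm.comm (⟨((a : Q) : Ω), a.2.1⟩ : E) ⟨((b : Q) : Ω), b.2.1⟩)
            exact h))⟩⟩
          have h1 := CfsgLib.ExtraspecialIndexP.card_abelian_sq_le hQ EQ hEQab
          rw [hEQdef, Nat.card_congr (Subgroup.subgroupOfEquivOfLe (inf_le_right : E ⊓ Q ≤ Q)).toEquiv] at h1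
          have h2 : Nat.card E ≤ p * Nat.card (E ⊓ Q : Subgroup Ω) := by
            have e1 := card_mul_relIndex' (inf_le_left : E ⊓ Q ≤ E)
            rw [Subgroup.inf_relIndex_left] at e1
            have e2 : Q.relIndex E ≤ p := by
              have := Subgroup.relIndex_le_of_le_right hES (by
                show (Q.subgroupOf S).index ≠ 0
                rw [hQi]; exact hpp.ne_zero)
              exact this.trans hQi.le
            rw [← e1, mul_comm p]
            exact Nat.mul_le_mul_left _ e2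
          by_contra hsmall
          have h3 : p * Nat.card Q ≤ p * Nat.card E := hm ▸ Nat.mul_le_mul_right _ (not_lt.mp hsmall)
          have h4 : Nat.card Q ≤ Nat.card E := Nat.le_of_mul_le_mul_left h3 hpp.pos
          have h5 : Nat.card Q * Nat.card Q ≤ p * p * p * Nat.card Q := by
            calc Nat.card Q * Nat.card Q ≤ Nat.card E * Nat.card E := Nat.mul_le_mul h4 h4
              _ ≤ (p * Nat.card (E ⊓ Q : Subgroup Ω)) * (p * Nat.card (E ⊓ Q : Subgroup Ω)) := Nat.mul_le_mul h2 h2
              _ = p * p * (Nat.card (E ⊓ Q : Subgroup Ω) * Nat.card (E ⊓ Q : Subgroup Ω)) := by ring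
              _ ≤ p * p * (p * Nat.card Q) := Nat.mul_le_mul_left _ h1
              _ = _ := by ring
          have h6 := Nat.le_of_mul_le_mul_right h5 Nat.card_pos
          rw [hn, show p * p * p = p ^ 3 by ring] at h6
          have := (Nat.pow_le_pow_iff_right hpp.one_lt).mp h6
          omega
        · -- `L` is the derived group of `E`
          obtain ⟨a, b, hab'⟩ : ∃ a b : E, a * b ≠ b * a := by
            by_contra hh
            push Not at hh
            exact hab ⟨⟨hh⟩⟩
          set k : E := a * b * a⁻¹ * b⁻¹ with hk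
          have hkL : k ∈ LE := hSS a (hES a.2) b (hES b.2)
          have hk1 : k ≠ 1 := fun e => hab' (by
            have := congrArg (fun t => t * b * a) e
            simpa [hk, mul_assoc] using this)
          have hgen : Subgroup.zpowers (⟨k, hkL⟩ : LE) = ⊤ :=
            zpowers_eq_top_of_prime_card hLEcard (fun e => hk1 (congrArg Subtype.val e))
          obtain ⟨i, hi⟩ := (hgen ▸ Subgroup.mem_top (⟨l, hl⟩ : LE) : (⟨l, hl⟩ : LE) ∈ Subgroup.zpowers _)
          rw [show l = k ^ i from (congrArg Subtype.val hi).symm, map_zpow]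
          refine LE.zpow_mem ?_ i
          rw [hk, map_mul, map_mul, map_mul, map_inv, map_inv]
          exact hSS _ (hES (α a).2) _ (hES (α b).2)
      -- the stabiliser is a normal `p`-subgroup containing `Aut_S(E)`
      let K : Subgroup (F.autGroup E) :=
        { carrier := {h | (∀ m ∈ LE, (h : MulAut E) m = m) ∧ ∀ x, x⁻¹ * (h : MulAut E) x ∈ LE}
          one_mem' := ⟨fun m _ => rfl, fun x => by simp⟩
          mul_mem' := fun {u v} hu hv => ⟨fun m hm => by
              show (u : MulAut E) ((v : MulAut E) m) = m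
              rw [hv.1 m hm, hu.1 m hm], fun x => by
              have h1 := LE.mul_mem (hu.2 x) (hv.2 x)
              show x⁻¹ * (u : MulAut E) ((v : MulAut E) x) ∈ LE
              have e : (u : MulAut E) ((v : MulAut E) x) = (u : MulAut E) x * (x⁻¹ * (v : MulAut E) x) := by
                conv_lhs => rw [show (v : MulAut E) x = x * (x⁻¹ * (v : MulAut E) x) by group]
                rw [map_mul, hu.1 _ (hv.2 x)]
              rw [e, ← mul_assoc]
              exact h1⟩
          inv_mem' := fun {u} hu => ⟨fun m hm => by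
              show (u : MulAut E).symm m = m
              conv_lhs => rw [← hu.1 m hm, MulEquiv.symm_apply_apply], fun x => by
              show x⁻¹ * (u : MulAut E).symm x ∈ LE
              have h1 := hu.2 ((u : MulAut E).symm x)
              rw [MulEquiv.apply_symm_apply] at h1
              have h2 := LE.inv_mem h1
              simpa [mul_inv_rev] using h2⟩ }
      have hKp : IsPGroup p K := by
        rintro ⟨h, hh⟩
        refine ⟨1, Subtype.ext (Subtype.ext (MulEquiv.ext fun x => ?_))⟩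
        have hpow : ∀ j : ℕ, ((h : MulAut E) ^ j) x = x * (x⁻¹ * (h : MulAut E) x) ^ j := by
          intro j
          induction j with
          | zero => simp
          | succ j ih => rw [pow_succ', MulAut.mul_apply, ih, map_mul, map_pow, hh.1 _ (hh.2 x), pow_succ', ← mul_assoc, mul_inv_cancel_left]
        show (((h ^ p ^ 1 : F.autGroup E) : MulAut E)) x = x
        rw [pow_one, Subgroup.coe_pow, hpow]
        have h1 : (⟨_, hh.2 x⟩ : LE) ^ Nat.card LE = 1 := pow_card_eq_one'
        rw [hLEcard] at h1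
        have h2 := congrArg Subtype.val h1
        simp only [Subgroup.coe_pow, Subgroup.coe_one] at h2
        rw [h2, mul_one]
      haveI : K.Normal := by
        refine ⟨fun u hu g => ?_⟩
        have hgi := hinv _ ((F.autGroup E).inv_mem g.2)
        refine ⟨fun m hm => ?_, fun x => ?_⟩
        · show (g : MulAut E) ((u : MulAut E) ((g : MulAut E).symm m)) = m
          exact (congrArg _ (hu.1 _ (hgi m hm))).trans ((g : MulAut E).apply_symm_apply m)
        · show x⁻¹ * (g : MulAut E) ((u : MulAut E) ((g : MulAut E).symm x)) ∈ LE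
          have h1 := hinv _ g.2 _ (hu.2 ((g : MulAut E).symm x))
          rw [map_mul, map_inv, MulEquiv.apply_symm_apply] at h1
          exact h1
      obtain ⟨s, hs, hsE⟩ := SetLike.exists_of_lt (Cfsg.FusionSystem.lt_normalizerIn hS (hE.lt hS hF))
      have hr : E.normalizerMonoidHom ⟨s, hs.2⟩ ∈ Cfsg.autInducedBy S E :=
        Cfsg.mem_autInducedBy_iff.mpr ⟨s, hs.1, hs.2, fun _ => rfl⟩
      obtain ⟨u, hu⟩ := (hE.isRadical hS hF).2.le
        ⟨⟨_, Cfsg.FusionSystem.autInducedBy_le_autGroup hES hr⟩, CfsgLib.le_pCore hKp (show _ ∈ K from hstab _ hr), rfl⟩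
      apply hsE
      have hcz : (u : Ω)⁻¹ * s ∈ Cfsg.FusionSystem.centralizerIn S E := by
        refine ⟨S.mul_mem (S.inv_mem (hES u.2)) hs.1, Subgroup.mem_centralizer_iff.mpr fun y hy => ?_⟩
        have h1 : (u : Ω) * y * (u : Ω)⁻¹ = s * y * s⁻¹ :=
          congrArg (fun f : MulAut E => ((f ⟨y, hy⟩ : E) : Ω)) hu
        calc y * ((u : Ω)⁻¹ * s) = (u : Ω)⁻¹ * ((u : Ω) * y * (u : Ω)⁻¹) * s := by group
          _ = (u : Ω)⁻¹ * s * y := by rw [h1]; group
      have := E.mul_mem u.2 (hE.1.centralizerIn_le_self hcz)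
      rwa [mul_inv_cancel_left] at this
    have hbot := hF.eq_bot_of_invariant hS hO (Q := S) le_rfl (fun α _ y _ => (α y).2)
      fun E hE => absurd hE (hnone E)
    exact hS1 hbot

end Cfsg.Agent.S5178
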