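import Cfsg.Statements.S5179
import Cfsg.Agent.Lib.Fusion.Normal
import Cfsg.Agent.Lib.Fusion.Alperin
import Cfsg.Agent.Lib.ExtraspecialIndexP
-- import your own Cfsg.Agent.* helpers here

set_option autoImplicit false
universe u
open Cfsg

open scoped commutatorElement

namespace Cfsg.Agent.S5179

/-- Let p be an odd prime, S a finite p-group of order at least p⁶ containing an extraspecial subgroup Q of index p, and F a saturated fusion system over S whose largest subgroup normal in F is trivial. Then no proper subgroup of Q is essential in F: an essential subgroup of F contained in Q equals Q. -/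
theorem result {Ω : Type u} [Group Ω] {S : Subgroup Ω} [Finite S] (p : ℕ) [Fact p.Prime] (hp : Odd p) (hS : IsPGroup p S)
    (Q : Subgroup Ω) (hQS : Q ≤ S) (hQ : Cfsg.IsExtraspecial p ↥Q) (hQi : (Q.subgroupOf S).index = p)
    (h6 : p ^ 6 ≤ Nat.card S)
    (F : Cfsg.FusionSystem S) (hF : F.IsSaturated p) (hO : F.core = ⊥)
    (E : Subgroup Ω) (hEQ : E ≤ Q) (hE : F.IsEssential p E) : E = Q := by
  classical
  haveI : Finite Q := Cfsg.FusionSystem.finite_of_le hQS
  have hpp : p.Prime := Fact.out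
  by_contra hne
  have hES := hE.1.1
  haveI : Finite E := Cfsg.FusionSystem.finite_of_le hES
  haveI : Finite (MulAut E) := Finite.of_injective (fun α : MulAut E => (α : E → E)) DFunLike.coe_injective
  haveI : Finite (F.autGroup E) := Cfsg.FusionSystem.finite_autGroup hES
  set L := Q ⊓ Subgroup.centralizer (Q : Set Ω) with hLdef
  have hLcard : Nat.card L = p := by
    rw [← hQ.2]
    refine Nat.card_congr ⟨fun x => ⟨⟨x, x.2.1⟩, Subgroup.mem_center_iff.mpr fun g =>
        Subtype.ext (Subgroup.mem_centralizer_iff.mp x.2.2 g g.2)⟩,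
      fun x => ⟨(x : Q), (x : Q).2, Subgroup.mem_centralizer_iff.mpr fun g hg =>
        congrArg Subtype.val (Subgroup.mem_center_iff.mp x.2 ⟨g, hg⟩)⟩, fun _ => rfl, fun _ => rfl⟩
  have hQQ : ∀ a ∈ Q, ∀ b ∈ Q, a * b * a⁻¹ * b⁻¹ ∈ L := by
    intro a ha b hb
    have h1 : ⁅(⟨a, ha⟩ : Q), (⟨b, hb⟩ : Q)⁆ ∈ commutator Q :=
      Subgroup.commutator_mem_commutator (Subgroup.mem_top _) (Subgroup.mem_top _)
    rw [hQ.1.2.2] at h1
    exact ⟨Q.mul_mem (Q.mul_mem (Q.mul_mem ha hb) (Q.inv_mem ha)) (Q.inv_mem hb),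
      Subgroup.mem_centralizer_iff.mpr fun g hg => congrArg Subtype.val (Subgroup.mem_center_iff.mp h1 ⟨g, hg⟩)⟩
  have hEL : L ≤ E := fun x hx => hE.1.centralizerIn_le_self ⟨hQS hx.1,
    Subgroup.mem_centralizer_iff.mpr fun e he => Subgroup.mem_centralizer_iff.mp hx.2 e (hEQ he)⟩
  have hEn : ∀ q ∈ Q, q ∈ Subgroup.normalizer (E : Set Ω) := fun q hq =>
    Subgroup.mem_normalizer_fintype fun e he => by
      have h1 := E.mul_mem (hEL (hQQ q hq e (hEQ he))) he
      rwa [inv_mul_cancel_right] at h1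
  set LE := L.subgroupOf E with hLEdef
  have hLEcard : Nat.card LE = p := by
    rw [hLEdef, Nat.card_congr (Subgroup.subgroupOfEquivOfLe hEL).toEquiv, hLcard]
  let K : Subgroup (F.autGroup E) :=
    { carrier := {h | (∀ m ∈ LE, (h : MulAut E) m = m) ∧ ∀ x, x⁻¹ * (h : MulAut E) x ∈ LE}
      one_mem' := ⟨fun m _ => rfl, fun x => by simp⟩
      mul_mem' := fun {u v} hu hv => ⟨fun m hm => by
          show (u : MulAut E) ((v : MulAut E) m) = m
          rw [hv.1 m hm, hu.1 m hm], fun x => by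
          have h1 := LE.mul_mem (hu.2 x) (hv.2 x)
          show x⁻¹ * (u : MulAut E) ((v : MulAut E) x) ∈ LE
          have e : (u : MulAut E) ((v : MulAut E) x) = (u : MulAut E) x * (x⁻¹ * (v : MulAut E) x) := by
            conv_lhs => rw [show (v : MulAut E) x = x * (x⁻¹ * (v : MulAut E) x) by group]
            rw [map_mul, hu.1 _ (hv.2 x)]
          rw [e, ← mul_assoc]
          exact h1⟩
      inv_mem' := fun {u} hu => ⟨fun m hm => by
          show (u : MulAut E).symm m = m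
          conv_lhs => rw [← hu.1 m hm, MulEquiv.symm_apply_apply], fun x => by
          show x⁻¹ * (u : MulAut E).symm x ∈ LE
          have h1 := hu.2 ((u : MulAut E).symm x)
          rw [MulEquiv.apply_symm_apply] at h1
          have h2 := LE.inv_mem h1
          simpa [mul_inv_rev] using h2⟩ }
  have hKp : IsPGroup p K := by
    rintro ⟨h, hh⟩
    refine ⟨1, Subtype.ext (Subtype.ext (MulEquiv.ext fun x => ?_))⟩
    have hpow : ∀ j : ℕ, ((h : MulAut E) ^ j) x = x * (x⁻¹ * (h : MulAut E) x) ^ j := by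
      intro j
      induction j with
      | zero => simp
      | succ j ih => rw [pow_succ', MulAut.mul_apply, ih, map_mul, map_pow, hh.1 _ (hh.2 x), pow_succ', ← mul_assoc, mul_inv_cancel_left]
    show (((h ^ p ^ 1 : F.autGroup E) : MulAut E)) x = x
    rw [pow_one, Subgroup.coe_pow, hpow]
    have h1 : (⟨_, hh.2 x⟩ : LE) ^ Nat.card LE = 1 := pow_card_eq_one'
    rw [hLEcard] at h1
    have h2 := congrArg Subtype.val h1
    simp only [Subgroup.coe_pow, Subgroup.coe_one] at h2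
    rw [h2, mul_one]
  -- conjugation by an element of `Q`
  have hQK : ∀ α : F.autGroup E, (α : MulAut E) ∈ Cfsg.autInducedBy Q E → α ∈ K := by
    intro α ha
    obtain ⟨s, hs, -, hse⟩ := Cfsg.mem_autInducedBy_iff.mp ha
    refine ⟨fun l hl => Subtype.ext ?_, fun x => ?_⟩
    · rw [hse, show s * (l : Ω) = (l : Ω) * s from Subgroup.mem_centralizer_iff.mp (show (l : Ω) ∈ L from hl).2 s hs,
        mul_inv_cancel_right]
    · show (x : Ω)⁻¹ * ((α : MulAut E) x : E) ∈ L
      rw [hse]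
      convert hQQ (x : Ω)⁻¹ (Q.inv_mem (hEQ x.2)) s hs using 1
      group
  have hKnorm : ∀ g : F.autGroup E, (∀ l ∈ LE, (g : MulAut E) l ∈ LE) → ∀ u ∈ K, g * u * g⁻¹ ∈ K := by
    intro g hg u hu
    have hgi : ∀ l ∈ LE, (g : MulAut E).symm l ∈ LE := by
      intro l hl
      have h1 : LE.map (g : MulAut E).toMonoidHom = LE :=
        Subgroup.eq_of_le_of_card_ge (by rintro _ ⟨m, hm, rfl⟩; exact hg m hm)
          (le_of_eq (Subgroup.card_map_of_injective (g : MulAut E).injective).symm)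
      obtain ⟨m, hm, e⟩ := h1.ge hl
      rw [← e]
      show (g : MulAut E).symm ((g : MulAut E) m) ∈ LE
      rwa [MulEquiv.symm_apply_apply]
    refine ⟨fun m hm => ?_, fun x => ?_⟩
    · show (g : MulAut E) ((u : MulAut E) ((g : MulAut E).symm m)) = m
      exact (congrArg _ (hu.1 _ (hgi m hm))).trans ((g : MulAut E).apply_symm_apply m)
    · show x⁻¹ * (g : MulAut E) ((u : MulAut E) ((g : MulAut E).symm x)) ∈ LE
      have h1 := hg _ (hu.2 ((g : MulAut E).symm x))
      rw [map_mul, map_inv, MulEquiv.apply_symm_apply] at h1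
      exact h1
  -- the centre is not invariant
  obtain ⟨g₀, hg₀⟩ : ∃ g : F.autGroup E, ¬ ∀ l ∈ LE, (g : MulAut E) l ∈ LE := by
    by_contra hh
    push Not at hh
    haveI : K.Normal := ⟨fun u hu g => hKnorm g (hh g) u hu⟩
    obtain ⟨s, hs, hsE⟩ := SetLike.exists_of_lt (lt_of_le_of_ne hEQ hne)
    have hr : E.normalizerMonoidHom ⟨s, hEn s hs⟩ ∈ Cfsg.autInducedBy Q E :=
      Cfsg.mem_autInducedBy_iff.mpr ⟨s, hs, hEn s hs, fun _ => rfl⟩
    have hrA : E.normalizerMonoidHom ⟨s, hEn s hs⟩ ∈ F.autGroup E :=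
      (Cfsg.autInducedBy_mono hQS).trans (Cfsg.FusionSystem.autInducedBy_le_autGroup hES) hr
    obtain ⟨u, hu⟩ := (hE.isRadical hS hF).2.le ⟨⟨_, hrA⟩, CfsgLib.le_pCore hKp (hQK ⟨_, hrA⟩ hr), rfl⟩
    apply hsE
    have hcz : (u : Ω)⁻¹ * s ∈ Cfsg.FusionSystem.centralizerIn S E := by
      refine ⟨S.mul_mem (S.inv_mem (hES u.2)) (hQS hs), Subgroup.mem_centralizer_iff.mpr fun y hy => ?_⟩
      have h1 : (u : Ω) * y * (u : Ω)⁻¹ = s * y * s⁻¹ :=
        congrArg (fun f : MulAut E => ((f ⟨y, hy⟩ : E) : Ω)) hu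
      calc y * ((u : Ω)⁻¹ * s) = (u : Ω)⁻¹ * ((u : Ω) * y * (u : Ω)⁻¹) * s := by group
        _ = (u : Ω)⁻¹ * s * y := by rw [h1]; group
    have := E.mul_mem u.2 (hE.1.centralizerIn_le_self hcz)
    rwa [mul_inv_cancel_left] at this
  have hab : ∀ a b : E, a * b = b * a := by
    by_contra hh
    push Not at hh
    obtain ⟨a, b, hab'⟩ := hh
    refine hg₀ fun l hl => ?_
    set k : E := a * b * a⁻¹ * b⁻¹ with hk
    have hkL : k ∈ LE := hQQ a (hEQ a.2) b (hEQ b.2)
    have hk1 : k ≠ 1 := fun e => hab' (by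
      have := congrArg (fun t => t * b * a) e
      simpa [hk, mul_assoc] using this)
    have hgen : Subgroup.zpowers (⟨k, hkL⟩ : LE) = ⊤ :=
      zpowers_eq_top_of_prime_card hLEcard (fun e => hk1 (congrArg Subtype.val e))
    obtain ⟨i, hi⟩ := (hgen ▸ Subgroup.mem_top (⟨l, hl⟩ : LE) : (⟨l, hl⟩ : LE) ∈ Subgroup.zpowers _)
    rw [show l = k ^ i from (congrArg Subtype.val hi).symm, map_zpow]
    refine LE.zpow_mem ?_ i
    rw [hk, map_mul, map_mul, map_mul, map_inv, map_inv]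
    exact hQQ _ (hEQ ((g₀ : MulAut E) a).2) _ (hEQ ((g₀ : MulAut E) b).2)
  -- the stabiliser has order more than `p`
  have hKbig : p < Nat.card K := by
    have hm := Cfsg.card_autInducedBy_mul Q E
    have hCE : Cfsg.FusionSystem.centralizerIn Q E = E := by
      refine le_antisymm (fun x hx => hE.1.centralizerIn_le_self ⟨hQS hx.1, hx.2⟩) fun e he => ⟨hEQ he,
        Subgroup.mem_centralizer_iff.mpr fun g hg => ?_⟩
      exact congrArg Subtype.val (hab ⟨g, hg⟩ ⟨e, he⟩)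
    rw [hCE, show Cfsg.FusionSystem.normalizerIn Q E = Q from
      le_antisymm inf_le_left fun q hq => ⟨hq, hEn q hq⟩] at hm
    have hle : Cfsg.autInducedBy Q E ≤ F.autGroup E :=
      (Cfsg.autInducedBy_mono hQS).trans (Cfsg.FusionSystem.autInducedBy_le_autGroup hES)
    have hAK : Nat.card (Cfsg.autInducedBy Q E) ≤ Nat.card K :=
      Nat.card_le_card_of_injective (fun a => (⟨⟨a, hle a.2⟩, hQK ⟨a, hle a.2⟩ a.2⟩ : K))
        fun a b e => Subtype.ext (congrArg (fun t : K => ((t : F.autGroup E) : MulAut E)) e)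
    have h1 := CfsgLib.ExtraspecialIndexP.card_abelian_sq_le hQ (E.subgroupOf Q)
      ⟨⟨fun a b => Subtype.ext (Subtype.ext (by
        have h : ((a : Q) : Ω) * ((b : Q) : Ω) = ((b : Q) : Ω) * ((a : Q) : Ω) :=
          congrArg Subtype.val (hab ⟨((a : Q) : Ω), a.2⟩ ⟨((b : Q) : Ω), b.2⟩)
        exact h))⟩⟩
    rw [Nat.card_congr (Subgroup.subgroupOfEquivOfLe hEQ).toEquiv] at h1
    by_contra hsmall
    have h2 : Nat.card Q ≤ p * Nat.card E := by
      rw [← hm]
      exact Nat.mul_le_mul_right _ (hAK.trans (not_lt.mp hsmall))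
    have h3 : Nat.card Q * Nat.card Q ≤ p * p * p * Nat.card Q := by
      calc Nat.card Q * Nat.card Q ≤ (p * Nat.card E) * (p * Nat.card E) := Nat.mul_le_mul h2 h2
        _ = p * p * (Nat.card E * Nat.card E) := by ring
        _ ≤ p * p * (p * Nat.card Q) := Nat.mul_le_mul_left _ h1
        _ = _ := by ring
    have h4 := Nat.le_of_mul_le_mul_right h3 Nat.card_pos
    have h5 := Subgroup.card_mul_index (Q.subgroupOf S)
    rw [hQi, Nat.card_congr (Subgroup.subgroupOfEquivOfLe hQS).toEquiv] at h5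
    have h7 : p ^ 6 ≤ p ^ 4 := by
      calc p ^ 6 ≤ Nat.card S := h6
        _ = Nat.card Q * p := h5.symm
        _ ≤ p * p * p * p := Nat.mul_le_mul_right _ h4
        _ = p ^ 4 := by ring
    have := (Nat.pow_le_pow_iff_right hpp.one_lt).mp h7
    omega
  -- the strongly embedded subgroup
  obtain ⟨-, -, hnorm, Y0, hY0⟩ := hE
  let π := QuotientGroup.mk' ((Cfsg.Inn E).subgroupOf (F.autGroup E))
  have hπ : Function.Injective π := by
    rw [← MonoidHom.ker_eq_bot_iff, QuotientGroup.ker_mk', Subgroup.eq_bot_iff_forall]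
    rintro a ⟨u, hu⟩
    refine Subtype.ext ?_
    show (a : MulAut E) = 1
    rw [show (a : MulAut E) = _ from hu.symm]
    exact MulEquiv.ext fun x => by simp [MulAut.conj_apply, hab u x]
  obtain ⟨T', hT'⟩ := (hKp.map π).exists_le_sylow
  obtain ⟨Y, hY, hYT⟩ := hY0.exists_sylow_normalizer_le T'
  have hK1 : K ≠ ⊥ := fun e => by rw [e, Subgroup.card_bot] at hKbig; have := hpp.one_lt; omega
  have hK1' : K.map π ≠ ⊥ := by rwa [Ne, Subgroup.map_eq_bot_iff_of_injective _ hπ]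
  have hKY : K.map π ≤ Y :=
    Subgroup.le_normalizer.trans ((Cfsg.normalizer_le_kGeneratedCore T'.2 hT' hK1').trans hYT)
  apply hY
  rw [eq_top_iff]
  intro y _
  obtain ⟨g, rfl⟩ := QuotientGroup.mk'_surjective _ y
  by_cases hgL : ∀ l ∈ LE, (g : MulAut E) l ∈ LE
  · refine hYT (Cfsg.normalizer_le_kGeneratedCore T'.2 hT' hK1' ?_)
    refine Subgroup.mem_normalizer_fintype ?_
    rintro _ ⟨u, hu, rfl⟩
    exact ⟨g * u * g⁻¹, hKnorm g hgL u hu, by simp [π]⟩
  push Not at hgL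
  obtain ⟨l, hl, hgl⟩ := hgL
  have hl1 : l ≠ 1 := fun e => hgl (by rw [e, map_one]; exact LE.one_mem)
  have hgen : ∀ {c : E}, c ∈ LE → c ≠ 1 → ∀ d ∈ LE, d ∈ Subgroup.zpowers c := by
    intro c hc hc1 d hd
    have h1 : Subgroup.zpowers (⟨c, hc⟩ : LE) = ⊤ := zpowers_eq_top_of_prime_card hLEcard (fun e => hc1 (congrArg Subtype.val e))
    obtain ⟨i, hi⟩ := (h1 ▸ Subgroup.mem_top (⟨d, hd⟩ : LE) : (⟨d, hd⟩ : LE) ∈ Subgroup.zpowers _)
    exact ⟨i, congrArg Subtype.val hi⟩
  -- `a` fixes `g L`, `g b g⁻¹` fixes `L`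
  have hfind : ∀ m : E, ∃ c ∈ K, c ≠ 1 ∧ (c : MulAut E) m = m := by
    intro m
    let f : ↥K → LE := fun a => ⟨m⁻¹ * ((a : F.autGroup E) : MulAut E) m, a.2.2 m⟩
    obtain ⟨a, b, hab', he⟩ : ∃ a b, a ≠ b ∧ f a = f b := by
      by_contra hh
      push Not at hh
      have := Nat.card_le_card_of_injective f fun a b e => by_contra fun h => hh a b h e
      omega
    refine ⟨(b : F.autGroup E)⁻¹ * a, K.mul_mem (K.inv_mem b.2) a.2,
      fun e => hab' (Subtype.ext (inv_mul_eq_one.mp e).symm), ?_⟩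
    show ((b : F.autGroup E) : MulAut E).symm (((a : F.autGroup E) : MulAut E) m) = m
    rw [mul_left_cancel (congrArg Subtype.val he), MulEquiv.symm_apply_apply]
  obtain ⟨a, ha, ha1, hafix⟩ := hfind ((g : MulAut E) l)
  obtain ⟨b, hb, hb1, hbfix⟩ := hfind ((g : MulAut E).symm l)
  set b' := g * b * g⁻¹ with hb'
  have hb'l : ∀ d ∈ LE, (b' : MulAut E) d = d := by
    intro d hd
    obtain ⟨i, rfl⟩ := hgen hl hl1 d hd
    rw [map_zpow]
    congr 1
    show (g : MulAut E) ((b : MulAut E) ((g : MulAut E).symm l)) = l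
    exact (congrArg _ hbfix).trans ((g : MulAut E).apply_symm_apply l)
  have hb'M : ∀ x : E, ∃ d ∈ LE, (b' : MulAut E) x = x * (g : MulAut E) d := by
    intro x
    refine ⟨_, hb.2 ((g : MulAut E).symm x), ?_⟩
    show (g : MulAut E) ((b : MulAut E) ((g : MulAut E).symm x)) = _
    rw [map_mul, map_inv, MulEquiv.apply_symm_apply, mul_inv_cancel_left]
  have haM : ∀ d ∈ LE, (a : MulAut E) ((g : MulAut E) d) = (g : MulAut E) d := by
    intro d hd
    obtain ⟨i, rfl⟩ := hgen hl hl1 d hd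
    rw [map_zpow, map_zpow, hafix]
  have hcomm : b' * a * b'⁻¹ = a := by
    rw [mul_inv_eq_iff_eq_mul]
    refine Subtype.ext (MulEquiv.ext fun x => ?_)
    show (b' : MulAut E) ((a : MulAut E) x) = (a : MulAut E) ((b' : MulAut E) x)
    obtain ⟨d, hd, hdx⟩ := hb'M x
    have e : (a : MulAut E) x = x * (x⁻¹ * (a : MulAut E) x) := by group
    rw [hdx, map_mul, haM d hd, e, map_mul, hb'l _ (ha.2 x), hdx, mul_assoc, mul_assoc,
      hab ((g : MulAut E) d)]
  have hKY' : ∀ c ∈ K, π c ∈ Y := fun c hc => hKY ⟨c, hc, rfl⟩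
  have hb'Y : π b' ∈ Y := by
    refine Cfsg.mem_of_conj_le_of_kGeneratedCore_le (Z := Subgroup.zpowers (π a)) T' hYT
      (T'.2.to_le (Subgroup.zpowers_le.mpr (hT' ⟨a, ha, rfl⟩))) ?_ (Subgroup.zpowers_le.mpr (hKY' a ha)) ?_
    · rw [Ne, Subgroup.zpowers_eq_bot, map_eq_one_iff π hπ]; exact ha1
    · rintro z ⟨k, rfl⟩
      show π b' * π a ^ k * (π b')⁻¹ ∈ Y
      rw [← conj_zpow, ← map_inv, ← map_mul, ← map_mul, hcomm]
      exact Y.zpow_mem (hKY' a ha) k
  refine Cfsg.mem_of_conj_le_of_kGeneratedCore_le (Z := Subgroup.zpowers (π b)) T' hYT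
    (T'.2.to_le (Subgroup.zpowers_le.mpr (hT' ⟨b, hb, rfl⟩))) ?_ (Subgroup.zpowers_le.mpr (hKY' b hb)) ?_
  · rw [Ne, Subgroup.zpowers_eq_bot, map_eq_one_iff π hπ]; exact hb1
  · rintro z ⟨k, rfl⟩
    show π g * π b ^ k * (π g)⁻¹ ∈ Y
    rw [← conj_zpow, ← map_inv, ← map_mul, ← map_mul]
    exact Y.zpow_mem hb'Y k

end Cfsg.Agent.S5179
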