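import Cfsg.Statements.S5182
import Cfsg.Agent.Lib.SectThree.From
import Cfsg.Agent.Lib.Fusion.RankThreePearl.Main

set_option autoImplicit false
universe u
open Cfsg

namespace Cfsg.Agent.S5182

/-- Let p ≥ 5 be a prime, S a finite p-group of sectional p-rank exactly 3, and F a saturated fusion system over S whose largest subgroup normal in F is trivial. Then F has an essential subgroup that is either elementary abelian of order p² or extraspecial of order p³ and exponent p. -/
theorem result {Ω : Type u} [Group Ω] {S : Subgroup Ω} [Finite S] (p : ℕ) [Fact p.Prime] (hp : 5 ≤ p) (hS : IsPGroup p S) (hsr : Cfsg.SectionalPRankLE p 3 ↥S ∧ ¬ Cfsg.SectionalPRankLE p 2 ↥S)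
    (F : Cfsg.FusionSystem S) (hF : F.IsSaturated p) (hO : F.core = ⊥) :
    ∃ E : Subgroup Ω, (F.IsEssential p E ∧ ((Cfsg.IsElementaryAbelian p E ∧ Nat.card E = p ^ 2) ∨
        (Cfsg.IsExtraspecial p ↥E ∧ Nat.card E = p ^ 3 ∧ ∀ x ∈ E, x ^ p = 1))) := by
  by_cases hn : ∀ E : Subgroup Ω, F.IsEssential p E → S ≤ Subgroup.normalizer (E : Set Ω)
  · -- all essential subgroups are normal
    obtain ⟨D, hD⟩ := CfsgLib.SectThree.exists_sys (F := F) (by omega) hS hsr hF hO hn
    obtain ⟨E, y, hT⟩ := D.exists_tv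
    obtain ⟨k⟩ := hT.exists_keyData
    obtain ⟨K₀, hK₀, ⟨e⟩⟩ := hD E k.hE
    haveI : Finite (K₀.map S.subtype) := Cfsg.FusionSystem.finite_of_le (Subgroup.map_subtype_le K₀)
    have hcard : Nat.card (K₀.map S.subtype) = p ^ 3 := by
      rw [← Nat.card_congr (K₀.equivMapOfInjective S.subtype S.subtype_injective).toEquiv, Nat.card_congr e.toEquiv]
      have h := E.card_mul_index
      rw [D.idx E k.hE, k.card_P, pow_succ] at h
      exact Nat.eq_of_mul_eq_mul_right (Fact.out : p.Prime).pos h
    refine ⟨_, hK₀, Or.inr ?_⟩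
    have hab : ¬ ∀ a b : K₀.map S.subtype, a * b = b * a := by
      intro hab
      refine k.z_ne ?_
      let e' : K₀.map S.subtype ≃* E := (K₀.equivMapOfInjective S.subtype S.subtype_injective).symm.trans e
      have h1 : k.c * k.d = k.d * k.c := by
        have := congrArg e' (hab (e'.symm ⟨k.c, k.cE⟩) (e'.symm ⟨k.d, k.dE⟩))
        rw [map_mul, map_mul, e'.apply_symm_apply, e'.apply_symm_apply] at this
        exact congrArg Subtype.val this
      have h2 := k.cd
      rw [h1, mul_inv_cancel_right] at h2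
      exact mul_eq_right.mp h2.symm
    refine ⟨(Cfsg.EssentialSmall.extraspecial_cube hcard hab).1, hcard, fun x hx => ?_⟩
    exact congrArg Subtype.val (Cfsg.EssentialSmall.exponent_cube hS hF hK₀ hcard hab (by omega) ⟨x, hx⟩)
  · push Not at hn
    obtain ⟨E, hE, hEn⟩ := hn
    exact ⟨E, hE, CfsgLib.RankThreePearl.pearl_of_not_normal hp hS hsr.1 hF hE hEn⟩

end Cfsg.Agent.S5182
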