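import Cfsg.Statements.S5186
import Cfsg.Agent.Lib.Fusion.EssentialSmall.Cube
-- import your own Cfsg.Agent.* helpers here

set_option autoImplicit false
universe u
open Cfsg

namespace Cfsg.Agent.S5186

/-- Let F be a saturated fusion system over a finite p-group S and H an essential subgroup of order p³. Then H is elementary abelian, or p is odd and H is extraspecial of exponent p, or p = 2 and H is the quaternion group of order 8. -/
theorem result {Ω : Type u} [Group Ω] {S : Subgroup Ω} [Finite S] (p : ℕ) [Fact p.Prime] (hS : IsPGroup p S)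
    (F : Cfsg.FusionSystem S) (hF : F.IsSaturated p) (H : Subgroup Ω) (hH : F.IsEssential p H) (hcard : Nat.card H = p ^ 3) :
    Cfsg.IsElementaryAbelian p H ∨ (Odd p ∧ Cfsg.IsExtraspecial p ↥H ∧ ∀ x ∈ H, x ^ p = 1) ∨
      (p = 2 ∧ Nonempty (↥H ≃* QuaternionGroup 2)) := by
  haveI : Finite H := Cfsg.FusionSystem.finite_of_le hH.1.1
  have hpp : p.Prime := Fact.out
  by_cases hab : ∀ a b : H, a * b = b * a
  · refine Or.inl ⟨⟨⟨hab⟩⟩, fun a ha => ?_⟩
    by_cases hbot : Cfsg.EssentialSmall.agemo p H hab = ⊥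
    · have h1 : (⟨a, ha⟩ : H) ^ p ∈ Cfsg.EssentialSmall.agemo p H hab := Cfsg.EssentialSmall.pow_mem_agemo _
      rw [hbot, Subgroup.mem_bot] at h1
      exact congrArg Subtype.val h1
    exfalso
    set A := Cfsg.EssentialSmall.agemo p H hab with hA
    obtain ⟨i, hi, e⟩ := (Nat.dvd_prime_pow hpp).mp (hcard ▸ A.index_dvd_card)
    have hi2 : i ≤ 2 := by
      by_contra hh
      obtain rfl : i = 3 := by omega
      refine hbot (Subgroup.eq_bot_of_card_eq _ ?_)
      have h := A.card_mul_index
      rw [e, hcard] at h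
      exact Nat.eq_of_mul_eq_mul_right (pow_pos hpp.pos 3) (h.trans (one_mul _).symm)
    have h2 := Cfsg.EssentialSmall.index_agemo hS hF hH hab (e ▸ Nat.pow_le_pow_right hpp.pos hi2)
    obtain ⟨k, -, -, -, ⟨eq⟩⟩ := Cfsg.EssentialSmall.homocyclic hS hF hH h2
    have hc := Nat.card_congr eq.toEquiv
    rw [hcard, Nat.card_congr Multiplicative.toAdd, Nat.card_prod, Nat.card_zmod, ← pow_add] at hc
    have := Nat.pow_right_injective hpp.two_le hc
    omega
  · rcases hpp.eq_two_or_odd' with rfl | hodd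
    · exact Or.inr (Or.inr ⟨rfl, Cfsg.EssentialSmall.quaternion_cube hS hF hH hcard hab⟩)
    · refine Or.inr (Or.inl ⟨hodd, (Cfsg.EssentialSmall.extraspecial_cube hcard hab).1, fun x hx => ?_⟩)
      have hp2 : p ≠ 2 := by rintro rfl; exact absurd hodd (by decide)
      exact congrArg Subtype.val (Cfsg.EssentialSmall.exponent_cube hS hF hH hcard hab hp2 ⟨x, hx⟩)

end Cfsg.Agent.S5186
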