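import Cfsg.Statements.S5187
import Cfsg.Agent.Lib.Fusion.EssentialSmall.SLTwo
-- import your own Cfsg.Agent.* helpers here

set_option autoImplicit false
universe u
open Cfsg

namespace Cfsg.Agent.S5187

/-- Let F be a saturated fusion system over a finite p-group S and H an abelian essential subgroup that can be generated by two elements (its Frattini quotient has order at most p²). Then H is elementary abelian of order p², or p ≤ 3 and H is homocyclic of rank two, that is isomorphic to C_{pᵏ} × C_{pᵏ} for some k. -/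
theorem result {Ω : Type u} [Group Ω] {S : Subgroup Ω} [Finite S] (p : ℕ) [Fact p.Prime] (hS : IsPGroup p S)
    (F : Cfsg.FusionSystem S) (hF : F.IsSaturated p) (H : Subgroup Ω) (hH : F.IsEssential p H) (hab : IsMulCommutative ↥H) (hrk : (frattini ↥H).index ≤ p ^ 2) :
    (Cfsg.IsElementaryAbelian p H ∧ Nat.card H = p ^ 2) ∨
      (p ≤ 3 ∧ ∃ k : ℕ, Nonempty (↥H ≃* Multiplicative (ZMod (p ^ k) × ZMod (p ^ k)))) := by
  haveI : Finite H := Cfsg.FusionSystem.finite_of_le hH.1.1
  have hab' : ∀ a b : H, a * b = b * a := fun a b => hab.is_comm.comm a b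
  have h2 := Cfsg.EssentialSmall.index_agemo_of_frattini hS hF hH hab' hrk
  obtain ⟨a, ha1, ha, hmem, ⟨e⟩⟩ := Cfsg.EssentialSmall.homocyclic hS hF hH h2
  by_cases hp5 : 5 ≤ p
  · have ha' : a = 1 := le_antisymm (Cfsg.EssentialSmall.exponent_eq_one_of_five_le hS hF hH h2 hp5 hmem) ha1
    subst ha'
    refine Or.inl ⟨⟨hab, fun x hx => ?_⟩, ?_⟩
    · simpa using congrArg Subtype.val (ha ⟨x, hx⟩)
    · rw [Nat.card_congr e.toEquiv, Nat.card_congr Multiplicative.toAdd, Nat.card_prod, Nat.card_zmod, pow_one, pow_two]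
  · refine Or.inr ⟨?_, a, ⟨e⟩⟩
    have hpp : p.Prime := Fact.out
    by_contra hh
    have h4 : p = 4 := by omega
    rw [h4] at hpp
    exact absurd hpp (by norm_num)

end Cfsg.Agent.S5187
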