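import Cfsg.Statements.S5190
import Cfsg.Agent.Lib.Stellmacher.Fusion
import Cfsg.Agent.Lib.Fusion.ZJFree
-- import your own Cfsg.Agent.* helpers here

set_option autoImplicit false
universe u
open Cfsg

namespace Cfsg.Agent.S5190

/-- Let F be a saturated fusion system over a nontrivial finite p-group S that is Qd(p)-free: no model of the normalizer system of a fully normalized centric subgroup has a section isomorphic to Qd(p), the semidirect product of an elementary abelian group of order p² by SL(2,p) acting naturally. Then some nontrivial characteristic subgroup of S is normal in F. -/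
theorem result {Ω : Type u} [Group Ω] {S : Subgroup Ω} [Finite S] (p : ℕ) [Fact p.Prime] (hS : IsPGroup p S) (hS1 : S ≠ ⊥)
    (F : Cfsg.FusionSystem S) (hF : F.IsSaturated p)
    (hfree : ∀ Q : Subgroup Ω, F.IsCentric Q → F.IsFullyNormalized Q →
      ∀ E : Cfsg.FusionSystem (Cfsg.FusionSystem.normalizerIn S Q), F.IsNormalizerSystem Q E →
        ∀ (G : Type u) (_ : Group G) (ι : ↥(Cfsg.FusionSystem.normalizerIn S Q) →* G),
          E.IsModel p G ι → ¬ Cfsg.Involves ↥(Cfsg.qd p) G) :
    ∃ W : Subgroup Ω, W ≤ S ∧ W ≠ ⊥ ∧ (W.subgroupOf S).Characteristic ∧ F.IsNormal W := by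
  have hnot := (hF.isSectionFree_qd_iff hS).mp fun R hfn hc N hN L _ ι hL hi =>
    hfree R hc hfn N hN L _ ι hL hi
  by_cases hp : p = 2
  · subst hp
    obtain ⟨h1, h2, h3⟩ := CfsgLib.Stellmacher.functorOn_basic _ CfsgLib.Stellmacher.wFun_ne_bot'
      CfsgLib.Stellmacher.wFun_map' hS hS1
    exact ⟨_, h1, h2, h3, CfsgLib.Stellmacher.isNormal_wFun hF hS hnot⟩
  · obtain ⟨h1, h2, h3⟩ := CfsgLib.Stellmacher.functorOn_basic Cfsg.FusionSystem.zjFunctor
      (fun Q _ _ => Cfsg.FusionSystem.zjFunctor_ne_bot (p := p) Q)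
      (fun Q R _ _ _ _ => Cfsg.FusionSystem.zjFunctor_map Q R) hS hS1
    refine ⟨_, h1, h2, h3, ?_⟩
    rw [Cfsg.FusionSystem.functorOn_zjFunctor]
    exact hF.isNormal_zj hp hS hnot

end Cfsg.Agent.S5190
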