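import Cfsg.Statements.S5191
import Cfsg.Agent.Lib.Fusion.Group
-- import your own Cfsg.Agent.* helpers here

set_option autoImplicit false
open Cfsg

namespace Cfsg.Agent.S5191

/-- Fusion in a finite group G and in its quotient by O_{p'}(G) agree. Let S be a Sylow p-subgroup of G, N = O_{p'}(G) and P ≤ S. If an element of G/N conjugates the image of P into the image of S, then some element g of G conjugates P into S and induces the same map on P modulo N. (Together with the injectivity of S → G/N this says that g ↦ gN induces an isomorphism of the fusion system of G on S with that of G/N on SN/N.) -/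
theorem result {G : Type*} [Group G] [Finite G] {p : ℕ} [Fact p.Prime]
    [hN : (Cfsg.pPrimeCore p G).Normal] (S : Sylow p G) (P : Subgroup G) (hP : P ≤ (S : Subgroup G))
    (γ : G ⧸ Cfsg.pPrimeCore p G)
    (hγ : ∀ x ∈ P, γ * QuotientGroup.mk x * γ⁻¹ ∈ ((S : Subgroup G).map (QuotientGroup.mk' (Cfsg.pPrimeCore p G)))) :
    ∃ g : G, ∀ x ∈ P, g * x * g⁻¹ ∈ S ∧
      (QuotientGroup.mk (g * x * g⁻¹) : G ⧸ Cfsg.pPrimeCore p G) = γ * QuotientGroup.mk x * γ⁻¹ := by
  classical
  obtain ⟨g0, rfl⟩ := QuotientGroup.mk_surjective γ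
  set N := Cfsg.pPrimeCore p G with hNdef
  have hSyl : Cfsg.FusionSystem.IsSylowIn p (S : Subgroup G) ((S : Subgroup G) ⊔ N) :=
    ⟨le_sup_left, S.2, fun h => S.not_dvd_index (h.trans (Subgroup.relIndex_dvd_index_of_le le_sup_left))⟩
  have hle : P.map (MulAut.conj g0).toMonoidHom ≤ (S : Subgroup G) ⊔ N := by
    rintro _ ⟨x, hx, rfl⟩
    obtain ⟨s, hs, e⟩ := hγ x hx
    have hm : s⁻¹ * (g0 * x * g0⁻¹) ∈ N := QuotientGroup.eq.mp (e.trans rfl)
    show g0 * x * g0⁻¹ ∈ _
    rw [show g0 * x * g0⁻¹ = s * (s⁻¹ * (g0 * x * g0⁻¹)) by group]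
    exact Subgroup.mul_mem_sup hs hm
  obtain ⟨b, hb, hbS⟩ := hSyl.exists_conj_le ((S.2.to_le hP).map _) hle
  obtain ⟨s, hs, n, hn, rfl⟩ := Subgroup.mem_sup_of_normal_right.mp hb
  refine ⟨n * g0, fun x hx => ⟨?_, ?_⟩⟩
  · have h1 := hbS _ (Subgroup.mem_map_of_mem _ hx)
    have h2 := (S : Subgroup G).mul_mem ((S : Subgroup G).mul_mem ((S : Subgroup G).inv_mem hs) h1) hs
    rw [show n * g0 * x * (n * g0)⁻¹ = s⁻¹ * (s * n * (MulAut.conj g0).toMonoidHom x * (s * n)⁻¹) * s by
      rw [MulEquiv.coe_toMonoidHom, MulAut.conj_apply]; group]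
    exact h2
  · have h1 : (QuotientGroup.mk n : G ⧸ N) = 1 := (QuotientGroup.eq_one_iff n).mpr hn
    simp only [QuotientGroup.mk_mul, QuotientGroup.mk_inv, mul_inv_rev]
    rw [h1]
    group

end Cfsg.Agent.S5191
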