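import Cfsg.Statements.S5196
import Cfsg.Agent.Lib.Fusion.CenterLocal
-- import your own Cfsg.Agent.* helpers here

set_option autoImplicit false
universe u
open Cfsg

namespace Cfsg.Agent.S5196

/-- Let p be an odd prime and W a positive characteristic p-functor: W assigns to every finite p-group Q (in a fixed universe) a subgroup W(Q), nontrivial when Q is, carried to W(R) by every isomorphism Q ≅ R; assume also Z(Q) ≤ W(Q) for every finite p-group Q. Suppose W satisfies the local condition: for every finite group G with Sylow p-subgroup P, O_p(G) ∩ Z(G) = O_p(G) ∩ Z(N_G(W(P))). Then W controls weak closure of elements in every saturated fusion system F over a finite p-group S: the centre of the normalizer fusion system of W(S) in F equals the centre of F. (For p = 2 no functor satisfies the local condition, so p is taken odd.) -/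
theorem result {p : ℕ} [Fact p.Prime] (hp : p ≠ 2) (W : ∀ (Q : Type u) [Group Q], Subgroup Q) (hW1 : ∀ (Q : Type u) [Group Q] [Finite Q], IsPGroup p Q → Nontrivial Q → W Q ≠ ⊥) (hW2 : ∀ (Q R : Type u) [Group Q] [Group R] [Finite Q], IsPGroup p Q → ∀ φ : Q ≃* R, (W Q).map φ.toMonoidHom = W R) (hWZ : ∀ (Q : Type u) [Group Q] [Finite Q], IsPGroup p Q → Subgroup.center Q ≤ W Q) (hC : ∀ (G : Type u) [Group G] [Finite G] (P : Sylow p G), Cfsg.pCore p G ⊓ Subgroup.center G = Cfsg.pCore p G ⊓ (Subgroup.center ↥(Subgroup.normalizer (((W ↥(P : Subgroup G)).map (P : Subgroup G).subtype : Subgroup G) : Set G))).map (Subgroup.normalizer (((W ↥(P : Subgroup G)).map (P : Subgroup G).subtype : Subgroup G) : Set G)).subtype) {Ω : Type u} [Group Ω] {S : Subgroup Ω} [Finite S] (hS : IsPGroup p S) (F : Cfsg.FusionSystem S) (hF : F.IsSaturated p) (N : Cfsg.FusionSystem (Cfsg.FusionSystem.normalizerIn S ((W ↥S).map S.subtype))) (hN : F.IsNormalizerSystem ((W ↥S).map S.subtype) N) : N.center = F.center := by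
  open Cfsg Cfsg.FusionSystem in
  have hloc : LocalCenterControl p 0 False W := by
    intro L _ _ T z _ _ hzp hzT hzN l
    have hTN : (T : Subgroup L) ≤ Subgroup.normalizer (functorOn W (T : Subgroup L) : Set L) :=
      Subgroup.le_normalizer.trans (normalizer_le_normalizer_functorOn W hW2 T.2)
    have hzC : (⟨z, hTN (good_mem hzT).1⟩ : Subgroup.normalizer (functorOn W (T : Subgroup L) : Set L)) ∈
        Subgroup.center (Subgroup.normalizer (functorOn W (T : Subgroup L) : Set L)) :=
      Subgroup.mem_center_iff.mpr fun g => Subtype.ext (Subgroup.mem_centralizer_iff.mp hzN g g.2)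
    have h := (hC L T).ge ⟨hzp, _, hzC, rfl⟩
    exact Subgroup.mem_center_iff.mp h.2 l
  have hmain := hF.center_control W hW1 hW2 hloc hS (fun h => h.elim) hN
  haveI : Finite (normalizerIn S (functorOn W S)) := finite_normalizerIn
  refine le_antisymm (fun x hx => hmain.1 (Subgroup.mem_inf.mpr ⟨?_, hx⟩)) hmain.2
  have hWN : S ≤ Subgroup.normalizer (((W ↥S).map S.subtype : Subgroup Ω) : Set Ω) :=
    Subgroup.le_normalizer.trans (normalizer_le_normalizer_functorOn W hW2 hS)
  haveI : Finite (normalizerIn S ((W ↥S).map S.subtype)) := finite_normalizerIn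
  refine Subgroup.subset_closure ⟨x, ⟨normalizerIn_le ((isCentral_center N).1 hx), ?_⟩, by simp⟩
  exact Subgroup.centralizer_le (fun s hs => (⟨hs, hWN hs⟩ : s ∈ normalizerIn S (functorOn W S))) (mem_centralizer_of_mem_center hx)

end Cfsg.Agent.S5196
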