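import Cfsg.Statements.S5200
import Cfsg.Agent.Lib.Fusion.SubCent.Odd.Main

set_option autoImplicit false
open Cfsg
open scoped commutatorElement

namespace Cfsg.Agent.S5200

/-- Let F be a saturated fusion system over a finite p-group S and E a normal subsystem of F over T whose centralizer in S lies in T: every subgroup Y of C_S(T) such that E is contained in the centralizer fusion system of Y in F satisfies Y ≤ T. Then T·C_S(T)/T is abelian (the commutator subgroup of T·C_S(T) lies in T), and if p is odd then C_S(T) ≤ T. -/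
theorem result {Ω : Type*} [Group Ω] {S : Subgroup Ω} [Finite S] (p : ℕ) [Fact p.Prime] (hS : IsPGroup p S) (F : Cfsg.FusionSystem S) (hF : F.IsSaturated p) {T : Subgroup Ω} (E : Cfsg.FusionSystem T) (hE : E.IsNormalIn F p) (hCE : ∀ Y : Subgroup Ω, Y ≤ Cfsg.FusionSystem.centralizerIn S T → (∀ C : Cfsg.FusionSystem (Cfsg.FusionSystem.centralizerIn S Y), F.IsCentralizerSystem Y C → E.IsSubsystemOf C) → Y ≤ T) : ⁅T ⊔ Cfsg.FusionSystem.centralizerIn S T, T ⊔ Cfsg.FusionSystem.centralizerIn S T⁆ ≤ T ∧ (p ≠ 2 → Cfsg.FusionSystem.centralizerIn S T ≤ T) := by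
  open Cfsg.FusionSystem Cfsg.FusionSystem.SubCent in
  have hT := hE.1.2.2.2.1
  have hsub := hE.1.2.2.1
  have hcs : centSub E F ≤ T := by
    refine hCE _ centSub_le fun C hC P φ hφ => ?_
    rw [hC P]
    exact hom_le_centSub hS hE P hφ
  refine ⟨Subgroup.commutator_le.mpr fun a ha b hb => ?_, fun hp2 =>
    (Odd.centralizerIn_le_sup_centSub hp2 hS hE).trans (sup_le le_rfl hcs)⟩
  have hTn : centralizerIn S T ≤ Subgroup.normalizer (T : Set Ω) :=
    fun c hc => hT.le_normalizer hc.1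
  have hmem : ∀ x ∈ T ⊔ centralizerIn S T, ∃ t ∈ T, ∃ c ∈ centralizerIn S T, t * c = x := by
    intro x hx
    have hx' : x ∈ (↑(T ⊔ centralizerIn S T) : Set Ω) := hx
    rw [Subgroup.coe_mul_of_right_le_normalizer_left _ _ hTn] at hx'
    obtain ⟨t, ht, c, hc, rfl⟩ := hx'
    exact ⟨t, ht, c, hc, rfl⟩
  obtain ⟨t, ht, c, hc, rfl⟩ := hmem a ha
  obtain ⟨t', ht', c', hc', rfl⟩ := hmem b hb
  have hcc : c'⁻¹ * (c * c' * c⁻¹) ∈ T := by
    refine hcs (le_centSub ((Subgroup.closure_le _).mpr focalSet_subset) (hom_le_focal hS hE)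
      (Subgroup.subset_closure ⟨S, S, fun x => c * x * c⁻¹, c', ?_, hT.1, ?_, hc'.1, hc', rfl⟩))
    · exact isIso_conj_normalizer le_rfl hc.1 (Subgroup.le_normalizer hc.1)
    · intro u hu
      show c * u * c⁻¹ = u
      rw [← Subgroup.mem_centralizer_iff.mp hc.2 u hu, mul_inv_cancel_right]
  have h1 : c' * (c'⁻¹ * (c * c' * c⁻¹)) * c'⁻¹ ∈ T :=
    (Subgroup.mem_normalizer_iff.mp (hTn hc') _).mp hcc
  have e1 : Commute t c := Subgroup.mem_centralizer_iff.mp hc.2 t ht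
  have e2 : Commute t c' := Subgroup.mem_centralizer_iff.mp hc'.2 t ht
  have e3 : Commute t' c := Subgroup.mem_centralizer_iff.mp hc.2 t' ht'
  have e4 : Commute t' c' := Subgroup.mem_centralizer_iff.mp hc'.2 t' ht'
  have e : ⁅t * c, t' * c'⁆ = t * t' * t⁻¹ * t'⁻¹ * (c' * (c'⁻¹ * (c * c' * c⁻¹)) * c'⁻¹) := by
    rw [commutatorElement_def, mul_inv_rev, mul_inv_rev]
    calc t * c * (t' * c') * (c⁻¹ * t⁻¹) * (c'⁻¹ * t'⁻¹)
        = t * (c * t') * c' * c⁻¹ * (t⁻¹ * c'⁻¹) * t'⁻¹ := by group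
      _ = t * (t' * c) * c' * c⁻¹ * (c'⁻¹ * t⁻¹) * t'⁻¹ := by rw [e3.eq, e2.inv_inv.eq]
      _ = t * t' * ((c * c' * c⁻¹ * c'⁻¹) * (t⁻¹ * t'⁻¹)) := by group
      _ = t * t' * ((t⁻¹ * t'⁻¹) * (c * c' * c⁻¹ * c'⁻¹)) := by
        rw [((((e1.mul_right e2).mul_right e1.inv_right).mul_right e2.inv_right).inv_left.mul_left
          (((e3.mul_right e4).mul_right e3.inv_right).mul_right e4.inv_right).inv_left).eq]
      _ = _ := by group
  rw [e]
  exact T.mul_mem (T.mul_mem (T.mul_mem (T.mul_mem ht ht') (T.inv_mem ht)) (T.inv_mem ht')) h1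

end Cfsg.Agent.S5200
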