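import Cfsg.Statements.S5206
import Cfsg.Agent.Lib.Fusion.QdFree
import Cfsg.Agent.Lib.Fusion.Group
-- import your own Cfsg.Agent.* helpers here

set_option autoImplicit false
universe u
open Cfsg

namespace Cfsg.Agent.S5206

/-- Let p be an odd prime, G a finite group and P a Sylow p-subgroup of G. Then the fusion system of G on P is Qd(p)-free (Qd(p), the natural semidirect product of an elementary abelian group of order p² by SL₂(p), is not involved in any model of the normalizer system of a fully normalized centric subgroup) if and only if Qd(p) is not involved in G. -/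
theorem result {G : Type u} [Group G] [Finite G] {p : ℕ} [Fact p.Prime] (hp : p ≠ 2) (P : Sylow p G) : (Cfsg.groupFusionSystem (P : Subgroup G)).IsSectionFree p ↥(Cfsg.qd p) ↔ ¬ Cfsg.Involves ↥(Cfsg.qd p) G := by
  have hsat := Cfsg.FusionSystem.groupFusionSystem_isSaturated (p := p) P
  rw [hsat.isSectionFree_qd_iff P.2]
  have hι : (Cfsg.groupFusionSystem (P : Subgroup G)).IsRealizedBy (P : Subgroup G).subtype := by
    refine ⟨Subtype.val_injective, fun Q hQ φ hφ => ⟨?_, ?_⟩⟩
    · rintro ⟨-, -, g, hg⟩
      exact ⟨g, hg⟩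
    · rintro ⟨g, hg⟩
      exact ⟨hQ, hφ, g, hg⟩
  exact ⟨fun h hi => h (Cfsg.FusionSystem.QdWitness.of_involves hι (T := P) (by rw [Subgroup.range_subtype]) hi),
    fun h hw => h (hw.involves P.2 hι)⟩

end Cfsg.Agent.S5206
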