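import Cfsg.Statements.S5213
import Cfsg.Agent.Lib.RankTwoSylow.Fusion
import Cfsg.Agent.S1237

set_option autoImplicit false
open Cfsg

namespace Cfsg.Agent.S5213

/-- Let S be a finite 2-group of 2-rank 2 (it has an elementary abelian subgroup of order 4 and none of order 8) and F a saturated fusion system over S with trivial centre. Then S is dihedral, semidihedral, wreathed, homocyclic abelian (a direct product of cyclic groups of one common order), or isomorphic to a Sylow 2-subgroup of the projective special unitary group PSU₃(4) (realised over the field with 16 elements). -/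
theorem result {Ω : Type*} [Group Ω] {S : Subgroup Ω} [Finite S] (hS : IsPGroup 2 S) (F : Cfsg.FusionSystem S) (hF : F.IsSaturated 2) (hr : Cfsg.PRankAtLeast 2 2 ↥S ∧ ¬ Cfsg.PRankAtLeast 2 3 ↥S) (hZ : F.center = ⊥) {K : Type*} [Field K] [Fintype K] (hK : Fintype.card K = 16) : (∃ m : ℕ, Nonempty (↥S ≃* DihedralGroup m)) ∨ Cfsg.IsQuasiDihedral ↥S ∨ Cfsg.IsWreathed ↥S ∨ (∃ n k : ℕ, Nonempty (↥S ≃* Multiplicative (Fin k → ZMod (2 ^ n)))) ∨ ∃ T : Sylow 2 (Cfsg.PSU 3 K 4), Nonempty (↥S ≃* ↥(T : Subgroup (Cfsg.PSU 3 K 4))) := by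
  classical
  obtain ⟨⟨A, hA, hA2, hAc⟩, hr3⟩ := hr
  have hr2 : Cfsg.PRankLE 2 2 ↥S := by
    intro B hB hB2
    by_contra hlt
    push Not at hlt
    obtain ⟨k, hk⟩ := (hS.to_subgroup B).exists_card_eq
    refine hr3 ⟨B, hB, hB2, ?_⟩
    rw [hk] at hlt ⊢
    exact Nat.pow_le_pow_right (show 0 < 2 by norm_num) ((Nat.pow_lt_pow_iff_right (by norm_num)).mp hlt)
  have hr1 : ¬ Cfsg.PRankLE 2 1 ↥S := fun h => by
    have := hAc.trans (h A hA hA2)
    norm_num at this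
  obtain ⟨P⟩ : Nonempty (Sylow 2 (Cfsg.PSU 3 K 4)) := Sylow.nonempty
  rcases CfsgLib.RankTwoSylow.fusion_main hS hF hr2 hr1 hZ with (⟨m, -, hd⟩ | hq | hw) | ⟨φ, hφ⟩
  · exact Or.inl ⟨m, hd⟩
  · exact Or.inr (Or.inl hq)
  · exact Or.inr (Or.inr (Or.inl hw))
  · rcases Cfsg.Agent.S1237.result hS hr2 hr1 φ hφ hK P with ⟨n, -, ⟨e⟩⟩ | hP
    · exact Or.inr (Or.inr (Or.inr (Or.inl ⟨n, 2,
        ⟨e.trans (LinearEquiv.finTwoArrow (ZMod (2 ^ n)) (ZMod (2 ^ n))).symm.toAddEquiv.toMultiplicative⟩⟩)))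
    · exact Or.inr (Or.inr (Or.inr (Or.inr ⟨P, hP⟩)))

end Cfsg.Agent.S5213
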