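import Cfsg.Statements.S5214
import Cfsg.Agent.Lib.SuzukiTwo.Order
import Cfsg.Agent.Lib.Fusion.Normal
import Cfsg.Agent.Lib.Fusion.Systems
-- import your own Cfsg.Agent.* helpers here

set_option autoImplicit false
open Cfsg

namespace Cfsg.Agent.S5214

/-- Let S be a Suzuki 2-group (a finite nonabelian 2-group with more than one involution admitting a cyclic group of automorphisms permuting its involutions regularly). Then S is normal in every saturated fusion system over S (such a group is resistant). -/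
theorem result {Ω : Type*} [Group Ω] {S : Subgroup Ω} [Finite S] (hS : IsPGroup 2 S) (F : Cfsg.FusionSystem S) (hF : F.IsSaturated 2) (hsz : Cfsg.IsSuzukiTwoGroup ↥S) : F.IsNormal S := by
  obtain ⟨hfin, k, hyp, -, hne⟩ := CfsgLib.SuzukiTwo.exists_hyp hsz
  have hg := CfsgLib.SuzukiTwo.good (↥S) k hyp hne
  haveI : Fact (Nat.Prime 2) := ⟨Nat.prime_two⟩
  refine hF.isNormal_of_invariant hS fun E hE => ?_
  rcases hE with rfl | hE
  · refine ⟨le_rfl, fun α _ => ?_⟩
    rw [Subgroup.subgroupOf_self]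
    exact Subgroup.map_top_of_surjective _ α.surjective
  exfalso
  have hES : E < S := hE.lt hS hF
  haveI : Finite E := FusionSystem.finite_of_le hES.le
  haveI := FusionSystem.finite_autGroup (F := F) hES.le
  -- involutions and commutators of `S`
  have hinv : ∀ s ∈ S, s * s = 1 → ∀ t ∈ S, t * s = s * t := fun s hs hss t ht =>
    congrArg Subtype.val (hyp.comm (x := (⟨s, hs⟩ : S)) (Subtype.ext hss) ⟨t, ht⟩)
  have hcom : ∀ s ∈ S, ∀ t ∈ S, (s⁻¹ * (t * s * t⁻¹)) * (s⁻¹ * (t * s * t⁻¹)) = 1 := fun s hs t ht => by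
    have h1 := congrArg Subtype.val (hg.2 _ (hg.commutator_mem (⟨s, hs⟩⁻¹ : S) ⟨t, ht⟩))
    simp only [commutatorElement_def, Subgroup.coe_mul, Subgroup.coe_inv, inv_inv, OneMemClass.coe_one] at h1
    simp only [mul_assoc] at h1 ⊢
    exact h1
  have hOE : ∀ s ∈ S, s * s = 1 → s ∈ E := fun s hs hss => hE.1.centralizerIn_le_self
    ⟨hs, Subgroup.mem_centralizer_iff.mpr fun e he => hinv s hs hss e (hES.le he)⟩
  -- automorphisms trivial on involutions and modulo them
  let K : Subgroup (F.autGroup E) :=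
    { carrier := {a | (∀ x : E, x * x = 1 → (a : MulAut E) x = x) ∧
        ∀ x : E, (x⁻¹ * (a : MulAut E) x) * (x⁻¹ * (a : MulAut E) x) = 1}
      one_mem' := ⟨fun x _ => rfl, fun x => by simp⟩
      mul_mem' := fun {a b} ha hb => by
        refine ⟨fun x hx => ?_, fun x => ?_⟩
        · rw [Subgroup.coe_mul, MulAut.mul_apply, hb.1 x hx, ha.1 x hx]
        · rw [Subgroup.coe_mul, MulAut.mul_apply]
          set y := (b : MulAut E) x
          set z := x⁻¹ * y with hz
          have hz2 : z * z = 1 := hb.2 x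
          have e : x⁻¹ * (a : MulAut E) y = x⁻¹ * (a : MulAut E) x * z := by
            rw [show y = x * z by rw [hz, mul_inv_cancel_left], map_mul, ha.1 z hz2, mul_assoc]
          rw [e]
          have hc : Commute (x⁻¹ * (a : MulAut E) x) z := Subtype.ext
            (hinv z (hES.le z.2) (congrArg Subtype.val hz2) _ (hES.le (x⁻¹ * (a : MulAut E) x).2))
          rw [← pow_two, hc.mul_pow, pow_two, pow_two, ha.2 x, hz2, one_mul]
      inv_mem' := fun {a} ha => by
        refine ⟨fun x hx => ?_, fun x => ?_⟩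
        · conv_lhs => rw [← ha.1 x hx]
          rw [Subgroup.coe_inv, MulAut.inv_apply_self]
        · rw [Subgroup.coe_inv]
          set y := (a : MulAut E)⁻¹ x with hy
          have hxy : x = (a : MulAut E) y := (MulAut.apply_inv_self E _ x).symm
          have h2 := ha.2 y
          rw [← hxy] at h2
          have e : x⁻¹ * y = (y⁻¹ * x)⁻¹ := by group
          rw [e, ← mul_inv_rev, h2, inv_one] }
  haveI : K.Normal := ⟨fun a ha g => by
    refine ⟨fun x hx => ?_, fun x => ?_⟩
    · rw [Subgroup.coe_mul, Subgroup.coe_mul, Subgroup.coe_inv, MulAut.mul_apply, MulAut.mul_apply,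
        ha.1 ((g : MulAut E)⁻¹ x) (by rw [← map_mul, hx, map_one]), MulAut.apply_inv_self]
    · rw [Subgroup.coe_mul, Subgroup.coe_mul, Subgroup.coe_inv, MulAut.mul_apply, MulAut.mul_apply]
      set y := (g : MulAut E)⁻¹ x with hy
      have hxy : x = (g : MulAut E) y := (MulAut.apply_inv_self E _ x).symm
      rw [hxy, ← map_inv, ← map_mul, ← map_mul, ha.2 y, map_one]⟩
  have hK : IsPGroup 2 K := fun ⟨a, ha⟩ => ⟨1, by
    refine Subtype.ext (Subtype.ext (MulEquiv.ext fun x => ?_))
    show (((a ^ 2 ^ 1 : F.autGroup E) : MulAut E)) x = x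
    rw [pow_one, pow_two, Subgroup.coe_mul, MulAut.mul_apply]
    set y := (a : MulAut E) x
    rw [show y = x * (x⁻¹ * y) by rw [mul_inv_cancel_left], map_mul, ha.1 _ (ha.2 x)]
    show y * (x⁻¹ * y) = x
    have h1 := ha.2 x
    calc y * (x⁻¹ * y) = x * ((x⁻¹ * y) * (x⁻¹ * y)) := by group
      _ = x := by rw [h1, mul_one]⟩
  -- an element of the normalizer outside `E`
  obtain ⟨g, hgN, hgE⟩ := SetLike.exists_of_lt (FusionSystem.lt_normalizerIn hS hES)
  let c : F.autGroup E := ⟨E.normalizerMonoidHom ⟨g, hgN.2⟩, FusionSystem.autInducedBy_le_autGroup hES.le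
    (Cfsg.mem_autInducedBy_iff.mpr ⟨g, hgN.1, hgN.2, fun _ => rfl⟩)⟩
  have hcK : c ∈ K := by
    refine ⟨fun x hx => Subtype.ext ?_, fun x => Subtype.ext ?_⟩
    · show g * (x : Ω) * g⁻¹ = x
      rw [hinv x (hES.le x.2) (congrArg Subtype.val hx) g hgN.1, mul_inv_cancel_right]
    · show ((x : Ω)⁻¹ * (g * x * g⁻¹)) * ((x : Ω)⁻¹ * (g * x * g⁻¹)) = 1
      exact hcom x (hES.le x.2) g hgN.1
  have hrad := (hE.isRadical hS hF).2
  have hmem : (c : MulAut E) ∈ Inn E := by
    rw [← hrad]
    exact ⟨c, CfsgLib.le_pCore hK hcK, rfl⟩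
  rw [Cfsg.inn_eq_autInducedBy, Cfsg.mem_autInducedBy_iff] at hmem
  obtain ⟨e, he, -, hee⟩ := hmem
  refine hgE ?_
  have hcen : e⁻¹ * g ∈ FusionSystem.centralizerIn S E := by
    refine ⟨S.mul_mem (S.inv_mem (hES.le he)) hgN.1, Subgroup.mem_centralizer_iff.mpr fun x hx => ?_⟩
    have h1 : g * x * g⁻¹ = e * x * e⁻¹ := hee ⟨x, hx⟩
    calc x * (e⁻¹ * g) = e⁻¹ * (e * x * e⁻¹) * g := by group
      _ = e⁻¹ * (g * x * g⁻¹) * g := by rw [h1]
      _ = e⁻¹ * g * x := by group
  have h2 := E.mul_mem he (hE.1.centralizerIn_le_self hcen)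
  rwa [mul_inv_cancel_left] at h2

end Cfsg.Agent.S5214
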