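import Cfsg.Statements.S5215
import Cfsg.Agent.Lib.RankTwoSylow.Simple
import Cfsg.Agent.Lib.RankTwoSylow.SimpleRealize
import Cfsg.Agent.Lib.Fusion.RankTwoReal.ShapeDihedral
import Cfsg.Agent.Lib.Fusion.RankTwoReal.ShapeSemidihedral
import Cfsg.Agent.Lib.Fusion.RankTwoReal.ShapeWreathed
import Cfsg.Agent.S5248

set_option autoImplicit false
open Cfsg

namespace Cfsg.Agent.S5215

open Matrix Cfsg.FusionSystem Cfsg.FusionSystem.RankTwo DihedralGroup

universe u

variable {Ω : Type u} [Group Ω] {S : Subgroup Ω} [Finite S] {F : Cfsg.FusionSystem S}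

theorem dihedral_case (hS : IsPGroup 2 S) (k : ℕ) (e : S ≃* DihedralGroup (2 ^ (k + 2))) (hF : F.IsSimple 2)
    (hreal : F.IsRealizable 2) :
    ∃ (K : Type) (_ : Field K) (_ : Fintype K) (q : ℕ), Fintype.card K = q ∧ Odd q ∧ (q % 8 = 1 ∨ q % 8 = 7) ∧
      ∃ ι : ↥S →* ProjectiveSpecialLinearGroup (Fin 2) K, F.IsRealizedBy ι ∧
        ∃ T : Sylow 2 (ProjectiveSpecialLinearGroup (Fin 2) K),
          (T : Subgroup (ProjectiveSpecialLinearGroup (Fin 2) K)) = ι.range := by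
  classical
  haveI : Fact (Nat.Prime 3) := ⟨Nat.prime_three⟩
  haveI : Fact (Nat.Prime 2) := ⟨Nat.prime_two⟩
  have hm : 2 ^ (k + 2) = 2 * 2 ^ (k + 1) := pow_succ' 2 (k + 1)
  have hh : 0 < 2 ^ (k + 1) := by positivity
  have fr := (dihedral_iframe hm hh rfl).map e.symm
  have rig : ∀ i, IsRigid S (up ((kleinAt hm hh i).map e.symm.toMonoidHom)) := fun i =>
    isRigid_up_of_card hS (card_bound_map e.symm (card_mulAut_kleinAt hm hh rfl i))
  have hnot : ∀ i, ¬ ⊤ ≤ (kleinAt hm hh i).map e.symm.toMonoidHom ⊔ commutator S := fun i h =>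
    not_top_le_kleinAt_sup hm hh rfl i ((top_le_map_iff _ _).1 h)
  let K := GaloisField 3 (2 ^ (k + 1))
  haveI : Fintype K := Fintype.ofFinite K
  have hcard : Fintype.card K = 3 ^ 2 ^ (k + 1) := by
    rw [← Nat.card_eq_fintype_card]; exact GaloisField.card 3 (2 ^ (k + 1)) (by positivity)
  have hodd : Odd (Fintype.card K) := by rw [hcard]; exact Odd.pow (by decide)
  obtain ⟨o, ho, he⟩ := MetaType.nine_pow_sub_one (k + 1)
  have hsq : Fintype.card K ^ 2 - 1 = 2 ^ (k + 4) * o := by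
    rw [hcard, ← pow_mul, mul_comm (2 ^ (k + 1)) 2, pow_mul, show (3 : ℕ) ^ 2 = 9 by norm_num, he,
      Nat.add_sub_cancel]
  obtain ⟨T, n, hn, ⟨e'⟩⟩ := CfsgLib.PSLSylow.exists_dihedral (F := K) (Nat.odd_iff.1 hodd) (by
    rw [hsq, show k + 4 = 4 + k by omega, pow_add]
    exact (dvd_mul_right 16 _).mul_right o)
  have hF4 : 4 ≤ Nat.card K := by
    rw [Nat.card_eq_fintype_card, hcard]
    exact le_trans (by norm_num : 4 ≤ 3 ^ 2) (Nat.pow_le_pow_right (by norm_num)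
      (Nat.le_self_pow (by omega) 2))
  haveI := Matrix.ProjectiveSpecialLinearGroup.rank_two_simple (F := K) hF4
  haveI : NeZero n := ⟨by omega⟩
  have hG : Nat.card (ProjectiveSpecialLinearGroup (Fin 2) K) = 2 ^ (k + 3) * (Fintype.card K * o) := by
    have h := CfsgLib.SLCard.gcd_mul_card_PSL (F := K) (n := 2) (by norm_num)
    rw [CfsgLib.SLCard.card_SL_two, hsq, show Nat.gcd 2 (Fintype.card K - 1) = 2 by
      obtain ⟨t, ht⟩ := hodd; rw [ht]; simp] at h
    refine Nat.eq_of_mul_eq_mul_left two_pos (h.trans ?_); ring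
  have hc : Nat.card (↥(T : Subgroup (ProjectiveSpecialLinearGroup (Fin 2) K))) = 2 ^ (k + 3) := by
    rw [Sylow.card_eq_multiplicity, hG, MetaType.factorization_pow_mul (hodd.mul ho)]
  have hn' : n = 2 ^ (k + 2) := by
    rw [Nat.card_congr e'.toEquiv, DihedralGroup.nat_card, show k + 3 = (k + 2) + 1 by omega, pow_succ'] at hc
    omega
  subst hn'
  have h8 : 2 ^ 3 ≤ Nat.card S := by
    rw [Nat.card_congr e.toEquiv, DihedralGroup.nat_card, ← pow_succ']
    exact Nat.pow_le_pow_right two_pos (by omega)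
  obtain ⟨ι, hι⟩ := realizedBy_of_isSimple fr hS
    (isAdjustable_of_isRigid fr.isFrame.candA.le fr.isFrame.candB.le (rig 0)) (rig 1) (hnot 0) (hnot 1)
    (by omega) F hF hreal T (e.trans e'.symm) (no_index_two_of_simple (by
      rw [hG]
      have := Nat.pow_le_pow_right (show 2 > 0 by norm_num) (show 2 ≤ k + 3 by omega)
      have : 0 < Fintype.card K * o := Nat.mul_pos Fintype.card_pos ho.pos
      nlinarith))
  refine ⟨K, inferInstance, inferInstance, _, rfl, hodd, Or.inl ?_, ι, hι⟩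
  rw [hcard, pow_succ', pow_mul, show (3 : ℕ) ^ 2 = 9 by norm_num, Nat.pow_mod]
  simp

theorem psl_three_case {A cA B cB : Subgroup S} (fr : IFrame A cA B cB) (hS : IsPGroup 2 S)
    (adj : IsAdjustable S (up A) (up B) fr.isFrame.candA.le) (rig : IsRigid S (up B))
    (hA : ¬ ⊤ ≤ cA ⊔ commutator S) (hB : ¬ ⊤ ≤ cB ⊔ commutator S) (h4 : 4 ≤ Nat.card S)
    (hF : F.IsSimple 2) (hreal : F.IsRealizable 2) {q : ℕ} [Fact q.Prime] (hq : q % 2 = 1)
    (P : Sylow 2 (GL (Fin 2) (ZMod q))) (e : S ≃* (P : Subgroup (GL (Fin 2) (ZMod q)))) :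
    ∃ (K : Type) (_ : Field K) (_ : Fintype K) (q : ℕ), Fintype.card K = q ∧ Odd q ∧
      ∃ ι : ↥S →* ProjectiveSpecialLinearGroup (Fin 3) K, F.IsRealizedBy ι ∧
        ∃ T : Sylow 2 (ProjectiveSpecialLinearGroup (Fin 3) K),
          (T : Subgroup (ProjectiveSpecialLinearGroup (Fin 3) K)) = ι.range := by
  classical
  obtain ⟨U, ⟨e'⟩⟩ := CfsgLib.PSLThreeSylow.exists_sylow (F := ZMod q) (by rw [ZMod.card]; exact hq) P
  haveI := CfsgLib.SLPerfect.isSimpleGroup (F := ZMod q) (n := 3) le_rfl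
  obtain ⟨ι, hι⟩ := realizedBy_of_isSimple fr hS adj rig hA hB h4 F hF hreal U (e.trans e')
    (no_index_two_of_simple (by
      rw [Nat.card_congr (e.trans e').toEquiv] at h4
      exact lt_of_lt_of_le (show 2 < 4 by norm_num) (h4.trans (Nat.card_le_card_of_injective (fun x => (x : ProjectiveSpecialLinearGroup (Fin 3) (ZMod q))) Subtype.coe_injective))))
  exact ⟨ZMod q, inferInstance, inferInstance, q, ZMod.card q, Nat.odd_iff.2 hq, ι, hι⟩

/-- Let S be a finite 2-group of 2-rank 2 (an elementary abelian subgroup of order 4, none of order 8) and F a simple saturated fusion system over S. Then S is dihedral, semidihedral or wreathed, and F is the fusion system of the projective special linear group PSL₂(q) for some odd prime power q ≡ ±1 (mod 8) or of PSL₃(q) for some odd prime power q: it is realized by an injective homomorphism of S into that group whose image is a Sylow 2-subgroup. -/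
theorem result {Ω : Type*} [Group Ω] {S : Subgroup Ω} [Finite S] (hS : IsPGroup 2 S) (F : Cfsg.FusionSystem S) (hF : F.IsSaturated 2) (hr : Cfsg.PRankAtLeast 2 2 ↥S ∧ ¬ Cfsg.PRankAtLeast 2 3 ↥S) (hsimple : F.IsSimple 2) : ((∃ m : ℕ, Nonempty (↥S ≃* DihedralGroup m)) ∨ Cfsg.IsQuasiDihedral ↥S ∨ Cfsg.IsWreathed ↥S) ∧ ∃ (K : Type) (_ : Field K) (_ : Fintype K) (q : ℕ), Fintype.card K = q ∧ Odd q ∧ (((q % 8 = 1 ∨ q % 8 = 7) ∧ ∃ ι : ↥S →* Matrix.ProjectiveSpecialLinearGroup (Fin 2) K, F.IsRealizedBy ι ∧ ∃ T : Sylow 2 (Matrix.ProjectiveSpecialLinearGroup (Fin 2) K), (T : Subgroup (Matrix.ProjectiveSpecialLinearGroup (Fin 2) K)) = ι.range) ∨ (∃ ι : ↥S →* Matrix.ProjectiveSpecialLinearGroup (Fin 3) K, F.IsRealizedBy ι ∧ ∃ T : Sylow 2 (Matrix.ProjectiveSpecialLinearGroup (Fin 3) K), (T : Subgroup (Matrix.ProjectiveSpecialLinearGroup (Fin 3) K)) = ι.range)) := by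
  haveI : Fact (Nat.Prime 2) := ⟨Nat.prime_two⟩
  have h4 : 4 ≤ Nat.card S := by
    obtain ⟨A, -, -, hA⟩ := hr.1
    exact le_trans (by simpa using hA) A.card_le_card_group
  rcases CfsgLib.RankTwoSylow.shape_of_isSimple hS hsimple hr with ⟨m, hm, ⟨e⟩⟩ | hqd | hW
  · have hreal := (Cfsg.Agent.S5248.result hS F hF (Or.inl ⟨m, hm, ⟨e⟩⟩)).2
    haveI : NeZero m := ⟨by omega⟩
    refine ⟨Or.inl ⟨m, ⟨e⟩⟩, ?_⟩
    obtain ⟨j, rfl⟩ := exists_two_pow_of_card (c := 2) hS
      (by rw [Nat.card_congr e.toEquiv, DihedralGroup.nat_card])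
    obtain ⟨k, rfl⟩ : ∃ k, j = k + 2 := ⟨j - 2, by
      by_contra h
      rcases (show j = 0 ∨ j = 1 by omega) with rfl | rfl <;> norm_num at hm⟩
    obtain ⟨K, i₁, i₂, q, hq, hodd, h8, ι, hι⟩ := dihedral_case hS k e hsimple hreal
    exact ⟨K, i₁, i₂, q, hq, hodd, Or.inl ⟨h8, ι, hι⟩⟩
  · have hreal := (Cfsg.Agent.S5248.result hS F hF (Or.inr (Or.inr (Or.inl hqd)))).2
    refine ⟨Or.inr (Or.inl hqd), ?_⟩
    obtain ⟨V, Q, hV, ⟨eQ⟩, fr, bV, bQ, hgen, nV, nQ⟩ := semidihedral_iframe hqd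
    obtain ⟨q, hqp, hq, P, ⟨e⟩⟩ := exists_GL2_semidihedral hqd
    haveI := hqp
    obtain ⟨K, i₁, i₂, q', hq', hodd, h⟩ := psl_three_case fr hS
      (isAdjustable_of_isRigid fr.isFrame.candA.le fr.isFrame.candB.le (isRigid_up_of_card hS bV))
      (isRigid_up_of_card hS bQ) nV nQ h4 hsimple hreal (show q % 2 = 1 by omega) P e
    exact ⟨K, i₁, i₂, q', hq', hodd, Or.inr h⟩
  · have hreal := (Cfsg.Agent.S5248.result hS F hF (Or.inr (Or.inr (Or.inr hW)))).2
    refine ⟨Or.inr (Or.inr hW), ?_⟩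
    obtain ⟨n, hn2, -, d, hd⟩ := CfsgLib.Wr.exists_data hW
    have hn : 2 * d.h = 2 ^ n := by rw [hd, ← pow_succ']; congr 1; omega
    have hm : d.h = 2 * 2 ^ (n - 2) := by rw [hd, ← pow_succ']; congr 1; omega
    have hab : (d.h : ℤ) + 0 = d.h := add_zero _
    have fr := wreathed_iframe d hn hm
    obtain ⟨f, hM, hf, hcard⟩ := exists_center_hom d hn hm hab
    obtain ⟨q, hqp, hq, P, ⟨e⟩⟩ := exists_GL2_wreathed hW
    haveI := hqp
    obtain ⟨K, i₁, i₂, q', hq', hodd, h⟩ := psl_three_case fr hS (adjustable_wreathed d hn hm)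
      (isRigid_up_of_hom hS hM f hf hcard) (not_top_le_U_sup d) (not_top_le_Qs_sup d hn hm hab) h4 hsimple hreal
      (show q % 2 = 1 by omega) P e
    exact ⟨K, i₁, i₂, q', hq', hodd, Or.inr h⟩

end Cfsg.Agent.S5215
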