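import Cfsg.Statements.S5219
import Cfsg.Agent.Lib.Fusion.PowerCenter
-- import your own Cfsg.Agent.* helpers here

set_option autoImplicit false
open Cfsg

namespace Cfsg.Agent.S5219

open scoped commutatorElement in
theorem pow_mem_upperCentralSeries {X : Type*} [Group X] {q : ℕ}
    (hq : ∀ x ∈ Subgroup.center X, x ^ q = 1) :
    ∀ (i : ℕ) (x : X), x ∈ Subgroup.upperCentralSeries X (i + 1) → x ^ q ∈ Subgroup.upperCentralSeries X i := by
  intro i
  induction i with
  | zero =>
    intro x hx
    rw [Subgroup.upperCentralSeries_one] at hx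
    rw [Subgroup.upperCentralSeries_zero, Subgroup.mem_bot]
    exact hq x hx
  | succ i ih =>
    intro x hx
    rw [Subgroup.mem_upperCentralSeries_succ_iff]
    intro y
    let π := QuotientGroup.mk' (Subgroup.upperCentralSeries X i)
    have hc := Subgroup.mem_upperCentralSeries_succ_iff.mp hx y
    have hq' : π ⁅x, y⁆ ^ q = 1 := by
      rw [← map_pow]
      exact (QuotientGroup.eq_one_iff _).mpr (ih _ hc)
    have hcz : ∀ z, π ⁅x, y⁆ * z = z * π ⁅x, y⁆ := by
      intro z
      obtain ⟨w, rfl⟩ := QuotientGroup.mk'_surjective _ z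
      have h1 := (QuotientGroup.eq_one_iff (N := Subgroup.upperCentralSeries X i) _).mpr
        (Subgroup.mem_upperCentralSeries_succ_iff.mp hc w)
      have h2 : π ⁅⁅x, y⁆, w⁆ = 1 := h1
      rw [map_commutatorElement, commutatorElement_eq_one_iff_mul_comm] at h2
      exact h2
    have hk : ∀ k : ℕ, π x ^ k * π y * (π x ^ k)⁻¹ = π ⁅x, y⁆ ^ k * π y := by
      intro k
      induction k with
      | zero => simp
      | succ k ihk =>
        rw [pow_succ', mul_inv_rev,
          show π x * π x ^ k * π y * ((π x ^ k)⁻¹ * (π x)⁻¹) =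
            π x * (π x ^ k * π y * (π x ^ k)⁻¹) * (π x)⁻¹ by group, ihk]
        have hck : ∀ z, π ⁅x, y⁆ ^ k * z = z * π ⁅x, y⁆ ^ k := fun z => Commute.pow_left (hcz z) k
        have h3 : π x * π y * (π x)⁻¹ = π ⁅x, y⁆ * π y := by
          rw [map_commutatorElement, commutatorElement_def]
          group
        calc π x * (π ⁅x, y⁆ ^ k * π y) * (π x)⁻¹
            = π ⁅x, y⁆ ^ k * (π x * π y * (π x)⁻¹) := by
              rw [← mul_assoc (π x), ← hck (π x)]; group
          _ = π ⁅x, y⁆ ^ (k + 1) * π y := by rw [h3, ← mul_assoc, pow_succ]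
    have h := hk q
    rw [hq', one_mul] at h
    refine (QuotientGroup.eq_one_iff _).mp ?_
    show π ⁅x ^ q, y⁆ = 1
    rw [map_commutatorElement, map_pow, commutatorElement_def, h, mul_inv_cancel]

/-- Let p be a prime, n a natural number, S a nontrivial finite p-group of nilpotence class at most n(p−1)+1, and F a saturated fusion system over S with no nontrivial normal subgroup (O_p(F) = 1). Then S has exponent dividing p^(n²(p−1)+n). -/
theorem result {Ω : Type*} [Group Ω] {S : Subgroup Ω} [Finite S] (p : ℕ) [Fact p.Prime] (hS : IsPGroup p S) (F : Cfsg.FusionSystem S) (hF : F.IsSaturated p) (n : ℕ) (hS1 : S ≠ ⊥) (hcl : Subgroup.lowerCentralSeries S (n * (p - 1) + 1) = ⊥) (hcore : F.core = ⊥) : Monoid.exponent ↥S ∣ p ^ (n ^ 2 * (p - 1) + n) := by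
  have hW := hF.isNormal_powerClosure_center hS n hcl
  have hW1 : Cfsg.powerClosure p n (S ⊓ Subgroup.centralizer (S : Set Ω)) = ⊥ :=
    le_bot_iff.mp (hcore ▸ (le_sSup hW : _ ≤ F.core))
  have hq : ∀ x ∈ Subgroup.center S, x ^ p ^ n = 1 := by
    intro x hx
    have h1 : (x : Ω) ^ p ^ n ∈ Cfsg.powerClosure p n (S ⊓ Subgroup.centralizer (S : Set Ω)) :=
      Subgroup.subset_closure ⟨x, ⟨x.2, Subgroup.mem_centralizer_iff.mpr fun s hs =>
        congrArg Subtype.val (Subgroup.mem_center_iff.mp hx ⟨s, hs⟩)⟩, rfl⟩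
    rw [hW1, Subgroup.mem_bot] at h1
    exact Subtype.ext (by simpa using h1)
  have : Group.IsNilpotent S := hS.isNilpotent
  have hlc : Subgroup.lowerCentralSeries (⊤ : Subgroup S) (n * (p - 1) + 1) = ⊥ := by
    rw [← Subgroup.map_subtype_inj, Subgroup.map_bot, Subgroup.top_subtype_lowerCentralSeries, hcl]
  have htop : Subgroup.upperCentralSeries S (n * (p - 1) + 1) = ⊤ :=
    Subgroup.upperCentralSeries_eq_top_iff_nilpotencyClass_le.mpr
      (Subgroup.lowerCentralSeries_eq_bot_iff_nilpotencyClass_le.mp hlc)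
  have hpow : ∀ (i : ℕ) (x : S), x ∈ Subgroup.upperCentralSeries S i → x ^ p ^ (n * i) = 1 := by
    intro i
    induction i with
    | zero =>
      intro x hx
      rw [Subgroup.upperCentralSeries_zero, Subgroup.mem_bot] at hx
      simp [hx]
    | succ i ih =>
      intro x hx
      rw [Nat.mul_succ, add_comm, pow_add, pow_mul]
      exact ih _ (pow_mem_upperCentralSeries hq i x hx)
  rw [Monoid.exponent_dvd_iff_forall_pow_eq_one]
  intro x
  have h := hpow _ x (htop ▸ Subgroup.mem_top x)
  rw [show n ^ 2 * (p - 1) + n = n * (n * (p - 1) + 1) by ring]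
  exact h

end Cfsg.Agent.S5219
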