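import Cfsg.Statements.S5220
import Cfsg.Agent.Lib.Fusion.Factorization
-- import your own Cfsg.Agent.* helpers here

set_option autoImplicit false
open Cfsg

namespace Cfsg.Agent.S5220

/-- Let F be a saturated fusion system over a nontrivial finite p-group S, let J(S) be the subgroup generated by the abelian subgroups of S of largest order, and let V be the subgroup generated by the p-th powers of the elements of Z(S). Then F is generated by the centralizer fusion system of V and the normalizer fusion system of J(S): every fusion system over S containing the maps of both contains every map of F. -/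
theorem result {Ω : Type*} [Group Ω] {S : Subgroup Ω} [Finite S] (p : ℕ) [Fact p.Prime] (hS : IsPGroup p S) (F : Cfsg.FusionSystem S) (hF : F.IsSaturated p) (hS1 : S ≠ ⊥) (C : Cfsg.FusionSystem (Cfsg.FusionSystem.centralizerIn S (Cfsg.powerClosure p 1 (S ⊓ Subgroup.centralizer (S : Set Ω))))) (hC : F.IsCentralizerSystem (Cfsg.powerClosure p 1 (S ⊓ Subgroup.centralizer (S : Set Ω))) C) (N : Cfsg.FusionSystem (Cfsg.FusionSystem.normalizerIn S (Cfsg.thompsonSubgroupAOf S))) (hN : F.IsNormalizerSystem (Cfsg.thompsonSubgroupAOf S) N) (E : Cfsg.FusionSystem S) (hCE : C.IsSubsystemOf E) (hNE : N.IsSubsystemOf E) : F.IsSubsystemOf E := by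
  have hVS : ∀ v ∈ Cfsg.powerClosure p 1 (S ⊓ Subgroup.centralizer (S : Set Ω)), ∀ s ∈ S, s * v = v * s := fun v hv s hs =>
    Subgroup.mem_centralizer_iff.mp (Cfsg.FusionSystem.good_mem hv).2 s hs
  have hCS : S ≤ Cfsg.FusionSystem.centralizerIn S (Cfsg.powerClosure p 1 (S ⊓ Subgroup.centralizer (S : Set Ω))) := fun s hs =>
    ⟨hs, Subgroup.mem_centralizer_iff.mpr fun v hv => (hVS v hv s hs).symm⟩
  intro P φ hφ
  refine (Cfsg.FusionSystem.le_of_factors_aux p _ _ F E rfl rfl hF hS ?_ ?_) P hφ
  · intro Q ψ hψ hle hfix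
    refine hCE Q ?_
    rw [hC Q]
    refine ⟨hψ, fun x hx => hCS (F.source_le hψ hx), fun x => hCS (F.apply_mem hψ x),
      ψ.comp (Subgroup.inclusion (sup_le le_rfl hle)), F.restrict_mem hψ _, fun x => rfl, fun v => hfix v v.2⟩
  · intro Q ψ hψ h1 h2 h3
    exact hNE Q (hN.mem_of_normalizes hψ h1 h2 h3)

end Cfsg.Agent.S5220
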