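import Cfsg.Statements.S5222
import Cfsg.Agent.Lib.Fusion.TateInner
-- import your own Cfsg.Agent.* helpers here

set_option autoImplicit false
open Cfsg

namespace Cfsg.Agent.S5222

/-- Let F be a saturated fusion system over a finite p-group S whose normalizer fusion system of S is the inner fusion system of S (Aut_F(S) is a p-group). Then for every subgroup Q of S with [S, S] ≤ Q ≤ Φ(S), the normalizer fusion system of Q in F is the inner fusion system of N_S(Q) = S. -/
theorem result {Ω : Type*} [Group Ω] {S : Subgroup Ω} [Finite S] (p : ℕ) [Fact p.Prime] (hS : IsPGroup p S) (F : Cfsg.FusionSystem S) (hF : F.IsSaturated p) (hN : ∀ N : Cfsg.FusionSystem (Cfsg.FusionSystem.normalizerIn S S), F.IsNormalizerSystem S N → ∀ P : Subgroup Ω, N.Hom P = (Cfsg.innerFusionSystem (Cfsg.FusionSystem.normalizerIn S S)).Hom P) (Q : Subgroup Ω) (h1 : (commutator ↥S).map S.subtype ≤ Q) (h2 : Q ≤ (frattini ↥S).map S.subtype) : ∀ N : Cfsg.FusionSystem (Cfsg.FusionSystem.normalizerIn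 S Q), F.IsNormalizerSystem Q N → ∀ P : Subgroup Ω, N.Hom P = (Cfsg.innerFusionSystem (Cfsg.FusionSystem.normalizerIn S Q)).Hom P := by
  open Cfsg Cfsg.FusionSystem in
  open scoped commutatorElement in
  have hQS : Q ≤ S := h2.trans (Subgroup.map_subtype_le _)
  have hSQ : S ≤ Subgroup.normalizer (Q : Set Ω) := by
    intro s hs
    refine Subgroup.mem_normalizer_iff.mpr fun x => ⟨fun hx => ?_, fun hx => ?_⟩
    · have h3 : (⁅(⟨s, hs⟩ : S), (⟨x, hQS hx⟩ : S)⁆ : S) ∈ commutator S :=
        Subgroup.commutator_mem_commutator (Subgroup.mem_top _) (Subgroup.mem_top _)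
      have h4 := Q.mul_mem (h1 ⟨_, h3, rfl⟩) hx
      simpa [commutatorElement_def, mul_assoc] using h4
    · have h3 : (⁅(⟨s, hs⟩ : S)⁻¹, (⟨_, hQS hx⟩ : S)⁆ : S) ∈ commutator S :=
        Subgroup.commutator_mem_commutator (Subgroup.mem_top _) (Subgroup.mem_top _)
      have h4 := Q.mul_mem (h1 ⟨_, h3, rfl⟩) hx
      simpa [commutatorElement_def, mul_assoc] using h4
  have hT := normalizerIn_eq_of_le_normalizer hSQ
  have hTS := normalizerIn_eq_of_le_normalizer (S := S) (Q := S) Subgroup.le_normalizer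
  have hS' := F.normalizerSystem_isNormalizerSystem S le_rfl
  have hsin : ∀ φ ∈ F.Hom S, ∃ g ∈ S, ∀ x : S, φ x = g * (x : Ω) * g⁻¹ := by
    intro φ hφ
    have hle : S ⊔ S ≤ S := sup_le le_rfl le_rfl
    have hφ' : φ ∈ (F.normalizerSystem S le_rfl).Hom S := by
      refine ⟨hφ, hTS.ge, fun x => hTS.ge (F.apply_mem hφ x), φ.comp (Subgroup.inclusion hle),
        F.restrict_mem hφ hle, fun x => rfl, ?_⟩
      exact StronglyClosed.map_eq (F := F) ⟨le_rfl, fun R _ χ hχ x => F.apply_mem hχ x⟩ (F.restrict_mem hφ hle) le_sup_right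
    rw [hN _ hS' S] at hφ'
    obtain ⟨-, g, hg, hge⟩ := hφ'
    exact ⟨g, hg.1, hge⟩
  intro N hNQ P
  have hfn : F.IsFullyNormalized Q := isFullyNormalized_of_le_normalizer hQS hSQ
  have hsat : N.IsSaturated p := hF.isSaturated_normalizerSystem hS hfn hNQ
  suffices ∀ (T : Subgroup Ω), T = S → ∀ E : FusionSystem T, E.IsSaturated p → E.IsSubsystemOf F →
      E.IsNormal Q → E.IsInner from (this _ hT N hsat hNQ.subsystem (hNQ.isNormal hQS)).hom_eq P
  rintro T rfl E hE hEF hEQ
  exact hE.isInner_of_tate hS hEQ (fun φ hφ => hsin φ (hEF _ hφ)) h1 h2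

end Cfsg.Agent.S5222
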