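import Cfsg.Statements.S5223
import Cfsg.Agent.Lib.Fusion.Inner
-- import your own Cfsg.Agent.* helpers here

set_option autoImplicit false
open Cfsg

namespace Cfsg.Agent.S5223

/-- Let F be a saturated fusion system over a finite p-group S. Suppose there are subgroups Q₀ = S, Q₁, …, Qₙ = 1 (not required to be nested) such that for each i < n the focal subgroup of Qᵢ (generated by the elements x⁻¹φ(x), x ∈ Qᵢ, φ a map of F defined on the cyclic group generated by x) lies in Qᵢ₊₁. Then F is the inner fusion system of S. -/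
theorem result {Ω : Type*} [Group Ω] {S : Subgroup Ω} [Finite S] (p : ℕ) [Fact p.Prime] (hS : IsPGroup p S) (F : Cfsg.FusionSystem S) (hF : F.IsSaturated p) (n : ℕ) (Q : Fin (n + 1) → Subgroup Ω) (hQ0 : Q 0 = S) (hQn : Q (Fin.last n) = ⊥) (hstep : ∀ i : Fin n, Subgroup.closure {y : Ω | ∃ x ∈ Q i.castSucc, ∃ φ ∈ F.Hom (Subgroup.zpowers x), y = x⁻¹ * φ ⟨x, Subgroup.mem_zpowers x⟩} ≤ Q i.succ) : ∀ P : Subgroup Ω, F.Hom P = (Cfsg.innerFusionSystem S).Hom P := by
  refine hF.eq_inner_of_isPGroup hS fun P hP => ?_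
  have := Cfsg.FusionSystem.finite_of_le hP
  refine Cfsg.isPGroup_of_stabilises (hS.to_le hP) (fun j => (Q j.rev).subgroupOf P) ?_ ?_ _ ?_
  · show (Q (Fin.rev 0)).subgroupOf P = ⊥
    rw [Fin.rev_zero, hQn, Subgroup.bot_subgroupOf]
  · show (Q (Fin.rev (Fin.last n))).subgroupOf P = ⊤
    rw [Fin.rev_last, hQ0, Subgroup.subgroupOf_eq_top.mpr hP]
  intro α hα i x hx
  obtain ⟨φ, hφ, -, he⟩ := F.exists_map_of_mem_autGroup hP hα
  show ((x⁻¹ * α x : P) : Ω) ∈ Q i.castSucc.rev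
  rw [Fin.rev_castSucc]
  refine hstep i.rev (Subgroup.subset_closure ⟨x, ?_, _,
    F.restrict_mem hφ (Subgroup.zpowers_le.mpr x.2), ?_⟩)
  · rw [← Fin.rev_succ]
    exact hx
  · show ((x⁻¹ * α x : P) : Ω) = (x : Ω)⁻¹ * φ x
    rw [he]
    rfl

end Cfsg.Agent.S5223
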