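import Cfsg.Statements.S5226
import Cfsg.Agent.Lib.Fusion.Series
-- import your own Cfsg.Agent.* helpers here

set_option autoImplicit false
open Cfsg

namespace Cfsg.Agent.S5226

/-- Let F be a saturated fusion system over a finite p-group S and Q a subgroup of S. Then Q is normal in F (F equals the normalizer system of Q) if and only if Q is strongly closed in F and admits a central series 1 = Q₀ ≤ Q₁ ≤ ⋯ ≤ Qₙ = Q ([Qᵢ₊₁, Q] ≤ Qᵢ) all of whose proper terms are weakly closed in F. -/
theorem result {Ω : Type*} [Group Ω] {S : Subgroup Ω} [Finite S] (p : ℕ) [Fact p.Prime] (hS : IsPGroup p S) (F : Cfsg.FusionSystem S) (hF : F.IsSaturated p) (Q : Subgroup Ω) : F.IsNormal Q ↔ F.StronglyClosed Q ∧ ∃ (n : ℕ) (C : Fin (n + 1) → Subgroup Ω), C 0 = ⊥ ∧ C (Fin.last n) = Q ∧ Monotone C ∧ (∀ i : Fin n, ⁅C i.succ, Q⁆ ≤ C i.castSucc) ∧ ∀ i : Fin n, F.WeaklyClosed (C i.castSucc) := by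
  constructor
  · intro hQ
    have hQS := hQ.1
    refine ⟨hQ.stronglyClosed, ?_⟩
    have := Cfsg.FusionSystem.finite_of_le hQS
    have : Group.IsNilpotent Q := (hS.to_le hQS).isNilpotent
    obtain ⟨n, hn⟩ := Group.IsNilpotent.nilpotent Q
    refine ⟨n, fun i => (Subgroup.upperCentralSeries Q i).map Q.subtype, ?_, ?_, ?_, fun i => ?_, fun i => ?_⟩
    · simp
    · simp [hn, ← MonoidHom.range_eq_map]
    · intro i j hij
      exact Subgroup.map_mono (Subgroup.upperCentralSeries_mono _ hij)
    · refine Subgroup.commutator_le.mpr fun a ha b hb => ?_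
      obtain ⟨y, hy, rfl⟩ := ha
      exact ⟨_, (Subgroup.mem_upperCentralSeries_succ_iff.mp hy) ⟨b, hb⟩, by simp [commutatorElement_def, mul_assoc]⟩
    · refine Cfsg.FusionSystem.StronglyClosed.weaklyClosed ?_
      refine (hQ.of_characteristic (Subgroup.map_subtype_le _) ?_).stronglyClosed
      rw [Subgroup.subgroupOf, Subgroup.comap_map_eq_self_of_injective Q.subtype_injective]
      infer_instance
  rintro ⟨hsc, n, C, h0, hlast, hmono, hstep, hw⟩
  have hQn := hsc.le_normalizer
  refine hF.isNormal_of_invariant hS fun P hP => ?_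
  rcases hP with rfl | hP
  · exact ⟨hsc.1, fun α hα => Cfsg.FusionSystem.autGroup_map_subgroupOf_le hα hsc.1 le_rfl hsc⟩
  have hc := hP.1
  have hr := hP.isRadical hS hF
  have hPS : P ≤ S := hc.1
  suffices hQP : ∀ i, C i ≤ P from
    ⟨hlast ▸ hQP _, fun α hα => Cfsg.FusionSystem.autGroup_map_subgroupOf_le hα (hlast ▸ hQP _) hPS hsc⟩
  intro i
  induction i using Fin.induction with
  | zero => rw [h0]; exact bot_le
  | succ i ih =>
    by_contra hne
    have hCQ : C i.succ ≤ Q := hlast ▸ hmono (Fin.le_last _)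
    have hCn : S ≤ Subgroup.normalizer (C i.succ : Set Ω) := by
      rcases eq_or_ne i.succ (Fin.last n) with e | e
      · rw [e, hlast]
        exact hQn
      · obtain ⟨j, hj⟩ := Fin.exists_castSucc_eq.mpr e
        rw [← hj]
        exact (hw j).le_normalizer
    have hle : P ⊔ C i.succ ≤ S := sup_le hPS (hCQ.trans hsc.1)
    have hlt : P < P ⊔ C i.succ := lt_of_le_of_ne le_sup_left fun e => hne (le_sup_right.trans e.ge)
    have := Cfsg.FusionSystem.finite_of_le hle
    obtain ⟨w, hw', hwP⟩ := SetLike.exists_of_lt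
      (Cfsg.FusionSystem.lt_normalizerIn (p := p) (hS.to_le hle) hlt)
    have hw1 : w ∈ (↑(P ⊔ C i.succ) : Set Ω) := hw'.1
    rw [Subgroup.coe_mul_of_left_le_normalizer_right P _ (hPS.trans hCn)] at hw1
    obtain ⟨x, hx, g, hg, rfl⟩ := hw1
    have hgN : g ∈ Subgroup.normalizer (P : Set Ω) := by
      have := Subgroup.mul_mem _ (Subgroup.inv_mem _
        (Subgroup.le_normalizer hx : x ∈ Subgroup.normalizer (P : Set Ω))) hw'.2
      simpa [mul_assoc] using this
    refine hwP (P.mul_mem hx ?_)
    -- the series through `C i`, `Q ∩ P`, `P`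
    let k : ℕ → Subgroup Ω := fun j =>
      if h : j ≤ i then C ⟨j, lt_of_le_of_lt h (lt_trans i.2 (Nat.lt_succ_self n))⟩
      else if j = i + 1 then Q else S
    have hkle : ∀ (j : ℕ) (hj : j ≤ i), k j = C ⟨j, lt_of_le_of_lt hj (lt_trans i.2 (Nat.lt_succ_self n))⟩ :=
      fun j hj => dif_pos hj
    have hk1 : k (i + 1) = Q := by simp [k]
    have hk2 : k (i + 2) = S := by simp [k]
    have hg' : g ∈ Q := hCQ hg
    refine Cfsg.FusionSystem.mem_of_invariant_series hS hc hr (m := i + 2)
      (fun j => (k j).subgroupOf P) ?_ ?_ ?_ ⟨hsc.1 hg', hgN⟩ ?_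
    · show (k 0).subgroupOf P = ⊥
      rw [hkle 0 (Nat.zero_le _), show (⟨0, _⟩ : Fin (n + 1)) = 0 from rfl, h0, Subgroup.bot_subgroupOf]
    · show (k (i + 2)).subgroupOf P = ⊤
      rw [hk2, Subgroup.subgroupOf_eq_top.mpr hPS]
    · intro α hα j y hy
      obtain ⟨φ, hφ, -, he⟩ := F.exists_map_of_mem_autGroup hPS hα
      show ((α y : P) : Ω) ∈ k j
      rcases Nat.lt_or_ge i j with hj | hj
      · rcases Nat.eq_or_lt_of_le hj with hj' | hj'
        · have e : k j = Q := by rw [← hk1]; congr 1; omega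
          rw [e]
          have hy' : (y : Ω) ∈ k j := hy
          rw [e] at hy'
          rw [← he]
          exact hsc.2 _ inf_le_left _ (F.restrict_mem hφ (inf_le_right : Q ⊓ P ≤ P)) ⟨y, hy', y.2⟩
        · have e : k j = S := by rw [← hk2]; congr 1; omega
          rw [e]
          exact hPS (SetLike.coe_mem _)
      · have hjn : (j : ℕ) < n := lt_of_le_of_lt hj i.2
        have hle' : C (⟨j, hjn⟩ : Fin n).castSucc ≤ P :=
          le_trans (hmono (show (⟨j, hjn⟩ : Fin n).castSucc ≤ i.castSucc from hj)) ih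
        rw [hkle j hj]
        have hy' : (y : Ω) ∈ k j := hy
        rw [hkle j hj] at hy'
        rw [← he]
        exact ((hw ⟨j, hjn⟩).2 _ (F.restrict_mem hφ hle')).le ⟨⟨y, hy'⟩, rfl⟩
    · intro j y hy h
      show (y : Ω)⁻¹ * (g * y * g⁻¹) ∈ k j
      have hy' : (y : Ω) ∈ k (j + 1) := hy
      have hQy : g * y * g⁻¹ * (y : Ω)⁻¹ ∈ k j := by
        rcases Nat.lt_or_ge i j with hj | hj
        · have e : k j = Q := by rw [← hk1]; congr 1; omega
          rw [e]
          have h1 := (Subgroup.mem_normalizer_iff.mp (hQn (hPS y.2)) _).mp (Q.inv_mem hg')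
          simpa [mul_assoc] using Q.mul_mem hg' h1
        · rcases Nat.eq_or_lt_of_le hj with hj' | hj'
          · have e : k (j + 1) = Q := by rw [hj', hk1]
            rw [e] at hy'
            rw [hkle j hj, show (⟨(j : ℕ), _⟩ : Fin (n + 1)) = i.castSucc from Fin.ext hj']
            exact hstep i (Subgroup.commutator_mem_commutator hg hy')
          · rw [hkle (j + 1) hj'] at hy'
            rw [hkle j hj]
            have hjn : (j : ℕ) < n := lt_of_le_of_lt hj i.2
            have h1 := hstep ⟨j, hjn⟩ (Subgroup.commutator_mem_commutator hy' hg')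
            have h2 := (C (⟨j, hjn⟩ : Fin n).castSucc).inv_mem h1
            simpa [commutatorElement_def, mul_assoc] using h2
      have hkn : S ≤ Subgroup.normalizer (k j : Set Ω) := by
        rcases Nat.lt_or_ge i j with hj | hj
        · have e : k j = Q := by rw [← hk1]; congr 1; omega
          rw [e]
          exact hQn
        · rw [hkle j hj]
          exact (hw ⟨j, lt_of_le_of_lt hj i.2⟩).le_normalizer
      have h2 := (Subgroup.mem_normalizer_iff''.mp (hkn (hPS y.2)) _).mp hQy
      simpa [mul_assoc] using h2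

end Cfsg.Agent.S5226
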