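import Cfsg.Statements.S5235
import Cfsg.Agent.Lib.MetaTwoClosed.Apply

set_option autoImplicit false
open Cfsg

namespace Cfsg.Agent.S5235

/-- Let F be a saturated fusion system over a finite 2-group S (p = 2) and P a metacyclic subgroup of S strongly closed in F that is not dihedral, not semidihedral and not generalized quaternion (here the group of order 2, the Klein four-group and the cyclic group of order 4 also count as excluded). Then P is normal in F. -/
theorem result {Ω : Type*} [Group Ω] {S : Subgroup Ω} [Finite S] (p : ℕ) [Fact p.Prime] (hS : IsPGroup p S) (F : Cfsg.FusionSystem S) (hF : F.IsSaturated p) (P : Subgroup Ω) (hP : F.StronglyClosed P) (hp : p = 2) (hm : Cfsg.IsMetacyclic ↥P) (hd : ¬ ∃ m : ℕ, Nonempty (↥P ≃* DihedralGroup m)) (hq : ¬ ∃ m : ℕ, Nonempty (↥P ≃* QuaternionGroup m)) (hsd : ¬ Cfsg.IsQuasiDihedral ↥P) : F.IsNormal P := by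
  subst hp
  classical
  haveI : Finite P := Cfsg.FusionSystem.finite_of_le hP.1
  have hPp : IsPGroup 2 P := hS.to_le hP.1
  have hclass : ∀ k : ℕ, 3 ≤ k → Nat.card P = 2 ^ k → Group.nilpotencyClass ↥P ≠ k - 1 := by
    intro k hk hcard hcl
    have h4 : (commutator ↥P).index = 4 := CfsgLib.MaximalClass.index_commutator (p := 2) hk hcard hcl
    have hexp : ∀ x : Abelianization ↥P, x ^ 2 = 1 := by
      intro x
      induction x using QuotientGroup.induction_on with
      | H y => exact (QuotientGroup.eq_one_iff _).2 (CfsgLib.MaximalClass.pow_mem_commutator hk hcard hcl y)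
    rcases Cfsg.Agent.S4399.result hPp h4 hexp with h | ⟨m, e⟩ | ⟨m, hm', x, y, hx, hy, hxy⟩ | ⟨m, e⟩
    · rw [hcard] at h
      have : 2 ^ 3 ≤ 2 ^ k := Nat.pow_le_pow_right two_pos hk
      omega
    · exact hd ⟨_, e⟩
    · refine hsd ⟨m + 3, by omega, by rw [hm'], x, y, hx, hy, ?_⟩
      rwa [show m + 3 - 1 = m + 2 by omega]
    · exact hq ⟨_, e⟩
  refine hF.isNormal_of_invariant hS ?_
  rintro R (rfl | hR)
  · exact ⟨hP.1, fun α hα => Cfsg.FusionSystem.autGroup_map_subgroupOf_le hα hP.1 le_rfl hP⟩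
  · have hPR := CfsgLib.MetaTwoClosed.le_essential hS hF hP hm hclass hR
    exact ⟨hPR, fun α hα => Cfsg.FusionSystem.autGroup_map_subgroupOf_le hα hPR hR.1.1 hP⟩

end Cfsg.Agent.S5235
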