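import Cfsg.Statements.S5238
import Cfsg.Agent.Lib.MaxClassPearl

set_option autoImplicit false
open Cfsg

namespace Cfsg.Agent.S5238

/-- Let p be an odd prime and F a saturated fusion system over a finite p-group S having a pearl: an F-essential subgroup E that is elementary abelian of order p² or nonabelian of order p³. Then S has maximal nilpotency class (if S has order pⁿ with n ≥ 3, the term of index n − 2 of its lower central series, counting S itself as the term of index 0, is nontrivial), and every subgroup of S can be generated by at most p elements (the sectional rank of S is at most p). -/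
theorem result {Ω : Type*} [Group Ω] {S : Subgroup Ω} [Finite S] (p : ℕ) [Fact p.Prime] (hS : IsPGroup p S) (F : Cfsg.FusionSystem S) (hF : F.IsSaturated p) (hp : p ≠ 2) (E : Subgroup Ω) (hE : F.IsEssential p E) (hpearl : (Nat.card E = p ^ 2 ∧ ∀ x ∈ E, x ^ p = 1 ∧ IsMulCommutative ↥E) ∨ (Nat.card E = p ^ 3 ∧ ¬ IsMulCommutative ↥E)) : (∀ n : ℕ, Nat.card S = p ^ n → 3 ≤ n → Subgroup.lowerCentralSeries S (n - 2) ≠ ⊥) ∧ ∀ H : Subgroup Ω, H ≤ S → ∃ T : Finset Ω, T.card ≤ p ∧ Subgroup.closure (T : Set Ω) = H := by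
  classical
  have hES : E ≤ S := hE.1.1
  have hcen : S ⊓ Subgroup.centralizer (E : Set Ω) ≤ E :=
    hE.1.2 E ⟨conjHom E 1, F.conj_mem hES (one_mem S), by
      ext w; simp [conjHom, MonoidHom.mem_range]⟩
  have hCS : Subgroup.centralizer ((E.subgroupOf S : Subgroup ↥S) : Set ↥S) ≤ E.subgroupOf S := by
    intro g hg
    refine Subgroup.mem_subgroupOf.mpr (hcen ⟨g.2, Subgroup.mem_centralizer_iff.mpr fun w hw => ?_⟩)
    exact congrArg Subtype.val (Subgroup.mem_centralizer_iff.mp hg ⟨w, hES hw⟩ hw)
  have hEc : Nat.card (E.subgroupOf S) = Nat.card E :=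
    Nat.card_congr (Subgroup.subgroupOfEquivOfLe hES).toEquiv
  obtain ⟨n, hn⟩ := IsPGroup.iff_card.mp hS
  have hx : ∃ x : ↥S, Nat.card (Subgroup.centralizer ({x} : Set ↥S)) = p ^ 2 := by
    rcases hpearl with ⟨h2, -⟩ | ⟨h3, hna⟩
    · exact Cfsg.Agent.S4143.exists_small_centralizer hn (E.subgroupOf S) (hEc.trans h2) hCS
    · refine CfsgLib.MaxClassRank.exists_centralizer_of_nonabelian hn (E.subgroupOf S) (hEc.trans h3) ?_ hCS
      intro hab
      refine hna ⟨⟨fun u v => Subtype.ext ?_⟩⟩
      have h := hab.is_comm.comm (⟨⟨u, hES u.2⟩, u.2⟩ : E.subgroupOf S) ⟨⟨v, hES v.2⟩, v.2⟩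
      exact congrArg (fun z : E.subgroupOf S => ((z : ↥S) : Ω)) h
  obtain ⟨x, hx⟩ := hx
  refine ⟨fun m hm h3 => ?_, fun H hH => ?_⟩
  · obtain rfl : m = n := Nat.pow_right_injective (Fact.out : p.Prime).two_le (hm.symm.trans hn)
    have hc := Cfsg.Agent.S4143.class_eq m hn x hx
    intro hbot
    have := (IsPGroup.of_card hn).isNilpotent
    rw [← Subgroup.top_subtype_lowerCentralSeries, Subgroup.map_eq_bot_iff_of_injective _ S.subtype_injective] at hbot
    have := Subgroup.lowerCentralSeries_eq_bot_iff_nilpotencyClass_le.mp hbot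
    omega
  · have key : ∃ T : Finset ↥S, T.card ≤ p ∧ Subgroup.closure (T : Set ↥S) = H.subgroupOf S := by
      rcases lt_or_ge n 3 with h3 | h3
      · have h2 : 2 ≤ n := (Nat.pow_le_pow_iff_right (Fact.out : p.Prime).one_lt).mp
          (hn ▸ hx ▸ Subgroup.card_le_card_group _)
        obtain rfl : n = 2 := by omega
        by_cases hbot : H.subgroupOf S = ⊥
        · exact ⟨∅, by simp, by simp [hbot]⟩
        obtain ⟨a, ha, ha1⟩ := (Subgroup.ne_bot_iff_exists_ne_one).mp hbot |> fun ⟨u, hu⟩ =>
          (⟨(u : ↥S), u.2, fun e => hu (Subtype.ext e)⟩ : ∃ a, a ∈ H.subgroupOf S ∧ a ≠ 1)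
        by_cases hle : H.subgroupOf S ≤ Subgroup.zpowers a
        · refine ⟨{a}, by simpa using (Fact.out : p.Prime).one_le, ?_⟩
          rw [Finset.coe_singleton, ← Subgroup.zpowers_eq_closure]
          exact le_antisymm (Subgroup.zpowers_le.mpr ha) hle
        obtain ⟨b, hb, hb'⟩ := SetLike.not_le_iff_exists.mp hle
        refine ⟨{a, b}, (Finset.card_insert_le _ _).trans ?_, ?_⟩
        · simpa using (Fact.out : p.Prime).two_le
        have hle2 : Subgroup.closure ((({a, b} : Finset ↥S)) : Set ↥S) ≤ H.subgroupOf S := by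
          rw [Subgroup.closure_le]
          intro w hw
          simp only [Finset.coe_insert, Finset.coe_singleton, Set.mem_insert_iff, Set.mem_singleton_iff] at hw
          rcases hw with rfl | rfl <;> assumption
        refine le_antisymm hle2 (le_top.trans ?_)
        have hlt : Subgroup.zpowers a < Subgroup.closure ((({a, b} : Finset ↥S)) : Set ↥S) :=
          lt_of_le_of_ne (Subgroup.zpowers_le.mpr (Subgroup.subset_closure (by simp))) fun e =>
            hb' (e.ge (Subgroup.subset_closure (by simp)))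
        obtain ⟨i, -, hi⟩ := (Nat.dvd_prime_pow (Fact.out : p.Prime)).mp (hn ▸ Subgroup.card_subgroup_dvd_card (Subgroup.zpowers a))
        obtain ⟨j, hj2, hj⟩ := (Nat.dvd_prime_pow (Fact.out : p.Prime)).mp
          (hn ▸ Subgroup.card_subgroup_dvd_card (Subgroup.closure ((({a, b} : Finset ↥S)) : Set ↥S)))
        have hij : Nat.card (Subgroup.zpowers a) < Nat.card (Subgroup.closure ((({a, b} : Finset ↥S)) : Set ↥S)) :=
          lt_of_le_of_ne (Subgroup.card_le_of_le hlt.le) fun e =>
            hlt.ne (Subgroup.eq_of_le_of_card_ge hlt.le e.ge)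
        rw [hi, hj, Nat.pow_lt_pow_iff_right (Fact.out : p.Prime).one_lt] at hij
        have hi0 : i ≠ 0 := by
          rintro rfl
          rw [pow_zero, Nat.card_zpowers, orderOf_eq_one_iff] at hi
          exact ha1 hi
        refine (Subgroup.eq_top_of_le_card _ ?_).ge
        rw [hn, hj, show j = 2 by omega]
      · exact CfsgLib.MaxClassRank.gen_le h3 hn (Cfsg.Agent.S4143.class_eq n hn x hx) hx _
    obtain ⟨T, hT, hT'⟩ := key
    refine ⟨T.image Subtype.val, Finset.card_image_le.trans hT, ?_⟩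
    rw [Finset.coe_image, show (Subtype.val : ↥S → Ω) = ⇑S.subtype from rfl, ← MonoidHom.map_closure, hT',
      Subgroup.subgroupOf_map_subtype, inf_eq_left.mpr hH]

end Cfsg.Agent.S5238
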