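import Cfsg.Statements.S5239
import Cfsg.Agent.Lib.MaxClassPearl
import Cfsg.Agent.Lib.MaxClassThree
import Cfsg.Agent.Lib.PearlThree
import Cfsg.Agent.Lib.Fusion.EssentialSmall.Cube

set_option autoImplicit false
open Cfsg

namespace Cfsg.Agent.S5239

local notation "C₃" => Multiplicative (ZMod 3)

theorem exists_sylow_nine [Fact (Nat.Prime 3)] {X : Type*} [Group X] (h : Nonempty (X ≃* RegularWreathProduct C₃ C₃)) :
    ∃ W : Sylow 3 (Equiv.Perm (Fin 9)), Nonempty (X ≃* (W : Subgroup (Equiv.Perm (Fin 9)))) := by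
  obtain ⟨e⟩ := h
  obtain ⟨W⟩ : Nonempty (Sylow 3 (Equiv.Perm (Fin 9))) := inferInstance
  let e₁ := W.mulEquivIteratedWreathProduct 3 2 (Fin 9) (by rw [Nat.card_fin]; norm_num) C₃
    (by rw [Nat.card_congr (Multiplicative.toAdd (α := ZMod 3)), Nat.card_zmod])
  have : Subsingleton (IteratedWreathProduct C₃ 0) := inferInstanceAs (Subsingleton PUnit)
  let e₂ : IteratedWreathProduct C₃ 1 ≃* C₃ :=
    MulEquiv.ofBijective (RegularWreathProduct.rightHom (D := IteratedWreathProduct C₃ 0) (Q := C₃))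
      ⟨fun a b hab => RegularWreathProduct.ext (funext fun _ => Subsingleton.elim _ _) hab,
        fun q => ⟨⟨1, q⟩, rfl⟩⟩
  exact ⟨W, ⟨e.trans (e₁.trans (RegularWreathProduct.congr e₂ (MulEquiv.refl C₃))).symm⟩⟩

/-- Let F be a saturated fusion system over a finite 3-group S having a pearl: an F-essential subgroup E that is elementary abelian of order 9 or nonabelian of order 27. Then either S is extraspecial of order 27 and exponent 3, or S has order at least 81 and every subgroup of S can be generated by at most two elements, or S is isomorphic to the wreath product C₃ ≀ C₃ (a Sylow 3-subgroup of the symmetric group of degree 9). -/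
theorem result {Ω : Type*} [Group Ω] {S : Subgroup Ω} [Finite S] (hS : IsPGroup 3 S) (F : Cfsg.FusionSystem S) (hF : F.IsSaturated 3) [Fact (Nat.Prime 3)] (E : Subgroup Ω) (hE : F.IsEssential 3 E) (hpearl : (Nat.card E = 9 ∧ ∀ x ∈ E, x ^ 3 = 1 ∧ IsMulCommutative ↥E) ∨ (Nat.card E = 27 ∧ ¬ IsMulCommutative ↥E)) : (Cfsg.IsExtraspecial 3 ↥S ∧ Nat.card S = 27 ∧ Monoid.exponent ↥S = 3) ∨ (81 ≤ Nat.card S ∧ ∀ H : Subgroup Ω, H ≤ S → ∃ T : Finset Ω, T.card ≤ 2 ∧ Subgroup.closure (T : Set Ω) = H) ∨ (∃ W : Sylow 3 (Equiv.Perm (Fin 9)), Nonempty (↥S ≃* ↥(W : Subgroup (Equiv.Perm (Fin 9))))) := by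
  classical
  have hES : E ≤ S := hE.1.1
  have : Finite E := Cfsg.FusionSystem.finite_of_le hES
  have hcen : S ⊓ Subgroup.centralizer (E : Set Ω) ≤ E := hE.1.centralizerIn_le_self
  have hCS : Subgroup.centralizer ((E.subgroupOf S : Subgroup ↥S) : Set ↥S) ≤ E.subgroupOf S := by
    intro g hg
    refine Subgroup.mem_subgroupOf.mpr (hcen ⟨g.2, Subgroup.mem_centralizer_iff.mpr fun w hw => ?_⟩)
    exact congrArg Subtype.val (Subgroup.mem_centralizer_iff.mp hg ⟨w, hES hw⟩ hw)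
  have hEc : Nat.card (E.subgroupOf S) = Nat.card E :=
    Nat.card_congr (Subgroup.subgroupOfEquivOfLe hES).toEquiv
  obtain ⟨n, hn⟩ := IsPGroup.iff_card.mp hS
  -- the pearl is a proper subgroup
  have hlt : Nat.card E < Nat.card S :=
    lt_of_le_of_ne (Subgroup.card_le_of_le hES) fun e => (hE.lt hS hF).ne (Subgroup.eq_of_le_of_card_ge hES e.ge)
  by_cases h4 : 4 ≤ n
  · refine Or.inr ?_
    obtain ⟨x, hx, hxp⟩ : ∃ x : ↥S, Nat.card (Subgroup.centralizer ({x} : Set ↥S)) = 3 ^ 2 ∧ x ^ 3 = 1 := by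
      rcases hpearl with ⟨h9, hel⟩ | ⟨h27, hna⟩
      · obtain ⟨x, hxE, hx⟩ := CfsgLib.MaxClassPearlThree.exists_mem_small hn h4 (E.subgroupOf S) (hEc.trans h9) hCS
        exact ⟨x, hx, Subtype.ext (hel x hxE).1⟩
      · have hnab : ¬ ∀ a b : E, a * b = b * a := fun h => hna ⟨⟨h⟩⟩
        obtain ⟨x, hxE, hx⟩ := CfsgLib.MaxClassRank.exists_centralizer_mem_of_nonabelian (p := 3) hn (E.subgroupOf S)
          (hEc.trans h27) (fun hab => hna ⟨⟨fun u v => Subtype.ext
            (congrArg (fun z : E.subgroupOf S => ((z : ↥S) : Ω))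
              (hab.is_comm.comm (⟨⟨u, hES u.2⟩, u.2⟩ : E.subgroupOf S) ⟨⟨v, hES v.2⟩, v.2⟩))⟩⟩) hCS
        have h := Cfsg.EssentialSmall.exponent_cube (p := 3) hS hF hE (by rw [h27]; norm_num) hnab (by norm_num) ⟨x, hxE⟩
        exact ⟨x, hx, Subtype.ext (congrArg Subtype.val h : _)⟩
    have hc := Cfsg.Agent.S4143.class_eq n hn x hx
    rcases CfsgLib.MaxClassThree.dichotomy h4 hn hc hx hxp with hgen | hwr
    · refine Or.inl ⟨by rw [hn]; exact Nat.pow_le_pow_right (show 0 < 3 by norm_num) h4, fun H hH => ?_⟩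
      obtain ⟨T, hT, hT'⟩ := hgen (H.subgroupOf S)
      refine ⟨T.image Subtype.val, Finset.card_image_le.trans hT, ?_⟩
      rw [Finset.coe_image, show (Subtype.val : ↥S → Ω) = ⇑S.subtype from rfl, ← MonoidHom.map_closure, hT',
        Subgroup.subgroupOf_map_subtype, inf_eq_left.mpr hH]
    · exact Or.inr (exists_sylow_nine hwr)
  · have hn3 : n = 3 := by
      have h9 : 3 ^ 2 ≤ Nat.card E := by rcases hpearl with ⟨h, -⟩ | ⟨h, -⟩ <;> omega
      have := (Nat.pow_lt_pow_iff_right (show 1 < 3 by norm_num)).mp (hn ▸ h9.trans_lt hlt)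
      omega
    subst hn3
    have hSc : Nat.card S = 27 := hn.trans (by norm_num)
    have h9 : Nat.card E = 9 := by
      rcases hpearl with ⟨h, -⟩ | ⟨h, -⟩
      · exact h
      · omega
    obtain ⟨h1, h2⟩ := CfsgLib.PearlThree.order_27 hS hF hE h9 hSc hCS
    exact Or.inl ⟨h1, hSc, h2⟩

end Cfsg.Agent.S5239
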