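import Cfsg.Statements.S5249
import Cfsg.Agent.Lib.Fusion.ZJFree
import Cfsg.Agent.Lib.Fusion.Group
import Cfsg.Agent.Lib.Fusion.Quotient
import Cfsg.Agent.S5134
-- import your own Cfsg.Agent.* helpers here

set_option autoImplicit false
open Cfsg

namespace Cfsg.Agent.S5249

/-- Let p be an odd prime, G a finite group in which Qd(p) (the natural semidirect product of an elementary abelian group of order p² by SL₂(p)) is not involved, and P a Sylow p-subgroup of G. Then the fusion system of G on P is a solvable fusion system. -/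
theorem result {G : Type*} [Group G] [Finite G] {p : ℕ} [Fact p.Prime] (hp : p ≠ 2) (hqd : ¬ Cfsg.Involves ↥(Cfsg.qd p) G) (P : Sylow p G) : (Cfsg.groupFusionSystem (P : Subgroup G)).IsSolvableSystem := by
  have hsat := Cfsg.FusionSystem.groupFusionSystem_isSaturated (p := p) P
  have hι : (Cfsg.groupFusionSystem (P : Subgroup G)).IsRealizedBy (P : Subgroup G).subtype := by
    refine ⟨Subtype.val_injective, fun Q hQ φ hφ => ⟨?_, ?_⟩⟩
    · rintro ⟨-, -, g, hg⟩
      exact ⟨g, hg⟩
    · rintro ⟨g, hg⟩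
      exact ⟨hQ, hφ, g, hg⟩
  intro R hR hRS _ E hE
  have hfreeF : ¬ (Cfsg.groupFusionSystem (P : Subgroup G)).QdWitness p := fun hw => hqd (hw.involves P.2 hι)
  set π := QuotientGroup.mk' (R.subgroupOf (P : Subgroup G))
  have hsurj := Cfsg.Agent.S5134.result p P.2 _ hsat R hR π E hE
  have hEs : E.IsSaturated p := hsurj.isSaturated P.2 hsat
  have hpr : IsPGroup p ↥(⊤ : Subgroup ((P : Subgroup G) ⧸ R.subgroupOf (P : Subgroup G))) :=
    (P.2.of_surjective π (QuotientGroup.mk'_surjective _)).of_equiv Subgroup.topEquiv.symm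
  have hfreeE : ¬ E.QdWitness p := by
    obtain ⟨-, hker, hr, hEm⟩ := hE
    suffices ∀ (T : Subgroup ((P : Subgroup G) ⧸ R.subgroupOf (P : Subgroup G))) (E' : Cfsg.FusionSystem T),
        π.range = T → (∀ P' φ', φ' ∈ E'.Hom P' ↔ P' ≤ T ∧
          ∃ φ ∈ (Cfsg.groupFusionSystem (P : Subgroup G)).Hom (Cfsg.FusionSystem.preimageAlong π P'),
            Cfsg.FusionSystem.InducedAlong π φ φ') → ¬ E'.QdWitness p from this _ E hr hEm
    rintro T E' rfl hEm' hw
    exact hfreeF (Cfsg.FusionSystem.QdWitness.of_factor hker hEm' hw)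
  intro hb
  have hn := (hEs.isNormal_zj hp hpr hfreeE).le_core
  rw [hb, le_bot_iff] at hn
  refine CfsgLib.ZJ.centerThompsonAOf_ne_bot hpr ?_ hn
  intro htop
  refine hRS (le_antisymm hR.1 fun x hx => ?_)
  have h1 : π ⟨x, hx⟩ ∈ (⊤ : Subgroup ((P : Subgroup G) ⧸ R.subgroupOf (P : Subgroup G))) := Subgroup.mem_top _
  rw [htop, Subgroup.mem_bot] at h1
  exact (QuotientGroup.eq_one_iff (N := R.subgroupOf (P : Subgroup G)) (⟨x, hx⟩ : (P : Subgroup G))).mp h1

end Cfsg.Agent.S5249
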