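import Cfsg.Statements.S5271
import Cfsg.Agent.Lib.Fusion.WeaklyEmbedded.Main

set_option autoImplicit false
open Cfsg

namespace Cfsg.Agent.S5271

/-- A nilpotency criterion for fusion systems. Let F be a saturated fusion system over a finite p-group S of order at least p². Call a subgroup Q of S weakly embedded in F when there is a subgroup P of S strongly closed in F such that both the product QP and the intersection Q ∩ P are strongly closed in F. Then F is the inner fusion system of S if and only if there is a subgroup D of S with 1 < D < S such that every subgroup of S of the same order as D is weakly embedded in F and, for every fully normalized subgroup H of S of that order, the normalizer fusion system of H in F is the inner fusion system of N_S(H). -/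
theorem result {Ω : Type*} [Group Ω] {S : Subgroup Ω} [Finite S] (p : ℕ) [Fact p.Prime] (hS : IsPGroup p ↥S) (F : Cfsg.FusionSystem S) (hF : F.IsSaturated p) (hcard : p ^ 2 ≤ Nat.card S) : (∀ P : Subgroup Ω, F.Hom P = (Cfsg.innerFusionSystem S).Hom P) ↔ ∃ D : Subgroup Ω, ⊥ < D ∧ D < S ∧ (∀ Q : Subgroup Ω, Q ≤ S → Nat.card ↥Q = Nat.card ↥D → ∃ P : Subgroup Ω, F.StronglyClosed P ∧ F.StronglyClosed (Q ⊔ P) ∧ F.StronglyClosed (Q ⊓ P)) ∧ (∀ H : Subgroup Ω, F.IsFullyNormalized H → Nat.card ↥H = Nat.card ↥D → ∀ N : Cfsg.FusionSystem (Cfsg.FusionSystem.normalizerIn S H), F.IsNormalizerSystem H N → ∀ P : Subgroup Ω, N.Hom P = (Cfsg.innerFusionSystem (Cfsg.FusionSystem.normalizerIn S H)).Hom P) := by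
  open Cfsg.FusionSystem Cfsg.WeaklyEmbedded in
  have hpp : p.Prime := Fact.out
  obtain ⟨n, hn⟩ := IsPGroup.iff_card.mp hS
  rw [hn, Nat.pow_le_pow_iff_right hpp.one_lt] at hcard
  have hbot : F.StronglyClosed ⊥ := ⟨bot_le, fun R hR φ _ x => by
    rw [show x = 1 from Subtype.ext (Subgroup.mem_bot.mp (hR x.2)), map_one]
    exact Subgroup.one_mem _⟩
  constructor
  · intro h
    have hin : F.IsInner := isInner_of_hom_eq h
    have hsn : ∀ Q : Subgroup Ω, Q ≤ S → Nat.card Q = p ^ (n - 1) → S ≤ Subgroup.normalizer (Q : Set Ω) := by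
      intro Q hQS hQ
      haveI : (Q.subgroupOf S).Normal := by
        refine Subgroup.normal_of_index_eq_minFac_card ?_
        have h1 := (Q.subgroupOf S).card_mul_index
        rw [Nat.card_congr (Subgroup.subgroupOfEquivOfLe hQS).toEquiv, hQ, hn,
          show p ^ n = p ^ (n - 1) * p by rw [← pow_succ]; congr 1; omega] at h1
        rw [Nat.eq_of_mul_eq_mul_left (pow_pos hpp.pos _) h1, hn, Nat.Prime.pow_minFac hpp (by omega)]
      exact Subgroup.le_normalizer_of_normal_subgroupOf hQS
    obtain ⟨D, -, hDS, -, hD⟩ := exists_normal_above hS (n - 1) (⊥ : Subgroup Ω) bot_le (fun x _ => Subgroup.mem_normalizer_iff.mpr fun y => by simp [mul_inv_eq_one]) (by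
      rw [Subgroup.card_bot, one_mul, hn]; exact Nat.pow_le_pow_right hpp.pos (by omega))
    rw [Subgroup.card_bot, one_mul] at hD
    refine ⟨D, bot_lt_iff_ne_bot.mpr fun e => ?_, lt_of_le_of_ne hDS fun e => ?_, fun Q hQS hQ => ⟨⊥, hbot, ?_, ?_⟩, fun H hH hHc N hN P => ?_⟩
    · rw [e, Subgroup.card_bot] at hD
      exact (Nat.one_lt_pow (show n - 1 ≠ 0 by omega) hpp.one_lt).ne hD
    · rw [e, hn] at hD
      have := Nat.pow_right_injective hpp.two_le hD
      omega
    · rw [sup_bot_eq]
      refine InnerMod.stronglyClosed (V := ⊥) (fun R φ hφ => ?_) bot_le hQS (hsn Q hQS (hQ.trans hD))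
      obtain ⟨-, g, hg, hge⟩ := hin R hφ
      exact ⟨g, hg, fun x => by rw [hge x, inv_mul_cancel]; exact Subgroup.one_mem _⟩
    · rwa [inf_bot_eq]
    · exact (hN.isInner (normalizerInner_of_isInner hin hH.1)).hom_eq P
  · rintro ⟨D, hD1, hD2, hweak, hnorm⟩
    haveI : Finite D := finite_of_le hD2.le
    obtain ⟨d, hd⟩ := IsPGroup.iff_card.mp (hS.to_le hD2.le)
    have hH : Hyp p d F := ⟨hS, hF, hd ▸ card_lt_of_lt hD2, fun Q hQS hQ => hweak Q hQS (hQ.trans hd.symm),
      fun H hHS hHn hHc => (F.normalizerSystem_isNormalizerSystem H hHS).normalizerInner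
        (isInner_of_hom_eq fun P => hnorm H (isFullyNormalized_of_le_normalizer hHS hHn) (hHc.trans hd.symm)
          _ (F.normalizerSystem_isNormalizerSystem H hHS) P)⟩
    exact (hH.innerMod _ ⊥ hbot (by rw [Subgroup.card_bot]; exact Nat.one_le_pow _ _ hpp.pos) le_rfl).isInner.hom_eq

end Cfsg.Agent.S5271
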