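import Cfsg.Statements.S5272
import Cfsg.Agent.Lib.Fusion.AxiomaticCriterion
-- import your own Cfsg.Agent.* helpers here

set_option autoImplicit false
open Cfsg

namespace Cfsg.Agent.S5272

open Cfsg.FusionSystem

/-- An axiomatic Glauberman–Thompson nilpotency criterion for fusion systems. Let p be an odd prime, F a saturated fusion system over a finite p-group S, and 𝒜 a nonempty family of abelian subgroups of S. For Q ≤ S write I(Q) for the intersection of the members of 𝒜 contained in Q. Assume (invariance) that for every Q ≤ S containing a member of 𝒜, every F-automorphism of Q maps I(Q) into itself, and (replacement) that for every subgroup B of S of nilpotency class at most 2, if some member of 𝒜 contains [B,B] but not B, then B normalizes some member of 𝒜 that contains [B,B] but not B. Then F is the inner fusion system of S if and only if the normalizer fusion system of I(S) in F is the inner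 fusion system of N_S(I(S)). -/
theorem result {Ω : Type*} [Group Ω] {S : Subgroup Ω} [Finite S] (p : ℕ) [Fact p.Prime] (hS : IsPGroup p ↥S) (F : Cfsg.FusionSystem S) (hF : F.IsSaturated p) (hp : p ≠ 2) (𝒜 : Set (Subgroup Ω)) (h𝒜 : ∀ A ∈ 𝒜, A ≤ S ∧ IsMulCommutative ↥A) (hne : 𝒜.Nonempty) (hinv : ∀ Q : Subgroup Ω, Q ≤ S → (∃ A ∈ 𝒜, A ≤ Q) → ∀ α ∈ F.autGroup Q, ∀ x : ↥Q, (x : Ω) ∈ (⨅ A ∈ {A : Subgroup Ω | A ∈ 𝒜 ∧ A ≤ Q}, A) → (((α : MulAut ↥Q) x : ↥Q) : Ω) ∈ (⨅ A ∈ {A : Subgroup Ω | A ∈ 𝒜 ∧ A ≤ Q}, A)) (hrep : ∀ B : Subgroup Ω, B ≤ S → ⁅⁅B, B⁆, B⁆ = ⊥ → (∃ A ∈ 𝒜, ⁅B, B⁆ ≤ A ∧ ¬ B ≤ A) → ∃ A ∈ 𝒜, ⁅B, B⁆ ≤ A ∧ ¬ B ≤ A ∧ B ≤ Subgroup.normalizer (A : Set Ω)) : (∀ P : Subgroup Ω, F.Hom P = (Cfsg.innerFusionSystem S).Hom P) ↔ ∀ N : Cfsg.FusionSystem (Cfsg.FusionSystem.normalizerIn S (⨅ A ∈ 𝒜, A)), F.IsNormalizerSystem (⨅ A ∈ 𝒜, A) N → ∀ P : Subgroup Ω, N.Hom P = (Cfsg.innerFusionSystem (Cfsg.FusionSystem.normalizerIn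 S (⨅ A ∈ 𝒜, A))).Hom P := by
  have hI : CfsgLib.ZJ.interAbove 𝒜 S = ⨅ A ∈ 𝒜, A := by
    refine le_antisymm (le_iInf₂ fun A hA => ?_) ?_
    · exact fun x hx => CfsgLib.ZJ.mem_interAbove.mp hx A hA (h𝒜 A hA).1
    · refine fun x hx => CfsgLib.ZJ.mem_interAbove.mpr fun A hA _ => ?_
      simp only [Subgroup.mem_iInf] at hx
      exact hx A hA
  have hIS : (⨅ A ∈ 𝒜, A) ≤ S := hI ▸ CfsgLib.ZJ.interAbove_le (fun A hA => (h𝒜 A hA).1) hne
  have hNs := F.normalizerSystem_isNormalizerSystem _ hIS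
  constructor
  · intro h N hN
    exact (hN.isInner (normalizerInner_of_isInner (isInner_of_hom_eq h) hIS)).hom_eq
  · intro h
    refine (hF.isInner_of_family hS hp h𝒜 hne hinv (D := S)
      ⟨le_rfl, fun R _ φ hφ => F.apply_mem hφ⟩ (CfsgLib.ZJ.interAbove_le (fun A hA => (h𝒜 A hA).1) hne)
      (fun B hB _ => hrep B hB) ?_).hom_eq
    rw [hI]
    exact hNs.normalizerInner (isInner_of_hom_eq (h _ hNs))

end Cfsg.Agent.S5272
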