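import Cfsg.Statements.S5274
import Cfsg.Agent.Lib.Fusion.Saturation
import Cfsg.Agent.Lib.Fusion.Induction
import Cfsg.Agent.S5226

set_option autoImplicit false
open Cfsg

namespace Cfsg.Agent.S5274

open scoped commutatorElement

universe u

/-- An element normalising a subgroup that the system maps into the centre centralises it. -/
theorem centralizes_of_map_central {Ω : Type u} [Group Ω] {S : Subgroup Ω} [Finite S] (hS : IsPGroup 2 ↥S)
    {F : Cfsg.FusionSystem S} (hF : F.IsSaturated 2) {A : Subgroup Ω} {φ : A →* Ω} (hφ : φ ∈ F.Hom A)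
    (hz : ∀ a : A, ∀ s ∈ S, s * φ a = φ a * s) {g : Ω} (hg : g ∈ S) (hgA : ∀ a ∈ A, g * a * g⁻¹ ∈ A) :
    ∀ a ∈ A, g * a = a * g := by
  haveI : Fact (Nat.Prime 2) := ⟨Nat.prime_two⟩
  have hA : A ≤ S := F.source_le hφ
  haveI : Finite A := Cfsg.FusionSystem.finite_of_le hA
  have hgN : g ∈ Subgroup.normalizer (A : Set Ω) := by
    have he : A.map (MulAut.conj g).toMonoidHom = A := Subgroup.eq_of_le_of_card_ge
      (by rintro _ ⟨a, ha, rfl⟩; exact hgA a ha)
      (Subgroup.card_map_of_injective (MulEquiv.injective (MulAut.conj g))).ge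
    rw [Subgroup.mem_normalizer_iff]
    refine fun x => ⟨hgA x, fun hx => ?_⟩
    rw [← he] at hx
    obtain ⟨y, hy, e⟩ := hx
    have e1 : g * y * g⁻¹ = g * x * g⁻¹ := e
    rwa [← mul_left_cancel (mul_right_cancel e1)]
  set B := φ.range with hB
  have hBS : B ≤ S := F.range_le hφ
  have hBn : S ≤ Subgroup.normalizer (B : Set Ω) := fun s hs =>
    Subgroup.centralizer_le_normalizer _ (Subgroup.mem_centralizer_iff.mpr (by
      rintro _ ⟨a, rfl⟩; exact (hz a s hs).symm))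
  obtain ⟨-, R, hR⟩ := hF.isFullyAutomized_of_isFullyNormalized hS
    (Cfsg.FusionSystem.isFullyNormalized_of_le_normalizer (F := F) hBS hBn)
  have hbot : autInducedBy S B = ⊥ := by
    rw [eq_bot_iff]
    intro β hβ
    obtain ⟨s, hs, -, he⟩ := mem_autInducedBy_iff.mp hβ
    refine Subgroup.mem_bot.mpr (MulEquiv.ext fun x => Subtype.ext ?_)
    obtain ⟨a, ha⟩ := x.2
    rw [he, ← ha, hz a s hs, mul_inv_cancel_right, ha]
    rfl
  rw [hbot, Subgroup.bot_subgroupOf] at hR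
  set α : MulAut A := A.normalizerMonoidHom ⟨g, hgN⟩
  have hαI : α ∈ autInducedBy S A := mem_autInducedBy_iff.mpr ⟨g, hg, hgN, fun _ => rfl⟩
  obtain ⟨k, hk⟩ := isPGroup_autInducedBy (P := A) hS ⟨α, hαI⟩
  set Φ := (MulAut.congr (F.isoOf hφ hB.symm)).toMonoidHom
  have hβ : Φ α ∈ F.autGroup B := F.autGroup_map_congr hφ hB.symm ▸
    Subgroup.mem_map_of_mem _ (F.autInducedBy_le_autGroup hA hαI)
  haveI : Finite B := Cfsg.FusionSystem.finite_of_le hBS
  haveI : Finite (MulAut B) := Cfsg.FusionSystem.finite_mulAut_of_le hBS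
  set β : F.autGroup B := ⟨Φ α, hβ⟩
  have hβk : β ^ (2 ^ k) = 1 := Subtype.ext (by
    show (Φ α) ^ (2 ^ k) = 1
    rw [← map_pow, show α ^ (2 ^ k) = 1 from congrArg Subtype.val hk, map_one])
  have hβp : IsPGroup 2 (Subgroup.zpowers β) := fun x => ⟨k, Subtype.ext (by
    obtain ⟨i, hi⟩ := x.2
    show (x : F.autGroup B) ^ (2 ^ k) = 1
    rw [← hi, ← zpow_natCast, ← zpow_mul, mul_comm, zpow_mul, zpow_natCast, hβk, one_zpow])⟩
  obtain ⟨T, hT⟩ := hβp.exists_le_sylow
  have hT1 : (T : Subgroup (F.autGroup B)) = ⊥ := Subgroup.eq_bot_of_card_eq _ (by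
    rw [T.card_eq_multiplicity, ← R.card_eq_multiplicity, hR, Subgroup.card_bot])
  have hβ1 : β = 1 := Subgroup.mem_bot.mp (hT1.le (hT (Subgroup.mem_zpowers β)))
  have hα1 : α = 1 := (MulAut.congr (F.isoOf hφ hB.symm)).injective
    ((congrArg Subtype.val hβ1 : Φ α = 1).trans (map_one Φ).symm)
  intro a ha
  have e : g * a * g⁻¹ = a := congrArg (fun f : MulAut A => ((f ⟨a, ha⟩ : A) : Ω)) hα1
  calc g * a = g * a * g⁻¹ * g := by group
    _ = a * g := by rw [e]

/-- Let F be a saturated fusion system over a finite 2-group S. Suppose that every element of S is F-conjugate to an element of the centre Z(S) (some map of F defined on the cyclic subgroup it generates sends it into Z(S)). Then S is abelian. -/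
theorem result {Ω : Type*} [Group Ω] {S : Subgroup Ω} [Finite S] (hS : IsPGroup 2 ↥S) (F : Cfsg.FusionSystem S) (hF : F.IsSaturated 2) (h : ∀ x ∈ S, ∃ z ∈ S ⊓ Subgroup.centralizer (S : Set Ω), F.IsConjElt x z) : IsMulCommutative ↥S := by
  haveI : Fact (Nat.Prime 2) := ⟨Nat.prime_two⟩
  have hmap : ∀ x ∈ S, ∃ φ ∈ F.Hom (Subgroup.zpowers x), ∀ a : Subgroup.zpowers x, ∀ s ∈ S, s * φ a = φ a * s := by
    intro x hx
    obtain ⟨z, hz, φ, hφ, hφx⟩ := h x hx
    refine ⟨φ, hφ, fun a s hs => ?_⟩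
    have hza : φ a ∈ Subgroup.centralizer (S : Set Ω) := by
      obtain ⟨i, hi⟩ := a.2
      rw [show a = ⟨x, Subgroup.mem_zpowers x⟩ ^ i from Subtype.ext hi.symm, map_zpow, hφx]
      exact Subgroup.zpow_mem _ hz.2 _
    exact Subgroup.mem_centralizer_iff.mp hza s hs
  have hnorm : ∀ x ∈ S, ∀ g ∈ S, g * x * g⁻¹ ∈ Subgroup.zpowers x → g * x = x * g := by
    intro x hx g hg hgx
    obtain ⟨φ, hφ, hz⟩ := hmap x hx
    refine centralizes_of_map_central hS hF hφ hz hg (fun a ha => ?_) x (Subgroup.mem_zpowers x)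
    obtain ⟨i, rfl⟩ := ha
    show g * x ^ i * g⁻¹ ∈ _
    rw [← conj_zpow]
    exact Subgroup.zpow_mem _ hgx _
  -- the involutions form an abelian subgroup
  have hinvc : ∀ u ∈ S, ∀ v ∈ S, u * u = 1 → v * v = 1 → u * v = v * u := by
    intro u hu v hv hu2 hv2
    have hu' : u⁻¹ = u := inv_eq_of_mul_eq_one_right hu2
    have hv' : v⁻¹ = v := inv_eq_of_mul_eq_one_right hv2
    have e1 : u * (u * v) * u⁻¹ = (u * v)⁻¹ := by
      rw [mul_inv_rev, hu', hv', ← mul_assoc, hu2, one_mul]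
    have e2 := hnorm (u * v) (mul_mem hu hv) u hu (e1 ▸ inv_mem (Subgroup.mem_zpowers (u * v)))
    have e3 : (u * v)⁻¹ = u * v := by rw [← e1, e2, mul_inv_cancel_right]
    rw [mul_inv_rev, hu', hv'] at e3
    exact e3.symm
  let E : Subgroup Ω :=
    { carrier := {x | x ∈ S ∧ x * x = 1}
      one_mem' := ⟨one_mem _, one_mul 1⟩
      mul_mem' := fun {u v} hu hv => ⟨mul_mem hu.1 hv.1, by
        have c := hinvc v hv.1 u hu.1 hv.2 hu.2
        calc u * v * (u * v) = u * (v * u) * v := by simp only [mul_assoc]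
          _ = (u * u) * (v * v) := by rw [c]; simp only [mul_assoc]
          _ = 1 := by rw [hu.2, hv.2, one_mul]⟩
      inv_mem' := fun {u} hu => ⟨inv_mem hu.1, by rw [← mul_inv_rev, hu.2, inv_one]⟩ }
  have hEs : F.StronglyClosed E := ⟨fun x hx => hx.1, fun R hR φ hφ x => ⟨(F.le_of_mem hφ).2 x, by
    rw [← map_mul, show x * x = 1 from Subtype.ext (hR x.2).2, map_one]⟩⟩
  have hEn : F.IsNormal E := (Cfsg.Agent.S5226.result 2 hS F hF E).mpr ⟨hEs, 1, ![⊥, E], rfl, rfl,
    fun i j hij => by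
      fin_cases i <;> fin_cases j <;> simp at hij ⊢,
    fun i => by
      fin_cases i
      refine Subgroup.commutator_le.mpr fun a ha b hb => ?_
      have ha' : a ∈ E := ha
      simp [commutatorElement_eq_one_iff_mul_comm.mpr (hinvc a ha'.1 b hb.1 ha'.2 hb.2)],
    fun i => by
      fin_cases i
      refine ⟨bot_le, fun φ _ => ?_⟩
      refine (MonoidHom.range_eq_bot_iff.mpr (MonoidHom.ext fun x => ?_) : φ.range = ⊥)
      rw [show x = 1 from Subtype.ext (Subgroup.mem_bot.mp x.2), map_one, map_one]⟩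
  have hext : ∀ x ∈ S, ∃ ψ ∈ F.Hom (Subgroup.zpowers x ⊔ E),
      (∀ y : Subgroup.zpowers x, ∀ s ∈ S, s * ψ (Subgroup.inclusion le_sup_left y) = ψ (Subgroup.inclusion le_sup_left y) * s) ∧
      ∀ e : E, ψ (Subgroup.inclusion le_sup_right e) ∈ E := by
    intro x hx
    obtain ⟨φ, hφ, hz⟩ := hmap x hx
    obtain ⟨ψ, hψ, hψφ, hψE⟩ := hEn.2 _ φ hφ
    refine ⟨ψ, hψ, fun y s hs => by rw [hψφ]; exact hz y s hs, fun e => ?_⟩
    exact hψE.le ⟨_, e.2, rfl⟩
  have hEc : ∀ e ∈ E, ∀ x ∈ S, x * e = e * x := by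
    intro e he x hx
    obtain ⟨ψ, hψ, hz, hE⟩ := hext x hx
    set X : ↥(Subgroup.zpowers x ⊔ E) := Subgroup.inclusion le_sup_left ⟨x, Subgroup.mem_zpowers x⟩
    set Y : ↥(Subgroup.zpowers x ⊔ E) := Subgroup.inclusion le_sup_right ⟨e, he⟩
    have e1 : ψ (X * Y) = ψ (Y * X) := by
      rw [map_mul, map_mul]
      exact (hz ⟨x, Subgroup.mem_zpowers x⟩ _ (hE ⟨e, he⟩).1).symm
    exact congrArg Subtype.val (F.injective_of_mem hψ e1)
  have main : ∀ k : ℕ, ∀ x ∈ S, x ^ (2 ^ k) = 1 → ∀ g ∈ S, g * x = x * g := by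
    intro k
    induction k with
    | zero => intro x hx h1 g hg; rw [pow_zero, pow_one] at h1; simp [h1]
    | succ k ih =>
      intro x hx hxk g hg
      have hsq := ih (x * x) (mul_mem hx hx) (by rw [← pow_two, ← pow_mul, ← pow_succ']; exact hxk) g hg
      set c := g * x * g⁻¹ * x⁻¹ with hc
      have hcS : c ∈ S := mul_mem (mul_mem (mul_mem hg hx) (inv_mem hg)) (inv_mem hx)
      have e1 : x * c * x⁻¹ = c⁻¹ := by
        calc x * c * x⁻¹ = x * (g * x * g⁻¹) * (x * x)⁻¹ := by rw [hc]; group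
          _ = x * (g * x⁻¹ * g⁻¹) * ((g * (x * x) * g⁻¹) * (x * x)⁻¹) := by group
          _ = c⁻¹ := by rw [hsq, mul_inv_cancel_right, mul_inv_cancel, mul_one, hc]; group
      have e2 := hnorm c hcS x hx (e1 ▸ inv_mem (Subgroup.mem_zpowers c))
      have hcE : c ∈ E := ⟨hcS, by
        rw [e2, mul_inv_cancel_right] at e1
        exact mul_eq_one_iff_eq_inv.mpr e1⟩
      obtain ⟨ψ, hψ, hz, hE⟩ := hext x hx
      have hzA : ∀ a : ↥(Subgroup.zpowers x ⊔ E), ∀ s ∈ S, s * ψ a = ψ a * s := by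
        intro a s hs
        have hle : Subgroup.zpowers x ⊔ E ≤
            ((Subgroup.centralizer ({s} : Set Ω)).comap ψ).map (Subgroup.zpowers x ⊔ E).subtype :=
          sup_le (fun y hy => ⟨Subgroup.inclusion le_sup_left ⟨y, hy⟩,
              Subgroup.mem_centralizer_singleton_iff.mpr (hz ⟨y, hy⟩ s hs).symm, rfl⟩)
            (fun y hy => ⟨Subgroup.inclusion le_sup_right ⟨y, hy⟩,
              Subgroup.mem_centralizer_singleton_iff.mpr (hEc _ (hE ⟨y, hy⟩) s hs).symm, rfl⟩)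
        obtain ⟨a', ha', e⟩ := hle a.2
        rw [show a = a' from Subtype.ext e.symm]
        exact (Subgroup.mem_centralizer_singleton_iff.mp ha').symm
      have hgA : ∀ a ∈ Subgroup.zpowers x ⊔ E, g * a * g⁻¹ ∈ Subgroup.zpowers x ⊔ E := by
        have hle : Subgroup.zpowers x ⊔ E ≤ (Subgroup.zpowers x ⊔ E).comap (MulAut.conj g).toMonoidHom := by
          refine sup_le (Subgroup.zpowers_le.mpr ?_) fun e he => ?_
          · show g * x * g⁻¹ ∈ Subgroup.zpowers x ⊔ E
            rw [show g * x * g⁻¹ = c * x by rw [hc]; group]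
            exact mul_mem (Subgroup.mem_sup_right hcE) (Subgroup.mem_sup_left (Subgroup.mem_zpowers x))
          · show g * e * g⁻¹ ∈ Subgroup.zpowers x ⊔ E
            rw [hEc e he g hg, mul_inv_cancel_right]
            exact Subgroup.mem_sup_right he
        exact fun a ha => hle ha
      exact centralizes_of_map_central hS hF hψ hzA hg hgA x (Subgroup.mem_sup_left (Subgroup.mem_zpowers x))
  refine ⟨⟨fun a b => Subtype.ext ?_⟩⟩
  obtain ⟨k, hk⟩ := hS b
  exact main k b b.2 (congrArg Subtype.val hk) a a.2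

end Cfsg.Agent.S5274
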