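import Cfsg.Statements.S5275
import Cfsg.Agent.Lib.Fusion.AxiomaticCriterion
-- import your own Cfsg.Agent.* helpers here

set_option autoImplicit false
open Cfsg

namespace Cfsg.Agent.S5275

open Cfsg.FusionSystem CfsgLib.ZJ
open scoped commutatorElement

theorem family_facts {Ω : Type*} [Group Ω] {S : Subgroup Ω} [Finite S] (p : ℕ) [Fact p.Prime]
    (hS : IsPGroup p S) (F : Cfsg.FusionSystem S) (hp : p ≠ 2) {D : Subgroup Ω} (hD : F.StronglyClosed D) :
    (goodMax 0 D).Nonempty ∧ interAbove (goodMax 0 D) S = centerThompsonAOf D ∧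
      F.FamilyInvariant (goodMax 0 D) ∧ Replaceable S D (goodMax 0 D) := by
  have hDS := hD.1
  haveI : Finite D := finite_of_le hDS
  set D' : Subgroup S := D.subgroupOf S with hD'
  have hDm : D'.map S.subtype = D := by rw [hD', Subgroup.subgroupOf_map_subtype, inf_eq_left.mpr hDS]
  have hmap : goodMax 0 D = (fun A => A.map S.subtype) '' goodMax 0 D' := by
    rw [← hDm]
    exact goodMax_map 0 S.subtype_injective D'
  have hne : (goodMax 0 D).Nonempty := hmap ▸ (goodMax_nonempty 0 D').image _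
  refine ⟨hne, ?_, ?_, ?_⟩
  · rw [centerThompsonAOf_eq]
    apply le_antisymm
    · intro x hx
      obtain ⟨A, hA⟩ := hne
      refine ⟨le_thompsonJ hA (mem_interAbove.mp hx A hA (hA.1.trans hDS)), ?_⟩
      have h1 : thompsonJ 0 D ≤ Subgroup.centralizer {x} := sSup_le fun B hB y hy =>
        Subgroup.mem_centralizer_singleton_iff.mpr (hB.2.1.1 y hy x (mem_interAbove.mp hx B hB (hB.1.trans hDS)))
      exact fun y hy => Subgroup.mem_centralizer_singleton_iff.mp (h1 hy)
    · intro x hx
      refine mem_interAbove.mpr fun A hA _ => ?_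
      have hAD : Subgroup.closure (insert x (A : Set Ω)) ≤ D :=
        (Subgroup.closure_le D).mpr (Set.insert_subset (zj_le 0 D hx) hA.1)
      haveI hfin := finite_of_le (S := S) (hAD.trans hDS)
      have hg : IsGood 0 (Subgroup.closure (insert x (A : Set Ω))) := by
        refine isGood_closure ?_ fun y _ => pow_zero y
        rintro u (rfl | hu) v (rfl | hv)
        · rfl
        · exact (zj_commute hA hx hv).symm
        · exact zj_commute hA hx hu
        · exact hA.2.1.1 u hu v hv
      rw [@Subgroup.eq_of_le_of_card_ge _ _ A (Subgroup.closure (insert x (A : Set Ω))) hfin (fun y hy => Subgroup.subset_closure (Or.inr hy)) (hA.2.2 _ hAD hg)]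
      exact Subgroup.subset_closure (Set.mem_insert _ _)
  · intro Q hQ _ α hα x hx
    refine mem_interAbove.mpr fun A hA hAQ => ?_
    haveI := finite_of_le (S := S) hQ
    obtain ⟨φ, hφ, -, he⟩ := F.exists_map_of_mem_autGroup hQ ((F.autGroup Q).inv_mem hα)
    set A' : Subgroup Ω := ((A.subgroupOf Q).map (α⁻¹ : MulAut Q).toMonoidHom).map Q.subtype with hA'def
    have hA' : A' ∈ goodMax 0 D := by
      refine ⟨?_, ?_, fun B hB hBg => ?_⟩
      · rintro _ ⟨_, ⟨a, ha, rfl⟩, rfl⟩
        show (((α⁻¹ : MulAut Q) a : Q) : Ω) ∈ D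
        rw [← he]
        exact hD.apply_mem_of_mem hφ (hA.1 ha)
      · exact isGood_map _ (isGood_map _ (isGood_comap Q.subtype_injective hA.2.1))
      · rw [hA'def, Subgroup.card_map_of_injective Q.subtype_injective,
          Subgroup.card_map_of_injective (α⁻¹ : MulAut Q).injective,
          Nat.card_congr (Subgroup.subgroupOfEquivOfLe hAQ).toEquiv]
        exact hA.2.2 B hB hBg
    obtain ⟨_, ⟨a, ha, rfl⟩, e⟩ := mem_interAbove.mp hx A' hA' (Subgroup.map_subtype_le _)
    have hxa : α x = a := by rw [← Subtype.ext e]; exact MulAut.apply_inv_self _ _ _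
    rw [hxa]
    exact ha
  · intro B hBD hBn hcl hex
    set B' : Subgroup S := B.subgroupOf S with hB'
    have hBm : B'.map S.subtype = B := by rw [hB', Subgroup.subgroupOf_map_subtype, inf_eq_left.mpr (hBD.trans hDS)]
    have hcm : (⁅B', B'⁆ : Subgroup S).map S.subtype = ⁅B, B⁆ := by rw [Subgroup.map_commutator, hBm]
    have hB'n : ⊤ ≤ Subgroup.normalizer (B' : Set S) := fun s _ =>
      Subgroup.mem_normalizer_iff.mpr fun y => Subgroup.mem_normalizer_iff.mp (hBn s.2) (y : Ω)
    have hcen : ∀ b ∈ B', ∀ c ∈ B', ∀ d ∈ B', ⁅b, c⁆ * d = d * ⁅b, c⁆ := by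
      intro b hb c hc d hd
      refine Subtype.ext (commutatorElement_eq_one_iff_mul_comm.mp ?_)
      rw [← Subgroup.mem_bot, ← hcl]
      exact Subgroup.commutator_mem_commutator
        (hcm ▸ Subgroup.mem_map_of_mem _ (Subgroup.commutator_mem_commutator hb hc)) hd
    have hex' : {A : Subgroup S | A ∈ goodMax 0 D' ∧ ⁅B', B'⁆ ≤ A ∧ ¬ B' ≤ A}.Nonempty := by
      obtain ⟨_, hA, h1, h2⟩ := hex
      rw [hmap] at hA
      obtain ⟨A, hA, rfl⟩ := hA
      refine ⟨A, hA, ?_, fun h => h2 (hBm ▸ Subgroup.map_mono h)⟩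
      rwa [← Subgroup.map_le_map_iff_of_injective S.subtype_injective, hcm]
    obtain ⟨A, ⟨hA, hA1, hA2⟩, hmax⟩ := Set.exists_max_image _ (fun A => Nat.card ↥(A ⊓ B')) (Set.toFinite _) hex'
    have hnorm : B' ≤ Subgroup.normalizer (A : Set S) := by
      by_contra hnot
      have hcA : ∀ b ∈ B', ∀ c ∈ B', ⁅b, c⁆ ∈ A := fun b hb c hc => hA1 (Subgroup.commutator_mem_commutator hb hc)
      have hBD' : B' ≤ D' := fun b hb => hBD hb
      obtain ⟨A', hA', hlt, hA'N⟩ := replacement hp (Or.inl rfl) (hS.to_subgroup D') hBD'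
        (le_top.trans hB'n) hcen hA hcA hnot
      have h1 : ⁅B', B'⁆ ≤ A' :=
        (le_inf hA1 (Subgroup.commutator_le.mpr fun b hb c hc => by
          rw [commutatorElement_def]
          exact mul_mem (mul_mem (mul_mem hb hc) (inv_mem hb)) (inv_mem hc))).trans (hlt.le.trans inf_le_left)
      by_cases h2 : B' ≤ A'
      · exact hnot (h2.trans hA'N)
      · exact hlt.ne (Subgroup.eq_of_le_of_card_ge hlt.le (hmax A' ⟨hA', h1, h2⟩))
    refine ⟨A.map S.subtype, hmap ▸ ⟨A, hA, rfl⟩, hcm ▸ Subgroup.map_mono hA1, fun h => hA2 ?_, ?_⟩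
    · rwa [← hBm, Subgroup.map_le_map_iff_of_injective S.subtype_injective] at h
    · exact hBm ▸ (Subgroup.map_mono hnorm).trans (Subgroup.le_normalizer_map _)

/-- A Glauberman–Thompson nilpotency criterion for fusion systems relative to a strongly closed subgroup. Let p be an odd prime, F a saturated fusion system over a finite p-group S, and D a subgroup of S that is strongly closed in F. Let Z(J(D)) be the centre of the subgroup of D generated by the abelian subgroups of D of largest order. Then F is the inner fusion system of S if and only if the normalizer fusion system of Z(J(D)) in F is the inner fusion system of N_S(Z(J(D))) = S. -/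
theorem result {Ω : Type*} [Group Ω] {S : Subgroup Ω} [Finite S] (p : ℕ) [Fact p.Prime] (hS : IsPGroup p ↥S) (F : Cfsg.FusionSystem S) (hF : F.IsSaturated p) (hp : p ≠ 2) (D : Subgroup Ω) (hD : F.StronglyClosed D) : (∀ P : Subgroup Ω, F.Hom P = (Cfsg.innerFusionSystem S).Hom P) ↔ ∀ N : Cfsg.FusionSystem (Cfsg.FusionSystem.normalizerIn S (Cfsg.centerThompsonAOf D)), F.IsNormalizerSystem (Cfsg.centerThompsonAOf D) N → ∀ P : Subgroup Ω, N.Hom P = (Cfsg.innerFusionSystem (Cfsg.FusionSystem.normalizerIn S (Cfsg.centerThompsonAOf D))).Hom P := by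
  obtain ⟨hne, hI, hinv, hrep⟩ := family_facts p hS F hp hD
  have hDS := hD.1
  haveI : Finite D := finite_of_le hDS
  have hIS : Cfsg.centerThompsonAOf D ≤ S := (CfsgLib.ZJ.centerThompsonAOf_le D).trans hDS
  have hNs := F.normalizerSystem_isNormalizerSystem _ hIS
  constructor
  · intro h N hN
    exact (hN.isInner (normalizerInner_of_isInner (isInner_of_hom_eq h) hIS)).hom_eq
  · intro h
    have hab : ∀ A ∈ goodMax 0 D, A ≤ S ∧ IsMulCommutative A := fun A hA =>
      ⟨hA.1.trans hDS, ⟨⟨fun x y => Subtype.ext (hA.2.1.1 x x.2 y y.2)⟩⟩⟩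
    refine (hF.isInner_of_family hS hp hab hne hinv hD (hI ▸ CfsgLib.ZJ.centerThompsonAOf_le D) hrep ?_).hom_eq
    rw [hI]
    exact hNs.normalizerInner (isInner_of_hom_eq (h _ hNs))

end Cfsg.Agent.S5275
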