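import Cfsg.Statements.S5292
import Cfsg.Agent.Lib.Fusion.PSolvable
-- import your own Cfsg.Agent.* helpers here

set_option autoImplicit false
universe u
open Cfsg

namespace Cfsg.Agent.S5292

/-- Let F be a saturated fusion system over a finite p-group S. Then F is the fusion system of some finite p-solvable group on a Sylow p-subgroup if and only if F is constrained (some subgroup normal in F is centric in F) and the group of automorphisms that F induces on its largest normal subgroup O_p(F) is p-solvable. -/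
theorem result {Ω : Type u} [Group Ω] {S : Subgroup Ω} [Finite S] (p : ℕ) [Fact p.Prime] (hS : IsPGroup p S)
    (F : Cfsg.FusionSystem S) (hF : F.IsSaturated p) :
    (∃ (G : Type u) (_ : Group G) (_ : Finite G) (ι : S →* G), Cfsg.IsPSolvable p G ∧ F.IsRealizedBy ι ∧
        ∃ T : Sylow p G, (T : Subgroup G) = ι.range) ↔
      (F.IsConstrained p ∧ Cfsg.IsPSolvable p ↥(F.autGroup F.core)) := by
  constructor
  · rintro ⟨G, _, _, ι, hsol, hι, T, hT⟩
    let π := QuotientGroup.mk' (Cfsg.pPrimeCore p G)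
    have hπ : Function.Surjective π := QuotientGroup.mk'_surjective _
    have hι' := hι.quotient hS (Cfsg.pPrimeCore p G) (CfsgLib.card_pPrimeCore_coprime p)
    have hsol' := CfsgLib.PSolvableClosure.of_surjective π hπ hsol
    have hO : Cfsg.pPrimeCore p (G ⧸ Cfsg.pPrimeCore p G) = ⊥ := CfsgLib.pPrimeCore_quotient_eq_bot p
    have hM : F.IsModel p (G ⧸ Cfsg.pPrimeCore p G) (π.comp ι) := by
      refine ⟨inferInstance, hι', ⟨T.mapSurjective hπ, ?_⟩, CfsgLib.Blocks.hall_higman hsol' hO⟩
      rw [MonoidHom.range_comp, ← hT]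
      rfl
    obtain ⟨ρ, hρ, -⟩ := hM.exists_aut_hom hS
    exact ⟨hM.isConstrained' hS, CfsgLib.PSolvableClosure.of_surjective ρ hρ hsol'⟩
  · rintro ⟨hcon, hsol⟩
    obtain ⟨L, _, ι, hL⟩ := (hcon.setup_core hS).exists_isModel
    haveI := hL.1
    obtain ⟨ρ, hρ, hker⟩ := hL.exists_aut_hom hS
    haveI := Cfsg.FusionSystem.finite_autGroup (F := F) (Cfsg.FusionSystem.isNormal_core F).1
    exact ⟨L, _, hL.1, ι, CfsgLib.PSolvableClosure.of_isPGroup_ker ρ hρ hker hsol, hL.2.1, hL.2.2.1⟩

end Cfsg.Agent.S5292
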