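import Cfsg.Statements.S5295
import Cfsg.Agent.Lib.Fusion.CenterJ
import Cfsg.Agent.Lib.Fusion.CenterFactor
import Cfsg.Agent.Lib.Fusion.Model.Local
-- import your own Cfsg.Agent.* helpers here

set_option autoImplicit false
universe u
open Cfsg

namespace Cfsg.Agent.S5295

/-- Let F be a saturated fusion system over a finite p-group S with p odd. Then the centre Z(F) of F is a direct factor of Z(S): there is a subgroup K of Z(S) with Z(F) ∩ K = 1 and Z(F)K = Z(S). (At the prime 2 this can fail.) -/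
theorem result {Ω : Type u} [Group Ω] {S : Subgroup Ω} [Finite S] (p : ℕ) [Fact p.Prime] (hp : p ≠ 2) (hS : IsPGroup p S)
    (F : Cfsg.FusionSystem S) (hF : F.IsSaturated p) :
    ∃ K : Subgroup Ω, K ≤ (S ⊓ Subgroup.centralizer (S : Set Ω)) ∧ F.center ⊓ K = ⊥ ∧ F.center ⊔ K = (S ⊓ Subgroup.centralizer (S : Set Ω)) := by
  set W := Cfsg.thompsonSubgroupAOf S with hW
  have hWS : W ≤ S := Subgroup.map_subtype_le _
  have hT : Cfsg.FusionSystem.normalizerIn S W = S :=
    Cfsg.FusionSystem.normalizerIn_eq_of_le_normalizer (Subgroup.le_normalizer.trans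
      (Cfsg.FusionSystem.normalizer_le_normalizer_functorOn Cfsg.FusionSystem.jFunctor
        (fun Q R _ _ _ _ => Cfsg.FusionSystem.jFunctor_map Q R) hS))
  have hN := F.normalizerSystem_isNormalizerSystem W hWS
  haveI : Finite (Cfsg.FusionSystem.normalizerIn S W) := Cfsg.FusionSystem.finite_normalizerIn
  have hfn : F.IsFullyNormalized W := Cfsg.FusionSystem.isFullyNormalized_of_le_normalizer hWS
    (Subgroup.le_normalizer.trans
      (Cfsg.FusionSystem.normalizer_le_normalizer_functorOn Cfsg.FusionSystem.jFunctor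
        (fun Q R _ _ _ _ => Cfsg.FusionSystem.jFunctor_map Q R) hS))
  have hsat := hF.isSaturated_normalizerSystem hS hfn hN
  have heq := hF.center_eq_center_J hS (Or.inl hp) hN
  have hc := hsat.exists_center_complement (hS.to_le Cfsg.FusionSystem.normalizerIn_le) ?_
  · rw [heq, hT] at hc
    exact hc
  refine le_trans ?_ (hN.isNormal hWS).le_core
  rw [hT]
  rintro z ⟨hzS, hzc⟩
  obtain ⟨A, hA⟩ := CfsgLib.ZJ.goodMax_nonempty 0 (⊤ : Subgroup S)
  rw [CfsgLib.ZJ.goodMax_top_zero] at hA
  have hz : (⟨z, hzS⟩ : S) ∈ Subgroup.center S :=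
    Subgroup.mem_center_iff.mpr fun s => Subtype.ext (Subgroup.mem_centralizer_iff.mp hzc s s.2)
  haveI := hA.1
  have hcomm : IsMulCommutative ↥(A ⊔ Subgroup.center S) := by
    rw [← CfsgLib.ZJ.isGood_zero_iff, show A ⊔ Subgroup.center S = Subgroup.closure ((A : Set S) ∪ (Subgroup.center S : Set S)) by
      rw [Subgroup.closure_union, Subgroup.closure_eq, Subgroup.closure_eq]]
    refine CfsgLib.ZJ.isGood_closure (e := 0) ?_ fun _ _ => pow_zero _
    rintro a (ha | ha) b (hb | hb)
    · exact ((CfsgLib.ZJ.isGood_zero_iff A).mpr hA.1).1 a ha b hb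
    · exact Subgroup.mem_center_iff.mp hb a
    · exact (Subgroup.mem_center_iff.mp ha b).symm
    · exact Subgroup.mem_center_iff.mp hb a
  have h := Subgroup.eq_of_le_of_card_ge (le_sup_left : A ≤ A ⊔ Subgroup.center S) (hA.2 _ hcomm)
  exact ⟨⟨z, hzS⟩, le_sSup hA (h.ge (Subgroup.mem_sup_right hz)), rfl⟩

end Cfsg.Agent.S5295
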