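import Cfsg.Statements.S5296
import Cfsg.Agent.Lib.Fusion.SmallAbelianControl
import Cfsg.Agent.Lib.Fusion.Transfer.Tate
-- import your own Cfsg.Agent.* helpers here

set_option autoImplicit false
universe u
open Cfsg

namespace Cfsg.Agent.S5296

/-- Small-exponent abelian subgroups of the hyperfocal subgroup control fusion. Let E and F be saturated fusion systems over the same finite p-group S with E contained in F. Suppose that E and F have the same maps between A and B for all subgroups A, B of the hyperfocal subgroup of F that are elementary abelian when p is odd, respectively abelian of exponent dividing 4 when p = 2. Then E = F. -/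
theorem result {Ω : Type u} [Group Ω] {S : Subgroup Ω} [Finite S] (p : ℕ) [Fact p.Prime] (hS : IsPGroup p S)
    (E F : Cfsg.FusionSystem S) (hE : E.IsSaturated p) (hF : F.IsSaturated p) (hEF : E.IsSubsystemOf F)
    (hodd : p ≠ 2 → ∀ A B : Subgroup Ω, A ≤ (F.hyperfocalSubgroup p) → B ≤ (F.hyperfocalSubgroup p) →
      Cfsg.IsElementaryAbelian p A → Cfsg.IsElementaryAbelian p B → E.homSet A B = F.homSet A B)
    (htwo : p = 2 → ∀ A B : Subgroup Ω, A ≤ (F.hyperfocalSubgroup p) → B ≤ (F.hyperfocalSubgroup p) →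
      IsMulCommutative ↥A → IsMulCommutative ↥B → (∀ a ∈ A, a ^ 4 = 1) → (∀ b ∈ B, b ^ 4 = 1) → E.homSet A B = F.homSet A B) :
    ∀ P : Subgroup Ω, E.Hom P = F.Hom P := by
    classical
    intro P
    refine Set.Subset.antisymm (hEF P) (Cfsg.FusionSystem.hom_subset_of_small hS hE hF hEF
      (H := F.hyperfocalSubgroup p) ?_ ?_ ?_ P)
    · exact fun Q hQ α hα x => Subgroup.subset_closure ⟨Q, α, x, hQ, hα, rfl⟩
    · exact fun s hs t ht => Cfsg.FusionSystem.hyperfocalSubgroup_conj_mem ⟨s, hs⟩ ht
    · intro A B hA hB hAc hAe hBc hBe φ hφ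
      by_cases hp : p = 2
      · subst hp
        rw [htwo rfl A B (hA.trans inf_le_right) (hB.trans inf_le_right)
          ⟨⟨fun a b => Subtype.ext (hAc a a.2 b b.2)⟩⟩ ⟨⟨fun a b => Subtype.ext (hBc a a.2 b b.2)⟩⟩ hAe hBe]
        exact hφ
      · have he : CfsgLib.Small.smallExp p = p := if_neg hp
        rw [he] at hAe hBe
        rw [hodd hp A B (hA.trans inf_le_right) (hB.trans inf_le_right)
          ⟨⟨⟨fun a b => Subtype.ext (hAc a a.2 b b.2)⟩⟩, hAe⟩ ⟨⟨⟨fun a b => Subtype.ext (hBc a a.2 b b.2)⟩⟩, hBe⟩]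
        exact hφ

end Cfsg.Agent.S5296
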