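import Cfsg.Statements.S5297
import Cfsg.Agent.Lib.Fusion.SmallControl
import Cfsg.Agent.S5124
-- import your own Cfsg.Agent.* helpers here

set_option autoImplicit false
universe u
open Cfsg

namespace Cfsg.Agent.S5297

open Cfsg Cfsg.FusionSystem in
theorem aux {Ω : Type u} [Group Ω] {S : Subgroup Ω} [Finite S] (p : ℕ) [Fact p.Prime] (hS : IsPGroup p S)
    (F : Cfsg.FusionSystem S) (hF : F.IsSaturated p)
    (h : ∀ A B : Subgroup Ω, A ≤ (F.hyperfocalSubgroup p) → B ≤ (F.hyperfocalSubgroup p) → IsCyclic ↥A → (Nat.card ↥A = p ∨ Nat.card ↥A = 4) → IsCyclic ↥B → (Nat.card ↥B = p ∨ Nat.card ↥B = 4) →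
      F.homSet A B ⊆ F.normalizerHom S A) :
    F.IsNormal S := by
  let H := F.hyperfocalSubgroup p
  have hH : F.StronglyClosed H := Cfsg.Agent.S5124.result p hS F hF
  obtain ⟨n, hn⟩ := exists_zSeries_eq (S := S) hS.isNilpotent
  refine hF.isNormal_self_of_pSubgroup hS fun P hP => ?_
  have hPS : P ≤ S := hP.1.1
  have hC : ∀ α ∈ F.autGroup P, ∀ x : P, (x : Ω) ∈ H → (x : Ω) ^ CfsgLib.Small.smallExp p = 1 →
      ∀ i, (x : Ω) ∈ zSeries S i → ((α x : P) : Ω) ∈ zSeries S i := by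
    intro α hα x hxH hx i hi
    by_cases hne : (x : Ω) = 1
    · rw [show x = 1 from Subtype.ext hne, map_one, Subgroup.coe_one]
      exact one_mem _
    obtain ⟨A, B, hA, hB, hAc, hBc, hAn, hBn, hxA, φ, hφ, he⟩ := exists_map_small hS hH hPS hα hxH hx hne
    obtain ⟨-, -, -, ψ, hψ, hψe, hψS⟩ := h A B hA hB hAc hAn hBc hBn hφ
    have hr : (ψ.comp (Subgroup.inclusion (le_sup_right : S ≤ A ⊔ S))).range = S := by
      refine Eq.trans ?_ hψS
      ext y
      constructor
      · rintro ⟨z, rfl⟩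
        exact ⟨_, z.2, rfl⟩
      · rintro ⟨z, hz, rfl⟩
        exact ⟨⟨z, hz⟩, rfl⟩
    have h1 := apply_mem_zSeries (F.isoOf (F.restrict_mem hψ le_sup_right) hr) (hPS x.2) hi
    rw [coe_isoOf] at h1
    rw [← he, ← hψe ⟨x, hxA⟩]
    exact h1
  obtain ⟨K, hK1, hK2, hK3, hK4⟩ := exists_pSubgroup_of_series hS hPS H
    (fun α hα x hx => hH.autGroup_apply_mem hPS hα x hx)
    (fun α hα hp x => hyperfocal_gen_mem hPS hα hp x) (zSeries S) zSeries_zero
    (inf_le_left.trans (hPS.trans hn.ge)) hC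
  refine ⟨K, hK1, hK2, hK3, fun α hα => hK4 α (autInducedBy_le_autGroup hPS hα) fun x _ _ i hi => ?_⟩
  obtain ⟨g, hg, -, he⟩ := mem_autInducedBy_iff.mp hα
  rw [he]
  exact inv_mul_conj_mem_zSeries hi hg

/-- Let F be a saturated fusion system over a finite p-group S. If every map of F between cyclic subgroups of the hyperfocal subgroup of F of order p or 4 is a map of the normalizer system of S (it extends to a map of F defined on all of S), then S is normal in F. -/
theorem result {Ω : Type u} [Group Ω] {S : Subgroup Ω} [Finite S] (p : ℕ) [Fact p.Prime] (hS : IsPGroup p S)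
    (F : Cfsg.FusionSystem S) (hF : F.IsSaturated p)
    (h : ∀ A B : Subgroup Ω, A ≤ (F.hyperfocalSubgroup p) → B ≤ (F.hyperfocalSubgroup p) → IsCyclic ↥A → (Nat.card ↥A = p ∨ Nat.card ↥A = 4) → IsCyclic ↥B → (Nat.card ↥B = p ∨ Nat.card ↥B = 4) →
      F.homSet A B ⊆ F.normalizerHom S A) :
    F.IsNormal S := by
  exact aux p hS F hF h

end Cfsg.Agent.S5297
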