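import Cfsg.Statements.S5298
import Cfsg.Agent.Lib.Fusion.SmallControl
import Cfsg.Agent.Lib.Fusion.Inner
import Cfsg.Agent.S5124
-- import your own Cfsg.Agent.* helpers here

set_option autoImplicit false
universe u
open Cfsg

namespace Cfsg.Agent.S5298

open Cfsg Cfsg.FusionSystem in
theorem aux {Ω : Type u} [Group Ω] {S : Subgroup Ω} [Finite S] (p : ℕ) [Fact p.Prime] (hS : IsPGroup p S)
    (F : Cfsg.FusionSystem S) (hF : F.IsSaturated p)
    (h : ∀ A B : Subgroup Ω, A ≤ (F.hyperfocalSubgroup p) → B ≤ (F.hyperfocalSubgroup p) → IsCyclic ↥A → (Nat.card ↥A = p ∨ Nat.card ↥A = 4) → IsCyclic ↥B → (Nat.card ↥B = p ∨ Nat.card ↥B = 4) →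
      F.homSet A B ⊆ (Cfsg.innerFusionSystem S).Hom A) :
    ∀ P : Subgroup Ω, F.Hom P = (Cfsg.innerFusionSystem S).Hom P := by
  let H := F.hyperfocalSubgroup p
  have hH : F.StronglyClosed H := Cfsg.Agent.S5124.result p hS F hF
  obtain ⟨n, hn⟩ := exists_zSeries_eq (S := S) hS.isNilpotent
  refine fun P₀ => hF.eq_inner_of_isPGroup hS (fun P hPS => ?_) P₀
  have key : ∀ α ∈ F.autGroup P, ∀ x : P, (x : Ω) ∈ H → (x : Ω) ^ CfsgLib.Small.smallExp p = 1 →
      ∃ s ∈ S, ((α x : P) : Ω) = s * (x : Ω) * s⁻¹ := by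
    intro α hα x hxH hx
    by_cases hne : (x : Ω) = 1
    · exact ⟨1, one_mem _, by rw [show x = 1 from Subtype.ext hne, map_one]; simp⟩
    obtain ⟨A, B, hA, hB, hAc, hBc, hAn, hBn, hxA, φ, hφ, he⟩ := exists_map_small hS hH hPS hα hxH hx hne
    obtain ⟨-, s, hs, hse⟩ := h A B hA hB hAc hAn hBc hBn hφ
    exact ⟨s, hs, by rw [← he, hse]⟩
  obtain ⟨K, hK1, hK2, hK3, hK4⟩ := exists_pSubgroup_of_series hS hPS H
    (fun α hα x hx => hH.autGroup_apply_mem hPS hα x hx)
    (fun α hα hp x => hyperfocal_gen_mem hPS hα hp x) (zSeries S) zSeries_zero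
    (inf_le_left.trans (hPS.trans hn.ge)) (fun α hα x hxH hx i hi => by
      obtain ⟨s, hs, hse⟩ := key α hα x hxH hx
      rw [hse]
      obtain ⟨y, hy, hye⟩ := hi
      refine ⟨⟨s, hs⟩ * y * ⟨s, hs⟩⁻¹, (inferInstance : (Subgroup.upperCentralSeries S i).Normal).conj_mem y hy _, ?_⟩
      rw [← hye]
      rfl)
  intro a
  have hle : (a : MulAut P) ∈ K := hK4 a a.2 fun x hxH hx i hi => by
    obtain ⟨s, hs, hse⟩ := key a a.2 x hxH hx
    rw [hse]
    exact inv_mul_conj_mem_zSeries hi hs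
  obtain ⟨k, hk⟩ := hK2 ⟨a, hle⟩
  exact ⟨k, Subtype.ext (by simpa using congrArg Subtype.val hk)⟩

/-- Let F be a saturated fusion system over a finite p-group S. If every map of F between cyclic subgroups of the hyperfocal subgroup of F of order p or 4 is conjugation by an element of S, then F is the inner fusion system of S. -/
theorem result {Ω : Type u} [Group Ω] {S : Subgroup Ω} [Finite S] (p : ℕ) [Fact p.Prime] (hS : IsPGroup p S)
    (F : Cfsg.FusionSystem S) (hF : F.IsSaturated p)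
    (h : ∀ A B : Subgroup Ω, A ≤ (F.hyperfocalSubgroup p) → B ≤ (F.hyperfocalSubgroup p) → IsCyclic ↥A → (Nat.card ↥A = p ∨ Nat.card ↥A = 4) → IsCyclic ↥B → (Nat.card ↥B = p ∨ Nat.card ↥B = 4) →
      F.homSet A B ⊆ (Cfsg.innerFusionSystem S).Hom A) :
    ∀ P : Subgroup Ω, F.Hom P = (Cfsg.innerFusionSystem S).Hom P := by
  exact aux p hS F hF h

end Cfsg.Agent.S5298
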