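import Cfsg.Statements.S5299
import Cfsg.Agent.Lib.Fusion.Saturation
import Cfsg.Agent.Lib.QdSection
-- import your own Cfsg.Agent.* helpers here

set_option autoImplicit false
universe u
open Cfsg

namespace Cfsg.Agent.S5299

/-- Let F be a saturated fusion system over a finite p-group S, H a finite group and Q a p-subgroup of H. If Q is not involved in S (no section of S is isomorphic to Q), then F is H-free: H is involved in no model of the normalizer system of a fully normalized centric subgroup. -/
theorem result {Ω : Type u} [Group Ω] {S : Subgroup Ω} [Finite S] (p : ℕ) [Fact p.Prime] (hS : IsPGroup p S)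
    (F : Cfsg.FusionSystem S) (hF : F.IsSaturated p) (H : Type*) [Group H] [Finite H] (Q : Subgroup H) (hQ : IsPGroup p Q)
    (hfree : ¬ Cfsg.Involves (↥Q) (↥S)) : F.IsSectionFree p H := by
  intro Q' _ _ N _ L _ ι hM hI
  obtain ⟨hfinL, ⟨hι, -⟩, ⟨T, hT⟩, -⟩ := hM
  obtain ⟨K, R, hR, ⟨e⟩⟩ := hI
  apply hfree
  let f : K →* H := e.toMonoidHom.comp (QuotientGroup.mk' (R.subgroupOf K))
  have hf : Function.Surjective f := e.surjective.comp (QuotientGroup.mk'_surjective _)
  let g : Q.comap f →* Q := f.subgroupComap Q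
  have hg : Function.Surjective g := fun q => by
    obtain ⟨k, hk⟩ := hf q
    exact ⟨⟨k, Subgroup.mem_comap.mpr (hk ▸ q.2)⟩, Subtype.ext hk⟩
  obtain ⟨P⟩ : Nonempty (Sylow p (Q.comap f)) := Sylow.nonempty
  have hPQ : (P : Subgroup (Q.comap f)).map g = ⊤ := by
    exact ((P.mapSurjective hg).3 (Q := ⊤) (hQ.of_equiv Subgroup.topEquiv.symm) le_top).symm
  -- the Sylow subgroup of `L` receives `P`
  let i0 : Q.comap f →* L := K.subtype.comp (Q.comap f).subtype
  let i : (P : Subgroup (Q.comap f)) →* L := i0.comp (P : Subgroup (Q.comap f)).subtype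
  have hi : Function.Injective i :=
    (K.subtype_injective.comp (Q.comap f).subtype_injective).comp (P : Subgroup (Q.comap f)).subtype_injective
  obtain ⟨a, ha⟩ := Cfsg.exists_conj_mem_sylow T (X := i.range)
    ((P.2.map i0).to_le (le_of_eq (by rw [MonoidHom.range_comp, Subgroup.range_subtype])))
  have hmem : ∀ x, a * i x * a⁻¹ ∈ ι.range := fun x => hT.le (ha _ ⟨x, rfl⟩)
  let j : (P : Subgroup (Q.comap f)) →* ι.range :=
    ((MulAut.conj a).toMonoidHom.comp i).codRestrict ι.range hmem
  have hj : Function.Injective j := fun x y h => hi ((MulAut.conj a).injective (congrArg Subtype.val h))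
  let k : (P : Subgroup (Q.comap f)) →* S := (Subgroup.inclusion inf_le_left).comp
    ((MonoidHom.ofInjective hι).symm.toMonoidHom.comp j)
  have hk : Function.Injective k :=
    (Subgroup.inclusion_injective inf_le_left).comp ((MonoidHom.ofInjective hι).symm.injective.comp hj)
  refine CfsgLib.QdSection.involves_of_surjective k.range
    ((g.comp (P : Subgroup (Q.comap f)).subtype).comp (MonoidHom.ofInjective hk).symm.toMonoidHom) ?_
  intro q
  obtain ⟨x, hx, e⟩ := (hPQ.symm ▸ Subgroup.mem_top q : q ∈ (P : Subgroup (Q.comap f)).map g)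
  refine ⟨MonoidHom.ofInjective hk ⟨x, hx⟩, ?_⟩
  show g (((MonoidHom.ofInjective hk).symm (MonoidHom.ofInjective hk ⟨x, hx⟩) : (P : Subgroup (Q.comap f))) : Q.comap f) = q
  rw [MulEquiv.symm_apply_apply]
  exact e

end Cfsg.Agent.S5299
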