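import Cfsg.Statements.S5300
import Cfsg.Agent.Lib.Fusion.SmallControl
import Cfsg.Agent.Lib.Fusion.Hyperfocal
-- import your own Cfsg.Agent.* helpers here

set_option autoImplicit false
universe u
open Cfsg

namespace Cfsg.Agent.S5300

theorem conj_eq_self_of_prime_order {Ω : Type*} [Group Ω] {S : Subgroup Ω} {p : ℕ} [Fact p.Prime]
    (hS : IsPGroup p S) {x s : Ω} (hs : s ∈ S) (hx : x ^ p = 1) (h : s * x * s⁻¹ ∈ Subgroup.zpowers x) :
    s * x * s⁻¹ = x := by
  obtain ⟨m, hm⟩ := Subgroup.mem_zpowers_iff.mp h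
  have key : ∀ n : ℕ, s ^ n * x * (s ^ n)⁻¹ = x ^ (m ^ n : ℤ) := by
    intro n
    induction n with
    | zero => simp
    | succ n ih =>
      rw [pow_succ m, mul_comm (m ^ n) m, zpow_mul, hm, conj_zpow, ← ih, pow_succ', mul_inv_rev]
      simp [mul_assoc]
  by_cases h1 : x = 1
  · simp [h1]
  obtain ⟨k, hk⟩ := hS ⟨s, hs⟩
  have hk' : s ^ p ^ k = 1 := congrArg Subtype.val hk
  have h2 := key (p ^ k)
  rw [hk', one_mul, inv_one, mul_one] at h2
  have hord : orderOf x = p := orderOf_eq_prime hx h1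
  have h3 : ((m ^ (p ^ k) : ℤ) : ZMod p) = ((1 : ℤ) : ZMod p) := by
    rw [ZMod.intCast_eq_intCast_iff]
    have := zpow_eq_zpow_iff_modEq.mp (h2.symm.trans (zpow_one x).symm)
    rwa [hord] at this
  rw [Int.cast_pow, ZMod.pow_card_pow] at h3
  rw [← hm]
  conv_rhs => rw [← zpow_one x]
  rw [zpow_eq_zpow_iff_modEq, hord, ← ZMod.intCast_eq_intCast_iff]
  exact h3

open Cfsg Cfsg.FusionSystem CfsgLib.Small in
theorem aux {Ω : Type u} [Group Ω] {S : Subgroup Ω} [Finite S] (p : ℕ) [Fact p.Prime] (hS : IsPGroup p S)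
    (F : Cfsg.FusionSystem S) (hF : F.IsSaturated p)
    (hnorm : ∀ x ∈ F.focalSubgroup, (x ^ p = 1 ∨ (p = 2 ∧ x ^ 4 = 1)) → ∀ s ∈ S, s * x * s⁻¹ ∈ Subgroup.zpowers x) :
    F.IsNormal S := by
  let H := F.focalSubgroup
  have hHS : H ≤ S := hF.focalSubgroup_le hS (Subgroup.commutator_le.mpr fun a ha b hb =>
    S.mul_mem (S.mul_mem (S.mul_mem ha hb) (S.inv_mem ha)) (S.inv_mem hb)) hyperfocalSubgroup_le
  have hcent : ∀ x ∈ H, x ^ p = 1 → ∀ s ∈ S, s * x * s⁻¹ = x := fun x hx hxp s hs =>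
    conj_eq_self_of_prime_order hS hs hxp (hnorm x hx (Or.inl hxp) s hs)
  have hcomm : ∀ x ∈ H, x ^ p = 1 → ∀ s ∈ S, Commute s x := fun x hx hxp s hs =>
    mul_inv_eq_iff_eq_mul.mp (hcent x hx hxp s hs)
  let W : Subgroup Ω :=
    { carrier := {x | x ∈ H ∧ x ^ p = 1}
      one_mem' := ⟨one_mem _, one_pow _⟩
      mul_mem' := fun {a b} ha hb => ⟨mul_mem ha.1 hb.1, by
        rw [(hcomm b hb.1 hb.2 a (hHS ha.1)).mul_pow, ha.2, hb.2, one_mul]⟩
      inv_mem' := fun {a} ha => ⟨InvMemClass.inv_mem ha.1, by rw [inv_pow, ha.2, inv_one]⟩ }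
  let C : ℕ → Subgroup Ω := fun i => match i with
    | 0 => ⊥
    | 1 => W
    | _ + 2 => ⊤
  refine hF.isNormal_self_of_pSubgroup hS fun P hP => ?_
  have hPS : P ≤ S := hP.1.1
  have hinv : ∀ α ∈ F.autGroup P, ∀ x : P, (x : Ω) ∈ H → ((α x : P) : Ω) ∈ H := by
    intro α hα x hx
    have := mul_mem hx (focal_gen_mem ((F.mem_autGroup_iff hPS).mp hα) x)
    rwa [mul_inv_cancel_left] at this
  obtain ⟨K, hK1, hK2, hK3, hK4⟩ := exists_pSubgroup_of_series hS hPS H hinv
    (fun α hα _ x => focal_gen_mem ((F.mem_autGroup_iff hPS).mp hα) x) C rfl (n := 2) le_top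
    (fun α hα x hxH _ i hi => by
      rcases i with _ | _ | j
      case zero =>
        have : x = 1 := Subtype.ext hi
        rw [this, map_one]
        exact one_mem _
      case succ.zero =>
        refine ⟨hinv α hα x hxH, ?_⟩
        have : x ^ p = 1 := Subtype.ext hi.2
        rw [← Subgroup.coe_pow, ← map_pow, this, map_one, Subgroup.coe_one]
      case succ.succ => trivial)
  refine ⟨K, hK1, hK2, hK3, fun α hα => hK4 α (autInducedBy_le_autGroup hPS hα) fun x hxH hx i hi => ?_⟩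
  obtain ⟨g, hg, -, he⟩ := mem_autInducedBy_iff.mp hα
  rw [he]
  rcases i with _ | _ | j
  case zero =>
    rw [hcent x hxH hi.2 g hg, inv_mul_cancel]
    exact one_mem _
  case succ.zero =>
    obtain ⟨t, ht⟩ := dvd_smallExp p
    have hxp : ((x : Ω) ^ p) ^ p = 1 := by
      rw [← pow_mul]
      apply orderOf_dvd_iff_pow_eq_one.mp
      refine (orderOf_dvd_of_pow_eq_one hx).trans ?_
      unfold smallExp
      split
      · subst_vars; norm_num
      · exact dvd_mul_left _ _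
    have hconj : g * (x : Ω) * g⁻¹ ∈ H := by
      have := hinv α (autInducedBy_le_autGroup hPS hα) x hxH
      rwa [he] at this
    refine ⟨mul_mem (InvMemClass.inv_mem hxH) hconj, ?_⟩
    obtain ⟨m, hm⟩ := Subgroup.mem_zpowers_iff.mp
      (hnorm x hxH ((pow_smallExp_eq_one_iff _).mp hx) g hg)
    have hc : Commute (x : Ω)⁻¹ (g * (x : Ω) * g⁻¹) := by
      rw [← hm]
      exact ((Commute.refl (x : Ω)).zpow_right m).inv_left
    rw [hc.mul_pow, conj_pow, hcent _ (pow_mem hxH p) hxp g hg, inv_pow, inv_mul_cancel]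
  case succ.succ => trivial

/-- Let F be a saturated fusion system over a finite p-group S. If every cyclic subgroup of the focal subgroup of F of order p (of order 2 or 4 when p = 2) is normal in S, then S is normal in F. -/
theorem result {Ω : Type u} [Group Ω] {S : Subgroup Ω} [Finite S] (p : ℕ) [Fact p.Prime] (hS : IsPGroup p S)
    (F : Cfsg.FusionSystem S) (hF : F.IsSaturated p)
    (hnorm : ∀ x ∈ F.focalSubgroup, (x ^ p = 1 ∨ (p = 2 ∧ x ^ 4 = 1)) → ∀ s ∈ S, s * x * s⁻¹ ∈ Subgroup.zpowers x) :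
    F.IsNormal S := by
  exact aux p hS F hF hnorm

end Cfsg.Agent.S5300
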