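import Cfsg.Statements.S5301
import Cfsg.Agent.Lib.Fusion.Normal
-- import your own Cfsg.Agent.* helpers here

set_option autoImplicit false
universe u
open Cfsg

namespace Cfsg.Agent.S5301

/-- Let F be a saturated fusion system over a finite p-group S. If for every subgroup P of S that is fully normalized, centric and radical in F the automorphism group that F induces on P has a normal Sylow p-subgroup, then S is normal in F. -/
theorem result {Ω : Type u} [Group Ω] {S : Subgroup Ω} [Finite S] (p : ℕ) [Fact p.Prime] (hS : IsPGroup p S)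
    (F : Cfsg.FusionSystem S) (hF : F.IsSaturated p)
    (hcl : ∀ P : Subgroup Ω, F.IsFullyNormalized P → F.IsCentric P → F.IsRadical p P →
      ∃ R : Sylow p ↥(F.autGroup P), (R : Subgroup ↥(F.autGroup P)).Normal) :
    F.IsNormal S := by
  refine hF.isNormal_of_invariant hS fun P hP => ?_
  rcases hP with rfl | hP
  · refine ⟨le_rfl, fun α _ => ?_⟩
    rw [Subgroup.subgroupOf_self]
    exact Subgroup.map_top_of_surjective _ α.surjective
  · exfalso
    have hlt := hP.lt hS hF
    have hr := hP.isRadical hS hF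
    have hfin := Cfsg.FusionSystem.finite_autGroup (F := F) hlt.le
    obtain ⟨R, hR⟩ := hcl P hP.2.1 hP.1 hr
    obtain ⟨-, T, hT⟩ := hF.isFullyAutomized_of_isFullyNormalized hS hP.2.1
    obtain rfl : R = T := by
      obtain ⟨a, rfl⟩ := MulAction.exists_smul_eq (↥(F.autGroup P)) R T
      exact (Sylow.smul_eq_of_normal (h := hR)).symm
    have hle : (R : Subgroup ↥(F.autGroup P)) ≤ Cfsg.pCore p ↥(F.autGroup P) :=
      CfsgLib.le_pCore R.2
    obtain ⟨g, hg, hgP⟩ := SetLike.exists_of_lt (Cfsg.FusionSystem.lt_normalizerIn (p := p) hS hlt)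
    have hc : P.normalizerMonoidHom ⟨g, hg.2⟩ ∈ Cfsg.autInducedBy S P :=
      Cfsg.mem_autInducedBy_iff.mpr ⟨g, hg.1, hg.2, fun _ => rfl⟩
    obtain ⟨u, hu⟩ := hr.2.le ⟨⟨_, Cfsg.FusionSystem.autInducedBy_le_autGroup hlt.le hc⟩,
      hle (hT.ge hc), rfl⟩
    apply hgP
    have hz : (u : Ω)⁻¹ * g ∈ Cfsg.FusionSystem.centralizerIn S P := by
      refine ⟨S.mul_mem (S.inv_mem (hlt.le u.2)) hg.1, Subgroup.mem_centralizer_iff.mpr fun y hy => ?_⟩
      have h1 : (u : Ω) * y * (u : Ω)⁻¹ = g * y * g⁻¹ :=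
        congrArg (fun f : MulAut P => ((f ⟨y, hy⟩ : P) : Ω)) hu
      calc y * ((u : Ω)⁻¹ * g) = (u : Ω)⁻¹ * ((u : Ω) * y * (u : Ω)⁻¹) * g := by group
        _ = (u : Ω)⁻¹ * g * y := by rw [h1]; group
    have := P.mul_mem u.2 (hP.1.centralizerIn_le_self hz)
    rwa [mul_inv_cancel_left] at this

end Cfsg.Agent.S5301
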