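import Cfsg.Statements.S5306
import Mathlib.GroupTheory.Sylow
-- import your own Cfsg.Agent.* helpers here

set_option autoImplicit false
open Cfsg

namespace Cfsg.Agent.S5306

theorem eq_of_le_sylow {X : Type*} [Group X] [Finite X] {p : ℕ} [Fact p.Prime] (P : Sylow p X) (J : Subgroup X)
    (hJ : J = Cfsg.thompsonSubgroupOf p (P : Subgroup X)) {Q : Subgroup X} (hQ : IsPGroup p Q) (hJQ : J ≤ Q)
    {g : X} (hg : J.map (MulAut.conj g).toMonoidHom ≤ Q) : J.map (MulAut.conj g).toMonoidHom = J := by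
  classical
  have key : ∀ a : X, J.map (MulAut.conj a).toMonoidHom ≤ (P : Subgroup X) → J.map (MulAut.conj a).toMonoidHom ≤ J := by
    intro a ha
    have hgen : J = sSup ((fun A => A.map (P : Subgroup X).subtype) '' Cfsg.maxElementaryAbelianSubgroups p (P : Subgroup X)) := by
      rw [hJ, Cfsg.thompsonSubgroupOf, Cfsg.thompsonSubgroup, (Subgroup.gc_map_comap _).l_sSup, sSup_image]
    rw [Subgroup.map_le_iff_le_comap]
    conv_lhs => rw [hgen]
    refine sSup_le ?_
    rintro _ ⟨A, hA, rfl⟩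
    rw [← Subgroup.map_le_iff_le_comap]
    set A' := (A.map (P : Subgroup X).subtype).map (MulAut.conj a).toMonoidHom
    have hAJ : A.map (P : Subgroup X).subtype ≤ J := by
      rw [hgen]
      exact le_sSup ⟨A, hA, rfl⟩
    have hA'P : A' ≤ (P : Subgroup X) := (Subgroup.map_mono hAJ).trans ha
    have hmem : A'.subgroupOf (P : Subgroup X) ∈ Cfsg.maxElementaryAbelianSubgroups p (P : Subgroup X) := by
      have hc : Nat.card (A'.subgroupOf (P : Subgroup X)) = Nat.card A := by
        rw [Nat.card_congr (Subgroup.subgroupOfEquivOfLe hA'P).toEquiv,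
          Subgroup.card_map_of_injective (f := (MulAut.conj a : X ≃* X).toMonoidHom) (MulEquiv.injective _),
          Subgroup.card_map_of_injective (Subgroup.subtype_injective _)]
      refine ⟨⟨⟨⟨?_⟩⟩, ?_⟩, fun B hB => (hA.2 B hB).trans hc.ge⟩
      · rintro ⟨u, hu⟩ ⟨v, hv⟩
        obtain ⟨_, ⟨u', hu', rfl⟩, hue⟩ := hu
        obtain ⟨_, ⟨v', hv', rfl⟩, hve⟩ := hv
        have := hA.1.1.1.comm ⟨u', hu'⟩ ⟨v', hv'⟩
        have h' : (u' : X) * v' = v' * u' := congrArg (fun z : A => ((z : (P : Subgroup X)) : X)) this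
        apply Subtype.ext
        apply Subtype.ext
        show (u : X) * v = v * u
        rw [← Subgroup.subtype_apply u, ← hue, ← Subgroup.subtype_apply v, ← hve, ← map_mul, ← map_mul]
        simp only [Subgroup.coe_subtype, Subgroup.coe_mul]
        rw [h', map_mul]
      · rintro u ⟨_, ⟨u', hu', rfl⟩, hue⟩
        have := hA.1.2 u' hu'
        have h' : (u' : X) ^ p = 1 := congrArg Subtype.val this
        apply Subtype.ext
        show (u : X) ^ p = 1
        rw [← Subgroup.subtype_apply u, ← hue, ← map_pow]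
        simp only [Subgroup.coe_subtype]
        rw [h', map_one]
    have := le_sSup (s := (fun A => A.map (P : Subgroup X).subtype) '' Cfsg.maxElementaryAbelianSubgroups p (P : Subgroup X)) ⟨_, hmem, rfl⟩
    simp only at this
    rw [← hgen, Subgroup.map_subgroupOf_eq_of_le hA'P] at this
    exact this
  obtain ⟨T, hT⟩ := hQ.exists_le_sylow
  obtain ⟨b, hb⟩ := MulAction.exists_smul_eq X T P
  have hmove : ∀ h : X, J.map (MulAut.conj h).toMonoidHom ≤ Q →
      J.map (MulAut.conj (b * h)).toMonoidHom = J := by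
    intro h hh
    have hle : J.map (MulAut.conj (b * h)).toMonoidHom ≤ J := by
      refine key _ ?_
      rintro _ ⟨x, hx, rfl⟩
      rw [← hb, Sylow.coe_subgroup_smul, Subgroup.mem_pointwise_smul_iff_inv_smul_mem]
      have := hT (hh ⟨x, hx, rfl⟩)
      simpa [MulAut.conj_symm_apply, mul_assoc] using this
    exact Subgroup.eq_of_le_of_card_ge hle (Subgroup.card_map_of_injective (f := (MulAut.conj (b * h) : X ≃* X).toMonoidHom) (MulEquiv.injective _)).ge
  have h1 := hmove 1 (by
    rintro _ ⟨x, hx, rfl⟩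
    simpa using hJQ hx)
  have h2 := hmove g hg
  rw [mul_one] at h1
  refine Subgroup.map_injective (f := (MulAut.conj b).toMonoidHom) (MulEquiv.injective (MulAut.conj b)) ?_
  calc (J.map (MulAut.conj g).toMonoidHom).map (MulAut.conj b).toMonoidHom
      = J.map (MulAut.conj (b * g)).toMonoidHom := by
        rw [Subgroup.map_map]
        congr 1
        ext x
        simp [mul_assoc]
    _ = J.map (MulAut.conj b).toMonoidHom := h2.trans h1.symm

/-- Let P be a Sylow p-subgroup of the finite group X and J = J(P) its Thompson subgroup (generated by the elementary abelian subgroups of P of largest order). If x and y lie in the centre of J and y = g x g⁻¹ for some g in X, then y = n x n⁻¹ for some n in the normalizer N_X(J). -/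
theorem result {X : Type*} [Group X] [Finite X] (p : ℕ) [Fact p.Prime] (P : Sylow p X) (J : Subgroup X) (hJ : J = Cfsg.thompsonSubgroupOf p (P : Subgroup X))
    (x y : X) (hx : x ∈ J ∧ ∀ j ∈ J, Commute j x) (hy : y ∈ J ∧ ∀ j ∈ J, Commute j y) (g : X) (hg : g * x * g⁻¹ = y) :
    ∃ n ∈ Subgroup.normalizer (J : Set X), n * x * n⁻¹ = y := by
  classical
  let C : Subgroup X := Subgroup.centralizer {y}
  have hJp : IsPGroup p J := P.2.to_le (hJ ▸ Subgroup.map_subtype_le _)
  have hJC : J ≤ C := fun j hj => Subgroup.mem_centralizer_singleton_iff.mpr (hy.2 j hj).eq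
  have hJgC : J.map (MulAut.conj g).toMonoidHom ≤ C := by
    rintro _ ⟨j, hj, rfl⟩
    refine Subgroup.mem_centralizer_singleton_iff.mpr ?_
    rw [← hg]
    show g * j * g⁻¹ * (g * x * g⁻¹) = g * x * g⁻¹ * (g * j * g⁻¹)
    calc g * j * g⁻¹ * (g * x * g⁻¹) = g * (j * x) * g⁻¹ := by group
      _ = _ := by rw [(hx.2 j hj).eq]; group
  obtain ⟨R, hR⟩ := (hJp.of_equiv (Subgroup.subgroupOfEquivOfLe hJC).symm).exists_le_sylow
  obtain ⟨R', hR'⟩ := ((hJp.map (MulAut.conj g).toMonoidHom).of_equiv (Subgroup.subgroupOfEquivOfLe hJgC).symm).exists_le_sylow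
  obtain ⟨c, hc⟩ := MulAction.exists_smul_eq C R' R
  have hQ : IsPGroup p ((R : Subgroup C).map C.subtype) := R.2.map _
  have hJQ : J ≤ (R : Subgroup C).map C.subtype := fun j hj => ⟨⟨j, hJC hj⟩, hR hj, rfl⟩
  have hcg : J.map (MulAut.conj ((c : X) * g)).toMonoidHom ≤ (R : Subgroup C).map C.subtype := by
    rintro _ ⟨j, hj, rfl⟩
    have h1 : (⟨g * j * g⁻¹, hJgC ⟨j, hj, rfl⟩⟩ : C) ∈ (R' : Subgroup C) := hR' ⟨j, hj, rfl⟩
    refine ⟨c * ⟨g * j * g⁻¹, hJgC ⟨j, hj, rfl⟩⟩ * c⁻¹, ?_, by simp [mul_assoc]⟩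
    rw [SetLike.mem_coe, ← hc, Sylow.coe_subgroup_smul, Subgroup.mem_pointwise_smul_iff_inv_smul_mem]
    simpa [MulAut.conj_symm_apply, mul_assoc] using h1
  have hfix := eq_of_le_sylow P J hJ hQ hJQ hcg
  refine ⟨(c : X) * g, ?_, ?_⟩
  · refine Subgroup.mem_normalizer_iff.mpr fun z => ⟨fun hz => hfix.le ⟨z, hz, rfl⟩, fun hz => ?_⟩
    obtain ⟨w, hw, hwe⟩ := hfix.ge hz
    have : w = z := mul_left_cancel (mul_right_cancel hwe)
    exact this ▸ hw
  · have hcy := Subgroup.mem_centralizer_singleton_iff.mp c.2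
    calc (c : X) * g * x * ((c : X) * g)⁻¹ = c * (g * x * g⁻¹) * (c : X)⁻¹ := by group
      _ = y := by rw [hg, hcy]; group

end Cfsg.Agent.S5306
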