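import Cfsg.Statements.S5316
import Cfsg.Agent.Lib.Fusion.MaxClassCube.Main
import Cfsg.Agent.S5270

set_option autoImplicit false
open Cfsg

namespace Cfsg.Agent.S5316

/-- Let p ≥ 5 be a prime, S a finite p-group of maximal class of order p^n with n ≥ 5 (nilpotency class n − 1), F a saturated fusion system over S, and E an F-essential subgroup that is not a pearl (not elementary abelian of order p² and not extraspecial of order p³ and exponent p). Then E has order at least p⁴. -/
theorem result {Ω : Type*} [Group Ω] {S : Subgroup Ω} [Finite S] (p : ℕ) [Fact p.Prime] (hp : 5 ≤ p) (hS : IsPGroup p ↥S) (n : ℕ) (hn : Nat.card S = p ^ n) (h5 : 5 ≤ n)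
    (hmax : Subgroup.lowerCentralSeries S (n - 2) ≠ ⊥) (F : Cfsg.FusionSystem S) (hF : F.IsSaturated p)
    (E : Subgroup Ω) (hE : F.IsEssential p E)
    (hnp : ¬ ((Nat.card ↥E = p ^ 2 ∧ Cfsg.IsElementaryAbelian p E) ∨ (Nat.card ↥E = p ^ 3 ∧ Cfsg.IsExtraspecial p ↥E ∧ Monoid.exponent ↥E = p))) :
    p ^ 4 ≤ Nat.card ↥E := by
  haveI : Group.IsNilpotent S := hS.isNilpotent
  refine Cfsg.MaxClassCube.four_le_card hS hn h5 hp ?_ hF hE hnp
  refine le_antisymm (Cfsg.Agent.S5270.class_le n S hn (by omega)) ?_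
  by_contra h
  apply hmax
  have h1 := Subgroup.map_lowerCentralSeries (⊤ : Subgroup S) S.subtype (n - 2)
  rw [Subgroup.lowerCentralSeries_eq_bot_iff_nilpotencyClass_le.mpr (show Group.nilpotencyClass S ≤ n - 2 by omega),
    Subgroup.map_bot, ← MonoidHom.range_eq_map, Subgroup.range_subtype] at h1
  exact h1.symm

end Cfsg.Agent.S5316
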