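import Cfsg.Statements.S5318
import Cfsg.Agent.Lib.Fusion.WreathedSimple
import Cfsg.Agent.Lib.Fusion.PSLThreeSylow
import Cfsg.Agent.Lib.SLPerfect
-- import your own Cfsg.Agent.* helpers here

set_option autoImplicit false
open Cfsg

namespace Cfsg.Agent.S5318

/-- For a finite field F of odd order, the 2-fusion system of PSL(3,F) on a Sylow 2-subgroup (semidihedral or wreathed according as |F| ≡ 3 or 1 mod 4) is simple. -/
theorem result {F : Type*} [Field F] [Fintype F] (hodd : Fintype.card F % 2 = 1) (S : Sylow 2 (Matrix.ProjectiveSpecialLinearGroup (Fin 3) F)) :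
    (Cfsg.groupFusionSystem (S : Subgroup (Matrix.ProjectiveSpecialLinearGroup (Fin 3) F))).IsSimple 2 := by
  haveI : IsSimpleGroup (Matrix.ProjectiveSpecialLinearGroup (Fin 3) F) := CfsgLib.SLPerfect.isSimpleGroup le_rfl
  haveI : Fact (Nat.Prime 2) := ⟨Nat.prime_two⟩
  obtain ⟨P⟩ : Nonempty (Sylow 2 (GL (Fin 2) F)) := inferInstance
  obtain ⟨U, ⟨e⟩⟩ := CfsgLib.PSLThreeSylow.exists_sylow hodd P
  obtain ⟨h3, h1⟩ := CfsgLib.GLTwoSylow.sylow_cases P
  rcases (show Fintype.card F % 4 = 3 ∨ Fintype.card F % 4 = 1 by omega) with h | h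
  · exact CfsgLib.RankTwoSimple.isSimple U S (Or.inr (CfsgLib.GLTwoSylow.isQuasiDihedral_congr e (h3 h)))
  · exact CfsgLib.RankTwoSimple.isSimple_of_wreathed U S (CfsgLib.GLTwoSylow.isWreathed_congr e (h1 h))

end Cfsg.Agent.S5318
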