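import Cfsg.Statements.S5322
import Cfsg.Agent.S2135
import Cfsg.Agent.Lib.Fusion.GroupSimple
-- import your own Cfsg.Agent.* helpers here

set_option autoImplicit false
open Cfsg

namespace Cfsg.Agent.S5322

set_option maxRecDepth 1000000
open CfsgLib.CosetEnum CfsgLib.J3 Cfsg.Agent.S2135

variable {G : Type*} [Group G] (e : presJ3.Grp ≃* G)

/-- The extraspecial subgroup inside the whole group. -/
noncomputable def R : Subgroup G := (Q e).map (C e).subtype

theorem gens_inv : ((List.range 5).all fun j => (List.range 128).any fun a =>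
    Nat.beq (key (pWords.getD a [] ++ pWords.getD a [])) (key []) &&
      Nat.beq (key ((pWords.getD a [] ++ pGens.getD j []) ++ (pWords.getD a [] ++ pGens.getD j []))) (key [])) = true := by
  decide +kernel

theorem centralizer_inter : ((List.range 128).all fun i => (qWords.map key).contains (key (pWords.getD i [])) ||
    (List.range 32).any fun k =>
      !(Nat.beq (key (pWords.getD i [] ++ qWords.getD k [])) (key (qWords.getD k [] ++ pWords.getD i [])))) = true := by
  decide +kernel

theorem q_mem_p : ((List.range 32).all fun k => (pWords.map key).contains (key (qWords.getD k []))) = true := by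
  decide +kernel

theorem q_one : key (qWords.getD 1 []) = key [0] := by decide +kernel

theorem pGens_ok : ∀ j : Fin 5, okLet (pGens.getD j.val []) = true ∧
    key (pGens.getD j.val [] ++ [0]) = key ([0] ++ pGens.getD j.val []) := by decide +kernel

theorem ok_app {u v : List ℕ} (hu : okLet u = true) (hv : okLet v = true) : okLet (u ++ v) = true := by
  rw [okLet, List.all_append, Bool.and_eq_true]; exact ⟨hu, hv⟩

theorem ok_p {i : ℕ} (hi : i < 128) : okLet (pWords.getD i []) = true :=
  (show ∀ i : Fin 128, okLet (pWords.getD i.val []) = true by decide +kernel) ⟨i, hi⟩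

theorem ok_q {i : ℕ} (hi : i < 32) : okLet (qWords.getD i []) = true :=
  (show ∀ i : Fin 32, okLet (qWords.getD i.val []) = true by decide +kernel) ⟨i, hi⟩

theorem P_le_C : P e ≤ C e := by
  rw [P, Subgroup.closure_le]
  rintro _ ⟨j, rfl⟩
  rw [SetLike.mem_coe, mem_C, t, ← el_append, ← el_append]
  exact el_eq e (ok_app (pGens_ok j).1 (by decide)) (ok_app (by decide) (pGens_ok j).1) (pGens_ok j).2

theorem t_mem_P : t e ∈ P e := Subgroup.subset_closure ⟨0, rfl⟩

theorem mem_R {x : G} : x ∈ R e ↔ ∃ i : Fin 32, el e (qWords.getD i.val []) = x := by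
  constructor
  · rintro ⟨_, ⟨i, rfl⟩, rfl⟩; exact ⟨i, rfl⟩
  · rintro ⟨i, rfl⟩; exact ⟨qC e i, ⟨i, rfl⟩, rfl⟩

theorem R_le_P : R e ≤ P e := by
  intro x hx
  obtain ⟨i, rfl⟩ := (mem_R e).mp hx
  have h := List.all_eq_true.mp q_mem_p i.val (List.mem_range.mpr i.2)
  obtain ⟨w, hw, hk⟩ := List.mem_map.mp (List.contains_iff_mem.mp h)
  obtain ⟨m, hm, rfl⟩ := List.getElem_of_mem hw
  have hm' : m < 128 := lt_of_lt_of_eq hm q_len.2.2
  rw [← List.getD_eq_getElem _ [] hm] at hk
  rw [← el_eq e (ok_p hm') (ok_q i.2) hk]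
  exact pg_mem e m hm'

theorem C_le_normalizer [Finite G] (hcard : Nat.card G = 50232960) :
    C e ≤ Subgroup.normalizer ((R e : Subgroup G) : Set G) := by
  intro c hc
  rw [Subgroup.mem_normalizer_iff]
  have hn := normal e hcard
  intro x
  constructor
  · rintro ⟨y, hy, rfl⟩
    exact ⟨⟨c, hc⟩ * y * (⟨c, hc⟩)⁻¹, hn.conj_mem y hy _, rfl⟩
  · rintro ⟨y, hy, hye⟩
    refine ⟨(⟨c, hc⟩)⁻¹ * y * ⟨c, hc⟩, ?_, ?_⟩
    · have := hn.conj_mem y hy (⟨c, hc⟩)⁻¹
      rwa [inv_inv] at this
    · show c⁻¹ * (y : G) * c = x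
      rw [show (y : G) = c * x * c⁻¹ from hye]
      group

theorem inter_le [Finite G] : P e ⊓ Subgroup.centralizer ((R e : Subgroup G) : Set G) ≤ R e := by
  rintro x ⟨hx, hxc⟩
  obtain ⟨i, hi, rfl⟩ := P_carrier e hx
  have h := List.all_eq_true.mp centralizer_inter i (List.mem_range.mpr hi)
  rw [Bool.or_eq_true] at h
  rcases h with h | h
  · obtain ⟨w, hw, hk⟩ := List.mem_map.mp (List.contains_iff_mem.mp h)
    obtain ⟨m, hm, rfl⟩ := List.getElem_of_mem hw
    have hm' : m < 32 := lt_of_lt_of_eq hm q_len.1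
    rw [← List.getD_eq_getElem _ [] hm] at hk
    exact (mem_R e).mpr ⟨⟨m, hm'⟩, el_eq e (ok_q hm') (ok_p hi) hk⟩
  · exfalso
    obtain ⟨k, hk, hne⟩ := List.any_eq_true.mp h
    have hk' : k < 32 := List.mem_range.mp hk
    have hc := Subgroup.mem_centralizer_iff.mp hxc (el e (qWords.getD k [])) ((mem_R e).mpr ⟨⟨k, hk'⟩, rfl⟩)
    rw [pg, ← el_append, ← el_append] at hc
    have := key_eq e (ok_app (ok_q hk') (ok_p hi)) (ok_app (ok_p hi) (ok_q hk')) hc
    rw [this] at hne
    simp [Nat.beq_refl] at hne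

theorem normalizer_le_C [Finite G] : Subgroup.normalizer ((P e : Subgroup G) : Set G) ≤ C e := by
  intro g hg
  set y := g * t e * g⁻¹ with hy
  have hyP : y ∈ P e := (Subgroup.mem_normalizer_iff.mp hg _).mp (t_mem_P e)
  have hyZ : ∀ z ∈ P e, z * y = y * z := by
    intro z hz
    have h1 : g⁻¹ * z * g ∈ P e := (Subgroup.mem_normalizer_iff''.mp hg z).mp hz
    have h2 := (mem_C e).mp (P_le_C e h1)
    calc z * y = g * ((g⁻¹ * z * g) * t e) * g⁻¹ := by rw [hy]; group
      _ = g * (t e * (g⁻¹ * z * g)) * g⁻¹ := by rw [h2]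
      _ = y * z := by rw [hy]; group
  have hyR : y ∈ R e := inter_le e ⟨hyP, Subgroup.mem_centralizer_iff.mpr fun r hr => hyZ r (R_le_P e hr)⟩
  obtain ⟨i, hi⟩ := (mem_R e).mp hyR
  have hcomm : ∀ k : Fin 32, qm i k = qm k i := fun k => by
    apply qC_injective e
    rw [← qC_qm, ← qC_qm]
    refine Subtype.ext ?_
    show el e (qWords.getD i.val []) * el e (qWords.getD k.val []) =
      el e (qWords.getD k.val []) * el e (qWords.getD i.val [])
    rw [hi]
    exact (hyZ _ (R_le_P e ((mem_R e).mpr ⟨k, rfl⟩))).symm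
  have key1 : ∀ i : Fin 32, (∀ j : Fin 32, qm i j = qm j i) → i = 0 ∨ i = 1 := by decide +kernel
  have hfix : y = t e := by
    rcases key1 i hcomm with rfl | rfl
    · exfalso
      have h1 : y = 1 := by
        rw [← hi]
        exact congrArg Subtype.val (qC_zero e)
      have h2 : t e = 1 := by
        rw [show t e = g⁻¹ * y * g by rw [hy]; group, h1]; group
      have := orderOf_t e
      rw [h2, orderOf_one] at this
      omega
    · rw [← hi]
      exact el_eq e (ok_q (by norm_num)) (by decide) q_one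
  rw [mem_C]
  calc g * t e = y * g := by rw [hy]; group
    _ = t e * g := by rw [hfix]

theorem C_le_closure [Finite G] (hcard : Nat.card G = 50232960) : C e ≤
    Subgroup.closure {x : G | x ∈ Subgroup.normalizer ((R e : Subgroup G) : Set G) ∧ ∃ k : ℕ, orderOf x = 2 ^ k} := by
  intro c hc
  obtain ⟨⟨q, σ⟩, hqs⟩ := prodMap_surjective e hcard ⟨c, hc⟩
  rw [show c = ((q : C e) : G) * ((aHom e σ : C e) : G) from (congrArg Subtype.val hqs).symm]
  have hN := C_le_normalizer e hcard
  have : Finite (Q e) := Finite.of_equiv _ (qE e)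
  have hp : ∀ x : C e, x * x = 1 → ∃ k : ℕ, orderOf (x : G) = 2 ^ k := fun x hx => by
    obtain ⟨k, -, hk⟩ := (Nat.dvd_prime_pow Nat.prime_two).mp (show orderOf (x : G) ∣ 2 ^ 1 from
      orderOf_dvd_of_pow_eq_one (by rw [pow_one, pow_two]; exact congrArg Subtype.val hx))
    exact ⟨k, hk⟩
  refine mul_mem (Subgroup.subset_closure ⟨hN (q : C e).2, ?_⟩) ?_
  · have h32 : orderOf ((q : C e) : G) ∣ 2 ^ 5 := by
      rw [Subgroup.orderOf_coe, Subgroup.orderOf_coe, show (2 : ℕ) ^ 5 = Nat.card (Q e) from (card_Q e).symm]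
      exact orderOf_dvd_natCard q
    obtain ⟨k, -, hk⟩ := (Nat.dvd_prime_pow Nat.prime_two).mp h32
    exact ⟨k, hk⟩
  · obtain ⟨τ, h1, h2⟩ := (show ∀ σ : alternatingGroup (Fin 5), ∃ τ, τ * τ = 1 ∧ (τ * σ) * (τ * σ) = 1 by
      decide +kernel) σ
    rw [show σ = τ * (τ * σ) by rw [← mul_assoc, h1, one_mul], map_mul, Subgroup.coe_mul]
    exact mul_mem (Subgroup.subset_closure ⟨hN (aHom e τ).2, hp _ (by rw [← map_mul, h1, map_one])⟩)
      (Subgroup.subset_closure ⟨hN (aHom e (τ * σ)).2, hp _ (by rw [← map_mul, h2, map_one])⟩)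

open CfsgLib.GroupSimple in
include e in
theorem fusion_simple [Finite G] (hcard : Nat.card G = 50232960) (S : Sylow 2 G) :
    (Cfsg.groupFusionSystem (S : Subgroup G)).IsSimple 2 := by
  classical
  have : Fact (Nat.Prime 2) := ⟨Nat.prime_two⟩
  have hP : Nat.card (P e) = 2 ^ (Nat.card G).factorization 2 := by
    rw [card_P e, hcard]
    have : (50232960 : ℕ).factorization 2 = 7 := by
      rw [show (50232960 : ℕ) = 2 ^ 7 * 392445 by norm_num, Nat.factorization_mul (by norm_num) (by norm_num),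
        Finsupp.add_apply, Nat.factorization_pow, Finsupp.smul_apply, Nat.Prime.factorization_self Nat.prime_two,
        Nat.factorization_eq_zero_of_not_dvd (show ¬(2 : ℕ) ∣ 392445 by norm_num)]
      rfl
    rw [this]
    norm_num
  let U : Sylow 2 G := Sylow.ofCard (P e) hP
  refine isSimple_group U S (fun h => ?_) (fun T hT hT1 => ?_) ?_
  · have h1 := card_P e
    rw [show P e = ⊥ from h, Subgroup.card_bot] at h1
    omega
  · obtain ⟨hTP, hcl⟩ := hT
    haveI : Nontrivial T := (Subgroup.nontrivial_iff_ne_bot T).mpr hT1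
    have hTp : IsPGroup 2 T := U.2.to_le hTP
    obtain ⟨k, hk⟩ := IsPGroup.iff_card.mp hTp
    have hk0 : k ≠ 0 := by
      rintro rfl
      have h2 := Finite.one_lt_card (α := T)
      rw [hk] at h2
      omega
    obtain ⟨x, hx⟩ := exists_prime_orderOf_dvd_card' (G := T) 2 (hk ▸ dvd_pow_self 2 hk0)
    have hx' : orderOf (x : G) = 2 := by rw [Subgroup.orderOf_coe, hx]
    have hinv : ∀ y ∈ P e, y * y = 1 → y ∈ T := by
      intro y hy hy2
      rcases eq_or_ne y 1 with rfl | hy1
      · exact one_mem _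
      obtain ⟨g, hg⟩ := isConj_iff.mp ((conj_t e hcard hx').symm.trans
        (conj_t e hcard (orderOf_eq_prime (by rw [pow_two]; exact hy2) hy1)))
      rw [← hg]
      exact hcl _ x.2 g (hg.symm ▸ hy)
    show P e ≤ T
    rw [P, Subgroup.closure_le]
    rintro _ ⟨j, rfl⟩
    have h := List.all_eq_true.mp gens_inv j.val (List.mem_range.mpr j.2)
    obtain ⟨a, ha, h'⟩ := List.any_eq_true.mp h
    rw [Bool.and_eq_true] at h'
    have ha' : a < 128 := List.mem_range.mp ha
    have ow := ok_p ha'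
    have og := (pGens_ok j).1
    have hw2 : pg e a * pg e a = 1 := by
      rw [pg, ← el_append, ← el_nil e]
      exact el_eq e (ok_app ow ow) rfl (Nat.eq_of_beq_eq_true h'.1)
    have hwg : (pg e a * el e (pGens.getD j.val [])) * (pg e a * el e (pGens.getD j.val [])) = 1 := by
      rw [pg, ← el_append, ← el_append, ← el_nil e]
      exact el_eq e (ok_app (ok_app ow og) (ok_app ow og)) rfl (Nat.eq_of_beq_eq_true h'.2)
    show el e (pGens.getD j.val []) ∈ T
    rw [show el e (pGens.getD j.val []) = pg e a * (pg e a * el e (pGens.getD j.val [])) by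
      rw [← mul_assoc, hw2, one_mul]]
    exact mul_mem (hinv _ (pg_mem e a ha') hw2)
      (hinv _ (mul_mem (pg_mem e a ha') (Subgroup.subset_closure ⟨j, rfl⟩)) hwg)
  · intro g hg
    exact Subgroup.subset_closure ⟨hg, R e, R_le_P e, (P_le_C e).trans (C_le_normalizer e hcard), inter_le e,
      C_le_closure e hcard (normalizer_le_C e hg)⟩

/-- For a finite group G isomorphic to the third Janko group J₃, the 2-fusion system of G on a Sylow 2-subgroup is simple: saturated, over a nontrivial 2-group, with no normal subsystem other than the trivial one and itself. -/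
theorem result {G : Type*} [Group G] [Finite G] (hG : Cfsg.Spor.IsoJ3 G) (S : Sylow 2 G) : (Cfsg.groupFusionSystem (S : Subgroup G)).IsSimple 2 := by
  obtain ⟨F, _, _, ω, hF, hω, ⟨φ⟩⟩ := hG
  obtain ⟨f⟩ := exists_equiv_J3 hF ω hω
  have e : presJ3.Grp ≃* G := (iso.trans f).trans φ.symm
  exact fusion_simple e ((Nat.card_congr e.toEquiv).symm.trans J3Group.card_eq) S

end Cfsg.Agent.S5322
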