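import Cfsg.Statements.S5327
import Cfsg.Agent.Lib.Fusion.Omit
-- import your own Cfsg.Agent.* helpers here

set_option autoImplicit false
open Cfsg

namespace Cfsg.Agent.S5327

/-- Let F be a saturated fusion system over a finite p-group S. Call a family of subgroups of S generating when every fusion system over S whose automorphism group of each member R contains Aut_F(R) contains every map of F. If two families are each closed under F-conjugacy and each generating, then their intersection is generating. -/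
theorem result {Ω : Type*} [Group Ω] {S : Subgroup Ω} [Finite S] (p : ℕ) [Fact p.Prime] (hS : IsPGroup p S) (F : Cfsg.FusionSystem S) (hF : F.IsSaturated p) (𝒬₁ 𝒬₂ : Set (Subgroup Ω)) (h₁ : ∀ R ∈ 𝒬₁, ∀ R' : Subgroup Ω, F.IsConj R R' → R' ∈ 𝒬₁) (h₂ : ∀ R ∈ 𝒬₂, ∀ R' : Subgroup Ω, F.IsConj R R' → R' ∈ 𝒬₂) (hg₁ : ∀ E : Cfsg.FusionSystem S, (∀ R ∈ 𝒬₁, F.autGroup R ≤ E.autGroup R) → F ≤ E) (hg₂ : ∀ E : Cfsg.FusionSystem S, (∀ R ∈ 𝒬₂, F.autGroup R ≤ E.autGroup R) → F ≤ E) (E : Cfsg.FusionSystem S) (hE : ∀ R ∈ 𝒬₁ ∩ 𝒬₂, F.autGroup R ≤ E.autGroup R) : F ≤ E := by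
  have hbot : ∀ (R : Subgroup Ω), ¬ R ≤ S → ∀ (D : Cfsg.FusionSystem S), F.autGroup R ≤ D.autGroup R :=
    fun R hR D => by rw [F.autGroup_eq_bot hR]; exact bot_le
  refine hF.le_of_autGroup_le hS E fun P hP => ?_
  rcases hP with rfl | hP
  · by_cases hmem : P ∈ 𝒬₁ ∩ 𝒬₂
    · exact hE P hmem
    obtain ⟨E₀, hE₀, hE₀S⟩ := Cfsg.FusionSystem.exists_omit_self F
    have hle : ∀ R, R ≠ P → F.autGroup R ≤ E₀.autGroup R := by
      intro R hR α hα
      by_cases hRS : R ≤ P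
      · obtain ⟨φ, hφ, -, he⟩ := F.exists_map_of_mem_autGroup hRS hα
        exact E₀.mem_autGroup_of_map (hE₀ R hR hφ) fun x => (he x).symm
      · exact hbot R hRS E₀ hα
    have hFE : F ≤ E₀ := by
      rcases not_and_or.mp hmem with h | h
      · exact hg₁ E₀ fun R hR => hle R fun e => h (e ▸ hR)
      · exact hg₂ E₀ fun R hR => hle R fun e => h (e ▸ hR)
    intro α hα
    obtain ⟨φ, hφ, -, he⟩ := F.exists_map_of_mem_autGroup le_rfl hα
    exact Cfsg.FusionSystem.autInducedBy_le_autGroup le_rfl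
      (hE₀S (E₀.mem_autGroup_of_map (hFE P hφ) fun x => (he x).symm))
  · refine hE P ?_
    obtain ⟨D, hD, hnot⟩ := hP.exists_omit hS hF
    have key : ∀ (𝒬 : Set (Subgroup Ω)), (∀ R ∈ 𝒬, ∀ R' : Subgroup Ω, F.IsConj R R' → R' ∈ 𝒬) →
        (∀ E : Cfsg.FusionSystem S, (∀ R ∈ 𝒬, F.autGroup R ≤ E.autGroup R) → F ≤ E) → P ∈ 𝒬 := by
      intro 𝒬 hclosed hgen
      by_contra h
      refine hnot (hgen D fun R hR => ?_)
      by_cases hRS : R ≤ S
      · exact hD R hRS fun hc => h (hclosed R hR P hc.symm)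
      · exact hbot R hRS D
    exact ⟨key 𝒬₁ h₁ hg₁, key 𝒬₂ h₂ hg₂⟩

end Cfsg.Agent.S5327
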