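import Cfsg.Statements.S5331
import Cfsg.Agent.Lib.Fusion.Inner
import Cfsg.Agent.Lib.SmallElements
-- import your own Cfsg.Agent.* helpers here

set_option autoImplicit false
open Cfsg

namespace Cfsg.Agent.S5331

theorem zmod_two_torsion {a : ℕ} (ha : 1 ≤ a) (z : ZMod (2 ^ a)) (hz : 2 • z = 0) :
    z = 0 ∨ z = ((2 ^ (a - 1) : ℕ) : ZMod (2 ^ a)) := by
  have : NeZero (2 ^ a) := ⟨pow_ne_zero _ two_ne_zero⟩
  have h1 : ((2 * z.val : ℕ) : ZMod (2 ^ a)) = 0 := by
    rw [Nat.cast_mul, ZMod.natCast_zmod_val, ← nsmul_eq_mul]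
    exact hz
  rw [ZMod.natCast_eq_zero_iff] at h1
  obtain ⟨b, rfl⟩ : ∃ b, a = b + 1 := ⟨a - 1, by omega⟩
  rw [Nat.add_sub_cancel]
  obtain ⟨t, ht⟩ := Nat.dvd_of_mul_dvd_mul_left two_pos ((dvd_of_eq (pow_succ' 2 b).symm).trans h1)
  have hlt := z.val_lt
  have ht2 : t < 2 := by
    refine Nat.lt_of_mul_lt_mul_left (a := 2 ^ b) ?_
    rw [← ht]
    exact hlt.trans_eq (pow_succ 2 b)
  interval_cases t
  · left
    rw [← ZMod.natCast_zmod_val z, ht]
    simp
  · right
    rw [← ZMod.natCast_zmod_val z, ht, mul_one]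

theorem isPGroup_mulAut {X : Type*} [Group X] [Finite X] (n : ℕ) (a : Fin n → ℕ) (ha : Function.Injective a)
    (ha1 : ∀ i, 1 ≤ a i) (e : X ≃* Multiplicative ((i : Fin n) → ZMod (2 ^ a i))) :
    IsPGroup 2 (MulAut X) := by
  have hcomm : ∀ x y : X, x * y = y * x := fun x y => e.injective (by rw [map_mul, map_mul, mul_comm])
  have hX : IsPGroup 2 X := by
    intro x
    refine ⟨Finset.univ.sup a, e.injective (Multiplicative.toAdd.injective ?_)⟩
    rw [map_pow, map_one, toAdd_pow, toAdd_one]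
    funext i
    obtain ⟨c, hc⟩ := Nat.pow_dvd_pow 2 (Finset.le_sup (f := a) (Finset.mem_univ i))
    simp only [Pi.smul_apply, Pi.zero_apply, nsmul_eq_mul]
    rw [show ((2 ^ Finset.univ.sup a : ℕ) : ZMod (2 ^ a i)) = 0 from by
      rw [hc, Nat.cast_mul, ZMod.natCast_self, zero_mul], zero_mul]
  let v : X → (i : Fin n) → ZMod (2 ^ a i) := fun s => Multiplicative.toAdd (e s)
  have hcrit : ∀ k (s : X), s ^ 2 = 1 → ((∃ y, y ^ 2 ^ k = s) ↔ ∀ i, a i ≤ k → v s i = 0) := by
    intro k s hs
    constructor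
    · rintro ⟨y, rfl⟩ i hi
      obtain ⟨c, hc⟩ := Nat.pow_dvd_pow 2 hi
      simp only [v, map_pow, toAdd_pow, Pi.smul_apply, nsmul_eq_mul]
      rw [show ((2 ^ k : ℕ) : ZMod (2 ^ a i)) = 0 from by
        rw [hc, Nat.cast_mul, ZMod.natCast_self, zero_mul], zero_mul]
    · intro h
      refine ⟨e.symm (Multiplicative.ofAdd fun i => if v s i = 0 then 0 else ((2 ^ (a i - 1 - k) : ℕ) : ZMod (2 ^ a i))),
        e.injective (Multiplicative.toAdd.injective ?_)⟩
      rw [map_pow, MulEquiv.apply_symm_apply, toAdd_pow, toAdd_ofAdd]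
      funext i
      have h2 : 2 • v s i = 0 := by
        have := congrArg (fun z => Multiplicative.toAdd (e z) i) hs
        simpa [v] using this
      rcases zmod_two_torsion (ha1 i) (v s i) h2 with h3 | h3
      · simp only [Pi.smul_apply, h3, if_true, smul_zero]
        exact h3.symm
      · by_cases h4 : v s i = 0
        · simp only [Pi.smul_apply, h4, if_true, smul_zero]
          exact h4.symm
        have hki : k < a i := by
          by_contra hk
          exact h4 (h i (not_lt.mp hk))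
        simp only [Pi.smul_apply, if_neg h4, nsmul_eq_mul]
        refine Eq.trans ?_ h3.symm
        rw [← Nat.cast_mul, ← pow_add, Nat.add_sub_cancel' (by omega : k ≤ a i - 1)]
  intro α₀
  refine ⟨(orderOf α₀).factorization 2, ?_⟩
  generalize hα0 : α₀ ^ 2 ^ (orderOf α₀).factorization 2 = α
  have hα : (orderOf α).Coprime 2 := by
    rw [← hα0, orderOf_pow, Nat.gcd_eq_right (Nat.ordProj_dvd _ _)]
    exact (Nat.coprime_ordCompl Nat.prime_two (orderOf_pos α₀).ne').symm
  have hfix : ∀ d k, Finset.univ.sup a ≤ k + d → ∀ s : X, s ^ 2 = 1 → (∃ y, y ^ 2 ^ k = s) → α s = s := by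
    intro d
    induction d with
    | zero =>
      intro k hk s hs hy
      have : v s = 0 := funext fun i =>
        (hcrit k s hs).mp hy i ((Finset.le_sup (f := a) (Finset.mem_univ i)).trans (by omega))
      rw [show s = 1 from e.injective (Multiplicative.toAdd.injective (by rw [map_one, toAdd_one]; exact this)),
        map_one]
    | succ d ih =>
      intro k hk s hs hy
      have hs' : (α s) ^ 2 = 1 := by rw [← map_pow, hs, map_one]
      have hy' : ∃ y, y ^ 2 ^ k = α s := by
        obtain ⟨y, rfl⟩ := hy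
        exact ⟨α y, (map_pow α y _).symm⟩
      have hinv : s⁻¹ = s := inv_eq_of_mul_eq_one_right (by rw [← pow_two, hs])
      have hu : (s⁻¹ * α s) ^ 2 = 1 := by
        rw [(show Commute s⁻¹ (α s) from hcomm _ _).mul_pow, inv_pow, hs, hs', inv_one, one_mul]
      refine CfsgLib.Small.apply_eq_self_of_step hX hα (ih (k + 1) (by omega) _ hu ((hcrit _ _ hu).mpr ?_))
      intro i hi
      have hvu : v (s⁻¹ * α s) i = v s i + v (α s) i := by
        simp [v, hinv]
      rw [hvu]
      rcases eq_or_lt_of_le hi with hi | hi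
      swap
      · rw [(hcrit k s hs).mp hy i (by omega), (hcrit k _ hs').mp hy' i (by omega), add_zero]
      -- the unique coordinate of height `k`
      have hsup : ∀ t : X, t ^ 2 = 1 → (∃ y, y ^ 2 ^ k = t) → (v t i = 0 ↔ ∃ y, y ^ 2 ^ (k + 1) = t) := by
        intro t ht hty
        rw [hcrit (k + 1) t ht]
        refine ⟨fun h0 j hj => ?_, fun h0 => h0 i hi.le⟩
        rcases eq_or_lt_of_le hj with hj | hj
        · rwa [ha (hj.trans hi.symm)]
        · exact (hcrit k t ht).mp hty j (by omega)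
      have hiff : v s i = 0 ↔ v (α s) i = 0 := by
        rw [hsup s hs hy, hsup _ hs' hy']
        constructor
        · rintro ⟨y, rfl⟩
          exact ⟨α y, (map_pow α y _).symm⟩
        · rintro ⟨y, hy⟩
          exact ⟨α.symm y, by rw [← map_pow, hy, MulEquiv.symm_apply_apply]⟩
      have t2 : ∀ t : X, t ^ 2 = 1 → 2 • v t i = 0 := by
        intro t ht
        have := congrArg (fun z => Multiplicative.toAdd (e z) i) ht
        simpa [v] using this
      rcases zmod_two_torsion (ha1 i) _ (t2 s hs) with h1 | h1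
      · rw [h1, hiff.mp h1, add_zero]
      · rcases zmod_two_torsion (ha1 i) _ (t2 _ hs') with h2 | h2
        · rw [h2, hiff.mpr h2, add_zero]
        · rw [h2, ← h1, ← two_nsmul]
          exact t2 s hs
  refine CfsgLib.Small.eq_one_of_fixes_small hX hα fun x hx => ?_
  have hord2 : ∀ y : X, y ^ 2 = 1 → α y = y := fun y hy => hfix (Finset.univ.sup a) 0 (by omega) y hy ⟨y, by simp⟩
  refine CfsgLib.Small.apply_eq_self_of_step hX hα (hord2 _ ?_)
  have hx' : x ^ 4 = 1 := by simpa [CfsgLib.Small.smallExp] using hx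
  rw [(show Commute x⁻¹ (α x) from hcomm _ _).mul_pow, ← map_pow,
    hord2 (x ^ 2) (by rw [← pow_mul]; exact hx'), inv_pow, inv_mul_cancel]

/-- Let S be a finite abelian 2-group that is a direct product of cyclic groups of pairwise distinct orders 2^{a_1} < 2^{a_2} < ⋯ < 2^{a_n} (all a_i ≥ 1). Then every saturated fusion system over S is the inner one: its maps are exactly the conjugations by elements of S. -/
theorem result {Ω : Type*} [Group Ω] {S : Subgroup Ω} [Finite S] (n : ℕ) (a : Fin n → ℕ) (ha : StrictMono a) (ha1 : ∀ i, 1 ≤ a i) (e : ↥S ≃* Multiplicative ((i : Fin n) → ZMod (2 ^ a i))) (F : Cfsg.FusionSystem S) (hF : F.IsSaturated 2) (P : Subgroup Ω) : F.Hom P = (Cfsg.innerFusionSystem S).Hom P := by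
  have : Fact (Nat.Prime 2) := ⟨Nat.prime_two⟩
  have hAut := isPGroup_mulAut n a ha.injective ha1 e
  have hS : IsPGroup 2 S := by
    intro x
    refine ⟨Finset.univ.sup a, e.injective (Multiplicative.toAdd.injective ?_)⟩
    rw [map_pow, map_one, toAdd_pow, toAdd_one]
    funext i
    obtain ⟨c, hc⟩ := Nat.pow_dvd_pow 2 (Finset.le_sup (f := a) (Finset.mem_univ i))
    simp only [Pi.smul_apply, Pi.zero_apply, nsmul_eq_mul]
    rw [show ((2 ^ Finset.univ.sup a : ℕ) : ZMod (2 ^ a i)) = 0 from by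
      rw [hc, Nat.cast_mul, ZMod.natCast_self, zero_mul], zero_mul]
  have hcomm : ∀ x ∈ S, ∀ y ∈ S, x * y = y * x := fun x hx y hy =>
    congrArg Subtype.val (e.injective (a₁ := (⟨x, hx⟩ : S) * ⟨y, hy⟩) (a₂ := ⟨y, hy⟩ * ⟨x, hx⟩)
      (by rw [map_mul, map_mul, mul_comm]))
  let E : Cfsg.FusionSystem S := Cfsg.innerFusionSystem S
  refine Set.Subset.antisymm ?_ (Cfsg.FusionSystem.innerFusionSystem_le F P)
  refine hF.le_of_autGroup_le hS E (fun Q hQ => ?_) P
  rcases hQ with rfl | hQ
  · rw [hF.autGroup_self_eq_inn hS (hAut.to_subgroup _),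
      Cfsg.FusionSystem.autGroup_innerFusionSystem le_rfl, Cfsg.inn_eq_autInducedBy]
  · exfalso
    refine (hQ.lt hS hF).not_ge fun s hs => hQ.1.centralizerIn_le_self ⟨hs, ?_⟩
    exact Subgroup.mem_centralizer_iff.mpr fun y hy => hcomm y (hQ.1.1 hy) s hs

end Cfsg.Agent.S5331
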