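import Cfsg.Statements.S5332
import Cfsg.Agent.Lib.Fusion.ZJCriterion
-- import your own Cfsg.Agent.* helpers here

set_option autoImplicit false
open Cfsg

namespace Cfsg.Agent.S5332

/-- Let p be odd and F a saturated fusion system over a finite p-group S that is not the inner system of S. Then F contains a saturated constrained subsystem over S that is itself not the inner system. -/
theorem result {Ω : Type*} [Group Ω] {S : Subgroup Ω} [Finite S] (p : ℕ) [Fact p.Prime] (hS : IsPGroup p S) (F : Cfsg.FusionSystem S) (hF : F.IsSaturated p) (hp : p ≠ 2) (hne : ∃ P : Subgroup Ω, F.Hom P ≠ (Cfsg.innerFusionSystem S).Hom P) : ∃ E : Cfsg.FusionSystem S, E ≤ F ∧ E.IsConstrained p ∧ ∃ P : Subgroup Ω, E.Hom P ≠ (Cfsg.innerFusionSystem S).Hom P := by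
  classical
  let good : ℕ → Prop := fun n => ∃ E : Cfsg.FusionSystem S, E ≤ F ∧ E.IsSaturated p ∧ ¬ E.IsInner ∧ E.count = n
  have hex : ∃ n, good n := ⟨_, F, fun P => subset_rfl, hF, fun h => by
    obtain ⟨P, hP⟩ := hne
    exact hP (h.hom_eq P), rfl⟩
  obtain ⟨E, hEF, hE, hEi, hEc⟩ := Nat.find_spec hex
  refine ⟨E, hEF, hE.isConstrained_of_minimal hp hS hEi ?_, ?_⟩
  · intro T hT E' hE' hsub' hne'
    subst hT
    by_contra hi
    have hlt := Cfsg.FusionSystem.count_lt hsub' hne'
    exact Nat.find_min hex (hEc ▸ hlt) ⟨E', fun P => (hsub' P).trans (hEF P), hE', hi, rfl⟩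
  · by_contra h
    push Not at h
    exact hEi (Cfsg.FusionSystem.isInner_of_hom_eq h)

end Cfsg.Agent.S5332
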