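import Cfsg.Statements.S5334
import Cfsg.Agent.Lib.Fusion.Centric
-- import your own Cfsg.Agent.* helpers here

set_option autoImplicit false
open Cfsg

namespace Cfsg.Agent.S5334

/-- Let F′ ≤ F be saturated fusion systems over the same finite p-group S, let Q and R be F-centric subgroups, φ a map of F with source Q and values in R, and ψ a map of F with source R. If two of φ, ψ and the composite ψ ∘ φ are maps of F′ then so is the third. -/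
theorem result {Ω : Type*} [Group Ω] {S : Subgroup Ω} [Finite S] (p : ℕ) [Fact p.Prime] (hS : IsPGroup p S) (F : Cfsg.FusionSystem S) (hF : F.IsSaturated p) (F' : Cfsg.FusionSystem S) (hF' : F'.IsSaturated p) (hle : F' ≤ F) (Q R : Subgroup Ω) (hQ : F.IsCentric Q) (hR : F.IsCentric R) (φ : ↥Q →* Ω) (hφ : φ ∈ F.Hom Q) (hφR : ∀ x : Q, φ x ∈ R) (ψ : ↥R →* Ω) (hψ : ψ ∈ F.Hom R) : (φ ∈ F'.Hom Q → ψ ∈ F'.Hom R → ψ.comp (φ.codRestrict R hφR) ∈ F'.Hom Q) ∧ (ψ ∈ F'.Hom R → ψ.comp (φ.codRestrict R hφR) ∈ F'.Hom Q → φ ∈ F'.Hom Q) ∧ (φ ∈ F'.Hom Q → ψ.comp (φ.codRestrict R hφR) ∈ F'.Hom Q → ψ ∈ F'.Hom R) := by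
  refine ⟨fun h1 h2 => F'.comp_mem h1 h2 hφR, fun h2 h3 => ?_, fun h1 h3 => ?_⟩
  · obtain ⟨i, hi, -, hil, -⟩ := F'.exists_inv h2 rfl
    obtain ⟨χ, hχ, hχe⟩ := F'.exists_comp h3 hi (fun x => ⟨_, rfl⟩)
    exact F'.mem_of_apply_eq hχ fun x => ((hχe x).trans (hil ⟨φ x, hφR x⟩ _)).symm
  · obtain ⟨i, hi, hiQ, -, hir⟩ := F'.exists_inv h1 rfl
    have hrR : φ.range ≤ R := by
      rintro _ ⟨x, rfl⟩
      exact hφR x
    obtain ⟨χ, hχ, hχe⟩ := F'.exists_comp hi h3 (fun y => hiQ.le ⟨y, rfl⟩)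
    refine Cfsg.FusionSystem.mem_of_restrict_centric hS hF hF' hle (hQ.of_isConj ⟨φ, hφ, rfl⟩) hrR hψ
      (F'.mem_of_apply_eq hχ fun y => ?_)
    rw [hχe]
    exact congrArg ψ (Subtype.ext (hir y _).symm)

end Cfsg.Agent.S5334
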