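import Cfsg.Statements.S5335
import Cfsg.Agent.Lib.Fusion.Centric
-- import your own Cfsg.Agent.* helpers here

set_option autoImplicit false
open Cfsg

namespace Cfsg.Agent.S5335

theorem exists_minimal_centric {Ω : Type*} [Group Ω] {S : Subgroup Ω} [Finite S] {F : Cfsg.FusionSystem S}
    (P : Subgroup Ω) (hP : F.IsCentric P) :
    ∃ Q, Q ≤ P ∧ F.IsCentric Q ∧ ∀ R : Subgroup Ω, R < Q → ¬ F.IsCentric R := by
  have hfin : {Q : Subgroup Ω | Q ≤ P ∧ F.IsCentric Q}.Finite :=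
    (Cfsg.FusionSystem.finite_setOf_le S).subset fun Q hQ => hQ.2.1
  obtain ⟨Q, hQ, hmin⟩ := Set.exists_min_image {Q : Subgroup Ω | Q ≤ P ∧ F.IsCentric Q}
    (fun Q => Nat.card Q) hfin ⟨P, le_rfl, hP⟩
  refine ⟨Q, hQ.1, hQ.2, fun R hR hc => ?_⟩
  have := Cfsg.FusionSystem.finite_of_le hQ.2.1
  exact (Cfsg.FusionSystem.card_lt_of_lt hR).not_ge (hmin R ⟨hR.le.trans hQ.1, hc⟩)

/-- Let F′ ≤ F be saturated fusion systems over the same finite p-group S. If the maps of F and of F′ with source Q coincide for every F-centric subgroup Q that is minimal among F-centric subgroups, then F = F′. -/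
theorem result {Ω : Type*} [Group Ω] {S : Subgroup Ω} [Finite S] (p : ℕ) [Fact p.Prime] (hS : IsPGroup p S) (F : Cfsg.FusionSystem S) (hF : F.IsSaturated p) (F' : Cfsg.FusionSystem S) (hF' : F'.IsSaturated p) (hle : F' ≤ F) (hmin : ∀ Q : Subgroup Ω, F.IsCentric Q → (∀ R : Subgroup Ω, R < Q → ¬ F.IsCentric R) → F.Hom Q = F'.Hom Q) (P : Subgroup Ω) : F.Hom P = F'.Hom P := by
  refine Set.Subset.antisymm ((?_ : F ≤ F') P) (hle P)
  refine hF.le_of_autGroup_le hS F' fun R hR => ?_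
  have hc : F.IsCentric R := by
    rcases hR with rfl | hR
    · exact Cfsg.FusionSystem.isCentric_self
    · exact hR.1
  intro α hα
  obtain ⟨φ, hφ, -, he⟩ := F.exists_map_of_mem_autGroup hc.1 hα
  obtain ⟨Q, hQR, hQc, hQm⟩ := exists_minimal_centric R hc
  refine F'.mem_autGroup_of_map ?_ fun x => (he x).symm
  exact Cfsg.FusionSystem.mem_of_restrict_centric hS hF hF' hle hQc hQR hφ
    (hmin Q hQc hQm ▸ F.restrict_mem hφ hQR)

end Cfsg.Agent.S5335
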