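import Cfsg.Statements.S5338
import Cfsg.Agent.Lib.Fusion.Quotient
import Cfsg.Agent.Lib.Fusion.Normal
-- import your own Cfsg.Agent.* helpers here

set_option autoImplicit false
open Cfsg

namespace Cfsg.Agent.S5338

/-- Let F be a saturated fusion system over a finite p-group S and F′ ≤ F a saturated subsystem over all of S that is invariant under F in the conjugation sense: for every map φ of F with source Q and every map ψ of F′ between subgroups R ≤ Q (with values in Q), the transported map φψφ⁻¹ defined on φ(R) is again a map of F′. If moreover Aut_{F′}(S) = Aut_F(S), then F′ = F. -/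
theorem result {Ω : Type*} [Group Ω] {S : Subgroup Ω} [Finite S] (p : ℕ) [Fact p.Prime] (hS : IsPGroup p S) (F : Cfsg.FusionSystem S) (hF : F.IsSaturated p) (F' : Cfsg.FusionSystem S) (hF' : F'.IsSaturated p) (hle : F' ≤ F) (hinv : ∀ (Q : Subgroup Ω) (φ : ↥Q →* Ω), φ ∈ F.Hom Q → ∀ (R : Subgroup Ω) (hRQ : R ≤ Q) (ψ : ↥R →* Ω), ψ ∈ F'.Hom R → ∀ (hψQ : ∀ x : R, ψ x ∈ Q), ∃ χ ∈ F'.Hom ((R.subgroupOf Q).map φ), ∀ (x : R) (hx : φ ⟨(x : Ω), hRQ x.2⟩ ∈ (R.subgroupOf Q).map φ), χ ⟨φ ⟨(x : Ω), hRQ x.2⟩, hx⟩ = φ ⟨ψ x, hψQ x⟩) (htop : F'.autGroup S = F.autGroup S) (P : Subgroup Ω) : F'.Hom P = F.Hom P := by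
  suffices h : F ≤ F' from Set.Subset.antisymm (hle P) (h P)
  clear P
  refine hF.le_of_autGroup_le' hS F' fun P hP hbig => ?_
  rcases hP with rfl | hP
  · exact htop.ge
  have hPS : P < S := hP.lt hS hF
  have hfin := Cfsg.FusionSystem.finite_autGroup (F := F) hPS.le
  have hfn := hP.2.1
  obtain ⟨-, U, hU⟩ := hF.isFullyAutomized_of_isFullyNormalized hS hfn
  have hrec := hF.isReceptive_of_isFullyNormalized hS hfn
  let K : Subgroup (F.autGroup P) := (F'.autGroup P).subgroupOf (F.autGroup P)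
  have hKn : K.Normal := by
    refine ⟨fun a ha g => ?_⟩
    obtain ⟨φ, hφ, hφr, hφe⟩ := F.exists_map_of_mem_autGroup hPS.le g.2
    obtain ⟨ψ, hψ, -, hψe⟩ := F'.exists_map_of_mem_autGroup hPS.le (Subgroup.mem_subgroupOf.mp ha)
    have hψP : ∀ x : P, ψ x ∈ P := fun x => by rw [hψe]; exact SetLike.coe_mem _
    obtain ⟨χ, hχ, hχe⟩ := hinv P φ hφ P le_rfl ψ hψ hψP
    have hPP : P ≤ (P.subgroupOf P).map φ := fun y hy => by
      obtain ⟨x, hx⟩ := hφr.ge hy
      exact ⟨x, x.2, hx⟩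
    refine F'.mem_autGroup_of_map (F'.restrict_mem hχ hPP) fun x => ?_
    obtain ⟨y, rfl⟩ := (g : MulAut P).surjective x
    have h1 : φ ⟨(y : Ω), y.2⟩ ∈ (P.subgroupOf P).map φ := ⟨y, y.2, rfl⟩
    have h2 := hχe y h1
    show (((g * a * g⁻¹ : F.autGroup P) : MulAut P) ((g : MulAut P) y) : Ω) = χ _
    have h3 : (⟨(((g : MulAut P) y : P) : Ω), hPP ((g : MulAut P) y).2⟩ : ↥((P.subgroupOf P).map φ)) =
        ⟨φ ⟨(y : Ω), y.2⟩, h1⟩ := Subtype.ext (hφe y).symm
    refine Eq.trans ?_ ((congrArg χ h3).trans h2).symm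
    rw [hφe]
    have h4 : (⟨ψ y, hψP y⟩ : P) = (a : MulAut P) y := Subtype.ext (hψe y)
    rw [h4]
    simp [MulAut.mul_apply]
  have hUK : (U : Subgroup (F.autGroup P)) ≤ K := fun u hu =>
    Cfsg.FusionSystem.autInducedBy_le_autGroup (F := F') hPS.le (hU.le hu)
  have hgen := U.normalizer_sup_eq_top' hUK
  intro α hα
  have hmem : (⟨α, hα⟩ : F.autGroup P) ∈ K := by
    refine (?_ : (⊤ : Subgroup (F.autGroup P)) ≤ K) (Subgroup.mem_top _)
    rw [← hgen]
    refine sup_le (fun γ hγ => ?_) le_rfl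
    obtain ⟨ψ, hψ, hψe⟩ := Cfsg.FusionSystem.exists_extension_of_normalizes hrec γ.2
      (le_refl (Cfsg.FusionSystem.normalizerIn S P)) (by
        intro g hg hgN
        let c : F.autGroup P := ⟨P.normalizerMonoidHom ⟨g, hgN⟩,
          Cfsg.FusionSystem.autInducedBy_le_autGroup hPS.le
            (Cfsg.mem_autInducedBy_iff.mpr ⟨g, hg.1, hgN, fun _ => rfl⟩)⟩
        have hc : c ∈ (U : Subgroup (F.autGroup P)) :=
          hU.ge (Cfsg.mem_autInducedBy_iff.mpr ⟨g, hg.1, hgN, fun _ => rfl⟩)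
        exact hU.le ((Subgroup.mem_normalizer_iff.mp hγ c).mp hc))
    have hS' : P ⊔ Cfsg.FusionSystem.normalizerIn S P ≤ S :=
      sup_le hPS.le Cfsg.FusionSystem.normalizerIn_le
    have := Cfsg.FusionSystem.finite_of_le hS'
    exact F'.mem_autGroup_of_map (F'.restrict_mem (hbig _ (Cfsg.FusionSystem.card_lt_of_lt
      (lt_of_lt_of_le (Cfsg.FusionSystem.lt_normalizerIn (p := p) hS hPS) le_sup_right)) hψ) le_sup_left)
      fun x => (hψe x).symm
  exact hmem

end Cfsg.Agent.S5338
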