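import Cfsg.Statements.S5358
import Cfsg.Agent.Lib.PolarVec

set_option autoImplicit false
open scoped MatrixGroups Matrix
open Cfsg

namespace Cfsg.Agent.S5358

/-- Let Q be a non-degenerate quadratic form on the n-dimensional coordinate space over the field with three elements and u, v vectors of the same non-zero norm Q(u) = Q(v) spanning different lines (v ≠ u and v ≠ −u). Then the reflection matrices of u and v commute if and only if u and v are orthogonal for the polar form of Q. -/
theorem result (n : ℕ) (Q : QuadraticForm (ZMod 3) (Fin n → ZMod 3)) (hQ : (QuadraticMap.polarBilin Q).Nondegenerate) (u v : Fin n → ZMod 3) (hu : Q u ≠ 0) (huv : Q u = Q v) (h1 : v ≠ u) (h2 : v ≠ -u) : Commute (Cfsg.reflectionMatrix (⇑Q) u) (Cfsg.reflectionMatrix (⇑Q) v) ↔ QuadraticMap.polar (⇑Q) u v = 0 := by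
  classical
  set a := QuadraticMap.polar (⇑Q) u v with ha
  have hv : Q v ≠ 0 := huv ▸ hu
  have hR : ∀ w x, Cfsg.reflectionMatrix (⇑Q) w *ᵥ x = x + (-((Q w)⁻¹ * QuadraticMap.polar (⇑Q) w x)) • w :=
    fun w x => CfsgLib.PolarVec.reflection_mulVec Q w x
  have hp : ∀ (w x y : Fin n → ZMod 3) (c : ZMod 3), QuadraticMap.polar (⇑Q) w (x + c • y) =
      QuadraticMap.polar (⇑Q) w x + c * QuadraticMap.polar (⇑Q) w y := by
    intro w x y c
    rw [QuadraticMap.polar_add_right, QuadraticMap.polar_smul_right, smul_eq_mul]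
  have hsym : QuadraticMap.polar (⇑Q) v u = a := QuadraticMap.polar_comm (⇑Q) v u
  have key : ∀ x, Cfsg.reflectionMatrix (⇑Q) u *ᵥ (Cfsg.reflectionMatrix (⇑Q) v *ᵥ x) -
      Cfsg.reflectionMatrix (⇑Q) v *ᵥ (Cfsg.reflectionMatrix (⇑Q) u *ᵥ x) =
      ((Q u)⁻¹ * (Q u)⁻¹ * a) • ((QuadraticMap.polar (⇑Q) v x) • u - (QuadraticMap.polar (⇑Q) u x) • v) := by
    intro x
    rw [hR v x, hR u (x + _), hR u x, hR v (x + _), hp, hp, hsym, ← ha, ← huv]
    module
  constructor
  · intro hc
    by_contra hne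
    have h0 := key u
    rw [Matrix.mulVec_mulVec, Matrix.mulVec_mulVec, hc.eq, sub_self] at h0
    have h3 := (smul_eq_zero.mp h0.symm).resolve_left (mul_ne_zero (mul_ne_zero (inv_ne_zero hu) (inv_ne_zero hu)) hne)
    rw [hsym, CfsgLib.PolarVec.polar_self, sub_eq_zero] at h3
    have h20 : (2 * Q u) ≠ 0 := mul_ne_zero (by decide) hu
    have hval : ∀ b : ZMod 3, b = 0 ∨ b = 1 ∨ b = -1 := by decide
    have hve : v = ((2 * Q u)⁻¹ * a) • u := by
      rw [mul_smul, h3, ← mul_smul, inv_mul_cancel₀ h20, one_smul]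
    rcases hval ((2 * Q u)⁻¹ * a) with e | e | e <;> rw [e] at hve
    · rw [zero_smul] at hve; exact hv (by rw [hve, QuadraticMap.map_zero])
    · rw [one_smul] at hve; exact h1 hve
    · rw [neg_one_smul] at hve; exact h2 hve
  · intro h0
    refine Matrix.ext_of_mulVec_single fun i => ?_
    have := key (Pi.single i 1)
    rw [h0, mul_zero, zero_smul, sub_eq_zero, Matrix.mulVec_mulVec, Matrix.mulVec_mulVec] at this
    exact this

end Cfsg.Agent.S5358
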