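import Cfsg.Statements.S5378
import Cfsg.Agent.Lib.ConwayType.Sylow
-- import your own Cfsg.Agent.* helpers here

set_option autoImplicit false
open Cfsg

namespace Cfsg.Agent.S5378

/-- Let G be a finite group of Conway type: it has an involution z whose centralizer C has generalized Fitting subgroup Q extraspecial of order 2^9 with C/Q isomorphic to the commutator subgroup of the isometry group of the hyperbolic quadratic form in dimension 8 over the field with two elements, and some conjugate of z other than z lies in Q. Then G has exactly three conjugacy classes of involutions. -/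
theorem result {G : Type*} [Group G] [Finite G] (z : G) (hz : orderOf z = 2) (Q : Subgroup (Subgroup.centralizer ({z} : Set G))) [Q.Normal] (hF : Cfsg.generalizedFittingSubgroup (Subgroup.centralizer ({z} : Set G)) = Q) (hQ : Cfsg.IsExtraspecial 2 Q) (hcard : Nat.card Q = 2 ^ 9) (e : (Subgroup.centralizer ({z} : Set G)) ⧸ Q ≃* Cfsg.Omega (ZMod 2) (Cfsg.quadFormPlus 4 (ZMod 2))) (hnwc : ∃ g : G, (∃ hq : g * z * g⁻¹ ∈ Subgroup.centralizer ({z} : Set G), (⟨g * z * g⁻¹, hq⟩ : Subgroup.centralizer ({z} : Set G)) ∈ Q) ∧ g * z * g⁻¹ ≠ z) : ∃ a b c : G, orderOf a = 2 ∧ orderOf b = 2 ∧ orderOf c = 2 ∧ ¬ IsConj a b ∧ ¬ IsConj a c ∧ ¬ IsConj b c ∧ ∀ x : G, orderOf x = 2 → IsConj x a ∨ IsConj x b ∨ IsConj x c := by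
  obtain ⟨π, M, h⟩ := CfsgLib.ConwayType.exists_ST z hz Q hF hQ hcard e hnwc
  obtain ⟨x, Q', π', M', P⟩ := h.exists_pr
  obtain ⟨s, hs, hsp, -⟩ := P.exists_s
  obtain ⟨⟨t, ht⟩, ⟨t', ht'⟩⟩ := P.exists_typ hs hsp
  obtain ⟨-, -, htt, htQ⟩ := P.cfg_props hs hsp (P.typ_cfg hs ht)
  obtain ⟨-, -, htt', htQ'⟩ := P.cfg_props hs hsp (P.tri_cfg ht')
  refine ⟨z, t, t', hz, orderOf_eq_prime (by rw [pow_two, htt]) (fun h1 => htQ (h1 ▸ one_mem _)),
    orderOf_eq_prime (by rw [pow_two, htt']) (fun h1 => htQ' (h1 ▸ one_mem _)),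
    P.not_conj hs hsp (P.typ_cfg hs ht), P.not_conj hs hsp (P.tri_cfg ht'), P.typ_not_tri hs hsp ht ht',
    fun y hy => ?_⟩
  have hyy : y * y = 1 := by rw [← pow_two, ← hy, pow_orderOf_eq_one]
  have hy1 : y ≠ 1 := fun h1 => by rw [h1, orderOf_one] at hy; exact absurd hy (by norm_num)
  exact (P.classify hs hsp ht ht' hyy hy1).imp IsConj.symm (Or.imp IsConj.symm IsConj.symm)

end Cfsg.Agent.S5378
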