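import Cfsg.Statements.S5382
import Cfsg.Agent.Lib.HallJankoType.Norm

set_option autoImplicit false
open Cfsg

namespace Cfsg.Agent.S5382

universe u

theorem core_map {G : Type u} [Group G] (f : G ≃* G) (H : Subgroup G) :
    (Cfsg.pCore 2 ↥(H.map f.toMonoidHom)).map (H.map f.toMonoidHom).subtype =
      ((Cfsg.pCore 2 ↥H).map H.subtype).map f.toMonoidHom := by
  rw [← CfsgLib.pCore_map_equiv 2 (H.equivMapOfInjective f.toMonoidHom f.injective), Subgroup.map_map,
    Subgroup.map_map]
  rfl

/-- Let G be a finite group of Hall–Janko type: it has more than one class of involutions and an involution z whose centralizer C has generalized Fitting subgroup Q extraspecial of order 32 with C/Q isomorphic to the commutator subgroup of the isometry group of the elliptic quadratic form in dimension 4 over the field with two elements (the alternating group of degree 5), with z not weakly closed in Q. Then for every involution t not conjugate to z, the centralizer of t is isomorphic to the direct product of an elementary abelian group of order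 4 and the alternating group of degree 5, and the normalizer of the largest normal 2-subgroup of that centralizer is isomorphic to the direct product of the alternating groups of degrees 4 and 5. -/
theorem result {G : Type*} [Group G] [Finite G] (z : G) (hz : orderOf z = 2) (Q : Subgroup (Subgroup.centralizer ({z} : Set G))) [Q.Normal] (hF : Cfsg.generalizedFittingSubgroup (Subgroup.centralizer ({z} : Set G)) = Q) (hQ : Cfsg.IsExtraspecial 2 Q) (hcard : Nat.card Q = 2 ^ 5) (e : (Subgroup.centralizer ({z} : Set G)) ⧸ Q ≃* Cfsg.Omega (ZMod 2) (Cfsg.quadFormMinus 1 (ZMod 2) 1 1)) (hnwc : ∃ g : G, (∃ hq : g * z * g⁻¹ ∈ Subgroup.centralizer ({z} : Set G), (⟨g * z * g⁻¹, hq⟩ : Subgroup.centralizer ({z} : Set G)) ∈ Q) ∧ g * z * g⁻¹ ≠ z) (hcl : ∃ x y : G, orderOf x = 2 ∧ orderOf y = 2 ∧ ¬ IsConj x y) (t : G) (ht : orderOf t = 2) (htz : ¬ IsConj t z) : Nonempty (↥(Subgroup.centralizer ({t} : Set G)) ≃* (Multiplicative (ZMod 2) × Multiplicative (ZMod 2)) × alternatingGroup (Fin 5)) ∧ Nonempty (↥(Subgroup.normalizer (((Cfsg.pCore 2 ↥(Subgroup.centralizer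 ({t} : Set G))).map (Subgroup.subtype (Subgroup.centralizer ({t} : Set G))) : Subgroup G) : Set G)) ≃* alternatingGroup (Fin 4) × alternatingGroup (Fin 5)) := by
  obtain ⟨pm, h⟩ := CfsgLib.HallJankoType.exists_HJ z hz Q hF hQ hcard e hnwc hcl
  obtain ⟨x, t₀, t', d, Q', pm', D⟩ := CfsgLib.HallJankoType.exists_cyc h
  obtain ⟨M, S⟩ := D.exists_sub
  have ht2 : t * t = 1 := by
    have := pow_orderOf_eq_one t
    rwa [ht, pow_two] at this
  have ht1 : t ≠ 1 := fun e => by rw [e, orderOf_one] at ht; omega
  obtain ⟨g, rfl⟩ := isConj_iff.mp ((D.K.class_cases ht2 ht1).resolve_left fun hc => htz hc.symm)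
  have hC : Subgroup.centralizer ({g * t₀ * g⁻¹} : Set G) =
      (Subgroup.centralizer ({t₀} : Set G)).map (MulAut.conj g).toMonoidHom := by
    ext a
    constructor
    · intro ha
      refine ⟨g⁻¹ * a * g, CfsgLib.HallJankoType.mem_cent.mpr ?_, by simp [mul_assoc]⟩
      refine (CfsgLib.HallJankoType.conj_comm_iff g _ t₀).mp ?_
      rw [show g * (g⁻¹ * a * g) * g⁻¹ = a by group]
      exact CfsgLib.HallJankoType.mem_cent.mp ha
    · rintro ⟨b, hb, rfl⟩
      exact CfsgLib.HallJankoType.mem_cent.mpr
        ((CfsgLib.HallJankoType.conj_comm_iff g b t₀).mpr (CfsgLib.HallJankoType.mem_cent.mp hb))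
  constructor
  · obtain ⟨e₁⟩ := S.ct_iso
    exact ⟨((MulEquiv.subgroupCongr hC).trans
      ((Subgroup.centralizer ({t₀} : Set G)).equivMapOfInjective _ (MulAut.conj g).injective).symm).trans e₁⟩
  · obtain ⟨e₂⟩ := S.norm_iso
    rw [hC, core_map, S.pCore_eq, ← Subgroup.map_equiv_normalizer_eq]
    exact ⟨((Subgroup.normalizer (CfsgLib.HallJankoType.Sub.F D : Set G)).equivMapOfInjective _
      (MulAut.conj g).injective).symm.trans e₂⟩

end Cfsg.Agent.S5382
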