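import Cfsg.Statements.S5383
import Cfsg.Agent.Lib.SuzType.Second.Seven
-- import your own Cfsg.Agent.* helpers here

set_option autoImplicit false
open Cfsg

namespace Cfsg.Agent.S5383

/-- Let G be a finite group of Suzuki sporadic type (involution z with generalized Fitting subgroup Q of its centralizer C extraspecial of order 2^7, C/Q the commutator subgroup of the isometry group of the elliptic quadratic form in dimension 6 over the field with two elements, z not weakly closed in Q). Then for every Sylow 7-subgroup B of G, the centralizer of B is isomorphic to the direct product of a cyclic group of order 7 and the alternating group of degree 4, and the normalizer of B has order 504. -/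
theorem result {G : Type*} [Group G] [Finite G] (z : G) (hz : orderOf z = 2) (Q : Subgroup (Subgroup.centralizer ({z} : Set G))) [Q.Normal] (hF : Cfsg.generalizedFittingSubgroup (Subgroup.centralizer ({z} : Set G)) = Q) (hQ : Cfsg.IsExtraspecial 2 Q) (hcard : Nat.card Q = 2 ^ 7) (e : (Subgroup.centralizer ({z} : Set G)) ⧸ Q ≃* Cfsg.Omega (ZMod 2) (Cfsg.quadFormMinus 2 (ZMod 2) 1 1)) (hnwc : ∃ g : G, (∃ hq : g * z * g⁻¹ ∈ Subgroup.centralizer ({z} : Set G), (⟨g * z * g⁻¹, hq⟩ : Subgroup.centralizer ({z} : Set G)) ∈ Q) ∧ g * z * g⁻¹ ≠ z) (B : Sylow 7 G) : Nonempty (↥(Subgroup.centralizer ((B : Subgroup G) : Set G)) ≃* Multiplicative (ZMod 7) × alternatingGroup (Fin 4)) ∧ Nat.card ↥(Subgroup.normalizer ((B : Subgroup G) : Set G)) = 504 := by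
  obtain ⟨π, M, h⟩ := CfsgLib.SuzType.exists_ST z hz Q hF hQ hcard e hnwc
  obtain ⟨x, t, w, hB⟩ := h.exists_base
  obtain ⟨b, g, hb, hbo, hBe⟩ := hB.sylow_seven h B
  obtain ⟨iso⟩ := hB.cent_seven_iso h hb hbo
  have hmap : (B : Subgroup G) = (Subgroup.zpowers b).map (MulAut.conj g).toMonoidHom := by
    rw [hBe, MonoidHom.map_zpowers]; rfl
  refine ⟨⟨MulEquiv.trans ?_ iso⟩, ?_⟩
  · refine (MulEquiv.subgroupCongr ?_).trans ((MulAut.conj g).subgroupMap (Subgroup.centralizer ({b} : Set G))).symm
    ext c
    rw [hBe, Subgroup.mem_map]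
    constructor
    · intro hc
      refine ⟨g⁻¹ * c * g, ?_, by simp [mul_assoc]⟩
      have hcb := Subgroup.mem_centralizer_iff.mp hc _ (Subgroup.mem_zpowers _)
      refine CfsgLib.HallJankoType.mem_cent.mpr ?_
      calc g⁻¹ * c * g * b = g⁻¹ * (c * (g * b * g⁻¹)) * g := by group
        _ = g⁻¹ * (g * b * g⁻¹ * c) * g := by rw [hcb]
        _ = b * (g⁻¹ * c * g) := by group
    · rintro ⟨a, ha, rfl⟩
      refine Subgroup.mem_centralizer_iff.mpr fun q hq => ?_
      obtain ⟨i, rfl⟩ := Subgroup.mem_zpowers_iff.mp hq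
      have hab : Commute (MulAut.conj g b) (MulAut.conj g a) :=
        (show Commute b a from (CfsgLib.HallJankoType.mem_cent.mp ha).symm).map (MulAut.conj g)
      exact (hab.zpow_left i).eq
  · rw [hmap, ← Subgroup.map_equiv_normalizer_eq _ (MulAut.conj g),
      Subgroup.card_map_of_injective (f := (MulAut.conj g).toMonoidHom) (MulAut.conj g).injective,
      hB.card_norm_seven h hb hbo]

end Cfsg.Agent.S5383
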