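import Cfsg.Statements.S5394
import Cfsg.Agent.Lib.Golay.ElemClasses

set_option autoImplicit false
open Cfsg
open scoped Pointwise

namespace Cfsg.Agent.S5394

/-- The automorphism group of the length-24 code built from the squares modulo 23 has exactly two conjugacy classes of involutions: an involution either fixes exactly the eight points of an octad or has no fixed points, both kinds occur, and any two involutions of the same kind are conjugate in the group. -/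
theorem result : (∀ g ∈ Cfsg.M24, orderOf g = 2 → (Finset.univ.filter fun p => g p = p) ∈ Cfsg.octads ∨ ∀ p, g p ≠ p) ∧ (∃ g ∈ Cfsg.M24, orderOf g = 2 ∧ (Finset.univ.filter fun p => g p = p) ∈ Cfsg.octads) ∧ (∃ g ∈ Cfsg.M24, orderOf g = 2 ∧ ∀ p, g p ≠ p) ∧ ∀ g ∈ Cfsg.M24, ∀ h ∈ Cfsg.M24, orderOf g = 2 → orderOf h = 2 → ((∀ p, g p ≠ p) ↔ (∀ p, h p ≠ p)) → ∃ k ∈ Cfsg.M24, k * g * k⁻¹ = h := by
  refine ⟨fun g hg ho => ?_, ⟨CfsgGolay.r2A, CfsgGolay.mem_r2A, CfsgGolay.order_2A, ?_⟩,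
    ⟨CfsgGolay.r2B, CfsgGolay.mem_r2B, CfsgGolay.order_2B, CfsgGolay.fixF_empty_iff.mp CfsgGolay.card_fix_2B⟩,
    fun g hg k hk hog hok hiff => ?_⟩
  · obtain ⟨k, hk, h | h⟩ := CfsgGolay.class_two hg ho
    · left
      have : CfsgGolay.fixF g = k⁻¹ • CfsgGolay.O0 := by
        rw [← CfsgGolay.fix_2A, ← h, CfsgGolay.smul_set_pts, ← CfsgGolay.fixF_conj]
        congr 1; group
      show CfsgGolay.fixF g ∈ Cfsg.octads
      rw [this]
      exact CfsgGolay.smul_mem_octads (inv_mem hk) CfsgGolay.O0_mem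
    · right
      rw [← CfsgGolay.fixF_empty_iff, ← CfsgGolay.card_fixF_conj k, h, CfsgGolay.card_fix_2B]
  · show CfsgGolay.fixF CfsgGolay.r2A ∈ Cfsg.octads
    rw [CfsgGolay.fix_2A]; exact CfsgGolay.O0_mem
  · rw [← CfsgGolay.fixF_empty_iff, ← CfsgGolay.fixF_empty_iff] at hiff
    by_cases h0 : (CfsgGolay.fixF g).card = 0
    · obtain ⟨a, ha, h1⟩ := CfsgGolay.class_2B hg hog (by omega)
      obtain ⟨b, hb, h2⟩ := CfsgGolay.class_2B hk hok (by rw [hiff.mp h0]; decide)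
      refine ⟨b⁻¹ * a, mul_mem (inv_mem hb) ha, ?_⟩
      rw [show b⁻¹ * a * g * (b⁻¹ * a)⁻¹ = b⁻¹ * (a * g * a⁻¹) * b by group, h1, ← h2]; group
    · obtain ⟨a, ha, h1⟩ := CfsgGolay.class_2A hg hog h0
      obtain ⟨b, hb, h2⟩ := CfsgGolay.class_2A hk hok fun h => h0 (hiff.mpr h)
      refine ⟨b⁻¹ * a, mul_mem (inv_mem hb) ha, ?_⟩
      rw [show b⁻¹ * a * g * (b⁻¹ * a)⁻¹ = b⁻¹ * (a * g * a⁻¹) * b by group, h1, ← h2]; group

end Cfsg.Agent.S5394
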