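import Cfsg.Statements.S5398
import Cfsg.Agent.Lib.ThreeTrans.M22.InvolClasses
-- import your own Cfsg.Agent.* helpers here

set_option autoImplicit false
open Cfsg

namespace Cfsg.Agent.S5398

open CfsgThreeTrans CfsgThreeTrans.M22 CfsgLib

/-- Let G be a finite group with trivial centre generated by a conjugation-invariant set D of 3-transpositions on which it acts primitively, such that for some d in D the subgroup generated by the members of D other than d commuting with d has central largest normal 2- and 3-subgroups, and suppose G with D is of type M(22). Then G has exactly 3 conjugacy classes of involutions: every involution is a product of m distinct pairwise commuting members of D for some m between 1 and 3; for each such m these products form one non-empty conjugacy class; and the value of m is determined by the involution. -/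
theorem result {G : Type*} [Group G] [Finite G] {D : Set G} (hD : Cfsg.IsThreeTranspositionGroup D) (hprim : Cfsg.IsPrimitiveUnderConj D) (d : G) (hd : d ∈ D) (h3 : Cfsg.pCore 3 ↥(Subgroup.closure {y : G | y ∈ D ∧ y ≠ d ∧ Commute d y}) ≤ Subgroup.center ↥(Subgroup.closure {y : G | y ∈ D ∧ y ≠ d ∧ Commute d y})) (h2 : Cfsg.pCore 2 ↥(Subgroup.closure {y : G | y ∈ D ∧ y ≠ d ∧ Commute d y}) ≤ Subgroup.center ↥(Subgroup.closure {y : G | y ∈ D ∧ y ≠ d ∧ Commute d y})) (ht : Cfsg.IsOfTypeM22 G D) : (∀ x : G, orderOf x = 2 → ∃ m : ℕ, 1 ≤ m ∧ m ≤ 3 ∧ (∃ l : List G, l.Nodup ∧ l.length = m ∧ (∀ a ∈ l, a ∈ D) ∧ (∀ a ∈ l, ∀ b ∈ l, Commute a b) ∧ l.prod = x)) ∧ (∀ m : ℕ, 1 ≤ m → m ≤ 3 → (∃ x : G, orderOf x = 2 ∧ (∃ l : List G, l.Nodup ∧ l.length = m ∧ (∀ a ∈ l, a ∈ D) ∧ (∀ a ∈ l, ∀ b ∈ l, Commute a b) ∧ l.prod = x)) ∧ ∀ x y : G, (∃ l : List G, l.Nodup ∧ l.length = m ∧ (∀ a ∈ l, a ∈ D) ∧ (∀ a ∈ l, ∀ b ∈ l, Commute a b) ∧ l.prod = x) → (∃ l : List G, l.Nodup ∧ l.length = m ∧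 (∀ a ∈ l, a ∈ D) ∧ (∀ a ∈ l, ∀ b ∈ l, Commute a b) ∧ l.prod = y) → IsConj x y) ∧ ∀ (m m' : ℕ) (x : G), 1 ≤ m → m ≤ 3 → 1 ≤ m' → m' ≤ 3 → (∃ l : List G, l.Nodup ∧ l.length = m ∧ (∀ a ∈ l, a ∈ D) ∧ (∀ a ∈ l, ∀ b ∈ l, Commute a b) ∧ l.prod = x) → (∃ l : List G, l.Nodup ∧ l.length = m' ∧ (∀ a ∈ l, a ∈ D) ∧ (∀ a ∈ l, ∀ b ∈ l, Commute a b) ∧ l.prod = x) → m = m' := by
    have hcl := cls_of_group_prim hD hprim
    obtain ⟨F, iF, iFt, iDec, hF, ⟨A⟩⟩ := exists_data hcl hprim hd h3 h2 ht
    refine ⟨fun x hx => ?_, fun m h1 h3' => ?_, ?_⟩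
    · have hx2 : x * x = 1 := by
        have := pow_orderOf_eq_one x
        rwa [hx, pow_two] at this
      obtain ⟨l, hlen, hn, hm, hc, hprod⟩ := short_invol hD hprim hd h3 h2 ht A hx2
      refine ⟨l.length, Nat.one_le_iff_ne_zero.mpr fun e => ?_, hlen, l, hn, rfl, hm, hc, hprod⟩
      rw [List.eq_nil_of_length_eq_zero e, List.prod_nil] at hprod
      rw [← hprod, orderOf_one] at hx
      norm_num at hx
    · have e1 : q1 A ∈ Ds D A.t := point_mem A _
      have e2 : q2 A ∈ Ds D A.t := point_mem A _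
      have c12 : Commute (q1 A) (q2 A) := dp_commute A 1 0 0 0 1 0 _ _
      have n12 : q1 A ≠ q2 A := fun e => by
        obtain ⟨k, -, hk⟩ := (point_eq_iff A _ _).mp e
        simpa [dv, dbl] using congrFun hk 0
      refine ⟨?_, ?_⟩
      · rcases (show m = 1 ∨ m = 2 ∨ m = 3 by omega) with rfl | rfl | rfl
        · exact ⟨A.t, hcl.1.1 _ A.ht, [A.t], by simp, rfl, by simp [A.ht], by simp [Commute.refl], by simp⟩
        · refine ⟨A.t * q1 A, orderOf_eq_prime ?_ fun e => ?_, [A.t, q1 A], by simp [e1.2.1.symm], rfl,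
            by simp [A.ht, e1.1], by simp [Commute.refl, e1.2.2, e1.2.2.symm], by simp⟩
          · rw [e1.2.2.mul_pow, pow_two, pow_two, CfsgThreeTrans.mul_self hcl.1 A.ht,
              CfsgThreeTrans.mul_self hcl.1 e1.1, one_mul]
          · exact e1.2.1 (((inv_eq_of_mul_eq_one_right e).symm.trans (CfsgThreeTrans.inv_self hcl.1 A.ht)))
        · refine ⟨A.t * q1 A * q2 A, orderOf_eq_prime ?_ fun e => ?_, [A.t, q1 A, q2 A],
            by simp [e1.2.1.symm, e2.2.1.symm, n12], rfl, by simp [A.ht, e1.1, e2.1],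
            by simp [Commute.refl, e1.2.2, e1.2.2.symm, e2.2.2, e2.2.2.symm, c12, c12.symm], by simp [mul_assoc]⟩
          · rw [pow_two]; exact invol_three hcl A.ht e1.1 e2.1 e1.2.2 e2.2.2 c12
          · rw [mul_assoc] at e
            refine ne_two hD hprim hd h3 h2 ht A A.ht e1.1 e2.1 n12 c12 ?_
            rw [← CfsgThreeTrans.inv_self hcl.1 A.ht]
            exact inv_eq_of_mul_eq_one_right e
      · rintro x y ⟨l, hn, hlen, hm, hc, rfl⟩ ⟨l', hn', hlen', hm', hc', rfl⟩
        rcases (show m = 1 ∨ m = 2 ∨ m = 3 by omega) with rfl | rfl | rfl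
        · obtain ⟨a, rfl⟩ := List.length_eq_one_iff.mp hlen
          obtain ⟨b, rfl⟩ := List.length_eq_one_iff.mp hlen'
          exact isConj_iff.mpr (by simpa using cls_exists_conj hcl (hm a (by simp)) (hm' b (by simp)))
        · obtain ⟨a, b, rfl⟩ := List.length_eq_two.mp hlen
          obtain ⟨a', b', rfl⟩ := List.length_eq_two.mp hlen'
          obtain ⟨g, f1, f2⟩ := conj_base hcl A (hm a (by simp))
            ⟨hm b (by simp), Ne.symm (by simpa using hn), hc a (by simp) b (by simp)⟩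
          obtain ⟨k, f3, f4⟩ := conj_base hcl A (hm' a' (by simp))
            ⟨hm' b' (by simp), Ne.symm (by simpa using hn'), hc' a' (by simp) b' (by simp)⟩
          refine isConj_iff.mpr ⟨k * g⁻¹, ?_⟩
          simp only [List.prod_cons, List.prod_nil, mul_one]
          rw [← f1, ← f2, ← f3, ← f4]
          group
        · obtain ⟨a, b, c, rfl⟩ := List.length_eq_three.mp hlen
          obtain ⟨a', b', c', rfl⟩ := List.length_eq_three.mp hlen'
          simp only [List.nodup_cons, List.mem_cons, List.not_mem_nil, or_false, not_or, List.nodup_nil, and_true]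
            at hn hn'
          obtain ⟨g, f1, f2, f3⟩ := triple_map hcl A (hm a (by simp))
            ⟨hm b (by simp), Ne.symm hn.1.1, hc a (by simp) b (by simp)⟩
            ⟨hm c (by simp), Ne.symm hn.1.2, hc a (by simp) c (by simp)⟩ hn.2.1 (hc b (by simp) c (by simp))
            (hm' a' (by simp)) ⟨hm' b' (by simp), Ne.symm hn'.1.1, hc' a' (by simp) b' (by simp)⟩
            ⟨hm' c' (by simp), Ne.symm hn'.1.2, hc' a' (by simp) c' (by simp)⟩ hn'.2.1 (hc' b' (by simp) c' (by simp))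
          refine isConj_iff.mpr ⟨g, ?_⟩
          simp only [List.prod_cons, List.prod_nil, mul_one]
          rw [← f1, ← f2, ← f3]
          group
    · rintro m m' x h1 h1' k1 k1' ⟨l, hl⟩ ⟨l', hl'⟩
      exact fac_length hD hprim hd h3 h2 ht A h1 h1' k1 k1' hl hl'

end Cfsg.Agent.S5398
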