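import Cfsg.Statements.S5399
import Cfsg.Agent.Lib.ThreeTrans.M23.Invol
-- import your own Cfsg.Agent.* helpers here

set_option autoImplicit false
open Cfsg

namespace Cfsg.Agent.S5399

open CfsgThreeTrans CfsgThreeTrans.M22 CfsgLib

theorem pair_in {G : Type*} [Group G] [Finite G] {D : Set G} (hD : IsThreeTranspositionClass D) (B : M23.Base D) :
    ∃ b1 ∈ Ds D B.t, ∃ b2 ∈ Ds D B.t, b1 ≠ b2 ∧ Commute b1 b2 := by
  obtain ⟨X, hX, -⟩ := B.two
  obtain ⟨y, hy⟩ : (Ds D B.t ∩ Ds D (X : G)).Nonempty := by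
    rw [← Set.ncard_pos, M23.ncard_perp hD B hX]
    norm_num
  exact ⟨X, hX, y, hy.1, hy.2.2.1.symm, hy.2.2.2⟩

/-- Let G be a finite group with trivial centre generated by a conjugation-invariant set D of 3-transpositions on which it acts primitively, such that for some d in D the subgroup generated by the members of D other than d commuting with d has central largest normal 2- and 3-subgroups, and suppose G with D is of type M(23). Then G has exactly 3 conjugacy classes of involutions: every involution is a product of m distinct pairwise commuting members of D for some m between 1 and 3; for each such m these products form one non-empty conjugacy class; and the value of m is determined by the involution. -/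
theorem result {G : Type*} [Group G] [Finite G] {D : Set G} (hD : Cfsg.IsThreeTranspositionGroup D) (hprim : Cfsg.IsPrimitiveUnderConj D) (d : G) (hd : d ∈ D) (h3 : Cfsg.pCore 3 ↥(Subgroup.closure {y : G | y ∈ D ∧ y ≠ d ∧ Commute d y}) ≤ Subgroup.center ↥(Subgroup.closure {y : G | y ∈ D ∧ y ≠ d ∧ Commute d y})) (h2 : Cfsg.pCore 2 ↥(Subgroup.closure {y : G | y ∈ D ∧ y ≠ d ∧ Commute d y}) ≤ Subgroup.center ↥(Subgroup.closure {y : G | y ∈ D ∧ y ≠ d ∧ Commute d y})) (ht : Cfsg.IsOfTypeM23 G D) : (∀ x : G, orderOf x = 2 → ∃ m : ℕ, 1 ≤ m ∧ m ≤ 3 ∧ (∃ l : List G, l.Nodup ∧ l.length = m ∧ (∀ a ∈ l, a ∈ D) ∧ (∀ a ∈ l, ∀ b ∈ l, Commute a b) ∧ l.prod = x)) ∧ (∀ m : ℕ, 1 ≤ m → m ≤ 3 → (∃ x : G, orderOf x = 2 ∧ (∃ l : List G, l.Nodup ∧ l.length = m ∧ (∀ a ∈ l, a ∈ D) ∧ (∀ a ∈ l, ∀ b ∈ l, Commute a b) ∧ l.prod = x)) ∧ ∀ x y : G, (∃ l : List G, l.Nodup ∧ l.length = m ∧ (∀ a ∈ l, a ∈ D) ∧ (∀ a ∈ l, ∀ b ∈ l, Commute a b) ∧ l.prod = x) → (∃ l : List G, l.Nodup ∧ l.length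 = m ∧ (∀ a ∈ l, a ∈ D) ∧ (∀ a ∈ l, ∀ b ∈ l, Commute a b) ∧ l.prod = y) → IsConj x y) ∧ ∀ (m m' : ℕ) (x : G), 1 ≤ m → m ≤ 3 → 1 ≤ m' → m' ≤ 3 → (∃ l : List G, l.Nodup ∧ l.length = m ∧ (∀ a ∈ l, a ∈ D) ∧ (∀ a ∈ l, ∀ b ∈ l, Commute a b) ∧ l.prod = x) → (∃ l : List G, l.Nodup ∧ l.length = m' ∧ (∀ a ∈ l, a ∈ D) ∧ (∀ a ∈ l, ∀ b ∈ l, Commute a b) ∧ l.prod = x) → m = m' := by
    have hcl := cls_of_group_prim hD hprim
    obtain ⟨B⟩ := M23.exists_base hcl hprim ht
    refine ⟨fun x hx => ?_, fun m h1 h3' => ?_, ?_⟩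
    · have hx2 : x * x = 1 := by
        have := pow_orderOf_eq_one x
        rwa [hx, pow_two] at this
      obtain ⟨l, hlen, hn, hm, hc, hprod⟩ := M23.short_invol hD hprim ht B hx2
      refine ⟨l.length, Nat.one_le_iff_ne_zero.mpr fun e => ?_, hlen, l, hn, rfl, hm, hc, hprod⟩
      rw [List.eq_nil_of_length_eq_zero e, List.prod_nil] at hprod
      rw [← hprod, orderOf_one] at hx
      norm_num at hx
    · obtain ⟨b1, e1, b2, e2, n12, c12⟩ := pair_in hcl B
      refine ⟨?_, ?_⟩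
      · rcases (show m = 1 ∨ m = 2 ∨ m = 3 by omega) with rfl | rfl | rfl
        · exact ⟨B.t, hcl.1.1 _ B.ht, [B.t], by simp, rfl, by simp [B.ht], by simp [Commute.refl], by simp⟩
        · refine ⟨B.t * b1, orderOf_eq_prime ?_ fun e => ?_, [B.t, b1], by simp [e1.2.1.symm], rfl,
            by simp [B.ht, e1.1], by simp [Commute.refl, e1.2.2, e1.2.2.symm], by simp⟩
          · rw [e1.2.2.mul_pow, pow_two, pow_two, CfsgThreeTrans.mul_self hcl.1 B.ht,
              CfsgThreeTrans.mul_self hcl.1 e1.1, one_mul]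
          · exact e1.2.1 (((inv_eq_of_mul_eq_one_right e).symm.trans (CfsgThreeTrans.inv_self hcl.1 B.ht)))
        · refine ⟨B.t * b1 * b2, orderOf_eq_prime ?_ fun e => ?_, [B.t, b1, b2],
            by simp [e1.2.1.symm, e2.2.1.symm, n12], rfl, by simp [B.ht, e1.1, e2.1],
            by simp [Commute.refl, e1.2.2, e1.2.2.symm, e2.2.2, e2.2.2.symm, c12, c12.symm], by simp [mul_assoc]⟩
          · rw [pow_two]; exact invol_three hcl B.ht e1.1 e2.1 e1.2.2 e2.2.2 c12
          · rw [mul_assoc] at e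
            refine M23.ne_two hD hprim ht B B.ht e1.1 e2.1 n12 c12 ?_
            rw [← CfsgThreeTrans.inv_self hcl.1 B.ht]
            exact inv_eq_of_mul_eq_one_right e
      · rintro x y ⟨l, hn, hlen, hm, hc, rfl⟩ ⟨l', hn', hlen', hm', hc', rfl⟩
        rcases (show m = 1 ∨ m = 2 ∨ m = 3 by omega) with rfl | rfl | rfl
        · obtain ⟨a, rfl⟩ := List.length_eq_one_iff.mp hlen
          obtain ⟨b, rfl⟩ := List.length_eq_one_iff.mp hlen'
          exact isConj_iff.mpr (by simpa using cls_exists_conj hcl (hm a (by simp)) (hm' b (by simp)))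
        · obtain ⟨a, b, rfl⟩ := List.length_eq_two.mp hlen
          obtain ⟨a', b', rfl⟩ := List.length_eq_two.mp hlen'
          obtain ⟨g, f1, f2⟩ := M23.pair_map hD hprim B (hm a (by simp))
            ⟨hm b (by simp), Ne.symm (by simpa using hn), hc a (by simp) b (by simp)⟩ (hm' a' (by simp))
            ⟨hm' b' (by simp), Ne.symm (by simpa using hn'), hc' a' (by simp) b' (by simp)⟩
          refine isConj_iff.mpr ⟨g, ?_⟩
          simp only [List.prod_cons, List.prod_nil, mul_one]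
          rw [← f1, ← f2]
          group
        · obtain ⟨a, b, c, rfl⟩ := List.length_eq_three.mp hlen
          obtain ⟨a', b', c', rfl⟩ := List.length_eq_three.mp hlen'
          simp only [List.nodup_cons, List.mem_cons, List.not_mem_nil, or_false, not_or, List.nodup_nil, and_true]
            at hn hn'
          obtain ⟨g, f1, f2, f3⟩ := M23.triple_map hD hprim B (hm a (by simp))
            ⟨hm b (by simp), Ne.symm hn.1.1, hc a (by simp) b (by simp)⟩
            ⟨hm c (by simp), Ne.symm hn.1.2, hc a (by simp) c (by simp)⟩ hn.2.1 (hc b (by simp) c (by simp))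
            (hm' a' (by simp)) ⟨hm' b' (by simp), Ne.symm hn'.1.1, hc' a' (by simp) b' (by simp)⟩
            ⟨hm' c' (by simp), Ne.symm hn'.1.2, hc' a' (by simp) c' (by simp)⟩ hn'.2.1 (hc' b' (by simp) c' (by simp))
          refine isConj_iff.mpr ⟨g, ?_⟩
          simp only [List.prod_cons, List.prod_nil, mul_one]
          rw [← f1, ← f2, ← f3]
          group
    · rintro m m' x h1 h1' k1 k1' ⟨l, hl⟩ ⟨l', hl'⟩
      exact M23.fac_length hD hprim ht B h1 h1' k1 k1' hl hl'

end Cfsg.Agent.S5399
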