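import Cfsg.Statements.S5400
import Cfsg.Agent.Lib.ThreeTrans.M24.Involutions
-- import your own Cfsg.Agent.* helpers here

set_option autoImplicit false
open Cfsg

namespace Cfsg.Agent.S5400

open CfsgThreeTrans CfsgLib

/-- Let G be a finite group with trivial centre generated by a conjugation-invariant set D of 3-transpositions on which it acts primitively, such that for some d in D the subgroup generated by the members of D other than d commuting with d has central largest normal 2- and 3-subgroups, and suppose G with D is of type M(24). Then G has exactly 4 conjugacy classes of involutions: every involution is a product of m distinct pairwise commuting members of D for some m between 1 and 4; for each such m these products form one non-empty conjugacy class; and the value of m is determined by the involution. -/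
theorem result {G : Type*} [Group G] [Finite G] {D : Set G} (hD : Cfsg.IsThreeTranspositionGroup D) (hprim : Cfsg.IsPrimitiveUnderConj D) (d : G) (hd : d ∈ D) (h3 : Cfsg.pCore 3 ↥(Subgroup.closure {y : G | y ∈ D ∧ y ≠ d ∧ Commute d y}) ≤ Subgroup.center ↥(Subgroup.closure {y : G | y ∈ D ∧ y ≠ d ∧ Commute d y})) (h2 : Cfsg.pCore 2 ↥(Subgroup.closure {y : G | y ∈ D ∧ y ≠ d ∧ Commute d y}) ≤ Subgroup.center ↥(Subgroup.closure {y : G | y ∈ D ∧ y ≠ d ∧ Commute d y})) (ht : Cfsg.IsOfTypeM24 G D) : (∀ x : G, orderOf x = 2 → ∃ m : ℕ, 1 ≤ m ∧ m ≤ 4 ∧ (∃ l : List G, l.Nodup ∧ l.length = m ∧ (∀ a ∈ l, a ∈ D) ∧ (∀ a ∈ l, ∀ b ∈ l, Commute a b) ∧ l.prod = x)) ∧ (∀ m : ℕ, 1 ≤ m → m ≤ 4 → (∃ x : G, orderOf x = 2 ∧ (∃ l : List G, l.Nodup ∧ l.length = m ∧ (∀ a ∈ l, a ∈ D) ∧ (∀ a ∈ l, ∀ b ∈ l, Commute a b) ∧ l.prod = x)) ∧ ∀ x y : G, (∃ l : List G, l.Nodup ∧ l.length = m ∧ (∀ a ∈ l, a ∈ D) ∧ (∀ a ∈ l, ∀ b ∈ l, Commute a b) ∧ l.prod = x) → (∃ l : List G, l.Nodup ∧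 l.length = m ∧ (∀ a ∈ l, a ∈ D) ∧ (∀ a ∈ l, ∀ b ∈ l, Commute a b) ∧ l.prod = y) → IsConj x y) ∧ ∀ (m m' : ℕ) (x : G), 1 ≤ m → m ≤ 4 → 1 ≤ m' → m' ≤ 4 → (∃ l : List G, l.Nodup ∧ l.length = m ∧ (∀ a ∈ l, a ∈ D) ∧ (∀ a ∈ l, ∀ b ∈ l, Commute a b) ∧ l.prod = x) → (∃ l : List G, l.Nodup ∧ l.length = m' ∧ (∀ a ∈ l, a ∈ D) ∧ (∀ a ∈ l, ∀ b ∈ l, Commute a b) ∧ l.prod = x) → m = m' := by
  classical
  have hcl := cls_of_group_prim hD hprim
  obtain ⟨B⟩ := M24.exists_base hcl hprim ht
  have hZ := ht.1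
  refine ⟨fun x hx => ?_, fun m hm1 hm4 => ⟨?_, ?_⟩, ?_⟩
  · have hx2 : x * x = 1 := by
      have h := pow_orderOf_eq_one x
      rwa [hx, pow_two] at h
    obtain ⟨t, htD, hxt⟩ := M24.invol_fixes hcl hprim hZ B hx2
    obtain ⟨l, hlen, hn, hm, hc, hp⟩ := M24.short_fixing hcl hprim hZ B hx2 htD hxt
    refine ⟨l.length, ?_, hlen, l, hn, rfl, hm, hc, hp⟩
    by_contra h0
    rw [List.eq_nil_of_length_eq_zero (by omega : l.length = 0), List.prod_nil] at hp
    rw [← hp, orderOf_one] at hx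
    norm_num at hx
  · obtain ⟨b, hb⟩ : (Ds D B.t).Nonempty := by
      rw [← Set.ncard_pos, M24.ncard_partners hcl B]; norm_num
    obtain ⟨c, hc⟩ : (Ds D B.t ∩ Ds D b).Nonempty := by
      rw [← Set.ncard_pos, M24.ncard_perp hcl B hb]; norm_num
    obtain ⟨e, he⟩ : (Ds D B.t ∩ Ds D b ∩ Ds D c).Nonempty := by
      rw [← Set.ncard_pos, (M24.ncard_two hcl B hb hc.1).2 hc.2.2.1.symm hc.2.2.2]; norm_num
    have hnd : [B.t, b, c, e].Nodup := by
      simp only [List.nodup_cons, List.mem_cons, List.not_mem_nil, or_false, not_or, List.nodup_nil, and_true,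
        not_false_iff]
      exact ⟨⟨hb.2.1.symm, hc.1.2.1.symm, he.1.1.2.1.symm⟩, ⟨hc.2.2.1.symm, he.1.2.2.1.symm⟩, he.2.2.1.symm⟩
    have hmem : ∀ a ∈ [B.t, b, c, e], a ∈ D := by
      simp only [List.forall_mem_cons]
      exact ⟨B.ht, hb.1, hc.1.1, he.2.1, fun a ha => absurd ha List.not_mem_nil⟩
    have hcom : ∀ a ∈ [B.t, b, c, e], ∀ a' ∈ [B.t, b, c, e], Commute a a' := by
      simp only [List.forall_mem_cons, List.not_mem_nil, false_imp_iff, implies_true, and_true]
      exact ⟨⟨Commute.refl _, hb.2.2, hc.1.2.2, he.1.1.2.2⟩, ⟨hb.2.2.symm, Commute.refl _, hc.2.2.2, he.1.2.2.2⟩,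
        ⟨hc.1.2.2.symm, hc.2.2.2.symm, Commute.refl _, he.2.2.2⟩,
        ⟨he.1.1.2.2.symm, he.1.2.2.2.symm, he.2.2.2.symm, Commute.refl _⟩⟩
    have hsub : ∀ a ∈ [B.t, b, c, e].take m, a ∈ [B.t, b, c, e] := fun a ha => List.mem_of_mem_take ha
    refine ⟨([B.t, b, c, e].take m).prod, orderOf_eq_prime ?_ ?_, _, hnd.sublist (List.take_sublist _ _),
      by simp [List.length_take, hm4], fun a ha => hmem a (hsub a ha),
      fun a ha a' ha' => hcom a (hsub a ha) a' (hsub a' ha'), rfl⟩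
    · rw [pow_two]
      exact M24.prod_sq hcl _ (fun a ha => hmem a (hsub a ha)) fun a ha a' ha' => hcom a (hsub a ha) a' (hsub a' ha')
    · refine M24.norel hcl hprim hZ B _ ?_ (by simp [List.length_take]) (hnd.sublist (List.take_sublist _ _))
        (fun a ha => hmem a (hsub a ha)) fun a ha a' ha' => hcom a (hsub a ha) a' (hsub a' ha')
      intro h0
      have := congrArg List.length h0
      simp [List.length_take] at this
      omega
  · rintro x y ⟨l, hn, hl, hm, hc, rfl⟩ ⟨l', hn', hl', hm', hc', rfl⟩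
    suffices h : ∃ g : G, l.map (fun a => g * a * g⁻¹) = l' by
      obtain ⟨g, rfl⟩ := h
      exact isConj_iff.mpr ⟨g, map_list_prod (MulAut.conj g).toMonoidHom l⟩
    match l, l', hl, hl' with
    | [], _, hl, _ => simp at hl; omega
    | [a], [a'], _, _ =>
      obtain ⟨g, hg⟩ := cls_exists_conj hcl (hm a (by simp)) (hm' a' (by simp))
      exact ⟨g, by simp [hg]⟩
    | [a, b], [a', b'], _, _ =>
      obtain ⟨g, hg⟩ := cls_exists_conj hcl (hm a (by simp)) (hm' a' (by simp))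
      have hgb : g * b * g⁻¹ ∈ Ds D a' := hg ▸ cj_Ds hcl g a ▸ ⟨b, ⟨hm b (by simp), Ne.symm (by simpa using hn),
        hc a (by simp) b (by simp)⟩, rfl⟩
      obtain ⟨k, hk, hk'⟩ := rank_three_near hcl hprim (M24.has_pair hcl B) (hm' a' (by simp)) _ hgb b'
        ⟨hm' b' (by simp), Ne.symm (by simpa using hn'), hc' a' (by simp) b' (by simp)⟩
      refine ⟨k * g, ?_⟩
      simp only [List.map_cons, List.map_nil]
      rw [← cj_cj k g a, hg, hk.eq, mul_inv_cancel_right, ← cj_cj k g b, hk']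
    | [a, b, c], [a', b', c'], _, _ =>
      simp only [List.nodup_cons, List.mem_cons, List.not_mem_nil, or_false, not_or, List.nodup_nil, and_true] at hn hn'
      obtain ⟨g, g1, g2, g3⟩ := M24.triple_map hcl hprim B (hm a (by simp))
        ⟨hm b (by simp), Ne.symm hn.1.1, hc a (by simp) b (by simp)⟩
        ⟨hm c (by simp), Ne.symm hn.1.2, hc a (by simp) c (by simp)⟩ hn.2.1 (hc b (by simp) c (by simp))
        (hm' a' (by simp)) ⟨hm' b' (by simp), Ne.symm hn'.1.1, hc' a' (by simp) b' (by simp)⟩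
        ⟨hm' c' (by simp), Ne.symm hn'.1.2, hc' a' (by simp) c' (by simp)⟩ hn'.2.1 (hc' b' (by simp) c' (by simp))
      exact ⟨g, by simp [g1, g2, g3]⟩
    | [a, b, c, e], [a', b', c', e'], _, _ =>
      obtain ⟨g, g1, g2, g3, g4⟩ := M24.quad_map hcl hprim hZ B hn hm hc hn' hm' hc'
      exact ⟨g, by simp [g1, g2, g3, g4]⟩
    | _ :: _ :: _ :: _ :: _ :: _, _, hl, _ => simp at hl; omega
    | [_], [], hl, hl' | [_], _ :: _ :: _, hl, hl' => exfalso; simp only [List.length_cons, List.length_nil] at hl hl'; omega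
    | [_, _], [], hl, hl' | [_, _], [_], hl, hl' | [_, _], _ :: _ :: _ :: _, hl, hl' => exfalso; simp only [List.length_cons, List.length_nil] at hl hl'; omega
    | [_, _, _], [], hl, hl' | [_, _, _], [_], hl, hl' | [_, _, _], [_, _], hl, hl'
    | [_, _, _], _ :: _ :: _ :: _ :: _, hl, hl' => exfalso; simp only [List.length_cons, List.length_nil] at hl hl'; omega
    | [_, _, _, _], [], hl, hl' | [_, _, _, _], [_], hl, hl' | [_, _, _, _], [_, _], hl, hl'
    | [_, _, _, _], [_, _, _], hl, hl' | [_, _, _, _], _ :: _ :: _ :: _ :: _ :: _, hl, hl' => exfalso; simp only [List.length_cons, List.length_nil] at hl hl'; omega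
  · rintro m m' x h1 h4 k1 k4 ⟨l, hn, hl, hm, hc, hp⟩ ⟨l', hn', hl', hm', hc', hp'⟩
    rcases lt_trichotomy m m' with h | h | h
    · exact (M24.length_unique hcl hprim hZ B (by omega) (by omega) (by omega) hn hm hc hp hn' hm' hc' hp').elim
    · exact h
    · exact (M24.length_unique hcl hprim hZ B (by omega) (by omega) (by omega) hn' hm' hc' hp' hn hm hc hp).elim

end Cfsg.Agent.S5400
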