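import Cfsg.Statements.S5403
import Cfsg.Agent.Lib.HallJankoLeech.Cent
import Cfsg.Agent.Lib.HallJankoLeech.Hyp
import Cfsg.Agent.S0824

set_option autoImplicit false
open Cfsg

namespace Cfsg.Agent.S5403

/-- `Ω⁻(4,2)` is the alternating group of degree five. -/
theorem omega_iso : Nonempty (alternatingGroup (Fin 5) ≃* ↥(Cfsg.Omega (ZMod 2) (Cfsg.quadFormMinus 1 (ZMod 2) 1 1))) := by
  obtain ⟨e⟩ := Cfsg.Agent.S0824.result (F := ZMod 2) (ZMod.card 2)
  have h : (commutator ↥(Cfsg.isometryGroup (ZMod 2) (Cfsg.quadFormMinus 1 (ZMod 2) 1 1))).map e.toMonoidHom =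
      alternatingGroup (Fin 5) := by
    rw [commutator_def, Subgroup.map_commutator, Subgroup.map_top_of_surjective _ e.surjective, ← commutator_def]
    exact alternatingGroup.commutator_perm_eq (by simp)
  exact ⟨((Subgroup.equivMapOfInjective _ e.toMonoidHom e.injective).trans (MulEquiv.subgroupCongr h)).symm⟩

/-- A simple section of the automorphism group of the Leech lattice satisfying the Hall–Janko-type hypothesis (the group so obtained is the Hall–Janko group; that identification is not part of this statement): there is a subgroup A of order 5 of that automorphism group such that the centralizer of A modulo the subgroup generated by A and the centre of the automorphism group is a non-abelian simple group satisfying the large extraspecial hypothesis of minus type in dimension 4 — an involution whose centralizer has extraspecial generalized Fitting subgroup of order 32 with quotient the commutator subgroup of the isometry group of the elliptic quadratic form in dimension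 4 over the field with two elements (the alternating group of degree 5), the involution not weakly closed in that extraspecial group. -/
theorem result : ∃ A : Subgroup ↥Cfsg.Co0, Nat.card A = 5 ∧ ∃ (hn : ((A ⊔ Subgroup.center ↥Cfsg.Co0).subgroupOf (Subgroup.centralizer (A : Set ↥Cfsg.Co0))).Normal), ∃ (S : Type) (_ : Group S) (_ : Finite S), Nonempty (S ≃* ↥(Subgroup.centralizer (A : Set ↥Cfsg.Co0)) ⧸ (A ⊔ Subgroup.center ↥Cfsg.Co0).subgroupOf (Subgroup.centralizer (A : Set ↥Cfsg.Co0))) ∧ IsSimpleGroup S ∧ ¬ IsMulCommutative S ∧ ∃ z : S, orderOf z = 2 ∧ ∃ (Q : Subgroup (Subgroup.centralizer ({z} : Set S))) (_ : Q.Normal), Cfsg.generalizedFittingSubgroup (Subgroup.centralizer ({z} : Set S)) = Q ∧ Cfsg.IsExtraspecial 2 Q ∧ Nat.card Q = 2 ^ 5 ∧ Nonempty ((Subgroup.centralizer ({z} : Set S)) ⧸ Q ≃* Cfsg.Omega (ZMod 2) (Cfsg.quadFormMinus 1 (ZMod 2) 1 1)) ∧ ∃ g : S, (∃ hq : g * z * g⁻¹ ∈ Subgroup.centralizer ({z} : Set S), (⟨g * z * g⁻¹, hq⟩ : Subgroup.centralizer ({z} : Set S)) ∈ Q)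 ∧ g * z * g⁻¹ ≠ z := by
  obtain ⟨Q, hQn, hF, hex, hcard, ⟨e⟩, hwc⟩ := CfsgHJL.hypothesis
  obtain ⟨e'⟩ := omega_iso
  have hn : ((CfsgHJL.AFive ⊔ Subgroup.center ↥Cfsg.Co0).subgroupOf (Subgroup.centralizer (CfsgHJL.AFive : Set ↥Cfsg.Co0))).Normal :=
    CfsgHJL.ker_toJ2 ▸ MonoidHom.normal_ker _
  haveI : Finite Cfsg.Spor.J2 := Nat.finite_of_card_ne_zero (by rw [CfsgHJ.card_J2]; norm_num)
  haveI := hn
  refine ⟨CfsgHJL.AFive, CfsgHJL.card_AFive, hn, Cfsg.Spor.J2, inferInstance, inferInstance, ⟨?_⟩,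
    CfsgHJ.isSimple_J2, fun h => ?_, CfsgHJL.zJ, CfsgHJL.orderOf_zJ, Q, hQn, hF, hex, hcard, ⟨e.trans e'⟩, hwc⟩
  · exact (QuotientGroup.quotientKerEquivOfSurjective _ CfsgHJL.toJ2_surjective).symm.trans
      (@QuotientGroup.quotientMulEquivOfEq ↥(Subgroup.centralizer (CfsgHJL.AFive : Set ↥Cfsg.Co0)) _
        CfsgHJL.toJ2.ker _ (MonoidHom.normal_ker _) hn CfsgHJL.ker_toJ2)
  · obtain ⟨a, b, hab⟩ := CfsgHJ.exists_noncomm
    exact hab (h.is_comm.comm a b)

end Cfsg.Agent.S5403
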