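import Cfsg.Statements.S5408
import Cfsg.Agent.Lib.MonsterQ.Main
-- import your own Cfsg.Agent.* helpers here

set_option autoImplicit false
open Cfsg

namespace Cfsg.Agent.S5408

/-- Let G be a finite group of Monster type at the involution z with Q the extraspecial normal subgroup of order 2^25 of C = C_G(z) (so C/Q is identified with the first Conway group with Q modulo its centre the Leech lattice modulo 2, and z is not weakly closed in Q). Then Q is of plus type: it contains an elementary abelian subgroup of order 2^13. -/
theorem result {G : Type*} [Group G] [Finite G] (z : G) (Q : Subgroup (Subgroup.centralizer ({z} : Set G))) [Q.Normal] (hM : Cfsg.IsOfMonsterType z Q) : ∃ E : Subgroup Q, Cfsg.IsElementaryAbelian 2 E ∧ Nat.card E = 2 ^ 13 := by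
  obtain ⟨D⟩ := CfsgLib.MonsterQ.exists_data hM
  obtain ⟨g, a, ha, hne⟩ := D.exists_conj
  obtain ⟨-, v, g₀, -, -, -, hcard, -⟩ := D.main ha hne
  refine ⟨(CfsgLib.MonsterQ.Qc Q g).subgroupOf Q, D.qc_elem ha hne, ?_⟩
  rw [← hcard, inf_comm, ← Subgroup.subgroupOf_map_subtype, Subgroup.card_map_of_injective Q.subtype_injective]

end Cfsg.Agent.S5408
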