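import Cfsg.Statements.S5410
import Cfsg.Agent.Lib.MonsterQ.Main
-- import your own Cfsg.Agent.* helpers here

set_option autoImplicit false
open Cfsg

namespace Cfsg.Agent.S5410

/-- Let G be a finite group of Monster type at the involution z with Q the extraspecial normal subgroup of order 2^25 of C = C_G(z) (so C/Q is identified with the first Conway group with Q modulo its centre the Leech lattice modulo 2, and z is not weakly closed in Q). Let g in G with s = g z g⁻¹ a member of Q other than z, let X be the image in C/Q of the centralizer of s in C, and let E be the image in C/Q of the intersection of g Q g⁻¹ with C. Then E is a normal subgroup of X, elementary abelian of order 2^11, and it has a complement in X isomorphic to the Mathieu group of degree 24 (the automorphism group of the length-24 binary Golay code). -/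
theorem result {G : Type*} [Group G] [Finite G] (z : G) (Q : Subgroup (Subgroup.centralizer ({z} : Set G))) [Q.Normal] (hM : Cfsg.IsOfMonsterType z Q) (s : G) (hsQ : ∃ hsc : s ∈ Subgroup.centralizer ({z} : Set G), (⟨s, hsc⟩ : Subgroup.centralizer ({z} : Set G)) ∈ Q) (hs : IsConj z s) (hs1 : s ≠ z) (g : G) (hg : g * z * g⁻¹ = s) (X E : Subgroup ((Subgroup.centralizer ({z} : Set G)) ⧸ Q)) (hX : X = ((Subgroup.centralizer ({z} : Set G) ⊓ Subgroup.centralizer ({s} : Set G)).subgroupOf (Subgroup.centralizer ({z} : Set G))).map (QuotientGroup.mk' Q)) (hE : E = (((Q.map (Subgroup.centralizer ({z} : Set G)).subtype).map (MulAut.conj g).toMonoidHom ⊓ Subgroup.centralizer ({z} : Set G)).subgroupOf (Subgroup.centralizer ({z} : Set G))).map (QuotientGroup.mk' Q)) : E ≤ X ∧ (∀ x ∈ X, ∀ y ∈ E, x * y * x⁻¹ ∈ E) ∧ Cfsg.IsElementaryAbelian 2 E ∧ Nat.card E = 2 ^ 11 ∧ ∃ K : Subgroup ((Subgroup.centralizer ({z} : Set G)) ⧸ Q), K ≤ X ∧ E ⊓ K = ⊥ ∧ E ⊔ K = X ∧ Nonempty (K ≃* Cfsg.M24)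 := by
  obtain ⟨D⟩ := CfsgLib.MonsterQ.exists_data hM
  obtain ⟨a, rfl⟩ := CfsgLib.MonsterQ.exists_elt hsQ
  obtain ⟨hc, v, g₀, hv, hn, hg₀, -, himg⟩ := D.main hg hs1
  have hmap := D.map_phi hv hc hg₀
  have hX' : X = (CfsgLeech.modImg (CfsgLeech.ax none)).map (D.phi g₀).toMonoidHom := by
    rw [hX, ← hmap]
    congr 1
    ext x
    rw [Subgroup.mem_subgroupOf, Subgroup.mem_inf, Subgroup.mem_centralizer_singleton_iff,
      Subgroup.mem_centralizer_singleton_iff, Subgroup.mem_centralizer_singleton_iff, Subtype.ext_iff]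
    exact and_iff_right (Subgroup.mem_centralizer_singleton_iff.mp x.2)
  have hE' : E = CfsgLeech.signImg.map (D.phi g₀).toMonoidHom := by
    rw [hE, Subgroup.inf_subgroupOf_right, ← himg]
    rfl
  subst hX' hE'
  refine ⟨Subgroup.map_mono CfsgLeech.signImg_le, ?_, ?_, ?_,
    CfsgLeech.permImg.map (D.phi g₀).toMonoidHom, Subgroup.map_mono CfsgLeech.permImg_le, ?_, ?_, ?_⟩
  · rintro _ ⟨x, hx, rfl⟩ _ ⟨y, hy, rfl⟩
    exact ⟨x * y * x⁻¹, CfsgLeech.signImg_normal hx hy, by simp⟩
  · obtain ⟨hcomm, hpow⟩ := CfsgLeech.signImg_elem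
    refine ⟨⟨⟨?_⟩⟩, ?_⟩
    · rintro ⟨_, x, hx, rfl⟩ ⟨_, y, hy, rfl⟩
      refine Subtype.ext ?_
      show (D.phi g₀).toMonoidHom x * (D.phi g₀).toMonoidHom y = (D.phi g₀).toMonoidHom y * (D.phi g₀).toMonoidHom x
      rw [← map_mul, ← map_mul]
      exact congrArg (D.phi g₀).toMonoidHom (congrArg Subtype.val (hcomm.is_comm.comm ⟨x, hx⟩ ⟨y, hy⟩))
    · rintro _ ⟨x, hx, rfl⟩
      rw [← map_pow, hpow x hx, map_one]
  · rw [D.card_phi_map, CfsgLeech.signImg_card]
  · rw [← Subgroup.map_inf _ _ _ (D.phi g₀).injective, CfsgLeech.signImg_inf_permImg, Subgroup.map_bot]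
  · rw [← Subgroup.map_sup, CfsgLeech.signImg_sup_permImg]
  · exact ⟨(Subgroup.equivMapOfInjective _ _ (D.phi g₀).injective).symm.trans CfsgLeech.permImg_equiv.some⟩

end Cfsg.Agent.S5410
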