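import Cfsg.Statements.S5440
import Cfsg.Agent.Lib.Fi24Q.Classes

set_option autoImplicit false
open Cfsg CfsgLib.Fi24Q

namespace Cfsg.Agent.S5440

/-- Let G be a finite group of large Fischer type at the involution z: the generalized Fitting subgroup Q of H = C_G(z) is extraspecial of order 2^13, H has normal subgroups Q ≤ H₁ ≤ H₂ with H₁/Q of order 3, H₂/H₁ the projective special unitary group of dimension 4 over the field with nine elements and H₂ of index 2 in H, and some conjugate of z other than z lies in Q. Then H has exactly two orbits, under conjugation, on the involutions of Q other than z. -/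
theorem result {G : Type*} [Group G] [Finite G] (z : G) (Q : Subgroup (Subgroup.centralizer ({z} : Set G))) [Q.Normal] (hF : Cfsg.IsOfLargeFischerTypeAt z Q) : ∃ s t : Subgroup.centralizer ({z} : Set G), s ∈ Q ∧ t ∈ Q ∧ orderOf s = 2 ∧ orderOf t = 2 ∧ (s : G) ≠ z ∧ (t : G) ≠ z ∧ (¬ ∃ h : Subgroup.centralizer ({z} : Set G), h * s * h⁻¹ = t) ∧ ∀ x : Subgroup.centralizer ({z} : Set G), x ∈ Q → orderOf x = 2 → (x : G) ≠ z → (∃ h : Subgroup.centralizer ({z} : Set G), h * s * h⁻¹ = x) ∨ ∃ h : Subgroup.centralizer ({z} : Set G), h * t * h⁻¹ = x := by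
  obtain ⟨D, -⟩ := exists_data hF
  obtain ⟨a, ha⟩ := D.pi_surj t0
  obtain ⟨b, hb⟩ := D.pi_surj u0
  have ha' : D.pi a ∈ inM maskA ∨ D.pi a ∈ inM maskB := Or.inl (by rw [ha]; exact t0_mem)
  have hb' : D.pi b ∈ inM maskA ∨ D.pi b ∈ inM maskB := Or.inr (by rw [hb]; exact u0_mem)
  refine ⟨a, b, a.2, b.2, (D.order_two ha').1, (D.order_two hb').1, (D.order_two ha').2, (D.order_two hb').2, ?_,
    fun x hx hx2 hxz => ?_⟩
  · intro hc
    obtain ⟨p, hp, e⟩ := (D.conj_iff ((sing_iff _).mp ha').1).mp hc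
    rw [ha, hb] at e
    exact not_both u0 ⟨e ▸ D.rng.invA p hp t0 t0_mem, u0_mem⟩
  · have hxx : (⟨x, hx⟩ : Q) * ⟨x, hx⟩ = 1 := Subtype.ext (by
      rw [Subgroup.coe_mul, ← pow_two, ← hx2, pow_orderOf_eq_one]; rfl)
    have h1 : (⟨x, hx⟩ : Q) ≠ 1 := fun e => by
      rw [show x = 1 from congrArg Subtype.val e, orderOf_one] at hx2
      norm_num at hx2
    have h2 : (⟨x, hx⟩ : Q) ≠ D.zq := fun e => hxz (by
      rw [show x = (D.zq : Cz z) from congrArg Subtype.val e, D.coe_zq])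
    rcases D.singular hxx h1 h2 with hA | hB
    · exact Or.inl (D.two_orbits (Or.inl hA) (Or.inl rfl) ha ⟨fun _ => rfl, fun _ => hA⟩)
    · refine Or.inr (D.two_orbits (Or.inr hB) (Or.inr rfl) hb
        ⟨fun h => absurd ⟨h, hB⟩ (not_both _), fun h => absurd ⟨t0_mem, h ▸ u0_mem⟩ (not_both t0)⟩)

end Cfsg.Agent.S5440
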