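import Cfsg.Statements.S5452
import Cfsg.Agent.Lib.ThreeTrans.M22.Cover
-- import your own Cfsg.Agent.* helpers here

set_option autoImplicit false
open Cfsg

namespace Cfsg.Agent.S5452

open CfsgThreeTrans.M22

/-- Let G be a finite group with an involution d whose centralizer C is quasisimple with C modulo the subgroup generated by d isomorphic to the projective special unitary group of dimension 6 over the field with four elements, and suppose some conjugate of d other than d commutes with d. Then every involution of C modulo the subgroup generated by d is the image of an involution of C, and d is not a square in G. -/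
theorem result {G : Type*} [Group G] [Finite G] (d : G) (hd : orderOf d = 2) (hq : Cfsg.IsQuasisimple ↥(Subgroup.centralizer ({d} : Set G))) [hzn : ((Subgroup.zpowers d).subgroupOf (Subgroup.centralizer ({d} : Set G))).Normal] (K : Type) [Field K] [Fintype K] (hK : Fintype.card K = 4) (e : ↥(Subgroup.centralizer ({d} : Set G)) ⧸ (Subgroup.zpowers d).subgroupOf (Subgroup.centralizer ({d} : Set G)) ≃* Cfsg.PSU 6 K 2) (hnwc : ∃ g : G, g * d * g⁻¹ ∈ Subgroup.centralizer ({d} : Set G) ∧ g * d * g⁻¹ ≠ d) : (∀ x : ↥(Subgroup.centralizer ({d} : Set G)) ⧸ (Subgroup.zpowers d).subgroupOf (Subgroup.centralizer ({d} : Set G)), orderOf x = 2 → ∃ y : ↥(Subgroup.centralizer ({d} : Set G)), orderOf y = 2 ∧ (QuotientGroup.mk y : ↥(Subgroup.centralizer ({d} : Set G)) ⧸ (Subgroup.zpowers d).subgroupOf (Subgroup.centralizer ({d} : Set G))) = x) ∧ ¬ ∃ g : G, g ^ 2 = d := by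
  classical
  have hF : Fintype.card K = 2 ^ 2 := by rw [hK]; norm_num
  set C := Subgroup.centralizer ({d} : Set G)
  set Z := (Subgroup.zpowers d).subgroupOf C
  let ψ : ↥C →* Cfsg.PSU 6 K 2 := e.toMonoidHom.comp (QuotientGroup.mk' Z)
  have hψ : Function.Surjective ψ := e.surjective.comp (QuotientGroup.mk'_surjective _)
  have hdC : d ∈ C := Subgroup.mem_centralizer_singleton_iff.mpr rfl
  have hd2 : d * d = 1 := by
    have := pow_orderOf_eq_one d
    rwa [hd, pow_two] at this
  have hd1 : (⟨d, hdC⟩ : ↥C) ≠ 1 := fun h => by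
    have h1 : d = 1 := congrArg Subtype.val h
    rw [h1, orderOf_one] at hd
    norm_num at hd
  have hker : ∀ a : ↥C, ψ a = 1 → a = 1 ∨ a = ⟨d, hdC⟩ := by
    intro a ha
    have h1 : (a : G) ∈ Subgroup.zpowers d :=
      Subgroup.mem_subgroupOf.mp ((QuotientGroup.eq_one_iff a).mp (e.injective (by rw [map_one]; exact ha)))
    obtain ⟨k, hk⟩ := Subgroup.mem_zpowers_iff.mp h1
    rcases Int.even_or_odd k with ⟨m, rfl⟩ | ⟨m, rfl⟩
    · left
      refine Subtype.ext ?_
      rw [← hk, ← two_mul, _root_.zpow_mul, zpow_two, hd2, _root_.one_zpow]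
      rfl
    · right
      refine Subtype.ext ?_
      rw [← hk, _root_.zpow_add, _root_.zpow_mul, zpow_two, hd2, _root_.one_zpow, one_mul, zpow_one]
  have hdc : ∀ a : ↥C, Commute (⟨d, hdC⟩ : ↥C) a := fun a => Subtype.ext (Subgroup.mem_centralizer_singleton_iff.mp a.2).symm
  refine ⟨fun x hx => ?_, fun ⟨g, hg⟩ => ?_⟩
  · obtain ⟨y, hy, hye⟩ := lift_involution hF ψ hψ hker (Subtype.ext hd2) hdc (e := e x) ((orderOf_injective e.toMonoidHom e.injective x).trans hx)
    exact ⟨y, hy, e.injective hye⟩
  · have hgC : g ∈ C := Subgroup.mem_centralizer_singleton_iff.mpr (by rw [← hg]; group)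
    refine not_square hF ψ hψ hker (Subtype.ext hd2) hdc hd1 ?_ ⟨g, hgC⟩ (Subtype.ext ((pow_two g).symm.trans hg))
    show e (QuotientGroup.mk' Z ⟨d, hdC⟩) = 1
    rw [show QuotientGroup.mk' Z ⟨d, hdC⟩ = 1 from (QuotientGroup.eq_one_iff _).mpr (Subgroup.mem_subgroupOf.mpr (Subgroup.mem_zpowers d)), map_one]

end Cfsg.Agent.S5452
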