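import Cfsg.Statements.S5453
import Cfsg.Agent.Lib.ThreeTrans.M22.DoubleCover
-- import your own Cfsg.Agent.* helpers here

set_option autoImplicit false
open Cfsg

namespace Cfsg.Agent.S5453

open CfsgThreeTrans CfsgThreeTrans.M22 CfsgLib

/-- Let G be a finite group with an involution d whose centralizer C is quasisimple, such that C modulo the subgroup generated by d is of type M(22) with respect to some conjugacy class of 3-transpositions generating it and also has an involution whose own centralizer is quasisimple with quotient by it isomorphic to the projective special unitary group of dimension 6 over the field with four elements and which is not weakly closed in that centralizer; and suppose some conjugate of d other than d commutes with d. Then every involution of C modulo the subgroup generated by d is the image of an involution of C, and d is not a square in G. -/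
theorem result {G : Type*} [Group G] [Finite G] (d : G) (hd : orderOf d = 2) (hq : Cfsg.IsQuasisimple ↥(Subgroup.centralizer ({d} : Set G))) [hzn : ((Subgroup.zpowers d).subgroupOf (Subgroup.centralizer ({d} : Set G))).Normal] (htype : ∃ E : Set (↥(Subgroup.centralizer ({d} : Set G)) ⧸ (Subgroup.zpowers d).subgroupOf (Subgroup.centralizer ({d} : Set G))), Cfsg.IsThreeTranspositionClass E ∧ Cfsg.IsOfTypeM22 _ E) (hinvol : ∃ d' : ↥(Subgroup.centralizer ({d} : Set G)) ⧸ (Subgroup.zpowers d).subgroupOf (Subgroup.centralizer ({d} : Set G)), orderOf d' = 2 ∧ Cfsg.IsQuasisimple ↥(Subgroup.centralizer ({d'} : Set _)) ∧ (∃ (K : Type) (_ : Field K) (_ : Fintype K), Fintype.card K = 4 ∧ ∃ _ : ((Subgroup.zpowers d').subgroupOf (Subgroup.centralizer ({d'} : Set _))).Normal, Nonempty (↥(Subgroup.centralizer ({d'} : Set _)) ⧸ (Subgroup.zpowers d').subgroupOf (Subgroup.centralizer ({d'} : Set _)) ≃* Cfsg.PSU 6 K 2)) ∧ ∃ g, g * d' * g⁻¹ ∈ Subgroup.centralizer ({d'} : Set _) ∧ g * d' * g⁻¹ ≠ d') (hnwc : ∃ g : G, g * d * g⁻¹ ∈ Subgroup.centralizer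 ({d} : Set G) ∧ g * d * g⁻¹ ≠ d) : (∀ x : ↥(Subgroup.centralizer ({d} : Set G)) ⧸ (Subgroup.zpowers d).subgroupOf (Subgroup.centralizer ({d} : Set G)), orderOf x = 2 → ∃ y : ↥(Subgroup.centralizer ({d} : Set G)), orderOf y = 2 ∧ (QuotientGroup.mk y : ↥(Subgroup.centralizer ({d} : Set G)) ⧸ (Subgroup.zpowers d).subgroupOf (Subgroup.centralizer ({d} : Set G))) = x) ∧ ¬ ∃ g : G, g ^ 2 = d := by
    set C := Subgroup.centralizer ({d} : Set G)
    set N := (Subgroup.zpowers d).subgroupOf C
    obtain ⟨E, hE, h22⟩ := htype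
    have hdC : d ∈ C := Subgroup.mem_centralizer_singleton_iff.mpr rfl
    set z : C := ⟨d, hdC⟩
    have hd2 : d * d = 1 := by
      have := pow_orderOf_eq_one d
      rwa [hd, pow_two] at this
    have hzc : ∀ a : C, Commute z a := fun a => Subtype.ext (Subgroup.mem_centralizer_singleton_iff.mp a.2).symm
    have hmemN : ∀ a : C, a ∈ N → a = 1 ∨ a = z := by
      intro a ha
      obtain ⟨k, hk⟩ := Subgroup.mem_zpowers_iff.mp ha
      rcases Int.even_or_odd' k with ⟨j, rfl | rfl⟩
      · left; apply Subtype.ext; rw [show (a : G) = d ^ (2 * j) from hk.symm, zpow_mul, zpow_two, hd2, one_zpow]; rfl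
      · right; apply Subtype.ext; rw [show (a : G) = d ^ (2 * j + 1) from hk.symm, zpow_add, zpow_mul, zpow_two, hd2, one_zpow, one_mul, zpow_one]
    have hG3 : IsThreeTranspositionGroup E := by
      obtain ⟨hset, ⟨e, he, rfl⟩, hgen⟩ := hE
      refine ⟨hset, fun g x hx => ?_, hgen⟩
      exact (IsConj.trans (hx : IsConj e x) (isConj_iff.mpr ⟨g, rfl⟩) : IsConj e (g * x * g⁻¹))
    have hcen : Subgroup.center C = N := by
      refine le_antisymm (fun a ha => ?_) fun a ha => ?_
      · rw [← QuotientGroup.eq_one_iff, ← Subgroup.mem_bot, ← h22.1]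
        refine Subgroup.mem_center_iff.mpr fun q => ?_
        obtain ⟨b, rfl⟩ := QuotientGroup.mk_surjective q
        rw [← QuotientGroup.mk_mul, ← QuotientGroup.mk_mul, Subgroup.mem_center_iff.mp ha b]
      · rcases hmemN a ha with e | e <;> rw [e]
        · exact one_mem _
        · exact Subgroup.mem_center_iff.mpr fun b => (hzc b).eq.symm
    haveI hsimp : IsSimpleGroup (C ⧸ N) := by
      haveI := hq.2
      haveI : Nontrivial (C ⧸ N) := (QuotientGroup.quotientMulEquivOfEq hcen).symm.toEquiv.nontrivial
      exact IsSimpleGroup.isSimpleGroup_of_surjective (f := (QuotientGroup.quotientMulEquivOfEq hcen).toMonoidHom)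
        (QuotientGroup.quotientMulEquivOfEq hcen).surjective
    have hw : ∃ a ∈ E, ∃ b ∈ E, a ≠ b ∧ Commute a b := by
      obtain ⟨-, t, ht, c, -, -, ⟨K, iK, iKt, hK, ⟨e⟩⟩, -⟩ := id h22
      classical
      by_contra hno
      obtain ⟨x, y, hxy⟩ := psu_not_commutative hK
      have hbot : Subgroup.closure {w : C ⧸ N | w ∈ E ∧ w ≠ t ∧ Commute t w} = ⊥ := by
        rw [Subgroup.closure_eq_bot_iff]
        exact fun w hw => absurd ⟨t, ht, w, hw.1, hw.2.1.symm, hw.2.2⟩ hno
      obtain ⟨p, hp⟩ := e.surjective x
      obtain ⟨q, hq'⟩ := e.surjective y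
      obtain ⟨p', rfl⟩ := QuotientGroup.mk_surjective p
      obtain ⟨q', rfl⟩ := QuotientGroup.mk_surjective q
      refine hxy ?_
      rw [← hp, ← hq', ← map_mul, ← map_mul, ← QuotientGroup.mk_mul, ← QuotientGroup.mk_mul]
      congr 2
      apply Subtype.ext
      have h1 : (p' : C ⧸ N) = 1 := Subgroup.mem_bot.mp (hbot ▸ p'.2)
      have h2 : (q' : C ⧸ N) = 1 := Subgroup.mem_bot.mp (hbot ▸ q'.2)
      simp [h1, h2]
    have hprim : IsPrimitiveUnderConj E := by
      refine (equivalences hE h22.1 hw).1.mp ?_
      have htop : commutator (C ⧸ N) = ⊤ := by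
        rcases (inferInstance : (commutator (C ⧸ N)).Normal).eq_bot_or_eq_top with e | e
        swap
        · exact e
        exfalso
        have : Subgroup.center (C ⧸ N) = ⊤ := by
          rw [eq_top_iff]
          intro a _
          refine Subgroup.mem_center_iff.mpr fun b => ?_
          have := Subgroup.commutator_mem_commutator (Subgroup.mem_top b) (Subgroup.mem_top a)
          rw [← commutator_def, e, Subgroup.mem_bot, commutatorElement_eq_one_iff_mul_comm] at this
          exact this
        exact top_ne_bot (this.symm.trans h22.1)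
      rw [htop]
      exact IsSimpleGroup.isSimpleGroup_of_surjective (f := (Subgroup.topEquiv (G := C ⧸ N)).symm.toMonoidHom)
        (Subgroup.topEquiv (G := C ⧸ N)).symm.surjective
    obtain ⟨t, ht, h3, h2, F, iF, iFt, iDec, hF, ⟨A⟩⟩ := exists_full hG3 hprim h22
    have L : ∀ x : C ⧸ N, x * x = 1 → ∃ y : C, y * y = 1 ∧ QuotientGroup.mk' N y = x := fun x hx =>
      lift_invol (QuotientGroup.mk' N) (QuotientGroup.mk'_surjective N) (z := z)
        (fun a ha => hmemN a ((QuotientGroup.eq_one_iff a).mp ha)) (Subtype.ext hd2) hzc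
        ((QuotientGroup.eq_one_iff z).mpr (Subgroup.mem_zpowers d)) hG3 hprim ht h3 h2 h22 A hx
    refine ⟨fun x hx => ?_, ?_⟩
    · have hx2 : x * x = 1 := by
        have := pow_orderOf_eq_one x
        rwa [hx, pow_two] at this
      obtain ⟨y, y1, y2⟩ := L x hx2
      refine ⟨y, orderOf_eq_prime (by rw [pow_two]; exact y1) fun e => ?_, y2⟩
      rw [← y2, e, map_one, orderOf_one] at hx
      norm_num at hx
    · rintro ⟨g, hg⟩
      have hgC : g ∈ C := by
        refine Subgroup.mem_centralizer_singleton_iff.mpr ?_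
        rw [← hg]
        exact ((Commute.refl g).pow_right 2).eq
      have hd1 : d ≠ 1 := fun e => by
        rw [e, orderOf_one] at hd
        norm_num at hd
      obtain ⟨y, y1, y2⟩ := L (QuotientGroup.mk' N ⟨g, hgC⟩) (by
        rw [← map_mul, QuotientGroup.mk'_apply, QuotientGroup.eq_one_iff]
        show g * g ∈ Subgroup.zpowers d
        rw [← pow_two, hg]
        exact Subgroup.mem_zpowers d)
      rw [QuotientGroup.mk'_eq_mk'] at y2
      obtain ⟨w, hw', hy⟩ := y2
      rcases hmemN w hw' with rfl | rfl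
      · rw [mul_one] at hy
        refine hd1 ?_
        rw [← hg, pow_two]
        exact congrArg Subtype.val (show (⟨g, hgC⟩ : C) * ⟨g, hgC⟩ = 1 by rw [← hy, y1])
      · refine hd1 ?_
        rw [← hg, pow_two]
        exact congrArg Subtype.val (show (⟨g, hgC⟩ : C) * ⟨g, hgC⟩ = 1 by
          rw [← hy, mul_assoc, ← mul_assoc z, (hzc y).eq, mul_assoc y z z, show z * z = 1 from Subtype.ext hd2,
            mul_one, y1])

end Cfsg.Agent.S5453
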