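import Cfsg.Statements.S5457
import Cfsg.Agent.Lib.ThreeTrans.M23.Invol
-- import your own Cfsg.Agent.* helpers here

set_option autoImplicit false
open Cfsg

namespace Cfsg.Agent.S5457

open CfsgLib CfsgThreeTrans CfsgThreeTrans.M22

theorem order_six {G : Type*} [Group G] {D : Set G} (hD : IsThreeTranspositionSet D) {a b c d : G} (ha : a ∈ D)
    (hb : b ∈ D) (hc : c ∈ D) (hd : d ∈ D) (hac : ¬ Commute a c) (hbd : Commute b d) (hne : b ≠ d)
    (h1 : Commute (a * c) (b * d)) :
    ¬ ((a * c * (b * d)) ^ 2 = 1 ∨ (a * c * (b * d)) ^ 3 = 1) := by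
  have h3 := CfsgThreeTrans.pow_three hD ha hc hac
  have hb2 : (b * d) ^ 2 = 1 := by
    rw [hbd.mul_pow, pow_two, pow_two, CfsgThreeTrans.mul_self hD hb, CfsgThreeTrans.mul_self hD hd, one_mul]
  rintro (e | e)
  · rw [h1.mul_pow, hb2, mul_one] at e
    rw [pow_succ, e, one_mul] at h3
    exact hac ((eq_inv_of_mul_eq_one_left h3).trans (CfsgThreeTrans.inv_self hD hc) ▸ Commute.refl c)
  · rw [h1.mul_pow, h3, one_mul, pow_succ, hb2, one_mul] at e
    exact hne ((eq_inv_of_mul_eq_one_left e).trans (CfsgThreeTrans.inv_self hD hd))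

theorem config {G : Type*} [Group G] [Finite G] {D : Set G} (hD : IsThreeTranspositionClass D) (B : M23.Base D) :
    ∃ a c b d : G, a ∈ Ds D B.t ∧ c ∈ Ds D B.t ∧ b ∈ Ds D B.t ∧ d ∈ Ds D B.t ∧ ¬ Commute a c ∧ b ≠ d ∧
      Commute b d ∧ Commute a b ∧ Commute a d ∧ Commute c b ∧ Commute c d := by
  obtain ⟨X, hX, -⟩ := B.two
  obtain ⟨X', hX', hnc⟩ := exists_noncommute B.hcls B.two hX
  have hac : ¬ Commute (X : G) (X' : G) := fun k => hnc (Subtype.ext k.eq)
  obtain ⟨b, hb⟩ : (Ds D B.t ∩ Ds D (X : G) ∩ Ds D (X' : G)).Nonempty := by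
    rw [← Set.ncard_pos, (M23.ncard_two hD B hX hX').1 hac]
    norm_num
  have inE : ∀ {x : G}, x ∈ Ds D B.t → x ∈ Ds D b → M23.bar D B.t x ∈ Ds (M23.Et D B.t) (M23.bar D B.t b) :=
    fun {x} hx hxb => ⟨M23.bar_mem hD B hx, fun e => hxb.2.1 (M23.bar_inj hD B hx hb.1.1 e),
      (M23.bar_commute hD B hb.1.1 hx).mpr hxb.2.2⟩
  obtain ⟨q, hq⟩ : (Ds (M23.Et D B.t) (M23.bar D B.t b) ∩ Ds (M23.Et D B.t) (M23.bar D B.t (X : G)) ∩
      Ds (M23.Et D B.t) (M23.bar D B.t (X' : G))).Nonempty := by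
    rw [← Set.ncard_pos, (M22.ncard_three B.cls B.A (M23.bar_mem hD B hb.1.1)
      (inE hX ⟨hX.1, hb.1.2.2.1.symm, hb.1.2.2.2.symm⟩) (inE hX' ⟨hX'.1, hb.2.2.1.symm, hb.2.2.2.symm⟩)).1
      fun k => hac ((M23.bar_commute hD B hX hX').mp k)]
    norm_num
  obtain ⟨d, hd, rfl⟩ : q ∈ M23.bar D B.t '' Ds D B.t := (M23.bar_image hD B).symm ▸ hq.1.1.1
  exact ⟨X, X', b, d, hX, hX', hb.1.1, hd, hac, fun e => hq.1.1.2.1 (by rw [e]),
    (M23.bar_commute hD B hb.1.1 hd).mp hq.1.1.2.2, hb.1.2.2.2, (M23.bar_commute hD B hX hd).mp hq.1.2.2.2,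
    hb.2.2.2, (M23.bar_commute hD B hX' hd).mp hq.2.2.2⟩

/-- Let G be a finite group with trivial centre generated by a conjugation-invariant set D of 3-transpositions on which it acts primitively, of type M(23), and suppose G also has an involution whose centralizer C is quasisimple, with C modulo the subgroup generated by that involution both of type M(22) (for some generating class of 3-transpositions) and possessing an involution whose own centralizer is quasisimple with quotient by it the projective special unitary group of dimension 6 over the field with four elements and which is not weakly closed in that centralizer, and with the first involution not weakly closed in C. Then D is the only conjugacy class of 3-transpositions generating G. -/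
theorem result {G : Type*} [Group G] [Finite G] {D : Set G} (hD : Cfsg.IsThreeTranspositionGroup D) (hprim : Cfsg.IsPrimitiveUnderConj D) (h23 : Cfsg.IsOfTypeM23 G D) (hM : ∃ d : G, orderOf d = 2 ∧ Cfsg.IsQuasisimple ↥(Subgroup.centralizer ({d} : Set G)) ∧ (∃ (_ : ((Subgroup.zpowers d).subgroupOf (Subgroup.centralizer ({d} : Set G))).Normal), (∃ E : Set (↥(Subgroup.centralizer ({d} : Set G)) ⧸ (Subgroup.zpowers d).subgroupOf (Subgroup.centralizer ({d} : Set G))), Cfsg.IsThreeTranspositionClass E ∧ Cfsg.IsOfTypeM22 _ E) ∧ ∃ d' : ↥(Subgroup.centralizer ({d} : Set G)) ⧸ (Subgroup.zpowers d).subgroupOf (Subgroup.centralizer ({d} : Set G)), orderOf d' = 2 ∧ Cfsg.IsQuasisimple ↥(Subgroup.centralizer ({d'} : Set _)) ∧ (∃ (K : Type) (_ : Field K) (_ : Fintype K), Fintype.card K = 4 ∧ ∃ _ : ((Subgroup.zpowers d').subgroupOf (Subgroup.centralizer ({d'} : Set _))).Normal, Nonempty (↥(Subgroup.centralizer ({d'} : Set _)) ⧸ (Subgroup.zpowers d').subgroupOf (Subgroup.centralizer ({d'} :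 Set _)) ≃* Cfsg.PSU 6 K 2)) ∧ ∃ g, g * d' * g⁻¹ ∈ Subgroup.centralizer ({d'} : Set _) ∧ g * d' * g⁻¹ ≠ d') ∧ ∃ g : G, g * d * g⁻¹ ∈ Subgroup.centralizer ({d} : Set G) ∧ g * d * g⁻¹ ≠ d) (D' : Set G) (hD' : Cfsg.IsThreeTranspositionClass D') : D' = D := by
    have hcl := cls_of_group_prim hD hprim
    obtain ⟨B⟩ := M23.exists_base hcl hprim h23
    obtain ⟨hset, ⟨d', hd', hcls⟩, -⟩ := hD'
    obtain ⟨l, hlen, hn, hm, hc, hprod⟩ := M23.short_invol hD hprim h23 B (CfsgThreeTrans.mul_self hset hd')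
    obtain ⟨a, c, b, d, ma, mc, mb, md, hac, nbd, cbd, cab, cad, ccb, ccd⟩ := config hcl B
    have nab : a ≠ b := fun e => hac (e ▸ ccb.symm)
    have ncd : c ≠ d := fun e => hac (e ▸ cad)
    have inD' : ∀ x : G, IsConj d' x → x ∈ D' := fun x hx => hcls ▸ (hx : x ∈ conjugatesOf d')
    rcases (show l.length = 0 ∨ l.length = 1 ∨ l.length = 2 ∨ l.length = 3 by omega) with e | e | e | e
    · rw [List.eq_nil_of_length_eq_zero e, List.prod_nil] at hprod
      have := hset.1 d' hd'
      rw [← hprod, orderOf_one] at this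
      norm_num at this
    · obtain ⟨w, rfl⟩ := List.length_eq_one_iff.mp e
      have hw : w ∈ D := hm w (by simp)
      have hd'w : d' = w := by simpa using hprod.symm
      subst hd'w
      rw [hcls]
      refine Set.ext fun x => ⟨fun hx => ?_, fun hx => ?_⟩
      · obtain ⟨g, rfl⟩ := isConj_iff.mp (hx : IsConj _ x)
        exact cls_conj hcl g hw
      · exact (isConj_iff.mpr (cls_exists_conj hcl hw hx) : IsConj _ x)
    · exfalso
      obtain ⟨u, v, rfl⟩ := List.length_eq_two.mp e
      simp only [List.prod_cons, List.prod_nil, mul_one] at hprod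
      have mk : ∀ p q : G, p ∈ D → q ∈ Ds D p → IsConj d' (p * q) := by
        intro p q hp hq
        obtain ⟨k, k1, k2⟩ := M23.pair_map hD hprim B (hm u (by simp))
          (show v ∈ Ds D u from ⟨hm v (by simp), Ne.symm (by simpa using hn), hc u (by simp) v (by simp)⟩) hp hq
        refine isConj_iff.mpr ⟨k, ?_⟩
        rw [← hprod, ← k1, ← k2]
        group
      have h6 := hset.2 _ (inD' _ (mk a b ma.1 ⟨mb.1, nab.symm, cab⟩)) _ (inD' _ (mk c d mc.1 ⟨md.1, ncd.symm, ccd⟩))
      rw [show a * b * (c * d) = a * c * (b * d) by rw [mul_assoc, ← mul_assoc b, ccb.symm.eq]; simp only [mul_assoc]]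
        at h6
      exact order_six hcl.1 ma.1 mb.1 mc.1 md.1 hac cbd nbd
        ((cab.mul_right cad).mul_left (ccb.mul_right ccd)) h6
    · exfalso
      obtain ⟨u, v, w, rfl⟩ := List.length_eq_three.mp e
      simp only [List.prod_cons, List.prod_nil, mul_one] at hprod
      simp only [List.nodup_cons, List.mem_cons, List.not_mem_nil, or_false, not_or, List.nodup_nil, and_true] at hn
      have mk : ∀ p q r : G, p ∈ D → q ∈ Ds D p → r ∈ Ds D p → q ≠ r → Commute q r → IsConj d' (p * q * r) := by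
        intro p q r hp hq hr hqr cqr
        obtain ⟨k, k1, k2, k3⟩ := M23.triple_map hD hprim B (hm u (by simp))
          ⟨hm v (by simp), Ne.symm hn.1.1, hc u (by simp) v (by simp)⟩
          ⟨hm w (by simp), Ne.symm hn.1.2, hc u (by simp) w (by simp)⟩ hn.2.1 (hc v (by simp) w (by simp))
          hp hq hr hqr cqr
        refine isConj_iff.mpr ⟨k, ?_⟩
        rw [← hprod, ← k1, ← k2, ← k3]
        group
      have h6 := hset.2 _ (inD' _ (mk B.t a b B.ht ma mb nab cab)) _ (inD' _ (mk B.t c d B.ht mc md ncd ccd))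
      have ct : Commute (a * b) B.t := (ma.2.2.mul_right mb.2.2).symm
      rw [show B.t * a * b * (B.t * c * d) = a * c * (b * d) by
        calc B.t * a * b * (B.t * c * d) = B.t * ((a * b) * B.t) * (c * d) := by simp only [mul_assoc]
          _ = B.t * B.t * (a * b) * (c * d) := by rw [ct.eq]; simp only [mul_assoc]
          _ = a * b * (c * d) := by rw [CfsgThreeTrans.mul_self hcl.1 B.ht, one_mul]
          _ = a * c * (b * d) := by rw [mul_assoc, ← mul_assoc b, ccb.symm.eq]; simp only [mul_assoc]] at h6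
      exact order_six hcl.1 ma.1 mb.1 mc.1 md.1 hac cbd nbd
        ((cab.mul_right cad).mul_left (ccb.mul_right ccd)) h6

end Cfsg.Agent.S5457
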