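import Cfsg.Statements.S5458
import Cfsg.Agent.Lib.ThreeTrans.M22.Thompson
-- import your own Cfsg.Agent.* helpers here

set_option autoImplicit false
open Cfsg

namespace Cfsg.Agent.S5458

open CfsgThreeTrans CfsgThreeTrans.M22 CfsgThreeTrans.M22.CliqueCount

/-- Let G be a finite group with trivial centre generated by a conjugation-invariant set D of 3-transpositions on which it acts primitively, of type M(22), and suppose G also has an involution whose centralizer is quasisimple with quotient by it the projective special unitary group of dimension 6 over the field with four elements and which is not weakly closed in that centralizer. Let T be a Sylow 2-subgroup of G. Then the subgroup generated by the members of D lying in T is the Thompson subgroup of T (generated by the elementary abelian subgroups of T of largest order). -/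
theorem result {G : Type*} [Group G] [Finite G] {D : Set G} (hD : Cfsg.IsThreeTranspositionGroup D) (hprim : Cfsg.IsPrimitiveUnderConj D) (h22 : Cfsg.IsOfTypeM22 G D) (hM : ∃ d : G, orderOf d = 2 ∧ Cfsg.IsQuasisimple ↥(Subgroup.centralizer ({d} : Set G)) ∧ (∃ (_ : ((Subgroup.zpowers d).subgroupOf (Subgroup.centralizer ({d} : Set G))).Normal) (K : Type) (_ : Field K) (_ : Fintype K), Fintype.card K = 4 ∧ Nonempty (↥(Subgroup.centralizer ({d} : Set G)) ⧸ (Subgroup.zpowers d).subgroupOf (Subgroup.centralizer ({d} : Set G)) ≃* Cfsg.PSU 6 K 2)) ∧ ∃ g : G, g * d * g⁻¹ ∈ Subgroup.centralizer ({d} : Set G) ∧ g * d * g⁻¹ ≠ d) (T : Sylow 2 G) : Subgroup.closure {x : G | x ∈ D ∧ x ∈ (T : Subgroup G)} = Cfsg.thompsonSubgroupOf 2 (T : Subgroup G) := by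
  classical
  have hcl := cls_of_group_prim hD hprim
  obtain ⟨t, ht, h3, h2, F, iF, iFt, iDec, hF, ⟨A⟩⟩ := exists_full hD hprim h22
  haveI : Fact (Nat.Prime 2) := ⟨Nat.prime_two⟩
  let act : MulAction (T : Subgroup G) {E : Set G // IsClique D E} :=
    { smul := fun g E => ⟨_, E.2.cj hcl (g : G)⟩
      one_smul := fun E => Subtype.ext (by show (fun z => (1 : G) * z * 1⁻¹) '' E.1 = E.1; simp)
      mul_smul := fun g k E => Subtype.ext (by
        show (fun z => ((g : G) * k) * z * ((g : G) * k)⁻¹) '' E.1 = _ '' (_ '' E.1)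
        rw [Set.image_image]
        congr 1
        funext z
        group) }
  obtain ⟨⟨E, hE⟩, hfixE⟩ := T.isPGroup'.nonempty_fixed_point_of_prime_not_dvd_card {E : Set G // IsClique D E}
    fun h => Nat.not_even_iff_odd.mpr (card_cliques_odd hcl hprim A) (even_iff_two_dvd.mpr h)
  have hTE : ∀ g ∈ (T : Subgroup G), ∀ e ∈ E, g * e * g⁻¹ ∈ E := by
    intro g hg e he
    have := congrArg Subtype.val (hfixE ⟨g, hg⟩)
    rw [← show (fun z => g * z * g⁻¹) '' E = E from this]
    exact ⟨e, he, rfl⟩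
  set A0 := Subgroup.closure E with hA0
  have hTn : (T : Subgroup G) ≤ Subgroup.normalizer (A0 : Set G) := by
    intro g hg
    rw [Subgroup.mem_normalizer_iff]
    intro x
    have key : ∀ g ∈ (T : Subgroup G), ∀ x ∈ A0, g * x * g⁻¹ ∈ A0 := by
      intro g hg x hx
      have hle : A0 ≤ A0.comap (MulAut.conj g).toMonoidHom :=
        (Subgroup.closure_le _).mpr fun e he => Subgroup.subset_closure (hTE g hg e he)
      exact hle hx
    refine ⟨key g hg x, fun h => ?_⟩
    have := key g⁻¹ (inv_mem hg) _ h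
    rwa [show g⁻¹ * (g * x * g⁻¹) * g⁻¹⁻¹ = x by group] at this
  have hsq0 := Thompson.closure_clique_sq hD hprim h22 hE
  have hA2 : IsPGroup 2 A0 := fun a => ⟨1, by rw [pow_one, pow_two]; exact Subtype.ext (hsq0 a a.2)⟩
  have hAT : A0 ≤ (T : Subgroup G) := by
    have hp2 : IsPGroup 2 ((T : Subgroup G) ⊔ A0 : Subgroup G) := T.isPGroup'.to_sup_of_normal_right' hA2 hTn
    exact T.is_maximal' hp2 le_sup_left ▸ le_sup_right
  have hTD : {x : G | x ∈ D ∧ x ∈ (T : Subgroup G)} = E := by
    refine Set.Subset.antisymm ?_ fun e he => ⟨hE.1 he, hAT (Subgroup.subset_closure he)⟩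
    rintro c ⟨hc, hcT⟩
    refine hE.2.2 c hc fun a ha => ?_
    by_contra hn
    have h3' := CfsgThreeTrans.pow_three hcl.1 (hE.1 ha) hc hn
    obtain ⟨k, hk⟩ := T.isPGroup' ⟨a * c, mul_mem (hAT (Subgroup.subset_closure ha)) hcT⟩
    have hk' : (a * c) ^ (2 ^ k) = 1 := congrArg Subtype.val hk
    have hg : (a * c) ^ Nat.gcd 3 (2 ^ k) = 1 := pow_gcd_eq_one.mpr ⟨h3', hk'⟩
    rw [Nat.Coprime.pow_right k (by norm_num : Nat.Coprime 3 2), pow_one] at hg
    exact hn ((eq_inv_of_mul_eq_one_left hg).trans (CfsgThreeTrans.inv_self hcl.1 hc) ▸ Commute.refl c)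
  rw [hTD]
  unfold Cfsg.thompsonSubgroupOf Cfsg.thompsonSubgroup
  have hA' : (A0.subgroupOf T).map (T : Subgroup G).subtype = A0 := Subgroup.map_subgroupOf_eq_of_le hAT
  have hcA : Nat.card (A0.subgroupOf T) = Nat.card A0 := Nat.card_congr (Subgroup.subgroupOfEquivOfLe hAT).toEquiv
  have hcom0 := Thompson.closure_clique_comm hD hprim hE
  have hmax : ∀ B : Subgroup (T : Subgroup G), Cfsg.IsElementaryAbelian 2 B → Nat.card A0 ≤ Nat.card B →
      B ≤ A0.subgroupOf T := by
    intro B hB hcard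
    have := Thompson.large_le hD hprim h22 A ht h3 h2 hE (B.map (T : Subgroup G).subtype)
      (by rintro _ ⟨b, hb, rfl⟩; rw [← map_mul, ← pow_two, hB.2 b hb, map_one])
      (by rintro _ ⟨b, hb, rfl⟩ _ ⟨c, hc, rfl⟩; exact (hB.1.is_comm.comm ⟨b, hb⟩ ⟨c, hc⟩ |> congrArg Subtype.val |> fun e => (show Commute b c from e)).map _)
      (by rintro _ ⟨b, hb, rfl⟩ e he; exact hTE b b.2 e he)
      (by rwa [Subgroup.card_subtype])
    intro b hb
    exact this ⟨b, hb, rfl⟩
  have hEA : Cfsg.IsElementaryAbelian 2 (A0.subgroupOf T) :=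
    ⟨⟨⟨fun a b => Subtype.ext (Subtype.ext (hcom0 _ a.2 _ b.2).eq)⟩⟩,
      fun a ha => Subtype.ext (by rw [Subgroup.coe_pow, pow_two]; exact hsq0 _ ha)⟩
  have hbest : ∀ B : Subgroup (T : Subgroup G), Cfsg.IsElementaryAbelian 2 B → Nat.card B ≤ Nat.card A0 := by
    intro B hB
    by_contra hlt
    push Not at hlt
    have := Subgroup.card_le_of_le (hmax B hB hlt.le)
    omega
  have hset : Cfsg.maxElementaryAbelianSubgroups 2 (T : Subgroup G) = {A0.subgroupOf T} := by
    ext B
    refine ⟨fun ⟨hB, hBmax⟩ => ?_, fun e => ?_⟩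
    · have h1 := hBmax _ hEA
      rw [hcA] at h1
      exact Subgroup.eq_of_le_of_card_ge (hmax B hB h1) (hcA.le.trans h1)
    · rw [Set.mem_singleton_iff] at e
      subst e
      exact ⟨hEA, fun B hB => (hbest B hB).trans hcA.ge⟩
  rw [hset, sSup_singleton, hA']

end Cfsg.Agent.S5458
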