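import Cfsg.Statements.S5466
import Cfsg.Agent.Lib.ThreeTrans.M24.TripleAut
-- import your own Cfsg.Agent.* helpers here

set_option autoImplicit false
open Cfsg

namespace Cfsg.Agent.S5466

open CfsgThreeTrans CfsgLib

/-- Let G be a finite group with trivial centre generated by a conjugation-invariant set D of 3-transpositions on which it acts primitively, such that for some d in D the subgroup generated by the members of D other than d commuting with d has central largest normal 2- and 3-subgroups, and suppose G with D is of type M(24), and let L be the commutator subgroup of G. Let d₁, d₂, d₃ be distinct pairwise commuting members of D, j their product, E the subgroup generated by d₁ d₂ and d₁ d₃ (a four-group lying in L), CL the centralizer of j in L and K its generalized Fitting subgroup. Then K is quasisimple with centre E, K is the centralizer of E in L, K modulo E is isomorphic to the projective special unitary group of dimension 6 over the field with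 four elements, CL/K is isomorphic to the symmetric group of degree 3, and CL modulo E is isomorphic to the full automorphism group of that unitary group. -/
theorem result {G : Type*} [Group G] [Finite G] {D : Set G} (hD : Cfsg.IsThreeTranspositionGroup D) (hprim : Cfsg.IsPrimitiveUnderConj D) (d₀ : G) (hd₀ : d₀ ∈ D) (h3 : Cfsg.pCore 3 ↥(Subgroup.closure {y : G | y ∈ D ∧ y ≠ d₀ ∧ Commute d₀ y}) ≤ Subgroup.center ↥(Subgroup.closure {y : G | y ∈ D ∧ y ≠ d₀ ∧ Commute d₀ y})) (h2 : Cfsg.pCore 2 ↥(Subgroup.closure {y : G | y ∈ D ∧ y ≠ d₀ ∧ Commute d₀ y}) ≤ Subgroup.center ↥(Subgroup.closure {y : G | y ∈ D ∧ y ≠ d₀ ∧ Commute d₀ y})) (h24 : Cfsg.IsOfTypeM24 G D) (L : Subgroup G) (hL : L = commutator G) (d₁ d₂ d₃ : G) (h₁ : d₁ ∈ D) (h₂ : d₂ ∈ D) (h₃ : d₃ ∈ D) (h12 : d₁ ≠ d₂) (h13 : d₁ ≠ d₃) (h23 : d₂ ≠ d₃) (c12 : Commute d₁ d₂) (c13 : Commute d₁ d₃) (c23 : Commute d₂ d₃) (E CL K : Subgroup G) (hE : E = Subgroup.closure ({d₁ * d₂, d₁ * d₃} : Set G)) (hCL : CL = L ⊓ Subgroup.centralizer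 ({d₁ * d₂ * d₃} : Set G)) (hK : K = (Cfsg.generalizedFittingSubgroup ↥CL).map CL.subtype) : Cfsg.IsQuasisimple ↥K ∧ (Subgroup.center ↥K).map K.subtype = E ∧ K = L ⊓ Subgroup.centralizer (E : Set G) ∧ (∃ (_ : (E.subgroupOf K).Normal) (F : Type) (_ : Field F) (_ : Fintype F), Fintype.card F = 4 ∧ Nonempty (↥K ⧸ E.subgroupOf K ≃* Cfsg.PSU 6 F 2)) ∧ ∃ _ : (K.subgroupOf CL).Normal, Nonempty (↥CL ⧸ K.subgroupOf CL ≃* Equiv.Perm (Fin 3)) ∧ E ≤ CL ∧ ∃ (_ : (E.subgroupOf CL).Normal) (F : Type) (_ : Field F) (_ : Fintype F), Fintype.card F = 4 ∧ Nonempty (↥CL ⧸ E.subgroupOf CL ≃* MulAut (Cfsg.PSU 6 F 2)) := by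
    have hc := cls_of_group_prim hD hprim
    obtain ⟨B⟩ := M24.exists_base hc hprim h24
    obtain ⟨C, e1, e2, e3⟩ := M24.exists_chart_at hc hprim h24.1 B h₁ (b := d₂) (c := d₃)
      ⟨h₂, h12.symm, c12⟩ ⟨h₃, h13.symm, c13⟩ h23 c23
    subst e1 e2 e3
    subst hL hE hCL
    have hKeq : K = M24.KL C := by rw [hK]; exact M24.gfit_CL hc hprim h24.1 B C
    subst hKeq
    obtain ⟨ρ, hρs, hρ⟩ := M24.sym_action hc hprim h24.1 B C
    obtain ⟨α, hα, hαs⟩ := M24.aut_action hc hprim h24.1 B C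
    haveI hn1 : ((M24.KL C).subgroupOf (M24.CL C)).Normal := hρ ▸ MonoidHom.normal_ker ρ
    haveI hn2 : ((M24.EL C).subgroupOf (M24.CL C)).Normal := hα ▸ MonoidHom.normal_ker α
    have hker : (M24.EL C).subgroupOf (M24.KL C) = (M24.phiL C).ker := by
      ext w
      exact (M24.ker_phiL hc hprim h24.1 B C w.2).symm
    haveI hn3 : ((M24.EL C).subgroupOf (M24.KL C)).Normal := hker ▸ MonoidHom.normal_ker _
    refine ⟨M24.quasisimple_L0 hc hprim h24.1 B C, M24.center_L0 hc hprim h24.1 B C, ?_, ⟨hn3, C.F, C.fF, C.ftF,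
      by rw [C.hF]; norm_num, ⟨(QuotientGroup.quotientMulEquivOfEq hker).trans
        (QuotientGroup.quotientKerEquivOfSurjective _ (M24.phiL_surjective hc hprim h24.1 B C))⟩⟩, hn1,
      ⟨(QuotientGroup.quotientMulEquivOfEq hρ.symm).trans (QuotientGroup.quotientKerEquivOfSurjective ρ hρs)⟩,
      M24.EL_le_CL hc hprim h24.1 B C, hn2, C.F, C.fF, C.ftF, by rw [C.hF]; norm_num,
      ⟨(QuotientGroup.quotientMulEquivOfEq hα.symm).trans (QuotientGroup.quotientKerEquivOfSurjective α hαs)⟩⟩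
    rw [M24.cent_E0 hc hprim h24.1 B C]

end Cfsg.Agent.S5466
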