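import Cfsg.Statements.S5467
import Cfsg.Agent.Lib.ThreeTrans.M24.FourProd.Transfer

set_option autoImplicit false
open Cfsg CfsgThreeTrans CfsgLib.CosetEnum

namespace Cfsg.Agent.S5467

/-- Let G be a finite group with trivial centre generated by a conjugation-invariant set D of 3-transpositions on which it acts primitively, such that for some d in D the subgroup generated by the members of D other than d commuting with d has central largest normal 2- and 3-subgroups, and suppose G with D is of type M(24), and let L be the commutator subgroup of G. Let z be the product of four distinct pairwise commuting members of D (an involution of L) and C its centralizer in L. Then the generalized Fitting subgroup Q of C is extraspecial of order 2^13, and C has normal subgroups Q ≤ N ≤ M with N/Q of order 3, M/N isomorphic to the projective special unitary group of dimension 4 over the field with nine elements, and M of index 2 in C. -/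
theorem result {G : Type*} [Group G] [Finite G] {D : Set G} (hD : Cfsg.IsThreeTranspositionGroup D) (hprim : Cfsg.IsPrimitiveUnderConj D) (d₀ : G) (hd₀ : d₀ ∈ D) (h3 : Cfsg.pCore 3 ↥(Subgroup.closure {y : G | y ∈ D ∧ y ≠ d₀ ∧ Commute d₀ y}) ≤ Subgroup.center ↥(Subgroup.closure {y : G | y ∈ D ∧ y ≠ d₀ ∧ Commute d₀ y})) (h2 : Cfsg.pCore 2 ↥(Subgroup.closure {y : G | y ∈ D ∧ y ≠ d₀ ∧ Commute d₀ y}) ≤ Subgroup.center ↥(Subgroup.closure {y : G | y ∈ D ∧ y ≠ d₀ ∧ Commute d₀ y})) (h24 : Cfsg.IsOfTypeM24 G D) (L : Subgroup G) (hL : L = commutator G) (z : G) (l : List G) (hl : (l.Nodup ∧ l.length = 4 ∧ (∀ a ∈ l, a ∈ D) ∧ (∀ a ∈ l, ∀ b ∈ l, Commute a b) ∧ l.prod = z)) (C : Subgroup G) (hC : C = L ⊓ Subgroup.centralizer ({z} : Set G)) : ∃ (Q : Subgroup ↥C) (_ : Q.Normal), Cfsg.generalizedFittingSubgroup ↥C = Q ∧ Cfsg.IsExtraspecial 2 ↥Q ∧ Nat.card Q = 2 ^ 13 ∧ ∃ (N M : Subgroup ↥C) (_ : N.Normal) (_ : M.Normal), Q ≤ N ∧ N ≤ M ∧ Nat.card N = 3 * Nat.card Q ∧ (∃ (K : Type) (_ : Field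 K) (_ : Fintype K), Fintype.card K = 9 ∧ Nonempty (↥M ⧸ N.subgroupOf M ≃* Cfsg.PSU 4 K 3)) ∧ M.index = 2 := by
  classical
  obtain ⟨hnd, hlen, hmem, hcom, hprod⟩ := hl
  obtain ⟨a, b, c, e, rfl⟩ : ∃ a b c e, l = [a, b, c, e] := by
    match l, hlen with
    | [a, b, c, e], _ => exact ⟨a, b, c, e, rfl⟩
  obtain ⟨f, hf, ha, hb, hc, he⟩ := M24.FourProd.exists_frame hD hprim h24 hnd hmem hcom
  have hB := M24.FourProd.quad_bound hD hprim h24 f hf
  haveI := Fi24Table.finite_grp
  obtain ⟨Q, hQn, hgf, hext, hQc, N, M, hNn, hMn, hQN, hNM, hNc, ⟨F, i1, i2, hF, ⟨q⟩⟩, hidx⟩ :=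
    Fi24Table.FourProd.local_structure hB
  have hzz : f Fi24Table.FourProd.zz = z := by
    rw [← hprod, Fi24Table.FourProd.zz, Fi24Table.W]
    simp [ha, hb, hc, he]
  have hmap : Fi24Table.FourProd.C0.map f.toMonoidHom = C := by
    subst hC hL
    ext x
    obtain ⟨g, rfl⟩ := f.surjective x
    rw [show (f g : G) = f.toMonoidHom g from rfl, Subgroup.mem_map_iff_mem f.injective, Subgroup.mem_inf,
      Subgroup.mem_inf, M24.FourProd.sgn_ker_eq, ← M24.commutator_map_of_surjective f.toMonoidHom f.surjective,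
      Subgroup.mem_map_iff_mem f.injective, Subgroup.mem_centralizer_singleton_iff,
      Subgroup.mem_centralizer_singleton_iff, ← hzz, show f.toMonoidHom g = f g from rfl, ← map_mul, ← map_mul]
    exact ⟨fun h => ⟨h.2, congrArg f h.1⟩, fun h => ⟨f.injective h.2, h.1⟩⟩
  let ε : ↥Fi24Table.FourProd.C0 ≃* ↥C :=
    (Fi24Table.FourProd.C0.equivMapOfInjective f.toMonoidHom f.injective).trans (MulEquiv.subgroupCongr hmap)
  haveI nQ : (Q.map ε.toMonoidHom).Normal := hQn.map _ ε.surjective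
  haveI nN : (N.map ε.toMonoidHom).Normal := hNn.map _ ε.surjective
  haveI nM : (M.map ε.toMonoidHom).Normal := hMn.map _ ε.surjective
  have hcard : ∀ S : Subgroup ↥Fi24Table.FourProd.C0, Nat.card (S.map ε.toMonoidHom) = Nat.card S :=
    fun S => Subgroup.card_map_of_injective ε.injective
  refine ⟨Q.map ε.toMonoidHom, nQ, by rw [← CfsgLib.map_generalizedFittingSubgroup_equiv ε, hgf],
    M22.Unique.extraspecial_equiv (Q.equivMapOfInjective ε.toMonoidHom ε.injective) hext, by rw [hcard, hQc],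
    N.map ε.toMonoidHom, M.map ε.toMonoidHom, nN, nM, Subgroup.map_mono hQN, Subgroup.map_mono hNM,
    by rw [hcard, hcard, hNc], ⟨F, i1, i2, hF, ⟨?_⟩⟩, ?_⟩
  · let η : ↥M ≃* ↥(M.map ε.toMonoidHom) := M.equivMapOfInjective ε.toMonoidHom ε.injective
    refine (QuotientGroup.congr (N.subgroupOf M) ((N.map ε.toMonoidHom).subgroupOf (M.map ε.toMonoidHom)) η ?_).symm.trans q
    ext x
    obtain ⟨y, rfl⟩ := η.surjective x
    rw [show ((N.subgroupOf M).map (η : ↥M →* ↥(M.map ε.toMonoidHom))) = (N.subgroupOf M).map η.toMonoidHom from rfl,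
      Subgroup.mem_map_equiv, MulEquiv.symm_apply_apply, Subgroup.mem_subgroupOf, Subgroup.mem_subgroupOf]
    exact (Subgroup.mem_map_iff_mem ε.injective).symm
  · rw [show M.map ε.toMonoidHom = M.map (ε : ↥Fi24Table.FourProd.C0 →* ↥C) from rfl, Subgroup.index_map_equiv, hidx]

end Cfsg.Agent.S5467
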