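import Cfsg.Statements.S5468
import Cfsg.Agent.Lib.ThreeTrans.M23.Pair
-- import your own Cfsg.Agent.* helpers here

set_option autoImplicit false
open Cfsg

namespace Cfsg.Agent.S5468

open CfsgThreeTrans CfsgLib
open scoped commutatorElement

/-- Let G be a finite group with trivial centre generated by a conjugation-invariant set D of 3-transpositions on which it acts primitively, such that for some d in D the subgroup generated by the members of D other than d commuting with d has central largest normal 2- and 3-subgroups, and suppose G with D is of type M(23). Let d₁, d₂ be distinct commuting members of D, j = d₁ d₂, K the joint centralizer of d₁ and d₂ and C the centralizer of j. Then K has index 2 in C, the centre of K is the subgroup generated by d₁ and d₂, K is quasisimple with K modulo its centre isomorphic to the projective special unitary group of dimension 6 over the field with four elements, and C modulo the subgroup generated by d₁ and d₂ has trivial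 centre (so it is that unitary group extended by an outer involution). -/
theorem result {G : Type*} [Group G] [Finite G] {D : Set G} (hD : Cfsg.IsThreeTranspositionGroup D) (hprim : Cfsg.IsPrimitiveUnderConj D) (d₀ : G) (hd₀ : d₀ ∈ D) (h3 : Cfsg.pCore 3 ↥(Subgroup.closure {y : G | y ∈ D ∧ y ≠ d₀ ∧ Commute d₀ y}) ≤ Subgroup.center ↥(Subgroup.closure {y : G | y ∈ D ∧ y ≠ d₀ ∧ Commute d₀ y})) (h2 : Cfsg.pCore 2 ↥(Subgroup.closure {y : G | y ∈ D ∧ y ≠ d₀ ∧ Commute d₀ y}) ≤ Subgroup.center ↥(Subgroup.closure {y : G | y ∈ D ∧ y ≠ d₀ ∧ Commute d₀ y})) (h23 : Cfsg.IsOfTypeM23 G D) (d₁ d₂ : G) (h₁ : d₁ ∈ D) (h₂ : d₂ ∈ D) (hne : d₁ ≠ d₂) (hc : Commute d₁ d₂) (K C V : Subgroup G) (hK : K = Subgroup.centralizer ({d₁, d₂} : Set G)) (hC : C = Subgroup.centralizer ({d₁ * d₂} : Set G)) (hV : V = Subgroup.closure ({d₁, d₂} : Set G)) [hn : (V.subgroupOf C).Normal] : K ≤ C ∧ (K.subgroupOf C).index = 2 ∧ (Subgroup.center ↥K).map K.subtype = V ∧ Cfsg.IsQuasisimple ↥K ∧ (∃ (F : Type)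 (_ : Field F) (_ : Fintype F), Fintype.card F = 4 ∧ Nonempty (↥K ⧸ Subgroup.center ↥K ≃* Cfsg.PSU 6 F 2)) ∧ Subgroup.center (↥C ⧸ V.subgroupOf C) = ⊥ := by
    have hcl := cls_of_group_prim hD hprim
    obtain ⟨B⟩ := M23.exists_base hcl hprim h23
    obtain ⟨b0, hb0, hcent, hqs, ⟨ψ⟩⟩ := M23.base_pair hD hprim h23 B
    obtain ⟨g, g1, g2⟩ := M23.pair_map hD hprim B B.ht hb0 h₁ (b' := d₂) ⟨h₂, hne.symm, hc⟩
    set K0 := Subgroup.centralizer ({B.t, b0} : Set G)
    have mK : ∀ {x y k : G}, k ∈ Subgroup.centralizer ({x, y} : Set G) ↔ Commute k x ∧ Commute k y := by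
      intro x y k
      rw [Subgroup.mem_centralizer_iff]
      refine ⟨fun h => ⟨(h x (Set.mem_insert _ _)).symm, (h y (Set.mem_insert_of_mem _ rfl)).symm⟩, ?_⟩
      rintro ⟨h1, h2⟩ z (rfl | rfl)
      exacts [h1.eq.symm, h2.eq.symm]
    have hKe : K0.map (MulAut.conj g).toMonoidHom = K := by
      rw [hK]
      ext x
      rw [Subgroup.mem_map, mK]
      constructor
      · rintro ⟨k, hk, rfl⟩
        rw [mK] at hk
        rw [← g1, ← g2]
        exact ⟨(commute_cj_iff g).mpr hk.1, (commute_cj_iff g).mpr hk.2⟩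
      · rintro ⟨x1, x2⟩
        refine ⟨g⁻¹ * x * g⁻¹⁻¹, mK.mpr ⟨?_, ?_⟩, cj_inv g x⟩
        · have := (commute_cj_iff g⁻¹).mpr x1
          rwa [← g1, show g⁻¹ * (g * B.t * g⁻¹) * g⁻¹⁻¹ = B.t by group] at this
        · have := (commute_cj_iff g⁻¹).mpr x2
          rwa [← g2, show g⁻¹ * (g * b0 * g⁻¹) * g⁻¹⁻¹ = b0 by group] at this
    set e := ((MulAut.conj g).subgroupMap K0).trans (MulEquiv.subgroupCongr hKe)
    have hqK : IsQuasisimple ↥K := CfsgLib.isQuasisimple_of_equiv e hqs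
    have hVe : (Subgroup.closure ({B.t, b0} : Set G)).map (MulAut.conj g).toMonoidHom = V := by
      rw [hV, MonoidHom.map_closure, Set.image_pair]
      show Subgroup.closure {g * B.t * g⁻¹, g * b0 * g⁻¹} = _
      rw [g1, g2]
    have hVc : ∀ v ∈ V, ∀ k ∈ K, Commute v k := by
      intro v hv k hk
      rw [hK, mK] at hk
      have hle : V ≤ Subgroup.centralizer ({k} : Set G) := by
        rw [hV, Subgroup.closure_le]
        rintro z (rfl | rfl) <;> refine Subgroup.mem_centralizer_singleton_iff.mpr ?_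
        exacts [hk.1.eq.symm, hk.2.eq.symm]
      exact Subgroup.mem_centralizer_singleton_iff.mp (hle hv)
    have hd1K : d₁ ∈ K := by rw [hK, mK]; exact ⟨Commute.refl _, hc⟩
    have hd2K : d₂ ∈ K := by rw [hK, mK]; exact ⟨hc.symm, Commute.refl _⟩
    have hVK : V ≤ K := by
      rw [hV, Subgroup.closure_le]
      rintro z (rfl | rfl)
      exacts [hd1K, hd2K]
    have hcK : ∀ x ∈ K, (∀ k ∈ K, Commute x k) → x ∈ V := by
      intro x hx hcx
      obtain ⟨x0, hx0, rfl⟩ := hKe.symm ▸ hx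
      rw [← hVe]
      exact Subgroup.mem_map_of_mem _ (hcent x0 hx0 fun k hk =>
        (commute_cj_iff g).mp (hcx _ (hKe ▸ Subgroup.mem_map_of_mem _ hk)))
    have hKC : K ≤ C := fun k hk => by
      rw [hK, mK] at hk
      rw [hC]
      exact Subgroup.mem_centralizer_singleton_iff.mpr (hk.1.mul_right hk.2).eq
    have hpair : ∀ x ∈ C, (x * d₁ * x⁻¹ = d₁ ∧ x * d₂ * x⁻¹ = d₂) ∨ (x * d₁ * x⁻¹ = d₂ ∧ x * d₂ * x⁻¹ = d₁) := by
      intro x hx
      rw [hC, Subgroup.mem_centralizer_singleton_iff] at hx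
      exact pair_unique hcl (cores_of_prim hcl hprim (M23.has_pair hcl B)).1 (cls_conj hcl x h₁) (cls_conj hcl x h₂) h₁ h₂
        (fun q => hne (cj_injective x q)) hne ((commute_cj_iff x).mpr hc) hc (by
          rw [show x * d₁ * x⁻¹ * (x * d₂ * x⁻¹) = x * (d₁ * d₂) * x⁻¹ by group, hx, mul_inv_cancel_right])
    have fixK : ∀ x, x * d₁ * x⁻¹ = d₁ → x * d₂ * x⁻¹ = d₂ → x ∈ K := fun x a b => by
      rw [hK, mK]
      exact ⟨mul_inv_eq_iff_eq_mul.mp a, mul_inv_eq_iff_eq_mul.mp b⟩
    refine ⟨hKC, ?_, ?_, hqK, ?_, ?_⟩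
    · obtain ⟨s, s1, s2⟩ := M23.pair_map hD hprim B h₁ (b := d₂) ⟨h₂, hne.symm, hc⟩ h₂ (b' := d₁) ⟨h₁, hne, hc.symm⟩
      have hsC : s ∈ C := by
        rw [hC, Subgroup.mem_centralizer_singleton_iff]
        refine mul_inv_eq_iff_eq_mul.mp ?_
        rw [show s * (d₁ * d₂) * s⁻¹ = (s * d₁ * s⁻¹) * (s * d₂ * s⁻¹) by group, s1, s2, hc.eq]
      rw [Subgroup.index_eq_two_iff]
      refine ⟨⟨s, hsC⟩, fun x => ?_⟩
      simp only [Subgroup.mem_subgroupOf, Subgroup.coe_mul]
      rcases hpair x.1 x.2 with ⟨a, b⟩ | ⟨a, b⟩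
      · refine Or.inr ⟨fixK _ a b, fun h => hne ?_⟩
        rw [hK, mK] at h
        have h1 := mul_inv_eq_iff_eq_mul.mpr h.1.eq
        rw [← cj_cj, s1, b] at h1
        exact h1.symm
      · refine Or.inl ⟨fixK _ ?_ ?_, fun h => hne ?_⟩
        · rw [← cj_cj, s1, b]
        · rw [← cj_cj, s2, a]
        · rw [hK, mK] at h
          rw [mul_inv_eq_iff_eq_mul.mpr h.1.eq] at a
          exact a
    · refine le_antisymm ?_ fun v hv => ?_
      · rintro _ ⟨z, hz, rfl⟩
        exact hcK z z.2 fun k hk => congrArg Subtype.val (Subgroup.mem_center_iff.mp hz ⟨k, hk⟩).symm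
      · exact ⟨⟨v, hVK hv⟩, Subgroup.mem_center_iff.mpr fun w => Subtype.ext (hVc v hv w w.2).eq.symm, rfl⟩
    · refine ⟨B.F, B.fF, B.ftF, by rw [B.hF]; norm_num, ⟨(QuotientGroup.congr _ _ e ?_).symm.trans ψ⟩⟩
      ext z
      rw [Subgroup.mem_map]
      constructor
      · rintro ⟨w, hw, rfl⟩
        refine Subgroup.mem_center_iff.mpr fun v => ?_
        obtain ⟨v, rfl⟩ := e.surjective v
        show e v * e w = e w * e v
        rw [← map_mul, ← map_mul, Subgroup.mem_center_iff.mp hw v]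
      · intro hz
        refine ⟨e.symm z, Subgroup.mem_center_iff.mpr fun v => e.injective ?_, e.apply_symm_apply z⟩
        rw [map_mul, map_mul, e.apply_symm_apply]
        exact Subgroup.mem_center_iff.mp hz _
    · rw [eq_bot_iff]
      intro q hq
      obtain ⟨⟨x, hx⟩, rfl⟩ := QuotientGroup.mk_surjective q
      rw [Subgroup.mem_bot, QuotientGroup.eq_one_iff, Subgroup.mem_subgroupOf]
      have hv : ∀ k ∈ K, x * k * x⁻¹ * k⁻¹ ∈ V := by
        intro k hk
        have := Subgroup.mem_center_iff.mp hq (QuotientGroup.mk (⟨k, hKC hk⟩ : C))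
        rw [← QuotientGroup.mk_mul, ← QuotientGroup.mk_mul, eq_comm, eq_comm, QuotientGroup.eq, Subgroup.mem_subgroupOf] at this
        have h2 : (k * x)⁻¹ * (x * k) ∈ V := this
        have hn' := hn.conj_mem (⟨(k * x)⁻¹ * (x * k), mul_mem (inv_mem (mul_mem (hKC hk) hx)) (mul_mem hx (hKC hk))⟩ : C)
          (by rw [Subgroup.mem_subgroupOf]; exact h2) (⟨k * x, mul_mem (hKC hk) hx⟩ : C)
        rw [Subgroup.mem_subgroupOf] at hn'
        simpa [mul_assoc] using hn'
      have hzc : ∀ k : K, (⟨_, hVK (hv k k.2)⟩ : K) ∈ Subgroup.center K := fun k =>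
        Subgroup.mem_center_iff.mpr fun w => Subtype.ext (hVc _ (hv k k.2) w w.2).eq.symm
      let u : K →* Subgroup.center K :=
        { toFun := fun k => ⟨⟨_, hVK (hv k k.2)⟩, hzc k⟩
          map_one' := Subtype.ext (Subtype.ext (by simp))
          map_mul' := fun p q => Subtype.ext (Subtype.ext (by
            show x * (p * q : G) * x⁻¹ * (p * q : G)⁻¹ = (x * p * x⁻¹ * (p : G)⁻¹) * (x * q * x⁻¹ * (q : G)⁻¹)
            have hcq : Commute (x * q * x⁻¹ * (q : G)⁻¹) (p : G) := hVc _ (hv q q.2) p p.2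
            calc x * (p * q : G) * x⁻¹ * (p * q : G)⁻¹
                = x * p * x⁻¹ * ((x * q * x⁻¹ * (q : G)⁻¹) * (p : G)⁻¹) := by group
              _ = x * p * x⁻¹ * ((p : G)⁻¹ * (x * q * x⁻¹ * (q : G)⁻¹)) := by rw [hcq.inv_right.eq]
              _ = _ := by simp only [mul_assoc])) }
      have hu : ∀ k : K, u k = 1 := fun k => by
        haveI := hqK.1
        have hk : k ∈ commutator K := by rw [Group.IsPerfect.commutator_eq_top]; exact Subgroup.mem_top k
        exact MonoidHom.mem_ker.mp ((show commutator K ≤ u.ker by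
          rw [commutator_def, Subgroup.commutator_le]
          intro p _ q _
          rw [MonoidHom.mem_ker, map_commutatorElement, commutatorElement_eq_one_iff_mul_comm]
          exact Subtype.ext (Subgroup.mem_center_iff.mp (u q).2 (u p : K))) hk)
      have hcom : ∀ k ∈ K, Commute x k := fun k hk => by
        have h1 : x * k * x⁻¹ * k⁻¹ = 1 := congrArg (fun z : Subgroup.center K => (((z : K)) : G)) (hu ⟨k, hk⟩)
        exact mul_inv_eq_iff_eq_mul.mp (mul_inv_eq_one.mp h1)
      exact hcK x (fixK x (mul_inv_eq_iff_eq_mul.mpr (hcom _ hd1K).eq) (mul_inv_eq_iff_eq_mul.mpr (hcom _ hd2K).eq)) hcom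

end Cfsg.Agent.S5468
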