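import Cfsg.Statements.S5472
import Cfsg.Agent.Lib.Basic
import Cfsg.Agent.Lib.CosetEnum.Fi22Outer.Main
import Cfsg.Agent.Lib.ThreeTrans.M22.Unique.Transfer
-- import your own Cfsg.Agent.* helpers here

set_option autoImplicit false
open Cfsg CfsgThreeTrans.M22.Unique CfsgLib.CosetEnum

namespace Cfsg.Agent.S5472

theorem congr_conj {K G : Type*} [Group K] [Group G] (e : K ≃* G) (x : K) :
    MulAut.congr e (MulAut.conj x) = MulAut.conj (e x) := by
  refine MulEquiv.ext fun g => ?_
  simp [MulAut.congr, MulAut.conj_apply, map_mul]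

theorem congr_mem {K G : Type*} [Group K] [Group G] (e : K ≃* G) (φ : MulAut K) (H : Subgroup K)
    (h : ∀ x, x ∈ H ↔ φ x = x) (g : G) : g ∈ H.map (e : K →* G) ↔ MulAut.congr e φ g = g := by
  obtain ⟨x, rfl⟩ := e.surjective g
  rw [show MulAut.congr e φ (e x) = e (φ (e.symm (e x))) from rfl, e.symm_apply_apply, e.injective.eq_iff, ← h]
  exact ⟨fun ⟨y, hy, ey⟩ => e.injective ey ▸ hy, fun hx => ⟨x, hx, rfl⟩⟩

theorem congr_range {K G : Type*} [Group K] [Group G] (e : K ≃* G) (t : MulAut K) :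
    MulAut.congr e t ∈ (MulAut.conj : G →* MulAut G).range ↔ t ∈ (MulAut.conj : K →* MulAut K).range := by
  constructor
  · rintro ⟨g, hg⟩
    refine ⟨e.symm g, (MulAut.congr e).injective ?_⟩
    rw [congr_conj, e.apply_symm_apply, hg]
  · rintro ⟨x, rfl⟩
    exact ⟨e x, (congr_conj e x).symm⟩

theorem congr_isConj {K G : Type*} [Group K] [Group G] (e : K ≃* G) (u v : MulAut K) :
    IsConj (MulAut.congr e u) (MulAut.congr e v) ↔ IsConj u v := by
  constructor
  · intro h
    have := MonoidHom.map_isConj (MulAut.congr e).symm.toMonoidHom h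
    simpa only [MulEquiv.coe_toMonoidHom, MulEquiv.symm_apply_apply] using this
  · exact MonoidHom.map_isConj (MulAut.congr e).toMonoidHom

/-- Let G be a finite group with trivial centre generated by a conjugation-invariant set D of 3-transpositions on which it acts primitively, such that for some d in D the subgroup generated by the members of D other than d commuting with d has central largest normal 2- and 3-subgroups, and suppose G with D is of type M(22). Then G has a non-inner automorphism s of order 2 whose fixed-point subgroup is isomorphic to the full automorphism group of Ω⁺(8, 2) (the commutator subgroup of the isometry group of the hyperbolic quadratic form in dimension 8 over the field with two elements), together with distinct commuting members a, b of D fixed by s such that: s, s composed with conjugation by a, and s composed with conjugation by a b represent the three classes (under the automorphism group) of non-inner automorphisms of order 2; the elements fixed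 by the automorphism s composed with conjugation by a are exactly those fixed by s and commuting with a, and they form a group isomorphic to the direct product of a group of order 2 and the symplectic group of dimension 6 over the field with two elements; and the elements fixed by the automorphism s composed with conjugation by a b form a group whose largest normal 2-subgroup is elementary abelian of order 64 with quotient isomorphic to the full isometry group of the elliptic quadratic form in dimension 6 over the field with two elements. -/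
theorem result {G : Type*} [Group G] [Finite G] {D : Set G} (hD : Cfsg.IsThreeTranspositionGroup D) (hprim : Cfsg.IsPrimitiveUnderConj D) (d₀ : G) (hd₀ : d₀ ∈ D) (h3 : Cfsg.pCore 3 ↥(Subgroup.closure {y : G | y ∈ D ∧ y ≠ d₀ ∧ Commute d₀ y}) ≤ Subgroup.center ↥(Subgroup.closure {y : G | y ∈ D ∧ y ≠ d₀ ∧ Commute d₀ y})) (h2 : Cfsg.pCore 2 ↥(Subgroup.closure {y : G | y ∈ D ∧ y ≠ d₀ ∧ Commute d₀ y}) ≤ Subgroup.center ↥(Subgroup.closure {y : G | y ∈ D ∧ y ≠ d₀ ∧ Commute d₀ y})) (h22 : Cfsg.IsOfTypeM22 G D) : ∃ (s : MulAut G) (a b : G) (Cs : Subgroup G), orderOf s = 2 ∧ s ∉ (MulAut.conj : G →* MulAut G).range ∧ (∀ g : G, g ∈ Cs ↔ s g = g) ∧ Nonempty (↥Cs ≃* MulAut (Cfsg.Omega (ZMod 2) (Cfsg.quadFormPlus 4 (ZMod 2)))) ∧ a ∈ D ∧ b ∈ D ∧ a ≠ b ∧ Commute a b ∧ s a = a ∧ s b = b ∧ (∀ t : MulAut G, orderOf t = 2 → t ∉ (MulAut.conj : G →* MulAut G).range → (IsConj t s ∨ IsConj t (s * MulAut.conj a) ∨ IsConj t (s * MulAut.conj (a * b)))) ∧ ¬ IsConj s (s * MulAut.conj a) ∧ ¬ IsConj s (s * MulAut.conj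 (a * b)) ∧ ¬ IsConj (s * MulAut.conj a) (s * MulAut.conj (a * b)) ∧ (∀ g : G, (s * MulAut.conj a) g = g ↔ g ∈ Cs ⊓ Subgroup.centralizer ({a} : Set G)) ∧ Nonempty (↥(Cs ⊓ Subgroup.centralizer ({a} : Set G)) ≃* Multiplicative (ZMod 2) × Cfsg.PSp 3 (ZMod 2)) ∧ ∃ Csab O : Subgroup G, (∀ g : G, g ∈ Csab ↔ (s * MulAut.conj (a * b)) g = g) ∧ O = (Cfsg.pCore 2 ↥Csab).map Csab.subtype ∧ Cfsg.IsElementaryAbelian 2 O ∧ Nat.card O = 64 ∧ ∃ _ : (O.subgroupOf Csab).Normal, Nonempty (↥Csab ⧸ O.subgroupOf Csab ≃* Cfsg.isometryGroup (ZMod 2) (Cfsg.quadFormMinus 2 (ZMod 2) 1 1)) := by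
  obtain ⟨e, he⟩ := exists_iso hD hprim h22
  have := Fi22Three.finiteK
  set E := MulAut.congr e with hE
  set a := e Fi22Outer.tA with ha
  set b := e Fi22Outer.tB with hb
  have hmemD : ∀ {x}, x ∈ conjugatesOf Fi22Three.ta → e x ∈ D := fun {x} hx => he ▸ ⟨x, hx, rfl⟩
  have hsx : ∀ x, E (Fi22Outer.sK * MulAut.conj x) = E Fi22Outer.sK * MulAut.conj (e x) := fun x => by
    rw [map_mul, congr_conj]
  have hs_app : ∀ x, E Fi22Outer.sK (e x) = e (Fi22Outer.sK x) := fun x => by
    show e (Fi22Outer.sK (e.symm (e x))) = _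
    rw [e.symm_apply_apply]
  have hCa : Fi22Outer.Cs.map (e : Fi22Three.K →* G) ⊓ Subgroup.centralizer ({a} : Set G) =
      Fi22Outer.CA.map (e : Fi22Three.K →* G) := by
    ext g
    obtain ⟨x, rfl⟩ := e.surjective g
    simp only [Subgroup.mem_inf, Subgroup.mem_centralizer_singleton_iff, Subgroup.mem_map,
      MonoidHom.coe_coe, e.injective.eq_iff, exists_eq_right, Fi22Outer.mem_CA, ha, ← map_mul]
    exact Iff.rfl
  refine ⟨E Fi22Outer.sK, a, b, Fi22Outer.Cs.map (e : Fi22Three.K →* G), ?_, ?_,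
    congr_mem e _ _ (fun _ => Iff.rfl), ?_, hmemD Fi22Outer.tA_class, hmemD Fi22Outer.tB_class,
    fun h => Fi22Outer.tA_ne_tB (e.injective h), Fi22Outer.tA_comm_tB.map e, ?_, ?_, ?_, ?_, ?_, ?_, ?_, ?_,
    Fi22Outer.HB.map (e : Fi22Three.K →* G), Fi22Outer.OB.map (e : Fi22Three.K →* G), ?_, ?_, ?_, ?_, ?_⟩
  · rw [MulEquiv.orderOf_eq]; exact Fi22Outer.orderOf_sK
  · rw [congr_range]; exact Fi22Outer.sK_notMem
  · obtain ⟨q⟩ := Fi22Outer.iso_Cs
    exact ⟨(e.subgroupMap _).symm.trans q⟩
  · rw [hs_app, Fi22Outer.sK_tA]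
  · rw [hs_app, Fi22Outer.sK_tB]
  · intro t ht hout
    obtain ⟨u, rfl⟩ := E.surjective t
    rw [MulEquiv.orderOf_eq] at ht
    rw [congr_range] at hout
    rw [ha, hb, ← map_mul e, ← hsx, ← hsx, congr_isConj, congr_isConj, congr_isConj]
    exact Fi22Outer.outer_classes ht hout
  · rw [ha, ← hsx, congr_isConj]; exact Fi22Outer.not_conj.1
  · rw [ha, hb, ← map_mul e, ← hsx, congr_isConj]; exact Fi22Outer.not_conj.2.1
  · rw [ha, hb, ← map_mul e, ← hsx, ← hsx, congr_isConj]; exact Fi22Outer.not_conj.2.2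
  · intro g
    rw [hCa, ha, ← hsx]
    exact (congr_mem e _ _ Fi22Outer.mem_CA_theta g).symm
  · obtain ⟨q⟩ := Fi22Outer.iso_CA
    rw [hCa]
    exact ⟨(e.subgroupMap _).symm.trans q⟩
  · intro g
    rw [ha, hb, ← map_mul e, ← hsx]
    exact congr_mem e _ _ Fi22Outer.mem_HB_theta g
  · rw [Fi22Outer.OB_eq_core, ← CfsgLib.pCore_map_equiv 2 (e.subgroupMap Fi22Outer.HB), Subgroup.map_map,
      Subgroup.map_map]
    rfl
  · refine ⟨⟨⟨?_⟩⟩, ?_⟩
    · rintro ⟨_, x, hx, rfl⟩ ⟨_, y, hy, rfl⟩
      exact Subtype.ext ((show Commute x y from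
        congrArg Subtype.val (Fi22Outer.OB_elementary.1.is_comm.comm ⟨x, hx⟩ ⟨y, hy⟩)).map e).eq
    · rintro _ ⟨x, hx, rfl⟩
      rw [← map_pow, Fi22Outer.OB_elementary.2 x hx, map_one]
  · rw [Subgroup.card_map_of_injective e.injective, Fi22Outer.card_OB]
  · obtain ⟨hN, ⟨q⟩⟩ := Fi22Outer.quot_OB
    haveI := hN
    have himg : (Fi22Outer.OB.subgroupOf Fi22Outer.HB).map (e.subgroupMap Fi22Outer.HB).toMonoidHom =
        (Fi22Outer.OB.map (e : Fi22Three.K →* G)).subgroupOf (Fi22Outer.HB.map (e : Fi22Three.K →* G)) := by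
      ext y
      obtain ⟨x, rfl⟩ := (e.subgroupMap Fi22Outer.HB).surjective y
      rw [Subgroup.mem_map_equiv, MulEquiv.symm_apply_apply, Subgroup.mem_subgroupOf, Subgroup.mem_subgroupOf,
        MulEquiv.coe_subgroupMap_apply]
      exact (Subgroup.mem_map_iff_mem e.injective).symm
    have hN' : ((Fi22Outer.OB.map (e : Fi22Three.K →* G)).subgroupOf
        (Fi22Outer.HB.map (e : Fi22Three.K →* G))).Normal :=
      himg ▸ hN.map _ (e.subgroupMap Fi22Outer.HB).surjective
    haveI := hN'
    exact ⟨hN', ⟨(QuotientGroup.congr _ _ (e.subgroupMap Fi22Outer.HB) himg).symm.trans q⟩⟩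

end Cfsg.Agent.S5472
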