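import Cfsg.Statements.S5473
import Cfsg.Agent.Lib.CosetEnum.Fi22Pair.Main
import Cfsg.Agent.S5469
import Cfsg.Agent.Lib.ThreeTrans.M22.Unique.Iso

set_option autoImplicit false
open Cfsg

namespace Cfsg.Agent.S5473

open CfsgThreeTrans CfsgThreeTrans.M22 CfsgLib.CosetEnum


/-- Let G be a finite group with trivial centre generated by a conjugation-invariant set D of 3-transpositions on which it acts primitively, such that for some d in D the subgroup generated by the members of D other than d commuting with d has central largest normal 2- and 3-subgroups, and suppose G with D is of type M(22), and let A be the automorphism group of G. Let d₁, d₂ be distinct commuting members of D and j the inner automorphism of their product. Then the generalized Fitting subgroup Q of the centralizer of j in A is a large extraspecial 2-subgroup of A of order 2^11 (extraspecial; centralizer equal to its centre; normal in the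 centralizer of its centre; normalizing no non-trivial odd-order subgroup), and the centralizer of j modulo Q is isomorphic to the full automorphism group of the projective special unitary group of dimension 4 over the field with four elements. -/
theorem result {G : Type*} [Group G] [Finite G] {D : Set G} (hD : Cfsg.IsThreeTranspositionGroup D) (hprim : Cfsg.IsPrimitiveUnderConj D) (d₀ : G) (hd₀ : d₀ ∈ D) (h3 : Cfsg.pCore 3 ↥(Subgroup.closure {y : G | y ∈ D ∧ y ≠ d₀ ∧ Commute d₀ y}) ≤ Subgroup.center ↥(Subgroup.closure {y : G | y ∈ D ∧ y ≠ d₀ ∧ Commute d₀ y})) (h2 : Cfsg.pCore 2 ↥(Subgroup.closure {y : G | y ∈ D ∧ y ≠ d₀ ∧ Commute d₀ y}) ≤ Subgroup.center ↥(Subgroup.closure {y : G | y ∈ D ∧ y ≠ d₀ ∧ Commute d₀ y})) (h22 : Cfsg.IsOfTypeM22 G D) (d₁ d₂ : G) (h₁ : d₁ ∈ D) (h₂ : d₂ ∈ D) (hne : d₁ ≠ d₂) (hc : Commute d₁ d₂) (j : MulAut G) (hj : j = MulAut.conj (d₁ * d₂)) (Q : Subgroup (MulAut G)) (hQ : Q = (Cfsg.generalizedFittingSubgroup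 ↥(Subgroup.centralizer ({j} : Set (MulAut G)))).map (Subgroup.centralizer ({j} : Set (MulAut G))).subtype) : Cfsg.IsLargeExtraspecial Q ∧ Nat.card Q = 2 ^ 11 ∧ Q ≤ Subgroup.centralizer ({j} : Set (MulAut G)) ∧ ∃ (_ : (Q.subgroupOf (Subgroup.centralizer ({j} : Set (MulAut G)))).Normal) (F : Type) (_ : Field F) (_ : Fintype F), Fintype.card F = 4 ∧ Nonempty (↥(Subgroup.centralizer ({j} : Set (MulAut G))) ⧸ Q.subgroupOf (Subgroup.centralizer ({j} : Set (MulAut G))) ≃* MulAut (Cfsg.PSU 4 F 2)) := by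
  classical
  have hD' := cls_of_group_prim hD hprim
  obtain ⟨F, iF, iFt, iDec, hF, ⟨A⟩⟩ := exists_data hD' hprim hd₀ h3 h2 h22
  obtain ⟨e, he⟩ := CfsgThreeTrans.M22.Unique.exists_iso hD hprim h22
  have m0 : e (presFi22.σ 0) ∈ D := he ▸ ⟨_, mem_conjugatesOf_self, rfl⟩
  have m6 : e (presFi22.σ 6) ∈ D := he ▸ ⟨_, Fi22Pair.six_mem, rfl⟩
  obtain ⟨g, g1, g2⟩ := conj_base hD' A h₁ (b := d₂) ⟨h₂, hne.symm, hc⟩
  obtain ⟨k, k1, k2⟩ := conj_base hD' A m0 (b := e (presFi22.σ 6))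
    ⟨m6, fun q => Fi22Pair.ne06 (e.injective q).symm, (show Commute _ _ from Fi22Pair.comm06).map e⟩
  set ψ : presFi22.Grp ≃* G := e.trans (MulAut.conj (g * k⁻¹)) with hψ
  have e1 : ψ (presFi22.σ 0) = d₁ := by
    show g * k⁻¹ * e (presFi22.σ 0) * (g * k⁻¹)⁻¹ = d₁
    rw [← g1, ← k1]; group
  have e2 : ψ (presFi22.σ 6) = d₂ := by
    show g * k⁻¹ * e (presFi22.σ 6) * (g * k⁻¹)⁻¹ = d₂
    rw [← g2, ← k2]; group
  have σ1 : ψ Fi22Pair.gS * d₁ * (ψ Fi22Pair.gS)⁻¹ = d₂ := by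
    have h := Fi22Pair.sound (CfsgLib.CosetEnum.Fi22Pair.ltW_append Fi22Pair.lt_sig Fi22Pair.lt0)
      (CfsgLib.CosetEnum.Fi22Pair.ltW_append Fi22Pair.lt6 Fi22Pair.lt_sig) (by
      have := Fi22Pair.swap_ok; rw [Fi22Pair.fSwap, Bool.and_eq_true] at this; exact this.1)
    rw [Fi22Pair.pr_append, Fi22Pair.pr_append, Fi22Pair.pr_one, Fi22Pair.pr_one] at h
    rw [mul_inv_eq_iff_eq_mul, ← e1, ← e2, ← map_mul, ← map_mul]
    exact congrArg ψ h
  have σ2 : ψ Fi22Pair.gS * d₂ * (ψ Fi22Pair.gS)⁻¹ = d₁ := by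
    have h := Fi22Pair.sound (CfsgLib.CosetEnum.Fi22Pair.ltW_append Fi22Pair.lt_sig Fi22Pair.lt6)
      (CfsgLib.CosetEnum.Fi22Pair.ltW_append Fi22Pair.lt0 Fi22Pair.lt_sig) (by
      have := Fi22Pair.swap_ok; rw [Fi22Pair.fSwap, Bool.and_eq_true] at this; exact this.2)
    rw [Fi22Pair.pr_append, Fi22Pair.pr_append, Fi22Pair.pr_one, Fi22Pair.pr_one] at h
    rw [mul_inv_eq_iff_eq_mul, ← e1, ← e2, ← map_mul, ← map_mul]
    exact congrArg ψ h
  have P := Fi22Pair.data ψ (by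
    rw [e1, e2]
    intro x hx
    have q : ∀ {z : G}, z ∈ Subgroup.centralizer ({d₁, d₂} : Set G) ↔ z * d₁ * z⁻¹ = d₁ ∧ z * d₂ * z⁻¹ = d₂ :=
      PairCentraliser.mem_pair
    have e0 := mul_inv_eq_iff_eq_mul.mpr (Subgroup.mem_centralizer_singleton_iff.mp hx)
    rw [show x * (d₁ * d₂) * x⁻¹ = (x * d₁ * x⁻¹) * (x * d₂ * x⁻¹) by group] at e0
    rcases pair_unique hD' (cores_of_prim hD' hprim (has_pair A)).1 (cls_conj hD' x h₁) (cls_conj hD' x h₂) h₁ h₂
      (fun r => hne (cj_injective x r)) hne ((commute_cj_iff x).mpr hc) hc e0 with ⟨q1, q2⟩ | ⟨q1, q2⟩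
    · exact Or.inl (q.mpr ⟨q1, q2⟩)
    · have i1 : (ψ Fi22Pair.gS)⁻¹ * d₂ * ψ Fi22Pair.gS = d₁ := by rw [← σ1]; group
      have i2 : (ψ Fi22Pair.gS)⁻¹ * d₁ * ψ Fi22Pair.gS = d₂ := by rw [← σ2]; group
      refine Or.inr (q.mpr ⟨?_, ?_⟩)
      · rw [show (ψ Fi22Pair.gS)⁻¹ * x * d₁ * ((ψ Fi22Pair.gS)⁻¹ * x)⁻¹ =
          (ψ Fi22Pair.gS)⁻¹ * (x * d₁ * x⁻¹) * ψ Fi22Pair.gS by group, q1, i1]
      · rw [show (ψ Fi22Pair.gS)⁻¹ * x * d₂ * ((ψ Fi22Pair.gS)⁻¹ * x)⁻¹ =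
          (ψ Fi22Pair.gS)⁻¹ * (x * d₂ * x⁻¹) * ψ Fi22Pair.gS by group, q2, i2])
  rw [e1, e2] at P
  obtain ⟨-, -, -, E, -, hEC, -, hEcard, -, hEn, F', iF', iFt', hF', ⟨eq⟩⟩ :=
    Cfsg.Agent.S5469.result hD hprim d₀ hd₀ h3 h2 h22 d₁ d₂ h₁ h₂ hne hc _ _ _ rfl rfl rfl
  have hgood := PairCentraliser.good hD hprim h22 A h₁ (c := d₂) ⟨h₂, hne.symm, hc⟩
  unfold PairCentraliser.GoodPair at hgood
  obtain ⟨χ, hs, hcard, hV, -, -, -⟩ := hgood
  haveI hS1 : IsSimpleGroup (PSU 4 F 2) :=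
    CfsgLib.UnitarySimple.simple (F := F) (q := 2) hF (by norm_num) (by norm_num)
  haveI hS2 : IsSimpleGroup (PSU 4 F' 2) :=
    CfsgLib.UnitarySimple.simple (F := F') (q := 2) (hF'.trans (by norm_num)) (by norm_num) (by norm_num)
  have hc5 : ∀ (K : Type) [Field K] [Fintype K], Fintype.card K = 2 ^ 2 → ¬ IsPGroup 2 (PSU 4 K 2) := by
    intro K _ _ hK hp
    haveI : Fact (Nat.Prime 2) := ⟨Nat.prime_two⟩
    obtain ⟨n, hn⟩ := IsPGroup.iff_card.mp hp
    rw [Parabolic.card_psu4 hK] at hn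
    have h5 : (5 : ℕ) ∣ 2 ^ n := hn ▸ by norm_num
    have := Nat.prime_five.dvd_of_dvd_pow h5
    norm_num at this
  have hfin : ∀ (K : Type) [Field K] [Fintype K], Fintype.card K = 2 ^ 2 → Finite (PSU 4 K 2) := fun K _ _ hK =>
    Nat.finite_of_card_ne_zero (by rw [Parabolic.card_psu4 hK]; norm_num)
  haveI := hfin F hF
  haveI := hfin F' (hF'.trans (by norm_num))
  have hcen : Subgroup.center (PSU 4 F' 2) = ⊥ := by
    refine (Subgroup.center (PSU 4 F' 2)).normal_of_characteristic.eq_bot_or_eq_top.resolve_right fun htop => ?_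
    haveI : Fact (Nat.Prime 5) := ⟨Nat.prime_five⟩
    obtain ⟨x, hx⟩ := exists_prime_orderOf_dvd_card' (G := PSU 4 F' 2) 5
      (by rw [Parabolic.card_psu4 (hF'.trans (by norm_num))]; norm_num)
    have hn : (Subgroup.zpowers x).Normal := ⟨fun a ha g => by
      rw [Subgroup.mem_center_iff.mp (htop ▸ Subgroup.mem_top a : a ∈ Subgroup.center (PSU 4 F' 2)) g,
        mul_inv_cancel_right]
      exact ha⟩
    have hc5' := Nat.card_zpowers x
    rw [hx] at hc5'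
    rcases hn.eq_bot_or_eq_top with q | q <;> rw [q] at hc5'
    · rw [Subgroup.card_bot] at hc5'; norm_num at hc5'
    · rw [Subgroup.card_top, Parabolic.card_psu4 (hF'.trans (by norm_num))] at hc5'; norm_num at hc5'
  subst hj
  obtain ⟨r1, r2, r3, r4, r5⟩ := P.conclusion (S := PSU 4 F 2) (S' := PSU 4 F' 2) (hc5 F hF) hcen χ hs hcard hV E
    hEC hEcard eq Q hQ
  exact ⟨r1, r2, r3, r4, F', iF', iFt', hF', r5⟩

end Cfsg.Agent.S5473
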