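import Cfsg.Statements.S5517
import Cfsg.Agent.Lib.ThreeTrans.M22.Unique.Iso
import Cfsg.Agent.Lib.ThreeTrans.M22.Unique.Model22
import Cfsg.Agent.Lib.CosetEnum.Fi22Class.O73
import Cfsg.Agent.Lib.CosetEnum.Fi14080.Main

set_option autoImplicit false
open Cfsg CfsgLib.CosetEnum

namespace Cfsg.Agent.S5517

/-- Let G be a finite group with trivial centre generated by a conjugation-invariant set D of 3-transpositions on which it acts primitively, such that for some d in D the subgroup generated by the members of D other than d commuting with d has central largest normal 2- and 3-subgroups, and suppose G with D is of type M(22). Then G has a subgroup L generated by the members of D it contains and isomorphic to Ω(7, 3) (the commutator subgroup of the isometry group of a non-degenerate 7-dimensional quadratic form over the field with three elements, modulo its centre), and every Sylow 3-subgroup of L is a Sylow 3-subgroup of G. -/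
theorem result {G : Type*} [Group G] [Finite G] {D : Set G} (hD : Cfsg.IsThreeTranspositionGroup D) (hprim : Cfsg.IsPrimitiveUnderConj D) (d₀ : G) (hd₀ : d₀ ∈ D) (h3 : Cfsg.pCore 3 ↥(Subgroup.closure {y : G | y ∈ D ∧ y ≠ d₀ ∧ Commute d₀ y}) ≤ Subgroup.center ↥(Subgroup.closure {y : G | y ∈ D ∧ y ≠ d₀ ∧ Commute d₀ y})) (h2 : Cfsg.pCore 2 ↥(Subgroup.closure {y : G | y ∈ D ∧ y ≠ d₀ ∧ Commute d₀ y}) ≤ Subgroup.center ↥(Subgroup.closure {y : G | y ∈ D ∧ y ≠ d₀ ∧ Commute d₀ y})) (h22 : Cfsg.IsOfTypeM22 G D) : ∃ L : Subgroup G, Cfsg.IsDSubgroup D L ∧ Nonempty (↥L ≃* Cfsg.POmega (ZMod 3) (Cfsg.quadFormOdd 3 (ZMod 3))) ∧ ∀ P : Sylow 3 ↥L, ∃ P' : Sylow 3 G, (P : Subgroup ↥L).map L.subtype = (P' : Subgroup G) := by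
  obtain ⟨e, he⟩ := CfsgThreeTrans.M22.Unique.exists_iso hD hprim h22
  obtain ⟨iso⟩ := Fi22Class.O73.iso
  set L := Fi14080.cert.sub.map (e : presFi22.Grp →* G) with hL
  refine ⟨L, ?_, ⟨((e.subgroupMap Fi14080.cert.sub).symm).trans iso⟩, fun P => ?_⟩
  · refine le_antisymm (Subgroup.closure_le _ |>.mpr fun d hd => hd.2) ?_
    rw [hL, Subgroup.map_le_iff_le_comap, Cert.sub, Subgroup.closure_le]
    rintro x ⟨w, hw, rfl⟩
    refine Subgroup.subset_closure ⟨?_, ⟨_, Subgroup.subset_closure ⟨w, hw, rfl⟩, rfl⟩⟩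
    obtain ⟨i, hi, rfl⟩ := (by decide : ∀ w ∈ Fi14080.hw, ∃ i < 9, w = [i]) w hw
    rw [← he]
    exact ⟨_, by rw [List.map_cons, List.map_nil, List.prod_singleton]; exact CfsgThreeTrans.M22.Unique.gen_conj i hi, rfl⟩
  · have hid : ∀ i < presFi22.k, presFi22.idx (presFi22.gen i) = i := by decide
    obtain ⟨q, -⟩ := Fi14080.cert.exists_equiv Fi14080.hlt hid Fi14080.hhw
    have hLi : L.index = 14080 := by
      rw [hL, show (e : presFi22.Grp →* G) = e.toMonoidHom from rfl, MulEquiv.toMonoidHom_eq_coe, Subgroup.index_map_equiv]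
      exact index_eq_of_equiv q
    have hK : IsPGroup 3 ((P : Subgroup ↥L).map L.subtype) := P.2.map _
    have hidx : ¬ 3 ∣ ((P : Subgroup ↥L).map L.subtype).index := by
      rw [Subgroup.index_map_subtype, hLi, Nat.prime_three.dvd_mul]
      exact fun h => h.elim (Sylow.not_dvd_index P) (by norm_num)
    exact ⟨hK.toSylow hidx, rfl⟩

end Cfsg.Agent.S5517
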