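import Cfsg.Statements.S5518
import Cfsg.Agent.Lib.CosetEnum.Fi23Ortho.G2
import Cfsg.Agent.Lib.ThreeTrans.M24.OrthoModel
import Cfsg.Agent.Lib.ThreeTrans.M24.ThirteenPair

set_option autoImplicit false
open Cfsg

namespace Cfsg.Agent.S5518

open CfsgLib.CosetEnum

/-- Let G be a finite group with trivial centre generated by a conjugation-invariant set D of 3-transpositions on which it acts primitively, such that for some d in D the subgroup generated by the members of D other than d commuting with d has central largest normal 2- and 3-subgroups, and suppose G with D is of type M(24). Then any two subgroups of order 13 are conjugate; and there are members a, b, c, d of D generating the direct product T of two symmetric groups of degree 3 (a, d non-commuting; b, c non-commuting; b and c commuting with a and d) whose centralizer K is isomorphic to the Chevalley group G₂(3), such that for every subgroup B of K of order 13: the normalizer of B lies in the normalizer of K, the normalizer F of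 B in K is a Frobenius group of order 78 with kernel B (order 78, centralizer of B in it equal to B), and the subgroup generated by F and T has index 2 in the normalizer of B. -/
theorem result {G : Type*} [Group G] [Finite G] {D : Set G} (hD : Cfsg.IsThreeTranspositionGroup D) (hprim : Cfsg.IsPrimitiveUnderConj D) (d₀ : G) (hd₀ : d₀ ∈ D) (h3 : Cfsg.pCore 3 ↥(Subgroup.closure {y : G | y ∈ D ∧ y ≠ d₀ ∧ Commute d₀ y}) ≤ Subgroup.center ↥(Subgroup.closure {y : G | y ∈ D ∧ y ≠ d₀ ∧ Commute d₀ y})) (h2 : Cfsg.pCore 2 ↥(Subgroup.closure {y : G | y ∈ D ∧ y ≠ d₀ ∧ Commute d₀ y}) ≤ Subgroup.center ↥(Subgroup.closure {y : G | y ∈ D ∧ y ≠ d₀ ∧ Commute d₀ y})) (h24 : Cfsg.IsOfTypeM24 G D) : (∀ X Y : Subgroup G, Nat.card X = 13 → Nat.card Y = 13 → ∃ g : G, X.map (MulAut.conj g).toMonoidHom = Y) ∧ ∃ (a b c d : G) (T K : Subgroup G), (∀ x ∈ [a, b, c, d], x ∈ D) ∧ ¬ Commute a d ∧ ¬ Commute b c ∧ Commute a b ∧ Commute a c ∧ Commute d b ∧ Commute d c ∧ T = Subgroup.closure ({a, b, c, d} : Set G) ∧ K = Subgroup.centralizer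 (T : Set G) ∧ Nonempty (↥K ≃* ↥(Cfsg.Lie.chevG2.group (ZMod 3))) ∧ ∀ B : Subgroup G, B ≤ K → Nat.card B = 13 → Subgroup.normalizer ((B : Subgroup G) : Set G) ≤ Subgroup.normalizer ((K : Subgroup G) : Set G) ∧ Nat.card ↥(K ⊓ Subgroup.normalizer ((B : Subgroup G) : Set G)) = 78 ∧ K ⊓ Subgroup.centralizer ((B : Subgroup G) : Set G) = B ∧ (((K ⊓ Subgroup.normalizer ((B : Subgroup G) : Set G)) ⊔ T).subgroupOf (Subgroup.normalizer ((B : Subgroup G) : Set G))).index = 2 := by
  classical
  have hc := CfsgThreeTrans.cls_of_group_prim hD hprim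
  obtain ⟨B⟩ := CfsgThreeTrans.M24.exists_base hc hprim h24
  refine ⟨CfsgThreeTrans.M24.Thirteen.conj_all hc hprim h24.1 B, ?_⟩
  obtain ⟨d, hd, had⟩ := CfsgThreeTrans.exists_noncommute hc hprim.2.1 B.ht
  set C := Subgroup.centralizer ({B.t, d} : Set G) with hC
  obtain ⟨e, he⟩ := CfsgThreeTrans.M24.Ortho.exists_ortho hD hprim h24 B B.ht hd had
  set p := e.symm ⟨Fi23Ortho.gen 0, Fi23Ortho.gen_mem_L (by norm_num)⟩ with hpdef
  set q := e.symm ⟨Fi23Ortho.gen 10, Fi23Ortho.gen_mem_L (by norm_num)⟩ with hqdef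
  have hp : (p : G) ∈ CfsgThreeTrans.Ds D B.t ∩ CfsgThreeTrans.Ds D d :=
    (he p).mpr (by rw [hpdef, e.apply_symm_apply]; exact Fi23Three.dt_mem _)
  have hq : (q : G) ∈ CfsgThreeTrans.Ds D B.t ∩ CfsgThreeTrans.Ds D d :=
    (he q).mpr (by rw [hqdef, e.apply_symm_apply]; exact Fi23Three.dt_mem _)
  have hpq : ¬ Commute (p : G) (q : G) := by
    intro h
    have h' : e p * e q = e q * e p := by
      exact (map_mul e p q).symm.trans ((congrArg e (show p * q = q * p from Subtype.ext h.eq)).trans (map_mul e q p))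
    rw [hpdef, hqdef, e.apply_symm_apply, e.apply_symm_apply] at h'
    have := congrArg Fi23Ortho.pi h'
    rw [map_mul, map_mul, Fi23Ortho.pi_gen (by norm_num), Fi23Ortho.pi_gen (by norm_num)] at this
    revert this
    decide +kernel
  obtain ⟨g2⟩ := Fi23Ortho.iso_g2
  set T := Subgroup.closure ({B.t, (p : G), (q : G), d} : Set G) with hT
  set K := Subgroup.centralizer (T : Set G) with hK
  have hmem : ∀ k : G, k ∈ K ↔ ∀ z ∈ ({B.t, (p : G), (q : G), d} : Set G), z * k = k * z := by
    intro k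
    rw [hK, hT, Subgroup.centralizer_closure, Subgroup.mem_centralizer_iff]
  have hKC : K ≤ C := fun k hk => Subgroup.mem_centralizer_iff.mpr (by
    rintro z (rfl | rfl)
    exacts [(hmem k).mp hk _ (by simp), (hmem k).mp hk _ (by simp)])
  let φ : ↥C →* Fi23Three.K := Fi23Ortho.L.subtype.comp e.toMonoidHom
  have hφ : Function.Injective φ := Subtype.val_injective.comp e.injective
  have hmap : (K.subgroupOf C).map φ =
      Fi23Ortho.L ⊓ Subgroup.centralizer {Fi23Ortho.gen 0, Fi23Ortho.gen 10} := by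
    ext x
    constructor
    · rintro ⟨k, hk, rfl⟩
      refine ⟨(e k).2, Subgroup.mem_centralizer_iff.mpr ?_⟩
      have key : ∀ w : ↥C, (w : G) * k = k * w → φ w * φ k = φ k * φ w := fun w h => by
        rw [← map_mul, ← map_mul, show w * k = k * w from Subtype.ext h]
      have ep : φ p = Fi23Ortho.gen 0 := congrArg Subtype.val (e.apply_symm_apply _)
      have eq' : φ q = Fi23Ortho.gen 10 := congrArg Subtype.val (e.apply_symm_apply _)
      rintro z (rfl | rfl)
      · rw [← ep]; exact key p ((hmem _).mp hk _ (by simp))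
      · rw [← eq']; exact key q ((hmem _).mp hk _ (by simp))
    · rintro ⟨hx, hxc⟩
      refine ⟨e.symm ⟨x, hx⟩, (hmem _).mpr ?_, congrArg Subtype.val (e.apply_symm_apply _)⟩
      have h0 := Subgroup.mem_centralizer_iff.mp hxc (Fi23Ortho.gen 0) (Set.mem_insert _ _)
      have h10 := Subgroup.mem_centralizer_iff.mp hxc (Fi23Ortho.gen 10) (Set.mem_insert_of_mem _ rfl)
      rintro z (rfl | rfl | rfl | rfl)
      · exact Subgroup.mem_centralizer_iff.mp (e.symm ⟨x, hx⟩).2 _ (Set.mem_insert _ _)
      · exact congrArg Subtype.val (show p * e.symm ⟨x, hx⟩ = e.symm ⟨x, hx⟩ * p by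
          rw [hpdef, ← map_mul, ← map_mul]; exact congrArg e.symm (Subtype.ext h0))
      · exact congrArg Subtype.val (show q * e.symm ⟨x, hx⟩ = e.symm ⟨x, hx⟩ * q by
          rw [hqdef, ← map_mul, ← map_mul]; exact congrArg e.symm (Subtype.ext h10))
      · exact Subgroup.mem_centralizer_iff.mp (e.symm ⟨x, hx⟩).2 _ (Set.mem_insert_of_mem _ rfl)
  refine ⟨B.t, p, q, d, T, K, ?_, had, hpq, hp.1.2.2, hq.1.2.2, hp.2.2.2, hq.2.2.2, rfl, rfl, ?_, ?_⟩
  · simp only [List.mem_cons, List.not_mem_nil, or_false]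
    rintro x (rfl | rfl | rfl | rfl)
    exacts [B.ht, hp.1.1, hq.1.1, hd]
  · exact ⟨(((Subgroup.subgroupOfEquivOfLe hKC).symm.trans
      ((K.subgroupOf C).equivMapOfInjective φ hφ)).trans (MulEquiv.subgroupCongr hmap)).trans g2⟩
  · intro X hXK hX
    exact CfsgThreeTrans.M24.Thirteen.pair_level hc hprim h24.1 B B.ht hd had hp hq hpq hX rfl hXK

end Cfsg.Agent.S5518
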