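import Cfsg.Statements.S5521
import Cfsg.Agent.Lib.Golay.Base

set_option autoImplicit false
open Cfsg

namespace Cfsg.Agent.S5521

/-- The Mathieu group M₂₄ in its natural action on the 24 coordinate positions of the binary Golay code has minimal base size exactly 7: every set of at most 6 positions is fixed pointwise by some non-identity element of M₂₄, while some set of 7 positions is fixed pointwise only by the identity. -/
theorem result :
    (∀ B : Finset Cfsg.GolayPt, B.card ≤ 6 → ∃ g ∈ Cfsg.M24, g ≠ 1 ∧ ∀ b ∈ B, g b = b) ∧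
    (∃ B : Finset Cfsg.GolayPt, B.card = 7 ∧ ∀ g ∈ Cfsg.M24, (∀ b ∈ B, g b = b) → g = 1) := by
  refine ⟨fun B hB => CfsgGolay.exists_fixing_six hB, (CfsgGolay.baseL.map CfsgGolay.pt).toFinset, by decide +kernel, fun g hg hfix => ?_⟩
  have h : Nat.card ↥(Cfsg.M24 ⊓ CfsgGolay.fixL (CfsgGolay.baseL.take 7).reverse) = 1 :=
    (CfsgGolay.chain_cards CfsgGolay.genGroup_le le_rfl 7).trans (by rfl)
  have hmem : g ∈ Cfsg.M24 ⊓ CfsgGolay.fixL (CfsgGolay.baseL.take 7).reverse := by
    refine ⟨hg, CfsgGolay.mem_fixL.mpr fun p hp => hfix p (List.mem_toFinset.mpr ?_)⟩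
    exact List.mem_map.mpr ⟨CfsgGolay.idx p, List.mem_of_mem_take (List.mem_reverse.mp hp), CfsgGolay.pt_idx p⟩
  rw [Subgroup.card_eq_one] at h
  rw [h] at hmem
  exact hmem

end Cfsg.Agent.S5521
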