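import Cfsg.Statements.S5541
-- import your own Cfsg.Agent.* helpers here

set_option autoImplicit false
open Cfsg

namespace Cfsg.Agent.S5541

/-- Let ρ be a representation of a group H on a finite-dimensional real vector space U whose only ρ-invariant subspaces are the zero subspace and U, and suppose U carries a non-zero ρ-invariant symmetric bilinear form. Then the following are equivalent: (1) there is a non-zero ρ-equivariant commutative bilinear product on U of which every ρ-equivariant bilinear product is a scalar multiple; (2) there is a non-zero ρ-invariant trilinear form on U that is symmetric under all permutations of its arguments and of which every ρ-invariant trilinear form is a scalar multiple. -/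
theorem result {H : Type*} [Group H] {U : Type*} [AddCommGroup U] [Module ℝ U] [FiniteDimensional ℝ U] (ρ : Representation ℝ H U) (hirr : ∀ W : Submodule ℝ U, (∀ g : H, W.map (ρ g) ≤ W) → W = ⊥ ∨ W = ⊤) (B : LinearMap.BilinForm ℝ U) (hB0 : B ≠ 0) (hBs : ∀ u v, B u v = B v u) (hBi : ∀ (g : H) (u v : U), B (ρ g u) (ρ g v) = B u v) : (∃ m : U →ₗ[ℝ] U →ₗ[ℝ] U, m ≠ 0 ∧ (∀ u v, m u v = m v u) ∧ (∀ (g : H) (u v : U), m (ρ g u) (ρ g v) = ρ g (m u v)) ∧ ∀ m' : U →ₗ[ℝ] U →ₗ[ℝ] U, (∀ (g : H) (u v : U), m' (ρ g u) (ρ g v) = ρ g (m' u v)) → ∃ c : ℝ, m' = c • m) ↔ (∃ t : U →ₗ[ℝ] U →ₗ[ℝ] U →ₗ[ℝ] ℝ, t ≠ 0 ∧ (∀ u v w, t u v w = t v u w ∧ t u v w = t u w v) ∧ (∀ (g : H) (u v w : U), t (ρ g u) (ρ g v) (ρ g w) = t u v w) ∧ ∀ t' : U →ₗ[ℝ] U →ₗ[ℝ] U →ₗ[ℝ] ℝ, (∀ (g : H) (u v w : U), t' (ρ g u) (ρ g v) (ρ g w) = t' u v w) → ∃ c : ℝ, t' = c • t) := by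
  have hnd : B.Nondegenerate := by
    let W : Submodule ℝ U := LinearMap.ker B
    have hW : W = ⊥ ∨ W = ⊤ := hirr W (fun g => by
      rintro _ ⟨u, hu, rfl⟩
      rw [SetLike.mem_coe, LinearMap.mem_ker] at hu
      rw [LinearMap.mem_ker]
      refine LinearMap.ext fun v => ?_
      rw [← (show ρ g (ρ g⁻¹ v) = v by rw [← Module.End.mul_apply, ← map_mul, mul_inv_cancel, map_one, Module.End.one_apply]),
        hBi, hu]
      rfl)
    rcases hW with hW | hW
    · have hl : ∀ u, (∀ v, B u v = 0) → u = 0 := fun u hu =>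
        (Submodule.eq_bot_iff _).mp hW u (LinearMap.ext hu)
      exact ⟨hl, fun v hv => hl v fun u => (hBs v u).trans (hv u)⟩
    · exact absurd (LinearMap.ker_eq_top.mp hW) hB0
  let e : U ≃ₗ[ℝ] Module.Dual ℝ U := B.toDual hnd
  have he : ∀ (f : Module.Dual ℝ U) (w : U), B (e.symm f) w = f w := fun f w =>
    LinearMap.BilinForm.apply_toDual_symm_apply f w
  have hext : ∀ u u' : U, (∀ w, B u w = B u' w) → u = u' := fun u u' h =>
    sub_eq_zero.mp (hnd.1 _ fun w => by rw [map_sub, LinearMap.sub_apply, h, sub_self])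
  let T : (U →ₗ[ℝ] U →ₗ[ℝ] U) → (U →ₗ[ℝ] U →ₗ[ℝ] U →ₗ[ℝ] ℝ) := fun m => m.compr₂ B
  let M : (U →ₗ[ℝ] U →ₗ[ℝ] U →ₗ[ℝ] ℝ) → (U →ₗ[ℝ] U →ₗ[ℝ] U) := fun t => t.compr₂ e.symm.toLinearMap
  have hT : ∀ m u v w, T m u v w = B (m u v) w := fun m u v w => rfl
  have hM : ∀ t u v w, B (M t u v) w = t u v w := fun t u v w => he (t u v) w
  have hTinv : ∀ m : U →ₗ[ℝ] U →ₗ[ℝ] U, (∀ (g : H) (u v : U), m (ρ g u) (ρ g v) = ρ g (m u v)) →
      ∀ (g : H) (u v w : U), T m (ρ g u) (ρ g v) (ρ g w) = T m u v w := fun m hm g u v w => by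
    rw [hT, hT, hm, hBi]
  have hMinv : ∀ t : U →ₗ[ℝ] U →ₗ[ℝ] U →ₗ[ℝ] ℝ, (∀ (g : H) (u v w : U), t (ρ g u) (ρ g v) (ρ g w) = t u v w) →
      ∀ (g : H) (u v : U), M t (ρ g u) (ρ g v) = ρ g (M t u v) := fun t ht g u v => hext _ _ fun w => by
    rw [← (show ρ g (ρ g⁻¹ w) = w by rw [← Module.End.mul_apply, ← map_mul, mul_inv_cancel, map_one, Module.End.one_apply]),
      hBi, hM, hM, ht]
  constructor
  · rintro ⟨m, hm0, hms, hmi, hmu⟩
    have hne : T m ≠ 0 := fun h => hm0 (LinearMap.ext₂ fun u v => hext _ _ fun w => by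
      rw [← hT, h]; simp)
    refine ⟨T m, hne, ?_, hTinv m hmi, fun t' ht' => ?_⟩
    · have h12 : ∀ u v w, T m u v w = T m v u w := fun u v w => by rw [hT, hT, hms]
      let t' : U →ₗ[ℝ] U →ₗ[ℝ] U →ₗ[ℝ] ℝ := LinearMap.lflip.toLinearMap.comp (T m)
      have ht' : ∀ u v w, t' u v w = T m u w v := fun u v w => rfl
      obtain ⟨c, hc⟩ := hmu (M t') (hMinv t' fun g u v w => by rw [ht', ht', hTinv m hmi])
      have hc' : ∀ u v w, T m u w v = c * T m u v w := fun u v w => by
        rw [← ht', ← hM t', hc]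
        simp [hT]
      have hc1 : c = 1 := by
        by_contra hc1
        refine hne (LinearMap.ext₂ fun u v => LinearMap.ext fun w => ?_)
        simp only [LinearMap.zero_apply]
        by_contra hx
        have hcc : c * c = 1 := by
          have h1 := hc' u v w
          rw [hc' u w v, ← mul_assoc] at h1
          exact (mul_eq_right₀ (fun e => hx (by rw [hc' u w v, e, mul_zero]))).mp h1.symm
        have hcn : c = -1 := (mul_self_eq_one_iff.mp hcc).resolve_left hc1
        have e1 := hc' u v w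
        have e2 := h12 u w v
        have e3 := hc' w v u
        have e4 := h12 w v u
        have e5 := hc' v u w
        have e6 := h12 u v w
        have e7 := h12 w u v
        rw [hcn] at e1 e3 e5
        apply hx
        linarith
      intro u v w
      refine ⟨h12 u v w, ?_⟩
      have := hc' u v w
      rw [hc1, one_mul] at this
      exact this.symm
    · obtain ⟨c, hc⟩ := hmu (M t') (hMinv t' ht')
      refine ⟨c, LinearMap.ext₂ fun u v => LinearMap.ext fun w => ?_⟩
      rw [← hM t', hc]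
      simp [hT]
  · rintro ⟨t, ht0, hts, hti, htu⟩
    refine ⟨M t, fun h => ht0 (LinearMap.ext₂ fun u v => LinearMap.ext fun w => ?_), fun u v => hext _ _ fun w => ?_,
      hMinv t hti, fun m' hm' => ?_⟩
    · rw [← hM t, h]; simp
    · rw [hM, hM]; exact (hts u v w).1
    · obtain ⟨c, hc⟩ := htu (T m') (hTinv m' hm')
      refine ⟨c, LinearMap.ext₂ fun u v => hext _ _ fun w => ?_⟩
      rw [← hT, hc]
      simp [hM]

end Cfsg.Agent.S5541
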