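import Cfsg.Statements.S5543
-- import your own Cfsg.Agent.* helpers here

set_option autoImplicit false
open Cfsg

namespace Cfsg.Agent.S5543

open Cfsg.Axial in
theorem eigen_orth {V : Type*} [AddCommGroup V] [Module ℝ V] (mul : V →ₗ[ℝ] V →ₗ[ℝ] V) (B : LinearMap.BilinForm ℝ V)
    (hV : IsMajoranaAmbient mul B) (a : V) {c : ℝ} {u : V} (hu : u ∈ eigen mul a c) {S : Set ℝ} (hc : c ∉ S) {v : V}
    (hv : v ∈ eigenSum mul a S) : B u v = 0 := by
  have hle : eigenSum mul a S ≤ LinearMap.ker (B u) := by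
    refine iSup₂_le fun d hd v hv => ?_
    rw [LinearMap.mem_ker]
    have hu' : mul a u = c • u := Module.End.mem_eigenspace_iff.mp hu
    have hv' : mul a v = d • v := Module.End.mem_eigenspace_iff.mp hv
    have h := hV.2.2.2.1 u a v
    rw [hv', hV.1 u a, hu', map_smul, map_smul, LinearMap.smul_apply, smul_eq_mul, smul_eq_mul] at h
    have : (d - c) * B u v = 0 := by linarith
    exact (mul_eq_zero.mp this).resolve_left (sub_ne_zero.mpr fun e => hc (e ▸ hd))
  exact hle hv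


/-- Let V be a finite-dimensional real vector space with a commutative bilinear product and a positive-definite symmetric bilinear form that associates with the product and satisfies the Norton inequality (the Majorana setting of the definitions). Let X be a group of linear automorphisms of V in which every element squares to the identity, and suppose every non-identity element x of X is a Majorana involution with an axial vector a(x) of squared length 1, such that for any two distinct non-identity x, y the product a(x) ∘ a(y) equals (1/8)(a(x) + a(y) − a(xy)) (the dihedral subalgebra of type 2A whose third axis belongs to the involution xy). Then X has order at most 4. -/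
theorem result {V : Type*} [AddCommGroup V] [Module ℝ V] [FiniteDimensional ℝ V] (mul : V →ₗ[ℝ] V →ₗ[ℝ] V) (B : LinearMap.BilinForm ℝ V) (hV : Cfsg.Axial.IsMajoranaAmbient mul B) (X : Subgroup (V ≃ₗ[ℝ] V)) (hX : ∀ x ∈ X, x * x = 1) (ax : (V ≃ₗ[ℝ] V) → V) (hax : ∀ x ∈ X, x ≠ 1 → Cfsg.Axial.IsMajoranaPair mul B x (ax x)) (h1 : ∀ x ∈ X, x ≠ 1 → B (ax x) (ax x) = 1) (h2A : ∀ x ∈ X, ∀ y ∈ X, x ≠ 1 → y ≠ 1 → x ≠ y → mul (ax x) (ax y) = (1 / 8 : ℝ) • (ax x + ax y - ax (x * y))) : Nat.card ↥X ≤ 4 := by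
  classical
  by_contra hlt
  push Not at hlt
  obtain ⟨hcomm, hsym, hpos, hassoc, hnorton⟩ := id hV
  haveI : Finite ↥X := Nat.finite_of_card_ne_zero (by omega)
  have hmc : ∀ u ∈ X, ∀ v ∈ X, u * v = v * u := by
    intro u hu v hv
    have hu' : u⁻¹ = u := inv_eq_of_mul_eq_one_right (hX u hu)
    have hv' : v⁻¹ = v := inv_eq_of_mul_eq_one_right (hX v hv)
    have huv : (u * v)⁻¹ = u * v := inv_eq_of_mul_eq_one_right (hX _ (mul_mem hu hv))
    rw [mul_inv_rev, hu', hv'] at huv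
    exact huv.symm
  obtain ⟨x, hx, hx1⟩ : ∃ x ∈ X, x ≠ 1 := by
    by_contra hall
    push Not at hall
    rw [(Subgroup.eq_bot_iff_forall X).mpr hall, Subgroup.card_bot] at hlt
    omega
  have hbig : ∀ l : Fin 4 → ↥X, ∃ y : ↥X, ∀ i, y ≠ l i := fun l => by
    by_contra hall
    push Not at hall
    have hs : Function.Surjective l := fun y => by obtain ⟨i, hi⟩ := hall y; exact ⟨i, hi.symm⟩
    have := Nat.card_le_card_of_surjective l hs
    rw [Nat.card_fin] at this
    omega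
  obtain ⟨⟨y, hy⟩, hyn⟩ := hbig ![1, ⟨x, hx⟩, 1, 1]
  have hy1 : y ≠ 1 := fun e => hyn 0 (Subtype.ext e)
  have hyx : y ≠ x := fun e => hyn 1 (Subtype.ext e)
  have hxy : x * y ∈ X := mul_mem hx hy
  obtain ⟨⟨w, hw⟩, hwn⟩ := hbig ![1, ⟨x, hx⟩, ⟨y, hy⟩, ⟨x * y, hxy⟩]
  have hw1 : w ≠ 1 := fun e => hwn 0 (Subtype.ext e)
  have hwx : w ≠ x := fun e => hwn 1 (Subtype.ext e)
  have hwy : w ≠ y := fun e => hwn 2 (Subtype.ext e)
  have hwxy : w ≠ x * y := fun e => hwn 3 (Subtype.ext e)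
  -- simplifications in the elementary abelian group
  have hsq : ∀ u ∈ X, ∀ t, u * (u * t) = t := fun u hu t => by rw [← mul_assoc, hX u hu, one_mul]
  have hne1 : ∀ u ∈ X, ∀ v ∈ X, u ≠ v → u * v ≠ 1 := fun u hu v hv h e =>
    h (mul_right_cancel (b := v) (by rw [e, hX v hv]))
  have hneL : ∀ u ∈ X, ∀ v, v ≠ 1 → u ≠ u * v := fun u _ v h e => h (mul_eq_left.mp e.symm)
  have hneR : ∀ v ∈ X, ∀ u, u ≠ 1 → v ≠ u * v := fun v _ u h e => h (mul_eq_right.mp e.symm)
  -- inner products of two axes are 1/8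
  have hB : ∀ u ∈ X, ∀ v ∈ X, u ≠ 1 → v ≠ 1 → u ≠ v → B (ax u) (ax v) = 1 / 8 := by
    have key : ∀ u ∈ X, ∀ v ∈ X, u ≠ 1 → v ≠ 1 → u ≠ v → 7 * B (ax u) (ax v) + B (ax u) (ax (u * v)) = 1 := by
      intro u hu v hv hu1 hv1 huv
      have h := hassoc (ax u) (ax u) (ax v)
      rw [h2A u hu v hv hu1 hv1 huv, (hax u hu hu1).2.2.1.1.2.1] at h
      simp only [map_smul, map_add, map_sub, smul_eq_mul, h1 u hu hu1] at h
      linarith
    intro u hu v hv hu1 hv1 huv
    have e1 := key u hu v hv hu1 hv1 huv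
    have e2 := key u hu (u * v) (mul_mem hu hv) hu1 (hne1 u hu v hv huv) (hneL u hu v hv1)
    rw [hsq u hu v] at e2
    linarith
  obtain ⟨-, -, hP, -⟩ := hax x hx hx1
  have hfus := hP.1.2.2.2
  set a := ax x with ha
  have hd : ∀ u ∈ X, u ≠ 1 → u ≠ x → ax u - ax (x * u) ∈ Cfsg.Axial.eigen mul a (1 / 4) := by
    intro u hu hu1 hux
    refine Module.End.mem_eigenspace_iff.mpr ?_
    have e1 : mul a (ax u) = (1 / 8 : ℝ) • (a + ax u - ax (x * u)) := h2A x hx u hu hx1 hu1 (Ne.symm hux)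
    have e2 : mul a (ax (x * u)) = (1 / 8 : ℝ) • (a + ax (x * u) - ax u) := by
      have h := h2A x hx (x * u) (mul_mem hx hu) hx1 (hne1 x hx u hu (Ne.symm hux)) (hneL x hx u hu1)
      rwa [hsq x hx u] at h
    rw [map_sub, e1, e2]
    module
  -- three lines through `x`
  have hxyw : x * y * w ∈ X := mul_mem hxy hw
  have hxw : x * w ∈ X := mul_mem hx hw
  have hyw : y * w ∈ X := mul_mem hy hw
  have hyw1 : y * w ≠ 1 := hne1 y hy w hw (Ne.symm hwy)
  have hywx : y * w ≠ x := fun e => hwxy (by rw [← e, mul_assoc, hmc w hw y hy, hsq y hy])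
  have hxyw' : x * (y * w) = x * y * w := (mul_assoc x y w).symm
  have hxy1 : x * y ≠ 1 := hne1 x hx y hy (Ne.symm hyx)
  have hxw1 : x * w ≠ 1 := hne1 x hx w hw (Ne.symm hwx)
  have p1 : mul (ax y) (ax w) = (1 / 8 : ℝ) • (ax y + ax w - ax (y * w)) := h2A y hy w hw hy1 hw1 (Ne.symm hwy)
  have p2 : mul (ax y) (ax (x * w)) = (1 / 8 : ℝ) • (ax y + ax (x * w) - ax (x * (y * w))) := by
    have e : y * (x * w) = x * (y * w) := by rw [← mul_assoc, hmc y hy x hx, mul_assoc]
    rw [h2A y hy (x * w) hxw hy1 hxw1 (fun e' => hwxy (by rw [e', hsq x hx])), e]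
  have p3 : mul (ax (x * y)) (ax w) = (1 / 8 : ℝ) • (ax (x * y) + ax w - ax (x * (y * w))) := by
    rw [h2A (x * y) hxy w hw hxy1 hw1 (Ne.symm hwxy), mul_assoc]
  have p4 : mul (ax (x * y)) (ax (x * w)) = (1 / 8 : ℝ) • (ax (x * y) + ax (x * w) - ax (y * w)) := by
    have e : x * y * (x * w) = y * w := by rw [hmc x hx y hy, mul_assoc, hsq x hx]
    rw [h2A (x * y) hxy (x * w) hxw hxy1 hxw1 (fun e' => hwy (mul_left_cancel e').symm), e]
  have hprod : mul (ax y - ax (x * y)) (ax w - ax (x * w)) = (-(1 / 4) : ℝ) • (ax (y * w) - ax (x * (y * w))) := by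
    rw [map_sub, map_sub, LinearMap.sub_apply, LinearMap.sub_apply, p1, p2, p3, p4]
    module
  have hmem : mul (ax y - ax (x * y)) (ax w - ax (x * w)) ∈
      Cfsg.Axial.eigenSum mul a (Cfsg.Axial.monsterLaw (1 / 4) (1 / 32) (1 / 4 : ℝ) (1 / 4)) :=
    hfus _ (by simp [Cfsg.Axial.majoranaSpectrum]) _ (by simp [Cfsg.Axial.majoranaSpectrum]) _ (hd y hy hy1 hyx) _
      (hd w hw hw1 hwx)
  have hlaw : Cfsg.Axial.monsterLaw (1 / 4) (1 / 32) (1 / 4 : ℝ) (1 / 4) = {1, 0} := by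
    simp only [Cfsg.Axial.monsterLaw]
    norm_num
  rw [hlaw] at hmem
  have h0 := eigen_orth mul B hV a (hd (y * w) hyw hyw1 hywx) (S := {1, 0}) (by norm_num) hmem
  rw [hprod, map_smul, smul_eq_mul] at h0
  have hzero : ax (y * w) - ax (x * (y * w)) = 0 := by
    by_contra hne
    have := hpos _ hne
    linarith
  have hne2 : y * w ≠ x * (y * w) := hneR _ hyw x hx1
  have hxyw1 : x * (y * w) ≠ 1 := hne1 x hx _ hyw (Ne.symm hywx)
  have h8 := hB _ hyw _ (mul_mem hx hyw) hyw1 hxyw1 hne2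
  rw [← sub_eq_zero.mp hzero, h1 _ hyw hyw1] at h8
  norm_num at h8

end Cfsg.Agent.S5543
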