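import Cfsg.Statements.S5545
import Cfsg.Prelude.Def_AxialAlgebras

set_option autoImplicit false
open Cfsg

namespace Cfsg.Agent.S5545

open Cfsg.Axial

variable {V : Type*} [AddCommGroup V] [Module ℝ V]

theorem eigen_orth (mul : V →ₗ[ℝ] V →ₗ[ℝ] V) (B : LinearMap.BilinForm ℝ V) (hV : IsMajoranaAmbient mul B) (a : V)
    {c : ℝ} {u : V} (hu : u ∈ eigen mul a c) {S : Set ℝ} (hc : c ∉ S) {v : V} (hv : v ∈ eigenSum mul a S) :
    B u v = 0 := by
  have hle : eigenSum mul a S ≤ LinearMap.ker (B u) := by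
    refine iSup₂_le fun d hd v hv => ?_
    rw [LinearMap.mem_ker]
    have hu' : mul a u = c • u := Module.End.mem_eigenspace_iff.mp hu
    have hv' : mul a v = d • v := Module.End.mem_eigenspace_iff.mp hv
    have h := hV.2.2.2.1 u a v
    rw [hv', hV.1 u a, hu', map_smul, map_smul, LinearMap.smul_apply, smul_eq_mul, smul_eq_mul] at h
    have : (d - c) * B u v = 0 := by linarith
    exact (mul_eq_zero.mp this).resolve_left (sub_ne_zero.mpr fun e => hc (e ▸ hd))
  exact hle hv

theorem eigenSum_pair (mul : V →ₗ[ℝ] V →ₗ[ℝ] V) (a : V) {S : Set ℝ} {c : ℝ} {v : V} (hc : c ∈ S)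
    (hv : v ∈ eigen mul a c) : v ∈ eigenSum mul a S :=
  (le_iSup₂ (f := fun d (_ : d ∈ S) => eigen mul a d) c hc) hv

/-- An automorphism commuting with a Majorana involution moves its axis to another one of it. -/
theorem pair_map (mul : V →ₗ[ℝ] V →ₗ[ℝ] V) (B : LinearMap.BilinForm ℝ V) (f μ : V ≃ₗ[ℝ] V) (a : V)
    (hf : ∀ u v : V, f (mul u v) = mul (f u) (f v)) (hc : ∀ v, f (μ v) = μ (f v))
    (h : IsMajoranaPair mul B μ a) : IsMajoranaPair mul B μ (f a) := by
  obtain ⟨hm, hB, ⟨⟨ha0, haa, hsum, hlaw⟩, hone⟩, hfix, hneg⟩ := h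
  have he : ∀ (c : ℝ) (v : V), v ∈ eigen mul (f a) c ↔ f.symm v ∈ eigen mul a c := by
    intro c v
    simp only [eigen, Module.End.mem_eigenspace_iff]
    obtain ⟨w, rfl⟩ := f.surjective v
    rw [LinearEquiv.symm_apply_apply, ← hf, ← f.map_smul]
    exact f.injective.eq_iff
  have he' : ∀ c, eigen mul (f a) c = (eigen mul a c).map (f : V →ₗ[ℝ] V) := fun c => by
    ext v
    rw [he, Submodule.mem_map_equiv]
  have hS : ∀ S : Set ℝ, eigenSum mul (f a) S = (eigenSum mul a S).map (f : V →ₗ[ℝ] V) := fun S => by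
    simp only [eigenSum, Submodule.map_iSup, he']
  refine ⟨hm, hB, ⟨⟨fun e => ha0 (f.map_eq_zero_iff.mp e), by rw [← hf, haa], ?_, ?_⟩, ?_⟩, ?_, ?_⟩
  · rw [hS, hsum, Submodule.map_top, LinearEquiv.range]
  · intro c hc' d hd u hu v hv
    rw [he] at hu hv
    have := hlaw c hc' d hd _ hu _ hv
    rw [hS, Submodule.mem_map_equiv]
    have e : f.symm (mul u v) = mul (f.symm u) (f.symm v) := f.injective (by
      rw [hf, LinearEquiv.apply_symm_apply, LinearEquiv.apply_symm_apply, LinearEquiv.apply_symm_apply])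
    rw [e]
    exact this
  · rw [he', hone, Submodule.map_span, Set.image_singleton]
    rfl
  · intro v hv
    rw [hS, Submodule.mem_map_equiv] at hv
    have := hfix _ hv
    show μ v = v
    apply f.symm.injective
    rw [← this]
    apply f.injective
    rw [LinearEquiv.apply_symm_apply]
    show μ v = f (μ (f.symm v))
    rw [hc, LinearEquiv.apply_symm_apply]
  · intro v hv
    rw [he] at hv
    have := hneg _ hv
    show μ v = -v
    have h2 := congrArg f this
    rw [map_neg, LinearEquiv.coe_coe, hc, LinearEquiv.apply_symm_apply] at h2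
    exact h2

/-- The decomposition of an axis with respect to another one fixed by its involution. -/
theorem decomp (mul : V →ₗ[ℝ] V →ₗ[ℝ] V) (B : LinearMap.BilinForm ℝ V) (hV : IsMajoranaAmbient mul B) (μ : V ≃ₗ[ℝ] V)
    (a b : V) (h : IsMajoranaPair mul B μ a) (ha : B a a = 1) (hfix : μ b = b) :
    ∃ u v, mul a u = 0 ∧ mul a v = (1 / 4 : ℝ) • v ∧ u ∈ eigen mul a 0 ∧ v ∈ eigen mul a (1 / 4) ∧
      B a u = 0 ∧ B a v = 0 ∧ B u v = 0 ∧ b = B a b • a + u + v := by
  obtain ⟨hm, hB, ⟨⟨ha0, haa, hsum, hlaw⟩, hone⟩, hfx, hneg⟩ := h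
  have hb : b ∈ eigenSum mul a majoranaSpectrum := hsum ▸ Submodule.mem_top
  rw [eigenSum, majoranaSpectrum, iSup_insert, iSup_insert, iSup_insert, iSup_singleton, Submodule.mem_sup] at hb
  obtain ⟨p, hp, r, hr, rfl⟩ := hb
  rw [Submodule.mem_sup] at hr
  obtain ⟨u, hu, r, hr, rfl⟩ := hr
  rw [Submodule.mem_sup] at hr
  obtain ⟨v, hv, w, hw, rfl⟩ := hr
  have hw0 : w = 0 := by
    have e1 : μ p = p := hfx p (eigenSum_pair mul a (by simp) hp)
    have e2 : μ u = u := hfx u (eigenSum_pair mul a (by simp) hu)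
    have e3 : μ v = v := hfx v (eigenSum_pair mul a (by simp) hv)
    have e4 : μ w = -w := hneg w hw
    rw [map_add, map_add, map_add, e1, e2, e3, e4] at hfix
    have h2 : (2 : ℝ) • w = 0 := by linear_combination (norm := module) -hfix
    exact (smul_eq_zero.mp h2).resolve_left (by norm_num)
  have hau : mul a u = 0 := by
    have := Module.End.mem_eigenspace_iff.mp hu
    rwa [zero_smul] at this
  have hav : mul a v = (1 / 4 : ℝ) • v := Module.End.mem_eigenspace_iff.mp hv
  have hain : a ∈ eigen mul a 1 := by rw [hone]; exact Submodule.mem_span_singleton_self a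
  have o1 : B a u = 0 := eigen_orth mul B hV a hain (S := {0}) (by norm_num) (eigenSum_pair mul a (by simp) hu)
  have o2 : B a v = 0 := eigen_orth mul B hV a hain (S := {1 / 4}) (by norm_num) (eigenSum_pair mul a (by simp) hv)
  have o3 : B u v = 0 := eigen_orth mul B hV a hu (S := {1 / 4}) (by norm_num) (eigenSum_pair mul a (by simp) hv)
  rw [hone, Submodule.mem_span_singleton] at hp
  obtain ⟨k, rfl⟩ := hp
  refine ⟨u, v, hau, hav, hu, hv, o1, o2, o3, ?_⟩
  subst hw0
  rw [add_zero, map_add, map_add, map_smul, ha, o1, o2, smul_eq_mul, mul_one, add_zero, add_zero, ← add_assoc]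

/-- Let V be a finite-dimensional real vector space with a commutative bilinear product and a positive-definite symmetric bilinear form that associates with the product and satisfies the Norton inequality (the Majorana setting of the definitions). -/
theorem result {V : Type*} [AddCommGroup V] [Module ℝ V] [FiniteDimensional ℝ V] (mul : V →ₗ[ℝ] V →ₗ[ℝ] V) (B : LinearMap.BilinForm ℝ V) (hV : Cfsg.Axial.IsMajoranaAmbient mul B) (μ₀ μ₁ : V ≃ₗ[ℝ] V) (a₀ a₁ : V) (h₀ : Cfsg.Axial.IsMajoranaPair mul B μ₀ a₀) (h₁ : Cfsg.Axial.IsMajoranaPair mul B μ₁ a₁) (hu₀ : ∀ a : V, Cfsg.Axial.IsMajoranaPair mul B μ₀ a → a = a₀) (hu₁ : ∀ a : V, Cfsg.Axial.IsMajoranaPair mul B μ₁ a → a = a₁) (hn₀ : B a₀ a₀ = 1) (hn₁ : B a₁ a₁ = 1) (hc : μ₀ * μ₁ = μ₁ * μ₀) (hne : a₀ ≠ a₁) : (B a₀ a₁ = 0 ∧ mul a₀ a₁ = 0) ∨ (B a₀ a₁ = 1 / 8 ∧ mul (a₀ + a₁ - (8 : ℝ) • mul a₀ a₁) (a₀ + a₁ - (8 : ℝ) • mul a₀ a₁) = a₀ + a₁ - (8 : ℝ) • mul a₀ a₁ ∧ mul a₀ (a₀ + a₁ - (8 : ℝ) • mul a₀ a₁) = (1 / 8 : ℝ) • (a₀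 + (a₀ + a₁ - (8 : ℝ) • mul a₀ a₁) - a₁) ∧ mul a₁ (a₀ + a₁ - (8 : ℝ) • mul a₀ a₁) = (1 / 8 : ℝ) • (a₁ + (a₀ + a₁ - (8 : ℝ) • mul a₀ a₁) - a₀)) := by
  obtain ⟨hcomm, hsym, hpos, hassoc, -⟩ := id hV
  have hcm : ∀ v, μ₀ (μ₁ v) = μ₁ (μ₀ v) := fun v => LinearEquiv.congr_fun hc v
  have hfix1 : μ₀ a₁ = a₁ := hu₁ _ (pair_map mul B μ₀ μ₁ a₁ h₀.1 hcm h₁)
  have hfix0 : μ₁ a₀ = a₀ := hu₀ _ (pair_map mul B μ₁ μ₀ a₀ h₁.1 (fun v => (hcm v).symm) h₀)
  obtain ⟨u, v, hau, hav, hu, hv, o1, o2, o3, hb⟩ := decomp mul B hV μ₀ a₀ a₁ h₀ hn₀ hfix1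
  obtain ⟨u', v', hbu', hbv', -, -, -, -, -, hb'⟩ := decomp mul B hV μ₁ a₁ a₀ h₁ hn₁ hfix0
  rw [hsym a₁ a₀] at hb'
  obtain ⟨-, -, ⟨⟨-, haa, -, hlaw⟩, hone⟩, -, -⟩ := h₀
  have hbb : mul a₁ a₁ = a₁ := h₁.2.2.1.1.2.1
  clear hfix0 hfix1 hu₀ hu₁ hcm hc h₁
  set a := a₀ with hadef
  set b := a₁ with hbdef
  set c := B a b with hcdef
  have hua : mul u a = 0 := by rw [hcomm, hau]
  have hva : mul v a = (1 / 4 : ℝ) • v := by rw [hcomm, hav]
  have hvu : mul v u = mul u v := hcomm v u
  have hab : mul a b = c • a + (1 / 4 : ℝ) • v := by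
    rw [hb, map_add, map_add, map_smul, haa, hau, hav, add_zero]
  have hain : a ∈ eigen mul a 1 := by rw [hone]; exact Submodule.mem_span_singleton_self a
  have hS : ({1, 0} : Set ℝ) = monsterLaw (1 / 4) (1 / 32) (1 / 4 : ℝ) (1 / 4) := by
    simp only [monsterLaw]; norm_num
  have h00 : ({0} : Set ℝ) = monsterLaw (1 / 4) (1 / 32) (0 : ℝ) 0 := by
    simp only [monsterLaw]; norm_num
  have h04 : ({1 / 4} : Set ℝ) = monsterLaw (1 / 4) (1 / 32) (0 : ℝ) (1 / 4) := by
    simp only [monsterLaw]; norm_num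
  have hvv : mul v v ∈ eigenSum mul a {1, 0} :=
    hS ▸ hlaw _ (by simp [majoranaSpectrum]) _ (by simp [majoranaSpectrum]) v hv v hv
  have huu : mul u u ∈ eigenSum mul a {1, 0} := by
    have h : mul u u ∈ eigenSum mul a {0} :=
      h00 ▸ hlaw _ (by simp [majoranaSpectrum]) _ (by simp [majoranaSpectrum]) u hu u hu
    exact (biSup_mono (fun d hd => by simp at hd; simp [hd]) : eigenSum mul a {0} ≤ _) h
  have huv : mul u v ∈ eigen mul a (1 / 4) := by
    have h : mul u v ∈ eigenSum mul a {1 / 4} :=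
      h04 ▸ hlaw _ (by simp [majoranaSpectrum]) _ (by simp [majoranaSpectrum]) u hu v hv
    rwa [eigenSum, iSup_singleton] at h
  have hsep : ∀ x y : V, x ∈ eigenSum mul a {1, 0} → y ∈ eigen mul a (1 / 4) → x + y = 0 → x = 0 ∧ y = 0 := by
    intro x y hx hy hxy
    have e : x = -y := eq_neg_of_add_eq_zero_left hxy
    have h0 := eigen_orth mul B hV a hy (S := {1, 0}) (by norm_num) hx
    rw [e, map_neg, neg_eq_zero] at h0
    have hy0 : y = 0 := by
      by_contra hne
      exact absurd (hpos y hne) (by rw [h0]; exact lt_irrefl 0)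
    exact ⟨by rw [e, hy0, neg_zero], hy0⟩
  have hb2 : mul b b = (c * c) • a + mul u u + mul v v + (c / 2) • v + (2 : ℝ) • mul u v := by
    rw [hb]
    simp only [map_add, map_smul, LinearMap.add_apply, LinearMap.smul_apply, haa, hau, hav, hua, hva, hvu]
    module
  rw [hbb] at hb2
  have hsum10 : ∀ s t : ℝ, s • a + t • u ∈ eigenSum mul a {1, 0} := fun s t =>
    add_mem (Submodule.smul_mem _ _ (eigenSum_pair mul a (by simp) hain))
      (Submodule.smul_mem _ _ (eigenSum_pair mul a (by simp) hu))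
  obtain ⟨he0, he1⟩ := hsep ((c * c - c) • a + (-1 : ℝ) • u + mul u u + mul v v)
    ((c / 2 - 1) • v + (2 : ℝ) • mul u v) (add_mem (add_mem (hsum10 _ _) huu) hvv)
    (add_mem (Submodule.smul_mem _ _ hv) (Submodule.smul_mem _ _ huv)) (by
      have e : b = c • a + u + v := hb
      linear_combination (norm := module) hb2.symm + e)
  have huv' : mul u v = ((1 : ℝ) / 2 - c / 4) • v := by
    linear_combination (norm := module) ((1 : ℝ) / 2) • he1
  -- `b` on the `1/4` part of `a`
  have hbv : mul b v = (1 / 2 : ℝ) • v + mul v v := by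
    rw [hb]
    simp only [map_add, map_smul, LinearMap.add_apply, LinearMap.smul_apply, hav, huv']
    module
  have hv' : v' = (4 * c) • a + v - (4 * c) • b := by
    have e1 : mul b a = c • b + (1 / 4 : ℝ) • v' := by
      have h := congrArg (mul b) hb'
      rw [map_add, map_add, map_smul, hbb, hbu', hbv', add_zero] at h
      exact h
    rw [hcomm b a, hab] at e1
    linear_combination (norm := module) (-4 : ℝ) • e1
  have hrel : ((4 * c) * c) • a + (c) • v - (4 * c) • b + ((1 / 2 : ℝ) • v + mul v v) = (1 / 4 : ℝ) • v' := by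
    rw [← hbv', hv', map_sub, map_add, map_smul, map_smul, hbb, hbv, hcomm b a, hab]
    module
  rw [hv'] at hrel
  obtain ⟨he2, he3⟩ := hsep ((-(c - c * c)) • a + (-3 * c) • u + mul v v) ((1 / 4 - 2 * c) • v)
    (add_mem (hsum10 _ _) hvv) (Submodule.smul_mem _ _ hv) (by
      have e : b = c • a + u + v := hb
      linear_combination (norm := module) hrel + (3 * c) • e)
  have hBvv : B a (mul v v) = (1 / 4) * B v v := by
    rw [hassoc, hav, map_smul, LinearMap.smul_apply, smul_eq_mul]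
  have hBeq : (c - c * c) = (1 / 4) * B v v := by
    have h := congrArg (B a) he2
    simp only [map_add, map_smul, smul_eq_mul, hn₀, o1, hBvv, map_zero] at h
    linarith
  by_cases hv0 : v = 0
  · have hcc : c = 0 := by
      have h : c * (1 - c) = 0 := by
        rw [hv0] at hBeq
        simp at hBeq
        linarith
      rcases mul_eq_zero.mp h with h | h
      · exact h
      · exfalso
        have hc1 : c = 1 := by linarith
        have huu0 : B u u = 0 := by
          have h1 := hn₁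
          rw [hb, hv0, hc1] at h1
          simp [hn₀, o1, hsym u a] at h1
          exact h1
        have hu0 : u = 0 := by
          by_contra hne'
          exact absurd (hpos u hne') (by rw [huu0]; exact lt_irrefl 0)
        exact hne (by rw [hb, hv0, hu0, hc1]; simp)
    left
    exact ⟨hcc, by rw [hab, hcc, hv0]; simp⟩
  · have hc8 : c = 1 / 8 := by
      rcases smul_eq_zero.mp he3 with h | h
      · linarith
      · exact absurd h hv0
    right
    have hvv' : mul v v = (c - c * c) • a + (3 * c) • u := by linear_combination (norm := module) he2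
    have huu' : mul u u = (1 - 3 * c) • u := by
      linear_combination (norm := module) he0 - he2
    refine ⟨hc8, ?_, ?_, ?_⟩
    all_goals
      rw [hab, hb]
      simp only [map_add, map_sub, map_smul, LinearMap.add_apply, LinearMap.sub_apply, LinearMap.smul_apply, haa, hau,
        hav, hua, hva, hvu, huu', huv', hvv']
      rw [hc8]
      module

end Cfsg.Agent.S5545
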