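import Cfsg.Statements.S5553
import Cfsg.Agent.Lib.Leech.Index

set_option autoImplicit false
open Cfsg

namespace Cfsg.Agent.S5553

/-- The Leech lattice of the definitions has an additive subgroup A containing twice the lattice, of index 2^12 in the lattice, all of whose vectors have squared length divisible by 32: the invariant quadratic form 'squared length over 16 modulo 2' on the lattice modulo twice the lattice (a 24-dimensional space over the field with two elements) vanishes on a 12-dimensional subspace, so it is of plus type. -/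
theorem result : ∃ A : AddSubgroup (Cfsg.GolayPt → ℤ), A ≤ Cfsg.leechLattice ∧ (∀ v ∈ Cfsg.leechLattice, (2 : ℤ) • v ∈ A) ∧ (A.addSubgroupOf Cfsg.leechLattice).index = 2 ^ 12 ∧ ∀ v ∈ A, (32 : ℤ) ∣ Cfsg.sqNorm v := by
  refine ⟨CfsgLeech.leechA, fun x hx => hx.1, fun v hv => ?_, ?_, fun v hv => CfsgLeech.leechA_norm hv⟩
  · refine ⟨zsmul_mem hv 2, fun i => ⟨v i, by simp⟩, fun i j => ?_⟩
    obtain ⟨e, c, y, -, -, hxy, -⟩ := (CfsgLeech.mem_leech.mp hv).normal
    simp only [Pi.smul_apply, smul_eq_mul, hxy]
    omega
  · have h := AddSubgroup.relIndex_mul_index (H := CfsgLeech.leechA) (K := Cfsg.leechLattice) (fun x hx => hx.1)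
    rw [CfsgLeech.leechA_index, CfsgLeech.leech_index] at h
    refine Nat.eq_of_mul_eq_mul_right (show 0 < 2 ^ 36 by norm_num) (h.trans ?_)
    rw [← pow_add]

end Cfsg.Agent.S5553
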