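import Cfsg.Statements.S5565
import Cfsg.Agent.Lib.JankoFour.Three

set_option autoImplicit false
open Cfsg

namespace Cfsg.Agent.S5565

/-- Let G be a finite non-abelian simple group of Janko-four type (an involution z whose centralizer H has an extraspecial largest normal 2-subgroup E of order 2^13 containing its centralizer in H, a normal subgroup N ≥ E of H with N/E of order 3 and H/N the automorphism group of M₂₂, and a subgroup P ≤ N of order 3 with C_E(P) = ⟨z⟩, N_H(P) ≠ C_H(P) and P ≤ C_H(P)′). Then a Sylow 3-subgroup R of G contained in H is extraspecial of order 27 and exponent 3, its normalizer in G lies in H, and that normalizer has order 864. -/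
theorem result {G : Type*} [Group G] [Finite G] [IsSimpleGroup G] (hG : ¬ IsMulCommutative G) (z : G) (hJ : Cfsg.IsOfJankoFourTypeAt z) (R : Sylow 3 G) (hR : (R : Subgroup G) ≤ Subgroup.centralizer ({z} : Set G)) :
    Cfsg.IsExtraspecial 3 ↥(R : Subgroup G) ∧ Nat.card ↥(R : Subgroup G) = 27 ∧ Monoid.exponent ↥(R : Subgroup G) = 3 ∧
    Subgroup.normalizer ((R : Subgroup G) : Set G) ≤ Subgroup.centralizer ({z} : Set G) ∧ Nat.card ↥(Subgroup.normalizer ((R : Subgroup G) : Set G)) = 864 := by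
  classical
  haveI : Fact (Nat.Prime 3) := ⟨Nat.prime_three⟩
  obtain ⟨P, hJ⟩ := hJ
  obtain ⟨c⟩ := CfsgLib.JankoFour.ctx_of_type hJ
  have hinv := CfsgLib.JankoFour.hinv_of_type hJ
  obtain ⟨B, S, h⟩ := c.exists_nineSyl
  obtain ⟨T, hT⟩ := h.sylow hG hinv
  obtain ⟨k, hk⟩ := MulAction.exists_smul_eq G T R
  set φ := (MulAut.conj k) with hφ
  have hR' : (R : Subgroup G) = S.map φ.toMonoidHom := by
    rw [← hk, ← hT, Sylow.coe_subgroup_smul, Subgroup.pointwise_smul_def]; rfl
  have hkH : k ∈ Subgroup.centralizer ({z} : Set G) := h.in_H hG hinv fun x hx =>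
    Subgroup.mem_centralizer_singleton_iff.mp (hR (hR'.symm ▸ ⟨x, hx, rfl⟩))
  let e : ↥S ≃* ↥(R : Subgroup G) := (φ.subgroupMap S).trans (MulEquiv.subgroupCongr hR'.symm)
  have hcard : Nat.card ↥(R : Subgroup G) = 27 := by rw [← Nat.card_congr e.toEquiv, h.card]
  have hex : ∀ x : ↥(R : Subgroup G), x ^ 3 = 1 := fun x => by
    obtain ⟨y, rfl⟩ := e.surjective x
    rw [← map_pow, show y ^ 3 = 1 from Subtype.ext (h.cube y y.2), map_one]
  have hN : Subgroup.normalizer ((R : Subgroup G) : Set G) =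
      (Subgroup.normalizer (S : Set G)).map φ.toMonoidHom := by
    rw [hR']; exact (Subgroup.map_equiv_normalizer_eq S φ).symm
  refine ⟨?_, hcard, ?_, ?_, ?_⟩
  · refine (Cfsg.EssentialSmall.extraspecial_cube (p := 3) (by rw [hcard]; norm_num) fun hab => ?_).1
    obtain ⟨a, ha, b, hb, hne⟩ := h.nab
    refine hne (congrArg Subtype.val (e.injective (a₁ := (⟨a, ha⟩ * ⟨b, hb⟩ : S)) (a₂ := ⟨b, hb⟩ * ⟨a, ha⟩) ?_))
    rw [map_mul, map_mul]; exact hab _ _
  · refine (Nat.prime_three.eq_one_or_self_of_dvd _ (Monoid.exponent_dvd_of_forall_pow_eq_one hex)).resolve_left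
      fun h1 => ?_
    haveI := Monoid.exp_eq_one_iff.mp h1
    rw [Nat.card_of_subsingleton (1 : ↥(R : Subgroup G))] at hcard
    norm_num at hcard
  · rw [hN]
    rintro _ ⟨n, hn, rfl⟩
    have hnH := c.norm_P hG hinv (h.norm_le hn)
    exact mul_mem (mul_mem hkH hnH) (inv_mem hkH)
  · rw [hN, Subgroup.card_map_of_injective φ.injective]
    exact h.card_norm hG hinv

end Cfsg.Agent.S5565
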