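import Cfsg.Statements.S5566
import Cfsg.Agent.Lib.JankoFour.TwoEleven

set_option autoImplicit false
open Cfsg

namespace Cfsg.Agent.S5566

/-- Let G be a finite non-abelian simple group of Janko-four type (an involution z whose centralizer H has an extraspecial largest normal 2-subgroup E of order 2^13 containing its centralizer in H, a normal subgroup N ≥ E of H with N/E of order 3 and H/N the automorphism group of M₂₂, and a subgroup P ≤ N of order 3 with C_E(P) = ⟨z⟩, N_H(P) ≠ C_H(P) and P ≤ C_H(P)′). Then a Sylow 2-subgroup of G has exactly one elementary abelian subgroup of order 2^11. -/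
theorem result {G : Type*} [Group G] [Finite G] [IsSimpleGroup G] (hG : ¬ IsMulCommutative G) (hJ : Cfsg.IsOfJankoFourType G) (T : Sylow 2 G) :
    ∃! V : Subgroup G, V ≤ (T : Subgroup G) ∧ Cfsg.IsElementaryAbelian 2 V ∧ Nat.card ↥V = 2 ^ 11 := by
  classical
  haveI : Fact (Nat.Prime 2) := ⟨Nat.prime_two⟩
  obtain ⟨z, P, hJ⟩ := hJ
  obtain ⟨c⟩ := CfsgLib.JankoFour.ctx_of_type hJ
  obtain ⟨T₀, hT₀, hET₀⟩ := c.exists_sylow
  obtain ⟨V, ⟨hV, hel, hcard⟩, huniq⟩ := c.unique_two_eleven T₀ hT₀ hET₀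
  obtain ⟨g, rfl⟩ := MulAction.exists_smul_eq G T₀ T
  set φ := MulAut.conj g with hφ
  have hT : ((g • T₀ : Sylow 2 G) : Subgroup G) = (T₀ : Subgroup G).map φ.toMonoidHom := by
    rw [Sylow.coe_subgroup_smul, Subgroup.pointwise_smul_def]; rfl
  rw [hT]
  refine ⟨V.map φ.toMonoidHom, ⟨Subgroup.map_mono hV, ⟨haveI := hel.1; Subgroup.map_isMulCommutative V _, ?_⟩,
    by rw [Subgroup.card_map_of_injective φ.injective, hcard]⟩, ?_⟩
  · rintro _ ⟨a, ha, rfl⟩
    rw [← map_pow, hel.2 a ha, map_one]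
  · rintro W ⟨hW, hWel, hWc⟩
    have h := huniq (W.map φ.symm.toMonoidHom) ⟨?_, ⟨haveI := hWel.1; Subgroup.map_isMulCommutative W _, ?_⟩,
      by rw [Subgroup.card_map_of_injective φ.symm.injective, hWc]⟩
    · rw [← h]
      ext x
      constructor
      · intro hx; exact ⟨φ.symm x, ⟨x, hx, rfl⟩, φ.apply_symm_apply x⟩
      · rintro ⟨_, ⟨w, hw, rfl⟩, rfl⟩
        simpa using hw
    · rintro _ ⟨w, hw, rfl⟩
      obtain ⟨t, ht, rfl⟩ := hW hw
      show φ.symm (φ t) ∈ (T₀ : Subgroup G); rw [φ.symm_apply_apply]; exact ht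
    · rintro _ ⟨a, ha, rfl⟩
      rw [← map_pow, hWel.2 a ha, map_one]

end Cfsg.Agent.S5566
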