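import Cfsg.Statements.S5568
import Cfsg.Agent.Lib.JankoFour.OrbCent
import Cfsg.Agent.Lib.JankoFour.CenCenter

set_option autoImplicit false
open Cfsg

namespace Cfsg.Agent.S5568

/-- Let G be a finite non-abelian simple group of Janko-four type (an involution z whose centralizer H has an extraspecial largest normal 2-subgroup E of order 2^13 containing its centralizer in H, a normal subgroup N ≥ E of H with N/E of order 3 and H/N the automorphism group of M₂₂, and a subgroup P ≤ N of order 3 with C_E(P) = ⟨z⟩, N_H(P) ≠ C_H(P) and P ≤ C_H(P)′). Let V be an elementary abelian subgroup of G of order 2^11. Then under conjugation by the normalizer of V the non-identity elements of V fall into an orbit of length 1771 consisting of conjugates of z and an orbit of length 276 consisting of involutions t not conjugate to z, and for such t the centralizer of t in G lies in the normalizer of V. -/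
theorem result {G : Type*} [Group G] [Finite G] [IsSimpleGroup G] (hG : ¬ IsMulCommutative G) (z : G) (hJ : Cfsg.IsOfJankoFourTypeAt z) (V : Subgroup G) (hV : Cfsg.IsElementaryAbelian 2 V) (hcard : Nat.card ↥V = 2 ^ 11) :
    ∃ z' t : G, z' ∈ V ∧ t ∈ V ∧ t ≠ 1 ∧ IsConj z z' ∧ ¬ IsConj z t ∧
    Set.ncard {v : G | ∃ n ∈ Subgroup.normalizer (V : Set G), n * z' * n⁻¹ = v} = 1771 ∧
    Set.ncard {v : G | ∃ n ∈ Subgroup.normalizer (V : Set G), n * t * n⁻¹ = v} = 276 ∧
    Subgroup.centralizer ({t} : Set G) ≤ Subgroup.normalizer (V : Set G) := by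
  obtain ⟨P, hJ'⟩ := hJ
  obtain ⟨c⟩ := CfsgLib.JankoFour.ctx_of_type hJ'
  obtain ⟨A, o⟩ := c.exists_orb hG (CfsgLib.JankoFour.hinv_of_type hJ')
  obtain ⟨g, hg⟩ := c.two_eleven_conj o.hA.1 hV hcard
  set V0 := c.vGrp A o.hA.1.1 with hV0
  have hgV : CfsgLib.JankoFour.conjSub V0 g = V := hg
  obtain ⟨a, ha, -, -, -, -, a1, -⟩ := CfsgLib.JankoFour.Ctx.exists_three o.hA.1.2.1
  obtain ⟨y, hy, hyZ, -, hny⟩ := o.exists_lift ha a1
  have hyT : y ∈ c.Tset V0 := ⟨Subgroup.mem_sup_right hy, fun h => hyZ (h ▸ one_mem _), hny⟩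
  have hin : ∀ x, x ∈ V0 → g * x * g⁻¹ ∈ V := fun x hx =>
    hgV.le (CfsgLib.JankoFour.mem_conjSub.mpr (by rwa [show g⁻¹ * (g * x * g⁻¹) * g = x by group]))
  have hup : ∀ n ∈ Subgroup.normalizer (V0 : Set G), g * n * g⁻¹ ∈ Subgroup.normalizer (V : Set G) := fun n hn =>
    hgV ▸ CfsgLib.JankoFour.norm_conjSub (by rwa [show g⁻¹ * (g * n * g⁻¹) * g = n by group])
  have hdown : ∀ n ∈ Subgroup.normalizer (V : Set G), g⁻¹ * n * g ∈ Subgroup.normalizer (V0 : Set G) := by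
    intro n hn
    refine CfsgLib.JankoFour.mem_norm_of fun x hx => ?_
    have h := CfsgLib.JankoFour.mem_conjSub.mp
      (hgV.ge ((Subgroup.mem_normalizer_iff.mp hn _).mp (hin x hx)))
    rwa [show g⁻¹ * (n * (g * x * g⁻¹) * n⁻¹) * g = g⁻¹ * n * g * x * (g⁻¹ * n * g)⁻¹ by group] at h
  have horb : ∀ (x : G) (S : Set G), (∀ v, v ∈ S ↔ ∃ n ∈ Subgroup.normalizer (V0 : Set G), n * x * n⁻¹ = v) →
      Set.ncard {v : G | ∃ n ∈ Subgroup.normalizer (V : Set G), n * (g * x * g⁻¹) * n⁻¹ = v} = S.ncard := by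
    intro x S hS
    rw [← Set.ncard_image_of_injective S (MulAut.conj g).injective]
    congr 1
    ext v
    constructor
    · rintro ⟨n, hn, rfl⟩
      refine ⟨_, (hS _).mpr ⟨_, hdown n hn, rfl⟩, ?_⟩
      show g * (g⁻¹ * n * g * x * (g⁻¹ * n * g)⁻¹) * g⁻¹ = _
      group
    · rintro ⟨w, hw, rfl⟩
      obtain ⟨n, hn, rfl⟩ := (hS w).mp hw
      refine ⟨_, hup n hn, ?_⟩
      show g * n * g⁻¹ * (g * x * g⁻¹) * (g * n * g⁻¹)⁻¹ = g * (n * x * n⁻¹) * g⁻¹
      group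
  refine ⟨g * z * g⁻¹, g * y * g⁻¹, hin z o.z_mem, hin y hyT.1, fun h => hyT.2.1 (conj_eq_one_iff.mp h),
    isConj_iff.mpr ⟨g, rfl⟩, fun h => hny ((c.isZ_iff g y).mp (isConj_iff.mp h)), ?_, ?_, ?_⟩
  · rw [horb z (c.Oset V0) fun v => ⟨fun hv => ?_, ?_⟩]
    · exact o.cardO
    · obtain ⟨n, hn, e⟩ := c.weak_closure o.hA.1 hv.1 hv.2
      exact ⟨n, hn, e⟩
    · rintro ⟨n, hn, rfl⟩
      exact c.norm_O hn ⟨o.z_mem, c.isZ_z⟩
  · rw [horb y (c.Tset V0) fun v => ⟨fun hv => ?_, ?_⟩]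
    · exact o.cardT
    · obtain ⟨n, hn, e⟩ := o.T_to hv hy hyZ hny
      exact ⟨n⁻¹, inv_mem hn, by rw [← e]; group⟩
    · rintro ⟨n, hn, rfl⟩
      exact c.norm_T hn hyT
  · intro x hx
    have h : g⁻¹ * x * g ∈ Subgroup.centralizer ({y} : Set G) := Subgroup.mem_centralizer_singleton_iff.mpr (by
      calc g⁻¹ * x * g * y = g⁻¹ * (x * (g * y * g⁻¹)) * g := by group
        _ = y * (g⁻¹ * x * g) := by rw [Subgroup.mem_centralizer_singleton_iff.mp hx]; group)
    have h2 := hup _ (o.cent_T hyT h)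
    rwa [show g * (g⁻¹ * x * g) * g⁻¹ = x by group] at h2

end Cfsg.Agent.S5568
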