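import Cfsg.Statements.S5571
import Cfsg.Agent.Lib.JankoFour.TenOrbit
import Cfsg.Agent.Lib.JankoFour.FiveOuter

set_option autoImplicit false
open Cfsg

namespace Cfsg.Agent.S5571

theorem result {G : Type*} [Group G] [Finite G] [IsSimpleGroup G] (hG : ¬ IsMulCommutative G) (hJ : Cfsg.IsOfJankoFourType G) (A : Subgroup G) (hA : Cfsg.IsElementaryAbelian 2 A) (hcard : Nat.card ↥A = 2 ^ 10) (hself : Subgroup.centralizer (A : Set G) = A) :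
    ∃ a b : G, a ∈ A ∧ b ∈ A ∧ Set.ncard {v : G | ∃ n ∈ Subgroup.normalizer (A : Set G), n * a * n⁻¹ = v} = 155 ∧
    Set.ncard {v : G | ∃ n ∈ Subgroup.normalizer (A : Set G), n * b * n⁻¹ = v} = 868 := by
  obtain ⟨z, P, hJ'⟩ := hJ
  obtain ⟨c⟩ := CfsgLib.JankoFour.ctx_of_type hJ'
  obtain ⟨A', o⟩ := c.exists_orb hG (CfsgLib.JankoFour.hinv_of_type hJ')
  obtain ⟨hex, hfaith⟩ := c.outer_facts hJ'
  obtain ⟨t⟩ := o.exists_ten hex hfaith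
  obtain ⟨g, hg⟩ := t.conj_A0 hA hcard hself
  obtain ⟨-, -, hz, ht⟩ := t.orbits
  have hin : ∀ x, x ∈ A → g * x * g⁻¹ ∈ t.A0 := fun x hx =>
    hg.le (CfsgLib.JankoFour.mem_conjSub.mpr (by rwa [show g⁻¹ * (g * x * g⁻¹) * g = x by group]))
  have hout : ∀ y, y ∈ t.A0 → g⁻¹ * y * g ∈ A := fun y hy => CfsgLib.JankoFour.mem_conjSub.mp (hg.ge hy)
  have hup : ∀ n ∈ Subgroup.normalizer (A : Set G), g * n * g⁻¹ ∈ Subgroup.normalizer (t.A0 : Set G) := fun n hn =>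
    hg ▸ CfsgLib.JankoFour.norm_conjSub (by rwa [show g⁻¹ * (g * n * g⁻¹) * g = n by group])
  have hdown : ∀ n ∈ Subgroup.normalizer (t.A0 : Set G), g⁻¹ * n * g ∈ Subgroup.normalizer (A : Set G) := by
    intro n hn
    refine CfsgLib.JankoFour.mem_norm_of fun x hx => ?_
    have h := hout _ ((Subgroup.mem_normalizer_iff.mp hn _).mp (hin x hx))
    rwa [show g⁻¹ * (n * (g * x * g⁻¹) * n⁻¹) * g = g⁻¹ * n * g * x * (g⁻¹ * n * g)⁻¹ by group] at h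
  have horb : ∀ a, a < 1024 → g⁻¹ * t.Ψ a * g ∈ A ∧
      Set.ncard {v : G | ∃ n ∈ Subgroup.normalizer (A : Set G), n * (g⁻¹ * t.Ψ a * g) * n⁻¹ = v} =
        (t.orbI a).card := by
    intro a ha
    refine ⟨hout _ ⟨a, ha, rfl⟩, ?_⟩
    rw [← t.ncard_orbit ha, ← Set.ncard_image_of_injective _ (MulAut.conj g).injective]
    congr 1
    ext v
    constructor
    · rintro ⟨w, ⟨n, hn, rfl⟩, rfl⟩
      refine ⟨_, hup n hn, ?_⟩
      show _ = g * (n * (g⁻¹ * t.Ψ a * g) * n⁻¹) * g⁻¹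
      group
    · rintro ⟨n, hn, rfl⟩
      refine ⟨_, ⟨_, hdown n hn, rfl⟩, ?_⟩
      show g * (g⁻¹ * n * g * (g⁻¹ * t.Ψ a * g) * (g⁻¹ * n * g)⁻¹) * g⁻¹ = _
      group
  obtain ⟨a, ha⟩ : ∃ a, a ∈ CfsgGolay.Ten.orbList 0 :=
    List.exists_mem_of_length_pos (by rw [CfsgGolay.Ten.orb_length.1]; norm_num)
  obtain ⟨b, hb⟩ : ∃ b, b ∈ CfsgGolay.Ten.orbList 1 :=
    List.exists_mem_of_length_pos (by rw [CfsgGolay.Ten.orb_length.2.1]; norm_num)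
  have ha1 := (CfsgGolay.Ten.orb_spec (by norm_num) ha).1
  have hb1 := (CfsgGolay.Ten.orb_spec (by norm_num) hb).1
  exact ⟨_, _, (horb a ha1).1, (horb b hb1).1,
    (horb a ha1).2.trans (hz a ha1 (CfsgGolay.Ten.mem_zMask.mpr (Or.inl ha))),
    (horb b hb1).2.trans (ht b hb1 (CfsgGolay.Ten.mem_tMask.mpr (Or.inl hb)))⟩

end Cfsg.Agent.S5571
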