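import Cfsg.Statements.S5574
import Cfsg.Agent.Lib.JankoFour.CenCenter
import Cfsg.Agent.Lib.JankoFour.FiveOuter
import Cfsg.Agent.Lib.JankoFour.EightModel
import Cfsg.Agent.Lib.JankoFour.EightThree
import Cfsg.Agent.Lib.JankoFour.EightSylow

set_option autoImplicit false
open Cfsg

namespace Cfsg.Agent.S5574

/-- Let G be a finite non-abelian simple group of Janko-four type (an involution z whose centralizer H has an extraspecial largest normal 2-subgroup E of order 2^13 containing its centralizer in H, a normal subgroup N ≥ E of H with N/E of order 3 and H/N the automorphism group of M₂₂, and a subgroup P ≤ N of order 3 with C_E(P) = ⟨z⟩, N_H(P) ≠ C_H(P) and P ≤ C_H(P)′). Then G has a special 2-subgroup L of order 2^15 with centre of order 8 whose normalizer M satisfies: M/L is isomorphic to the direct product of the symmetric group of degree 5 and L₃(2); L has no complement in M; M nevertheless contains subgroups isomorphic to the symmetric group of degree 5 and to L₃(2);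 and M contains the normalizer of some Sylow 5-subgroup and of some Sylow 7-subgroup of G. -/
theorem result {G : Type*} [Group G] [Finite G] [IsSimpleGroup G] (hG : ¬ IsMulCommutative G) (hJ : Cfsg.IsOfJankoFourType G) :
    ∃ L : Subgroup G, Cfsg.IsSpecial 2 ↥L ∧ Nat.card ↥L = 2 ^ 15 ∧ Nat.card ↥(Subgroup.center ↥L) = 8 ∧
    Nonempty (↥(Subgroup.normalizer (L : Set G)) ⧸ L.subgroupOf (Subgroup.normalizer (L : Set G)) ≃* Equiv.Perm (Fin 5) × Matrix.SpecialLinearGroup (Fin 3) (ZMod 2)) ∧
    (∀ K : Subgroup ↥(Subgroup.normalizer (L : Set G)), ¬ (L.subgroupOf (Subgroup.normalizer (L : Set G))).IsComplement' K) ∧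
    (∃ K₁ : Subgroup G, K₁ ≤ Subgroup.normalizer (L : Set G) ∧ Nonempty (↥K₁ ≃* Equiv.Perm (Fin 5))) ∧
    (∃ K₂ : Subgroup G, K₂ ≤ Subgroup.normalizer (L : Set G) ∧ Nonempty (↥K₂ ≃* Matrix.SpecialLinearGroup (Fin 3) (ZMod 2))) ∧
    (∃ Q : Sylow 5 G, Subgroup.normalizer ((Q : Subgroup G) : Set G) ≤ Subgroup.normalizer (L : Set G)) ∧
    (∃ S : Sylow 7 G, Subgroup.normalizer ((S : Subgroup G) : Set G) ≤ Subgroup.normalizer (L : Set G)) := by
  classical
  obtain ⟨z, P, hJ'⟩ := hJ
  obtain ⟨m, ⟨em⟩⟩ := CfsgLib.JankoFour.EightChk.exists_eight_model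
  obtain ⟨c⟩ := CfsgLib.JankoFour.ctx_of_type hJ'
  obtain ⟨hex, hfaith⟩ := c.outer_facts hJ'
  obtain ⟨d⟩ := c.exists_five m hex hfaith
  have hinv := CfsgLib.JankoFour.hinv_of_type hJ'
  obtain ⟨o⟩ := d.exists_eight_base hG hinv
  obtain ⟨k⟩ := o.exists_eightC hG em
  obtain ⟨i⟩ := k.exists_eightI hG hinv
  obtain ⟨θ, -, -⟩ := i.exists_quot
  refine ⟨k.L, i.special.1, k.card_L, i.special.2, ⟨θ⟩, i.no_complement,
    ⟨i.I, fun x hx => i.I_normL hx, ⟨i.iso⟩⟩, i.exists_three_sub hG hinv, ?_, ?_⟩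
  · haveI : Fact (Nat.Prime 5) := ⟨by norm_num⟩
    have h25 := (d.five_local hG hinv).1
    have h5 : 5 ∣ Nat.card G := d.card_Q ▸ Subgroup.card_subgroup_dvd_card (Subgroup.zpowers d.q)
    have hfac : (Nat.card G).factorization 5 = 1 := by
      have h1 : 1 ≤ (Nat.card G).factorization 5 :=
        (Nat.Prime.dvd_iff_one_le_factorization (by norm_num) Nat.card_pos.ne').mp h5
      have h2 : ¬ 2 ≤ (Nat.card G).factorization 5 := fun h =>
        h25 ((Nat.Prime.pow_dvd_iff_le_factorization (by norm_num) Nat.card_pos.ne').mpr h)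
      omega
    exact ⟨Sylow.ofCard (Subgroup.zpowers d.q) (by rw [hfac, d.card_Q, pow_one]), i.norm_five⟩
  · haveI : Fact (Nat.Prime 7) := ⟨by norm_num⟩
    have h7 : 7 ∣ Nat.card G := o.order_s ▸ orderOf_dvd_natCard o.s
    have hfac : (Nat.card G).factorization 7 = 1 := by
      have h1 : 1 ≤ (Nat.card G).factorization 7 :=
        (Nat.Prime.dvd_iff_one_le_factorization (by norm_num) Nat.card_pos.ne').mp h7
      have h2 : ¬ 2 ≤ (Nat.card G).factorization 7 := fun h =>
        i.not49 ((Nat.Prime.pow_dvd_iff_le_factorization (by norm_num) Nat.card_pos.ne').mpr h)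
      omega
    exact ⟨Sylow.ofCard (Subgroup.zpowers o.s) (by rw [hfac, Nat.card_zpowers, o.order_s, pow_one]), i.norm_seven⟩

end Cfsg.Agent.S5574
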