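import Cfsg.Statements.S5575
import Cfsg.Agent.Lib.J4Order.Order
import Cfsg.Agent.Lib.JankoFour.ElevenNorm
-- import your own Cfsg.Agent.* helpers here

set_option autoImplicit false
open Cfsg

namespace Cfsg.Agent.S5575

/-- Let G be a finite non-abelian simple group of Janko-four type (an involution z whose centralizer H has an extraspecial largest normal 2-subgroup E of order 2^13 containing its centralizer in H, a normal subgroup N ≥ E of H with N/E of order 3 and H/N the automorphism group of M₂₂, and a subgroup P ≤ N of order 3 with C_E(P) = ⟨z⟩, N_H(P) ≠ C_H(P) and P ≤ C_H(P)′). Then a Sylow 11-subgroup of G is extraspecial of order 11^3 and exponent 11, and its normalizer has order 2^4·3·5·11^3 and contains a subgroup isomorphic to GL₂(3). -/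
theorem result {G : Type*} [Group G] [Finite G] [IsSimpleGroup G] (hG : ¬ IsMulCommutative G) (hJ : Cfsg.IsOfJankoFourType G) (U : Sylow 11 G) :
    Cfsg.IsExtraspecial 11 ↥(U : Subgroup G) ∧ Nat.card ↥(U : Subgroup G) = 11 ^ 3 ∧ Monoid.exponent ↥(U : Subgroup G) = 11 ∧
    Nat.card ↥(Subgroup.normalizer ((U : Subgroup G) : Set G)) = 2 ^ 4 * 3 * 5 * 11 ^ 3 ∧
    ∃ K : Subgroup G, K ≤ Subgroup.normalizer ((U : Subgroup G) : Set G) ∧ Nonempty (↥K ≃* GL (Fin 2) (ZMod 3)) := by
  have hcard : Nat.card G = CfsgLib.JankoFour.Big.orderJ4 := CfsgLib.J4Order.card_G hG hJ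
  haveI : Fact (Nat.Prime 11) := ⟨by norm_num⟩
  obtain ⟨x0, x1, R, h⟩ := CfsgLib.JankoFour.Eleven.exists_facts hG hJ hcard
  let U0 : Sylow 11 G := Sylow.ofCard R (by rw [h.cardR, CfsgLib.JankoFour.Eleven.fac_eleven hcard]; norm_num)
  obtain ⟨g, hg⟩ := MulAction.exists_smul_eq G U0 U
  have hU : (U : Subgroup G) = R.map (MulAut.conj g).toMonoidHom := by
    rw [← hg, Sylow.coe_subgroup_smul]; rfl
  let e : ↥R ≃* ↥(U : Subgroup G) :=
    (R.equivMapOfInjective _ (MulAut.conj g).injective).trans (MulEquiv.subgroupCongr hU.symm)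
  have hUc : Nat.card ↥(U : Subgroup G) = 11 ^ 3 := by
    rw [← Nat.card_congr e.toEquiv, h.cardR]; norm_num
  have hnab : ¬ ∀ a b : ↥(U : Subgroup G), a * b = b * a := fun hab => h.nonab fun a b => e.injective (by
    rw [map_mul, map_mul, hab])
  refine ⟨(Cfsg.EssentialSmall.extraspecial_cube (p := 11) hUc hnab).1, hUc, ?_, ?_, ?_⟩
  · have hd : Monoid.exponent ↥(U : Subgroup G) ∣ 11 := Monoid.exponent_dvd_of_forall_pow_eq_one fun a => by
      obtain ⟨r, rfl⟩ := e.surjective a
      rw [← map_pow, show r ^ 11 = 1 from Subtype.ext (h.expo r r.2), map_one]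
    rcases (Nat.dvd_prime (by norm_num)).mp hd with h1 | h1
    · haveI := Monoid.exp_eq_one_iff.mp h1
      rw [Nat.card_unique] at hUc
      norm_num at hUc
    · exact h1
  · rw [hU, ← Subgroup.map_equiv_normalizer_eq R (MulAut.conj g),
      Subgroup.card_map_of_injective (MulAut.conj g).injective, h.cardN]
    norm_num
  · obtain ⟨K, hK, ⟨eK⟩⟩ := h.gl
    refine ⟨K.map (MulAut.conj g).toMonoidHom, ?_,
      ⟨(K.equivMapOfInjective _ (MulAut.conj g).injective).symm.trans eK⟩⟩
    rw [hU, ← Subgroup.map_equiv_normalizer_eq R (MulAut.conj g)]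
    exact Subgroup.map_mono hK

end Cfsg.Agent.S5575
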