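import Cfsg.Statements.S5588
import Cfsg.Agent.Lib.Y555.Main

set_option autoImplicit false
open Cfsg

namespace Cfsg.Agent.S5588

open Cfsg.Spor CfsgLib.CosetEnum CfsgLib.Y555

/-- The relators with the spider alone. -/
abbrev R : Set (FreeGroup Bimonster.Gen) :=
  Cfsg.Spor.coxRelators Bimonster.edges ∪ {r' | r' ∈ [(Bimonster.a * Bimonster.b1 * Bimonster.c1 * Bimonster.a *
    Bimonster.b2 * Bimonster.c2 * Bimonster.a * Bimonster.b3 * Bimonster.c3) ^ 10]}

/-- The three rotations of Y532 inside Y555. -/
def rotations : List (List Bimonster.Gen) :=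
  [[.d3, .c3, .b3, .a, .b1, .c1, .d1, .e1, .b2, .c2, .f1],
   [.d1, .c1, .b1, .a, .b2, .c2, .d2, .e2, .b3, .c3, .f2],
   [.d2, .c2, .b2, .a, .b3, .c3, .d3, .e3, .b1, .c1, .f3]]

/-- The image of a numbered node. -/
noncomputable def node (L : List Bimonster.Gen) (x : ℕ) : PresentedGroup R :=
  if x < 11 then PresentedGroup.of (L.getD x .a) else 1

theorem cox_one (x y : Bimonster.Gen) (hx : x ∈ coxNodes Bimonster.edges) (hy : y ∈ coxNodes Bimonster.edges) :
    ((PresentedGroup.of x : PresentedGroup R) * PresentedGroup.of y) ^ coxLabel Bimonster.edges x y = 1 := by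
  show (PresentedGroup.mk R (FreeGroup.of x) * PresentedGroup.mk R (FreeGroup.of y)) ^ _ = 1
  rw [← map_mul, ← map_pow]
  exact PresentedGroup.mk_eq_one_iff.mpr (Subgroup.subset_normalClosure (Or.inl ⟨x, hx, y, hy, rfl⟩))

theorem nodes_all (x : Bimonster.Gen) : x ∈ coxNodes Bimonster.edges := by cases x <;> decide

theorem sq_one (x : Bimonster.Gen) : (PresentedGroup.of x : PresentedGroup R) * PresentedGroup.of x = 1 := by
  have h := cox_one x x (nodes_all x) (nodes_all x)
  rwa [show coxLabel Bimonster.edges x x = 1 by simp [coxLabel], pow_one] at h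

theorem spider_one :
    (((List.replicate 10 [Bimonster.Gen.a, .b1, .c1, .a, .b2, .c2, .a, .b3, .c3]).flatten).map
      (PresentedGroup.of : Bimonster.Gen → PresentedGroup R)).prod = 1 := by
  rw [List.map_flatten, List.map_replicate, List.prod_flatten, List.map_replicate, List.prod_replicate]
  have h : PresentedGroup.mk R ((Bimonster.a * Bimonster.b1 * Bimonster.c1 * Bimonster.a *
      Bimonster.b2 * Bimonster.c2 * Bimonster.a * Bimonster.b3 * Bimonster.c3) ^ 10) = 1 :=
    PresentedGroup.mk_eq_one_iff.mpr (Subgroup.subset_normalClosure (Or.inr (List.mem_singleton.mpr rfl)))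
  simp only [map_pow, map_mul] at h
  simp only [List.map_cons, List.map_nil, List.prod_cons, List.prod_nil, mul_one]
  rw [← h]
  simp only [mul_assoc]
  rfl

theorem node_rel (L : List Bimonster.Gen) (hL : L ∈ rotations) :
    ∀ w ∈ presY532.rels, (w.map (node L)).prod = 1 := by
  intro w hw
  rcases presY532.mem_rels hw with ⟨i, hi, j, hj, rfl⟩ | hw
  · have hlab : ∀ L ∈ rotations, ∀ i < 11, ∀ j < 11,
        presY532.m i j = coxLabel Bimonster.edges (L.getD i .a) (L.getD j .a) := by decide +kernel
    rw [prod_coxWord, hlab L hL i hi j hj, node, node, if_pos hi, if_pos hj]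
    exact cox_one _ _ (nodes_all _) (nodes_all _)
  · obtain rfl : w = spider11 := List.mem_singleton.mp hw
    have hlt : ∀ x ∈ spider11, x < 11 := by decide +kernel
    obtain ⟨s, -, hs⟩ := (show ∀ L ∈ rotations, ∃ s < 9, spider11.map (fun x => L.getD x Bimonster.Gen.a) =
      ((List.replicate 10 [Bimonster.Gen.a, .b1, .c1, .a, .b2, .c2, .a, .b3, .c3]).flatten).rotate s by
        decide +kernel) L hL
    have e : spider11.map (node L) = (((List.replicate 10 [Bimonster.Gen.a, .b1, .c1, .a, .b2, .c2, .a, .b3,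
        .c3]).flatten).map (PresentedGroup.of : Bimonster.Gen → PresentedGroup R)).rotate s := by
      rw [← List.map_rotate, ← hs, List.map_map]
      exact List.map_congr_left fun x hx => if_pos (hlt x hx)
    rw [e]
    exact prod_rotate_eq_one _ s spider_one

theorem node_sq (L : List Bimonster.Gen) (x : ℕ) : node L x * node L x = 1 := by
  unfold node
  split
  · exact sq_one _
  · exact one_mul 1

theorem end_eq (L : List Bimonster.Gen) (hL : L ∈ rotations) :
    node L 10 = (([3, 4, 8, 2, 5, 9, 6] : List ℕ).map (node L)).prod ^ 9 ∧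
      node L 10 = (([3, 4, 2, 8, 5, 1, 6] : List ℕ).map (node L)).prod ^ 9 :=
  f1_words (node L) (node_sq L) (node_rel L hL)

/-- In the group presented by the sixteen involutions of the Y₅₅₅ Coxeter diagram subject only to the Coxeter relations and the single spider relation (a b₁ c₁ a b₂ c₂ a b₃ c₃)^10 = 1, each of the further relators used in the definitions' presentation of the Bimonster (each end node equals the ninth power of the Coxeter element of a sub-diagram of type E₇) already holds. Equivalently, the Y₅₅₅ diagram with the spider relation alone presents the Bimonster. -/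
theorem result :
    ∀ r ∈ Cfsg.Spor.Bimonster.extra,
      (PresentedGroup.mk (Cfsg.Spor.coxRelators Cfsg.Spor.Bimonster.edges ∪ {r' | r' ∈ [(Cfsg.Spor.Bimonster.a * Cfsg.Spor.Bimonster.b1 * Cfsg.Spor.Bimonster.c1 * Cfsg.Spor.Bimonster.a * Cfsg.Spor.Bimonster.b2 * Cfsg.Spor.Bimonster.c2 * Cfsg.Spor.Bimonster.a * Cfsg.Spor.Bimonster.b3 * Cfsg.Spor.Bimonster.c3) ^ 10]}) r) = 1 := by
  intro r hr
  have h1 := end_eq [.d3, .c3, .b3, .a, .b1, .c1, .d1, .e1, .b2, .c2, .f1] (by decide)
  have h2 := end_eq [.d1, .c1, .b1, .a, .b2, .c2, .d2, .e2, .b3, .c3, .f2] (by decide)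
  have h3 := end_eq [.d2, .c2, .b2, .a, .b3, .c3, .d3, .e3, .b1, .c1, .f3] (by decide)
  simp only [node, List.getD_cons_succ, List.getD_cons_zero, List.map_cons, List.map_nil, List.prod_cons,
    List.prod_nil, mul_one, ← mul_assoc, Nat.reduceLT, if_true] at h1 h2 h3
  simp only [Cfsg.Spor.Bimonster.extra, List.mem_cons, List.not_mem_nil, or_false] at hr
  rcases hr with rfl | rfl | rfl | rfl | rfl | rfl | rfl
  · exact PresentedGroup.mk_eq_one_iff.mpr (Subgroup.subset_normalClosure (Or.inr (List.mem_singleton.mpr rfl)))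
  all_goals rw [map_mul, map_inv, map_pow, mul_inv_eq_one]; simp only [map_mul]
  · exact h1.1
  · exact h1.2
  · exact h2.2
  · exact h2.1
  · exact h3.1
  · exact h3.2

end Cfsg.Agent.S5588
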