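import Cfsg.Statements.S5601
import Cfsg.Agent.Lib.Golay.ElemClasses

set_option autoImplicit false
open scoped Pointwise
open Cfsg
open scoped Pointwise

attribute [local irreducible] CfsgGolay.r3A CfsgGolay.r3B CfsgGolay.fixF

namespace Cfsg.Agent.S5601

/-- The group of the length-24 code has exactly two conjugacy classes of subgroups of order 3: a subgroup of order 3 fixes either exactly 6 of the 24 points or none of them, both cases occur, and two subgroups of order 3 with the same number of fixed points are conjugate. -/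
theorem result : (∀ X : Subgroup ↥Cfsg.M24, Nat.card X = 3 → {p : Cfsg.GolayPt | ∀ x ∈ X, ((x : ↥Cfsg.M24) : Equiv.Perm Cfsg.GolayPt) p = p}.ncard = 6 ∨ {p : Cfsg.GolayPt | ∀ x ∈ X, ((x : ↥Cfsg.M24) : Equiv.Perm Cfsg.GolayPt) p = p}.ncard = 0) ∧ (∃ X : Subgroup ↥Cfsg.M24, Nat.card X = 3 ∧ {p : Cfsg.GolayPt | ∀ x ∈ X, ((x : ↥Cfsg.M24) : Equiv.Perm Cfsg.GolayPt) p = p}.ncard = 6) ∧ (∃ X : Subgroup ↥Cfsg.M24, Nat.card X = 3 ∧ {p : Cfsg.GolayPt | ∀ x ∈ X, ((x : ↥Cfsg.M24) : Equiv.Perm Cfsg.GolayPt) p = p}.ncard = 0) ∧ ∀ X Y : Subgroup ↥Cfsg.M24, Nat.card X = 3 → Nat.card Y = 3 → {p : Cfsg.GolayPt | ∀ x ∈ X, ((x : ↥Cfsg.M24) : Equiv.Perm Cfsg.GolayPt) p = p}.ncard = {p : Cfsg.GolayPt | ∀ x ∈ Y, ((x : ↥Cfsg.M24) : Equiv.Perm Cfsg.GolayPt) p = p}.ncard → ∃ k : ↥Cfsg.M24, MulAut.conj k • X = Y := by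
  have key : ∀ X : Subgroup ↥Cfsg.M24, Nat.card X = 3 → ∃ x : ↥Cfsg.M24, x ∈ X ∧ orderOf (x : Equiv.Perm Cfsg.GolayPt) = 3 ∧
      X = Subgroup.zpowers x ∧ {p : Cfsg.GolayPt | ∀ x ∈ X, ((x : ↥Cfsg.M24) : Equiv.Perm Cfsg.GolayPt) p = p}.ncard = (CfsgGolay.fixF (x : Equiv.Perm Cfsg.GolayPt)).card := by
    intro X hX
    haveI : Fact (Nat.Prime 3) := ⟨by norm_num⟩
    obtain ⟨y, hy⟩ := exists_prime_orderOf_dvd_card' (G := X) 3 (by rw [hX])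
    have ho : orderOf (y : ↥Cfsg.M24) = 3 := by rw [Subgroup.orderOf_coe]; exact hy
    have hz : X = Subgroup.zpowers (y : ↥Cfsg.M24) :=
      (Subgroup.eq_of_le_of_card_ge (by rw [Subgroup.zpowers_le]; exact y.2) (by rw [hX, Nat.card_zpowers, ho])).symm
    refine ⟨y, y.2, by rw [Subgroup.orderOf_coe]; exact ho, hz, ?_⟩
    rw [← Set.ncard_coe_finset]
    congr 1
    ext p
    simp only [Set.mem_ofPred_eq, Finset.mem_coe, CfsgGolay.mem_fixF]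
    refine ⟨fun h => h _ y.2, fun h x hx => ?_⟩
    rw [hz, Subgroup.mem_zpowers_iff] at hx
    obtain ⟨n, rfl⟩ := hx
    show MulAction.toPermHom ↥Cfsg.M24 Cfsg.GolayPt ((y : ↥Cfsg.M24) ^ n) p = p
    rw [map_zpow]
    exact Equiv.Perm.zpow_apply_eq_self_of_apply_eq_self (show MulAction.toPermHom ↥Cfsg.M24 Cfsg.GolayPt (y : ↥Cfsg.M24) p = p from h) n
  have cnt : ∀ x : ↥Cfsg.M24, orderOf (x : Equiv.Perm Cfsg.GolayPt) = 3 → (CfsgGolay.fixF (x : Equiv.Perm Cfsg.GolayPt)).card = 6 ∨ (CfsgGolay.fixF (x : Equiv.Perm Cfsg.GolayPt)).card = 0 := by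
    intro x hx
    obtain ⟨k, -, h | h⟩ := CfsgGolay.class_three x.2 hx
    · left; rw [← CfsgGolay.card_fixF_conj k, h, CfsgGolay.card_fix_3A]
    · right; rw [← CfsgGolay.card_fixF_conj k, h, CfsgGolay.card_fix_3B]
  have ex : ∀ r : ↥Cfsg.M24, orderOf (r : Equiv.Perm Cfsg.GolayPt) = 3 → ∃ X : Subgroup ↥Cfsg.M24, Nat.card X = 3 ∧
      {p : Cfsg.GolayPt | ∀ x ∈ X, ((x : ↥Cfsg.M24) : Equiv.Perm Cfsg.GolayPt) p = p}.ncard = (CfsgGolay.fixF (r : Equiv.Perm Cfsg.GolayPt)).card := by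
    intro r hr
    have hc : Nat.card ↥(Subgroup.zpowers r) = 3 := by rw [Nat.card_zpowers, ← Subgroup.orderOf_coe, hr]
    obtain ⟨x, hx, hox, hz, he⟩ := key _ hc
    refine ⟨_, hc, he.trans ?_⟩
    obtain ⟨n, hn⟩ := Subgroup.mem_zpowers_iff.mp (show r ∈ Subgroup.zpowers x from hz ▸ Subgroup.mem_zpowers r)
    obtain ⟨m, hm⟩ := Subgroup.mem_zpowers_iff.mp hx
    congr 1
    ext p
    rw [CfsgGolay.mem_fixF, CfsgGolay.mem_fixF]
    constructor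
    · intro h; rw [← hn, Subgroup.coe_zpow]; exact Equiv.Perm.zpow_apply_eq_self_of_apply_eq_self h n
    · intro h; rw [← hm, Subgroup.coe_zpow]; exact Equiv.Perm.zpow_apply_eq_self_of_apply_eq_self h m
  refine ⟨fun X hX => ?_, ?_, ?_, fun X Y hX hY he => ?_⟩
  · obtain ⟨x, -, ho, -, h⟩ := key X hX
    rw [h]; exact cnt x ho
  · obtain ⟨X, hX, h⟩ := ex ⟨CfsgGolay.r3A, CfsgGolay.mem_r3A⟩ (by exact CfsgGolay.order_3A)
    exact ⟨X, hX, h.trans CfsgGolay.card_fix_3A⟩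
  · obtain ⟨X, hX, h⟩ := ex ⟨CfsgGolay.r3B, CfsgGolay.mem_r3B⟩ (by exact CfsgGolay.order_3B)
    exact ⟨X, hX, h.trans CfsgGolay.card_fix_3B⟩
  · obtain ⟨x, -, hox, hzx, hx⟩ := key X hX
    obtain ⟨y, -, hoy, hzy, hy⟩ := key Y hY
    rw [hx, hy] at he
    have main : ∃ k : ↥Cfsg.M24, MulAut.conj k x = y := by
      rcases cnt x hox with h | h
      · obtain ⟨a, ha, h1⟩ := CfsgGolay.class_3A x.2 hox (by omega)
        obtain ⟨b, hb, h2⟩ := CfsgGolay.class_3A y.2 hoy (by omega)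
        refine ⟨⟨b⁻¹ * a, mul_mem (inv_mem hb) ha⟩, Subtype.ext ?_⟩
        simp only [MulAut.conj_apply, Subgroup.coe_mul, Subgroup.coe_inv]
        rw [show b⁻¹ * a * (x : Equiv.Perm Cfsg.GolayPt) * (b⁻¹ * a)⁻¹ = b⁻¹ * (a * x * a⁻¹) * b by group, h1, ← h2]; group
      · obtain ⟨a, ha, h1⟩ := CfsgGolay.class_3B x.2 hox (by omega)
        obtain ⟨b, hb, h2⟩ := CfsgGolay.class_3B y.2 hoy (by omega)
        refine ⟨⟨b⁻¹ * a, mul_mem (inv_mem hb) ha⟩, Subtype.ext ?_⟩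
        simp only [MulAut.conj_apply, Subgroup.coe_mul, Subgroup.coe_inv]
        rw [show b⁻¹ * a * (x : Equiv.Perm Cfsg.GolayPt) * (b⁻¹ * a)⁻¹ = b⁻¹ * (a * x * a⁻¹) * b by group, h1, ← h2]; group
    obtain ⟨k, hk⟩ := main
    refine ⟨k, ?_⟩
    rw [hzx, hzy, ← hk]
    exact MonoidHom.map_zpowers (MulAut.conj k).toMonoidHom x

end Cfsg.Agent.S5601
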