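import Cfsg.Statements.S5605
import Cfsg.Agent.Lib.Golay.ElemClasses

set_option autoImplicit false
open scoped Pointwise
open Cfsg

namespace Cfsg.Agent.S5605

/-- An involution of the group of the length-24 code with exactly 8 fixed points maps to themselves exactly 71 octads, exactly 99 trios and exactly 91 sextets. -/
theorem result (g : Equiv.Perm Cfsg.GolayPt) (hg : g ∈ Cfsg.M24) (h₂ : orderOf g = 2) (h₈ : (Finset.univ.filter fun p => g p = p).card = 8) : {o : Finset Cfsg.GolayPt | o ∈ Cfsg.octads ∧ g • o = o}.ncard = 71 ∧ {T : Finset (Finset Cfsg.GolayPt) | T ∈ Cfsg.trios ∧ g • T = T}.ncard = 99 ∧ {S : Finset (Finset Cfsg.GolayPt) | S ∈ Cfsg.sextets ∧ g • S = S}.ncard = 91 := by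
  obtain ⟨k, hk, h⟩ := CfsgGolay.class_2A hg h₂ (by show (CfsgGolay.fixF g).card ≠ 0; unfold CfsgGolay.fixF; omega)
  refine ⟨?_, ?_, ?_⟩
  · rw [CfsgGolay.ncard_fixed_conj (fun k hk x hx => CfsgGolay.smul_mem_octads hk hx) hk h, CfsgGolay.fixed_octads CfsgGolay.good_2A]
    exact CfsgGolay.counts_octads.1
  · rw [CfsgGolay.ncard_fixed_conj (fun k hk x hx => CfsgGolay.smul_mem_trios hk hx) hk h, CfsgGolay.fixed_trios CfsgGolay.good_2A]
    exact CfsgGolay.counts_trios.1
  · rw [CfsgGolay.ncard_fixed_conj (fun k hk x hx => CfsgGolay.smul_mem_sextets hk hx) hk h, CfsgGolay.fixed_sextets CfsgGolay.good_2A]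
    exact CfsgGolay.counts_sextets.1

end Cfsg.Agent.S5605
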