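import Cfsg.Statements.S5607
import Cfsg.Agent.Lib.Golay.ElemCent

set_option autoImplicit false
open scoped Pointwise
open Cfsg
open scoped Pointwise
attribute [local irreducible] CfsgGolay.r2B CfsgGolay.S0

namespace Cfsg.Agent.S5607

/-- For a fixed-point-free involution t of the group of the length-24 code: its centraliser in that group has order 7680, is transitive on the 24 points, and is contained, together with t, in the stabiliser of some sextet. -/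
theorem result (t : Equiv.Perm Cfsg.GolayPt) (ht : t ∈ Cfsg.M24) (h₂ : orderOf t = 2) (h₀ : ∀ p, t p ≠ p) : Nat.card {c : Equiv.Perm Cfsg.GolayPt // c ∈ Cfsg.M24 ∧ c * t = t * c} = 7680 ∧ (∀ p q : Cfsg.GolayPt, ∃ c ∈ Cfsg.M24, c * t = t * c ∧ c p = q) ∧ ∃ S ∈ Cfsg.sextets, t • S = S ∧ ∀ c ∈ Cfsg.M24, c * t = t * c → c • S = S := by
  obtain ⟨k, hk, h⟩ := CfsgGolay.class_2B ht h₂ (by rw [CfsgGolay.fixF_empty_iff.mpr h₀]; decide)
  refine ⟨(CfsgGolay.card_centralizer_conj hk h).trans CfsgGolay.card_cent_2B, fun p q => ?_, k⁻¹ • CfsgGolay.S0,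
    CfsgGolay.smul_mem_sextets (inv_mem hk) CfsgGolay.S0_mem, ?_, fun c hc hct => ?_⟩
  · obtain ⟨c, hc, he⟩ := CfsgGolay.cent_2B_transitive (k p) (k q)
    have hc' : k⁻¹ * c * k ∈ Cfsg.M24 ∧ (k⁻¹ * c * k) * t = t * (k⁻¹ * c * k) :=
      (CfsgGolay.centM_conj hk h).mpr (by rw [show k * (k⁻¹ * c * k) * k⁻¹ = c by group]; exact hc)
    refine ⟨_, hc'.1, hc'.2, ?_⟩
    simp [Equiv.Perm.mul_apply, he]
  · have h1 : CfsgGolay.r2B ∈ CfsgGolay.centM CfsgGolay.r2B := CfsgGolay.mem_centM.mpr ⟨CfsgGolay.mem_r2B, rfl⟩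
    have h2 := (CfsgGolay.mem_stabM.mp (CfsgGolay.cent_2B_le h1)).2
    rw [← mul_smul, show t * k⁻¹ = k⁻¹ * (k * t * k⁻¹) by group, h, mul_smul, h2]
  · have h2 := (CfsgGolay.mem_stabM.mp (CfsgGolay.cent_2B_le ((CfsgGolay.centM_conj hk h).mp ⟨hc, hct⟩))).2
    rw [← mul_smul, show c * k⁻¹ = k⁻¹ * (k * c * k⁻¹) by group, mul_smul, h2]

end Cfsg.Agent.S5607
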