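import Cfsg.Statements.S5610
import Cfsg.Agent.Lib.Golay.Coatom

set_option autoImplicit false
open scoped Pointwise
open Cfsg

namespace Cfsg.Agent.S5610

/-- The stabiliser of an octad in the group of the length-24 code has exactly three orbits on the 3795 trios, of sizes 15, 420 and 3360, and exactly three orbits on the 1771 sextets, of sizes 35, 840 and 896. -/
theorem result (o : Finset Cfsg.GolayPt) (ho : o ∈ Cfsg.octads) : (∃ X₁ ∈ Cfsg.trios, ∃ X₂ ∈ Cfsg.trios, ∃ X₃ ∈ Cfsg.trios, (MulAction.orbit ↥(MulAction.stabilizer Cfsg.M24 o) X₁).ncard = 15 ∧ (MulAction.orbit ↥(MulAction.stabilizer Cfsg.M24 o) X₂).ncard = 420 ∧ (MulAction.orbit ↥(MulAction.stabilizer Cfsg.M24 o) X₃).ncard = 3360 ∧ Cfsg.trios = MulAction.orbit ↥(MulAction.stabilizer Cfsg.M24 o) X₁ ∪ MulAction.orbit ↥(MulAction.stabilizer Cfsg.M24 o) X₂ ∪ MulAction.orbit ↥(MulAction.stabilizer Cfsg.M24 o) X₃) ∧ (∃ Y₁ ∈ Cfsg.sextets, ∃ Y₂ ∈ Cfsg.sextets, ∃ Y₃ ∈ Cfsg.sextets,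 (MulAction.orbit ↥(MulAction.stabilizer Cfsg.M24 o) Y₁).ncard = 35 ∧ (MulAction.orbit ↥(MulAction.stabilizer Cfsg.M24 o) Y₂).ncard = 840 ∧ (MulAction.orbit ↥(MulAction.stabilizer Cfsg.M24 o) Y₃).ncard = 896 ∧ Cfsg.sextets = MulAction.orbit ↥(MulAction.stabilizer Cfsg.M24 o) Y₁ ∪ MulAction.orbit ↥(MulAction.stabilizer Cfsg.M24 o) Y₂ ∪ MulAction.orbit ↥(MulAction.stabilizer Cfsg.M24 o) Y₃) := by
  obtain ⟨g, hg, rfl⟩ := CfsgGolay.exists_smul_O0 ho
  refine ⟨?_, ?_⟩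
  · obtain ⟨hc, hsz, hmem⟩ := CfsgGolay.partOT
    simp only [CfsgGolay.repsOT, List.map_cons, List.map_nil, List.cons.injEq, and_true] at hsz
    obtain ⟨h0, h1, h2⟩ := hsz
    have hc' := CfsgGolay.orbUnion_smul hg _ _ _ (fun h hh y hy => CfsgGolay.smul_mem_trios hh hy) hc
    refine ⟨g • (CfsgGolay.famSet 3 2402701777519073634240),
      CfsgGolay.smul_mem_trios hg (hmem _ (by simp [CfsgGolay.repsOT])),
      g • (CfsgGolay.famSet 3 2527256963559411982080),
      CfsgGolay.smul_mem_trios hg (hmem _ (by simp [CfsgGolay.repsOT])),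
      g • (CfsgGolay.famSet 3 2444220172865853083520),
      CfsgGolay.smul_mem_trios hg (hmem _ (by simp [CfsgGolay.repsOT])),
      (CfsgGolay.isConjOf_stab_M24 hg CfsgGolay.O0 _).2.trans h0,
      (CfsgGolay.isConjOf_stab_M24 hg CfsgGolay.O0 _).2.trans h1,
      (CfsgGolay.isConjOf_stab_M24 hg CfsgGolay.O0 _).2.trans h2, ?_⟩
    conv_lhs => rw [hc']
    ext y
    simp [CfsgGolay.orbUnion, CfsgGolay.repsOT, or_assoc]
  · obtain ⟨hc, hsz, hmem⟩ := CfsgGolay.partOS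
    simp only [CfsgGolay.repsOS, List.map_cons, List.map_nil, List.cons.injEq, and_true] at hsz
    obtain ⟨h0, h1, h2⟩ := hsz
    have hc' := CfsgGolay.orbUnion_smul hg _ _ _ (fun h hh y hy => CfsgGolay.smul_mem_sextets hh hy) hc
    refine ⟨g • (CfsgGolay.famSet 6 11150382242010895008167239022564679587348520),
      CfsgGolay.smul_mem_sextets hg (hmem _ (by simp [CfsgGolay.repsOS])),
      g • (CfsgGolay.famSet 6 16728282737589973519941691265235352874451240),
      CfsgGolay.smul_mem_sextets hg (hmem _ (by simp [CfsgGolay.repsOS])),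
      g • (CfsgGolay.famSet 6 11150410160827573949350680478152798159274050),
      CfsgGolay.smul_mem_sextets hg (hmem _ (by simp [CfsgGolay.repsOS])),
      (CfsgGolay.isConjOf_stab_M24 hg CfsgGolay.O0 _).2.trans h0,
      (CfsgGolay.isConjOf_stab_M24 hg CfsgGolay.O0 _).2.trans h1,
      (CfsgGolay.isConjOf_stab_M24 hg CfsgGolay.O0 _).2.trans h2, ?_⟩
    conv_lhs => rw [hc']
    ext y
    simp [CfsgGolay.orbUnion, CfsgGolay.repsOS, or_assoc]

end Cfsg.Agent.S5610
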