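import Cfsg.Statements.S5611
import Cfsg.Agent.Lib.Golay.Coatom

set_option autoImplicit false
open scoped Pointwise
open Cfsg

namespace Cfsg.Agent.S5611

/-- The stabiliser of a sextet in the group of the length-24 code has exactly three orbits on the 759 octads, of sizes 15, 360 and 384, and exactly four orbits on the 3795 trios, of sizes 15, 180, 720 and 2880. -/
theorem result (S : Finset (Finset Cfsg.GolayPt)) (hS : S ∈ Cfsg.sextets) : (∃ X₁ ∈ Cfsg.octads, ∃ X₂ ∈ Cfsg.octads, ∃ X₃ ∈ Cfsg.octads, (MulAction.orbit ↥(MulAction.stabilizer Cfsg.M24 S) X₁).ncard = 15 ∧ (MulAction.orbit ↥(MulAction.stabilizer Cfsg.M24 S) X₂).ncard = 360 ∧ (MulAction.orbit ↥(MulAction.stabilizer Cfsg.M24 S) X₃).ncard = 384 ∧ Cfsg.octads = MulAction.orbit ↥(MulAction.stabilizer Cfsg.M24 S) X₁ ∪ MulAction.orbit ↥(MulAction.stabilizer Cfsg.M24 S) X₂ ∪ MulAction.orbit ↥(MulAction.stabilizer Cfsg.M24 S) X₃) ∧ (∃ Y₁ ∈ Cfsg.trios,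 ∃ Y₂ ∈ Cfsg.trios, ∃ Y₃ ∈ Cfsg.trios, ∃ Y₄ ∈ Cfsg.trios, (MulAction.orbit ↥(MulAction.stabilizer Cfsg.M24 S) Y₁).ncard = 15 ∧ (MulAction.orbit ↥(MulAction.stabilizer Cfsg.M24 S) Y₂).ncard = 180 ∧ (MulAction.orbit ↥(MulAction.stabilizer Cfsg.M24 S) Y₃).ncard = 720 ∧ (MulAction.orbit ↥(MulAction.stabilizer Cfsg.M24 S) Y₄).ncard = 2880 ∧ Cfsg.trios = MulAction.orbit ↥(MulAction.stabilizer Cfsg.M24 S) Y₁ ∪ MulAction.orbit ↥(MulAction.stabilizer Cfsg.M24 S) Y₂ ∪ MulAction.orbit ↥(MulAction.stabilizer Cfsg.M24 S) Y₃ ∪ MulAction.orbit ↥(MulAction.stabilizer Cfsg.M24 S) Y₄) := by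
  obtain ⟨g, hg, rfl⟩ := CfsgGolay.exists_smul_S0 hS
  refine ⟨?_, ?_⟩
  · obtain ⟨hc, hsz, hmem⟩ := CfsgGolay.partSO
    simp only [CfsgGolay.repsSO, List.map_cons, List.map_nil, List.cons.injEq, and_true] at hsz
    obtain ⟨h0, h1, h2⟩ := hsz
    have hc' := CfsgGolay.orbUnion_smul hg _ _ _ (fun h hh y hy => CfsgGolay.smul_mem_octads hh hy) hc
    refine ⟨g • (CfsgGolay.toSet 8536111),
      CfsgGolay.smul_mem_octads hg (hmem _ (by simp [CfsgGolay.repsSO])),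
      g • (CfsgGolay.toSet 12880401),
      CfsgGolay.smul_mem_octads hg (hmem _ (by simp [CfsgGolay.repsSO])),
      g • (CfsgGolay.toSet 8683614),
      CfsgGolay.smul_mem_octads hg (hmem _ (by simp [CfsgGolay.repsSO])),
      (CfsgGolay.isConjOf_stab_M24 hg CfsgGolay.S0 _).2.trans h0,
      (CfsgGolay.isConjOf_stab_M24 hg CfsgGolay.S0 _).2.trans h1,
      (CfsgGolay.isConjOf_stab_M24 hg CfsgGolay.S0 _).2.trans h2, ?_⟩
    conv_lhs => rw [hc']
    ext y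
    simp [CfsgGolay.orbUnion, CfsgGolay.repsSO, or_assoc]
  · obtain ⟨hc, hsz, hmem⟩ := CfsgGolay.partST
    simp only [CfsgGolay.repsST, List.map_cons, List.map_nil, List.cons.injEq, and_true] at hsz
    obtain ⟨h0, h1, h2, h3⟩ := hsz
    have hc' := CfsgGolay.orbUnion_smul hg _ _ _ (fun h hh y hy => CfsgGolay.smul_mem_trios hh hy) hc
    refine ⟨g • (CfsgGolay.famSet 3 2402701734698252245440),
      CfsgGolay.smul_mem_trios hg (hmem _ (by simp [CfsgGolay.repsST])),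
      g • (CfsgGolay.famSet 3 2402701777519073634240),
      CfsgGolay.smul_mem_trios hg (hmem _ (by simp [CfsgGolay.repsST])),
      g • (CfsgGolay.famSet 3 3625510608956630328480),
      CfsgGolay.smul_mem_trios hg (hmem _ (by simp [CfsgGolay.repsST])),
      g • (CfsgGolay.famSet 3 2444220172865853083520),
      CfsgGolay.smul_mem_trios hg (hmem _ (by simp [CfsgGolay.repsST])),
      (CfsgGolay.isConjOf_stab_M24 hg CfsgGolay.S0 _).2.trans h0,
      (CfsgGolay.isConjOf_stab_M24 hg CfsgGolay.S0 _).2.trans h1,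
      (CfsgGolay.isConjOf_stab_M24 hg CfsgGolay.S0 _).2.trans h2,
      (CfsgGolay.isConjOf_stab_M24 hg CfsgGolay.S0 _).2.trans h3, ?_⟩
    conv_lhs => rw [hc']
    ext y
    simp [CfsgGolay.orbUnion, CfsgGolay.repsST, or_assoc]

end Cfsg.Agent.S5611
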