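import Cfsg.Statements.S5612
import Cfsg.Agent.Lib.Golay.Coatom

set_option autoImplicit false
open scoped Pointwise
open Cfsg

namespace Cfsg.Agent.S5612

/-- The stabiliser of a trio in the group of the length-24 code has exactly three orbits on the 759 octads, of sizes 3, 84 and 672, and exactly four orbits on the 1771 sextets, of sizes 7, 84, 336 and 1344. -/
theorem result (T : Finset (Finset Cfsg.GolayPt)) (hT : T ∈ Cfsg.trios) : (∃ X₁ ∈ Cfsg.octads, ∃ X₂ ∈ Cfsg.octads, ∃ X₃ ∈ Cfsg.octads, (MulAction.orbit ↥(MulAction.stabilizer Cfsg.M24 T) X₁).ncard = 3 ∧ (MulAction.orbit ↥(MulAction.stabilizer Cfsg.M24 T) X₂).ncard = 84 ∧ (MulAction.orbit ↥(MulAction.stabilizer Cfsg.M24 T) X₃).ncard = 672 ∧ Cfsg.octads = MulAction.orbit ↥(MulAction.stabilizer Cfsg.M24 T) X₁ ∪ MulAction.orbit ↥(MulAction.stabilizer Cfsg.M24 T) X₂ ∪ MulAction.orbit ↥(MulAction.stabilizer Cfsg.M24 T) X₃) ∧ (∃ Y₁ ∈ Cfsg.sextets, ∃ Y₂ ∈ Cfsg.sextets,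 ∃ Y₃ ∈ Cfsg.sextets, ∃ Y₄ ∈ Cfsg.sextets, (MulAction.orbit ↥(MulAction.stabilizer Cfsg.M24 T) Y₁).ncard = 7 ∧ (MulAction.orbit ↥(MulAction.stabilizer Cfsg.M24 T) Y₂).ncard = 84 ∧ (MulAction.orbit ↥(MulAction.stabilizer Cfsg.M24 T) Y₃).ncard = 336 ∧ (MulAction.orbit ↥(MulAction.stabilizer Cfsg.M24 T) Y₄).ncard = 1344 ∧ Cfsg.sextets = MulAction.orbit ↥(MulAction.stabilizer Cfsg.M24 T) Y₁ ∪ MulAction.orbit ↥(MulAction.stabilizer Cfsg.M24 T) Y₂ ∪ MulAction.orbit ↥(MulAction.stabilizer Cfsg.M24 T) Y₃ ∪ MulAction.orbit ↥(MulAction.stabilizer Cfsg.M24 T) Y₄) := by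
  obtain ⟨g, hg, rfl⟩ := CfsgGolay.exists_smul_T0 hT
  refine ⟨?_, ?_⟩
  · obtain ⟨hc, hsz, hmem⟩ := CfsgGolay.partTO
    simp only [CfsgGolay.repsTO, List.map_cons, List.map_nil, List.cons.injEq, and_true] at hsz
    obtain ⟨h0, h1, h2⟩ := hsz
    have hc' := CfsgGolay.orbUnion_smul hg _ _ _ (fun h hh y hy => CfsgGolay.smul_mem_octads hh hy) hc
    refine ⟨g • (CfsgGolay.toSet 8536111),
      CfsgGolay.smul_mem_octads hg (hmem _ (by simp [CfsgGolay.repsTO])),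
      g • (CfsgGolay.toSet 4900873),
      CfsgGolay.smul_mem_octads hg (hmem _ (by simp [CfsgGolay.repsTO])),
      g • (CfsgGolay.toSet 8683614),
      CfsgGolay.smul_mem_octads hg (hmem _ (by simp [CfsgGolay.repsTO])),
      (CfsgGolay.isConjOf_stab_M24 hg CfsgGolay.T0 _).2.trans h0,
      (CfsgGolay.isConjOf_stab_M24 hg CfsgGolay.T0 _).2.trans h1,
      (CfsgGolay.isConjOf_stab_M24 hg CfsgGolay.T0 _).2.trans h2, ?_⟩
    conv_lhs => rw [hc']
    ext y
    simp [CfsgGolay.orbUnion, CfsgGolay.repsTO, or_assoc]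
  · obtain ⟨hc, hsz, hmem⟩ := CfsgGolay.partTS
    simp only [CfsgGolay.repsTS, List.map_cons, List.map_nil, List.cons.injEq, and_true] at hsz
    obtain ⟨h0, h1, h2, h3⟩ := hsz
    have hc' := CfsgGolay.orbUnion_smul hg _ _ _ (fun h hh y hy => CfsgGolay.smul_mem_sextets hh hy) hc
    refine ⟨g • (CfsgGolay.famSet 6 11150423486532947792874164732049264467837760),
      CfsgGolay.smul_mem_sextets hg (hmem _ (by simp [CfsgGolay.repsTS])),
      g • (CfsgGolay.famSet 6 11150382242010895008167239022564679587348520),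
      CfsgGolay.smul_mem_sextets hg (hmem _ (by simp [CfsgGolay.repsTS])),
      g • (CfsgGolay.famSet 6 16728282737589973519941691265235352874451240),
      CfsgGolay.smul_mem_sextets hg (hmem _ (by simp [CfsgGolay.repsTS])),
      g • (CfsgGolay.famSet 6 11150410160827573949350680478152798159274050),
      CfsgGolay.smul_mem_sextets hg (hmem _ (by simp [CfsgGolay.repsTS])),
      (CfsgGolay.isConjOf_stab_M24 hg CfsgGolay.T0 _).2.trans h0,
      (CfsgGolay.isConjOf_stab_M24 hg CfsgGolay.T0 _).2.trans h1,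
      (CfsgGolay.isConjOf_stab_M24 hg CfsgGolay.T0 _).2.trans h2,
      (CfsgGolay.isConjOf_stab_M24 hg CfsgGolay.T0 _).2.trans h3, ?_⟩
    conv_lhs => rw [hc']
    ext y
    simp [CfsgGolay.orbUnion, CfsgGolay.repsTS, or_assoc]

end Cfsg.Agent.S5612
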