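import Cfsg.Statements.S5614
import Cfsg.Agent.Lib.Golay.Hexad

set_option autoImplicit false
open scoped Pointwise
open Cfsg

namespace Cfsg.Agent.S5614

/-- In the group of the length-24 code, the joint stabiliser of two octads meeting in exactly two points is isomorphic to the symmetric group of degree 6. -/
theorem result (o o' : Finset Cfsg.GolayPt) (ho : o ∈ Cfsg.octads) (ho' : o' ∈ Cfsg.octads) (h₂ : (o ∩ o').card = 2) : Nonempty (↥(MulAction.stabilizer Cfsg.M24 o ⊓ MulAction.stabilizer Cfsg.M24 o') ≃* Equiv.Perm (Fin 6)) := by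
  set S := MulAction.stabilizer Cfsg.M24 o ⊓ MulAction.stabilizer Cfsg.M24 o' with hS
  have hmap : S.map Cfsg.M24.subtype = CfsgGolay.stabM o ⊓ MulAction.stabilizer (Equiv.Perm Cfsg.GolayPt) o' := by
    rw [hS, CfsgGolay.map_inf_subtype, CfsgGolay.map_stab, CfsgGolay.map_stab]
    exact le_antisymm (inf_le_inf_left _ inf_le_right) (le_inf inf_le_left (le_inf (inf_le_left.trans inf_le_left) inf_le_right))
  have hE : (o \ o').card = 6 := by
    rw [Finset.card_sdiff, Finset.inter_comm, h₂, CfsgGolay.card_of_mem_octads ho]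
  have hc : Nat.card ↥(CfsgGolay.stabM o ⊓ MulAction.stabilizer (Equiv.Perm Cfsg.GolayPt) o') = 720 := by
    have h := CfsgGolay.joint_octad_card ho ho' (v := 2) (n := 448) (by simp) h₂
    rw [← hS, CfsgGolay.card_sub hmap] at h
    omega
  obtain ⟨e⟩ := CfsgGolay.equiv_perm_six (S := CfsgGolay.stabM o ⊓ MulAction.stabilizer (Equiv.Perm Cfsg.GolayPt) o') hE (fun g hg => by rw [Finset.smul_finset_sdiff, show g • o = o from hg.1.2, show g • o' = o' from hg.2])
    (fun g hg hfix => CfsgGolay.octad_pair2_fix_trivial ho ho' h₂ hg.1.1 hg.2 hfix) hc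
  exact ⟨((S.equivMapOfInjective _ Subtype.val_injective).trans (MulEquiv.subgroupCongr hmap)).trans e⟩

end Cfsg.Agent.S5614
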