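import Cfsg.Statements.S5615
import Cfsg.Agent.Lib.Golay.OctStab

set_option autoImplicit false
open scoped Pointwise
open Cfsg

namespace Cfsg.Agent.S5615

/-- An octad of the length-24 code lies in exactly 15 trios; the stabiliser of the octad in the code's group acts doubly transitively on these 15 trios, and the kernel of this action is the pointwise stabiliser of the octad. -/
theorem result (o : Finset Cfsg.GolayPt) (ho : o ∈ Cfsg.octads) : {T : Finset (Finset Cfsg.GolayPt) | T ∈ Cfsg.trios ∧ o ∈ T}.ncard = 15 ∧ (∀ T₁ T₂ T₁' T₂' : Finset (Finset Cfsg.GolayPt), T₁ ∈ Cfsg.trios → T₂ ∈ Cfsg.trios → T₁' ∈ Cfsg.trios → T₂' ∈ Cfsg.trios → o ∈ T₁ → o ∈ T₂ → o ∈ T₁' → o ∈ T₂' → T₁ ≠ T₂ → T₁' ≠ T₂' → ∃ g ∈ Cfsg.M24, g • o = o ∧ g • T₁ = T₁' ∧ g • T₂ = T₂') ∧ ∀ g ∈ Cfsg.M24, g • o = o → ((∀ T ∈ Cfsg.trios, o ∈ T → g • T = T) ↔ ∀ p ∈ o, g p = p) := by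
  classical
  obtain ⟨g, hg, rfl⟩ := CfsgGolay.exists_smul_O0 ho
  obtain ⟨hset, hcard⟩ := CfsgGolay.trios_through_O0
  have hpull : ∀ T : Finset (Finset Cfsg.GolayPt), T ∈ Cfsg.trios ∧ g • CfsgGolay.O0 ∈ T ↔
      g⁻¹ • T ∈ MulAction.orbit (CfsgGolay.stabM CfsgGolay.O0) CfsgGolay.T0 := by
    intro T
    rw [← hset]
    constructor
    · rintro ⟨hT, hO⟩
      refine ⟨CfsgGolay.smul_mem_trios (inv_mem hg) hT, ?_⟩
      have := Finset.smul_mem_smul_finset (a := g⁻¹) hO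
      rwa [inv_smul_smul] at this
    · rintro ⟨hT, hO⟩
      have h1 := CfsgGolay.smul_mem_trios hg hT
      have h2 := Finset.smul_mem_smul_finset (a := g) hO
      rw [smul_inv_smul] at h1 h2
      exact ⟨h1, h2⟩
  refine ⟨?_, ?_, ?_⟩
  · have himg : {T : Finset (Finset Cfsg.GolayPt) | T ∈ Cfsg.trios ∧ g • CfsgGolay.O0 ∈ T} =
        (fun T => g • T) '' MulAction.orbit (CfsgGolay.stabM CfsgGolay.O0) CfsgGolay.T0 := by
      ext T
      simp only [Set.mem_ofPred_eq, hpull, Set.mem_image]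
      exact ⟨fun h => ⟨_, h, smul_inv_smul g T⟩, fun ⟨U, hU, he⟩ => he ▸ (by rw [inv_smul_smul]; exact hU)⟩
    rw [himg, (MulAction.injective g).injOn.ncard_image, hcard]
  · intro A B A' B' hA hB hA' hB' hoA hoB hoA' hoB' hne hne'
    obtain ⟨a, ha, ha1, ha2⟩ := CfsgGolay.trios_pair_O0 ((hpull A).mp ⟨hA, hoA⟩) ((hpull B).mp ⟨hB, hoB⟩)
      (fun h => hne (smul_left_cancel g⁻¹ h))
    obtain ⟨b, hb, hb1, hb2⟩ := CfsgGolay.trios_pair_O0 ((hpull A').mp ⟨hA', hoA'⟩) ((hpull B').mp ⟨hB', hoB'⟩)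
      (fun h => hne' (smul_left_cancel g⁻¹ h))
    obtain ⟨haM, haO⟩ := CfsgGolay.mem_stabM.mp ha
    obtain ⟨hbM, hbO⟩ := CfsgGolay.mem_stabM.mp hb
    refine ⟨g * (b * a⁻¹) * g⁻¹, mul_mem (mul_mem hg (mul_mem hbM (inv_mem haM))) (inv_mem hg), ?_, ?_, ?_⟩
    · rw [mul_smul, inv_smul_smul, mul_smul, mul_smul, inv_smul_eq_iff.mpr haO.symm, hbO]
    · rw [mul_smul, ← ha1, mul_smul, mul_smul, inv_smul_smul, hb1, smul_inv_smul]
    · rw [mul_smul, ← ha2, mul_smul, mul_smul, inv_smul_smul, hb2, smul_inv_smul]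
  · intro k hk hko
    have hk' : g⁻¹ * k * g ∈ CfsgGolay.stabM CfsgGolay.O0 := by
      refine CfsgGolay.mem_stabM.mpr ⟨mul_mem (mul_mem (inv_mem hg) hk) hg, ?_⟩
      rw [mul_smul, mul_smul, hko, inv_smul_smul]
    refine Iff.trans ?_ ((CfsgGolay.trio_kernel_O0 hk').trans ?_)
    · constructor
      · intro h U hU
        rw [← inv_smul_smul g U, ← hpull] at hU
        rw [mul_smul, mul_smul, h _ hU.1 hU.2, inv_smul_smul]
      · intro h T hT hO
        have := h _ ((hpull T).mp ⟨hT, hO⟩)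
        rw [mul_smul, mul_smul, smul_inv_smul, smul_left_cancel_iff] at this
        exact this
    · have hm : g⁻¹ * k * g ∈ Cfsg.M24 := mul_mem (mul_mem (inv_mem hg) hk) hg
      simp only [CfsgGolay.fixOct, Subgroup.mem_inf, mem_fixingSubgroup_iff, Finset.mem_coe, hm, true_and]
      constructor
      · intro h p hp
        obtain ⟨q, hq, rfl⟩ := Finset.mem_smul_finset.mp hp
        have := congrArg g (h q hq)
        simpa using this
      · intro h q hq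
        have := h (g q) (Finset.mem_smul_finset.mpr ⟨q, hq, rfl⟩)
        simp [this]

end Cfsg.Agent.S5615
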