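import Cfsg.Statements.S5616
import Cfsg.Agent.Lib.Golay.ClassT

set_option autoImplicit false
open scoped Pointwise
open Cfsg

namespace Cfsg.Agent.S5616

/-- Let Y be a set of 3 of the 24 points. The sextets of the length-24 code whose tetrads meeting Y number 1, 2 or 3 are respectively 21, 630 and 1120 in number, and two sextets with the same number of tetrads meeting Y are conjugate under the setwise stabiliser of Y in the code's group. -/
theorem result (Y : Finset Cfsg.GolayPt) (hY : Y.card = 3) : {S : Finset (Finset Cfsg.GolayPt) | S ∈ Cfsg.sextets ∧ (S.filter fun t => (t ∩ Y).Nonempty).card = 1}.ncard = 21 ∧ {S : Finset (Finset Cfsg.GolayPt) | S ∈ Cfsg.sextets ∧ (S.filter fun t => (t ∩ Y).Nonempty).card = 2}.ncard = 630 ∧ {S : Finset (Finset Cfsg.GolayPt) | S ∈ Cfsg.sextets ∧ (S.filter fun t => (t ∩ Y).Nonempty).card = 3}.ncard = 1120 ∧ ∀ S S' : Finset (Finset Cfsg.GolayPt), S ∈ Cfsg.sextets → S' ∈ Cfsg.sextets → (S.filter fun t => (t ∩ Y).Nonempty).card = (S'.filter fun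 t => (t ∩ Y).Nonempty).card → ∃ g ∈ Cfsg.M24, g • Y = Y ∧ g • S = S' := by
  obtain ⟨g, hg, rfl⟩ := CfsgGolay.exists_smul_set (s := CfsgGolay.P30) (t := Y) (by omega) (by rw [hY]; exact CfsgGolay.card_P30)
  have hmeet : ∀ S : Finset (Finset Cfsg.GolayPt), ((g • S).filter fun t => (t ∩ g • CfsgGolay.P30).Nonempty).card = CfsgGolay.meetP30 S := fun S => by
    show ((S.image (g • ·)).filter fun t => (t ∩ g • CfsgGolay.P30).Nonempty).card = _
    rw [CfsgGolay.meetP30, Finset.filter_image, Finset.card_image_of_injective _ (MulAction.injective g)]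
    congr 1
    refine Finset.filter_congr fun t _ => ?_
    rw [← Finset.smul_finset_inter, Finset.smul_finset_nonempty]
  refine ⟨?_, ?_, ?_, fun S S' hS hS' h => ?_⟩
  · refine (CfsgGolay.ncard_translate g fun y => ?_).trans (CfsgGolay.clsR6.count (1, 21) (by simp))
    simp only [Set.mem_ofPred_eq, and_true, hmeet]
    exact and_congr_left' ⟨fun h => by simpa using CfsgGolay.smul_mem_sextets (inv_mem hg) h, CfsgGolay.smul_mem_sextets hg⟩
  · refine (CfsgGolay.ncard_translate g fun y => ?_).trans (CfsgGolay.clsR6.count (2, 630) (by simp))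
    simp only [Set.mem_ofPred_eq, and_true, hmeet]
    exact and_congr_left' ⟨fun h => by simpa using CfsgGolay.smul_mem_sextets (inv_mem hg) h, CfsgGolay.smul_mem_sextets hg⟩
  · refine (CfsgGolay.ncard_translate g fun y => ?_).trans (CfsgGolay.clsR6.count (3, 1120) (by simp))
    simp only [Set.mem_ofPred_eq, and_true, hmeet]
    exact and_congr_left' ⟨fun h => by simpa using CfsgGolay.smul_mem_sextets (inv_mem hg) h, CfsgGolay.smul_mem_sextets hg⟩
  · obtain ⟨k, hk, he⟩ := CfsgGolay.trans_translate (CfsgGolay.clsR6.trans (g⁻¹ • S) ⟨CfsgGolay.smul_mem_sextets (inv_mem hg) hS, trivial⟩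
      (g⁻¹ • S') ⟨CfsgGolay.smul_mem_sextets (inv_mem hg) hS', trivial⟩ (by rw [← hmeet, ← hmeet, smul_inv_smul, smul_inv_smul]; exact h))
    exact ⟨g * k * g⁻¹, CfsgGolay.conj_mem_M24 CfsgGolay.gR_ok hg hk,
      CfsgGolay.conj_fix (x := CfsgGolay.P30) (CfsgGolay.Gr_le_stab (K := CfsgGolay.maskK) (o := 8388611) (by show _ < 2 ^ 24; norm_num) CfsgGolay.fixR hk), he⟩

end Cfsg.Agent.S5616
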