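import Cfsg.Statements.S5617
import Cfsg.Agent.Lib.Golay.Small

set_option autoImplicit false
open scoped Pointwise
open Cfsg

namespace Cfsg.Agent.S5617

/-- The setwise stabiliser, in the group of the length-24 code, of a complementary pair of dodecads has exactly three orbits on the 1771 sextets, of sizes 396, 495 and 880. -/
theorem result (d : Finset Cfsg.GolayPt) (hd : d ∈ Cfsg.dodecads) : ∃ X₁ ∈ Cfsg.sextets, ∃ X₂ ∈ Cfsg.sextets, ∃ X₃ ∈ Cfsg.sextets, (MulAction.orbit ↥(MulAction.stabilizer Cfsg.M24 ({d, Finset.univ \ d} : Finset (Finset Cfsg.GolayPt))) X₁).ncard = 396 ∧ (MulAction.orbit ↥(MulAction.stabilizer Cfsg.M24 ({d, Finset.univ \ d} : Finset (Finset Cfsg.GolayPt))) X₂).ncard = 495 ∧ (MulAction.orbit ↥(MulAction.stabilizer Cfsg.M24 ({d, Finset.univ \ d} : Finset (Finset Cfsg.GolayPt))) X₃).ncard = 880 ∧ Cfsg.sextets = MulAction.orbit ↥(MulAction.stabilizer Cfsg.M24 ({d, Finset.univ \ d} : Finset (Finset Cfsg.GolayPt))) X₁ ∪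 MulAction.orbit ↥(MulAction.stabilizer Cfsg.M24 ({d, Finset.univ \ d} : Finset (Finset Cfsg.GolayPt))) X₂ ∪ MulAction.orbit ↥(MulAction.stabilizer Cfsg.M24 ({d, Finset.univ \ d} : Finset (Finset Cfsg.GolayPt))) X₃ := by
  obtain ⟨g, hg, rfl⟩ := CfsgGolay.exists_smul_D0 hd
  rw [← Finset.compl_eq_univ_sdiff, ← CfsgGolay.smul_W0]
  obtain ⟨hc, hsz, hmem⟩ := CfsgGolay.partWS
  simp only [CfsgGolay.repsWS, List.map_cons, List.map_nil, List.cons.injEq, and_true] at hsz
  obtain ⟨h0, h1, h2⟩ := hsz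
  have hc' := CfsgGolay.orbUnion_smul hg _ _ _ (fun h hh y hy => CfsgGolay.smul_mem_sextets hh hy) hc
  refine ⟨g • (CfsgGolay.famSet 6 12544515105770323174495171413611522788788240),
    CfsgGolay.smul_mem_sextets hg (hmem _ (by simp [CfsgGolay.repsWS])),
    g • (CfsgGolay.famSet 6 11150447368461937531538458864133443391074305),
    CfsgGolay.smul_mem_sextets hg (hmem _ (by simp [CfsgGolay.repsWS])),
    g • (CfsgGolay.famSet 6 11150382242010895008167239022564679587348520),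
    CfsgGolay.smul_mem_sextets hg (hmem _ (by simp [CfsgGolay.repsWS])),
    (CfsgGolay.isConjOf_stab_M24 hg CfsgGolay.W0 _).2.trans h0,
    (CfsgGolay.isConjOf_stab_M24 hg CfsgGolay.W0 _).2.trans h1,
    (CfsgGolay.isConjOf_stab_M24 hg CfsgGolay.W0 _).2.trans h2, ?_⟩
  conv_lhs => rw [hc']
  ext y
  simp [CfsgGolay.orbUnion, CfsgGolay.repsWS, or_assoc]

end Cfsg.Agent.S5617
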