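import Cfsg.Statements.S5618
import Cfsg.Agent.Lib.Golay.Hexad

set_option autoImplicit false
open scoped Pointwise
open Cfsg

namespace Cfsg.Agent.S5618

/-- For a dodecad d of the length-24 code and a hexad C on it (a 6-point intersection of d with an octad): the joint stabiliser of d and C in the code's group is isomorphic to the symmetric group of degree 6, and it acts faithfully both on the six points of C and on the six points of d outside C. -/
theorem result (d : Finset Cfsg.GolayPt) (hd : d ∈ Cfsg.dodecads) (C : Finset Cfsg.GolayPt) (hC : C ∈ Cfsg.hexadsOn d) : Nonempty (↥(MulAction.stabilizer Cfsg.M24 d ⊓ MulAction.stabilizer Cfsg.M24 C) ≃* Equiv.Perm (Fin 6)) ∧ (∀ g ∈ MulAction.stabilizer Cfsg.M24 d ⊓ MulAction.stabilizer Cfsg.M24 C, (∀ p ∈ C, ((g : ↥Cfsg.M24) : Equiv.Perm Cfsg.GolayPt) p = p) → g = 1) ∧ ∀ g ∈ MulAction.stabilizer Cfsg.M24 d ⊓ MulAction.stabilizer Cfsg.M24 C, (∀ p ∈ d \ C, ((g : ↥Cfsg.M24) : Equiv.Perm Cfsg.GolayPt)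 p = p) → g = 1 := by
  obtain ⟨hC6, o, ho, hoC⟩ := hC
  have h6 : (o ∩ d).card = 6 := hoC.symm ▸ hC6
  set S := MulAction.stabilizer Cfsg.M24 d ⊓ MulAction.stabilizer Cfsg.M24 C with hS
  have hmap : S.map Cfsg.M24.subtype = CfsgGolay.stabM d ⊓ MulAction.stabilizer (Equiv.Perm Cfsg.GolayPt) C := by
    rw [hS, CfsgGolay.map_inf_subtype, CfsgGolay.map_stab, CfsgGolay.map_stab]
    exact le_antisymm (inf_le_inf_left _ inf_le_right) (le_inf inf_le_left (le_inf (inf_le_left.trans inf_le_left) inf_le_right))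
  refine ⟨?_, ?_, ?_⟩
  · obtain ⟨e⟩ := CfsgGolay.equiv_perm_six (S := CfsgGolay.stabM d ⊓ MulAction.stabilizer (Equiv.Perm Cfsg.GolayPt) C) hC6
      (fun g hg => hg.2) (fun g hg hfix => CfsgGolay.hexad_fix_trivial hd ho h6 hg.1.1 hg.1.2 (hoC.symm ▸ hfix))
      (by rw [CfsgGolay.hexad_stab_eq ho hoC hC6]; exact CfsgGolay.card_stab_hexad hd ho h6)
    exact ⟨((S.equivMapOfInjective _ Subtype.val_injective).trans (MulEquiv.subgroupCongr hmap)).trans e⟩
  · intro g hg hfix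
    exact Subtype.ext (CfsgGolay.hexad_fix_trivial hd ho h6 g.2 hg.1 (hoC.symm ▸ hfix))
  · intro g hg hfix
    obtain ⟨o', ho', ho'eq⟩ := CfsgGolay.hexad_compl hd ho h6
    refine Subtype.ext (CfsgGolay.hexad_fix_trivial hd ho' ?_ g.2 hg.1 (by rw [ho'eq, hoC]; exact hfix))
    rw [ho'eq, hoC, Finset.card_sdiff_of_subset (hoC ▸ Finset.inter_subset_right), hC6, hd.2]

end Cfsg.Agent.S5618
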