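import Cfsg.Statements.S5625
import Cfsg.Agent.Lib.SteinerCount

set_option autoImplicit false
open Cfsg

namespace Cfsg.Agent.S5625

/-- In any Steiner system S(5, 8, 24) and for any set Y of three points, the blocks meeting Y in exactly 3, 2, 1 and 0 points number 21, 168, 360 and 210 respectively (so there are 759 blocks in all). -/
theorem result (α : Type*) [Fintype α] [DecidableEq α] (hα : Fintype.card α = 24) (B : Set (Finset α)) (hB : Cfsg.IsSteinerSystem 5 8 B) (Y : Finset α) (hY : Y.card = 3) : {b : Finset α | b ∈ B ∧ (b ∩ Y).card = 3}.ncard = 21 ∧ {b : Finset α | b ∈ B ∧ (b ∩ Y).card = 2}.ncard = 168 ∧ {b : Finset α | b ∈ B ∧ (b ∩ Y).card = 1}.ncard = 360 ∧ {b : Finset α | b ∈ B ∧ (b ∩ Y).card = 0}.ncard = 210 := by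
  have key := fun (i L : ℕ) (hi : i ≤ 3) (hL : L * Nat.choose (8 - i) (5 - i) = Nat.choose (24 - i) (5 - i)) =>
    CfsgSteiner.moment_split hB hα (by norm_num) (S := ∅) (A := Y) (Finset.disjoint_empty_left _) ∅
      (Finset.empty_subset _) (m := 4) (i := i) (L := L)
      (fun d _ _ => by have := Finset.card_le_card (Finset.inter_subset_right : d ∩ Y ⊆ Y); omega)
      (by simp; omega) (by simpa using hL)
  have e0 := key 0 759 (by norm_num) (by decide)
  have e1 := key 1 253 (by norm_num) (by decide)
  have e2 := key 2 77 (by norm_num) (by decide)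
  have e3 := key 3 21 (by norm_num) (by decide)
  simp [-Finset.card_eq_zero, Finset.sum_range_succ, hY, Nat.choose_eq_descFactorial_div_factorial, Nat.descFactorial, Nat.factorial] at e0 e1 e2 e3
  simp only [CfsgSteiner.ncard_setOf]
  omega

end Cfsg.Agent.S5625
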