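import Cfsg.Statements.S5632
import Cfsg.Agent.Lib.MaxSub.NotMaximal

set_option autoImplicit false
open Cfsg

namespace Cfsg.Agent.S5632

/-- For a finite field F and subspaces 0 < W < U of F^n with dim W + dim U = n, the elements of SL_n(F) stabilising both W and U form a subgroup that is not maximal in SL_n(F): some subgroup lies strictly between it and SL_n(F). -/
theorem result {F : Type*} [Field F] [Fintype F] (n : ℕ) (W U : Submodule F (Fin n → F)) (hW0 : W ≠ ⊥) (hWU : W < U) (hdim : Module.finrank F W + Module.finrank F U = n) : ∃ K : Subgroup (Matrix.GeneralLinearGroup (Fin n) F), Cfsg.Geo.subspaceStabilizer W ⊓ Cfsg.Geo.subspaceStabilizer U ⊓ Cfsg.Geo.specialLinear (Fin n) F < K ∧ K < Cfsg.Geo.specialLinear (Fin n) F := by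
  obtain ⟨u, hu, huW⟩ := SetLike.exists_of_lt hWU
  obtain ⟨w, hw, hw0⟩ := Submodule.exists_mem_ne_zero_of_ne_bot hW0
  have hUtop : U ≠ ⊤ := by
    intro e
    subst e
    rw [finrank_top, Module.finrank_fin_fun] at hdim
    exact hW0 (Submodule.finrank_eq_zero.mp (by omega))
  obtain ⟨v, -, hv⟩ := SetLike.exists_of_lt (lt_top_iff_ne_top.mpr hUtop)
  refine CfsgLib.MaxSub.stabilizer_pair_not_maximal ⟨u, v, hu, hv, fun h => ?_⟩
    ⟨w, u, hw, huW, CfsgLib.MaxSub.not_mem_bot_sup_span hw hw0 huW⟩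
  obtain ⟨a, ha, b, hb, e⟩ := Submodule.mem_sup.mp h
  obtain ⟨c, rfl⟩ := Submodule.mem_span_singleton.mp hb
  by_cases hc : c = 0
  · rw [hc, zero_smul, add_zero] at e
    exact huW (e ▸ ha)
  · have hcv : c • v ∈ U := by
      rw [eq_sub_of_add_eq' e]
      exact U.sub_mem hu (hWU.le ha)
    exact hv (by simpa [smul_smul, inv_mul_cancel₀ hc] using U.smul_mem c⁻¹ hcv)

end Cfsg.Agent.S5632
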