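import Cfsg.Statements.S5633
import Cfsg.Agent.Lib.MaxSub.NotMaximal

set_option autoImplicit false
open Cfsg

namespace Cfsg.Agent.S5633

/-- For a finite field F and complementary non-zero subspaces W ⊕ U = F^n with dim W < dim U, the elements of SL_n(F) stabilising both W and U form a subgroup that is not maximal in SL_n(F): some subgroup lies strictly between it and SL_n(F). -/
theorem result {F : Type*} [Field F] [Fintype F] (n : ℕ) (W U : Submodule F (Fin n → F)) (hW0 : W ≠ ⊥) (hWU : W ⊓ U = ⊥) (hWU' : W ⊔ U = ⊤) (hdim : Module.finrank F W < Module.finrank F U) : ∃ K : Subgroup (Matrix.GeneralLinearGroup (Fin n) F), Cfsg.Geo.subspaceStabilizer W ⊓ Cfsg.Geo.subspaceStabilizer U ⊓ Cfsg.Geo.specialLinear (Fin n) F < K ∧ K < Cfsg.Geo.specialLinear (Fin n) F := by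
  obtain ⟨w, hw, hw0⟩ := Submodule.exists_mem_ne_zero_of_ne_bot hW0
  have hU0 : U ≠ ⊥ := by
    intro e
    rw [e, finrank_bot] at hdim
    exact absurd hdim (Nat.not_lt_zero _)
  obtain ⟨u, hu, hu0⟩ := Submodule.exists_mem_ne_zero_of_ne_bot hU0
  have hd := disjoint_iff.mpr hWU
  have hwU : w ∉ U := fun h => hw0 (Submodule.disjoint_def.mp hd w hw h)
  have huW : u ∉ W := fun h => hu0 (Submodule.disjoint_def.mp hd u h hu)
  refine CfsgLib.MaxSub.stabilizer_pair_not_maximal ⟨u, w, hu, hwU, fun h => huW ?_⟩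
    ⟨w, u, hw, huW, CfsgLib.MaxSub.not_mem_bot_sup_span hw hw0 huW⟩
  rwa [sup_eq_left.mpr ((Submodule.span_singleton_le_iff_mem w W).mpr hw)] at h

end Cfsg.Agent.S5633
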