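import Cfsg.Statements.S5644
import Cfsg.Agent.Lib.MaxSub.FormMaximalSLOrth
import Cfsg.Agent.Lib.MaxSub.SubspaceMaximalOrthGL

set_option autoImplicit false
open Cfsg

namespace Cfsg.Agent.S5644

/-- For a finite field F of odd order and n ≥ 13, let Q be a non-degenerate quadratic form on F^n (its polar form is non-degenerate). Then the elements of SL_n(F) that are similarities of Q (Q(gv) = c Q(v) for a non-zero scalar c depending on g) form a maximal subgroup of SL_n(F). -/
theorem result {F : Type*} [Field F] [Fintype F] (n : ℕ) (hn : 13 ≤ n) (hodd : Odd (Fintype.card F)) (Q : (Fin n → F) → F) (hQ : Cfsg.Geo.IsNondegenerateQuadraticForm Q) : Cfsg.Geo.IsMaximalIn (Cfsg.Geo.specialLinear (Fin n) F) (Cfsg.Geo.quadSimilarityGroup Q ⊓ Cfsg.Geo.specialLinear (Fin n) F) := by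
  obtain ⟨R, hR, -⟩ := CfsgLib.MaxSub.Orth.exists_form hQ
  refine CfsgLib.MaxSub.sl_quadratic_maximal (by omega) (fun h => ?_) hQ R hR
  have h2 : ringChar F = 2 := by
    have hd : ringChar F ∣ 2 := ringChar.dvd (by exact_mod_cast h)
    exact ((Nat.prime_two.eq_one_or_self_of_dvd _ hd).resolve_left
      (CharP.ringChar_ne_one (R := F)))
  exact Nat.not_even_iff_odd.2 hodd (Nat.even_iff.2 (FiniteField.even_card_of_char_two h2))


end Cfsg.Agent.S5644
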