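import Cfsg.Statements.S5652
import Cfsg.Agent.Lib.MaxSub.SubspaceMaximalOrthGL
import Cfsg.Agent.Lib.Aschbacher.SympProper

set_option autoImplicit false
open Cfsg

namespace Cfsg.Agent.S5652

/-- For a finite field F of characteristic two and m ≥ 7, let Q be a non-degenerate quadratic form on F^(2m) whose polar form is the standard alternating form. Then the elements of Sp_2m(F) that are similarities of Q (they are exactly the isometries of Q) form a maximal subgroup of Sp_2m(F). -/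
theorem result {F : Type*} [Field F] [Fintype F] (m : ℕ) (hm : 7 ≤ m) (heven : ¬ Odd (Fintype.card F)) (Q : (Fin m ⊕ Fin m → F) → F) (hQ : Cfsg.Geo.IsNondegenerateQuadraticForm Q) (hpol : ∀ u v, QuadraticMap.polar Q u v = Cfsg.sympForm m F u v) : Cfsg.Geo.IsMaximalIn (Cfsg.spGL m F) (Cfsg.Geo.quadSimilarityGroup Q ⊓ Cfsg.spGL m F) := by
  classical
  open CfsgLib.MaxSub.Orth in
  open CfsgLib.Aschbacher in
  open Cfsg.Geo in
  open QuadraticMap in
  open Matrix in
  obtain ⟨R, rfl, hR⟩ := exists_form hQ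
  have hc2 : ringChar F = 2 := by
    by_contra h
    exact heven (Nat.odd_iff.2 (FiniteField.odd_card_of_char_ne_two h))
  haveI : CharP F 2 := hc2 ▸ ringChar.charP F
  have h2 : ∀ a : F, a + a = 0 := CharTwo.add_self_eq_zero
  have hf := isRefl_sympForm (F := F) m
  have hdim : Module.finrank F (Fin m ⊕ Fin m → F) = 2 * m := by
    rw [Module.finrank_fintype_fun_eq_card, Fintype.card_sum, Fintype.card_fin]; omega
  refine ⟨lt_of_le_of_ne inf_le_right fun e =>
    spGL_not_le_quadSimilarityGroup (by omega) hQ.smul hpol (e ▸ inf_le_left), fun K hK hKG => ?_⟩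
  by_cases hle : K ≤ quadSimilarityGroup ⇑R
  · exact Or.inl (le_antisymm (le_inf hle hKG) hK)
  obtain ⟨g, hg, hgR⟩ := Set.not_subset.1 hle
  refine Or.inr (le_antisymm hKG (CfsgLib.MaxSub.spGL_le_of_centre ?_))
  -- isometries lie in `K`
  have hiso : ∀ k : GL (Fin m ⊕ Fin m) F, (∀ x, R (k.1 *ᵥ x) = R x) → k ∈ K := fun k hk =>
    hK ⟨⟨1, fun v => by rw [Units.val_one, one_mul]; exact hk v⟩, fun u v => by
      show sympForm m F (k.1 *ᵥ u) (k.1 *ᵥ v) = sympForm m F u v
      rw [← hpol, ← hpol, QuadraticMap.polar, ← Matrix.mulVec_add, hk, hk, hk]; rfl⟩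
  have hmove : ∀ x y, x ≠ 0 → y ≠ 0 → R x = R y →
      ∃ h : GL (Fin m ⊕ Fin m) F, (∀ z, R (h.1 *ᵥ z) = R z) ∧ h.1 *ᵥ x = y := fun x y hx hy hxy => by
    obtain ⟨σ, hσ, -, hσx⟩ := CfsgLib.WittExtension.quad_move R hR ⊥
      (fun h => hx ((Submodule.mem_bot F).1 h)) (fun h => hy ((Submodule.mem_bot F).1 h)) hxy
      (fun z hz => by rw [(Submodule.mem_bot F).1 hz, polar_zero_left, polar_zero_left])
    exact ⟨toMat R ⟨σ, hσ⟩, fun z => by rw [toMat_mulVec]; exact hσ z, by rw [toMat_mulVec]; exact hσx⟩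
  have hkB : ∀ k ∈ K, ∀ u v, polar R (k.1 *ᵥ u) (k.1 *ᵥ v) = polar R u v := fun k hk u v => by
    rw [hpol, hpol]; exact hKG hk u v
  have hcan : ∀ (k : GL (Fin m ⊕ Fin m) F) x, k.1 *ᵥ ((k⁻¹).1 *ᵥ x) = x := fun k x => by
    rw [Matrix.mulVec_mulVec, Units.mul_inv, Matrix.one_mulVec]
  let D : (Fin m ⊕ Fin m → F) → Prop := fun d =>
    ∃ k ∈ K, ∀ x, R (k.1 *ᵥ x) = R x + polar R x d ^ 2
  have D0 : D 0 := ⟨1, one_mem K, fun x => by
    rw [Units.val_one, Matrix.one_mulVec, polar_zero_right]; ring⟩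
  have Dlevel : ∀ d e, D d → d ≠ 0 → e ≠ 0 → R d = R e → D e := fun d e ⟨k, hk, hkd⟩ hd he hde => by
    obtain ⟨h, hh, hhd⟩ := hmove e d he hd hde.symm
    refine ⟨k * h, mul_mem hk (hiso h hh), fun x => ?_⟩
    rw [Units.val_mul, ← Matrix.mulVec_mulVec, hkd, hh, ← hkB h (hiso h hh) x e, hhd]
  have Dadd : ∀ d y, D d → d ≠ 0 → y ≠ 0 → R y + polar R y d ^ 2 = R d → D (d + y) := by
    intro d y hDd hd hy hyd
    obtain ⟨k, hk, hkd⟩ := hDd
    have hky : k.1 *ᵥ y ≠ 0 := fun h => hy (Matrix.mulVec_injective_iff_isUnit.2 k.isUnit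
      (by rw [h, Matrix.mulVec_zero]))
    obtain ⟨k', hk', hkd'⟩ := Dlevel d (k.1 *ᵥ y) ⟨k, hk, hkd⟩ hd hky (by rw [hkd, hyd])
    refine ⟨k' * k, mul_mem hk' hk, fun x => ?_⟩
    rw [Units.val_mul, ← Matrix.mulVec_mulVec, hkd', hkd, hkB k hk, polar_add_right, CharTwo.add_sq]
    ring
  -- the vector of `g`
  obtain ⟨d, hd, hDd⟩ : ∃ d, d ≠ 0 ∧ D d := by
    let s := (frobeniusEquiv F 2).symm
    have hs : ∀ a, s a ^ 2 = a := fun a => frobeniusEquiv_symm_pow_p F 2 a
    have hs2 : ∀ a, s (a ^ 2) = a := fun a => (frobeniusEquiv F 2).symm_apply_apply a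
    let l : (Fin m ⊕ Fin m → F) →ₗ[F] F :=
      { toFun := fun x => s (R (g.1 *ᵥ x) + R x)
        map_add' := fun x y => by
          rw [← map_add s, Matrix.mulVec_add, QuadraticMap.map_add (⇑R) (g.1 *ᵥ x), QuadraticMap.map_add (⇑R) x, hkB g hg]
          congr 1
          linear_combination h2 (polar R x y)
        map_smul' := fun c x => by
          rw [Matrix.mulVec_smul, QuadraticMap.map_smul, QuadraticMap.map_smul, smul_eq_mul,
            smul_eq_mul, ← mul_add, map_mul, ← _root_.sq, hs2, RingHom.id_apply, smul_eq_mul] }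
    have hl : ∀ x, R (g.1 *ᵥ x) = R x + l x ^ 2 := fun x => by
      show _ = _ + s (R (g.1 *ᵥ x) + R x) ^ 2
      rw [hs]; linear_combination -(h2 (R x))
    set d := (LinearMap.BilinForm.toDual (polarBilin R) hR).symm l with hd'
    have hld : ∀ x, polar R x d = l x := fun x => by
      rw [polar_comm, hd']
      exact LinearMap.BilinForm.apply_toDual_symm_apply (hB := hR) l x
    refine ⟨d, fun h0 => hgR ⟨1, fun v => ?_⟩, g, hg, fun x => by rw [hl, hld]⟩
    rw [Units.val_one, one_mul, hl, ← hld, h0, polar_zero_right]; ring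
  -- a singular vector
  obtain ⟨z, hz, hzR, hDz⟩ : ∃ z, z ≠ 0 ∧ R z = 0 ∧ D z := by
    obtain ⟨s, hs, hs0, hsR⟩ := exists_singular_in (Q := R)
      (S := LinearMap.ker (polarBilin R d)) (by
        have := LinearMap.finrank_range_add_finrank_ker (polarBilin R d)
        have h1 := Submodule.finrank_le (LinearMap.range (polarBilin R d))
        rw [Module.finrank_self] at h1
        omega)
    have hds : polar R d s = 0 := hs
    by_cases hy : d + s = 0
    · refine ⟨d, hd, ?_, hDd⟩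
      rw [eq_neg_of_add_eq_zero_left hy, QuadraticMap.map_neg, hsR]
    refine ⟨s, hs0, hsR, ?_⟩
    have := Dadd d (d + s) hDd hd hy (by
      rw [QuadraticMap.map_add (⇑R) d s, hsR, hds, polar_add_left, polar_comm R s d, hds, QuadraticMap.polar_self]
      linear_combination (R d * R d) * 0 + (2 * R d * R d) * h2 1)
    rwa [← add_assoc, show d + d = 0 from funext fun i => h2 (d i), zero_add] at this
  -- all the levels
  have Dall : ∀ e b, R e = b + b ^ 2 → D e := fun e b he => by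
    by_cases he0 : e = 0
    · rw [he0]; exact D0
    obtain ⟨w, hw⟩ : ∃ w, polar R z w ≠ 0 := by
      by_contra hc
      push Not at hc
      exact hz (hR.1 z hc)
    obtain ⟨w1, hzw⟩ : ∃ w1, polar R z w1 = 1 :=
      ⟨(polar R z w)⁻¹ • w, by rw [polar_smul_right, smul_eq_mul, inv_mul_cancel₀ hw]⟩
    have hzz : polar R z z = 0 := by rw [QuadraticMap.polar_self, hzR, smul_zero]
    obtain ⟨f, hzf, hfR⟩ : ∃ f, polar R z f = 1 ∧ R f = 0 := by
      refine ⟨w1 + R w1 • z, ?_, ?_⟩
      · rw [polar_add_right, hzw, polar_smul_right, hzz, smul_zero, add_zero]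
      · rw [QuadraticMap.map_add (⇑R), polar_smul_right, QuadraticMap.map_smul, hzR,
          polar_comm (⇑R) w1 z, hzw]
        simp [h2]
    by_cases hb : b = 0
    · exact Dlevel z e hDz hz he0 (by rw [hzR, he, hb]; ring)
    have hyz : polar R (b • f + b • z) z = b := by
      rw [polar_add_left, polar_smul_left, polar_smul_left, polar_comm R f z, hzf, hzz]; simp
    have hyR : R (b • f + b • z) = b ^ 2 := by
      rw [QuadraticMap.map_add (⇑R), QuadraticMap.map_smul, QuadraticMap.map_smul, hzR, hfR, polar_smul_right,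
        polar_smul_left, polar_comm R f z, hzf]
      simp [_root_.sq]
    have hy : b • f + b • z ≠ 0 := fun h => hb (by rw [← hyz, h, polar_zero_left])
    have h1 := Dadd z _ hDz hz hy (by rw [hyR, hyz, hzR]; exact h2 _)
    have hdR : R (z + (b • f + b • z)) = b + b ^ 2 := by
      rw [QuadraticMap.map_add (⇑R) z, hzR, hyR, polar_comm, hyz]; ring
    refine Dlevel _ e h1 (fun h => hb ?_) he0 (by rw [hdR, he])
    have := congrArg (polar R z) h
    rwa [polar_add_right, hzz, zero_add, polar_comm R z, hyz, polar_zero_right] at this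
  intro u c
  obtain ⟨a, ha⟩ : ∃ a : F, a ^ 2 = c + c ^ 2 * R u :=
    ⟨_, frobeniusEquiv_symm_pow_p F 2 (c + c ^ 2 * R u)⟩
  obtain ⟨k, hk, hka⟩ := Dall (a • u) (c * R u) (by
    rw [QuadraticMap.map_smul, smul_eq_mul, ← _root_.sq, ha]; ring)
  have ht : ∀ x, R ((sT u c).1 *ᵥ x) = R x + polar R x (a • u) ^ 2 := fun x => by
    rw [sT_mulVec, ← hpol, QuadraticMap.map_add (⇑R), QuadraticMap.map_smul, polar_smul_right, polar_smul_right,
      smul_eq_mul, smul_eq_mul, smul_eq_mul]
    linear_combination -(polar R x u ^ 2) * ha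
  have := hiso (sT u c * k⁻¹) fun x => by
    rw [Units.val_mul, ← Matrix.mulVec_mulVec, ht, ← hka, hcan]
  simpa using mul_mem this hk


end Cfsg.Agent.S5652
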