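import Cfsg.Statements.S5673
import Cfsg.Agent.Lib.Aschbacher.OrthGeneral
import Cfsg.Agent.Lib.Aschbacher.OrthMaximal

set_option autoImplicit false
open Cfsg

namespace Cfsg.Agent.S5673

/-- Subgroup structure of the odd-dimensional orthogonal groups. Let F be a finite field of odd order and m ≥ 3, let Q be the standard quadratic form x₀² + Σ x_i y_i on F^(2m+1), and let Ω be the commutator subgroup of its isometry group, viewed inside GL_(2m+1)(F). Let H be a subgroup of Ω whose product with the scalar matrices in Ω is not all of Ω. Then either H is contained in a member of one of the geometric classes of subgroups of the isometry group (with the conditions built into InOrthogonalOddClass), or H is in the residual class: modulo scalars it is almost simple, and the perfect preimage of its socle acts absolutely irreducibly, is realisable over no proper subfield, and fixes no non-degenerate unitary form.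 -/
theorem result {F : Type*} [Field F] [Fintype F] (hodd : Odd (Fintype.card F)) (m : ℕ) (hm : 3 ≤ m) (H : Subgroup (Matrix.GeneralLinearGroup (Unit ⊕ (Fin m ⊕ Fin m)) F)) (hH : H ≤ Cfsg.Geo.omegaGL (Cfsg.quadFormOdd m F)) (hproper : H ⊔ (Cfsg.Geo.scalars (Unit ⊕ (Fin m ⊕ Fin m)) F ⊓ Cfsg.Geo.omegaGL (Cfsg.quadFormOdd m F)) ≠ Cfsg.Geo.omegaGL (Cfsg.quadFormOdd m F)) : (∃ M : Subgroup (Matrix.GeneralLinearGroup (Unit ⊕ (Fin m ⊕ Fin m)) F), Cfsg.Geo.InOrthogonalOddClass m F M ∧ H ≤ M) ∨ Cfsg.Geo.InOrthogonalResidualClass H := by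
  have h2 := CfsgLib.FiniteForms.two_ne_zero_of_odd (F := F) rfl hodd
  have hQ := CfsgLib.Aschbacher.isNondegenerate_quadFormOdd (F := F) (m := m) h2
  have hI : H ≤ Cfsg.isometryGroup F (Cfsg.quadFormOdd m F) :=
    hH.trans (CfsgLib.Aschbacher.omegaGL_le_isometry _)
  have hcard : Fintype.card (Unit ⊕ (Fin m ⊕ Fin m)) = 2 * m + 1 := by simp; omega
  rcases CfsgLib.Aschbacher.orth_odd_aschbacher hQ CfsgLib.Aschbacher.gram_quadFormOdd_mem hodd
      (by rw [hcard]; exact odd_two_mul_add_one m) (by rw [hcard]; omega) hI with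
    (⟨W, h0, h1, hts, hle⟩ | ⟨W, h0, h1, he, hnd, hex, hle⟩ | ⟨t, k, D, hk, hex, hD, hle⟩ |
      ⟨t, D, hq, hD, hle⟩ | ⟨r, K, hr, hdvd, hne, hK, hsa, hle⟩ |
      ⟨n₁, n₂, e, P, f₁, f₂, hn₁, hlt, hf₁, hf₂, hT, hle⟩ | ⟨F₀, r, P, hr, hc, hP, hle⟩ |
      ⟨k, t, e, P, f₁, hk, ht, hex, hf₁, hT, hle⟩) | hres
  · exact Or.inl ⟨_, Or.inl ⟨W, h0, hts, rfl⟩, le_inf hle hI⟩
  · exact Or.inl ⟨_, Or.inr (Or.inl ⟨W, h0, h1, hnd, rfl⟩), le_inf hle hI⟩
  · exact Or.inl ⟨_, Or.inr (Or.inr (Or.inl ⟨t, k, D, hk, hD, rfl⟩)), le_inf hle hI⟩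
  · exact Or.inl ⟨_, Or.inr (Or.inr (Or.inr (Or.inl ⟨t, D, hq, hD, rfl⟩))), le_inf hle hI⟩
  · exact Or.inl ⟨_, Or.inr (Or.inr (Or.inr (Or.inr (Or.inl
      ⟨r, K, hr, hcard ▸ hne, hK, hsa, rfl⟩)))), le_inf hle hI⟩
  · exact Or.inl ⟨_, Or.inr (Or.inr (Or.inr (Or.inr (Or.inr (Or.inl
      ⟨n₁, n₂, e, P, f₁, f₂, hn₁, hlt, hf₁, hf₂, hT, rfl⟩))))), le_inf hle hI⟩
  · exact Or.inl ⟨_, Or.inr (Or.inr (Or.inr (Or.inr (Or.inr (Or.inr (Or.inl
      ⟨F₀, r, P, hr, hc, hP, rfl⟩)))))), le_inf hle hI⟩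
  · exact Or.inl ⟨_, Or.inr (Or.inr (Or.inr (Or.inr (Or.inr (Or.inr (Or.inr
      ⟨k, t, e, P, f₁, hk, ht, hex, hf₁, hT, rfl⟩)))))), le_inf hle hI⟩
  · exact Or.inr hres

end Cfsg.Agent.S5673
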