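import Cfsg.Statements.S5677
import Cfsg.Agent.Lib.MaxSub.WreathMaximalOrth
import Cfsg.Agent.Lib.MaxSub.NotMaximalOrthBlocks
import Cfsg.Agent.Lib.Aschbacher.OrthMaximal

set_option autoImplicit false
open Cfsg

namespace Cfsg.Agent.S5677

/-- Let F be a finite field of odd order q, m ≥ 6, Q the standard quadratic form on F^(2m+1) and Ω the commutator subgroup of its isometry group. Let D be a decomposition of F^(2m+1) into t ≥ 2 pairwise orthogonal, pairwise Q-isometric subspaces of equal dimension k > 1 on which the polar form is non-degenerate. Unless q = 3 and k = 3, the elements of Ω permuting the members of D form a maximal subgroup of Ω. -/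
theorem result {F : Type*} [Field F] [Fintype F] (hodd : Odd (Fintype.card F)) (m : ℕ) (hm : 6 ≤ m) {t : ℕ} (k : ℕ) (hk : 1 < k) (D : Fin t → Submodule F (Unit ⊕ (Fin m ⊕ Fin m) → F)) (hD : Cfsg.Geo.IsOrthogonalMDecomposition (Cfsg.quadFormOdd m F) k D) (hex : ¬ (Fintype.card F = 3 ∧ k = 3)) : Cfsg.Geo.IsMaximalIn (Cfsg.Geo.omegaGL (Cfsg.quadFormOdd m F)) (Cfsg.Geo.decompositionStabilizer D ⊓ Cfsg.Geo.omegaGL (Cfsg.quadFormOdd m F)) := by
  have h2 := CfsgLib.FiniteForms.two_ne_zero_of_odd (F := F) rfl hodd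
  obtain ⟨R, hRQ, hR⟩ := CfsgLib.MaxSub.Orth.exists_form
    (CfsgLib.Aschbacher.isNondegenerate_quadFormOdd (m := m) h2)
  rw [← hRQ] at hD ⊢
  have hcard : Fintype.card (Unit ⊕ (Fin m ⊕ Fin m)) = 2 * m + 1 := by simp; omega
  have ht : t * k = 2 * m + 1 := by rw [CfsgLib.MaxSub.Orth.t_mul hD, hcard]
  have hk3 : 3 ≤ k := by
    have : Odd k := (Nat.odd_mul.1 (ht ▸ odd_two_mul_add_one m)).2
    obtain ⟨j, rfl⟩ := this
    omega
  have hq : 2 ≤ Fintype.card F := Fintype.one_lt_card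
  refine CfsgLib.MaxSub.OrthWreath.orth_wreath_maximal ⟨by omega, hR, h2, hk3, ?_, hD⟩
  obtain ⟨j, hj⟩ := hodd
  rcases Nat.lt_or_ge k 4 with h | h
  · exact Or.inr (by by_contra hc; exact hex ⟨by omega, by omega⟩)
  · exact Or.inl h

end Cfsg.Agent.S5677
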