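import Cfsg.Statements.S5680
import Cfsg.Agent.Lib.MaxSub.ExtOrthMax.Main
import Cfsg.Agent.Lib.Aschbacher.OrthMaximal
-- import your own Cfsg.Agent.* helpers here

set_option autoImplicit false
open Cfsg

namespace Cfsg.Agent.S5680

/-- Let F be a finite field of odd order, m ≥ 6, Q the standard quadratic form on F^(2m+1) and Ω the commutator subgroup of its isometry group. Let K be a subfield of the algebra of (2m+1) × (2m+1) matrices over F containing the scalars, of prime degree r over F with r ≠ 2m + 1, whose elements are self-adjoint for the polar form of Q. Then the elements of Ω normalising K form a maximal subgroup of Ω. -/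
theorem result {F : Type*} [Field F] [Fintype F] (hodd : Odd (Fintype.card F)) (m : ℕ) (hm : 6 ≤ m) (r : ℕ) (hr : r.Prime) (hrn : 2 * m + 1 ≠ r) (K : Subalgebra F (Matrix (Unit ⊕ (Fin m ⊕ Fin m)) (Unit ⊕ (Fin m ⊕ Fin m)) F)) (hK : Cfsg.Geo.IsFieldSubalgebra r K) (hsa : Cfsg.Geo.IsSelfAdjointFor (QuadraticMap.polar (Cfsg.quadFormOdd m F)) K) : Cfsg.Geo.IsMaximalIn (Cfsg.Geo.omegaGL (Cfsg.quadFormOdd m F)) (Cfsg.Geo.subalgebraNormalizer K ⊓ Cfsg.Geo.omegaGL (Cfsg.quadFormOdd m F)) := by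
  obtain ⟨d, hd⟩ : r ∣ 2 * m + 1 := by
    have h := CfsgLib.MaxSub.ExtOrthMax.degree_dvd_card hK
    simpa [two_mul, add_comm, add_left_comm] using h
  have hr0 := hr.pos
  have hodd' : Odd (r * d) := hd ▸ odd_two_mul_add_one m
  obtain ⟨hro, hdo⟩ := Nat.odd_mul.1 hodd'
  have hd1 : d ≠ 1 := fun h => hrn (by rw [hd, h, mul_one])
  obtain ⟨i, rfl⟩ := hdo
  obtain ⟨l, rfl⟩ := hro
  have hcard : Fintype.card (Unit ⊕ (Fin m ⊕ Fin m)) = 2 * m + 1 := by
    simp [two_mul, add_comm]
  refine CfsgLib.MaxSub.ExtOrthMax.ext_orth_maximal_three ?_ (by omega) hodd hr ?_ ?_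
    (fun h => by omega) hK hsa
  · exact CfsgLib.Aschbacher.isNondegenerate_quadFormOdd
      (CfsgLib.FiniteForms.two_ne_zero_of_odd (F := F) rfl hodd)
  · rw [hcard, hd, mul_comm 3]
    exact Nat.mul_le_mul_left _ (by omega)
  · rw [hcard]
    omega

end Cfsg.Agent.S5680
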