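import Cfsg.Statements.S5692
import Cfsg.Agent.Lib.MaxSub.OrthBlocks.Final

set_option autoImplicit false
open Cfsg

namespace Cfsg.Agent.S5692

/-- Let F be a finite field with q elements, n ≥ 13 even, Q a non-degenerate quadratic form on F^n of plus type (some subspace of dimension n/2 is totally singular), and Ω the commutator subgroup of the isometry group of Q, viewed inside GL_n(F). Let D be a decomposition of F^n into t ≥ 2 pairwise orthogonal, pairwise Q-isometric subspaces of equal dimension k ≥ 2 on which the polar form is non-degenerate, such that: if k is even, either every member is of plus type or t is even; if k is odd, q is odd and the discriminant of Q is a square. Exclude the cases k = 2 with q = 3, k = 2 with plus-type members and q ∈ {2, 4, 5}, k = 3 with q = 3, and k = 4 with plus-type members and q = 2. Then the elements of Ω permuting the members of D form a maximal subgroup of Ω. -/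
theorem result {F : Type*} [Field F] [Fintype F] {n : ℕ} (hn : 13 ≤ n) (heven : Even n) (Q : (Fin n → F) → F) (hQ : Cfsg.Geo.IsNondegenerateQuadraticForm Q) (hplus : Cfsg.Geo.IsPlusTypeOn Q ⊤) {t : ℕ} (k : ℕ) (hk : 2 ≤ k) (D : Fin t → Submodule F (Fin n → F)) (hD : Cfsg.Geo.IsOrthogonalMDecomposition Q k D) (hke : Even k → ((∀ i, Cfsg.Geo.IsPlusTypeOn Q (D i)) ∨ Even t)) (hko : Odd k → (Odd (Fintype.card F) ∧ Cfsg.Geo.HasSquareDiscriminant Q)) (hex : ¬ ((k = 2 ∧ (Fintype.card F = 3 ∨ ((∀ i, Cfsg.Geo.IsPlusTypeOn Q (D i)) ∧ (Fintype.card F = 2 ∨ Fintype.card F = 4 ∨ Fintype.card F = 5)))) ∨ (k = 3 ∧ Fintype.card F = 3) ∨ (k = 4 ∧ Fintype.card F = 2 ∧ ∀ i, Cfsg.Geo.IsPlusTypeOn Q (D i)))) : Cfsg.Geo.IsMaximalIn (Cfsg.Geo.omegaGL Q) (Cfsg.Geo.decompositionStabilizer D ⊓ Cfsg.Geo.omegaGL Q) := by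
  obtain ⟨R, hRQ, hR⟩ := CfsgLib.MaxSub.Orth.exists_form hQ
  subst hRQ
  have hn' : 13 ≤ Fintype.card (Fin n) := by simpa using hn
  have ht := CfsgLib.MaxSub.Orth.t_mul hD
  refine CfsgLib.MaxSub.OrthBlocks.blocks_maximal hR (by omega) hk hD (fun h => (hko h).1)
    (fun h => by subst h; omega) (fun h => hex ?_) (fun h2 h4 i hi => hex ?_) (fun h2 hq i hi => hex ?_)
  · rcases h.2 with h2 | h3
    · exact Or.inl ⟨h2, Or.inl h.1⟩
    · exact Or.inr (Or.inl ⟨h3, h.1⟩)
  · exact Or.inr (Or.inr ⟨h4, h2, fun j => CfsgLib.MaxSub.OrthBlocks.plus_iso (hD.isometric i j) hi⟩)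
  · exact Or.inl ⟨h2, Or.inr ⟨fun j => CfsgLib.MaxSub.OrthBlocks.plus_iso (hD.isometric i j) hi, hq⟩⟩

end Cfsg.Agent.S5692
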