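import Cfsg.Statements.S5699
import Cfsg.Agent.Lib.MaxSub.SubspaceMaximalOrthGL

set_option autoImplicit false
open Cfsg

namespace Cfsg.Agent.S5699

/-- Let F be a finite field with q elements, n ≥ 13 even, Q a non-degenerate quadratic form on F^n (of either type), and Ω the commutator subgroup of the isometry group of Q, viewed inside GL_n(F). Let D be a decomposition of F^n into two orthogonal subspaces of odd dimension n/2 on which the polar form is non-degenerate and which are not Q-isometric to each other. Then the elements of Ω permuting (necessarily fixing) the two subspaces form a maximal subgroup of Ω. -/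
theorem result {F : Type*} [Field F] [Fintype F] {n : ℕ} (hn : 13 ≤ n) (heven : Even n) (Q : (Fin n → F) → F) (hQ : Cfsg.Geo.IsNondegenerateQuadraticForm Q) (k : ℕ) (hk : 2 * k = n) (hko : Odd k) (D : Fin 2 → Submodule F (Fin n → F)) (hD : Cfsg.Geo.IsNondegenerateMDecomposition (QuadraticMap.polar Q) k D) (hni : ¬ Cfsg.Geo.AreIsometricFor Q (D 0) (D 1)) : Cfsg.Geo.IsMaximalIn (Cfsg.Geo.omegaGL Q) (Cfsg.Geo.decompositionStabilizer D ⊓ Cfsg.Geo.omegaGL Q) := by
  classical
  open CfsgLib.MaxSub.Orth in
  open Cfsg.Geo in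
  obtain ⟨R, rfl, hR⟩ := exists_form hQ
  have hd : Module.finrank F (Fin n → F) = n := Module.finrank_fin_fun F
  have hk0 := hD.decomp.finrank_eq 0
  have hk1 := hD.decomp.finrank_eq 1
  have hW := nondeg_of (hD.nondegenerate 0)
  have hP : orth R (D 0) = D 1 := by
    symm
    refine Submodule.eq_of_le_of_finrank_eq (fun x hx y hy => hD.orthogonal 0 1 (by decide) y hy x hx) ?_
    have := finrank_orth hR (D 0)
    omega
  have h0 : D 0 ≠ ⊥ := fun h => by rw [h, finrank_bot] at hk0; omega
  have hiso : ∀ g : CfsgLib.WittExtension.quadIso R,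
      (D 0).map (g.1 : (Fin n → F) →ₗ[F] (Fin n → F)) ≠ D 1 := fun g h => hni
    ⟨(g.1.submoduleMap (D 0)).trans (LinearEquiv.ofEq _ _ h), fun w => g.2 w⟩
  have hstab : decompositionStabilizer D ⊓ omegaGL ⇑R = subspaceStabilizer (D 0) ⊓ omegaGL ⇑R := by
    rw [omegaGL_eq hR (by rw [Fintype.card_fin]; omega)]
    refine le_antisymm ?_ ?_
    · rintro _ ⟨⟨σ, hσ⟩, g, hg, rfl⟩
      refine ⟨toMat_mem_stab.2 (mem_St fun x hx => ?_), g, hg, rfl⟩
      have h := hσ 0
      have hmem : g.1 x ∈ D (σ 0) := h ▸ Submodule.mem_map.2 ⟨x, hx, toMat_mulVec R g x⟩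
      rcases Fin.exists_fin_two.1 ⟨σ 0, rfl⟩ with h' | h'
      · rwa [h'] at hmem
      · refine absurd ?_ (hiso g)
        rw [← h', ← h]
        exact congrArg (fun f => (D 0).map f) (LinearMap.ext fun y => (toMat_mulVec R g y).symm)
    · rintro _ ⟨hs, g, hg, rfl⟩
      have hs0 := toMat_mem_stab.1 hs
      have hs1 : g ∈ St R (D 1) := hP ▸ St_orth hs0
      refine ⟨⟨1, fun i => ?_⟩, g, hg, rfl⟩
      have key : ∀ W, g ∈ St R W → W.map (Matrix.toLin' (toMat R g : Matrix (Fin n) (Fin n) F)) = W :=
        fun W hW => Submodule.ext fun x => by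
          simp only [Submodule.mem_map, Matrix.toLin'_apply, toMat_mulVec]
          exact ⟨fun ⟨y, hy, e⟩ => e ▸ maps_of_mem hW hy,
            fun hx => ⟨g.1.symm x, (hW _).2 (by rwa [LinearEquiv.apply_symm_apply]), by simp⟩⟩
      fin_cases i
      · exact key _ hs0
      · exact key _ hs1
  rw [hstab]
  refine isMaximalIn_of_maxStab hR (by rw [Fintype.card_fin]; omega) (maxStab_nondeg hR ?_ ?_ h0 hW
    (by omega) (fun g hg => ?_) (fun h => by omega) (fun h => by omega))
  · omega
  · omega
  · rw [hP] at hg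
    have he := Submodule.eq_of_le_of_finrank_eq hg (by rw [LinearEquiv.finrank_map_eq, hk0, hk1])
    refine hiso g⁻¹ ?_
    rw [← he, ← Submodule.map_comp]
    exact (congrArg (fun f => (D 1).map f)
      (LinearMap.ext fun y => g.1.symm_apply_apply y)).trans (Submodule.map_id _)


end Cfsg.Agent.S5699
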