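import Cfsg.Statements.S5701
import Cfsg.Agent.Lib.MaxSub.ExtOrthMax.Main

set_option autoImplicit false
open Cfsg

namespace Cfsg.Agent.S5701

/-- Let F be a finite field with q elements, n ≥ 13 even, Q a non-degenerate quadratic form on F^n (of either type), and Ω the commutator subgroup of the isometry group of Q, viewed inside GL_n(F). Suppose q is odd. Let K be a subfield of the algebra of n × n matrices over F containing the scalars, of prime degree r over F with n/r ≥ 3, whose elements are self-adjoint for the polar form of Q. Then the elements of Ω normalising K form a maximal subgroup of Ω. -/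
theorem result {F : Type*} [Field F] [Fintype F] {n : ℕ} (hn : 13 ≤ n) (heven : Even n) (Q : (Fin n → F) → F) (hQ : Cfsg.Geo.IsNondegenerateQuadraticForm Q) (hodd : Odd (Fintype.card F)) (r : ℕ) (hr : r.Prime) (hnr : 3 * r ≤ n) (K : Subalgebra F (Matrix (Fin n) (Fin n) F)) (hK : Cfsg.Geo.IsFieldSubalgebra r K) (hsa : Cfsg.Geo.IsSelfAdjointFor (QuadraticMap.polar Q) K) : Cfsg.Geo.IsMaximalIn (Cfsg.Geo.omegaGL Q) (Cfsg.Geo.subalgebraNormalizer K ⊓ Cfsg.Geo.omegaGL Q) := by
  refine CfsgLib.MaxSub.ExtOrthMax.ext_orth_maximal hQ (by rw [Fintype.card_fin]; omega) hodd hr ?_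
    (fun _ h => absurd h (by rw [Fintype.card_fin]; omega)) hK hsa
  rw [Fintype.card_fin]
  haveI : Nonempty (Fin n) := ⟨⟨0, by omega⟩⟩
  obtain ⟨d, hd⟩ := CfsgLib.MaxSub.ExtOrthMax.degree_dvd_card hK
  rw [Fintype.card_fin] at hd
  rcases Nat.lt_or_ge d 4 with hlt | hge
  · obtain ⟨j, rfl⟩ := heven
    have hd3 : d = 3 := by
      have hrp := hr.pos
      rcases Nat.lt_or_ge d 3 with h' | h'
      · nlinarith
      · omega
    subst hd3
    rcases hr.eq_two_or_odd' with rfl | ⟨i, rfl⟩ <;> omega
  · rw [hd, mul_comm]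
    exact Nat.mul_le_mul_left r hge

end Cfsg.Agent.S5701
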