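import Cfsg.Statements.S5707
import Cfsg.Agent.Lib.MaxSub.TensorWreathSympFrame

set_option autoImplicit false
open Cfsg
open CfsgLib.MaxSub.TensorSymp

namespace Cfsg.Agent.S5707

/-- Let F be a finite field with q elements, n ≥ 13 even, Q a non-degenerate quadratic form on F^n of plus type (some subspace of dimension n/2 is totally singular), and Ω the commutator subgroup of the isometry group of Q, viewed inside GL_n(F). Suppose q is even and that, through P and e, the polar form of Q is similar to the t-fold tensor power (t ≥ 2) of a non-degenerate symplectic form f₁ on F^k with k ≤ 4 and (q, k) ≠ (2, 2), Q vanishing on the images of all pure tensors. Then the elements of Ω in the stabiliser of this decomposition form a subgroup that is not maximal: some subgroup lies strictly between it and Ω. -/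
theorem result {F : Type*} [Field F] [Fintype F] {n : ℕ} (hn : 13 ≤ n) (heven : Even n) (Q : (Fin n → F) → F) (hQ : Cfsg.Geo.IsNondegenerateQuadraticForm Q) (hplus : Cfsg.Geo.IsPlusTypeOn Q ⊤) (hchar : ¬ Odd (Fintype.card F)) (k t : ℕ) (ht : 2 ≤ t) (hk : k ≤ 4) (hex1 : ¬ (Fintype.card F = 2 ∧ k = 2)) (e : (Fin n) ≃ (Fin t → Fin k)) (P : Matrix.GeneralLinearGroup (Fin n) F) (f₁ : (Fin k → F) → (Fin k → F) → F) (hf₁ : Cfsg.Geo.IsSymplecticForm f₁) (hT : Cfsg.Geo.IsTensorPowerFormStructure id (QuadraticMap.polar Q) f₁ e P) (hpure : (∀ xs : Fin t → (Fin k → F), Q (Matrix.mulVec (P : Matrix (Fin n) (Fin n) F) ((fun a : Fin t → Fin k => ∏ i, xs i (a i)) ∘ e)) = 0)) : ∃ K : Subgroup (Matrix.GeneralLinearGroup (Fin n) F), Cfsg.Geo.tensorWreathSubgroup k t e P ⊓ Cfsg.Geo.omegaGL Q < K ∧ K < Cfsg.Geo.omegaGL Q := by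
  have : CharP F 2 := ringChar.of_eq (by
    by_contra h
    exact hchar (Nat.odd_iff.mpr (FiniteField.odd_card_of_char_ne_two h)))
  have hn' : n = k ^ t := by simpa using Fintype.card_congr e
  have hk' : k = 2 ∨ k = 4 := by
    rcases Nat.lt_or_ge k 2 with h | h
    · exfalso
      rcases (show k = 0 ∨ k = 1 by omega) with rfl | rfl
      · rw [zero_pow (by omega)] at hn'; omega
      · rw [one_pow] at hn'; omega
    obtain ⟨G, hG, hd, hdet⟩ : ∃ G : Matrix (Fin k) (Fin k) F, G.transpose = -G ∧ (∀ i, G i i = 0) ∧ G.det ≠ 0 := by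
      refine ⟨Cfsg.Geo.gramMatrix f₁, ?_, fun i => hf₁.alternating _, gram_det_ne_zero hf₁⟩
      ext a b; exact hf₁.skew _ _
    obtain ⟨m, hm, -⟩ := CfsgLib.PSLnGraph.exists_symp hG hd hdet
    simp at hm
    omega
  refine exists_between_frame hQ e P hk' hf₁ hT hpure fun c Q' hS => ?_
  rcases hk' with rfl | rfl
  · have h4 : 4 ≤ t := by
      by_contra h
      have : 2 ^ t ≤ 2 ^ 3 := Nat.pow_le_pow_right (by norm_num) (by omega)
      omega
    obtain ⟨μ, hμ0, hμ1⟩ : ∃ μ : F, μ ≠ 0 ∧ μ ≠ 1 := by
      classical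
      have h2 : 2 < Fintype.card F := by
        have := Fintype.one_lt_card (α := F)
        omega
      by_contra hne
      push Not at hne
      have hsub : (Finset.univ : Finset F) ⊆ {0, 1} := fun x _ => by
        by_cases hx : x = 0
        · simp [hx]
        · simp [hne x hx]
      have := (Finset.card_le_card hsub).trans Finset.card_le_two
      rw [Finset.card_univ] at this
      omega
    exact core_two h4 hμ0 hμ1 hS
  · exact core_four ht hS

end Cfsg.Agent.S5707
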