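import Cfsg.Statements.S5709
import Cfsg.Agent.Lib.MaxSub.TensorOO.Main

set_option autoImplicit false
open Cfsg

namespace Cfsg.Agent.S5709

/-- Let F be a finite field with q elements, n ≥ 13 even, Q a non-degenerate quadratic form on F^n of minus type (no subspace of dimension n/2 is totally singular), and Ω the commutator subgroup of the isometry group of Q, viewed inside GL_n(F). Suppose q is odd and that, through a change of basis P and a bijection of index sets e, the polar form of Q is similar to the tensor product of non-degenerate symmetric bilinear forms f₁ on F^(n₁), n₁ odd and at least 3, and f₂ on F^(n₂), n₂ even and at least 4 with no totally isotropic subspace of dimension n₂/2 (minus type). Unless q = 3 and n₁ = 3, the elements of Ω in the stabiliser of this tensor decomposition form a maximal subgroup of Ω. -/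
theorem result {F : Type*} [Field F] [Fintype F] {n : ℕ} (hn : 13 ≤ n) (heven : Even n) (Q : (Fin n → F) → F) (hQ : Cfsg.Geo.IsNondegenerateQuadraticForm Q) (hminus : ¬ Cfsg.Geo.IsPlusTypeOn Q ⊤) (hodd : Odd (Fintype.card F)) (n₁ n₂ : ℕ) (h1 : 3 ≤ n₁) (h1o : Odd n₁) (h2 : 4 ≤ n₂) (h2e : Even n₂) (hex : ¬ (Fintype.card F = 3 ∧ n₁ = 3)) (e : (Fin n) ≃ Fin n₁ × Fin n₂) (P : Matrix.GeneralLinearGroup (Fin n) F) (f₁ : (Fin n₁ → F) → (Fin n₁ → F) → F) (f₂ : (Fin n₂ → F) → (Fin n₂ → F) → F) (hf₁ : Cfsg.Geo.IsSymmetricForm f₁) (hf₂ : Cfsg.Geo.IsSymmetricForm f₂) (hf₂m : ¬ Cfsg.Geo.IsPlusTypeOn (fun v : Fin n₂ → F => f₂ v v) ⊤) (hT : Cfsg.Geo.IsTensorFormStructure id (QuadraticMap.polar Q) f₁ f₂ e P) : Cfsg.Geo.IsMaximalIn (Cfsg.Geo.omegaGL Q) (Cfsg.Geo.tensorProductSubgroup n₁ n₂ e P ⊓ Cfsg.Geo.omegaGL Q) := by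
  have hc : n = n₁ * n₂ := by simpa using Fintype.card_congr e
  rcases lt_or_ge n₁ n₂ with h12 | h12
  · exact CfsgLib.MaxSub.TensorOO.orth_tensor_maximal h1 h12 (by
      rcases h1o with ⟨k, hk⟩; rcases h2e with ⟨l, hl⟩
      by_contra hb; interval_cases n₂ <;> interval_cases n₁ <;> omega) (Or.inl h1o) hodd hex hQ e P f₁ f₂ hf₁ hf₂
      (fun h => absurd h1o (by rw [h]; decide)) hT
  have h21 : n₂ < n₁ := by
    rcases h1o with ⟨k, hk⟩; rcases h2e with ⟨l, hl⟩; omega
  rw [show Cfsg.Geo.tensorProductSubgroup n₁ n₂ e P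
      = Cfsg.Geo.tensorProductSubgroup n₂ n₁ (e.trans (Equiv.prodComm _ _)) P from
    le_antisymm (CfsgLib.Aschbacher.tensorProductSubgroup_swap e P)
      (CfsgLib.Aschbacher.tensorProductSubgroup_swap (e.trans (Equiv.prodComm _ _)) P)]
  refine CfsgLib.MaxSub.TensorOO.orth_tensor_maximal (by omega) h21 (by omega) (Or.inr h1o) hodd
    (fun h => absurd h2e (by rw [h.2]; decide)) hQ _ P f₂ f₁ hf₂ hf₁ ?_ ?_
  · intro h4 W hW
    by_contra hW2
    obtain ⟨g, hg⟩ := exists_linearIndependent_of_le_finrank (R := F) (M := W) (n := 2) (by omega)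
    refine hf₂m ⟨Submodule.span F (Set.range fun i => (g i : Fin n₂ → F)), le_top,
      fun w hw => hW w (Submodule.span_le.2 (Set.range_subset_iff.2 fun i => (g i).2) hw), ?_⟩
    have hg' : LinearIndependent F fun i => (g i : Fin n₂ → F) :=
      hg.map' W.subtype W.ker_subtype
    rw [finrank_span_eq_card hg', finrank_top, Module.finrank_fintype_fun_eq_card, Fintype.card_fin,
      Fintype.card_fin, h4]
  obtain ⟨c, hc0, hcT⟩ := hT
  refine ⟨c, hc0, fun x y => ?_⟩
  refine (hcT (x ∘ Equiv.prodComm _ _) (y ∘ Equiv.prodComm _ _)).trans ?_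
  congr 1
  rw [Cfsg.Geo.formOfGram, Cfsg.Geo.formOfGram]
  refine Fintype.sum_equiv (Equiv.prodComm _ _) _ _ fun i => Fintype.sum_equiv (Equiv.prodComm _ _) _ _
    fun j => ?_
  simp only [Function.comp_apply, Matrix.kroneckerMap_apply, Equiv.prodComm_apply, Prod.fst_swap,
    Prod.snd_swap, id]
  ring

end Cfsg.Agent.S5709
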