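import Cfsg.Statements.S5712
import Cfsg.Agent.Lib.SpIrred.Main
import Cfsg.Agent.Lib.SpIrred.Radical
import Cfsg.Agent.Lib.SpIrred.Six
import Cfsg.Agent.Lib.SympInvolution.OrthForm
import Cfsg.Agent.Lib.Basic
import Cfsg.Agent.S0247
-- import your own Cfsg.Agent.* helpers here

set_option autoImplicit false
open Cfsg

namespace Cfsg.Agent.S5712

open CfsgLib.SpIrred
open scoped Matrix

/-- Let F be a finite field of characteristic two, n ≥ 2, V = F^{2n} with the non-degenerate alternating form f(u, v) = Σ (u_i v_{n+i} + u_{n+i} v_i), and G the group of invertible matrices preserving f. Let a ≠ 0 be a vector, H its stabilizer in G, and X a subgroup of O₂(H) of order |F|^{2n−2} no element of which is a transvection (no element g has g − 1 of rank one). If L is a subgroup of G containing X that acts irreducibly on V (no proper non-zero L-invariant subspace), then L = G, or, for some quadratic form Q on V whose polar form is f, L is the isometry group of Q or its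 subgroup of the isometries g for which g − 1 has even rank, or |F| = 2, n = 2 and L is isomorphic to the alternating group of degree 6 or to the symmetric group of degree 5. -/
theorem result {F : Type*} [Field F] [Fintype F] [CharP F 2] {n : ℕ} (hn : 2 ≤ n) (a : (Fin n ⊕ Fin n → F)) (ha : a ≠ 0)
    (X : Subgroup (GL (Fin n ⊕ Fin n) F)) (hXG : X ≤ Cfsg.preserving (Units.coeHom (Matrix (Fin n ⊕ Fin n) (Fin n ⊕ Fin n) F)) (fun u v : (Fin n ⊕ Fin n → F) => ∑ i : Fin n, (u (Sum.inl i) * v (Sum.inr i) + u (Sum.inr i) * v (Sum.inl i))))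
    (hXO : ∀ H : Subgroup (GL (Fin n ⊕ Fin n) F),
      (∀ g : GL (Fin n ⊕ Fin n) F, g ∈ H ↔ (g ∈ Cfsg.preserving (Units.coeHom (Matrix (Fin n ⊕ Fin n) (Fin n ⊕ Fin n) F)) (fun u v : (Fin n ⊕ Fin n → F) => ∑ i : Fin n, (u (Sum.inl i) * v (Sum.inr i) + u (Sum.inr i) * v (Sum.inl i))) ∧ Matrix.mulVec (g : Matrix (Fin n ⊕ Fin n) (Fin n ⊕ Fin n) F) a = a)) →
      X ≤ (Cfsg.pCore 2 ↥H).map H.subtype)
    (hcard : Nat.card ↥X = Fintype.card F ^ (2 * n - 2))
    (hntv : ∀ x ∈ X, ((x : Matrix (Fin n ⊕ Fin n) (Fin n ⊕ Fin n) F) - 1).rank ≠ 1)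
    (L : Subgroup (GL (Fin n ⊕ Fin n) F)) (hXL : X ≤ L) (hLG : L ≤ Cfsg.preserving (Units.coeHom (Matrix (Fin n ⊕ Fin n) (Fin n ⊕ Fin n) F)) (fun u v : (Fin n ⊕ Fin n → F) => ∑ i : Fin n, (u (Sum.inl i) * v (Sum.inr i) + u (Sum.inr i) * v (Sum.inl i))))
    (hirr : ∀ W : Submodule F (Fin n ⊕ Fin n → F), (∀ g ∈ L, ∀ w ∈ W, Matrix.mulVec (g : Matrix (Fin n ⊕ Fin n) (Fin n ⊕ Fin n) F) w ∈ W) → W = ⊥ ∨ W = ⊤) :
    L = Cfsg.preserving (Units.coeHom (Matrix (Fin n ⊕ Fin n) (Fin n ⊕ Fin n) F)) (fun u v : (Fin n ⊕ Fin n → F) => ∑ i : Fin n, (u (Sum.inl i) * v (Sum.inr i) + u (Sum.inr i) * v (Sum.inl i))) ∨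
    (∃ Q : QuadraticForm F (Fin n ⊕ Fin n → F), (∀ u v, QuadraticMap.polar ⇑Q u v = (fun u v : (Fin n ⊕ Fin n → F) => ∑ i : Fin n, (u (Sum.inl i) * v (Sum.inr i) + u (Sum.inr i) * v (Sum.inl i))) u v) ∧
      (L = Cfsg.isometryGroup F ⇑Q ∨
        ∀ g : GL (Fin n ⊕ Fin n) F, g ∈ L ↔ (g ∈ Cfsg.isometryGroup F ⇑Q ∧ Even ((g : Matrix (Fin n ⊕ Fin n) (Fin n ⊕ Fin n) F) - 1).rank))) ∨
    (Fintype.card F = 2 ∧ n = 2 ∧ (Nonempty (↥L ≃* ↥(alternatingGroup (Fin 6))) ∨ Nonempty (↥L ≃* Equiv.Perm (Fin 5)))) := by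
  classical
  -- the space
  set Bs : (Fin n ⊕ Fin n → F) → (Fin n ⊕ Fin n → F) → F := fun u v =>
    ∑ i : Fin n, (u (Sum.inl i) * v (Sum.inr i) + u (Sum.inr i) * v (Sum.inl i)) with hBs
  let B : (Fin n ⊕ Fin n → F) →ₗ[F] (Fin n ⊕ Fin n → F) →ₗ[F] F := LinearMap.mk₂ F Bs
    (fun x y z => by
      simp only [hBs, Pi.add_apply]
      rw [← Finset.sum_add_distrib]; exact Finset.sum_congr rfl fun i _ => by ring)
    (fun c x z => by
      simp only [hBs, Pi.smul_apply, smul_eq_mul]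
      rw [Finset.mul_sum]; exact Finset.sum_congr rfl fun i _ => by ring)
    (fun x y z => by
      simp only [hBs, Pi.add_apply]
      rw [← Finset.sum_add_distrib]; exact Finset.sum_congr rfl fun i _ => by ring)
    (fun c x z => by
      simp only [hBs, Pi.smul_apply, smul_eq_mul]
      rw [Finset.mul_sum]; exact Finset.sum_congr rfl fun i _ => by ring)
  have hB : ∀ x y, B x y = Bs x y := fun x y => rfl
  let ψ : GL (Fin n ⊕ Fin n) F ≃* ((Fin n ⊕ Fin n → F) ≃ₗ[F] (Fin n ⊕ Fin n → F)) :=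
    Matrix.GeneralLinearGroup.toLin.trans
      (LinearMap.GeneralLinearGroup.generalLinearEquiv F (Fin n ⊕ Fin n → F))
  have hψ : ∀ g x, ψ g x = (g : Matrix (Fin n ⊕ Fin n) (Fin n ⊕ Fin n) F) *ᵥ x := fun g x => rfl
  have halt : ∀ x, B x x = 0 := fun x => by
    rw [hB]; simp only [hBs]
    refine Finset.sum_eq_zero fun i _ => ?_
    rw [mul_comm (x (Sum.inr i))]; exact CharTwo.add_self_eq_zero _
  have hnd : ∀ x, (∀ y, B x y = 0) → x = 0 := fun x hx => by
    funext j
    rcases j with i | i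
    · have := hx (Pi.single (Sum.inr i) 1)
      simpa [hB, hBs, Pi.single_apply] using this
    · have := hx (Pi.single (Sum.inl i) 1)
      simpa [hB, hBs, Pi.single_apply] using this
  have hSp : ∀ g : GL (Fin n ⊕ Fin n) F,
      g ∈ Cfsg.preserving (Units.coeHom (Matrix (Fin n ⊕ Fin n) (Fin n ⊕ Fin n) F)) Bs ↔
        ∀ x y, B (ψ g x) (ψ g y) = B x y := fun g => Iff.rfl
  let C : Ctx F (Fin n ⊕ Fin n → F) :=
    { B := B
      L := L.map ψ.toMonoidHom
      alt := halt
      nd := hnd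
      pres := fun g hg => by
        obtain ⟨k, hk, rfl⟩ := hg
        exact (hSp k).1 (hLG hk) }
  have hmemL : ∀ g, ψ g ∈ C.L ↔ g ∈ L := fun g => Subgroup.mem_map_iff_mem ψ.injective
  have hdim : Module.finrank F (Fin n ⊕ Fin n → F) = n + n := by
    rw [Module.finrank_fintype_fun_eq_card, Fintype.card_sum, Fintype.card_fin]
  -- a partner of the vector
  obtain ⟨b, hab⟩ := exists_dual (C := C) ha
  have hba : B b a = 1 := (symm (C := C) b a).trans hab
  -- the group inside the point stabiliser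
  set G := Cfsg.preserving (Units.coeHom (Matrix (Fin n ⊕ Fin n) (Fin n ⊕ Fin n) F)) Bs with hG
  let H : Subgroup (GL (Fin n ⊕ Fin n) F) :=
    { carrier := {g | g ∈ G ∧ ψ g a = a}
      one_mem' := ⟨one_mem G, by simp⟩
      mul_mem' := fun {x y} hx hy => ⟨mul_mem hx.1 hy.1, by
        rw [map_mul]; show ψ x (ψ y a) = a; rw [hy.2, hx.2]⟩
      inv_mem' := fun {x} hx => ⟨inv_mem hx.1, by
        rw [map_inv]; show (ψ x).symm a = a; rw [LinearEquiv.symm_apply_eq, hx.2]⟩ }
  have hX : X ≤ (Cfsg.pCore 2 ↥H).map H.subtype := hXO H fun g => Iff.rfl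
  set N := ((Cfsg.pCore 2 ↥H).map H.subtype).map ψ.toMonoidHom with hN
  haveI : Fact (Nat.Prime 2) := ⟨Nat.prime_two⟩
  have hP := CfsgLib.isPGroup_pCore (G := H) 2
  have hNsief : ∀ g ∈ N, C.B a (g b + b) = 0 ∧
      ∀ z, g z = sief C.B a (g b + b) (C.B b (g b + b)) z := by
    intro g hg
    refine radical_sief hab N ?_ ?_ ?_ ?_ hg
    · rintro _ ⟨_, ⟨k, hk, rfl⟩, rfl⟩
      obtain ⟨j, hj⟩ := hP ⟨k, hk⟩
      refine ⟨j, ?_⟩
      have : k ^ 2 ^ j = 1 := congrArg Subtype.val hj
      rw [← map_pow, ← map_pow, this, map_one, map_one]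
    · rintro _ ⟨_, ⟨k, hk, rfl⟩, rfl⟩
      exact k.2.2
    · rintro _ ⟨_, ⟨k, hk, rfl⟩, rfl⟩
      exact (hSp _).1 k.2.1
    · rintro _ ⟨_, ⟨k, hk, rfl⟩, rfl⟩ u hu t ht
      obtain ⟨T, rfl⟩ := ψ.surjective t
      have hTH : T ∈ H := by
        refine ⟨(hSp T).2 fun x y => ?_, ?_⟩
        · rw [ht, ht]
          simp only [map_add, map_smul, LinearMap.add_apply, LinearMap.smul_apply, smul_eq_mul, halt,
            show C.B = B from rfl]
          rw [show B u y = B y u from symm (C := C) u y]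
          linear_combination (B x u * B y u) * two0 (F := F)
        · rw [ht, show C.B a u = 0 from hu, zero_smul, add_zero]
      refine ⟨_, ⟨⟨T, hTH⟩ * k * ⟨T, hTH⟩⁻¹, (inferInstance : (Cfsg.pCore 2 ↥H).Normal).conj_mem k hk _, rfl⟩, ?_⟩
      simp
  have hXs : ∀ x ∈ X, B a (ψ x b + b) = 0 ∧ ∀ z, ψ x z = sief B a (ψ x b + b) (B b (ψ x b + b)) z :=
    fun x hx => hNsief _ ⟨x, hX hx, rfl⟩
  -- the root group is full
  have hw0 : ∀ v, B a v = 0 → ∀ t : F, B a (v + t • a) = 0 := fun v hv t => by simp [hv, halt]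
  let W : Submodule F (Fin n ⊕ Fin n → F) := LinearMap.ker ((B a).prod (B b))
  have hWmem : ∀ v, B a v = 0 → v + B b v • a ∈ W := fun v hv => by
    show ((B a).prod (B b)) _ = 0
    refine Prod.ext ?_ ?_
    · show B a (v + B b v • a) = 0
      exact hw0 v hv _
    · show B b (v + B b v • a) = 0
      simp [hba, CharTwo.add_self_eq_zero]
  have hWd : Module.finrank F W + 2 = n + n := by
    have h1 := LinearMap.finrank_range_add_finrank_ker ((B a).prod (B b))
    have h2 : LinearMap.range ((B a).prod (B b)) = ⊤ := by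
      rw [LinearMap.range_eq_top]
      rintro ⟨s, t⟩
      exact ⟨s • b + t • a, by simp [halt, hab, hba, show B a b = 1 from hab]⟩
    rw [h2, finrank_top, Module.finrank_prod, Module.finrank_self, hdim] at h1
    change 1 + 1 + Module.finrank F W = n + n at h1
    omega
  let φ : X → W := fun x => ⟨(ψ x.1 b + b) + B b (ψ x.1 b + b) • a, hWmem _ (hXs _ x.2).1⟩
  have hφ : Function.Bijective φ := by
    refine (Nat.bijective_iff_injective_and_card φ).2 ⟨fun x x' h => ?_, ?_⟩
    · have h' : (ψ x.1 b + b) + B b (ψ x.1 b + b) • a = (ψ x'.1 b + b) + B b (ψ x'.1 b + b) • a :=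
        congrArg Subtype.val h
      set v := ψ x.1 b + b with hv
      set v' := ψ x'.1 b + b with hv'
      obtain ⟨hav, hx⟩ := hXs _ x.2
      obtain ⟨hav', hx'⟩ := hXs _ x'.2
      have he : v + v' = (B b v + B b v') • a := by
        have : v + B b v • a + B b v • a + v' = v' + B b v' • a + B b v • a + v' := by rw [h']
        rw [show v + B b v • a + B b v • a + v' = v + v' + (2 : F) • (B b v • a) by module,
          show v' + B b v' • a + B b v • a + v' = (B b v + B b v') • a + (2 : F) • v' by module,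
          two0, zero_smul, zero_smul, add_zero, add_zero] at this
        exact this
      have hprod : ∀ z, ψ (x.1 * x'.1) z =
          z + ((B b v + B b v' + B v' v) * B z a) • a := fun z => by
        rw [map_mul]; show ψ x.1 (ψ x'.1 z) = _
        rw [hx, hx', sief_comp (C := C) hav hav', ← hv, ← hv', he]
        simp only [sief, map_smul, smul_eq_mul]
        show z + ((B b v + B b v') * B z a) • a + B z a • (B b v + B b v') • a +
            ((B b v + B b v' + B v' v) * B z a) • a = _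
        rw [show z + ((B b v + B b v') * B z a) • a + B z a • (B b v + B b v') • a +
            ((B b v + B b v' + B v' v) * B z a) • a = z + ((B b v + B b v' + B v' v) * B z a) • a +
              (2 : F) • (((B b v + B b v') * B z a) • a) by module, two0, zero_smul, add_zero]
      have hrk := hntv _ (mul_mem x.2 x'.2)
      rw [Matrix.rank, ← Matrix.toLin'_apply'] at hrk
      set c := B b v + B b v' + B v' v with hc
      have hc0 : c = 0 := by
        by_contra hne
        refine hrk ?_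
        have e : LinearMap.range (Matrix.toLin' (((x.1 * x'.1 : GL (Fin n ⊕ Fin n) F) :
            Matrix (Fin n ⊕ Fin n) (Fin n ⊕ Fin n) F) - 1)) = Submodule.span F {a} := by
          apply le_antisymm
          · rintro _ ⟨z, rfl⟩
            rw [Matrix.toLin'_apply, Matrix.sub_mulVec, Matrix.one_mulVec, ← hψ, hprod, add_sub_cancel_left]
            exact Submodule.smul_mem _ _ (Submodule.mem_span_singleton_self a)
          · rw [Submodule.span_singleton_le_iff_mem]
            refine ⟨c⁻¹ • b, ?_⟩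
            rw [Matrix.toLin'_apply, Matrix.sub_mulVec, Matrix.one_mulVec, ← hψ, hprod, add_sub_cancel_left,
              LinearMap.map_smul₂, hba, smul_eq_mul, mul_one, mul_inv_cancel₀ hne, one_smul]
        rw [e, finrank_span_singleton ha]
      have h1 : ψ (x.1 * x'.1) = 1 := LinearEquiv.ext fun z => by rw [hprod, hc0]; simp
      have h2 : x.1 * x'.1 = 1 := ψ.injective (h1.trans (map_one ψ).symm)
      have h3 : ψ x.1 * ψ x.1 = 1 := LinearEquiv.ext fun z => by
        show ψ x.1 (ψ x.1 z) = z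
        refine (hx _).trans ?_
        rw [hx z, ← hv, sief_comp (C := C) hav hav, show C.B v v = 0 from halt _, add_zero,
          CharTwo.add_self_eq_zero (B b v), ← two_smul F, two0, zero_smul]
        simp [sief]
      refine Subtype.ext ?_
      have h4 : x.1 * x.1 = 1 := ψ.injective (by rw [map_mul, h3, map_one])
      exact mul_left_cancel (h4.trans h2.symm)
    · rw [hcard, Module.natCard_eq_pow_finrank (K := F), Nat.card_eq_fintype_card]
      congr 1
      omega
  have hfull : Full C a := by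
    intro v hv
    obtain ⟨x, hx⟩ := hφ.2 ⟨_, hWmem v hv⟩
    obtain ⟨hav, hxz⟩ := hXs _ x.2
    have h1 : (ψ x.1 b + b) + B b (ψ x.1 b + b) • a = v + B b v • a := congrArg Subtype.val hx
    have h2 : InL C a (ψ x.1 b + b) (B b (ψ x.1 b + b)) := ⟨ψ x.1, (hmemL _).2 (hXL x.2), hxz⟩
    have h3 := inL_shift (B b (ψ x.1 b + b)) h2
    rw [h1, inL_shift_iff] at h3
    exact ⟨_, h3⟩
  have hirr' : ∀ W : Submodule F (Fin n ⊕ Fin n → F), (∀ g ∈ C.L, ∀ w ∈ W, g w ∈ W) → W = ⊥ ∨ W = ⊤ :=
    fun W hW => hirr W fun g hg w hw => hW _ ((hmemL g).2 hg) w hw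
  have hBJ : ∀ x y, CfsgLib.SympGen.B x y = B x y := fun x y => by
    rw [hB]; simp only [hBs, CfsgLib.SympGen.B, dotProduct, Matrix.J, Matrix.mulVec, Fintype.sum_sum_type,
      Matrix.fromBlocks_apply₁₁, Matrix.fromBlocks_apply₁₂, Matrix.fromBlocks_apply₂₁,
      Matrix.fromBlocks_apply₂₂, Matrix.zero_apply, Matrix.neg_apply, Matrix.one_apply, zero_mul,
      Finset.sum_const_zero, zero_add, add_zero, CharTwo.neg_eq, ite_mul, one_mul, Finset.sum_ite_eq,
      Finset.mem_univ, if_true, Finset.sum_add_distrib]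
  have toSp : ∀ g : GL (Fin n ⊕ Fin n) F, g ∈ G →
      (g : Matrix (Fin n ⊕ Fin n) (Fin n ⊕ Fin n) F) ∈ Matrix.symplecticGroup (Fin n) F := fun g hg =>
    CfsgLib.SympOrth.mem_symp _ fun x y => by rw [hBJ, hBJ]; exact (hSp g).1 hg x y
  let κ : L →* Matrix.symplecticGroup (Fin n) F :=
    { toFun := fun g => ⟨g.1.1, toSp g.1 (hLG g.2)⟩
      map_one' := rfl
      map_mul' := fun _ _ => rfl }
  have hκ : Function.Injective κ := fun g g' h => Subtype.ext (Units.ext (congrArg Subtype.val h))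
  -- all transvections give everything
  have htop : (∀ (e : Fin n ⊕ Fin n → F) (c : F), InL C e 0 c) → κ.range = ⊤ := fun hT => by
    rw [eq_top_iff, ← CfsgLib.SympGen.TV_eq_top, CfsgLib.SympGen.TV, Subgroup.closure_le]
    rintro A ⟨u, c, hA⟩
    obtain ⟨_, ⟨k, hk, rfl⟩, hk'⟩ := hT u c
    refine ⟨⟨k, hk⟩, Subtype.ext (Matrix.ext_of_mulVec_single fun i => ?_)⟩
    show ψ k _ = _
    rw [show A = CfsgLib.SympTransvection.tv u c from Subtype.ext hA, CfsgLib.SympGen.tv_apply, hBJ]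
    rw [show ψ k (Pi.single i 1) = ψ.toMonoidHom k (Pi.single i 1) from rfl, hk']
    simp [sief, C]
  rcases classify (C := C) (by omega) (by rw [hdim]; exact ⟨n, rfl⟩) hirr' ha hfull with hT | hQ | hE
  · left
    refine le_antisymm hLG fun g hg => ?_
    have : (⟨g.1, toSp g hg⟩ : Matrix.symplecticGroup (Fin n) F) ∈ κ.range := by
      rw [htop hT]; trivial
    obtain ⟨k, hk⟩ := this
    have : k.1 = g := Units.ext (congrArg Subtype.val hk)
    exact this ▸ k.2
  · right; left
    obtain ⟨Q, hpol, hQ⟩ := hQ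
    refine ⟨Q, hpol, ?_⟩
    have hiso : ∀ g : GL (Fin n ⊕ Fin n) F, g ∈ Cfsg.isometryGroup F ⇑Q ↔
        ψ g ∈ CfsgLib.WittExtension.quadIso Q := fun g =>
      ⟨fun h v => h v v, fun h u v => h u⟩
    rcases hQ with hQ | hQ
    · refine Or.inl (Subgroup.ext fun g => ?_)
      rw [hiso, ← hQ, hmemL]
    · refine Or.inr fun g => ?_
      rw [← hmemL, hQ, hiso]
      have key : ∀ h : ψ g ∈ CfsgLib.WittExtension.quadIso Q,
          CfsgLib.SpinorNorm.dickson Q ⟨ψ g, h⟩ = 1 ↔
            Even ((g : Matrix (Fin n ⊕ Fin n) (Fin n ⊕ Fin n) F) - 1).rank := by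
        intro h
        rw [Matrix.rank, ← Matrix.toLin'_apply', CfsgLib.SpinorNorm.dickson]
        have e : CfsgLib.SpinorNorm.fixSpace Q ⟨ψ g, h⟩ = LinearMap.ker (Matrix.toLin'
            ((g : Matrix (Fin n ⊕ Fin n) (Fin n ⊕ Fin n) F) - 1)) := by
          ext z
          rw [CfsgLib.SpinorNorm.mem_fix, LinearMap.mem_ker, Matrix.toLin'_apply, Matrix.sub_mulVec,
            Matrix.one_mulVec, sub_eq_zero]
          rfl
        have h1 := LinearMap.finrank_range_add_finrank_ker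
          (Matrix.toLin' ((g : Matrix (Fin n ⊕ Fin n) (Fin n ⊕ Fin n) F) - 1))
        rw [e, hdim] at *
        rw [← h1, add_assoc, pow_add, ← two_mul (Module.finrank F _), pow_mul (-1 : ℤˣ) 2]
        simp only [even_two, Even.neg_pow, one_pow, mul_one]
        exact neg_one_pow_eq_one_iff_even (by decide)
      exact ⟨fun ⟨h, hd⟩ => ⟨h, (key h).1 hd⟩, fun ⟨h, hd⟩ => ⟨h, (key h).2 hd⟩⟩
  · right; right
    obtain ⟨hq, h4, hZ, hall⟩ := hE
    obtain rfl : n = 2 := by rw [hdim] at h4; omega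
    refine ⟨hq, rfl, ?_⟩
    obtain ⟨e⟩ := Cfsg.Agent.S0247.result hq
    set K := κ.range.map e.toMonoidHom with hK
    let eL : L ≃* K := (MonoidHom.ofInjective hκ).trans (κ.range.equivMapOfInjective e.toMonoidHom e.injective)
    let eC : L ≃* C.L := L.equivMapOfInjective ψ.toMonoidHom ψ.injective
    have hcardK : Nat.card K = Nat.card C.L := Nat.card_congr (eL.symm.trans eC).toEquiv
    obtain ⟨h60, hX60⟩ := exception (C := C) (exists_big (C := C) (by rw [hdim]; norm_num)) hq hall hZ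
      (by rw [hdim]) a ha
    have hne : K ≠ ⊤ := fun hK' => by
      have hr : κ.range = ⊤ := by
        rw [eq_top_iff]
        intro A _
        obtain ⟨A', hA', hAA⟩ := (hK' ▸ Subgroup.mem_top (e A) : e A ∈ K)
        exact e.injective hAA ▸ hA'
      have hgood : ∀ u, InL C u 0 1 := fun u => by
        obtain ⟨k, hk⟩ : CfsgLib.SympTransvection.tv u 1 ∈ κ.range := hr ▸ Subgroup.mem_top _
        refine ⟨ψ k.1, (hmemL _).2 k.2, fun z => ?_⟩
        rw [hψ, show (k.1 : Matrix _ _ F) = (CfsgLib.SympTransvection.tv u (1 : F)).1 from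
          congrArg Subtype.val hk, CfsgLib.SympGen.tv_apply, hBJ]
        simp [sief, C]
      exact one_ne_zero (hZ a ha hfull _ (hgood a))
    have hsix := six hne (hcardK ▸ h60) (fun h => by
      obtain ⟨Y, h1, h2, h3⟩ := hX60 (hcardK ▸ h)
      set ε : C.L ≃* K := eC.symm.trans eL
      refine ⟨Y.map ε.toMonoidHom, ?_, ?_, ?_⟩
      · rw [← h1]
        exact (Nat.card_congr (Y.equivMapOfInjective ε.toMonoidHom ε.injective).toEquiv).symm
      · rintro _ ⟨x, hx, rfl⟩ _ ⟨y, hy, rfl⟩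
        rw [← map_mul, ← map_mul, h2 x hx y hy]
      · intro g hg
        obtain ⟨g', rfl⟩ := ε.surjective g
        refine ⟨g', h3 g' fun x hx => ?_, rfl⟩
        obtain ⟨y, hy, hyx⟩ := hg (ε x) ⟨x, hx, rfl⟩
        have : y = g' * x * g'⁻¹ := ε.injective (by rw [map_mul, map_mul, map_inv]; exact hyx)
        exact this ▸ hy)
    rcases hsix with ⟨⟨f⟩⟩ | ⟨⟨f⟩⟩
    · exact Or.inl ⟨eL.trans f⟩
    · exact Or.inr ⟨eL.trans f⟩

end Cfsg.Agent.S5712
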