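import Cfsg.Statements.S5713
import Cfsg.Agent.Lib.MinDegreeBound

set_option autoImplicit false
open Cfsg

namespace Cfsg.Agent.S5713

/-- A classification-free minimal-degree bound. Let G be a finite group acting faithfully and primitively on a finite set Ω with n elements, and suppose that the image of G in the symmetric group on Ω does not contain the alternating group on Ω. Then every non-identity element of G moves at least (√n − 1)/2 points of Ω, that is, it fixes at most n − (√n − 1)/2 points. -/
theorem result {G Ω : Type*} [Group G] [Finite G] [MulAction G Ω] [FaithfulSMul G Ω] [Fintype Ω] [DecidableEq Ω]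
    (hprim : MulAction.IsPreprimitive G Ω)
    (hA : ¬ alternatingGroup Ω ≤ (MulAction.toPermHom G Ω).range)
    (g : G) (hg : g ≠ 1) :
    (Real.sqrt (Fintype.card Ω) - 1) / 2 ≤ (Fintype.card Ω : ℝ) - Nat.card (MulAction.fixedBy Ω g) := by
  classical
  haveI := hprim
  set M := Finset.univ.filter fun c : Ω => g • c ≠ c with hM
  have h1 : Fintype.card Ω ≤ (2 * M.card + 1) ^ 2 :=
    by convert Cfsg.Agent.MinDegreeBound.card_le_moved (G := G) (Ω := Ω) (by convert hA) g hg using 0; simp only [hM]; congr!
  have h2 : Nat.card (MulAction.fixedBy Ω g) + M.card = Fintype.card Ω := by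
    rw [Nat.card_eq_fintype_card, Fintype.card_subtype]
    simp only [MulAction.mem_fixedBy, hM]
    rw [Finset.card_filter_add_card_filter_not, Finset.card_univ]
  have h3 : (Fintype.card Ω : ℝ) ≤ (2 * (M.card : ℝ) + 1) ^ 2 := by exact_mod_cast h1
  have h4 : Real.sqrt (Fintype.card Ω) ≤ 2 * (M.card : ℝ) + 1 :=
    Real.sqrt_le_iff.mpr ⟨by positivity, h3⟩
  have h5 : (Nat.card (MulAction.fixedBy Ω g) : ℝ) + M.card = Fintype.card Ω := by exact_mod_cast h2
  linarith

end Cfsg.Agent.S5713
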