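import Cfsg.Statements.S5728


set_option autoImplicit false
open Cfsg

namespace Cfsg.Agent.S5728

/-- An elusive transitive action. Let p = 2^s − 1 be a prime and let F be the field with p² elements. Inside the group of affine maps x ↦ a·x + b of F (a ≠ 0), consider the subgroup of maps with both coefficients in the prime field. Then every element of prime order of the affine group is conjugate, within the affine group, to an element of that subgroup; equivalently, in the transitive action of the affine group on the cosets of that subgroup (of degree p(p + 1)) every element of prime order fixes a point. -/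
theorem result (p s : ℕ) [Fact p.Prime] (hs : p = 2 ^ s - 1)
    (g : Equiv.Perm (GaloisField p 2)) (hg : g ∈ Cfsg.affineGroup (GaloisField p 2)) (hord : (orderOf g).Prime) :
    ∃ x ∈ Cfsg.affineGroup (GaloisField p 2), ∃ a b : ZMod p, a ≠ 0 ∧
      ∀ y : GaloisField p 2, (x * g * x⁻¹) y = algebraMap (ZMod p) (GaloisField p 2) a * y + algebraMap (ZMod p) (GaloisField p 2) b := by
  classical
  have hp : p.Prime := Fact.out
  haveI : Finite (GaloisField p 2) := Module.finite_of_finite (ZMod p)
  haveI := Fintype.ofFinite (GaloisField p 2)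
  obtain ⟨a, b, hg'⟩ := hg
  by_cases ha : (a : (GaloisField p 2)) = 1
  · have hb : b ≠ 0 := by
      intro e
      refine hord.ne_one (orderOf_eq_one_iff.mpr (Equiv.ext fun y => ?_))
      rw [hg', ha, e, one_mul, add_zero]; rfl
    let x : Equiv.Perm (GaloisField p 2) :=
      { toFun := fun y => b⁻¹ * y
        invFun := fun y => b * y
        left_inv := fun y => by simp [hb]
        right_inv := fun y => by simp [hb] }
    refine ⟨x, ⟨(Units.mk0 b hb)⁻¹, 0, fun y => by simp [x]⟩, 1, 1, one_ne_zero, fun y => ?_⟩
    show b⁻¹ * g (b * y) = _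
    rw [hg', ha, map_one, one_mul, one_mul, mul_add, inv_mul_cancel_left₀ hb, inv_mul_cancel₀ hb]
  · obtain ⟨r, hr⟩ : ∃ r, orderOf g = r := ⟨_, rfl⟩
    rw [hr] at hord
    have hiter : ∀ k : ℕ, ∀ z : (GaloisField p 2), (g ^ k) z - (g ^ k) 0 = (a : (GaloisField p 2)) ^ k * z := by
      intro k
      induction k with
      | zero => intro z; simp
      | succ k ih =>
        intro z
        rw [pow_succ', Equiv.Perm.mul_apply, Equiv.Perm.mul_apply, hg', hg', add_sub_add_right_eq_sub, ← mul_sub, ih,
          pow_succ', mul_assoc]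
    have har : (a : (GaloisField p 2)) ^ r = 1 := by
      have h := hiter r 1
      rw [show g ^ r = 1 by rw [← hr, pow_orderOf_eq_one], Equiv.Perm.one_apply, Equiv.Perm.one_apply, sub_zero, mul_one] at h
      exact h.symm
    haveI := Fact.mk hord
    have hao : orderOf (a : (GaloisField p 2)) = r := orderOf_eq_prime har ha
    have hcard : Fintype.card (GaloisField p 2) = p ^ 2 := by
      rw [← Nat.card_eq_fintype_card]; exact GaloisField.card p 2 two_ne_zero
    have hdvd : r ∣ p ^ 2 - 1 := by
      rw [← hao, ← hcard]
      exact orderOf_dvd_of_pow_eq_one (FiniteField.pow_card_sub_one_eq_one (a : (GaloisField p 2)) a.ne_zero)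
    rw [show p ^ 2 - 1 = (p + 1) * (p - 1) by simpa using Nat.sq_sub_sq p 1] at hdvd
    have hrp : r ∣ p - 1 := by
      rcases hord.dvd_mul.mp hdvd with h | h
      · have hp1 : p + 1 = 2 ^ s := by have := hp.two_le; have := Nat.one_le_two_pow (n := s); omega
        rw [hp1] at h
        have hr2 : r = 2 := (Nat.prime_dvd_prime_iff_eq hord Nat.prime_two).mp (hord.dvd_of_dvd_pow h)
        rw [hr2]
        have hodd : Odd p := hp.odd_of_ne_two (by
          intro e
          rw [e] at hp1
          have hd : 3 ∣ 2 ^ s := ⟨1, by omega⟩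
          have := (Nat.prime_dvd_prime_iff_eq Nat.prime_three Nat.prime_two).mp (Nat.prime_three.dvd_of_dvd_pow hd)
          omega)
        obtain ⟨k, hk⟩ := hodd
        exact ⟨k, by omega⟩
      · exact h
    haveI : Finite (ZMod p)ˣ := inferInstance
    obtain ⟨ζ, hζ⟩ := exists_prime_orderOf_dvd_card' (G := (ZMod p)ˣ) r (by rwa [Nat.card_units, Nat.card_zmod])
    have hprim : IsPrimitiveRoot (algebraMap (ZMod p) (GaloisField p 2) (ζ : ZMod p)) r := by
      refine IsPrimitiveRoot.map_of_injective ?_ (algebraMap (ZMod p) (GaloisField p 2)).injective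
      rw [IsPrimitiveRoot.iff_orderOf, orderOf_units, hζ]
    obtain ⟨i, -, hi⟩ := hprim.eq_pow_of_pow_eq_one har
    set c := b * (1 - (a : (GaloisField p 2)))⁻¹
    have h1a : (1 : (GaloisField p 2)) - a ≠ 0 := sub_ne_zero.mpr (Ne.symm ha)
    let x : Equiv.Perm (GaloisField p 2) :=
      { toFun := fun y => y - c
        invFun := fun y => y + c
        left_inv := fun y => by simp
        right_inv := fun y => by simp }
    refine ⟨x, ⟨1, -c, fun y => by simp [x, sub_eq_add_neg]⟩, (ζ : ZMod p) ^ i, 0, pow_ne_zero _ ζ.ne_zero, fun y => ?_⟩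
    show g (y + c) - c = _
    rw [hg', map_pow, hi, map_zero, add_zero]
    simp only [c]
    field_simp
    ring

end Cfsg.Agent.S5728
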