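import Cfsg.Statements.S5730
import Cfsg.Agent.Lib.DerangeTwo


set_option autoImplicit false
open Cfsg

namespace Cfsg.Agent.S5730

open MulAction Finset Cfsg.Agent.DerangeTwo

section aux

variable {G Ω : Type*} [Group G] [Fintype G] [DecidableEq G] [MulAction G Ω] [Fintype Ω]
  [DecidableEq Ω]

lemma not_order_eighty_four [FaithfulSMul G Ω] (htr : IsPretransitive G Ω)
    (hG : Fintype.card G = 84) (hn : Fintype.card Ω = 7) : False := by
  classical
  have : Fact (Nat.Prime 7) := ⟨by norm_num⟩
  obtain ⟨P⟩ : Nonempty (Sylow 7 G) := inferInstance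
  have hGc : Nat.card G = 84 := by rw [Nat.card_eq_fintype_card, hG]
  have hP : Nat.card ↥(P : Subgroup G) = 7 := by
    rw [P.card_eq_multiplicity, hGc]
    have h : Nat.factorization 84 7 = 1 := by
      rw [show (84 : ℕ) = 7 * 12 by norm_num, Nat.factorization_mul (by norm_num) (by norm_num),
        Finsupp.add_apply, Nat.Prime.factorization_self (by norm_num),
        Nat.factorization_eq_zero_of_not_dvd (by norm_num)]
    rw [h, pow_one]
  have hidx : (P : Subgroup G).index = 12 := by
    have := (P : Subgroup G).card_mul_index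
    rw [hP, hGc] at this
    omega
  have hs1 : Nat.card (Sylow 7 G) = 1 := by
    have h1 := P.card_dvd_index
    have h2 := card_sylow_modEq_one 7 G
    rw [hidx] at h1
    have h3 : Nat.card (Sylow 7 G) ≤ 12 := Nat.le_of_dvd (by norm_num) h1
    unfold Nat.ModEq at h2
    generalize Nat.card (Sylow 7 G) = s at h1 h2 h3
    interval_cases s <;> omega
  have : Subsingleton (Sylow 7 G) := (Nat.card_eq_one_iff_unique.1 hs1).1
  have hnor : (P : Subgroup G).Normal := P.normal_of_subsingleton
  obtain ⟨x⟩ : Nonempty Ω := Fintype.card_pos_iff.1 (by omega)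
  have hmove : ∃ p ∈ (P : Subgroup G), p • x ≠ x := by
    by_contra hc
    push_neg at hc
    have : (P : Subgroup G) = ⊥ := by
      rw [eq_bot_iff]
      intro p hp
      rw [Subgroup.mem_bot]
      refine eq_one_of_fx (Ω := Ω) fun y => ?_
      obtain ⟨t, rfl⟩ := exists_smul_eq G x y
      have h := hc _ (hnor.conj_mem p hp t⁻¹)
      rw [inv_inv, mul_smul, mul_smul, inv_smul_eq_iff] at h
      exact h
    rw [this, Subgroup.card_bot] at hP
    omega
  obtain ⟨p₀, hp₀, hp₀x⟩ := hmove
  have hall : ∀ y : Ω, ∃ p ∈ (P : Subgroup G), p • x = y := by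
    intro y
    have h1 : Nat.card (orbit ↥(P : Subgroup G) x) ∣ 7 := by
      rw [Nat.card_congr (orbitEquivQuotientStabilizer ↥(P : Subgroup G) x),
        ← Subgroup.index_eq_card]
      exact (Subgroup.index_dvd_card _).trans (dvd_of_eq hP)
    rcases (Nat.dvd_prime (by norm_num)).1 h1 with h | h
    · exfalso
      have := (Nat.card_eq_one_iff_unique.1 h).1
      exact hp₀x (congrArg Subtype.val (Subsingleton.elim
        (⟨p₀ • x, ⟨⟨p₀, hp₀⟩, rfl⟩⟩ : orbit ↥(P : Subgroup G) x) ⟨x, mem_orbit_self x⟩))
    · have : orbit ↥(P : Subgroup G) x = Set.univ := by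
        rw [Set.eq_univ_iff_forall]
        intro z
        by_contra hz
        have := Set.ncard_lt_card (s := orbit ↥(P : Subgroup G) x)
          (fun e => hz (e ▸ Set.mem_univ z))
        rw [← Nat.card_coe_set_eq, h, Nat.card_eq_fintype_card, hn] at this
        omega
      have hy : y ∈ orbit ↥(P : Subgroup G) x := this ▸ Set.mem_univ y
      obtain ⟨⟨p, hp⟩, hpy⟩ := hy
      exact ⟨p, hp, hpy⟩
  let f : ↥(stabilizer G x) →* MulAut ↥(P : Subgroup G) :=
    (MulAut.conjNormal (H := (P : Subgroup G))).comp (stabilizer G x).subtype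
  have hf : Function.Injective f := by
    rw [← MonoidHom.ker_eq_bot_iff, eq_bot_iff]
    rintro ⟨g, hg⟩ hgf
    rw [MonoidHom.mem_ker] at hgf
    rw [Subgroup.mem_bot]
    apply Subtype.ext
    refine eq_one_of_fx (Ω := Ω) fun y => ?_
    obtain ⟨p, hp, rfl⟩ := hall y
    have h := congrArg Subtype.val (DFunLike.congr_fun hgf (⟨p, hp⟩ : ↥(P : Subgroup G)))
    simp only [f, MonoidHom.comp_apply, Subgroup.coe_subtype, MulAut.conjNormal_apply,
      MulAut.one_apply] at h
    rw [← mul_smul, mul_inv_eq_iff_eq_mul.1 h, mul_smul, mem_stabilizer_iff.1 hg]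
  have hcyc : IsCyclic ↥(P : Subgroup G) := isCyclic_of_prime_card hP
  have hle := Nat.card_le_card_of_injective f hf
  rw [IsCyclic.card_mulAut, hP, Nat.totient_prime (by norm_num)] at hle
  have h12 : Nat.card ↥(stabilizer G x) = 12 := by
    have h := card_stab_mul htr x
    rw [hn, hG] at h
    have : Nat.card ↥(stabilizer G x) = (univ.filter (fun g : G => g • x = x)).card := by
      rw [← Nat.card_eq_finsetCard]
      exact Nat.card_congr (Equiv.subtypeEquivRight fun g => by simp)
    omega
  omega

/-- degree 7 with two fixed points of the two-point stabiliser -/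
lemma seven_two [FaithfulSMul G Ω] (hT : TT G Ω) {a b : Ω} (hab : a ≠ b)
    (hn : Fintype.card Ω = 7) (hk : (line G a b).card = 2) (hR : (big G a b).card ≤ 3) :
    False := by
  classical
  by_cases h1 : ∀ h ∈ (od a b : Finset G), h = 1
  · obtain ⟨e, he⟩ := card_hs_two_pow h1
    have := parity_line he
    omega
  push_neg at h1
  obtain ⟨h, hh, hne⟩ := h1
  have hR2 : ¬ (2 * (big G a b).card + 1 < Fintype.card Ω) := fun hlt =>
    hne (od_trivial hT hab hlt h hh)
  have hR3 : (big G a b).card = 3 := by omega
  set σ : Equiv.Perm Ω := MulAction.toPermHom G Ω h with hσ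
  have hinj : Function.Injective (MulAction.toPermHom G Ω) := MulAction.toPerm_injective
  have hsub : σ.support ⊆ big G a b := by
    intro x hx
    by_contra hx'
    exact Equiv.Perm.mem_support.1 hx (od_fix (notMem_big.1 hx') hh)
  have hc3 : σ.support.card = 3 := by
    have hle := card_le_card hsub
    rw [hR3] at hle
    have h0 : σ ≠ 1 := fun e => hne (hinj (by rw [← hσ, e, map_one]))
    have h2 := Equiv.Perm.two_le_card_support_of_ne_one h0
    have hne2 : σ.support.card ≠ 2 := by
      intro e
      have hs2 := (Equiv.Perm.card_support_eq_two.1 e).orderOf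
      rw [hσ, orderOf_injective _ hinj] at hs2
      have ho := (mem_filter.1 hh).2
      rw [hs2] at ho
      exact (by decide : ¬ Odd 2) ho
    omega
  have hcyc : σ.IsThreeCycle := card_support_eq_three_iff.1 hc3
  set M := (MulAction.toPermHom G Ω).range with hM
  have hprim : IsPreprimitive ↥M Ω := by
    apply isPreprimitive_of_is_two_pretransitive
    rw [is_two_pretransitive_iff]
    intro u v w z huv hwz
    obtain ⟨g, g1, g2⟩ := hT u v w z huv hwz
    exact ⟨⟨MulAction.toPermHom G Ω g, ⟨g, rfl⟩⟩, g1, g2⟩
  have hA := Equiv.Perm.alternatingGroup_le_of_isPreprimitive_of_isThreeCycle_mem hprim hcyc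
    ⟨h, rfl⟩
  -- a point in a short orbit
  have hcard2 : 0 < (univ \ (line G a b ∪ big G a b)).card := by
    rw [card_sdiff_of_subset (subset_univ _), card_univ, hn]
    have := card_union_le (line G a b) (big G a b)
    omega
  obtain ⟨c, hc⟩ := card_pos.1 hcard2
  rw [mem_sdiff, mem_union, not_or] at hc
  obtain ⟨r, hr, r', hr', hrr⟩ := one_lt_card.1 (by omega : 1 < (big G a b).card)
  have hrc : r ≠ c := fun e => hc.2.2 (e ▸ hr)
  have hcr' : c ≠ r' := fun e => hc.2.2 (e ▸ hr')
  have hnb : ∀ x ∈ line G a b, x ∉ big G a b := fun x hx hb => by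
    have := orb_one_iff.2 hx
    simp only [big, mem_filter, mem_univ, true_and] at hb
    omega
  have key : ∀ x ∈ line G a b,
      (Equiv.swap r c * Equiv.swap r r') x = x := by
    intro x hx
    have h1 : x ≠ r := fun e => hnb x hx (e ▸ hr)
    have h2 : x ≠ r' := fun e => hnb x hx (e ▸ hr')
    have h3 : x ≠ c := fun e => hc.2.1 (e ▸ hx)
    rw [Equiv.Perm.mul_apply, Equiv.swap_apply_of_ne_of_ne h1 h2,
      Equiv.swap_apply_of_ne_of_ne h1 h3]
  obtain ⟨g, hg⟩ := hA (Equiv.Perm.isThreeCycle_swap_mul_swap_same hrc hrr hcr').mem_alternatingGroup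
  have hga : ∀ x : Ω, g • x = (Equiv.swap r c * Equiv.swap r r') x := fun x => by
    rw [← hg]; rfl
  have hmem : r ∈ orb G a b c := mem_orb.2 ⟨g,
    ⟨by rw [hga, key a (self_mem_line_left a b)], by rw [hga, key b (self_mem_line_right a b)]⟩,
    by rw [hga, Equiv.Perm.mul_apply, Equiv.swap_apply_of_ne_of_ne hrc.symm hcr',
      Equiv.swap_apply_right]⟩
  have e := orb_eq hmem
  simp only [big, mem_filter, mem_univ, true_and] at hr hc
  rw [e] at hr
  exact hc.2 hr

/-- In a doubly transitive group with nontrivial two-point stabilisers there are enough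
derangements. -/
lemma excess_large [FaithfulSMul G Ω] (htr : IsPretransitive G Ω) (hT : TT G Ω) {a b : Ω}
    (hab : a ≠ b) (hn : 7 ≤ Fintype.card Ω) (hm : 2 ≤ (hs a b : Finset G).card) :
    ((hs a b : Finset G).card : ℚ) ≤ excess G a b := by
  classical
  by_cases havg : (2 * (hs a b : Finset G).card - 1) *
      ∑ h ∈ (hs a b : Finset G), (fx h : Finset Ω).card ≤
      Fintype.card Ω * ((hs a b : Finset G).card * (hs a b : Finset G).card)
  · exact good_of_average hab hm havg
  push_neg at havg
  have hk2 := two_le_card_line (G := G) hab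
  have hsubsp : ∀ h ∈ (hs a b : Finset G), h ≠ 1 →
      (fx h : Finset Ω).card * ((line G a b).card - 1) + 1 ≤ Fintype.card Ω :=
    fun h _ hne => fx_bound hT hab hne
  rcases Nat.lt_or_ge (line G a b).card 4 with hk4 | hk4
  swap
  · refine good_of_uniform hab 3 1 Nat.one_pos (fun h hh hne => ?_) (by omega)
    have := hsubsp h hh hne
    have h3 : (fx h : Finset Ω).card * 3 ≤ (fx h : Finset Ω).card * ((line G a b).card - 1) :=
      Nat.mul_le_mul_left _ (by omega)
    omega
  have hR3 := big_bound 3 (Or.inl rfl) (fun x hx => by simpa [big] using hx) havg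
  rcases (show (line G a b).card = 2 ∧ Fintype.card Ω = 7 ∨
      (line G a b).card = 2 ∧ 8 ≤ Fintype.card Ω ∨
      (line G a b).card = 3 ∧ Fintype.card Ω ≤ 14 ∨
      (line G a b).card = 3 ∧ 15 ≤ Fintype.card Ω by omega) with
    ⟨hk, hn7⟩ | ⟨hk, hn8⟩ | ⟨hk, hn14⟩ | ⟨hk, hn15⟩
  · exact (seven_two hT hab hn7 hk (by omega)).elim
  rotate_left
  · -- small degree, lines of size three
    have hfx : ∀ h ∈ (hs a b : Finset G), h ≠ 1 → (fx h : Finset Ω).card = 3 := by
      intro h hh hne
      have hle := line_subset_fx (mem_hs.1 hh).1 (mem_hs.1 hh).2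
      by_contra hne3
      have : ¬ (fx h : Finset Ω) ⊆ line G a b := fun hsub => by
        have := card_le_card hsub
        have := card_le_card hle
        omega
      obtain ⟨e, he, he'⟩ := not_subset.1 this
      have hcl : ∀ c ∈ line G a b, ∀ d ∈ line G a b, c ≠ d → line G c d ⊆ line G a b := by
        intro c hc d hd hcd x hx
        rw [mem_line]
        intro g ga gb
        exact mem_line.1 hx g (mem_line.1 hc g ga gb) (mem_line.1 hd g ga gb)
      have h7 := subspace_bound hT hab (line G a b) (fx h) he' he hcl fun c hc =>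
        line_subset_fx (mem_fx.1 he) (mem_fx.1 (hle hc))
      have := hsubsp h hh hne
      rw [hk] at h7 this
      omega
    rcases (show Fintype.card Ω = 7 ∨ Fintype.card Ω = 8 ∨ 9 ≤ Fintype.card Ω by omega) with
      h7 | h8 | h9
    · have hS : ∑ h ∈ (hs a b : Finset G), (fx h : Finset Ω).card =
          Fintype.card Ω + ((hs a b : Finset G).card - 1) * 3 := by
        rw [← add_sum_erase _ _ (one_mem_hs a b), card_fx_one, sum_congr rfl (fun h hh =>
          hfx h (mem_of_mem_erase hh) (ne_of_mem_erase hh)), sum_const, smul_eq_mul,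
          card_erase_of_mem (one_mem_hs a b)]
      have hd := dvd_sum_fx (G := G) a b
      rw [hS, h7] at hd
      set m := (hs a b : Finset G).card with hmdef
      have hd' : m ∣ 4 := by
        have h3 : m ∣ m * 3 := dvd_mul_right _ _
        have hadd : 7 + (m - 1) * 3 = 4 + m * 3 := by omega
        rw [hadd] at hd
        exact (Nat.dvd_add_left h3).1 hd
      have hm4 : m ≤ 4 := Nat.le_of_dvd (by norm_num) hd'
      rcases (show m = 2 ∨ m = 3 ∨ m = 4 by omega) with h | h | h
      · exfalso
        refine not_order_eighty_four (G := G) htr ?_ h7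
        rw [card_group_two hT hab, h7, ← hmdef, h]
      · rw [h] at hd'; norm_num at hd'
      · refine good_of_uniform hab 7 3 (by norm_num) (fun g hg hne => ?_)
          (by rw [← hmdef, h])
        rw [hfx g hg hne, h7]
    · have hS : ∑ h ∈ (hs a b : Finset G), (fx h : Finset Ω).card =
          Fintype.card Ω + ((hs a b : Finset G).card - 1) * 3 := by
        rw [← add_sum_erase _ _ (one_mem_hs a b), card_fx_one, sum_congr rfl (fun h hh =>
          hfx h (mem_of_mem_erase hh) (ne_of_mem_erase hh)), sum_const, smul_eq_mul,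
          card_erase_of_mem (one_mem_hs a b)]
      have hd := dvd_sum_fx (G := G) a b
      rw [hS, h8] at hd
      set m := (hs a b : Finset G).card with hmdef
      have hd' : m ∣ 5 := by
        have h3 : m ∣ m * 3 := dvd_mul_right _ _
        have hadd : 8 + (m - 1) * 3 = 5 + m * 3 := by omega
        rw [hadd] at hd
        exact (Nat.dvd_add_left h3).1 hd
      have hm5 : m = 5 := by
        rcases (Nat.dvd_prime (by norm_num)).1 hd' with h | h <;> omega
      refine good_of_uniform hab 8 3 (by norm_num) (fun g hg hne => ?_)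
        (by rw [← hmdef, hm5]; norm_num)
      rw [hfx g hg hne, h8]
    · refine good_of_uniform hab 3 1 Nat.one_pos (fun h hh hne => ?_) (by omega)
      rw [hfx h hh hne]; omega
  all_goals
    have hod := od_trivial hT hab (by omega : 2 * (big G a b).card + 1 < Fintype.card Ω)
    obtain ⟨e, he⟩ := card_hs_two_pow hod
    have hR4 := big_bound 4 (Or.inr rfl) (fun x hx => big_ge_four he hx) havg
    have hsq : ∀ h ∈ (hs a b : Finset G), h * h = 1 := by
      intro h hh
      by_contra hne
      have hf := fx_bound hT hab hne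
      have hsub : univ \ big G a b ⊆ (fx (h * h) : Finset Ω) := fun x hx => by
        rw [mem_sdiff] at hx
        exact mem_fx.2 (sq_fix_of_small (notMem_big.1 hx.2) hh)
      have h1 := card_le_card hsub
      rw [card_sdiff_of_subset (subset_univ _), card_univ] at h1
      have h2 := card_fx_lt (Ω := Ω) hne
      rcases Nat.eq_zero_or_pos (big G a b).card with h0 | h0
      · omega
      · obtain ⟨x, hx⟩ := card_pos.1 h0
        have h4 := card_le_card (orb_subset_big hx)
        have := big_ge_four he hx
        rw [hk] at hf hR4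
        omega
    have hcb := commutator_bound hT hab hsq
    have hpl := parity_line he
    have hne11 : Fintype.card Ω ≠ 11 := fun h11 => by
      have : (line G a b).card = 3 := by omega
      exact line_three_card_ne_eleven hT hab this h11
    rcases (show e = 0 ∨ e = 1 ∨ e = 2 ∨ 3 ≤ e by omega) with h0 | h0 | h0 | h0
    · rw [he, h0] at hm; omega
    · have hm2 : (hs a b : Finset G).card = 2 := by rw [he, h0]; norm_num
      refine good_of_uniform hab 3 1 Nat.one_pos (fun g hg hne => ?_) (by omega)
      have hsub : (fx g : Finset Ω) ⊆ line G a b := by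
        intro x hx
        rw [mem_line]
        intro y ya yb
        have hy : y ∈ (hs a b : Finset G) := mem_hs.2 ⟨ya, yb⟩
        rcases eq_or_ne y 1 with rfl | hy1
        · exact one_smul _ _
        · have h1 : ((hs a b : Finset G).erase 1).card ≤ 1 := by
            rw [card_erase_of_mem (one_mem_hs a b)]; omega
          rw [card_le_one.1 h1 y (mem_erase.2 ⟨hy1, hy⟩) g (mem_erase.2 ⟨hne, hg⟩)]
          exact mem_fx.1 hx
      have := card_le_card hsub
      omega
    · have hm4 : (hs a b : Finset G).card = 4 := by rw [he, h0]; norm_num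
      refine good_of_uniform hab 7 3 (by norm_num) (fun g hg hne => ?_) (by omega)
      have := hcb g hg hne
      have := parity_fx (Ω := Ω) (hsq g hg)
      omega
    · have hm8 : 8 ≤ (hs a b : Finset G).card := by
        rw [he]; calc 8 = 2 ^ 3 := by norm_num
          _ ≤ 2 ^ e := Nat.pow_le_pow_right (by norm_num) h0
      rcases Nat.lt_or_ge (Fintype.card Ω) 9 with h9 | h9
      · refine good_of_uniform hab 4 1 Nat.one_pos (fun g hg hne => ?_) (by omega)
        have := hcb g hg hne
        have := parity_fx (Ω := Ω) (hsq g hg)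
        omega
      · refine good_of_uniform hab (5 * Fintype.card Ω) (2 * Fintype.card Ω + 3) (by omega)
          (fun g hg hne => ?_) ?_
        · have := hcb g hg hne
          calc 5 * Fintype.card Ω * (fx g : Finset Ω).card
              = (5 * (fx g : Finset Ω).card) * Fintype.card Ω := by ring
            _ ≤ _ := Nat.mul_le_mul_right _ this
        · set m := (hs a b : Finset G).card with hmdef
          obtain ⟨j, hj⟩ : ∃ j, m = j + 8 := ⟨m - 8, by omega⟩
          obtain ⟨i, hi⟩ : ∃ i, Fintype.card Ω = i + 9 := ⟨Fintype.card Ω - 9, by omega⟩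
          rw [hj, hi, show 2 * (j + 8) - 1 = 2 * j + 15 by omega,
            show j + 8 - 1 = j + 7 by omega]
          ring_nf
          nlinarith

end aux

/-- Let a finite group G act faithfully and transitively on a set with n ≥ 7 points. Then either G is a Frobenius permutation group (Frobenius as a permutation group: transitive, some non-identity element fixes a point, and no non-identity element fixes two points) of order n(n − 1)/a with a ∈ {1, 2}, in which case exactly a|G|/n of its elements are derangements, or the number of derangements is at least 2|G|/n. (Equality does occur: PSL₃(2) acting on the 7 points of the Fano plane has exactly 2|G|/7 derangements.) -/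
theorem result {G Ω : Type*} [Group G] [Finite G] [MulAction G Ω] [FaithfulSMul G Ω] [Fintype Ω] (htr : MulAction.IsPretransitive G Ω) (hn : 7 ≤ Fintype.card Ω) :
    (∃ a : ℕ, (a = 1 ∨ a = 2) ∧ (MulAction.IsPretransitive G Ω ∧ (∃ g : G, g ≠ 1 ∧ ∃ ω : Ω, g • ω = ω) ∧ ∀ g : G, g ≠ 1 → Nat.card (MulAction.fixedBy Ω g) ≤ 1) ∧ a * Nat.card G = Fintype.card Ω * (Fintype.card Ω - 1) ∧ Fintype.card Ω * Nat.card {g : G // ∀ ω : Ω, g • ω ≠ ω} = a * Nat.card G) ∨
    2 * Nat.card G ≤ Fintype.card Ω * Nat.card {g : G // ∀ ω : Ω, g • ω ≠ ω} := by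
  classical
  have := Fintype.ofFinite G
  have hne : Nonempty Ω := Fintype.card_pos_iff.1 (by omega)
  have hcG : Nat.card G = Fintype.card G := Nat.card_eq_fintype_card
  have hcD : Nat.card {g : G // ∀ ω : Ω, g • ω ≠ ω} = (der G Ω).card := by
    rw [← Nat.card_eq_finsetCard]
    exact Nat.card_congr (Equiv.subtypeEquivRight fun g => by simp [der])
  have hfix : ∀ g : G, Nat.card (MulAction.fixedBy Ω g) = (fx g : Finset Ω).card := fun g => by
    rw [← Nat.card_eq_finsetCard]
    exact Nat.card_congr (Equiv.subtypeEquivRight fun x => by simp)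
  rw [hcD, hcG]
  by_cases hT : TT G Ω
  swap
  · exact Or.inr (rank_three_bound htr hT)
  obtain ⟨a, b, hab⟩ := Fintype.exists_pair_of_one_lt_card (by omega : 1 < Fintype.card Ω)
  have hid := two_trans_identity (G := G) htr hT hab
  have hcard := card_group_two (G := G) hT hab
  rcases Nat.lt_or_ge (hs a b : Finset G).card 2 with hm | hm
  · have hm1 : (hs a b : Finset G).card = 1 := by
      have := card_pos.2 ⟨(1 : G), one_mem_hs a b⟩
      omega
    left
    refine ⟨1, Or.inl rfl, ⟨htr, ?_, ?_⟩, ?_, ?_⟩
    · have h := card_stab_mul htr a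
      rw [hcard, hm1, mul_one, mul_comm] at h
      have h' := Nat.eq_of_mul_eq_mul_left (by omega) h
      obtain ⟨g, hg, hg1⟩ := exists_mem_ne
        (by omega : 1 < (univ.filter (fun g : G => g • a = a)).card) 1
      exact ⟨g, hg1, a, (mem_filter.1 hg).2⟩
    · intro g hg1
      rw [hfix]
      by_contra hc
      obtain ⟨u, hu, v, hv, huv⟩ := one_lt_card.1 (not_le.1 hc)
      have h1 : (hs u v : Finset G).card = 1 := by rw [card_hs_eq hT hab huv, hm1]
      exact hg1 (card_le_one.1 h1.le g (mem_hs.2 ⟨mem_fx.1 hu, mem_fx.1 hv⟩) 1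
        (one_mem_hs u v))
    · rw [one_mul, hcard, hm1, mul_one]
    · rw [one_mul]
      obtain ⟨x, hx⟩ := card_eq_one.1 hm1
      have hx1 : x = 1 := by
        have h1 : (1 : G) ∈ ({x} : Finset G) := hx ▸ one_mem_hs a b
        exact (mem_singleton.1 h1).symm
      rw [hx, sum_singleton, hx1, card_fx_one, sub_self, zero_div, mul_zero, add_zero] at hid
      exact_mod_cast hid
  · right
    have hex := excess_large htr hT hab hn hm
    rw [excess] at hex
    have h1 : (Fintype.card G : ℚ) = ((Fintype.card Ω * (Fintype.card Ω - 1) : ℕ) : ℚ) *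
        ((hs a b : Finset G).card : ℚ) := by exact_mod_cast hcard
    have h2 := mul_le_mul_of_nonneg_left hex
      (Nat.cast_nonneg (Fintype.card Ω * (Fintype.card Ω - 1)) : (0 : ℚ) ≤ _)
    have h3 : (2 : ℚ) * Fintype.card G ≤ Fintype.card Ω * (der G Ω).card := by linarith
    exact_mod_cast h3

end Cfsg.Agent.S5730
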