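import Cfsg.Statements.S5732
import Cfsg.Agent.Lib.AffineDerange.Main
import Cfsg.Agent.S3549

set_option autoImplicit false
open Cfsg

namespace Cfsg.Agent.S5732

/-- There is a bound N such that for every finite group G acting faithfully and transitively on a set with n ≥ N points, either G is primitive and a Frobenius permutation group (Frobenius as a permutation group: transitive, some non-identity element fixes a point, and no non-identity element fixes two points), or the subgroup generated by the derangements of G has index at most √n − 1 in G. -/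
theorem result : ∃ N : ℕ, ∀ (G Ω : Type*) [Group G] [Finite G] [MulAction G Ω] [FaithfulSMul G Ω] [Fintype Ω],
      MulAction.IsPretransitive G Ω → N ≤ Fintype.card Ω →
      (MulAction.IsPreprimitive G Ω ∧ (MulAction.IsPretransitive G Ω ∧ (∃ g : G, g ≠ 1 ∧ ∃ ω : Ω, g • ω = ω) ∧ ∀ g : G, g ≠ 1 → Nat.card (MulAction.fixedBy Ω g) ≤ 1)) ∨
      ((Subgroup.closure {g : G | ∀ ω : Ω, g • ω ≠ ω}).index : ℝ) ≤ Real.sqrt (Fintype.card Ω) - 1 := by
  refine ⟨2 ^ 136, fun G Ω _ _ _ _ _ htrans hN => ?_⟩
  rw [← Nat.card_eq_fintype_card] at hN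
  simp only [← Nat.card_eq_fintype_card]
  by_cases hprim : MulAction.IsPreprimitive G Ω
  · by_cases hf : (∃ g : G, g ≠ 1 ∧ ∃ ω : Ω, g • ω = ω) ∧
        ∀ g : G, g ≠ 1 → Nat.card (MulAction.fixedBy Ω g) ≤ 1
    · exact Or.inl ⟨hprim, htrans, hf⟩
    · refine Or.inr ?_
      have h := Cfsg.Agent.AffineDerange.primitive_bound hprim hN hf
      rw [le_sub_iff_add_le, Real.le_sqrt (by positivity) (Nat.cast_nonneg _)]
      exact_mod_cast h
  · exact Or.inr (Cfsg.Agent.S3549.result htrans hprim)

end Cfsg.Agent.S5732
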