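import Cfsg.Statements.S5736
import Cfsg.Agent.Lib.PSL2Binary.EvenMain
import Cfsg.Agent.Lib.PSL2Binary.Odd

set_option autoImplicit false
open Cfsg
open CfsgLib CfsgLib.BinaryCosets CfsgLib.PSL2Binary
open scoped Pointwise

namespace Cfsg.Agent.S5736

/-- Let F be a finite field with q ≥ 4 elements, q ≠ 5, let G = PSL₂(F) and let H be a proper subgroup of G. Then the action of G on the cosets of H is binary if and only if H is trivial, or q is a power of 2 and H is a Sylow 2-subgroup, or q = 2^a with a odd and H has order 3. Here an action is binary (relational complexity 2) when, for every n ≥ 2 and all n-tuples I, J of points, if for every pair of positions some group element carries the corresponding pair of entries of I to those of J, then a single group element carries I to J. -/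
theorem result {F : Type*} [Field F] [Fintype F] (h4 : 4 ≤ Fintype.card F) (h5 : Fintype.card F ≠ 5)
    (H : Subgroup (Matrix.ProjectiveSpecialLinearGroup (Fin 2) F)) (hH : H ≠ ⊤) :
    (∀ (n : ℕ) (I J : Fin n → Matrix.ProjectiveSpecialLinearGroup (Fin 2) F ⧸ H), 2 ≤ n →
        (∀ i j : Fin n, i ≠ j → ∃ g : Matrix.ProjectiveSpecialLinearGroup (Fin 2) F, g • I i = J i ∧ g • I j = J j) → ∃ g : Matrix.ProjectiveSpecialLinearGroup (Fin 2) F, ∀ i, g • I i = J i) ↔
      (H = ⊥ ∨ ((∃ a : ℕ, Fintype.card F = 2 ^ a) ∧ ∃ P : Sylow 2 (Matrix.ProjectiveSpecialLinearGroup (Fin 2) F), H = P) ∨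
        ((∃ a : ℕ, Odd a ∧ Fintype.card F = 2 ^ a) ∧ Nat.card H = 3)) := by
  show Binary H ↔ _
  obtain ⟨p, hchar⟩ := CharP.exists F
  have hp : Fact p.Prime := ⟨CharP.char_is_prime F p⟩
  have hq2 : ∀ a : ℕ, Fintype.card F = 2 ^ a → p = 2 := by
    intro a ha
    obtain ⟨n, -, hn⟩ := FiniteField.card F p
    have hdvd : p ∣ 2 ^ a := ha ▸ hn ▸ dvd_pow_self p n.ne_zero
    exact (Nat.prime_dvd_prime_iff_eq hp.out Nat.prime_two).mp (hp.out.dvd_of_dvd_pow hdvd)
  constructor
  · intro hB
    by_cases hbot : H = ⊥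
    · exact Or.inl hbot
    right
    by_cases h2 : (2 : F) = 0
    · obtain rfl : p = 2 := by
        have hd : p ∣ 2 := (CharP.cast_eq_zero_iff F p 2).mp (by exact_mod_cast h2)
        exact (Nat.prime_dvd_prime_iff_eq hp.out Nat.prime_two).mp hd
      obtain ⟨a, -, ha⟩ := FiniteField.card F 2
      rcases forward h4 ha hH hB hbot with h | ⟨hodd, h⟩
      · exact Or.inl ⟨⟨a, ha⟩, h⟩
      · exact Or.inr ⟨⟨a, hodd, ha⟩, h⟩
    · obtain ⟨P, hP, -⟩ := exists_min (isInt_self H) hbot
      exact (no_min p h4 h2 hH hB hP h5).elim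
  · rintro (rfl | ⟨⟨a, ha⟩, P, rfl⟩ | ⟨⟨a, hodd, ha⟩, hc⟩)
    · exact binary_bot
    · obtain rfl := hq2 a ha
      obtain ⟨u, hu⟩ := DicksonFull.exists_order_p (F := F) 2
      obtain ⟨S, hS⟩ := DicksonFull.exists_sylow_cent 2 hu
      obtain ⟨g, rfl⟩ := MulAction.exists_smul_eq (Matrix.ProjectiveSpecialLinearGroup (Fin 2) F) S P
      have e : ((g • S : Sylow 2 (Matrix.ProjectiveSpecialLinearGroup (Fin 2) F)) : Subgroup _) =
          cj g (DicksonFull.cent u) := by rw [← hS]; rfl
      rw [e]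
      exact (binary_cent hu).cj g
    · obtain rfl := hq2 a ha
      exact binary_three hodd ha hc

end Cfsg.Agent.S5736
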