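import Cfsg.Statements.S5746
import Cfsg.Agent.S1679
import Cfsg.Agent.Lib.CosetEnum.J2Iso
import Cfsg.Agent.Lib.CosetEnum.Coatom
import Cfsg.Agent.Lib.CosetEnum.G416Stab
import Cfsg.Agent.Lib.CosetEnum.Simple

set_option autoImplicit false
set_option maxRecDepth 100000
open Cfsg CfsgLib.CosetEnum

namespace Cfsg.Agent.S5746

/-- The action on 416 points. -/
noncomputable def π : presG24.Grp →* Equiv.Perm (Fin G416.cert.T.n) := G416.cert.hom G416.hlt

/-- The subgroup. -/
noncomputable def H₀ : Subgroup presG24.Grp := G416.cert.sub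

/-- The base point. -/
def o : Fin G416.cert.T.n := ⟨0, G416.cert.hn⟩

theorem finiteG : Finite presG24.Grp := G24Order.upper.1

theorem mem_H₀ (g : presG24.Grp) : g ∈ H₀ ↔ π g o = o := by
  have := finiteG
  suffices h : H₀ = (MulAction.stabilizer (Equiv.Perm (Fin G416.cert.T.n)) o).comap π by rw [h]; rfl
  set S := (MulAction.stabilizer (Equiv.Perm (Fin G416.cert.T.n)) o).comap π
  have hle : H₀ ≤ S := by
    rw [H₀, Cert.sub, Subgroup.closure_le]
    rintro _ ⟨w, hw, rfl⟩
    show π (w.map presG24.σ).prod o = o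
    refine Fin.ext ?_
    have hw' : ∀ x ∈ w, x < G416.cert.D.k := fun x hx => by rw [G416.cert.hk]; exact G416.hhw w hw x hx
    refine (congrArg (fun p : Equiv.Perm (Fin G416.cert.T.n) => (p o : ℕ))
      (G416.cert.hom_word G416.hlt (by decide) w (G416.hhw w hw))).trans ?_
    refine (G416.cert.word_smul w hw' o).trans ?_
    have hb := List.all_eq_true.mp G416.cert.base_ok w hw
    rw [runT_eq] at hb
    have h0 := G416.cert.act_run_cancel w hw' 0 G416.cert.hn
    rw [Nat.eq_of_beq_eq_true hb] at h0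
    exact h0
  obtain ⟨e, -⟩ := G416.cert.exists_equiv G416.hlt (by decide) G416.hhw
  let act : MulAction presG24.Grp (Fin G416.cert.T.n) := MulAction.compHom _ π
  have : MulAction.IsPretransitive presG24.Grp (Fin G416.cert.T.n) := by
    refine ⟨fun a b => ?_⟩
    obtain ⟨g, hg⟩ := G416.cert.exists_hom_zero G416.hlt (by decide) a
    obtain ⟨g', hg'⟩ := G416.cert.exists_hom_zero G416.hlt (by decide) b
    refine ⟨g' * g⁻¹, ?_⟩
    show π (g' * g⁻¹) a = b
    rw [← hg, ← hg', ← Equiv.Perm.mul_apply]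
    exact congrArg (fun p : Equiv.Perm (Fin G416.cert.T.n) => p o)
      ((π.map_mul (g' * g⁻¹) g).symm.trans (congrArg π (inv_mul_cancel_right g' g)))
  have h1 := H₀.card_mul_index
  have h2 := (MulAction.stabilizer presG24.Grp o).card_mul_index
  rw [show H₀.index = G416.cert.T.n from index_eq_of_equiv e] at h1
  rw [MulAction.index_stabilizer_of_transitive, Nat.card_eq_fintype_card (α := Fin G416.cert.T.n), Fintype.card_fin,
    ← h1] at h2
  exact Subgroup.eq_of_le_of_card_ge hle (Nat.eq_of_mul_eq_mul_right G416.cert.hn h2).le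

theorem gen_hw : ∀ w ∈ G416.hwR, ∃ g ∈ H₀, ∀ d : Fin G416.cert.T.n, (π g d : ℕ) = runT G416.table 6 w d := by
  intro w hw
  have key : ∀ w ∈ G416.hwR, w.reverse ∈ G416.hw := by decide
  refine ⟨(w.reverse.map presG24.σ).prod, Subgroup.subset_closure ⟨_, key w hw, rfl⟩, fun d => ?_⟩
  exact (G416.cert.hom_word_run G416.hlt (by decide) G416.hhw (key w hw) d).trans (by rw [List.reverse_reverse]; rfl)

theorem word_mem {w : List ℕ} (hw : ∀ x ∈ w, x < 5) : (w.map presG24.σ).prod ∈ H₀ := by
  refine Subgroup.list_prod_mem _ fun a ha => ?_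
  obtain ⟨x, hx, rfl⟩ := List.mem_map.mp ha
  have key : ∀ x < 5, [x] ∈ G416.hw := by decide
  exact Subgroup.subset_closure ⟨[x], key x (hw x hx), by simp⟩

theorem count_univ (O : Tree) (l : ℕ) :
    (Finset.univ.filter fun d : Fin G416.cert.T.n => orbLab O (d : ℕ) = l).card = countLab O l G416.cert.T.n := by
  rw [countLab_eq]
  refine Finset.card_bij (fun d _ => (d : ℕ)) (fun d hd => ?_) (fun a _ b _ h => Fin.ext h) fun d hd => ?_
  · simp only [Finset.mem_filter, Finset.mem_univ, true_and] at hd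
    simp only [Finset.mem_filter, Finset.mem_range]
    exact ⟨d.2, hd⟩
  · simp only [Finset.mem_filter, Finset.mem_range] at hd
    exact ⟨⟨d, hd.1⟩, by simp [hd.2], rfl⟩

theorem lab_lt (d : Fin G416.cert.T.n) : orbLab G416.orb (d : ℕ) < 3 := by
  have key : Cert.okLab G416.orb 3 416 = true := by decide +kernel
  have h := allN_spec key d d.2
  rw [force_eq] at h
  exact blt_iff.mp h

theorem lab_zero {d : Fin G416.cert.T.n} (h : orbLab G416.orb (d : ℕ) = 0) : d = o := by
  have hc : (Finset.univ.filter fun d : Fin G416.cert.T.n => orbLab G416.orb (d : ℕ) = 0).card = 1 :=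
    (count_univ _ _).trans G416.count0
  have h0 : orbLab G416.orb 0 = 0 := by decide +kernel
  exact Finset.card_le_one.mp hc.le d (by simp [h]) o (by simp [o, h0])

theorem coatom_H₀ : IsCoatom H₀ := by
  have := finiteG
  have hlab : ∀ d d' : Fin G416.cert.T.n, orbLab G416.orb (d : ℕ) = orbLab G416.orb (d' : ℕ) →
      ∃ g ∈ H₀, π g d = d' := fun d d' h => exists_mem_of_lab π H₀ gen_hw G416.orbs h
  refine coatom_of_labels π o H₀ mem_H₀ Finset.univ
    (fun d => ⟨fun _ => G416.cert.exists_hom_zero G416.hlt (by decide) d, fun _ => Finset.mem_univ _⟩)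
    (fun d => orbLab G416.orb (d : ℕ)) hlab [0, 1, 2] [1, 315, 100] (by decide) (fun d _ => ?_)
    (fun _ _ => Finset.mem_univ _) (fun l hl => ?_) 416 (by rw [Finset.card_univ, Fintype.card_fin]; rfl) (by decide)
    (by decide +kernel) (by decide +kernel)
  · have := lab_lt d
    simp only [List.mem_cons, List.not_mem_nil, or_false]
    omega
  · rw [count_univ]
    simp only [List.mem_cons, List.not_mem_nil, or_false] at hl
    rcases hl with rfl | rfl | rfl
    · exact G416.count0
    · exact G416.count1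
    · exact G416.count2

/-- The stabiliser of a point in the subgroup. -/
noncomputable def stab (d : Fin G416.cert.T.n) : Subgroup H₀ :=
  (MulAction.stabilizer (Equiv.Perm (Fin G416.cert.T.n)) d).comap (π.comp H₀.subtype)

theorem coatom_root (l r : ℕ) (hr : r < 416) (hl : orbLab G416.orb r = l)
    (gens : List (List ℕ)) (O : Tree) (roots : List ℕ) (hok : okOrbs G416.table 6 gens O roots 0 416 = true)
    (hgens : (gens.all fun w => (w.all fun x => Nat.blt x 5) && Nat.beq (runT G416.table 6 w r) r) = true)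
    (LU sizes : List ℕ) (hnd : LU.Nodup) (m : ℕ) (h1m : 1 < m) (hm : countLab G416.orb l 416 = m)
    (hLU : allN 416 (fun d => force d fun d' => LU.contains (orbLab O d') == Nat.beq (orbLab G416.orb d') l) = true)
    (hsz : (LU.all fun j => Nat.beq (countLab O j 416) (sizes.getD j 0)) = true)
    (hr1 : sizes.getD (orbLab O r) 0 = 1)
    (hsub : (LU.sublists.all fun L => Bool.rec true
      (decide (L.length = LU.length) || !(Nat.beq (m % (L.map fun j => sizes.getD j 0).sum) 0))
      (L.contains (orbLab O r) && decide (1 < L.length))) = true) :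
    IsCoatom (stab ⟨r, hr⟩) := by
  have := finiteG
  set p : Fin G416.cert.T.n := ⟨r, hr⟩
  have hLU' : ∀ d : Fin G416.cert.T.n, orbLab O (d : ℕ) ∈ LU ↔ orbLab G416.orb (d : ℕ) = l := by
    intro d
    have h := allN_spec hLU d d.2
    rw [force_eq, beq_iff_eq] at h
    rw [← List.contains_iff_mem, h]
    exact ⟨Nat.eq_of_beq_eq_true, fun e => by rw [e]; exact Nat.beq_refl l⟩
  have hinv := G416.cert.lab_invariant G416.hlt (by decide) G416.hhw G416.orb G416.roots G416.hwR (by decide +kernel)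
    G416.orbs
  refine coatom_of_labels (π.comp H₀.subtype) p (stab p) (fun g => Iff.rfl)
    (Finset.univ.filter fun d => orbLab G416.orb (d : ℕ) = l) (fun d => ?_) (fun d => orbLab O (d : ℕ))
    (fun d d' h => ?_) LU sizes hnd (fun d hd => (hLU' d).mpr (Finset.mem_filter.mp hd).2)
    (fun d hd => Finset.mem_filter.mpr ⟨Finset.mem_univ _, (hLU' d).mp hd⟩)
    (fun j hj => (count_univ O j).trans (Nat.eq_of_beq_eq_true (List.all_eq_true.mp hsz j hj))) m
    ((count_univ _ l).trans hm) h1m hr1 hsub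
  · rw [Finset.mem_filter]
    constructor
    · rintro ⟨-, hd⟩
      obtain ⟨g, hg, e⟩ := exists_mem_of_lab π H₀ gen_hw G416.orbs
        (show orbLab G416.orb (p : ℕ) = orbLab G416.orb (d : ℕ) from hl.trans hd.symm)
      exact ⟨⟨g, hg⟩, e⟩
    · rintro ⟨⟨g, hg⟩, rfl⟩
      exact ⟨Finset.mem_univ _, (hinv g hg p).trans hl⟩
  · refine exists_mem_of_lab (π.comp H₀.subtype) (stab p) (fun w hw => ?_)
      (fun d hd => okOrbs_sound hok (fun d hd => absurd hd (Nat.not_lt_zero d)) d (by rw [Nat.zero_add]; exact hd)) h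
    have hc := List.all_eq_true.mp hgens w hw
    rw [Bool.and_eq_true] at hc
    have hw5 : ∀ x ∈ w, x < 5 := fun x hx => blt_iff.mp (List.all_eq_true.mp hc.1 x hx)
    have hrun : ∀ d : Fin G416.cert.T.n, (π (w.reverse.map presG24.σ).prod d : ℕ) = runT G416.table 6 w d :=
      fun d => G416.cert.hom_rev G416.hlt (by decide) w (fun x hx => lt_trans (hw5 x hx) (by decide)) d
    refine ⟨⟨_, word_mem (w := w.reverse) fun x hx => hw5 x (List.mem_reverse.mp hx)⟩, ?_, hrun⟩
    exact Fin.ext ((hrun p).trans (Nat.eq_of_beq_eq_true hc.2))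

theorem coatom_inner (y : presG24.Grp) (hy : y ∉ H₀) :
    IsCoatom ((H₀ ⊓ H₀.map (MulAut.conj y).toMonoidHom).subgroupOf H₀) := by
  set d := π y o
  have hd : orbLab G416.orb (d : ℕ) ≠ 0 := fun e => hy ((mem_H₀ y).mpr (lab_zero e))
  have heq : (H₀ ⊓ H₀.map (MulAut.conj y).toMonoidHom).subgroupOf H₀ = stab d := by
    ext ⟨g, hg⟩
    rw [Subgroup.mem_subgroupOf, Subgroup.mem_inf, Subgroup.mem_map]
    show _ ↔ π g d = d
    constructor
    · rintro ⟨-, x, hx, hxe⟩
      replace hxe : y * x * y⁻¹ = g := hxe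
      show π g (π y o) = π y o
      rw [← hxe, ← Equiv.Perm.mul_apply, ← map_mul, inv_mul_cancel_right, map_mul, Equiv.Perm.mul_apply,
        (mem_H₀ x).mp hx]
    · intro hgd
      refine ⟨hg, y⁻¹ * g * y, (mem_H₀ _).mpr ?_, show y * (y⁻¹ * g * y) * y⁻¹ = g by group⟩
      rw [map_mul, map_mul, Equiv.Perm.mul_apply, Equiv.Perm.mul_apply, hgd, ← Equiv.Perm.mul_apply, ← map_mul,
        inv_mul_cancel, map_one, Equiv.Perm.one_apply]
  rw [heq]
  obtain ⟨r, hr, hco⟩ : ∃ r : Fin G416.cert.T.n, orbLab G416.orb (r : ℕ) = orbLab G416.orb (d : ℕ) ∧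
      IsCoatom (stab r) := by
    have := lab_lt d
    rcases (show orbLab G416.orb (d : ℕ) = 1 ∨ orbLab G416.orb (d : ℕ) = 2 by omega) with e | e
    · have h1 : orbLab G416.orb 1 = 1 := by decide +kernel
      exact ⟨⟨1, show 1 < 416 by decide⟩, h1.trans e.symm, coatom_root 1 1 (by decide) h1 G416Stab.gens1 G416Stab.orb1
        G416Stab.roots1 G416Stab.orb1_ok G416Stab.gens1_check [0, 2, 3, 4, 5, 6] [1, 1, 32, 32, 160, 80, 10, 80, 20] (by decide) 315 (by decide) G416.count1
        (by decide +kernel) (by decide +kernel) (by decide +kernel) (by decide +kernel)⟩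
    · have h2 : orbLab G416.orb 38 = 2 := by decide +kernel
      exact ⟨⟨38, show 38 < 416 by decide⟩, h2.trans e.symm, coatom_root 2 38 (by decide) h2 G416Stab.gens2
        G416Stab.orb2 G416Stab.roots2 G416Stab.orb2_ok G416Stab.gens2_check [0, 4, 5] [1, 1, 252, 63, 63, 36] (by decide) 100 (by decide)
        G416.count2 (by decide +kernel) (by decide +kernel) (by decide +kernel) (by decide +kernel)⟩
  obtain ⟨h, hh, hhr⟩ := exists_mem_of_lab π H₀ gen_hw G416.orbs hr
  let c : H₀ ≃* H₀ := MulAut.conj ⟨h, hh⟩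
  have hmap : stab d = c.mapSubgroup (stab r) := by
    ext g
    show _ ↔ g ∈ (stab r).map c.toMonoidHom
    rw [Subgroup.mem_map_equiv]
    show π (g : presG24.Grp) d = d ↔ π (h⁻¹ * g * h) r = r
    rw [map_mul, map_mul, Equiv.Perm.mul_apply, Equiv.Perm.mul_apply, hhr]
    constructor
    · intro e
      rw [e, ← hhr, ← Equiv.Perm.mul_apply, ← map_mul, inv_mul_cancel, map_one, Equiv.Perm.one_apply]
    · intro e
      have := congrArg (π h) e
      rwa [hhr, ← Equiv.Perm.mul_apply, ← map_mul, mul_inv_cancel, map_one, Equiv.Perm.one_apply] at this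
  rw [hmap]
  exact (c.mapSubgroup.isCoatom_iff _).mpr hco

theorem subJ2 : Nonempty (H₀ ≃* Cfsg.Spor.J2) := by
  have := finiteG
  have := J2Iso.upper.1
  obtain ⟨e⟩ := J2Iso.isoJ2
  let τ : ℕ → presG24.Grp := fun x => if x < 5 then presG24.σ x else 1
  have hsq : ∀ x, τ x * τ x = 1 := fun x => by
    show (if x < 5 then presG24.σ x else 1) * (if x < 5 then presG24.σ x else 1) = 1
    split
    · exact presG24.σ_sq x
    · exact one_mul 1
  have hrel : ∀ w ∈ presJ2.rels, (w.map τ).prod = 1 := by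
    intro w hw
    have hc : (presJ2.rels.all fun w => presG24.rels.contains w && w.all fun x => Nat.blt x 5) = true := by
      decide +kernel
    have h := List.all_eq_true.mp hc w hw
    rw [Bool.and_eq_true] at h
    rw [show w.map τ = w.map presG24.σ from List.map_congr_left fun x hx =>
      if_pos (blt_iff.mp (List.all_eq_true.mp h.2 x hx))]
    exact presG24.rels_one (List.contains_iff_mem.mp h.1)
  let κ : presJ2.Grp →* presG24.Grp := PresentedGroup.toGroup (f := τ ∘ presJ2.idx) (presJ2.lift_rel hsq hrel)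
  have hrange : κ.range = H₀ := by
    rw [MonoidHom.range_eq_map, ← PresentedGroup.closure_range_of presJ2.relSet, MonoidHom.map_closure, H₀, Cert.sub]
    congr 1
    ext g
    constructor
    · rintro ⟨_, ⟨i, rfl⟩, rfl⟩
      refine ⟨[i.val], ?_, ?_⟩
      · have key : ∀ i : Fin 5, [i.val] ∈ G416.hw := by decide
        exact key i
      · show _ = κ (PresentedGroup.of i)
        simp [κ, τ, PresentedGroup.toGroup.of, i.2]
    · rintro ⟨w, hw, rfl⟩
      obtain ⟨i, rfl⟩ : ∃ i : Fin 5, w = [i.val] := by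
        have key : ∀ w ∈ G416.hw, ∃ i : Fin 5, w = [i.val] := by decide
        exact key w hw
      exact ⟨PresentedGroup.of i, ⟨i, rfl⟩, by simp [κ, τ, PresentedGroup.toGroup.of, i.2]⟩
  obtain ⟨eq, -⟩ := G416.cert.exists_equiv G416.hlt (by decide) G416.hhw
  have hs : Nat.card H₀ = 604800 := by
    have h := H₀.card_mul_index
    have hn : G416.cert.T.n = 416 := rfl
    rw [show H₀.index = G416.cert.T.n from index_eq_of_equiv eq, hn, G24Order.card_simple.1] at h
    refine Nat.eq_of_mul_eq_mul_right (show 0 < 416 by norm_num) (h.trans ?_)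
    norm_num
  rw [← hrange] at hs ⊢
  have hJ : Nat.card presJ2.Grp = 604800 := (Nat.card_congr e.toEquiv).trans CfsgHJ.card_J2
  exact ⟨(MulEquiv.ofBijective κ.rangeRestrict ((Nat.bijective_iff_surjective_and_card _).mpr
    ⟨κ.rangeRestrict_surjective, hJ.trans hs.symm⟩)).symm.trans e⟩

theorem transport {G Γ : Type*} [Group G] [Group Γ] (φ : G ≃* Γ) (H : Subgroup G) (h1 : IsCoatom H)
    (h2 : Nonempty (H ≃* Cfsg.Spor.J2))
    (h3 : ∀ x, x ∉ H → IsCoatom ((H ⊓ H.map (MulAut.conj x).toMonoidHom).subgroupOf H)) :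
    ∃ K : Subgroup Γ, IsCoatom K ∧ Cfsg.Spor.IsoJ2 K ∧
      ∀ x : Γ, x ∉ K → IsCoatom ((K ⊓ K.map (MulAut.conj x).toMonoidHom).subgroupOf K) := by
  obtain ⟨j⟩ := h2
  refine ⟨H.map φ.toMonoidHom, (φ.mapSubgroup.isCoatom_iff H).mpr h1, ⟨(φ.subgroupMap H).symm.trans j⟩, fun x hx => ?_⟩
  have hy : φ.symm x ∉ H := fun h => hx ⟨φ.symm x, h, φ.apply_symm_apply x⟩
  let e : H ≃* H.map φ.toMonoidHom := φ.subgroupMap H
  suffices heq : (H.map φ.toMonoidHom ⊓ (H.map φ.toMonoidHom).map (MulAut.conj x).toMonoidHom).subgroupOf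
      (H.map φ.toMonoidHom) = e.mapSubgroup ((H ⊓ H.map (MulAut.conj (φ.symm x)).toMonoidHom).subgroupOf H) by
    rw [heq]
    exact (e.mapSubgroup.isCoatom_iff _).mpr (h3 _ hy)
  ext g
  show _ ↔ g ∈ Subgroup.map e.toMonoidHom _
  obtain ⟨g₀, rfl⟩ := e.surjective g
  rw [show e g₀ = e.toMonoidHom g₀ from rfl, Subgroup.mem_map_iff_mem e.injective, Subgroup.mem_subgroupOf,
    Subgroup.mem_subgroupOf, Subgroup.mem_inf, Subgroup.mem_inf]
  show (φ (g₀ : G) ∈ H.map φ.toMonoidHom ∧ φ (g₀ : G) ∈ _) ↔ _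
  simp only [Subgroup.mem_map_equiv, MulAut.conj_symm_apply, MulEquiv.symm_apply_apply, map_mul, map_inv]

/-- The Chevalley group G₂(4) (over the field with 4 elements) has a maximal subgroup H isomorphic to the Hall–Janko group J₂ such that for every x outside H the intersection H ∩ xHx⁻¹ is a maximal subgroup of H; that is, the action of G₂(4) on the cosets of H is extremely primitive. -/
theorem result {F : Type*} [Field F] [Fintype F] (hF : Fintype.card F = 4) :
    ∃ H : Subgroup (Cfsg.Lie.chevG2.group F), IsCoatom H ∧ Cfsg.Spor.IsoJ2 H ∧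
      ∀ x : Cfsg.Lie.chevG2.group F, x ∉ H → IsCoatom ((H ⊓ H.map (MulAut.conj x).toMonoidHom).subgroupOf H) := by
  obtain ⟨e⟩ := CfsgLib.G24.exists_ringEquiv F hF
  obtain ⟨ψ⟩ := CfsgLib.G24.group_equiv e
  obtain ⟨χ⟩ := Cfsg.Agent.S1679.chevIso
  exact transport (χ.trans ψ.symm) H₀ coatom_H₀ subJ2 coatom_inner

end Cfsg.Agent.S5746
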