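import Cfsg.Statements.S5752
import Cfsg.Agent.Lib.ThompsonWielandt

set_option autoImplicit false
open Cfsg

namespace Cfsg.Agent.S5752

/-- A form of the Thompson–Wielandt Theorem on primitive permutation groups. Let G be a finite group and M₁, M₂ two distinct conjugate maximal subgroups of G with trivial core in G; define two descending sequences of subgroups by A₀ = M₁, B₀ = M₂ and, for every i, A_{i+1} = the core in M₁ of A_i ∩ B_i and B_{i+1} = the core in M₂ of A_i ∩ B_i (the core in M of a subgroup Y ≤ M is the largest normal subgroup of M contained in Y). If A₂ and B₂ are both non-trivial, then for some prime p the subgroup generated by A₂ and B₂ is a p-group, and for each j the generalized Fitting subgroups of M_j and of its first core (A₁, resp. B₁) are their largest normal p-subgroups. -/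
theorem result {G : Type*} [Group G] [Finite G] (M₁ M₂ : Subgroup G) (hmax : IsCoatom M₁) (g : G)
    (hconj : M₂ = M₁.map (MulAut.conj g).toMonoidHom) (hne : M₁ ≠ M₂) (hcore : M₁.normalCore = ⊥)
    (A B : ℕ → Subgroup G) (hA0 : A 0 = M₁) (hB0 : B 0 = M₂)
    (hA : ∀ i, A (i + 1) = ((A i ⊓ B i).subgroupOf M₁).normalCore.map M₁.subtype)
    (hB : ∀ i, B (i + 1) = ((A i ⊓ B i).subgroupOf M₂).normalCore.map M₂.subtype) (hA2 : A 2 ≠ ⊥) (hB2 : B 2 ≠ ⊥) :
    ∃ p : ℕ, p.Prime ∧ IsPGroup p ↥(A 2 ⊔ B 2) ∧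
      Cfsg.generalizedFittingSubgroup ↥M₁ = Cfsg.pCore p ↥M₁ ∧ Cfsg.generalizedFittingSubgroup ↥(A 1) = Cfsg.pCore p ↥(A 1) ∧
      Cfsg.generalizedFittingSubgroup ↥M₂ = Cfsg.pCore p ↥M₂ ∧ Cfsg.generalizedFittingSubgroup ↥(B 1) = Cfsg.pCore p ↥(B 1) := by
  obtain ⟨e, hM₂max, hM₂core⟩ : Nonempty (M₁ ≃* M₂) ∧ IsCoatom M₂ ∧ M₂.normalCore = ⊥ := by
    refine ⟨?_, ?_, ?_⟩
    · rw [hconj]; exact ⟨(MulAut.conj g).subgroupMap M₁⟩
    · rw [hconj]
      exact (OrderIso.isCoatom_iff ((MulAut.conj g).mapSubgroup) M₁).2 hmax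
    · rw [eq_bot_iff]
      intro x hx
      have hx' : x ∈ M₁.normalCore := fun b => by
        have := hx (g * b)
        rw [hconj] at this
        obtain ⟨y, hy, hyx⟩ := this
        rw [show b * x * b⁻¹ = y from by
          have hyx' : g * y * g⁻¹ = g * b * x * (g * b)⁻¹ := hyx
          calc b * x * b⁻¹ = g⁻¹ * (g * b * x * (g * b)⁻¹) * g := by group
            _ = g⁻¹ * (g * y * g⁻¹) * g := by rw [hyx']
            _ = y := by group]
        exact hy
      rwa [hcore] at hx'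
  -- properties of the cores
  have hcoreP : ∀ (M Y : Subgroup G), (Y.subgroupOf M).normalCore.map M.subtype ≤ Y ⊓ M ∧
      M ≤ Subgroup.normalizer (((Y.subgroupOf M).normalCore.map M.subtype : Subgroup G) : Set G) ∧
      ∀ X : Subgroup G, X ≤ Y ⊓ M → M ≤ Subgroup.normalizer (X : Set G) →
        X ≤ (Y.subgroupOf M).normalCore.map M.subtype := by
    intro M Y
    refine ⟨?_, ?_, ?_⟩
    · rintro _ ⟨x, hx, rfl⟩
      exact ⟨(Subgroup.normalCore_le (Y.subgroupOf M) hx : _), x.2⟩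
    · intro m hm
      refine Subgroup.mem_normalizer_fintype fun x hx => ?_
      obtain ⟨y, hy, rfl⟩ := hx
      exact ⟨⟨m, hm⟩ * y * ⟨m, hm⟩⁻¹, (Subgroup.normalCore_normal _).conj_mem y hy _, rfl⟩
    · intro X hX hXn x hx
      haveI : (X.subgroupOf M).Normal := Subgroup.normal_subgroupOf_of_le_normalizer hXn
      have hle : X.subgroupOf M ≤ (Y.subgroupOf M).normalCore :=
        Subgroup.normal_le_normalCore.2 fun z hz => (hX hz).1
      exact ⟨⟨x, (hX hx).2⟩, hle hx, rfl⟩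
  have hA1 : A 1 = ((M₁ ⊓ M₂).subgroupOf M₁).normalCore.map M₁.subtype := by rw [hA 0, hA0, hB0]
  have hB1 : B 1 = ((M₁ ⊓ M₂).subgroupOf M₂).normalCore.map M₂.subtype := by rw [hB 0, hA0, hB0]
  have hA2' : A 2 = ((A 1 ⊓ B 1).subgroupOf M₁).normalCore.map M₁.subtype := hA 1
  have hB2' : B 2 = ((A 1 ⊓ B 1).subgroupOf M₂).normalCore.map M₂.subtype := hB 1
  have hS : CfsgLib.TWielandt.Setup M₁ M₂ (A 1) (B 1) (A 2) (B 2) :=
    { max1 := hmax
      max2 := hM₂max
      core1 := hcore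
      core2 := hM₂core
      ne := hne
      iso := e
      a1le := hA1 ▸ (hcoreP M₁ _).1.trans inf_le_left
      b1le := hB1 ▸ (hcoreP M₂ _).1.trans inf_le_left
      a1n := hA1 ▸ (hcoreP M₁ _).2.1
      b1n := hB1 ▸ (hcoreP M₂ _).2.1
      a1max := fun X hX hn => hA1 ▸ (hcoreP M₁ _).2.2 X (le_inf hX (hX.trans inf_le_left)) hn
      b1max := fun X hX hn => hB1 ▸ (hcoreP M₂ _).2.2 X (le_inf hX (hX.trans inf_le_right)) hn
      a2le := hA2' ▸ (hcoreP M₁ _).1.trans inf_le_left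
      b2le := hB2' ▸ (hcoreP M₂ _).1.trans inf_le_left
      a2n := hA2' ▸ (hcoreP M₁ _).2.1
      b2n := hB2' ▸ (hcoreP M₂ _).2.1
      a2ne := hA2
      b2ne := hB2 }
  obtain ⟨p, hp, hpg, hM, hA'⟩ := CfsgLib.TWielandt.main hS
  obtain ⟨q, hq, hqg, hN, hB'⟩ := CfsgLib.TWielandt.main hS.symm
  obtain rfl := CfsgLib.TWielandt.prime_unique hS hp hq hpg hqg
  exact ⟨p, hp, hpg, hM, hA', hN, hB'⟩

end Cfsg.Agent.S5752
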