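import Cfsg.Statements.S5753
import Cfsg.Agent.Lib.Perm.BinaryAffine.Field
import Cfsg.Agent.Lib.Perm.SocleApps

set_option autoImplicit false
open Cfsg

namespace Cfsg.Agent.S5753

/-- The binary primitive permutation groups of affine type (the known proof uses the classification of the finite simple groups). Let a finite group G act faithfully and primitively on a finite set Ω, with a non-trivial abelian normal subgroup, and suppose the action is binary: for every n ≥ 2 and all n-tuples I, J of points, if for every pair of positions some element of G carries the corresponding pair of entries of I to those of J, then a single element carries I to J. Then either Ω has a prime number of points and every point stabilizer has order at most 2, or Ω can be identified with a field E that is a quadratic extension of a subfield F in such a way that the permutations induced by G are exactly the maps x ↦ a·φ(x) + b with a ∈ E of norm 1 over F, φ an automorphism of E over F and b ∈ E (the affine group of the anisotropic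 plane orthogonal group). -/
theorem result {G Ω : Type*} [Group G] [Finite G] [MulAction G Ω] [FaithfulSMul G Ω] [Fintype Ω]
    (hprim : MulAction.IsPreprimitive G Ω)
    (haff : ∃ N : Subgroup G, N.Normal ∧ N ≠ ⊥ ∧ IsMulCommutative ↥N)
    (hbin : ∀ (n : ℕ) (I J : Fin n → Ω), 2 ≤ n →
      (∀ i j : Fin n, i ≠ j → ∃ g : G, g • I i = J i ∧ g • I j = J j) → ∃ g : G, ∀ i, g • I i = J i) :
    ((Fintype.card Ω).Prime ∧ ∀ ω : Ω, Nat.card ↥(MulAction.stabilizer G ω) ≤ 2) ∨
    (∃ (F E : Type) (_ : Field F) (_ : Fintype F) (_ : Field E) (_ : Fintype E) (_ : Algebra F E) (e : Ω ≃ E),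
        Module.finrank F E = 2 ∧
        ∀ σ : Equiv.Perm Ω, σ ∈ (MulAction.toPermHom G Ω).range ↔
          ∃ (a b : E) (φ : E ≃ₐ[F] E), Algebra.norm F a = 1 ∧ ∀ ω : Ω, e (σ ω) = a * φ (e ω) + b) := by
  classical
  obtain ⟨N, hNn, hN, hab⟩ := haff
  have hcm : ∀ a ∈ N, ∀ b ∈ N, a * b = b * a := fun a ha b hb =>
    congrArg Subtype.val (hab.is_comm.comm ⟨a, ha⟩ ⟨b, hb⟩)
  letI : CommGroup N := { mul_comm := hab.is_comm.comm }
  have htr := CfsgLib.Socle.trans_of_normal hprim N hN
  have hsemi : ∀ n ∈ N, ∀ x : Ω, n • x = x → n = 1 := fun n hn x hx =>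
    CfsgLib.Socle.semiregular_of_comm htr (fun m hm => hcm n hn m hm) hx
  obtain ⟨ω₀⟩ : Nonempty Ω := by
    by_contra hemp
    rw [not_nonempty_iff] at hemp
    exact hN ((Subgroup.eq_bot_iff_forall _).2 fun n _ =>
      eq_of_smul_eq_smul (α := Ω) fun x => isEmptyElim x)
  letI act : DistribMulAction (MulAction.stabilizer G ω₀) (Additive N) :=
    { smul := fun h x => Additive.ofMul ⟨(h : G) * (Additive.toMul x : N) * (h : G)⁻¹,
        hNn.conj_mem _ (Additive.toMul x).2 _⟩
      one_smul := fun x => Additive.toMul.injective (Subtype.ext (by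
        show ((1 : MulAction.stabilizer G ω₀) : G) * (Additive.toMul x : N) *
          ((1 : MulAction.stabilizer G ω₀) : G)⁻¹ = ((Additive.toMul x : N) : G)
        simp))
      mul_smul := fun a b x => Additive.toMul.injective (Subtype.ext (by
        show ((a * b : MulAction.stabilizer G ω₀) : G) * (Additive.toMul x : N) *
          ((a * b : MulAction.stabilizer G ω₀) : G)⁻¹ =
          (a : G) * ((b : G) * (Additive.toMul x : N) * (b : G)⁻¹) * (a : G)⁻¹
        push_cast
        group))
      smul_zero := fun a => Additive.toMul.injective (Subtype.ext (by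
        show (a : G) * ((1 : N) : G) * (a : G)⁻¹ = ((1 : N) : G)
        simp))
      smul_add := fun a x y => Additive.toMul.injective (Subtype.ext (by
        show (a : G) * (((Additive.toMul x : N) : G) * (Additive.toMul y : N)) * (a : G)⁻¹ =
          (a : G) * (Additive.toMul x : N) * (a : G)⁻¹ * ((a : G) * (Additive.toMul y : N) * (a : G)⁻¹)
        group)) }
  set p : Additive N → Ω := fun x => ((Additive.toMul x : N) : G) • ω₀ with hp
  have hpinj : Function.Injective p := fun x y e => by
    refine Additive.toMul.injective (Subtype.ext ?_)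
    have h1 := hsemi _ (N.mul_mem (N.inv_mem (Additive.toMul y).2) (Additive.toMul x).2) ω₀ (by
      rw [mul_smul, inv_smul_eq_iff]; exact e)
    exact (inv_mul_eq_one.1 h1).symm
  have hpsur : Function.Surjective p := fun ω => by
    obtain ⟨m, hm, e⟩ := htr ω₀ ω
    exact ⟨Additive.ofMul ⟨m, hm⟩, e⟩
  have hpsmul : ∀ (h : MulAction.stabilizer G ω₀) (x : Additive N), p (h • x) = (h : G) • p x := by
    intro h x
    show ((h : G) * (Additive.toMul x : N) * (h : G)⁻¹) • ω₀ =
      (h : G) • ((Additive.toMul x : N) : G) • ω₀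
    rw [mul_smul, mul_smul, inv_smul_eq_iff.2 (MulAction.mem_stabilizer_iff.1 h.2).symm]
  have hpadd : ∀ x y : Additive N, p (x + y) = ((Additive.toMul x : N) : G) • p y := fun x y =>
    mul_smul _ _ _
  have hdec : ∀ g : G, ∃ (m : Additive N) (h : MulAction.stabilizer G ω₀),
      g = ((Additive.toMul m : N) : G) * h := by
    intro g
    obtain ⟨m, e⟩ := hpsur (g • ω₀)
    refine ⟨m, ⟨((Additive.toMul m : N) : G)⁻¹ * g, ?_⟩, (mul_inv_cancel_left _ _).symm⟩
    rw [MulAction.mem_stabilizer_iff, mul_smul, inv_smul_eq_iff]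
    exact e.symm
  haveI : FaithfulSMul (MulAction.stabilizer G ω₀) (Additive N) := ⟨fun {a b} hall => by
    rw [← inv_mul_eq_one]
    refine Subtype.ext (CfsgLib.Socle.semiregular_of_comm htr (fun m hm => ?_)
      (MulAction.mem_stabilizer_iff.1 (a⁻¹ * b).2))
    have h1 : (a⁻¹ * b) • Additive.ofMul (⟨m, hm⟩ : N) = Additive.ofMul ⟨m, hm⟩ := by
      rw [mul_smul, ← hall, inv_smul_smul]
    have h2 : ((a⁻¹ * b : MulAction.stabilizer G ω₀) : G) * m *
        ((a⁻¹ * b : MulAction.stabilizer G ω₀) : G)⁻¹ = m :=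
      congrArg (fun z : Additive N => ((Additive.toMul z : N) : G)) h1
    exact mul_inv_eq_iff_eq_mul.1 h2⟩
  haveI : Finite (Additive N) := Finite.of_equiv N Additive.ofMul
  haveI : Nontrivial (Additive N) := by
    have := Subgroup.nontrivial_iff_ne_bot N |>.2 hN
    exact Additive.ofMul.symm.nontrivial
  have hB : CfsgLib.BinaryAffine.Bin (MulAction.stabilizer G ω₀) (Additive N) := by
    intro S f h1 h2
    obtain ⟨n, ⟨r⟩⟩ := Finite.exists_equiv_fin S
    obtain ⟨g, hg⟩ := hbin (n + 2) (Fin.cons ω₀ (Fin.cons ω₀ fun i => p (r.symm i : S)))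
      (Fin.cons ω₀ (Fin.cons ω₀ fun i => p (f (r.symm i : S)))) (by omega) (by
      intro i j _
      have key : ∀ a ∈ S, ∃ g : G, g • ω₀ = ω₀ ∧ g • p a = p (f a) := fun a ha => by
        obtain ⟨h, hh⟩ := h1 a ha
        exact ⟨h, h.2, by rw [← hpsmul, hh]⟩
      cases i using Fin.cases with
      | zero =>
        cases j using Fin.cases with
        | zero => exact ⟨1, one_smul _ _, one_smul _ _⟩
        | succ j =>
          cases j using Fin.cases with
          | zero => exact ⟨1, one_smul _ _, one_smul _ _⟩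
          | succ j =>
            obtain ⟨g, e1, e2⟩ := key _ (r.symm j).2
            exact ⟨g, e1, e2⟩
      | succ i =>
        cases j using Fin.cases with
        | zero =>
          cases i using Fin.cases with
          | zero => exact ⟨1, one_smul _ _, one_smul _ _⟩
          | succ i =>
            obtain ⟨g, e1, e2⟩ := key _ (r.symm i).2
            exact ⟨g, e2, e1⟩
        | succ j =>
          cases i using Fin.cases with
          | zero =>
            cases j using Fin.cases with
            | zero => exact ⟨1, one_smul _ _, one_smul _ _⟩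
            | succ j =>
              obtain ⟨g, e1, e2⟩ := key _ (r.symm j).2
              exact ⟨g, e1, e2⟩
          | succ i =>
            cases j using Fin.cases with
            | zero =>
              obtain ⟨g, e1, e2⟩ := key _ (r.symm i).2
              exact ⟨g, e2, e1⟩
            | succ j =>
              obtain ⟨a, ha⟩ : ∃ a, a = r.symm i := ⟨_, rfl⟩
              obtain ⟨b, hb⟩ : ∃ b, b = r.symm j := ⟨_, rfl⟩
              obtain ⟨h, hh⟩ := h2 a a.2 b b.2
              simp only [Fin.cons_succ, ← ha, ← hb]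
              refine ⟨((Additive.toMul (f b) : N) : G) * h * ((Additive.toMul (b : Additive N) : N) : G)⁻¹,
                ?_, ?_⟩
              · have e : ((Additive.toMul (b : Additive N) : N) : G)⁻¹ • p a = p ((a : Additive N) - b) := by
                  rw [inv_smul_eq_iff, ← hpadd, add_sub_cancel]
                rw [mul_smul, mul_smul, e, ← hpsmul, hh, ← hpadd, add_sub_cancel]
              · have e : ((Additive.toMul (b : Additive N) : N) : G)⁻¹ • p b = ω₀ := inv_smul_smul _ _
                rw [mul_smul, mul_smul, e, MulAction.mem_stabilizer_iff.1 h.2])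
    have h0 : g • ω₀ = ω₀ := by simpa using hg 0
    refine ⟨⟨g, h0⟩, fun a ha => hpinj ?_⟩
    have := hg (r ⟨a, ha⟩).succ.succ
    rw [hpsmul]
    simpa using this
  have hirr : CfsgLib.BinaryAffine.Irr (MulAction.stabilizer G ω₀) (Additive N) := by
    intro U hU
    refine or_iff_not_imp_left.2 fun hUb => (AddSubgroup.eq_top_iff' _).2 fun x => ?_
    let M : Subgroup G :=
      { carrier := {g | ∃ u ∈ U, ((Additive.toMul u : N) : G) = g}
        mul_mem' := fun {a b} ⟨u, hu, ea⟩ ⟨v, hv, eb⟩ => ⟨u + v, U.add_mem hu hv, by rw [← ea, ← eb]; rfl⟩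
        one_mem' := ⟨0, U.zero_mem, rfl⟩
        inv_mem' := fun {a} ⟨u, hu, ea⟩ => ⟨-u, U.neg_mem hu, by rw [← ea]; rfl⟩ }
    have : M.Normal := ⟨by
      rintro _ ⟨u, hu, rfl⟩ g
      obtain ⟨m, h, rfl⟩ := hdec g
      refine ⟨h • u, hU h u hu, ?_⟩
      show (h : G) * (Additive.toMul u : N) * (h : G)⁻¹ = _
      have hc := hcm _ (Additive.toMul m).2 _ (hNn.conj_mem _ (Additive.toMul u).2 h)
      rw [mul_inv_rev, show ((Additive.toMul m : N) : G) * h * (Additive.toMul u : N) *
        ((h : G)⁻¹ * ((Additive.toMul m : N) : G)⁻¹) = ((Additive.toMul m : N) : G) *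
        ((h : G) * (Additive.toMul u : N) * (h : G)⁻¹) * ((Additive.toMul m : N) : G)⁻¹ by group, hc,
        mul_inv_cancel_right]⟩
    have hM : M ≠ ⊥ := fun e => hUb ((AddSubgroup.eq_bot_iff_forall _).2 fun u hu => by
      have : ((Additive.toMul u : N) : G) ∈ M := ⟨u, hu, rfl⟩
      rw [e, Subgroup.mem_bot] at this
      exact Additive.toMul.injective (Subtype.ext this))
    obtain ⟨_, ⟨u, hu, rfl⟩, e⟩ := CfsgLib.Socle.trans_of_normal hprim M hM ω₀ (p x)
    exact hpinj (a₁ := u) (a₂ := x) e ▸ hu
  have hba : CfsgLib.BinaryAffine.BA (MulAction.stabilizer G ω₀) (Additive N) := by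
    refine ⟨hB, ?_⟩
    let d : Additive N →+ Additive N := AddMonoidHom.id _ + AddMonoidHom.id _
    rcases hirr d.ker (fun g u hu => by
      show g • u + g • u = 0
      rw [← smul_add, show u + u = 0 from hu, smul_zero]) with e | e
    · exact Or.inr fun x hx => AddSubgroup.mem_bot.1 (e ▸ (hx : x ∈ d.ker))
    · exact Or.inl fun x => (show x ∈ d.ker from e ▸ AddSubgroup.mem_top x)
  by_cases hs : ∀ g : MulAction.stabilizer G ω₀, g ≠ 1 →
      (CfsgLib.BinaryAffine.Fx g : AddSubgroup (Additive N)) = ⊥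
  · obtain ⟨hpr, hH⟩ := CfsgLib.BinaryAffine.prime_of_semiregular hB hirr hs
    refine Or.inl ⟨?_, fun ω => ?_⟩
    · rwa [← Nat.card_eq_fintype_card, ← Nat.card_congr (Equiv.ofBijective p ⟨hpinj, hpsur⟩)]
    · obtain ⟨m, _, e⟩ := htr ω₀ ω
      rw [← Nat.card_congr (MulAction.stabilizerEquivStabilizer e.symm).toEquiv]
      exact hH
  push Not at hs
  obtain ⟨g₀, hg₀, hF⟩ := hs
  obtain ⟨h, k, C⟩ := CfsgLib.BinaryAffine.exists_pair hba hirr hg₀ hF
  obtain ⟨F, E, iF, iFf, iE, iEf, iA, ψ, hrank, hH⟩ :=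
    CfsgLib.BinaryAffine.Dih.exists_field (H := MulAction.stabilizer G ω₀) ⟨C, C.P_eq_top hirr⟩
  refine Or.inr ⟨F, E, iF, iFf, iE, iEf, iA,
    (Equiv.ofBijective p ⟨hpinj, hpsur⟩).symm.trans ψ.toEquiv, hrank, fun σ => ?_⟩
  set e : Ω ≃ E := (Equiv.ofBijective p ⟨hpinj, hpsur⟩).symm.trans ψ.toEquiv with he
  have hep : ∀ x, e (p x) = ψ x := fun x => congrArg ψ (Equiv.ofBijective_symm_apply_apply _ _ x)
  constructor
  · rintro ⟨g, rfl⟩
    obtain ⟨m, h, rfl⟩ := hdec g
    obtain ⟨a, φ, ha, hf⟩ := (hH fun x => h • x).1 ⟨h, fun x => rfl⟩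
    refine ⟨a, ψ m, φ, ha, fun ω => ?_⟩
    obtain ⟨x, rfl⟩ := hpsur ω
    show e ((((Additive.toMul m : N) : G) * h) • p x) = _
    rw [mul_smul, ← hpsmul, ← hpadd, hep, hep, map_add, hf, add_comm]
  · rintro ⟨a, b, φ, ha, hσ⟩
    obtain ⟨h, hh⟩ := (hH fun x => ψ.symm (a * φ (ψ x))).2
      ⟨a, φ, ha, fun x => ψ.apply_symm_apply _⟩
    refine ⟨((Additive.toMul (ψ.symm b) : N) : G) * h, Equiv.ext fun ω => e.injective ?_⟩
    obtain ⟨x, rfl⟩ := hpsur ω
    rw [hσ]
    show e ((((Additive.toMul (ψ.symm b) : N) : G) * h) • p x) = _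
    rw [mul_smul, ← hpsmul, ← hpadd, hep, hep, hh, map_add, ψ.apply_symm_apply, ψ.apply_symm_apply,
      add_comm]

end Cfsg.Agent.S5753
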