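import Cfsg.Statements.S5754


set_option autoImplicit false
open Cfsg

namespace Cfsg.Agent.S5754

/-- Let V be a finite-dimensional vector space over a finite field F carrying an anisotropic quadratic form Q (Q(v) = 0 only for v = 0). Then the group of all maps v ↦ φ(v) + c, with φ an isometry of Q and c ∈ V, acts on V as a binary permutation group: given n ≥ 2 and two n-tuples u, u' of vectors such that every pair of corresponding entries of u is carried to that of u' by such a map, one such map carries u to u'. -/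
theorem result {F V : Type*} [Field F] [Finite F] [AddCommGroup V] [Module F V] [Module.Finite F V]
    (Q : QuadraticForm F V) (hQ : Q.Anisotropic) (n : ℕ) (hn : 2 ≤ n) (u u' : Fin n → V)
    (h2 : ∀ i j : Fin n, i ≠ j → ∃ (φ : Q.IsometryEquiv Q) (c : V), φ (u i) + c = u' i ∧ φ (u j) + c = u' j) :
    ∃ (φ : Q.IsometryEquiv Q) (c : V), ∀ i, φ (u i) + c = u' i := by
  classical
  haveI : NeZero n := ⟨by omega⟩
  -- the differences from the first point
  let v : Fin n → V := fun i => u i - u 0
  let v' : Fin n → V := fun i => u' i - u' 0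
  have hdiff : ∀ i j, Q (v i - v j) = Q (v' i - v' j) := by
    intro i j
    simp only [v, v', sub_sub_sub_cancel_right]
    by_cases hij : i = j
    · subst hij; simp
    obtain ⟨φ, c, h1, h2'⟩ := h2 i j hij
    rw [← h1, ← h2', add_sub_add_right_eq_sub,
      show φ (u i) - φ (u j) = φ (u i - u j) from (map_sub φ.toLinearEquiv _ _).symm]
    exact (φ.map_app _).symm
  have h0 : v 0 = 0 ∧ v' 0 = 0 := ⟨sub_self _, sub_self _⟩
  have hQv : ∀ i, Q (v i) = Q (v' i) := fun i => by simpa [h0.1, h0.2] using hdiff i 0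
  have hsub : ∀ x y : V, Q (x - y) = Q x + Q y - QuadraticMap.polar Q x y := fun x y => by
    rw [sub_eq_add_neg, QuadraticMap.map_add Q x (-y), QuadraticMap.map_neg, QuadraticMap.polar_neg_right, ← sub_eq_add_neg]
  have hpol : ∀ i j, QuadraticMap.polar Q (v i) (v j) = QuadraticMap.polar Q (v' i) (v' j) := fun i j => by
    have h := hdiff i j
    rw [hsub (v i) (v j), hsub (v' i) (v' j), hQv i, hQv j] at h
    exact sub_right_injective h
  suffices key : ∀ s : Finset (Fin n), ∃ φ : Q.IsometryEquiv Q, ∀ i ∈ s, φ (v i) = v' i by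
    obtain ⟨φ, hφ⟩ := key Finset.univ
    refine ⟨φ, u' 0 - φ (u 0), fun i => ?_⟩
    have h := hφ i (Finset.mem_univ i)
    simp only [v, v'] at h
    rw [show φ (u i - u 0) = φ (u i) - φ (u 0) from map_sub φ.toLinearEquiv _ _] at h
    rw [← sub_add_cancel (u' i) (u' 0), ← h]
    abel
  intro s
  induction s using Finset.induction_on with
  | empty => exact ⟨QuadraticMap.IsometryEquiv.refl Q, fun i hi => absurd hi (Finset.notMem_empty i)⟩
  | insert k s hk ih =>
    obtain ⟨φ, hφ⟩ := ih
    set x := φ (v k) with hx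
    by_cases hw : x = v' k
    · exact ⟨φ, fun i hi => (Finset.mem_insert.mp hi).elim (fun e => e ▸ hw) (hφ i)⟩
    obtain ⟨w, hwdef⟩ : ∃ w, w = x - v' k := ⟨_, rfl⟩
    have hQw : Q w ≠ 0 := fun e => hw (sub_eq_zero.mp (hwdef.symm.trans (hQ _ e)))
    let P : V →ₗ[F] F := QuadraticMap.polarBilin Q w
    have hP : ∀ y, P y = QuadraticMap.polar Q w y := fun y => rfl
    let r : V →ₗ[F] V := LinearMap.id - ((Q w)⁻¹ • P).smulRight w
    have hr : ∀ y, r y = y - ((Q w)⁻¹ * P y) • w := fun y => rfl
    have hPw : P w = 2 * Q w := by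
      rw [hP, QuadraticMap.polar_self, nsmul_eq_mul, Nat.cast_ofNat]
    have hQr : ∀ y, Q (r y) = Q y := fun y => by
      rw [hr, hsub, QuadraticMap.map_smul, QuadraticMap.polar_smul_right, QuadraticMap.polar_comm, ← hP,
        smul_eq_mul, smul_eq_mul]
      field_simp
      ring
    have hrr : ∀ y, r (r y) = y := fun y => by
      rw [hr (r y), hr y, map_sub P, map_smul P, hPw, smul_eq_mul, sub_sub, ← add_smul,
        show (Q w)⁻¹ * P y + (Q w)⁻¹ * (P y - (Q w)⁻¹ * P y * (2 * Q w)) = 0 by field_simp; ring, zero_smul, sub_zero]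
    let R : Q.IsometryEquiv Q :=
      { (LinearEquiv.ofLinearMap r r (LinearMap.ext hrr) (LinearMap.ext hrr) : V ≃ₗ[F] V) with map_app' := hQr }
    refine ⟨φ.trans R, fun i hi => ?_⟩
    show r (φ (v i)) = v' i
    rcases Finset.mem_insert.mp hi with rfl | hi
    · rw [← hx, hr]
      have hPx : P x = Q w := by
        have h1 : Q (v' i) = Q x := by rw [← hQv, hx]; exact (φ.map_app _).symm
        rw [hP, hwdef, QuadraticMap.polar_comm, sub_eq_add_neg, QuadraticMap.polar_add_right, QuadraticMap.polar_neg_right,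
          QuadraticMap.polar_self, ← sub_eq_add_neg (a := x), hsub, h1, two_nsmul]
        ring
      rw [hPx, inv_mul_cancel₀ hQw, one_smul, hwdef]
      abel
    · rw [hφ i hi, hr]
      have hPi : P (v' i) = 0 := by
        have hiso : QuadraticMap.polar Q x (v' i) = QuadraticMap.polar Q (v k) (v i) := by
          rw [← hφ i hi, hx, QuadraticMap.polar, QuadraticMap.polar,
            show φ (v k) + φ (v i) = φ (v k + v i) from (map_add φ.toLinearEquiv _ _).symm]
          exact congrArg₂ (· - ·) (congrArg₂ (· - ·) (φ.map_app _) (φ.map_app _)) (φ.map_app _)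
        rw [hP, hwdef, sub_eq_add_neg, QuadraticMap.polar_add_left, QuadraticMap.polar_neg_left, hiso, hpol, add_neg_cancel]
      rw [hPi, mul_zero, zero_smul, sub_zero]

end Cfsg.Agent.S5754
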