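import Cfsg.Statements.S5756
import Cfsg.Agent.Lib.OvalPlane.AltSeven
import Cfsg.Agent.Lib.OvalPlane.OneMod
import Cfsg.Agent.Lib.OvalPlane.SDEnd
-- import your own Cfsg.Agent.* helpers here

set_option autoImplicit false
open Cfsg

namespace Cfsg.Agent.S5756

theorem exists_line_through {P L : Type*} [Membership P L] [Configuration.ProjectivePlane P L] (x : P) :
    ∃ a : L, x ∈ a := by
  obtain ⟨p₁, p₂, p₃, l₁, l₂, l₃, h1, h2, h3, h4, -⟩ := Configuration.ProjectivePlane.exists_config (P := P) (L := L)
  by_cases h : x = p₁
  · have hne : p₁ ≠ p₂ := fun e => h1 (e ▸ h4)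
    exact ⟨Configuration.HasLines.mkLine hne, by rw [h]; exact (Configuration.HasLines.mkLine_ax hne).1⟩
  · exact ⟨Configuration.HasLines.mkLine h, (Configuration.HasLines.mkLine_ax h).1⟩

theorem exists_point_on {P L : Type*} [Membership P L] [Configuration.ProjectivePlane P L] (a : L) :
    ∃ x : P, x ∈ a :=
  exists_line_through (P := Configuration.Dual L) (L := Configuration.Dual P) a


/-- Let Π be a finite projective plane of odd order n (points P, lines L), and let G be a finite non-abelian simple group acting faithfully on the points, and on the lines compatibly with incidence (a collineation group). If G leaves invariant an oval of Π (a set of n + 1 points, no three of them on a common line), then G is isomorphic to PSL₂(F) for a finite field F of odd order. -/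
theorem result {P L : Type*} [Membership P L] [Fintype P] [Fintype L] [Configuration.ProjectivePlane P L]
    (hodd : Odd (Configuration.ProjectivePlane.order P L))
    {G : Type*} [Group G] [Finite G] [MulAction G P] [MulAction G L] [FaithfulSMul G P]
    (hcoll : ∀ (g : G) (p : P) (l : L), g • p ∈ g • l ↔ p ∈ l)
    [IsSimpleGroup G] (hG : ¬ IsMulCommutative G)
    (O : Finset P) (hcard : O.card = Configuration.ProjectivePlane.order P L + 1)
    (harc : ∀ l : L, ∀ p ∈ O, ∀ q ∈ O, ∀ r ∈ O, p ∈ l → q ∈ l → r ∈ l → p = q ∨ p = r ∨ q = r)
    (hinv : ∀ g : G, ∀ p ∈ O, g • p ∈ O) :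
    ∃ (F : Type) (_ : Field F) (_ : Fintype F), Odd (Fintype.card F) ∧
      Nonempty (G ≃* Matrix.ProjectiveSpecialLinearGroup (Fin 2) F) := by
  classical
  let π : CfsgLib.TTP.Pl P L :=
    { I := fun x a => x ∈ a
      join := fun x y =>
        if h : x = y then (exists_line_through x).choose
        else Configuration.HasLines.mkLine h
      meet := fun a b => if h : a = b then (exists_point_on a).choose else Configuration.HasPoints.mkPoint h
      join_left := fun x y => by
        by_cases h : x = y
        · simp only [dif_pos h]; exact (exists_line_through x).choose_spec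
        · simp only [dif_neg h]; exact (Configuration.HasLines.mkLine_ax h).1
      join_right := fun x y => by
        by_cases h : x = y
        · simp only [dif_pos h]; exact h ▸ (exists_line_through x).choose_spec
        · simp only [dif_neg h]; exact (Configuration.HasLines.mkLine_ax h).2
      meet_left := fun a b => by
        by_cases h : a = b
        · simp only [dif_pos h]; exact (exists_point_on a).choose_spec
        · simp only [dif_neg h]; exact (Configuration.HasPoints.mkPoint_ax h).1
      meet_right := fun a b => by
        by_cases h : a = b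
        · simp only [dif_pos h]; exact h ▸ (exists_point_on a).choose_spec
        · simp only [dif_neg h]; exact (Configuration.HasPoints.mkPoint_ax h).2
      unique := fun h₁ h₂ h₃ h₄ => Configuration.Nondegenerate.eq_or_eq h₁ h₂ h₃ h₄
      config := Configuration.ProjectivePlane.exists_config }
  have hn : π.n = Configuration.ProjectivePlane.order P L := rfl
  let A : CfsgLib.TTP.Act π G :=
    { p := MulAction.toPermHom G P
      l := MulAction.toPermHom G L
      inc := fun g x a => hcoll g x a
      faith := fun g hg => eq_of_smul_eq_smul (α := P) fun x => by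
        rw [one_smul]; exact Equiv.congr_fun hg x }
  let O' : CfsgLib.OvalPlane.Oval A :=
    { pts := ↑O
      card := by rw [Set.ncard_coe_finset, hn]; exact hcard
      arc := fun l x y z hx hy hz h1 h2 h3 => harc l x hx y hy z hz h1 h2 h3
      inv := hinv
      odd := hn ▸ hodd }
  have hperf : commutator G = ⊤ := by
    exact ((inferInstance : (commutator G).Normal).eq_bot_or_eq_top).resolve_left fun h =>
      hG ((commutator_eq_bot_iff G).mp h)
  have h2 : Odd π.n := O'.odd
  rcases (show π.n % 4 = 1 ∨ π.n % 4 = 3 by obtain ⟨m, hm⟩ := h2; omega) with h | h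
  · rcases CfsgLib.OvalPlane.Mod1.main_one (O := O') ⟨hperf, h⟩ hG with h | ⟨⟨H⟩⟩
    · exact h
    · exact (CfsgLib.OvalPlane.SD.sd_false hG H).elim
  · exact CfsgLib.OvalPlane.main_three (O := O') hperf h hG

end Cfsg.Agent.S5756
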