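import Cfsg.Statements.S5776
import Cfsg.Agent.Lib.MaxSub.ResThree.Wrap

set_option autoImplicit false
open Cfsg

namespace Cfsg.Agent.S5776

/-- The maximal subgroups of SL_3(q) in the residual class. Let F be a finite field with q elements of characteristic p, and let H be a maximal subgroup of SL_3(F) lying in the residual class of the linear case. Then the perfect socle preimage P of H (the subgroup given by the residual-class conditions) satisfies one of: P modulo scalars is isomorphic to the simple group of order 168 (written here as PSL_3(2)) and q = p with p ≠ 2 and p ≡ 1, 2 or 4 mod 7; or P modulo scalars is isomorphic to the alternating group A_6 and either q = p with p ≡ 1 or 4 mod 15, or q = p² with p ≡ 2 or 3 mod 5 and p ≠ 3. -/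
theorem result {F : Type*} [Field F] [Fintype F] (H : Subgroup (Matrix.GeneralLinearGroup (Fin 3) F)) (hH : Cfsg.Geo.IsMaximalIn (Cfsg.Geo.specialLinear (Fin 3) F) H) (hS : Cfsg.Geo.InLinearResidualClass H) :
    ∃ (P : Subgroup (Matrix.GeneralLinearGroup (Fin 3) F)) (p : ℕ), Cfsg.Geo.IsResidualCore H P ∧ p.Prime ∧ CharP F p ∧
    ((Nonempty ((P ⧸ (Cfsg.Geo.scalars (Fin 3) F).subgroupOf P) ≃* Matrix.ProjectiveSpecialLinearGroup (Fin 3) (ZMod 2)) ∧
        Fintype.card F = p ∧ p ≠ 2 ∧ (p % 7 = 1 ∨ p % 7 = 2 ∨ p % 7 = 4)) ∨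
     (Nonempty ((P ⧸ (Cfsg.Geo.scalars (Fin 3) F).subgroupOf P) ≃* alternatingGroup (Fin 6)) ∧
        ((Fintype.card F = p ∧ (p % 15 = 1 ∨ p % 15 = 4)) ∨ (Fintype.card F = p ^ 2 ∧ p ≠ 3 ∧ (p % 5 = 2 ∨ p % 5 = 3))))) := by
  obtain ⟨P, hres, hQ, -, hf⟩ := hS
  obtain ⟨p, hchar⟩ := CharP.exists F
  haveI : Fact p.Prime := ⟨CharP.char_is_prime F p⟩
  refine ⟨P, p, hres, Fact.out, hchar, ?_⟩
  have hP := CfsgLib.ResThree.Core.of_residual hres
  have hprim := CfsgLib.ResThree.primitive_of_residual hres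
  have hnot : ¬ Cfsg.Geo.specialLinear (Fin 3) F ≤ P := fun h => hH.1.not_ge (h.trans hres.le)
  have hd : CfsgLib.ResThree.DihedralSylow P := by
    by_cases ht : CfsgLib.ResThree.HasTransvection P
    · rcases CfsgLib.ResThree.transvection_case hP hprim ht with h | h | h
      · exact absurd h hnot
      · exact absurd h hf
      · exact h
    · exact CfsgLib.ResThree.dihedralSylow_of_core hP ht
  rcases CfsgLib.ResThree.dihedral_cases (p := p) hP hprim hd with h | ⟨e, hc⟩ | ⟨e, hc⟩ | ⟨-, -, -, h⟩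
  · exact absurd h hQ
  · rcases hc with ⟨-, hc2⟩ | hc | ⟨-, -, h⟩
    · obtain ⟨e⟩ := e
      exact absurd (CfsgLib.ResThree.le_of_l32 hP hc2 e) hnot
    · exact Or.inl ⟨e, hc.2.1, hc.1, hc.2.2⟩
    · exact absurd h hf
  · rcases hc with hc | ⟨h1, h2, h3, -⟩ | ⟨-, -, h⟩
    · exact Or.inr ⟨e, Or.inl hc⟩
    · exact Or.inr ⟨e, Or.inr ⟨h1, h2, h3⟩⟩
    · exact absurd h hf
  · exact absurd h hf

end Cfsg.Agent.S5776
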