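import Cfsg.Statements.S5778
import Cfsg.Agent.Lib.Aschbacher.UnitaryMaximalGeneral
import Cfsg.Agent.Lib.Aschbacher.UnitaryProper
import Cfsg.Agent.Lib.MaxSub.SUThree.Exceptions

set_option autoImplicit false
open Cfsg

namespace Cfsg.Agent.S5778

open CfsgLib.Aschbacher Matrix Module

/-- A field minimal for the cube roots of unity, of square order. -/
theorem minimal_three {F : Type*} [Field F] [Fintype F] {q p e : ℕ} (hF : Fintype.card F = q ^ 2)
    (h3 : 3 ≠ p) (h : Cfsg.Geo.IsMinimalFieldFor 3 p e F) : q = p ∧ p % 3 = 2 := by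
  obtain ⟨hp, -, hcard, hdvd, hmin⟩ := h
  have he1 : e ≠ 1 := by
    rintro rfl
    rw [pow_one, hF] at hcard
    exact Nat.Prime.not_prime_pow' (x := q) (n := 2) (by norm_num) (hcard ▸ hp)
  have he0 : e ≠ 0 := by
    rintro rfl
    have := Fintype.one_lt_card (α := F)
    rw [hcard, pow_zero] at this
    omega
  have h1 := hmin 1 one_pos (by omega)
  rw [pow_one] at h1
  have h0 : p % 3 ≠ 0 := fun h0 =>
    h3 ((Nat.prime_dvd_prime_iff_eq Nat.prime_three hp).1 (Nat.dvd_of_mod_eq_zero h0))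
  have hpp := hp.one_lt
  have hp3 : p % 3 = 2 := by omega
  have h2 : 3 ∣ p ^ 2 - 1 := by
    have : p ^ 2 % 3 = 1 := by rw [Nat.pow_mod, hp3]
    omega
  obtain rfl : e = 2 := by
    by_contra hne
    exact hmin 2 two_pos (by omega) h2
  exact ⟨Nat.pow_left_injective two_ne_zero (hF.symm.trans hcard), hp3⟩

/-- Every maximal subgroup of SU_3(q), q ≥ 3, is of one of the listed geometric types or lies in the residual class. Let F be the field with q² elements, f the standard unitary form Σ u_i v_i^q on F^3, and H a maximal subgroup of SU_3(q) (the determinant-one isometries of f, inside GL_3(F)). Then H is the intersection with SU_3(q) of one of: the stabiliser of a non-zero subspace on which f vanishes; the stabiliser of a non-degenerate 1-space; for q ≠ 5, the stabiliser of a decomposition into three mutually orthogonal non-degenerate 1-spaces; for q ≠ 3, 5, the normaliser of an adjoint-closed degree-3 subfield of the matrix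 algebra; a subfield group of odd prime index whose F₀-structure carries f; for q odd, q ≥ 7, a subfield group of index 2 whose F₀-structure carries f; for q = p ≡ 2 mod 3 prime with p ≥ 11, the normaliser of an absolutely irreducible subgroup of order 27 with centre of order 3, exponent 3 and all characteristic abelian subgroups cyclic, contained in the similarity group of f — or else H lies in the residual class of the unitary case. -/
theorem result {F : Type*} [Field F] [Fintype F] (q : ℕ) (hF : Fintype.card F = q ^ 2) (hq : 3 ≤ q) (H : Subgroup (Matrix.GeneralLinearGroup (Fin 3) F)) (hH : Cfsg.Geo.IsMaximalIn (Cfsg.GU 3 F q ⊓ Cfsg.Geo.specialLinear (Fin 3) F) H) :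
    (∃ W : Submodule F (Fin 3 → F), W ≠ ⊥ ∧ Cfsg.Geo.IsTotallySingularFor (Cfsg.hermForm 3 F q) W ∧ H = Cfsg.Geo.subspaceStabilizer W ⊓ (Cfsg.GU 3 F q ⊓ Cfsg.Geo.specialLinear (Fin 3) F)) ∨
    (∃ W : Submodule F (Fin 3 → F), W ≠ ⊥ ∧ Cfsg.Geo.IsNondegenerateOn (Cfsg.hermForm 3 F q) W ∧ 2 * Module.finrank F W < 3 ∧ H = Cfsg.Geo.subspaceStabilizer W ⊓ (Cfsg.GU 3 F q ⊓ Cfsg.Geo.specialLinear (Fin 3) F)) ∨
    (q ≠ 5 ∧ ∃ D : Fin 3 → Submodule F (Fin 3 → F), Cfsg.Geo.IsNondegenerateMDecomposition (Cfsg.hermForm 3 F q) 1 D ∧ H = Cfsg.Geo.decompositionStabilizer D ⊓ (Cfsg.GU 3 F q ⊓ Cfsg.Geo.specialLinear (Fin 3) F)) ∨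
    (q ≠ 3 ∧ q ≠ 5 ∧ ∃ K : Subalgebra F (Matrix (Fin 3) (Fin 3) F), Cfsg.Geo.IsFieldSubalgebra 3 K ∧ Cfsg.Geo.IsAdjointClosedFor (Cfsg.hermForm 3 F q) K ∧ H = Cfsg.Geo.subalgebraNormalizer K ⊓ (Cfsg.GU 3 F q ⊓ Cfsg.Geo.specialLinear (Fin 3) F)) ∨
    (∃ (F₀ : Subfield F) (r : ℕ) (P : Matrix.GeneralLinearGroup (Fin 3) F), r.Prime ∧ Odd r ∧ Fintype.card F = Nat.card F₀ ^ r ∧ Cfsg.Geo.IsFormRationalStructure (Cfsg.hermForm 3 F q) F₀ 1 P ∧ H = Cfsg.Geo.subfieldSubgroup F₀ P ⊓ (Cfsg.GU 3 F q ⊓ Cfsg.Geo.specialLinear (Fin 3) F)) ∨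
    (Odd q ∧ 7 ≤ q ∧ ∃ (F₀ : Subfield F) (P : Matrix.GeneralLinearGroup (Fin 3) F), Fintype.card F = Nat.card F₀ ^ 2 ∧ Cfsg.Geo.IsFormRationalStructure (Cfsg.hermForm 3 F q) F₀ 1 P ∧ H = Cfsg.Geo.subfieldSubgroup F₀ P ⊓ (Cfsg.GU 3 F q ⊓ Cfsg.Geo.specialLinear (Fin 3) F)) ∨
    (∃ (p : ℕ) (R : Subgroup (Matrix.GeneralLinearGroup (Fin 3) F)), p.Prime ∧ q = p ∧ p % 3 = 2 ∧ 11 ≤ p ∧ Cfsg.Geo.IsSymplecticTypeGroup 3 R ∧ Cfsg.Geo.ActsAbsolutelyIrreducibly (Cfsg.Geo.matrixSet R) ∧ R ≤ Cfsg.Geo.similarityGroup (Cfsg.hermForm 3 F q) ∧ Nat.card R = 27 ∧ Nat.card (Subgroup.center R) = 3 ∧ H = Cfsg.Geo.subgroupNormalizer R ⊓ (Cfsg.GU 3 F q ⊓ Cfsg.Geo.specialLinear (Fin 3) F)) ∨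
    Cfsg.Geo.InUnitaryResidualClass H := by
  classical
  have hHG : H ≤ Cfsg.GU 3 F q := hH.1.le.trans inf_le_left
  haveI : Fact (Nat.Prime 3) := ⟨Nat.prime_three⟩
  rcases unit_aschbacher hF le_rfl hHG with ⟨M, hM, hle⟩ | hres
  swap
  · exact Or.inr (Or.inr (Or.inr (Or.inr (Or.inr (Or.inr (Or.inr hres))))))
  rcases hM with ⟨W, h0, hts, rfl⟩ | ⟨W, h0, hnd, hlt, rfl⟩ | ⟨t, k, D, hD, rfl⟩ |
    ⟨k, D, hk, hD, hts, rfl⟩ | ⟨F₀, r, P, hr, hro, hc, hP, rfl⟩ | ⟨F₀, P, hqo, hc, hP, rfl⟩ |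
    ⟨F₀, P, ζ, hne, hc, hζ, hζq, hP, hiso, rfl⟩ |
    ⟨r, R, p, e, k, hnk, hcomm, htype, habs, hsim, hrp, hmin, hcase, rfl⟩ |
    ⟨r, K, hr, hro, hK, hadj, rfl⟩ |
    ⟨n₁, n₂, e, P, f₁, f₂, hn₁, hlt, hf₁, hf₂, hT, rfl⟩ |
    ⟨k, t, e, P, f₁, hk, ht, h23, hf₁, hT, rfl⟩
  · have h1 : W ≠ ⊤ := by
      intro h
      obtain ⟨σ, hσ, hf⟩ := exists_unitary_hermForm (n := 3) hF
      obtain ⟨-, x, hx⟩ := hf.nondegenerate (Pi.single 0 1) (by simp)
      exact hx (hts _ (h ▸ Submodule.mem_top) _ (h ▸ Submodule.mem_top))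
    exact Or.inl ⟨W, h0, hts, eq_inf_of_maximal hH (hle.trans inf_le_left)
      (not_SU_le_subspaceStabilizer hF le_rfl h0 h1)⟩
  · have h1 : W ≠ ⊤ := fun h => by
      rw [h, finrank_top, Module.finrank_fin_fun] at hlt; omega
    exact Or.inr (Or.inl ⟨W, h0, hnd, hlt, eq_inf_of_maximal hH (hle.trans inf_le_left)
      (not_SU_le_subspaceStabilizer hF le_rfl h0 h1)⟩)
  · have hprod := mDecomposition_mul_eq hD.decomp
    rw [Fintype.card_fin] at hprod
    have htwo := hD.decomp.two_le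
    obtain rfl : t = 3 := (Nat.prime_dvd_prime_iff_eq (by
      have : t ≤ 3 := Nat.le_of_dvd (by norm_num) ⟨k, hprod.symm⟩
      interval_cases t <;> norm_num) Nat.prime_three).1 ⟨k, hprod.symm⟩
    obtain rfl : k = 1 := by omega
    have heq := eq_inf_of_maximal hH (hle.trans inf_le_left)
      (not_SU_le_decompositionStabilizer hF le_rfl (Or.inr hq) hD.decomp)
    refine Or.inr (Or.inr (Or.inl ⟨?_, D, hD, heq⟩))
    rintro rfl
    exact CfsgLib.MaxSub.SUThree.not_maximal (CfsgLib.MaxSub.SUThree.frame_five hF hD) (heq ▸ hH)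
  · omega
  · exact Or.inr (Or.inr (Or.inr (Or.inr (Or.inl ⟨F₀, r, P, hr, hro, hc, hP,
      eq_inf_of_maximal hH (hle.trans inf_le_left) (not_SU_le_subfieldSubgroup hF le_rfl (by decide) hr hc P)⟩))))
  · have heq := eq_inf_of_maximal hH (hle.trans inf_le_left)
      (not_SU_le_subfieldSubgroup hF le_rfl (by decide) Nat.prime_two hc P)
    refine Or.inr (Or.inr (Or.inr (Or.inr (Or.inr (Or.inl ⟨hqo, ?_, F₀, P, hc, hP, heq⟩)))))
    by_contra h7
    rcases (show q = 3 ∨ q = 5 by rw [Nat.odd_iff] at hqo; omega) with rfl | rfl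
    · exact CfsgLib.MaxSub.SUThree.not_maximal (CfsgLib.MaxSub.SUThree.orth_three hF hc hP) (heq ▸ hH)
    · exact CfsgLib.MaxSub.SUThree.not_maximal (CfsgLib.MaxSub.SUThree.orth_five hF hc hP) (heq ▸ hH)
  · exact absurd hne (by decide)
  · have h3 : r = 3 := ((Nat.prime_dvd_prime_iff_eq htype.1 Nat.prime_three).1 (by
      rw [show (3 : ℕ) = r ^ k from hnk]
      exact dvd_pow_self r (by rintro rfl; simp at hnk)))
    subst h3
    obtain rfl : k = 1 := (Nat.pow_right_injective (a := 3) (by norm_num)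
      (show 3 ^ k = 3 ^ 1 from hnk.symm.trans (pow_one 3).symm))
    obtain ⟨-, hcz, -, hcard⟩ := hcase.resolve_right fun h => absurd h.1 (by decide)
    have hcard : Nat.card R = 27 := hcard.trans (by norm_num)
    haveI := hmin.2.1
    obtain ⟨hqp, hp3⟩ := minimal_three hF hrp (hcz ▸ hmin)
    have heq := eq_inf_of_maximal hH (hle.trans inf_le_left) (not_SU_le_normalizer_extraspecial hF
      (by decide) (p := p) (Or.inr ⟨by omega, Ne.symm hrp⟩) habs (hcard.trans (by norm_num)) hcomm)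
    refine Or.inr (Or.inr (Or.inr (Or.inr (Or.inr (Or.inr (Or.inl
      ⟨p, R, hmin.1, hqp, hp3, ?_, htype, habs, hsim, hcard, hcz, heq⟩))))))
    by_contra h11
    subst hqp
    have hp4 : q ≠ 8 := fun h => by
      have := hmin.1
      rw [h] at this
      norm_num at this
    obtain rfl : q = 5 := by omega
    refine CfsgLib.MaxSub.SUThree.not_maximal
      (CfsgLib.MaxSub.SUThree.norm_five hF hsim hcard ?_ hcz) (heq ▸ hH)
    simpa using htype.exponent_eq
  · have hdvd := fieldSubalgebra_dvd hK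
    rw [Fintype.card_fin] at hdvd
    obtain rfl : r = 3 := (Nat.prime_dvd_prime_iff_eq hr Nat.prime_three).1 hdvd
    have heq := eq_inf_of_maximal hH (hle.trans inf_le_left)
      (not_SU_le_subalgebraNormalizer hF le_rfl hK (by norm_num))
    refine Or.inr (Or.inr (Or.inr (Or.inl ⟨?_, ?_, K, hK, hadj, heq⟩))) <;> rintro rfl
    · exact CfsgLib.MaxSub.SUThree.not_maximal (CfsgLib.MaxSub.SUThree.cubic_three hF hK hadj) (heq ▸ hH)
    · exact CfsgLib.MaxSub.SUThree.not_maximal (CfsgLib.MaxSub.SUThree.cubic_five hF hK hadj) (heq ▸ hH)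
  · exfalso
    have hprod : n₁ * n₂ = 3 := by
      have := Fintype.card_congr e
      simpa using this.symm
    have : 2 * 3 ≤ n₁ * n₂ := Nat.mul_le_mul hn₁ (by omega)
    omega
  · exfalso
    have hkt : k ^ t = 3 := by
      have := Fintype.card_congr e
      simpa using this.symm
    have h1 : k ^ 2 ≤ k ^ t := Nat.pow_le_pow_right (by omega) ht
    have h2 : 3 ^ 2 ≤ k ^ 2 := Nat.pow_le_pow_left hk 2
    omega

end Cfsg.Agent.S5778
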