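import Cfsg.Statements.S5779
import Cfsg.Agent.Lib.MaxSub.ResThree.Wrap
import Cfsg.Agent.Lib.MaxSub.ResThree.Five.Main

set_option autoImplicit false
open Cfsg

namespace Cfsg.Agent.S5779

/-- The maximal subgroups of SU_3(q), q ≥ 3, in the residual class. Let F be the field with q² elements and H a maximal subgroup of SU_3(q) (determinant-one isometries of the standard unitary form on F^3) lying in the residual class of the unitary case. Then q = p is prime and the perfect socle preimage P of H satisfies one of: P modulo scalars is isomorphic to the simple group of order 168 (written PSL_3(2)) and p ≡ 3, 5 or 6 mod 7 with p ≠ 5; or P modulo scalars is isomorphic to A_6 and either p ≡ 11 or 14 mod 15 or p = 5; or P modulo scalars is isomorphic to A_7 and p = 5. -/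
theorem result {F : Type*} [Field F] [Fintype F] (q : ℕ) (hF : Fintype.card F = q ^ 2) (hq : 3 ≤ q) (H : Subgroup (Matrix.GeneralLinearGroup (Fin 3) F)) (hH : Cfsg.Geo.IsMaximalIn (Cfsg.GU 3 F q ⊓ Cfsg.Geo.specialLinear (Fin 3) F) H) (hS : Cfsg.Geo.InUnitaryResidualClass H) :
    ∃ P : Subgroup (Matrix.GeneralLinearGroup (Fin 3) F), Cfsg.Geo.IsResidualCore H P ∧ q.Prime ∧
    ((Nonempty ((P ⧸ (Cfsg.Geo.scalars (Fin 3) F).subgroupOf P) ≃* Matrix.ProjectiveSpecialLinearGroup (Fin 3) (ZMod 2)) ∧ q ≠ 5 ∧ (q % 7 = 3 ∨ q % 7 = 5 ∨ q % 7 = 6)) ∨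
     (Nonempty ((P ⧸ (Cfsg.Geo.scalars (Fin 3) F).subgroupOf P) ≃* alternatingGroup (Fin 6)) ∧ (q % 15 = 11 ∨ q % 15 = 14 ∨ q = 5)) ∨
     (Nonempty ((P ⧸ (Cfsg.Geo.scalars (Fin 3) F).subgroupOf P) ≃* alternatingGroup (Fin 7)) ∧ q = 5)) := by
  obtain ⟨P, hres, hQ, -⟩ := hS
  obtain ⟨p, hchar⟩ := CharP.exists F
  haveI : Fact p.Prime := ⟨CharP.char_is_prime F p⟩
  refine ⟨P, hres, ?_⟩
  have hP := CfsgLib.ResThree.Core.of_residual hres
  have hprim := CfsgLib.ResThree.primitive_of_residual hres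
  have hU : P ≤ Cfsg.GU 3 F q := (hres.le.trans hH.1.le).trans inf_le_left
  have hd : CfsgLib.ResThree.DihedralSylow P := by
    by_cases ht : CfsgLib.ResThree.HasTransvection P
    · rcases CfsgLib.ResThree.transvection_unitary hF hq hP hprim hU ht with h | h
      · exact absurd (h.trans hres.le) hH.1.not_ge
      · exact h
    · exact CfsgLib.ResThree.dihedralSylow_of_core hP ht
  have hne : Fintype.card F ≠ p := fun h => by
    have hpp : (q ^ 2).Prime := (hF.symm.trans h) ▸ (Fact.out : p.Prime)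
    exact Nat.Prime.not_prime_pow (le_refl 2) hpp
  have hqp : Fintype.card F = p ^ 2 → q = p ∧ q.Prime := fun h => by
    obtain rfl : q = p := Nat.pow_left_injective two_ne_zero (hF.symm.trans h)
    exact ⟨rfl, Fact.out⟩
  rcases CfsgLib.ResThree.dihedral_cases (p := p) hP hprim hd with h | ⟨e, hc⟩ | ⟨e, hc⟩ | ⟨e, h5, hc, -⟩
  · exact absurd h hQ
  · rcases hc with ⟨hp2, hc2⟩ | ⟨-, h, -⟩ | ⟨h, h7, -⟩
    · exact absurd (hc2.trans hp2.symm) hne
    · exact absurd h hne
    · obtain ⟨rfl, hqprime⟩ := hqp h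
      refine ⟨hqprime, Or.inl ⟨e, fun h5 => ?_, h7⟩⟩
      subst h5
      exact CfsgLib.ResThree.not_maximal_five hF hH hres e
  · rcases hc with ⟨h, -⟩ | ⟨-, -, -, hnf⟩ | ⟨h, h15, -⟩
    · exact absurd h hne
    · exact absurd (CfsgLib.ResThree.fixesUnitary_of_gu hF hU) hnf
    · obtain ⟨rfl, hqprime⟩ := hqp h
      exact ⟨hqprime, Or.inr (Or.inl ⟨e, by omega⟩)⟩
  · have h : Fintype.card F = p ^ 2 := by rw [hc, h5]; norm_num
    obtain ⟨rfl, hqprime⟩ := hqp h
    exact ⟨hqprime, Or.inr (Or.inr ⟨e, h5⟩)⟩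

end Cfsg.Agent.S5779
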