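import Cfsg.Statements.S5780
import Cfsg.Agent.Lib.MaxSub.SubspaceMaximal
import Cfsg.Agent.Lib.MaxSub.SubfieldMaximalSL
import Cfsg.Agent.Lib.MaxSub.FormMaximalSL
import Cfsg.Agent.Lib.MaxSub.DecompMaximalSL
import Cfsg.Agent.Lib.MaxSub.Monomial.Four
import Cfsg.Agent.Lib.MaxSub.ExtLin.Main
import Cfsg.Agent.Lib.MaxSub.SLQuadraticAll
import Cfsg.Agent.Lib.MaxSub.SLUnitaryAll
import Cfsg.Agent.Lib.MaxSub.SLPauliFrame

set_option autoImplicit false
open Cfsg

namespace Cfsg.Agent.S5780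

/-- Maximal subgroups of SL_4(q) of geometric type, for a finite field F with q elements (any q). Each of the following subgroups of GL_4(F), intersected with SL_4(F), is a maximal subgroup of SL_4(F): (1) the stabiliser of any proper non-zero subspace of F^4; (2) for q ≥ 7, the stabiliser of any decomposition of F^4 into four independent lines; (3) for q ≥ 4, the stabiliser of any decomposition of F^4 into two independent planes; (4) the normaliser of any degree-2 subfield of the 4 × 4 matrix algebra over F; (5) every subfield group for a subfield F₀ with |F| = |F₀|^r, r prime; (6) for q = p prime with p ≡ 1 mod 4, the normaliser of any absolutely irreducible 2-subgroup R of exponent 4 with centre of order 4, all of whose characteristic abelian subgroups are cyclic, of order 2^(2+2m) for some m (here |R| = 64), with 4 dividing p − 1; (7) for q odd, the group of similarities of any non-degenerate quadratic form on F^4 (of either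 sign); (8) the group of similarities of any non-degenerate symplectic form on F^4; (9) the group of similarities of any non-degenerate unitary form on F^4. -/
theorem result {F : Type*} [Field F] [Fintype F] :
    (∀ W : Submodule F (Fin 4 → F), W ≠ ⊥ → W ≠ ⊤ → Cfsg.Geo.IsMaximalIn (Cfsg.Geo.specialLinear (Fin 4) F) (Cfsg.Geo.subspaceStabilizer W ⊓ Cfsg.Geo.specialLinear (Fin 4) F)) ∧
    (7 ≤ Fintype.card F → ∀ D : Fin 4 → Submodule F (Fin 4 → F), Cfsg.Geo.IsMDecomposition 1 D → Cfsg.Geo.IsMaximalIn (Cfsg.Geo.specialLinear (Fin 4) F) (Cfsg.Geo.decompositionStabilizer D ⊓ Cfsg.Geo.specialLinear (Fin 4) F)) ∧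
    (4 ≤ Fintype.card F → ∀ D : Fin 2 → Submodule F (Fin 4 → F), Cfsg.Geo.IsMDecomposition 2 D → Cfsg.Geo.IsMaximalIn (Cfsg.Geo.specialLinear (Fin 4) F) (Cfsg.Geo.decompositionStabilizer D ⊓ Cfsg.Geo.specialLinear (Fin 4) F)) ∧
    (∀ K : Subalgebra F (Matrix (Fin 4) (Fin 4) F), Cfsg.Geo.IsFieldSubalgebra 2 K → Cfsg.Geo.IsMaximalIn (Cfsg.Geo.specialLinear (Fin 4) F) (Cfsg.Geo.subalgebraNormalizer K ⊓ Cfsg.Geo.specialLinear (Fin 4) F)) ∧
    (∀ (F₀ : Subfield F) (r : ℕ) (P : Matrix.GeneralLinearGroup (Fin 4) F), r.Prime → Fintype.card F = Nat.card F₀ ^ r → Cfsg.Geo.IsMaximalIn (Cfsg.Geo.specialLinear (Fin 4) F) (Cfsg.Geo.subfieldSubgroup F₀ P ⊓ Cfsg.Geo.specialLinear (Fin 4) F)) ∧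
    (∀ (p : ℕ) (R : Subgroup (Matrix.GeneralLinearGroup (Fin 4) F)), p.Prime → Fintype.card F = p → p % 4 = 1 → Cfsg.Geo.IsLinearSymplecticTypeData 2 R → Cfsg.Geo.IsMaximalIn (Cfsg.Geo.specialLinear (Fin 4) F) (Cfsg.Geo.subgroupNormalizer R ⊓ Cfsg.Geo.specialLinear (Fin 4) F)) ∧
    (Odd (Fintype.card F) → ∀ Q : (Fin 4 → F) → F, Cfsg.Geo.IsNondegenerateQuadraticForm Q → Cfsg.Geo.IsMaximalIn (Cfsg.Geo.specialLinear (Fin 4) F) (Cfsg.Geo.quadSimilarityGroup Q ⊓ Cfsg.Geo.specialLinear (Fin 4) F)) ∧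
    (∀ f : (Fin 4 → F) → (Fin 4 → F) → F, Cfsg.Geo.IsSymplecticForm f → Cfsg.Geo.IsMaximalIn (Cfsg.Geo.specialLinear (Fin 4) F) (Cfsg.Geo.similarityGroup f ⊓ Cfsg.Geo.specialLinear (Fin 4) F)) ∧
    (∀ (σ : F ≃+* F) (f : (Fin 4 → F) → (Fin 4 → F) → F), Cfsg.Geo.IsUnitaryForm σ f → Cfsg.Geo.IsMaximalIn (Cfsg.Geo.specialLinear (Fin 4) F) (Cfsg.Geo.similarityGroup f ⊓ Cfsg.Geo.specialLinear (Fin 4) F)) := by
  refine ⟨fun W h0 h1 => CfsgLib.MaxSub.sl_subspace_maximal (by norm_num) h0 h1, ?_, ?_,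
    fun K hK => (CfsgLib.MaxSub.ExtLin.normalizer_maximal Nat.prime_two (by norm_num) (by norm_num) hK).2,
    fun F₀ r P hr hc => CfsgLib.MaxSub.SubfieldSL.sl_subfield_maximal (by norm_num) hr hc P,
    fun p R hp hF hp4 hR => CfsgLib.MaxSub.SLPauli.sl_pauli_maximal hp hF hp4 hR, ?_,
    fun f hf => CfsgLib.MaxSub.sl_symplectic_maximal (by norm_num) hf,
    fun σ f hf => CfsgLib.MaxSub.SLHermAll.sl_unitary_maximal_all (by norm_num) hf⟩
  · intro hq D hD
    refine ⟨lt_of_le_of_ne inf_le_right fun e =>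
      CfsgLib.Aschbacher.not_le_decompositionStabilizer' hD (e ▸ inf_le_left), fun M hM hMG => ?_⟩
    by_cases hle : M ≤ Cfsg.Geo.decompositionStabilizer D
    · exact Or.inl (le_antisymm (le_inf hle hMG) hM)
    obtain ⟨g, hg, hgD⟩ := SetLike.not_le_iff_exists.1 hle
    obtain ⟨gs, hgs, hgs'⟩ := CfsgLib.MaxSub.exists_sl_of hMG hg
    have eg : (Matrix.SpecialLinearGroup.toGL gs : Matrix.GeneralLinearGroup (Fin 4) F) = g := Units.ext hgs'
    refine Or.inr (le_antisymm hMG (CfsgLib.MaxSub.specialLinear_le_of_top ?_))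
    exact CfsgLib.MaxSub.DecompSL.top_of_lines_of hD
      (fun L A hL hA hA' => CfsgLib.MaxSub.Monomial.Four.top_of_not_mono_four hq hL hA hA')
      (fun y hy => hM ⟨hy, Units.ext y.2⟩) hgs (eg.symm ▸ hgD)
  · intro hq D hD
    refine ⟨lt_of_le_of_ne inf_le_right fun e =>
      CfsgLib.Aschbacher.not_le_decompositionStabilizer' hD (e ▸ inf_le_left), fun M hM hMG => ?_⟩
    by_cases hle : M ≤ Cfsg.Geo.decompositionStabilizer D
    · exact Or.inl (le_antisymm (le_inf hle hMG) hM)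
    obtain ⟨g, hg, hgD⟩ := SetLike.not_le_iff_exists.1 hle
    obtain ⟨gs, hgs, hgs'⟩ := CfsgLib.MaxSub.exists_sl_of hMG hg
    refine Or.inr (le_antisymm hMG (CfsgLib.MaxSub.specialLinear_le_of_top ?_))
    obtain ⟨i, x, hx, hgx⟩ := CfsgLib.MaxSub.Decomp.exists_moved hD hgD
    exact CfsgLib.MaxSub.DecompSL.top_of_blocks hD (by norm_num) le_rfl
      (fun _ => Or.inr ⟨rfl, rfl, hq⟩) (fun y hy => hM ⟨hy, Units.ext y.2⟩) hgs hx (hgs'.symm ▸ hgx)
  · intro hodd Q hQ
    have h2 : (2 : F) ≠ 0 := CfsgLib.FiniteForms.two_ne_zero_of_odd (F := F) rfl hodd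
    obtain ⟨R, hR, -⟩ := CfsgLib.MaxSub.Orth.exists_form hQ
    exact CfsgLib.MaxSub.SLQuadAll.sl_quadratic_maximal_all le_rfl h2 hQ R hR

end Cfsg.Agent.S5780
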