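import Cfsg.Statements.S5781
import Cfsg.Agent.Lib.Aschbacher.MaximalLinear
import Cfsg.Agent.Lib.Aschbacher.SL4F5

set_option autoImplicit false
open Cfsg

namespace Cfsg.Agent.S5781

/-- Every maximal subgroup of SL_4(q) is of one of the listed geometric types or lies in the residual class. Let F be a finite field with q elements and H a maximal subgroup of SL_4(F) (inside GL_4(F)). Then H is the intersection with SL_4(F) of one of: the stabiliser of a proper non-zero subspace; for q ≥ 7, the stabiliser of a decomposition into four independent lines; for q ≥ 4, the stabiliser of a decomposition into two independent planes; the normaliser of a degree-2 subfield of the matrix algebra; a subfield group for a subfield F₀ with |F| = |F₀|^r, r prime; for q = p ≡ 1 mod 4 prime, the normaliser of an absolutely irreducible 2-subgroup R of exponent 4 with centre of order 4, all of whose characteristic abelian subgroups are cyclic, of order 2^(2+2m)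 for some m (here |R| = 64), with 4 dividing p − 1; for q odd, the similarity group of a non-degenerate quadratic form; the similarity group of a non-degenerate symplectic form; the similarity group of a non-degenerate unitary form — or else H lies in the residual class of the linear case. -/
theorem result {F : Type*} [Field F] [Fintype F] (H : Subgroup (Matrix.GeneralLinearGroup (Fin 4) F)) (hH : Cfsg.Geo.IsMaximalIn (Cfsg.Geo.specialLinear (Fin 4) F) H) :
    (∃ W : Submodule F (Fin 4 → F), W ≠ ⊥ ∧ W ≠ ⊤ ∧ H = Cfsg.Geo.subspaceStabilizer W ⊓ Cfsg.Geo.specialLinear (Fin 4) F) ∨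
    (7 ≤ Fintype.card F ∧ ∃ D : Fin 4 → Submodule F (Fin 4 → F), Cfsg.Geo.IsMDecomposition 1 D ∧ H = Cfsg.Geo.decompositionStabilizer D ⊓ Cfsg.Geo.specialLinear (Fin 4) F) ∨
    (4 ≤ Fintype.card F ∧ ∃ D : Fin 2 → Submodule F (Fin 4 → F), Cfsg.Geo.IsMDecomposition 2 D ∧ H = Cfsg.Geo.decompositionStabilizer D ⊓ Cfsg.Geo.specialLinear (Fin 4) F) ∨
    (∃ K : Subalgebra F (Matrix (Fin 4) (Fin 4) F), Cfsg.Geo.IsFieldSubalgebra 2 K ∧ H = Cfsg.Geo.subalgebraNormalizer K ⊓ Cfsg.Geo.specialLinear (Fin 4) F) ∨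
    (∃ (F₀ : Subfield F) (r : ℕ) (P : Matrix.GeneralLinearGroup (Fin 4) F), r.Prime ∧ Fintype.card F = Nat.card F₀ ^ r ∧ H = Cfsg.Geo.subfieldSubgroup F₀ P ⊓ Cfsg.Geo.specialLinear (Fin 4) F) ∨
    (∃ (p : ℕ) (R : Subgroup (Matrix.GeneralLinearGroup (Fin 4) F)), p.Prime ∧ Fintype.card F = p ∧ p % 4 = 1 ∧ Cfsg.Geo.IsLinearSymplecticTypeData 2 R ∧ H = Cfsg.Geo.subgroupNormalizer R ⊓ Cfsg.Geo.specialLinear (Fin 4) F) ∨
    (Odd (Fintype.card F) ∧ ∃ Q : (Fin 4 → F) → F, Cfsg.Geo.IsNondegenerateQuadraticForm Q ∧ H = Cfsg.Geo.quadSimilarityGroup Q ⊓ Cfsg.Geo.specialLinear (Fin 4) F) ∨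
    (∃ f : (Fin 4 → F) → (Fin 4 → F) → F, Cfsg.Geo.IsSymplecticForm f ∧ H = Cfsg.Geo.similarityGroup f ⊓ Cfsg.Geo.specialLinear (Fin 4) F) ∨
    (∃ (σ : F ≃+* F) (f : (Fin 4 → F) → (Fin 4 → F) → F), Cfsg.Geo.IsUnitaryForm σ f ∧ H = Cfsg.Geo.similarityGroup f ⊓ Cfsg.Geo.specialLinear (Fin 4) F) ∨
    Cfsg.Geo.InLinearResidualClass H := by
  rcases CfsgLib.Aschbacher.maximal_linear (by norm_num) hH with h | ⟨t, m, D, hD, htm, h1, h2, h⟩ |
    ⟨r, K, hr, hdvd, hK, h⟩ | ⟨a, b, e, P, ha, hab, hn, hq, h⟩ | h | ⟨r, R, hr, ⟨k, hk⟩, hR, h⟩ |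
    ⟨m, t, e, P, hm, ht, hn, h⟩ | h | ⟨f, hf, hev, h⟩ | h | h
  · exact (Or.inl h)
  · obtain ⟨rfl, rfl⟩ | ⟨rfl, rfl⟩ : (t = 4 ∧ m = 1) ∨ (t = 2 ∧ m = 2) := by
      have := hD.two_le
      have := hD.pos
      have : t ≤ 4 := Nat.le_of_dvd (by norm_num) ⟨m, htm.symm⟩
      interval_cases t <;> omega
    · refine (Or.inr (Or.inl ⟨?_, D, hD, h⟩))
      have h5 := h1 rfl
      by_contra hlt
      rcases (by omega : Fintype.card F = 5 ∨ Fintype.card F = 6) with hq | hq
      · exact CfsgLib.Aschbacher.SL4F5.no_frame hq hH hD (h ▸ inf_le_left)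
      · obtain ⟨p, _⟩ := CharP.exists F
        obtain ⟨k, hp, hc⟩ := FiniteField.card F p
        have hc6 : 6 = p ^ (k : ℕ) := hq.symm.trans hc
        have h2p := Nat.prime_two.dvd_of_dvd_pow (hc6 ▸ (by norm_num : 2 ∣ 6))
        have h3p := Nat.prime_three.dvd_of_dvd_pow (hc6 ▸ (by norm_num : 3 ∣ 6))
        rw [Nat.prime_dvd_prime_iff_eq Nat.prime_two hp] at h2p
        rw [Nat.prime_dvd_prime_iff_eq Nat.prime_three hp] at h3p
        omega
    · exact (Or.inr (Or.inr (Or.inl ⟨(h2 rfl).2 rfl, D, hD, h⟩)))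
  · obtain rfl : r = 2 := by
      have := hr.two_le
      have : r ≤ 4 := Nat.le_of_dvd (by norm_num) hdvd
      interval_cases r <;> norm_num at *
    exact (Or.inr (Or.inr (Or.inr (Or.inl ⟨K, hK, h⟩))))
  · exfalso; have : a ≤ 4 := Nat.le_of_dvd (by norm_num) ⟨b, hn⟩
    interval_cases a <;> omega
  · exact (Or.inr (Or.inr (Or.inr (Or.inr (Or.inl h)))))
  · have hdr : r ∣ 4 := ⟨r ^ (k - 1), by
      rcases k with _ | k
      · norm_num at hk
      · rw [hk, pow_succ']; rfl⟩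
    obtain rfl : r = 2 := (Nat.prime_dvd_prime_iff_eq hr (by norm_num)).1
      (hr.dvd_of_dvd_pow (show r ∣ 2 ^ 2 from hdr))
    obtain ⟨p, hp, hc, h4⟩ := CfsgLib.Aschbacher.symplectic_data_two (by norm_num) hR
    exact (Or.inr (Or.inr (Or.inr (Or.inr (Or.inr (Or.inl ⟨p, R, hp, hc, h4, hR, h⟩))))))
  · have hm2 : m ^ 2 ≤ 4 := hn ▸ Nat.pow_le_pow_right (by omega) ht
    have hm3 : m ≤ 3 := by nlinarith
    obtain rfl : m = 3 := by omega
    have ht2 : t ≤ 2 := by
      by_contra hc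
      have := Nat.pow_le_pow_right (show 1 ≤ 3 by norm_num) (show 3 ≤ t by omega)
      omega
    obtain rfl : t = 2 := by omega
    omega
  · exact (Or.inr (Or.inr (Or.inr (Or.inr (Or.inr (Or.inr (Or.inl h)))))))
  · exact (Or.inr (Or.inr (Or.inr (Or.inr (Or.inr (Or.inr (Or.inr (Or.inl ⟨f, hf, h⟩))))))))
  · exact (Or.inr (Or.inr (Or.inr (Or.inr (Or.inr (Or.inr (Or.inr (Or.inr (Or.inl h)))))))))
  · exact (Or.inr (Or.inr (Or.inr (Or.inr (Or.inr (Or.inr (Or.inr (Or.inr (Or.inr h)))))))))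

end Cfsg.Agent.S5781
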