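import Cfsg.Statements.S5784
import Cfsg.Agent.Lib.Aschbacher.UnitaryFour

set_option autoImplicit false
open Cfsg

namespace Cfsg.Agent.S5784

open CfsgLib.Aschbacher Matrix Module

/-- Every maximal subgroup of SU_4(q) is of one of the listed geometric types or lies in the residual class. Let F be the field with q² elements, f the standard unitary form Σ u_i v_i^q on F^4, and H a maximal subgroup of SU_4(q) (inside GL_4(F)). Then H is the intersection with SU_4(q) of one of: the stabiliser of a non-zero subspace on which f vanishes; the stabiliser of a non-degenerate 1-space; for q ≠ 3, the stabiliser of a decomposition into four mutually orthogonal non-degenerate 1-spaces; for q ≥ 3, of a decomposition into two orthogonal non-degenerate 2-spaces; for q ≥ 4, of a decomposition into two totally isotropic 2-spaces; a subfield group of odd prime index whose F₀-structure carries f; a subfield group of index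 2 whose F₀-structure carries ζ f, vanishing on pairs (u, u), for some non-zero ζ with ζ + ζ^q = 0; for q odd, a subfield group of index 2 whose F₀-structure carries f; for q = p ≡ 3 mod 4 prime, the normaliser of an absolutely irreducible symplectic-type 2-group of exponent 4, order 64 and centre of order 4 inside the similarity group of f — or else H lies in the residual class of the unitary case. -/
theorem result {F : Type*} [Field F] [Fintype F] (q : ℕ) (hF : Fintype.card F = q ^ 2) (H : Subgroup (Matrix.GeneralLinearGroup (Fin 4) F)) (hH : Cfsg.Geo.IsMaximalIn (Cfsg.GU 4 F q ⊓ Cfsg.Geo.specialLinear (Fin 4) F) H) :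
    (∃ W : Submodule F (Fin 4 → F), W ≠ ⊥ ∧ Cfsg.Geo.IsTotallySingularFor (Cfsg.hermForm 4 F q) W ∧ H = Cfsg.Geo.subspaceStabilizer W ⊓ (Cfsg.GU 4 F q ⊓ Cfsg.Geo.specialLinear (Fin 4) F)) ∨
    (∃ W : Submodule F (Fin 4 → F), W ≠ ⊥ ∧ Cfsg.Geo.IsNondegenerateOn (Cfsg.hermForm 4 F q) W ∧ 2 * Module.finrank F W < 4 ∧ H = Cfsg.Geo.subspaceStabilizer W ⊓ (Cfsg.GU 4 F q ⊓ Cfsg.Geo.specialLinear (Fin 4) F)) ∨
    (q ≠ 3 ∧ ∃ D : Fin 4 → Submodule F (Fin 4 → F), Cfsg.Geo.IsNondegenerateMDecomposition (Cfsg.hermForm 4 F q) 1 D ∧ H = Cfsg.Geo.decompositionStabilizer D ⊓ (Cfsg.GU 4 F q ⊓ Cfsg.Geo.specialLinear (Fin 4) F)) ∨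
    (3 ≤ q ∧ ∃ D : Fin 2 → Submodule F (Fin 4 → F), Cfsg.Geo.IsNondegenerateMDecomposition (Cfsg.hermForm 4 F q) 2 D ∧ H = Cfsg.Geo.decompositionStabilizer D ⊓ (Cfsg.GU 4 F q ⊓ Cfsg.Geo.specialLinear (Fin 4) F)) ∨
    (4 ≤ q ∧ ∃ D : Fin 2 → Submodule F (Fin 4 → F), Cfsg.Geo.IsMDecomposition 2 D ∧ (∀ i, Cfsg.Geo.IsTotallySingularFor (Cfsg.hermForm 4 F q) (D i)) ∧ H = Cfsg.Geo.decompositionStabilizer D ⊓ (Cfsg.GU 4 F q ⊓ Cfsg.Geo.specialLinear (Fin 4) F)) ∨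
    (∃ (F₀ : Subfield F) (r : ℕ) (P : Matrix.GeneralLinearGroup (Fin 4) F), r.Prime ∧ Odd r ∧ Fintype.card F = Nat.card F₀ ^ r ∧ Cfsg.Geo.IsFormRationalStructure (Cfsg.hermForm 4 F q) F₀ 1 P ∧ H = Cfsg.Geo.subfieldSubgroup F₀ P ⊓ (Cfsg.GU 4 F q ⊓ Cfsg.Geo.specialLinear (Fin 4) F)) ∨
    (∃ (F₀ : Subfield F) (P : Matrix.GeneralLinearGroup (Fin 4) F) (ζ : F), Fintype.card F = Nat.card F₀ ^ 2 ∧ ζ ≠ 0 ∧ ζ + ζ ^ q = 0 ∧ Cfsg.Geo.IsFormRationalStructure (Cfsg.hermForm 4 F q) F₀ ζ P ∧ (∀ u : Fin 4 → F, (∀ i, u i ∈ F₀) → (Cfsg.hermForm 4 F q) (Matrix.mulVec (P : Matrix (Fin 4) (Fin 4) F) u) (Matrix.mulVec (P : Matrix (Fin 4) (Fin 4) F) u) = 0) ∧ H = Cfsg.Geo.subfieldSubgroup F₀ P ⊓ (Cfsg.GU 4 F q ⊓ Cfsg.Geo.specialLinear (Fin 4) F)) ∨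
    (Odd q ∧ ∃ (F₀ : Subfield F) (P : Matrix.GeneralLinearGroup (Fin 4) F), Fintype.card F = Nat.card F₀ ^ 2 ∧ Cfsg.Geo.IsFormRationalStructure (Cfsg.hermForm 4 F q) F₀ 1 P ∧ H = Cfsg.Geo.subfieldSubgroup F₀ P ⊓ (Cfsg.GU 4 F q ⊓ Cfsg.Geo.specialLinear (Fin 4) F)) ∨
    (∃ (p : ℕ) (R : Subgroup (Matrix.GeneralLinearGroup (Fin 4) F)), p.Prime ∧ q = p ∧ p % 4 = 3 ∧ Cfsg.Geo.IsSymplecticTypeGroup 2 R ∧ Cfsg.Geo.ActsAbsolutelyIrreducibly (Cfsg.Geo.matrixSet R) ∧ R ≤ Cfsg.Geo.similarityGroup (Cfsg.hermForm 4 F q) ∧ Nat.card R = 64 ∧ Nat.card (Subgroup.center R) = 4 ∧ H = Cfsg.Geo.subgroupNormalizer R ⊓ (Cfsg.GU 4 F q ⊓ Cfsg.Geo.specialLinear (Fin 4) F)) ∨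
    Cfsg.Geo.InUnitaryResidualClass H := by
  classical
  obtain ⟨σ, hσ, hf⟩ := exists_unitary_hermForm (n := 4) hF
  have hq := one_lt_q hF
  have hHG : H ≤ Cfsg.GU 4 F q := hH.1.le.trans inf_le_left
  have hfix := fixesForm_GU hHG
  rcases unit_aschbacher hF (by norm_num) hHG with ⟨M, hM, hle⟩ | hres
  swap
  · exact Or.inr (Or.inr (Or.inr (Or.inr (Or.inr (Or.inr (Or.inr (Or.inr (Or.inr (hres)))))))))
  rcases hM with ⟨W, h0, hts, rfl⟩ | ⟨W, h0, hnd, hlt, rfl⟩ | ⟨t, k, D, hD, rfl⟩ |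
    ⟨k, D, hk, hD, hts, rfl⟩ | ⟨F₀, r, P, hr, hro, hc, hP, rfl⟩ | ⟨F₀, P, hqo, hc, hP, rfl⟩ |
    ⟨F₀, P, ζ, hne, hc, hζ, hζq, hP, hiso, rfl⟩ |
    ⟨r, R, p, e, k, hnk, hcomm, htype, habs, hsim, hrp, hmin, hcase, rfl⟩ |
    ⟨r, K, hr, hro, hK, hadj, rfl⟩ |
    ⟨n₁, n₂, e, P, f₁, f₂, hn₁, hlt, hf₁, hf₂, hT, rfl⟩ |
    ⟨k, t, e, P, f₁, hk, ht, h23, hf₁, hT, rfl⟩
  · have h1 : W ≠ ⊤ := by
      intro h
      obtain ⟨-, x, hx⟩ := hf.nondegenerate (Pi.single 0 1) (by simp)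
      exact hx (hts _ (h ▸ Submodule.mem_top) _ (h ▸ Submodule.mem_top))
    exact Or.inl (⟨W, h0, hts, eq_inf_of_maximal hH (hle.trans inf_le_left) (not_SU_le_subspaceStabilizer hF (by norm_num) h0 h1)⟩)
  · have h1 : W ≠ ⊤ := fun h => by
      rw [h, finrank_top, Module.finrank_fin_fun] at hlt; omega
    exact Or.inr (Or.inl (⟨W, h0, hnd, hlt, eq_inf_of_maximal hH (hle.trans inf_le_left) (not_SU_le_subspaceStabilizer hF (by norm_num) h0 h1)⟩))
  · have hprod := mDecomposition_mul_eq hD.decomp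
    rw [Fintype.card_fin] at hprod
    have htwo := hD.decomp.two_le
    have hframe : ∀ D' : Fin 4 → Submodule F (Fin 4 → F),
        Cfsg.Geo.IsNondegenerateMDecomposition (Cfsg.hermForm 4 F q) 1 D' →
        H ≤ Cfsg.Geo.decompositionStabilizer D' → (q ≠ 3 ∧ ∃ D : Fin 4 → Submodule F (Fin 4 → F),
          Cfsg.Geo.IsNondegenerateMDecomposition (Cfsg.hermForm 4 F q) 1 D ∧
          H = Cfsg.Geo.decompositionStabilizer D ⊓ (Cfsg.GU 4 F q ⊓ Cfsg.Geo.specialLinear (Fin 4) F)) ∨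
        q = 3 := fun D' hD' hle' =>
      if h : q = 3 then Or.inr h else Or.inl ⟨h, D', hD', eq_inf_of_maximal hH hle'
        (not_SU_le_decompositionStabilizer hF (by norm_num) (Or.inl le_rfl) hD'.decomp)⟩
    obtain ⟨rfl, rfl⟩ | ⟨rfl, rfl⟩ : (t = 4 ∧ k = 1) ∨ (t = 2 ∧ k = 2) := by
      have : t ≤ 4 := Nat.le_of_dvd (by norm_num) ⟨k, hprod.symm⟩
      interval_cases t <;> omega
    · rcases hframe D hD (hle.trans inf_le_left) with h | rfl
      · exact Or.inr (Or.inr (Or.inl (h)))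
      obtain ⟨R, htype, habs, hcomm, hsim, hN, hz, hRn⟩ := frame_nine hF hD hH.1.le (hle.trans inf_le_left)
      exact Or.inr (Or.inr (Or.inr (Or.inr (Or.inr (Or.inr (Or.inr (Or.inr (Or.inl (⟨3, R, Nat.prime_three, rfl, rfl, htype, habs, hsim, hN, hz, eq_inf_of_maximal hH hRn (not_SU4_le_normalizer hF le_rfl habs hcomm hsim)⟩)))))))))
    · by_cases hq2 : q = 2
      · subst hq2
        obtain ⟨D', hD', h⟩ := planes_frame hF hσ hf hD hfix (hle.trans inf_le_left) hprod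
        rcases hframe D' hD' h with h | h
        · exact Or.inr (Or.inr (Or.inl (h)))
        · exact absurd h (by norm_num)
      · exact Or.inr (Or.inr (Or.inr (Or.inl (⟨by omega, D, hD, eq_inf_of_maximal hH (hle.trans inf_le_left) (not_SU_le_decomposition hF (by norm_num) le_rfl hD.decomp)⟩))))
  · obtain rfl : k = 2 := by omega
    by_cases hq4 : 4 ≤ q
    · exact Or.inr (Or.inr (Or.inr (Or.inr (Or.inl (⟨hq4, D, hD, hts, eq_inf_of_maximal hH (hle.trans inf_le_left) (not_SU_le_decomposition hF (by norm_num) le_rfl hD)⟩)))))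
    obtain ⟨F₀, P, ζ, hc, hζ, hζq, hP, hiso, hle'⟩ :=
      pair_symplectic hF (by omega) hD hts hH.1.le (hle.trans inf_le_left)
    exact Or.inr (Or.inr (Or.inr (Or.inr (Or.inr (Or.inr (Or.inl (⟨F₀, P, ζ, hc, hζ, hζq, hP, hiso, eq_inf_of_maximal hH hle' (not_SU_le_subfield hF (by norm_num) Nat.prime_two hc P)⟩)))))))
  · exact Or.inr (Or.inr (Or.inr (Or.inr (Or.inr (Or.inl (⟨F₀, r, P, hr, hro, hc, hP, eq_inf_of_maximal hH (hle.trans inf_le_left) (not_SU_le_subfield hF (by norm_num) hr hc P)⟩))))))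
  · exact Or.inr (Or.inr (Or.inr (Or.inr (Or.inr (Or.inr (Or.inr (Or.inl (⟨hqo, F₀, P, hc, hP, eq_inf_of_maximal hH (hle.trans inf_le_left) (not_SU_le_subfield hF (by norm_num) Nat.prime_two hc P)⟩))))))))
  · exact Or.inr (Or.inr (Or.inr (Or.inr (Or.inr (Or.inr (Or.inl (⟨F₀, P, ζ, hc, hζ, hζq, hP, hiso, eq_inf_of_maximal hH (hle.trans inf_le_left) (not_SU_le_subfield hF (by norm_num) Nat.prime_two hc P)⟩)))))))
  · have h2 : r = 2 := (Nat.prime_dvd_prime_iff_eq htype.1 Nat.prime_two).1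
      (htype.1.dvd_of_dvd_pow (n := 2) (show r ∣ 2 ^ 2 by
        rw [show (2 : ℕ) ^ 2 = r ^ k from hnk]
        exact dvd_pow_self r (by rintro rfl; simp at hnk)))
    subst h2
    obtain rfl : k = 2 := Nat.pow_right_injective le_rfl (show 2 ^ k = 2 ^ 2 from hnk.symm)
    obtain ⟨-, rfl, hcz, hcard⟩ := hcase.resolve_left fun h => absurd h.1 (by decide)
    obtain ⟨hqp, hp4⟩ := minimal_four hF hrp (hcz ▸ hmin)
    exact Or.inr (Or.inr (Or.inr (Or.inr (Or.inr (Or.inr (Or.inr (Or.inr (Or.inl (⟨p, R, hmin.1, hqp, hp4, htype, habs, hsim, hcard, hcz, eq_inf_of_maximal hH (hle.trans inf_le_left) (not_SU4_le_normalizer hF le_rfl habs hcomm hsim)⟩)))))))))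
  · exfalso
    have hdvd := fieldSubalgebra_dvd hK
    rw [Fintype.card_fin] at hdvd
    have h := Nat.le_of_dvd (by norm_num) hdvd
    interval_cases r <;> (revert hr hro hdvd; decide)
  · exfalso
    have hprod : n₁ * n₂ = 4 := by
      have := Fintype.card_congr e
      simpa using this.symm
    have : 2 * 3 ≤ n₁ * n₂ := Nat.mul_le_mul hn₁ (by omega)
    omega
  · exfalso
    have hkt : k ^ t = 4 := by
      have := Fintype.card_congr e
      simpa using this.symm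
    have h1 : k ^ 2 ≤ k ^ t := Nat.pow_le_pow_right (by omega) ht
    have h2 : 3 ^ 2 ≤ k ^ 2 := Nat.pow_le_pow_left hk 2
    omega

end Cfsg.Agent.S5784
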