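import Cfsg.Statements.S5787
import Cfsg.Agent.Lib.Aschbacher.SympFour
import Cfsg.Agent.Lib.Aschbacher.FieldNine

set_option autoImplicit false
open Cfsg

namespace Cfsg.Agent.S5787

open CfsgLib.Aschbacher Matrix Module

/-- Every maximal subgroup of Sp_4(q), q odd, is of one of the listed geometric types or lies in the residual class. Let F be a finite field of odd order q, f the standard alternating form on F^4 (coordinates Fin 2 ⊕ Fin 2), and H a maximal subgroup of the isometry group Sp_4(F) (inside GL_4(F)). Then H is the intersection with Sp_4(F) of one of: the stabiliser of a non-zero totally isotropic subspace; the stabiliser of a decomposition into two orthogonal non-degenerate 2-spaces; for q ≥ 5, of a decomposition into two totally isotropic 2-spaces; the normaliser of a degree-2 subfield K of the matrix algebra, self-adjoint with f(k v, v) = 0; for q ≥ 5, the normaliser of a degree-2 subfield closed under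 adjoints but not self-adjoint; a subfield group whose F₀-structure carries a non-zero multiple of f, |F| = |F₀|^r with r prime; for q = p prime, the normaliser of an absolutely irreducible symplectic-type 2-group of exponent 4, order 32, centre of order 2 and minus type inside the similarity group of f — or else H lies in the residual class of the symplectic case. -/
theorem result {F : Type*} [Field F] [Fintype F] (hodd : Odd (Fintype.card F)) (H : Subgroup (Matrix.GeneralLinearGroup (Fin 2 ⊕ Fin 2) F)) (hH : Cfsg.Geo.IsMaximalIn (Cfsg.spGL 2 F) H) :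
    (∃ W : Submodule F (Fin 2 ⊕ Fin 2 → F), W ≠ ⊥ ∧ Cfsg.Geo.IsTotallySingularFor (Cfsg.sympForm 2 F) W ∧ H = Cfsg.Geo.subspaceStabilizer W ⊓ Cfsg.spGL 2 F) ∨
    (∃ D : Fin 2 → Submodule F (Fin 2 ⊕ Fin 2 → F), Cfsg.Geo.IsNondegenerateMDecomposition (Cfsg.sympForm 2 F) 2 D ∧ H = Cfsg.Geo.decompositionStabilizer D ⊓ Cfsg.spGL 2 F) ∨
    (5 ≤ Fintype.card F ∧ ∃ D : Fin 2 → Submodule F (Fin 2 ⊕ Fin 2 → F), Cfsg.Geo.IsMDecomposition 2 D ∧ (∀ i, Cfsg.Geo.IsTotallySingularFor (Cfsg.sympForm 2 F) (D i)) ∧ H = Cfsg.Geo.decompositionStabilizer D ⊓ Cfsg.spGL 2 F) ∨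
    (∃ K : Subalgebra F (Matrix (Fin 2 ⊕ Fin 2) (Fin 2 ⊕ Fin 2) F), Cfsg.Geo.IsFieldSubalgebra 2 K ∧ Cfsg.Geo.IsSelfAdjointFor (Cfsg.sympForm 2 F) K ∧ (∀ k ∈ K, ∀ v : (Fin 2 ⊕ Fin 2 → F), (Cfsg.sympForm 2 F) (Matrix.mulVec k v) v = 0) ∧ H = Cfsg.Geo.subalgebraNormalizer K ⊓ Cfsg.spGL 2 F) ∨
    (5 ≤ Fintype.card F ∧ ∃ K : Subalgebra F (Matrix (Fin 2 ⊕ Fin 2) (Fin 2 ⊕ Fin 2) F), Cfsg.Geo.IsFieldSubalgebra 2 K ∧ Cfsg.Geo.IsAdjointClosedFor (Cfsg.sympForm 2 F) K ∧ ¬ Cfsg.Geo.IsSelfAdjointFor (Cfsg.sympForm 2 F) K ∧ H = Cfsg.Geo.subalgebraNormalizer K ⊓ Cfsg.spGL 2 F) ∨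
    (∃ (F₀ : Subfield F) (r : ℕ) (P : Matrix.GeneralLinearGroup (Fin 2 ⊕ Fin 2) F) (ζ : F), r.Prime ∧ Fintype.card F = Nat.card F₀ ^ r ∧ ζ ≠ 0 ∧ Cfsg.Geo.IsFormRationalStructure (Cfsg.sympForm 2 F) F₀ ζ P ∧ H = Cfsg.Geo.subfieldSubgroup F₀ P ⊓ Cfsg.spGL 2 F) ∨
    (∃ (p : ℕ) (R : Subgroup (Matrix.GeneralLinearGroup (Fin 2 ⊕ Fin 2) F)), p.Prime ∧ Fintype.card F = p ∧ Cfsg.Geo.IsSymplecticTypeGroup 2 R ∧ Cfsg.Geo.ActsAbsolutelyIrreducibly (Cfsg.Geo.matrixSet R) ∧ R ≤ Cfsg.Geo.similarityGroup (Cfsg.sympForm 2 F) ∧ Nat.card R = 32 ∧ Nat.card (Subgroup.center R) = 2 ∧ Cfsg.Geo.IsOfMinusType 2 R ∧ H = Cfsg.Geo.subgroupNormalizer R ⊓ Cfsg.spGL 2 F) ∨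
    Cfsg.Geo.InSymplecticResidualClass H := by
  classical
  have : NeZero 2 := ⟨by norm_num⟩
  have hf := isRefl_sympForm (F := F) 2
  have hfix := fixesForm_spGL hH.1.le
  have hcard : Fintype.card (Fin 2 ⊕ Fin 2) = 4 := by simp
  have : Fact (Nat.Prime 2) := ⟨Nat.prime_two⟩
  have h2 : (2 : F) ≠ 0 := fun h => two_eq_zero_iff.1 h hodd
  have hq5 : Fintype.card F ≠ 3 → 5 ≤ Fintype.card F := fun h => by
    obtain ⟨j, hj⟩ := hodd
    have := Fintype.one_lt_card (α := F)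
    omega
  rcases symp_aschbacher (m := 2) le_rfl hH.1.le with ⟨M, hM, hle⟩ | hres
  swap
  · exact Or.inr (Or.inr (Or.inr (Or.inr (Or.inr (Or.inr (Or.inr (hres)))))))
  rcases hM with ⟨W, h0, hts, rfl⟩ | ⟨W, h0, hnd, hlt, rfl⟩ | ⟨t, k, D, hD, rfl⟩ |
    ⟨D, -, hD, hts, rfl⟩ | ⟨r, K, hr, hK, hsa, hz, rfl⟩ | ⟨K, -, hK, hadj, hns, rfl⟩ |
    ⟨n₁, n₂, e, P, f₁, f₂, -, hn₂, hf₁, hf₂, hT, rfl⟩ | ⟨F₀, r, P, ζ, hr, hc, hζ, hP, rfl⟩ |
    ⟨R, p, k, hk, hR, habs, hsim, hp, hpo, hq, hN, hz, hminus, rfl⟩ |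
    ⟨k, t, e, P, f₁, -, -, ht, hex, hf₁, hT, rfl⟩ | ⟨Q, hev, hQ, hpol, rfl⟩
  · have h1 : W ≠ ⊤ := by
      intro h
      obtain ⟨-, x, hx⟩ := hf.nondeg (Pi.single (Sum.inl 0) 1) (by simp)
      exact hx (hts _ (h ▸ Submodule.mem_top) _ (h ▸ Submodule.mem_top))
    exact Or.inl (⟨W, h0, hts, eq_inf_of_maximal hH (hle.trans inf_le_left) (spGL_not_le_subspaceStabilizer h0 h1)⟩)
  · exfalso
    have hev := even_finrank_of_alternating hf.bilinear (sympForm_alt 2) _ W rfl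
      fun w hw hw0 => (hnd w hw hw0).2
    have hpos : Module.finrank F W ≠ 0 := fun h => h0 (Submodule.finrank_eq_zero.1 h)
    obtain ⟨j, hj⟩ := hev
    omega
  · have hprod := mDecomposition_mul_eq hD.decomp
    rw [hcard] at hprod
    have htwo := hD.decomp.two_le
    have hke : Even k := by
      have := even_finrank_of_alternating hf.bilinear (sympForm_alt 2) _ (D ⟨0, by omega⟩) rfl
        fun w hw hw0 => (hD.nondegenerate ⟨0, by omega⟩ w hw hw0).2
      rwa [hD.decomp.finrank_eq] at this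
    obtain ⟨rfl, rfl⟩ : t = 2 ∧ k = 2 := by
      obtain ⟨j, rfl⟩ := hke
      have : t ≤ 4 := Nat.le_of_dvd (by norm_num) ⟨j + j, hprod.symm⟩
      interval_cases t <;> omega
    exact Or.inr (Or.inl (⟨D, hD, eq_inf_of_maximal hH (hle.trans inf_le_left) (spGL_not_le_decompositionStabilizer le_rfl hD.decomp)⟩))
  · by_cases hq : Fintype.card F = 3
    · obtain ⟨D', hD', hle'⟩ := ts_planes hq hf (sympForm_alt 2) hD hts hfix (hle.trans inf_le_left)
      exact Or.inr (Or.inl (⟨D', hD', eq_inf_of_maximal hH hle' (spGL_not_le_decompositionStabilizer le_rfl hD'.decomp)⟩))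
    · exact Or.inr (Or.inr (Or.inl (⟨hq5 hq, D, hD, hts, eq_inf_of_maximal hH (hle.trans inf_le_left) (spGL_not_le_decompositionStabilizer le_rfl hD)⟩)))
  · obtain rfl : r = 2 := by
      have h := self_adjoint_field_dvd hf hK hsa hz
      rw [hcard] at h
      exact (Nat.prime_dvd_prime_iff_eq hr Nat.prime_two).1
        (Nat.dvd_of_mul_dvd_mul_left two_pos (show 2 * r ∣ 2 * 2 from h))
    exact Or.inr (Or.inr (Or.inr (Or.inl (⟨K, hK, hsa, hz, eq_inf_of_maximal hH (hle.trans inf_le_left) (spGL_not_le_subalgebraNormalizer le_rfl hK one_lt_two)⟩))))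
  · by_cases hq : Fintype.card F = 3
    · obtain ⟨R, hR, habs, hRf, hN, hz, hminus, hRn⟩ :=
        field_nine_normaliser hq hcard hf (sympForm_alt 2) hK hadj hns
      have hsim : R ≤ Cfsg.Geo.similarityGroup (Cfsg.sympForm 2 F) := fun g hg =>
        ⟨1, fun u v => by rw [Units.val_one, one_mul]; exact hRf _ ⟨g, hg, rfl⟩ u v⟩
      exact Or.inr (Or.inr (Or.inr (Or.inr (Or.inr (Or.inr (Or.inl (⟨3, R, Nat.prime_three, hq, hR, habs, hsim, hN, hz, hminus, eq_inf_of_maximal hH (fun g hg => hRn g (hle hg).1 fun u v => isometry_apply hfix hg u v) (spGL_not_le_twoGroupNormalizer le_rfl h2 hR.pGroup habs hsim hz)⟩)))))))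
    · exact Or.inr (Or.inr (Or.inr (Or.inr (Or.inl (⟨hq5 hq, K, hK, hadj, hns, eq_inf_of_maximal hH (hle.trans inf_le_left) (spGL_not_le_subalgebraNormalizer le_rfl hK one_lt_two)⟩)))))
  · exfalso
    have hprod : n₁ * n₂ = 4 := by rw [← hcard, Fintype.card_congr e]; simp
    have hev1 : Even n₁ := by
      refine even_finrank_of_alternating hf₁.bilinear hf₁.alternating n₁ ⊤ (by simp) fun w _ hw => ?_
      obtain ⟨-, x, hx⟩ := hf₁.nondegenerate w hw
      exact ⟨x, Submodule.mem_top, hx⟩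
    have : n₂ ≤ 4 := Nat.le_of_dvd (by norm_num) ⟨n₁, by rw [← hprod, mul_comm]⟩
    obtain ⟨j, rfl⟩ := hev1
    interval_cases n₂ <;> omega
  · exact Or.inr (Or.inr (Or.inr (Or.inr (Or.inr (Or.inl (⟨F₀, r, P, ζ, hr, hc, hζ, hP, eq_inf_of_maximal hH (hle.trans inf_le_left) (spGL_not_le_subfieldSubgroup le_rfl hr hc P)⟩))))))
  · obtain rfl : k = 2 := Nat.pow_right_injective le_rfl (show 2 ^ k = 2 ^ 2 from hk.symm)
    exact Or.inr (Or.inr (Or.inr (Or.inr (Or.inr (Or.inr (Or.inl (⟨p, R, hp, hq, hR, habs, hsim, hN, hz, hminus, eq_inf_of_maximal hH (hle.trans inf_le_left) (spGL_not_le_twoGroupNormalizer le_rfl h2 hR.pGroup habs hsim hz)⟩)))))))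
  · exfalso
    have h4 : k ^ t = 4 := by rw [← hcard, Fintype.card_congr e]; simp
    have hke : Even k := by
      refine even_finrank_of_alternating hf₁.bilinear hf₁.alternating k ⊤ (by simp) fun w _ hw => ?_
      obtain ⟨-, x, hx⟩ := hf₁.nondegenerate w hw
      exact ⟨x, Submodule.mem_top, hx⟩
    obtain ⟨j, rfl⟩ := hke
    rcases Nat.eq_zero_or_pos j with rfl | hj
    · rw [Nat.add_zero, zero_pow (by omega)] at h4; omega
    · have h1 : (j + j) ^ 3 ≤ 4 := h4 ▸ Nat.pow_le_pow_right (by omega) ht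
      have := Nat.pow_le_pow_left (show 2 ≤ j + j by omega) 3
      omega
  · exact absurd hodd hev

end Cfsg.Agent.S5787
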