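import Cfsg.Statements.S5792
import Cfsg.Agent.Lib.MaxSub.SubspaceMaximal
import Cfsg.Agent.Lib.MaxSub.SubfieldMaximalSL
import Cfsg.Agent.Lib.MaxSub.DecompMaximalSL
import Cfsg.Agent.Lib.MaxSub.Monomial.Five
import Cfsg.Agent.Lib.SingerFive.Bridge
import Cfsg.Agent.Lib.MaxSub.HeisFive.Main
import Cfsg.Agent.Lib.MaxSub.FormMaximalSL
import Cfsg.Agent.Lib.MaxSub.SubspaceMaximalOrthGL
import Cfsg.Agent.Lib.FiniteForms.Standard
import Cfsg.Agent.Lib.MaxSub.SLQuadraticAll
import Cfsg.Agent.Lib.MaxSub.SLUnitaryAll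
-- import your own Cfsg.Agent.* helpers here

set_option autoImplicit false
open Cfsg

namespace Cfsg.Agent.S5792

/-- Maximal subgroups of SL_5(q) of geometric type, for a finite field F with q elements (any q); p denotes the characteristic. Each of the following subgroups of GL_5(F), intersected with SL_5(F), is a maximal subgroup of SL_5(F): (1) the stabiliser of any proper non-zero subspace of F^5; (2) for q ≥ 5, the stabiliser of any decomposition of F^5 into 5 independent 1-spaces; (3) the normaliser of any degree-5 subfield of the 5 × 5 matrix algebra over F (a commutative subalgebra of dimension 5 in which every non-zero element is invertible); (4) every subfield group (a conjugate of GL_5(F₀) times the scalars of F) for a subfield F₀ with |F| = |F₀|^r, r prime; (5) for q = p prime with p ≡ 1 mod 5, the normaliser of any absolutely irreducible 5-subgroup R of exponent 5 and order 5^(1+2m) with centre of order 5, all of whose characteristic abelian subgroups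 are cyclic, F being the smallest field of characteristic p containing the fifth roots of unity (here R is extraspecial of order 125); (6) for q odd, the group of similarities of any non-degenerate quadratic form on F^5; (7) the group of similarities of any non-degenerate unitary form on F^5 (these exist exactly when q is a square). -/
theorem result {F : Type*} [Field F] [Fintype F] :
    (∀ W : Submodule F (Fin 5 → F), W ≠ ⊥ → W ≠ ⊤ → Cfsg.Geo.IsMaximalIn (Cfsg.Geo.specialLinear (Fin 5) F) (Cfsg.Geo.subspaceStabilizer W ⊓ Cfsg.Geo.specialLinear (Fin 5) F)) ∧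
    (5 ≤ Fintype.card F → ∀ D : Fin 5 → Submodule F (Fin 5 → F), Cfsg.Geo.IsMDecomposition 1 D → Cfsg.Geo.IsMaximalIn (Cfsg.Geo.specialLinear (Fin 5) F) (Cfsg.Geo.decompositionStabilizer D ⊓ Cfsg.Geo.specialLinear (Fin 5) F)) ∧
    (∀ K : Subalgebra F (Matrix (Fin 5) (Fin 5) F), Cfsg.Geo.IsFieldSubalgebra 5 K → Cfsg.Geo.IsMaximalIn (Cfsg.Geo.specialLinear (Fin 5) F) (Cfsg.Geo.subalgebraNormalizer K ⊓ Cfsg.Geo.specialLinear (Fin 5) F)) ∧
    (∀ (F₀ : Subfield F) (r : ℕ) (P : Matrix.GeneralLinearGroup (Fin 5) F), r.Prime → Fintype.card F = Nat.card F₀ ^ r → Cfsg.Geo.IsMaximalIn (Cfsg.Geo.specialLinear (Fin 5) F) (Cfsg.Geo.subfieldSubgroup F₀ P ⊓ Cfsg.Geo.specialLinear (Fin 5) F)) ∧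
    ((∃ p : ℕ, p.Prime ∧ Fintype.card F = p ∧ (p % 5 = 1)) → ∀ R : Subgroup (Matrix.GeneralLinearGroup (Fin 5) F), Cfsg.Geo.IsLinearSymplecticTypeData 5 R → Cfsg.Geo.IsMaximalIn (Cfsg.Geo.specialLinear (Fin 5) F) (Cfsg.Geo.subgroupNormalizer R ⊓ Cfsg.Geo.specialLinear (Fin 5) F)) ∧
    (Odd (Fintype.card F) → ∀ Q : (Fin 5 → F) → F, Cfsg.Geo.IsNondegenerateQuadraticForm Q → Cfsg.Geo.IsMaximalIn (Cfsg.Geo.specialLinear (Fin 5) F) (Cfsg.Geo.quadSimilarityGroup Q ⊓ Cfsg.Geo.specialLinear (Fin 5) F)) ∧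
    (∀ (σ : F ≃+* F) (f : (Fin 5 → F) → (Fin 5 → F) → F), Cfsg.Geo.IsUnitaryForm σ f → Cfsg.Geo.IsMaximalIn (Cfsg.Geo.specialLinear (Fin 5) F) (Cfsg.Geo.similarityGroup f ⊓ Cfsg.Geo.specialLinear (Fin 5) F)) := by
  refine ⟨fun W h0 h1 => CfsgLib.MaxSub.sl_subspace_maximal (by norm_num) h0 h1, ?_,
    fun K hK => CfsgLib.SingerFive.sl_singer_five_maximal K hK,
    fun F₀ r P hr hc => CfsgLib.MaxSub.SubfieldSL.sl_subfield_maximal (by norm_num) hr hc P,
    fun hp R hR => CfsgLib.MaxSub.HeisFive.sl_symplectic_five_maximal hp R hR, ?_,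
    fun σ f hf => CfsgLib.MaxSub.SLHermAll.sl_unitary_maximal_all (by norm_num) hf⟩
  · intro hq D hD
    refine ⟨lt_of_le_of_ne inf_le_right fun e =>
      CfsgLib.Aschbacher.not_le_decompositionStabilizer' hD (e ▸ inf_le_left), fun M hM hMG => ?_⟩
    by_cases hle : M ≤ Cfsg.Geo.decompositionStabilizer D
    · exact Or.inl (le_antisymm (le_inf hle hMG) hM)
    obtain ⟨g, hg, hgD⟩ := SetLike.not_le_iff_exists.1 hle
    obtain ⟨gs, hgs, hgs'⟩ := CfsgLib.MaxSub.exists_sl_of hMG hg
    have eg : (Matrix.SpecialLinearGroup.toGL gs : Matrix.GeneralLinearGroup (Fin 5) F) = g := Units.ext hgs'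
    refine Or.inr (le_antisymm hMG (CfsgLib.MaxSub.specialLinear_le_of_top ?_))
    exact CfsgLib.MaxSub.DecompSL.top_of_lines_of hD
      (fun L A hL hA hA' => CfsgLib.MaxSub.Monomial.top_of_not_mono_five hq hL hA hA')
      (fun y hy => hM (Subgroup.mem_inf.2 ⟨hy, by
        rw [Cfsg.Geo.specialLinear, MonoidHom.mem_ker, Units.ext_iff, Matrix.GeneralLinearGroup.val_det_apply,
          Units.val_one]
        exact y.2⟩)) hgs (eg.symm ▸ hgD)
  · intro hodd Q hQ
    have h2 : (2 : F) ≠ 0 := CfsgLib.FiniteForms.two_ne_zero_of_odd (F := F) rfl hodd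
    obtain ⟨R, hR, -⟩ := CfsgLib.MaxSub.Orth.exists_form hQ
    exact CfsgLib.MaxSub.SLQuadAll.sl_quadratic_maximal_all (by norm_num) h2 hQ R hR

end Cfsg.Agent.S5792
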