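import Cfsg.Statements.S5823
import Cfsg.Agent.Lib.Aschbacher.SympEight

set_option autoImplicit false
open Cfsg

namespace Cfsg.Agent.S5823

open CfsgLib.Aschbacher Matrix Module

/-- Every maximal subgroup of Sp_8(q) is of one of the listed geometric types or lies in the residual class. Let F be a finite field with q elements, f the standard alternating form on F^8 (coordinates Fin 4 ⊕ Fin 4), and H a maximal subgroup of Sp_8(F) (inside GL_8(F)). Then H is the intersection with Sp_8(F) of one of: the stabiliser of a non-zero totally isotropic subspace; the stabiliser of a non-degenerate 2-space; for q ≥ 3, the stabiliser of a decomposition into four mutually orthogonal non-degenerate 2-spaces; of a decomposition into two orthogonal non-degenerate 4-spaces; for q odd, of a decomposition into two totally isotropic 4-spaces; the normaliser of a degree-2 subfield K, self-adjoint with f(k v, v) = 0; for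 q odd, the normaliser of a degree-2 subfield closed under adjoints but not self-adjoint; for q odd, the stabiliser of a tensor decomposition of f into an alternating form on F^2 and a minus-type symmetric form on F^4; a subfield group (|F| = |F₀|^r, r prime) whose F₀-structure carries a non-zero multiple of f; for q = p an odd prime, the normaliser of an absolutely irreducible extraspecial group 2_-^(1+6) of exponent 4 inside the similarity group of f; for q odd, q ≥ 5, the stabiliser of a tensor decomposition of f as a third tensor power of an alternating form on F^2; for q even, the similarity group of a non-degenerate quadratic form polarising to f — or else H lies in the residual class of the symplectic case. -/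
theorem result {F : Type*} [Field F] [Fintype F] (H : Subgroup (Matrix.GeneralLinearGroup (Fin 4 ⊕ Fin 4) F)) (hH : Cfsg.Geo.IsMaximalIn (Cfsg.spGL 4 F) H) :
    (∃ W : Submodule F (Fin 4 ⊕ Fin 4 → F), W ≠ ⊥ ∧ Cfsg.Geo.IsTotallySingularFor (Cfsg.sympForm 4 F) W ∧ H = Cfsg.Geo.subspaceStabilizer W ⊓ Cfsg.spGL 4 F) ∨
    (∃ W : Submodule F (Fin 4 ⊕ Fin 4 → F), W ≠ ⊥ ∧ Cfsg.Geo.IsNondegenerateOn (Cfsg.sympForm 4 F) W ∧ Module.finrank F W < 4 ∧ H = Cfsg.Geo.subspaceStabilizer W ⊓ Cfsg.spGL 4 F) ∨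
    (3 ≤ Fintype.card F ∧ ∃ D : Fin 4 → Submodule F (Fin 4 ⊕ Fin 4 → F), Cfsg.Geo.IsNondegenerateMDecomposition (Cfsg.sympForm 4 F) 2 D ∧ H = Cfsg.Geo.decompositionStabilizer D ⊓ Cfsg.spGL 4 F) ∨
    (∃ D : Fin 2 → Submodule F (Fin 4 ⊕ Fin 4 → F), Cfsg.Geo.IsNondegenerateMDecomposition (Cfsg.sympForm 4 F) 4 D ∧ H = Cfsg.Geo.decompositionStabilizer D ⊓ Cfsg.spGL 4 F) ∨
    (Odd (Fintype.card F) ∧ ∃ D : Fin 2 → Submodule F (Fin 4 ⊕ Fin 4 → F), Cfsg.Geo.IsMDecomposition 4 D ∧ (∀ i, Cfsg.Geo.IsTotallySingularFor (Cfsg.sympForm 4 F) (D i)) ∧ H = Cfsg.Geo.decompositionStabilizer D ⊓ Cfsg.spGL 4 F) ∨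
    (∃ K : Subalgebra F (Matrix (Fin 4 ⊕ Fin 4) (Fin 4 ⊕ Fin 4) F), Cfsg.Geo.IsFieldSubalgebra 2 K ∧ Cfsg.Geo.IsSelfAdjointFor (Cfsg.sympForm 4 F) K ∧ (∀ k ∈ K, ∀ v : (Fin 4 ⊕ Fin 4 → F), (Cfsg.sympForm 4 F) (Matrix.mulVec k v) v = 0) ∧ H = Cfsg.Geo.subalgebraNormalizer K ⊓ Cfsg.spGL 4 F) ∨
    (Odd (Fintype.card F) ∧ ∃ K : Subalgebra F (Matrix (Fin 4 ⊕ Fin 4) (Fin 4 ⊕ Fin 4) F), Cfsg.Geo.IsFieldSubalgebra 2 K ∧ Cfsg.Geo.IsAdjointClosedFor (Cfsg.sympForm 4 F) K ∧ ¬ Cfsg.Geo.IsSelfAdjointFor (Cfsg.sympForm 4 F) K ∧ H = Cfsg.Geo.subalgebraNormalizer K ⊓ Cfsg.spGL 4 F) ∨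
    (Odd (Fintype.card F) ∧ ∃ (e : (Fin 4 ⊕ Fin 4) ≃ Fin 2 × Fin 4) (P : Matrix.GeneralLinearGroup (Fin 4 ⊕ Fin 4) F) (f₁ : (Fin 2 → F) → (Fin 2 → F) → F) (f₂ : (Fin 4 → F) → (Fin 4 → F) → F), Cfsg.Geo.IsSymplecticForm f₁ ∧ Cfsg.Geo.IsSymmetricForm f₂ ∧ ¬ Cfsg.Geo.IsPlusTypeOn (fun v : Fin 4 → F => f₂ v v) ⊤ ∧ Cfsg.Geo.IsTensorFormStructure id (Cfsg.sympForm 4 F) f₁ f₂ e P ∧ H = Cfsg.Geo.tensorProductSubgroup 2 4 e P ⊓ Cfsg.spGL 4 F) ∨
    (∃ (F₀ : Subfield F) (r : ℕ) (P : Matrix.GeneralLinearGroup (Fin 4 ⊕ Fin 4) F) (ζ : F), r.Prime ∧ Fintype.card F = Nat.card F₀ ^ r ∧ ζ ≠ 0 ∧ Cfsg.Geo.IsFormRationalStructure (Cfsg.sympForm 4 F) F₀ ζ P ∧ H = Cfsg.Geo.subfieldSubgroup F₀ P ⊓ Cfsg.spGL 4 F) ∨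
    (∃ (p : ℕ) (R : Subgroup (Matrix.GeneralLinearGroup (Fin 4 ⊕ Fin 4) F)), p.Prime ∧ Odd p ∧ Fintype.card F = p ∧ Cfsg.Geo.IsSymplecticTypeGroup 2 R ∧ Cfsg.Geo.ActsAbsolutelyIrreducibly (Cfsg.Geo.matrixSet R) ∧ R ≤ Cfsg.Geo.similarityGroup (Cfsg.sympForm 4 F) ∧ Nat.card R = 128 ∧ Nat.card (Subgroup.center R) = 2 ∧ Cfsg.Geo.IsOfMinusType 3 R ∧ H = Cfsg.Geo.subgroupNormalizer R ⊓ Cfsg.spGL 4 F) ∨
    (Odd (Fintype.card F) ∧ 5 ≤ Fintype.card F ∧ ∃ (e : (Fin 4 ⊕ Fin 4) ≃ (Fin 3 → Fin 2)) (P : Matrix.GeneralLinearGroup (Fin 4 ⊕ Fin 4) F) (f₁ : (Fin 2 → F) → (Fin 2 → F) → F), Cfsg.Geo.IsSymplecticForm f₁ ∧ Cfsg.Geo.IsTensorPowerFormStructure id (Cfsg.sympForm 4 F) f₁ e P ∧ H = Cfsg.Geo.tensorWreathSubgroup 2 3 e P ⊓ Cfsg.spGL 4 F) ∨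
    (¬ Odd (Fintype.card F) ∧ ∃ Q : (Fin 4 ⊕ Fin 4 → F) → F, Cfsg.Geo.IsNondegenerateQuadraticForm Q ∧ (∀ u v : (Fin 4 ⊕ Fin 4 → F), QuadraticMap.polar Q u v = (Cfsg.sympForm 4 F) u v) ∧ H = Cfsg.Geo.quadSimilarityGroup Q ⊓ Cfsg.spGL 4 F) ∨
    Cfsg.Geo.InSymplecticResidualClass H := by
  classical
  have : NeZero 4 := ⟨by norm_num⟩
  have hf := isRefl_sympForm (F := F) 4
  have hfix := fixesForm_spGL hH.1.le
  have hcard : Fintype.card (Fin 4 ⊕ Fin 4) = 8 := by simp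
  have : Fact (Nat.Prime 2) := ⟨Nat.prime_two⟩
  have hq5 : Odd (Fintype.card F) → Fintype.card F ≠ 3 → 5 ≤ Fintype.card F := fun ho h => by
    obtain ⟨j, hj⟩ := ho
    have := Fintype.one_lt_card (α := F)
    omega
  rcases symp_aschbacher (m := 4) (by norm_num) hH.1.le with ⟨M, hM, hle⟩ | hres
  swap
  · exact Or.inr (Or.inr (Or.inr (Or.inr (Or.inr (Or.inr (Or.inr (Or.inr (Or.inr (Or.inr (Or.inr (Or.inr (hres))))))))))))
  rcases hM with ⟨W, h0, hts, rfl⟩ | ⟨W, h0, hnd, hlt, rfl⟩ | ⟨t, k, D, hD, rfl⟩ |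
    ⟨D, hodd, hD, hts, rfl⟩ | ⟨r, K, hr, hK, hsa, hz, rfl⟩ | ⟨K, hodd, hK, hadj, hns, rfl⟩ |
    ⟨n₁, n₂, e, P, f₁, f₂, hodd, hn₂, hf₁, hf₂, hT, rfl⟩ | ⟨F₀, r, P, ζ, hr, hc, hζ, hP, rfl⟩ |
    ⟨R, p, k, hk, hR, habs, hsim, hp, hpo, hq, hN, hz, hminus, rfl⟩ |
    ⟨k, t, e, P, f₁, hodd, -, ht, hex, hf₁, hT, rfl⟩ | ⟨Q, hev, hQ, hpol, rfl⟩
  · have h1 : W ≠ ⊤ := by
      intro h
      obtain ⟨-, x, hx⟩ := hf.nondeg (Pi.single (Sum.inl 0) 1) (by simp)
      exact hx (hts _ (h ▸ Submodule.mem_top) _ (h ▸ Submodule.mem_top))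
    exact Or.inl (⟨W, h0, hts, eq_inf_of_maximal hH (hle.trans inf_le_left) (spGL_not_le_subspaceStabilizer h0 h1)⟩)
  · have h1 : W ≠ ⊤ := fun h => by
      rw [h, finrank_top, Module.finrank_fintype_fun_eq_card, hcard] at hlt
      omega
    exact Or.inr (Or.inl (⟨W, h0, hnd, hlt, eq_inf_of_maximal hH (hle.trans inf_le_left) (spGL_not_le_subspaceStabilizer h0 h1)⟩))
  · have hprod := mDecomposition_mul_eq hD.decomp
    rw [hcard] at hprod
    have htwo := hD.decomp.two_le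
    have hke : Even k := by
      have := even_finrank_of_alternating hf.bilinear (sympForm_alt 4) _ (D ⟨0, by omega⟩) rfl
        fun w hw hw0 => (hD.nondegenerate ⟨0, by omega⟩ w hw hw0).2
      rwa [hD.decomp.finrank_eq] at this
    have : t ≤ 8 := Nat.le_of_dvd (by norm_num) ⟨k, hprod.symm⟩
    obtain ⟨rfl, rfl⟩ | ⟨rfl, rfl⟩ : (t = 4 ∧ k = 2) ∨ (t = 2 ∧ k = 4) := by
      obtain ⟨j, rfl⟩ := hke
      interval_cases t <;> omega
    · by_cases hq : Fintype.card F = 2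
      · obtain ⟨Q, hQ, hpol, h⟩ := planes_quad hq hf (sympForm_alt 4) hD hfix (hle.trans inf_le_left)
        exact Or.inr (Or.inr (Or.inr (Or.inr (Or.inr (Or.inr (Or.inr (Or.inr (Or.inr (Or.inr (Or.inr (Or.inl (⟨by rw [hq]; decide, Q, hQ, hpol, eq_inf_of_maximal hH h (spGL_not_le_quadSimilarityGroup (by norm_num) hQ.smul hpol)⟩))))))))))))
      · have h3 : 3 ≤ Fintype.card F := by
          have := Fintype.one_lt_card (α := F)
          omega
        exact Or.inr (Or.inr (Or.inl (⟨h3, D, hD, eq_inf_of_maximal hH (hle.trans inf_le_left) (spGL_not_le_decompositionStabilizer le_rfl hD.decomp)⟩)))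
    · exact Or.inr (Or.inr (Or.inr (Or.inl (⟨D, hD, eq_inf_of_maximal hH (hle.trans inf_le_left) (spGL_not_le_decompositionStabilizer (by norm_num) hD.decomp)⟩))))
  · exact Or.inr (Or.inr (Or.inr (Or.inr (Or.inl (⟨hodd, D, hD, hts, eq_inf_of_maximal hH (hle.trans inf_le_left) (spGL_not_le_decompositionStabilizer (by norm_num) hD)⟩)))))
  · obtain rfl : r = 2 := by
      have h := self_adjoint_field_dvd hf hK hsa hz
      rw [hcard] at h
      exact (Nat.prime_dvd_prime_iff_eq hr Nat.prime_two).1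
        (hr.dvd_of_dvd_pow (show r ∣ 2 ^ 2 from Nat.dvd_of_mul_dvd_mul_left two_pos (show 2 * r ∣ 2 * 4 from h)))
    exact Or.inr (Or.inr (Or.inr (Or.inr (Or.inr (Or.inl (⟨K, hK, hsa, hz, eq_inf_of_maximal hH (hle.trans inf_le_left) (spGL_not_le_subalgebraNormalizer (by norm_num) hK one_lt_two)⟩))))))
  · exact Or.inr (Or.inr (Or.inr (Or.inr (Or.inr (Or.inr (Or.inl (⟨hodd, K, hK, hadj, hns, eq_inf_of_maximal hH (hle.trans inf_le_left) (spGL_not_le_subalgebraNormalizer (by norm_num) hK one_lt_two)⟩)))))))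
  · have hprod : n₁ * n₂ = 8 := by rw [← hcard, Fintype.card_congr e]; simp
    have hev1 : Even n₁ := by
      refine even_finrank_of_alternating hf₁.bilinear hf₁.alternating n₁ ⊤ (by simp) fun w _ hw => ?_
      obtain ⟨-, x, hx⟩ := hf₁.nondegenerate w hw
      exact ⟨x, Submodule.mem_top, hx⟩
    obtain ⟨rfl, rfl⟩ : n₁ = 2 ∧ n₂ = 4 := by
      have : n₂ ≤ 8 := Nat.le_of_dvd (by norm_num) ⟨n₁, by rw [← hprod, mul_comm]⟩
      obtain ⟨j, rfl⟩ := hev1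
      interval_cases n₂ <;> omega
    by_cases hplus : Cfsg.Geo.IsPlusTypeOn (fun v : Fin 4 → F => f₂ v v) ⊤
    swap
    · exact Or.inr (Or.inr (Or.inr (Or.inr (Or.inr (Or.inr (Or.inr (Or.inl (⟨hodd, e, P, f₁, f₂, hf₁, hf₂, hplus, hT, eq_inf_of_maximal hH (hle.trans inf_le_left) (spGL_not_le_tensorProductSubgroup le_rfl (by norm_num) e P)⟩))))))))
    have h2 : (2 : F) ≠ 0 := fun h => two_eq_zero_iff.1 h hodd
    obtain ⟨e', P', c, hc, hpull, hle'⟩ := plus_tensor_wreath h2 hf₁ hf₂ hplus hT hfix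
      (hle.trans inf_le_left)
    by_cases hq : Fintype.card F = 3
    · obtain ⟨R, hR, habs, hRf, hN, hz, hminus, hRn⟩ :=
        wreath_three_normaliser hq hf (sympForm_alt 4) hc hpull
      exact Or.inr (Or.inr (Or.inr (Or.inr (Or.inr (Or.inr (Or.inr (Or.inr (Or.inr (Or.inl (⟨3, R, Nat.prime_three, by decide, hq, hR, habs, fun g hg => ⟨1, fun u v => by rw [Units.val_one, one_mul]; exact hRf _ ⟨g, hg, rfl⟩ u v⟩, hN, hz, hminus, eq_inf_of_maximal hH (hle'.trans hRn) (spGL_not_le_subgroupNormalizer (by norm_num) hR.pGroup habs)⟩))))))))))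
    have hsymp : Cfsg.Geo.IsSymplecticForm (Cfsg.Geo.formOfGram id (omega2 F)) := by
      have hr₁ := isRefl_formOfGram omega2_isUnit (by norm_num : (-1 : F) ≠ 0) omega2_transpose
      refine ⟨hr₁.bilinear, fun v w => by rw [hr₁.swap w v]; simp, fun v => ?_, hr₁.nondeg⟩
      simp [Cfsg.Geo.formOfGram, Fin.sum_univ_two, omega2]; ring
    have hstr : Cfsg.Geo.IsTensorPowerFormStructure id (Cfsg.sympForm 4 F)
        (Cfsg.Geo.formOfGram id (omega2 F)) e' P' := by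
      refine ⟨c, hc, fun x y => (hpull x y).trans ?_⟩
      have hg : Cfsg.Geo.gramMatrix (Cfsg.Geo.formOfGram id (omega2 F)) = omega2 F :=
        gramMatrix_formOfGram (σ := RingEquiv.refl F) _
      simp only [Cfsg.Geo.formOfGram, hg, pureMat_apply, id]
    exact Or.inr (Or.inr (Or.inr (Or.inr (Or.inr (Or.inr (Or.inr (Or.inr (Or.inr (Or.inr (Or.inl (⟨hodd, hq5 hodd hq, e', P', _, hsymp, hstr, eq_inf_of_maximal hH hle' (spGL_not_le_tensorWreathSubgroup le_rfl le_rfl e' P')⟩)))))))))))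
  · exact Or.inr (Or.inr (Or.inr (Or.inr (Or.inr (Or.inr (Or.inr (Or.inr (Or.inl (⟨F₀, r, P, ζ, hr, hc, hζ, hP, eq_inf_of_maximal hH (hle.trans inf_le_left) (spGL_not_le_subfieldSubgroup (by norm_num) hr hc P)⟩)))))))))
  · obtain rfl : k = 3 := Nat.pow_right_injective le_rfl (show 2 ^ k = 2 ^ 3 from hk.symm)
    exact Or.inr (Or.inr (Or.inr (Or.inr (Or.inr (Or.inr (Or.inr (Or.inr (Or.inr (Or.inl (⟨p, R, hp, hpo, hq, hR, habs, hsim, hN, hz, hminus, eq_inf_of_maximal hH (hle.trans inf_le_left) (spGL_not_le_subgroupNormalizer (by norm_num) hR.pGroup habs)⟩))))))))))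
  · have h8 : k ^ t = 8 := by rw [← hcard, Fintype.card_congr e]; simp
    have hke : Even k := by
      refine even_finrank_of_alternating hf₁.bilinear hf₁.alternating k ⊤ (by simp) fun w _ hw => ?_
      obtain ⟨-, x, hx⟩ := hf₁.nondegenerate w hw
      exact ⟨x, Submodule.mem_top, hx⟩
    obtain ⟨rfl, rfl⟩ : k = 2 ∧ t = 3 := by
      have hk2 : 2 ≤ k := by
        rcases Nat.eq_zero_or_pos k with rfl | h
        · rw [zero_pow (by omega)] at h8; omega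
        · obtain ⟨j, rfl⟩ := hke; omega
      have h1 : k ^ 3 ≤ 8 := h8 ▸ Nat.pow_le_pow_right (by omega) ht
      obtain rfl : k = 2 := by
        by_contra hc
        have := Nat.pow_le_pow_left (show 3 ≤ k by omega) 3
        omega
      exact ⟨rfl, Nat.pow_right_injective le_rfl (show 2 ^ t = 2 ^ 3 from h8)⟩
    exact Or.inr (Or.inr (Or.inr (Or.inr (Or.inr (Or.inr (Or.inr (Or.inr (Or.inr (Or.inr (Or.inl (⟨hodd, hq5 hodd (fun h => hex ⟨h, rfl⟩), e, P, f₁, hf₁, hT, eq_inf_of_maximal hH (hle.trans inf_le_left) (spGL_not_le_tensorWreathSubgroup le_rfl le_rfl e P)⟩)))))))))))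
  · exact Or.inr (Or.inr (Or.inr (Or.inr (Or.inr (Or.inr (Or.inr (Or.inr (Or.inr (Or.inr (Or.inr (Or.inl (⟨hev, Q, hQ, hpol, eq_inf_of_maximal hH (hle.trans inf_le_left) (spGL_not_le_quadSimilarityGroup (by norm_num) hQ.smul hpol)⟩))))))))))))

end Cfsg.Agent.S5823
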