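import Cfsg.Statements.S5825
import Cfsg.Agent.Lib.MaxSub.SubspaceMaximalOrthGL
import Cfsg.Agent.Lib.MaxSub.ExtOrthMax.Main
import Cfsg.Agent.Lib.MaxSub.SubfieldMaximalOrth

set_option autoImplicit false
open Cfsg

namespace Cfsg.Agent.S5825

/-- Maximal subgroups of Ω_8^-(q) of geometric type (any q). Let F be a finite field with q elements, Q a non-degenerate quadratic form on F^8 (non-degenerate polar form) of minus type (Witt index 3: no totally singular 4-space), and Ω = Ω_8^-(q) the commutator subgroup of the isometry group of Q, inside GL_8(F). Each of the following, intersected with Ω, is a maximal subgroup of Ω: (1) the stabiliser of any non-zero subspace on which Q vanishes identically (totally singular 1-, 2- and 3-spaces); (2) for q odd, the stabiliser of any proper subspace of odd dimension (1, 3, 5 or 7) on which the polar form of Q is non-degenerate; (3) the stabiliser of any non-degenerate 2-space of minus type (containing no non-zero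 singular vector); (4) for q ≥ 4, the stabiliser of any non-degenerate 2-space of plus type (containing a non-zero singular vector); (5) the stabiliser of any non-degenerate 4-space (its orthogonal complement is then a non-degenerate 4-space of the opposite type); (6) for q even, the stabiliser of the 1-space spanned by any non-singular vector v (Q(v) ≠ 0); (7) for q odd, the normaliser of any degree-2 subfield K of the matrix algebra whose elements are self-adjoint for the polar form of Q (Q is then the trace of a quadratic form over K); (8) every subfield group for a subfield F₀ of odd prime index r in F whose F₀-structure carries a non-zero scalar multiple of Q. -/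
theorem result {F : Type*} [Field F] [Fintype F] (Q : (Fin 8 → F) → F) (hQ : Cfsg.Geo.IsNondegenerateQuadraticForm Q) (hminus : ¬ Cfsg.Geo.IsPlusTypeOn Q ⊤) :
    (∀ W : Submodule F (Fin 8 → F), W ≠ ⊥ → Cfsg.Geo.IsTotallySingularQuad Q W → Cfsg.Geo.IsMaximalIn (Cfsg.Geo.omegaGL Q) (Cfsg.Geo.subspaceStabilizer W ⊓ Cfsg.Geo.omegaGL Q)) ∧
    (Odd (Fintype.card F) → ∀ W : Submodule F (Fin 8 → F), W ≠ ⊥ → W ≠ ⊤ → Odd (Module.finrank F W) → Cfsg.Geo.IsNondegenerateOn (QuadraticMap.polar Q) W → Cfsg.Geo.IsMaximalIn (Cfsg.Geo.omegaGL Q) (Cfsg.Geo.subspaceStabilizer W ⊓ Cfsg.Geo.omegaGL Q)) ∧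
    (∀ W : Submodule F (Fin 8 → F), Module.finrank F W = 2 → Cfsg.Geo.IsNondegenerateOn (QuadraticMap.polar Q) W → ¬ Cfsg.Geo.IsPlusTypeOn Q W → Cfsg.Geo.IsMaximalIn (Cfsg.Geo.omegaGL Q) (Cfsg.Geo.subspaceStabilizer W ⊓ Cfsg.Geo.omegaGL Q)) ∧
    (4 ≤ Fintype.card F → ∀ W : Submodule F (Fin 8 → F), Module.finrank F W = 2 → Cfsg.Geo.IsNondegenerateOn (QuadraticMap.polar Q) W → Cfsg.Geo.IsPlusTypeOn Q W → Cfsg.Geo.IsMaximalIn (Cfsg.Geo.omegaGL Q) (Cfsg.Geo.subspaceStabilizer W ⊓ Cfsg.Geo.omegaGL Q)) ∧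
    (∀ W : Submodule F (Fin 8 → F), Module.finrank F W = 4 → Cfsg.Geo.IsNondegenerateOn (QuadraticMap.polar Q) W → Cfsg.Geo.IsMaximalIn (Cfsg.Geo.omegaGL Q) (Cfsg.Geo.subspaceStabilizer W ⊓ Cfsg.Geo.omegaGL Q)) ∧
    (¬ Odd (Fintype.card F) → ∀ v : (Fin 8 → F), Q v ≠ 0 → Cfsg.Geo.IsMaximalIn (Cfsg.Geo.omegaGL Q) (Cfsg.Geo.subspaceStabilizer (Submodule.span F {v}) ⊓ Cfsg.Geo.omegaGL Q)) ∧
    (Odd (Fintype.card F) → ∀ K : Subalgebra F (Matrix (Fin 8) (Fin 8) F), Cfsg.Geo.IsFieldSubalgebra 2 K → Cfsg.Geo.IsSelfAdjointFor (QuadraticMap.polar Q) K → Cfsg.Geo.IsMaximalIn (Cfsg.Geo.omegaGL Q) (Cfsg.Geo.subalgebraNormalizer K ⊓ Cfsg.Geo.omegaGL Q)) ∧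
    (∀ (F₀ : Subfield F) (r : ℕ) (P : Matrix.GeneralLinearGroup (Fin 8) F) (ζ : F), r.Prime → Odd r → Fintype.card F = Nat.card F₀ ^ r → ζ ≠ 0 → Cfsg.Geo.IsQuadFormRationalStructure (fun v : Fin 8 → F => ζ * Q v) F₀ P → Cfsg.Geo.IsMaximalIn (Cfsg.Geo.omegaGL Q) (Cfsg.Geo.subfieldSubgroup F₀ P ⊓ Cfsg.Geo.omegaGL Q)) := by
  have hcard : Fintype.card (Fin 8) = 8 := Fintype.card_fin 8
  have hn : ∀ W : Submodule F (Fin 8 → F), W ≠ ⊥ → W ≠ ⊤ →
      Cfsg.Geo.IsNondegenerateOn (QuadraticMap.polar Q) W →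
      (2 * Module.finrank F W = 8 → Even (Module.finrank F W)) →
      (¬ (Fintype.card F ≤ 3 ∧ ∃ U : Submodule F (Fin 8 → F), Module.finrank F U = 2 ∧
        Cfsg.Geo.IsNondegenerateOn (QuadraticMap.polar Q) U ∧ Cfsg.Geo.IsPlusTypeOn Q U ∧
        (U = W ∨ (Cfsg.Geo.AreOrthogonalFor (QuadraticMap.polar Q) U W ∧
          Module.finrank F U + Module.finrank F W = 8)))) →
      Cfsg.Geo.IsMaximalIn (Cfsg.Geo.omegaGL Q)
        (Cfsg.Geo.subspaceStabilizer W ⊓ Cfsg.Geo.omegaGL Q) := fun W h0 h1 hW he hex =>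
    CfsgLib.MaxSub.Orth.nondegenerate_maximal hQ (by rw [hcard]) h0 h1 hW
      (fun h => ⟨he (by rwa [hcard] at h), hminus⟩) (by rw [hcard]; exact hex)
  have hbt : ∀ W : Submodule F (Fin 8 → F), 0 < Module.finrank F W → Module.finrank F W < 8 →
      W ≠ ⊥ ∧ W ≠ ⊤ := fun W h h' => ⟨fun e => by rw [e, finrank_bot] at h; omega,
    fun e => by rw [e, finrank_top, Module.finrank_fin_fun] at h'; omega⟩
  refine ⟨fun W h0 hW => CfsgLib.MaxSub.Orth.singular_maximal hQ (by rw [hcard]; norm_num) h0 hW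
      (Or.inr hminus),
    fun _ W h0 h1 ho hW => hn W h0 h1 hW (fun h => absurd ho (by
      rw [show Module.finrank F W = 4 by omega]; decide)) ?_,
    fun W hd hW hm => hn W (hbt W (by omega) (by omega)).1 (hbt W (by omega) (by omega)).2 hW
      (fun h => by omega) ?_,
    fun hq W hd hW _ => hn W (hbt W (by omega) (by omega)).1 (hbt W (by omega) (by omega)).2 hW
      (fun h => by omega) fun h => by omega,
    fun W hd hW => hn W (hbt W (by omega) (by omega)).1 (hbt W (by omega) (by omega)).2 hW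
      (fun _ => by rw [hd]; decide) ?_,
    fun he v hv => CfsgLib.MaxSub.Orth.point_maximal hQ (by rw [hcard]; norm_num)
      (CfsgLib.Aschbacher.two_eq_zero_iff.2 he) hv,
    fun hodd K hK hsa => CfsgLib.MaxSub.ExtOrthMax.ext_orth_maximal hQ (by rw [hcard]; norm_num)
      hodd Nat.prime_two (by rw [hcard]) (fun _ _ => hminus) hK hsa,
    fun F₀ r P ζ hr _ hc hζ hP => ?_⟩
  · rintro ⟨-, U, hU, -, -, rfl | ⟨-, h⟩⟩
    · rw [hU] at ho; exact absurd ho (by decide)
    · rw [show Module.finrank F W = 6 by omega] at ho; exact absurd ho (by decide)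
  · rintro ⟨-, U, hU, -, hp, rfl | ⟨-, h⟩⟩
    · exact hm hp
    · omega
  · rintro ⟨-, U, hU, -, -, rfl | ⟨-, h⟩⟩ <;> omega
  · obtain ⟨R, rfl, hR⟩ := CfsgLib.MaxSub.Orth.exists_form hQ
    exact CfsgLib.MaxSub.SubfieldOrth.orth_subfield_maximal ⟨by simp, hζ, hR, hP⟩ hr hc

end Cfsg.Agent.S5825
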