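import Cfsg.Statements.S5826
import Cfsg.Agent.Lib.Aschbacher.OrthEven.Shape
import Cfsg.Agent.Lib.MaxSub.NotMaximalOrth

set_option autoImplicit false
open Cfsg

namespace Cfsg.Agent.S5826

open CfsgLib.Aschbacher CfsgLib.Aschbacher.OrthEven Module in
/-- Every maximal subgroup of Ω_8^-(q) is of one of the listed geometric types or lies in the residual class. Let F be a finite field with q elements, Q a non-degenerate quadratic form on F^8 of minus type (no totally singular 4-space), Ω the commutator subgroup of its isometry group, and H a maximal subgroup of Ω (inside GL_8(F)). Then H is the intersection with Ω of one of: the stabiliser of a non-zero totally singular subspace; for q odd, the stabiliser of a non-degenerate subspace of odd dimension; the stabiliser of a non-degenerate 2-space of minus type; for q ≥ 4, the stabiliser of a non-degenerate 2-space of plus type; the stabiliser of a non-degenerate 4-space; for q even, the stabiliser of the span of a non-singular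 vector; the normaliser of a degree-2 subfield of the matrix algebra; a subfield group of odd prime index whose F₀-structure carries a non-zero multiple of Q — or else H lies in the residual class of the orthogonal case (modulo scalars H is almost simple, with absolutely irreducible perfect socle preimage realisable over no proper subfield and fixing no non-degenerate unitary form). -/
theorem result {F : Type*} [Field F] [Fintype F] (Q : (Fin 8 → F) → F) (hQ : Cfsg.Geo.IsNondegenerateQuadraticForm Q) (hminus : ¬ Cfsg.Geo.IsPlusTypeOn Q ⊤) (H : Subgroup (Matrix.GeneralLinearGroup (Fin 8) F)) (hH : Cfsg.Geo.IsMaximalIn (Cfsg.Geo.omegaGL Q) H) :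
    (∃ W : Submodule F (Fin 8 → F), W ≠ ⊥ ∧ Cfsg.Geo.IsTotallySingularQuad Q W ∧ H = Cfsg.Geo.subspaceStabilizer W ⊓ Cfsg.Geo.omegaGL Q) ∨
    (Odd (Fintype.card F) ∧ ∃ W : Submodule F (Fin 8 → F), W ≠ ⊥ ∧ W ≠ ⊤ ∧ Odd (Module.finrank F W) ∧ Cfsg.Geo.IsNondegenerateOn (QuadraticMap.polar Q) W ∧ H = Cfsg.Geo.subspaceStabilizer W ⊓ Cfsg.Geo.omegaGL Q) ∨
    (∃ W : Submodule F (Fin 8 → F), Module.finrank F W = 2 ∧ Cfsg.Geo.IsNondegenerateOn (QuadraticMap.polar Q) W ∧ ¬ Cfsg.Geo.IsPlusTypeOn Q W ∧ H = Cfsg.Geo.subspaceStabilizer W ⊓ Cfsg.Geo.omegaGL Q) ∨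
    (4 ≤ Fintype.card F ∧ ∃ W : Submodule F (Fin 8 → F), Module.finrank F W = 2 ∧ Cfsg.Geo.IsNondegenerateOn (QuadraticMap.polar Q) W ∧ Cfsg.Geo.IsPlusTypeOn Q W ∧ H = Cfsg.Geo.subspaceStabilizer W ⊓ Cfsg.Geo.omegaGL Q) ∨
    (∃ W : Submodule F (Fin 8 → F), Module.finrank F W = 4 ∧ Cfsg.Geo.IsNondegenerateOn (QuadraticMap.polar Q) W ∧ H = Cfsg.Geo.subspaceStabilizer W ⊓ Cfsg.Geo.omegaGL Q) ∨
    (¬ Odd (Fintype.card F) ∧ ∃ v : (Fin 8 → F), Q v ≠ 0 ∧ H = Cfsg.Geo.subspaceStabilizer (Submodule.span F {v}) ⊓ Cfsg.Geo.omegaGL Q) ∨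
    (∃ K : Subalgebra F (Matrix (Fin 8) (Fin 8) F), Cfsg.Geo.IsFieldSubalgebra 2 K ∧ H = Cfsg.Geo.subalgebraNormalizer K ⊓ Cfsg.Geo.omegaGL Q) ∨
    (∃ (F₀ : Subfield F) (r : ℕ) (P : Matrix.GeneralLinearGroup (Fin 8) F) (ζ : F), r.Prime ∧ Odd r ∧ Fintype.card F = Nat.card F₀ ^ r ∧ ζ ≠ 0 ∧ Cfsg.Geo.IsQuadFormRationalStructure (fun v : Fin 8 → F => ζ * Q v) F₀ P ∧ H = Cfsg.Geo.subfieldSubgroup F₀ P ⊓ Cfsg.Geo.omegaGL Q) ∨
    Cfsg.Geo.InOrthogonalResidualClass H := by
  have hn : 5 ≤ Fintype.card (Fin 8) := by simp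
  have hHI : H ≤ Cfsg.isometryGroup F Q :=
    hH.1.le.trans (omega_le Q)
  rcases orth_even_aschbacher hQ (by simp) (by decide) hHI with hgeo | hres
  swap
  · iterate 8 right
    exact hres
  rcases hgeo with ⟨W, h0, h1, hts, hle⟩ | ⟨W, h0, h1, hnd, hd, hle⟩ | ⟨h2, v, hv, hle⟩ |
    ⟨t, k, D, hD, hle⟩ | ⟨k, D, hk, hD, hts, hle⟩ | ⟨r, K, hr, hrn, hK, -, -, hle⟩ |
    ⟨K, hK, -, -, -, hle⟩ | ⟨a, b, e, P, f₁, f₂, ha, hab, -, -, -, hpure, hle⟩ |
    ⟨a, b, e, P, f₁, f₂, -, ha, hab, -⟩ | ⟨k, t, hk, ht, hcard, hp⟩ | ⟨-, -, hp⟩ |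
    ⟨F₀, r, P, ζ, hr, hc, hζ, hP, hle⟩
  · left
    exact ⟨W, h0, hts, eq_inf_of_maximal hH hle (not_le_subspaceStabilizer hQ hn h0 h1)⟩
  · have heq := eq_inf_of_maximal hH hle (not_le_subspaceStabilizer hQ hn h0 h1)
    have hpos : 0 < finrank F W := Nat.pos_of_ne_zero fun h => h0 (Submodule.finrank_eq_zero.1 h)
    rw [Fintype.card_fin] at hd
    have : finrank F W = 1 ∨ finrank F W = 2 ∨ finrank F W = 3 ∨ finrank F W = 4 := by omega
    rcases this with h | h | h | h
    · iterate 1 right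
      left
      exact ⟨odd_card_of_odd_dim hQ hnd (by rw [h]; decide), W, h0, h1, by rw [h]; decide, hnd, heq⟩
    · by_cases hp : Cfsg.Geo.IsPlusTypeOn Q W
      · by_cases hq : 4 ≤ Fintype.card F
        · iterate 3 right
          left
          exact ⟨hq, W, h, hnd, hp, heq⟩
        · exact (not_maximal_of_between hH hle
            (CfsgLib.MaxSub.Orth.plus_plane_not_maximal hQ (by simp) (by omega) h hnd hp)).elim
      · iterate 2 right
        left
        exact ⟨W, h, hnd, hp, heq⟩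
    · iterate 1 right
      left
      exact ⟨odd_card_of_odd_dim hQ hnd (by rw [h]; decide), W, h0, h1, by rw [h]; decide, hnd, heq⟩
    · iterate 4 right
      left
      exact ⟨W, h, hnd, heq⟩
  · iterate 5 right
    left
    refine ⟨not_odd_of_two_eq_zero h2, v, hv, eq_inf_of_maximal hH hle ?_⟩
    refine not_le_subspaceStabilizer hQ hn ?_ ?_
    · rw [Submodule.span_singleton_eq_bot.ne]
      exact fun h => hv (by rw [h]; exact quad_map_zero hQ)
    · intro h
      have := finrank_span_le_card (R := F) ({v} : Set (Fin 8 → F))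
      rw [h] at this
      simp at this
  · refine absurd ?_ hminus
    have hm := CfsgLib.Aschbacher.mDecomposition_mul_eq hD.decomp.decomp
    rw [Fintype.card_fin] at hm
    have ht2 := hD.decomp.decomp.two_le
    refine plus_of_even_blocks hQ hD (m := 4) ?_ (by omega) ⟨1, by norm_num⟩
    have : t ∣ 8 := ⟨k, hm.symm⟩
    have : t ≤ 8 := Nat.le_of_dvd (by norm_num) this
    interval_cases t <;> first | decide | omega
  · exact absurd (plus_top_of_singular (hts 0) (by rw [hD.finrank_eq]; exact hk)) hminus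
  · have hr2 : r = 2 := by
      have h8 : r ∣ 2 ^ 3 := by simpa using hrn
      exact (Nat.prime_dvd_prime_iff_eq hr Nat.prime_two).1 (hr.dvd_of_dvd_pow h8)
    subst hr2
    iterate 6 right
    left
    exact ⟨K, hK, eq_inf_of_maximal hH hle (not_le_subalgebraNormalizer hQ hn hK le_rfl)⟩
  · iterate 6 right
    left
    exact ⟨K, hK, eq_inf_of_maximal hH hle (not_le_subalgebraNormalizer hQ hn hK le_rfl)⟩
  · refine absurd ?_ hminus
    have hc : a * b = 8 := by simpa using (Fintype.card_congr e).symm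
    obtain rfl : a = 2 := by nlinarith
    exact plus_of_pure_singular e P hpure
  · have hc : a * b = 8 := by simpa using (Fintype.card_congr e).symm
    nlinarith
  · refine absurd (hp ?_) hminus
    rw [Fintype.card_fin] at hcard
    have : k ≤ 2 := by
      by_contra h
      have h9 : 3 ^ 2 ≤ k ^ t :=
        (Nat.pow_le_pow_left (by omega) 2).trans (Nat.pow_le_pow_right (by omega) ht)
      omega
    obtain rfl : k = 2 := by omega
    exact ⟨rfl, Nat.pow_right_injective le_rfl (show 2 ^ t = 2 ^ 3 by omega)⟩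
  · exact absurd hp hminus
  · iterate 7 right
    left
    refine ⟨F₀, r, P, ζ, hr, hr.odd_of_ne_two ?_, hc, hζ, hP,
      eq_inf_of_maximal hH hle (not_le_subfieldSubgroup hQ hn hr hc P)⟩
    rintro rfl
    exact hminus (plus_of_subfield_two hQ (by decide) hc hζ hP)

end Cfsg.Agent.S5826
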