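import Cfsg.Statements.S5834
import Cfsg.Agent.Lib.Aschbacher.OrthMaximal
import Cfsg.Agent.Lib.MaxSub.SubspaceMaximalOrthGL
import Cfsg.Agent.Lib.MaxSub.SubspaceMaximalOrthOddGL
import Cfsg.Agent.Lib.MaxSub.Frame.Main
import Cfsg.Agent.Lib.MaxSub.OrthBlocks.Final
import Cfsg.Agent.Lib.MaxSub.ExtOrthMax.Main
import Cfsg.Agent.Lib.MaxSub.SubfieldMaximalOrth
import Cfsg.Agent.Lib.MaxSub.TensorOO.ThreeMain

set_option autoImplicit false
open Cfsg

namespace Cfsg.Agent.S5834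

/-- Maximal subgroups of Ω_9(q) of geometric type, q odd. Let F be a finite field of odd order q, Q the standard quadratic form x₀² + Σ x_i y_i on F^9 (coordinates Unit ⊕ (Fin 4 ⊕ Fin 4)), and Ω = Ω_9(q) the commutator subgroup of its isometry group, inside GL_9(F). Each of the following, intersected with Ω, is a maximal subgroup of Ω: (1) the stabiliser of any non-zero subspace on which Q vanishes identically (totally singular 1- to 4-spaces); (2) the stabiliser of any non-zero even-dimensional subspace W (dimension 2, 4, 6 or 8) on which the polar form of Q is non-degenerate (equivalently of its odd-dimensional orthogonal complement), except when q = 3 and W is a 2-space containing a non-zero singular vector (a plus-type plane); (3) for q = p prime, the stabiliser of any decomposition of F^9 into nine pairwise orthogonal, pairwise Q-isometric non-degenerate 1-spaces; (4) for q ≥ 5, the stabiliser of any decomposition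 of F^9 into three pairwise orthogonal, pairwise Q-isometric non-degenerate 3-spaces; (5) the normaliser of any degree-3 subfield K of the matrix algebra whose elements are self-adjoint for the polar form of Q (Q is then the trace of a quadratic form over K); (6) every subfield group for a subfield F₀ with |F| = |F₀|^r, r prime, whose F₀-structure carries Q; (7) for q ≥ 5, the stabiliser of any decomposition of the polar form of Q as the tensor square of a non-degenerate symmetric bilinear form on F^3 up to a scalar (tensor-wreath subgroup). -/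
theorem result {F : Type*} [Field F] [Fintype F] (hodd : Odd (Fintype.card F)) :
    (∀ W : Submodule F (Unit ⊕ (Fin 4 ⊕ Fin 4) → F), W ≠ ⊥ → Cfsg.Geo.IsTotallySingularQuad (Cfsg.quadFormOdd 4 F) W → Cfsg.Geo.IsMaximalIn (Cfsg.Geo.omegaGL (Cfsg.quadFormOdd 4 F)) (Cfsg.Geo.subspaceStabilizer W ⊓ Cfsg.Geo.omegaGL (Cfsg.quadFormOdd 4 F))) ∧
    (∀ W : Submodule F (Unit ⊕ (Fin 4 ⊕ Fin 4) → F), W ≠ ⊥ → Even (Module.finrank F W) → Cfsg.Geo.IsNondegenerateOn (QuadraticMap.polar (Cfsg.quadFormOdd 4 F)) W → ¬ (Fintype.card F = 3 ∧ Module.finrank F W = 2 ∧ Cfsg.Geo.IsPlusTypeOn (Cfsg.quadFormOdd 4 F) W) → Cfsg.Geo.IsMaximalIn (Cfsg.Geo.omegaGL (Cfsg.quadFormOdd 4 F)) (Cfsg.Geo.subspaceStabilizer W ⊓ Cfsg.Geo.omegaGL (Cfsg.quadFormOdd 4 F))) ∧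
    ((Fintype.card F).Prime → ∀ D : Fin 9 → Submodule F (Unit ⊕ (Fin 4 ⊕ Fin 4) → F), Cfsg.Geo.IsOrthogonalMDecomposition (Cfsg.quadFormOdd 4 F) 1 D → Cfsg.Geo.IsMaximalIn (Cfsg.Geo.omegaGL (Cfsg.quadFormOdd 4 F)) (Cfsg.Geo.decompositionStabilizer D ⊓ Cfsg.Geo.omegaGL (Cfsg.quadFormOdd 4 F))) ∧
    (5 ≤ Fintype.card F → ∀ D : Fin 3 → Submodule F (Unit ⊕ (Fin 4 ⊕ Fin 4) → F), Cfsg.Geo.IsOrthogonalMDecomposition (Cfsg.quadFormOdd 4 F) 3 D → Cfsg.Geo.IsMaximalIn (Cfsg.Geo.omegaGL (Cfsg.quadFormOdd 4 F)) (Cfsg.Geo.decompositionStabilizer D ⊓ Cfsg.Geo.omegaGL (Cfsg.quadFormOdd 4 F))) ∧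
    (∀ K : Subalgebra F (Matrix (Unit ⊕ (Fin 4 ⊕ Fin 4)) (Unit ⊕ (Fin 4 ⊕ Fin 4)) F), Cfsg.Geo.IsFieldSubalgebra 3 K → Cfsg.Geo.IsSelfAdjointFor (QuadraticMap.polar (Cfsg.quadFormOdd 4 F)) K → Cfsg.Geo.IsMaximalIn (Cfsg.Geo.omegaGL (Cfsg.quadFormOdd 4 F)) (Cfsg.Geo.subalgebraNormalizer K ⊓ Cfsg.Geo.omegaGL (Cfsg.quadFormOdd 4 F))) ∧
    (∀ (F₀ : Subfield F) (r : ℕ) (P : Matrix.GeneralLinearGroup (Unit ⊕ (Fin 4 ⊕ Fin 4)) F), r.Prime → Fintype.card F = Nat.card F₀ ^ r → Cfsg.Geo.IsQuadFormRationalStructure (Cfsg.quadFormOdd 4 F) F₀ P → Cfsg.Geo.IsMaximalIn (Cfsg.Geo.omegaGL (Cfsg.quadFormOdd 4 F)) (Cfsg.Geo.subfieldSubgroup F₀ P ⊓ Cfsg.Geo.omegaGL (Cfsg.quadFormOdd 4 F))) ∧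
    (5 ≤ Fintype.card F → ∀ (e : (Unit ⊕ (Fin 4 ⊕ Fin 4)) ≃ (Fin 2 → Fin 3)) (P : Matrix.GeneralLinearGroup (Unit ⊕ (Fin 4 ⊕ Fin 4)) F) (f₁ : (Fin 3 → F) → (Fin 3 → F) → F), Cfsg.Geo.IsSymmetricForm f₁ → Cfsg.Geo.IsTensorPowerFormStructure id (QuadraticMap.polar (Cfsg.quadFormOdd 4 F)) f₁ e P → Cfsg.Geo.IsMaximalIn (Cfsg.Geo.omegaGL (Cfsg.quadFormOdd 4 F)) (Cfsg.Geo.tensorWreathSubgroup 3 2 e P ⊓ Cfsg.Geo.omegaGL (Cfsg.quadFormOdd 4 F))) := by
  have hcard : Fintype.card (Unit ⊕ (Fin 4 ⊕ Fin 4)) = 9 := by simp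
  have h2 : (2 : F) ≠ 0 := fun h => by
    have := CfsgLib.Aschbacher.two_eq_zero_iff.1 h
    exact this hodd
  have hQ := CfsgLib.Aschbacher.isNondegenerate_quadFormOdd (F := F) (m := 4) h2
  refine ⟨fun W h0 hW => CfsgLib.MaxSub.Orth.singular_maximal hQ (by rw [hcard]; norm_num) h0 hW
      (Or.inl (by rw [hcard]; omega)),
    fun W h0 he hW hex => CfsgLib.MaxSub.Orth.nondegenerate_maximal_odd hQ h2 (by rw [hcard]; norm_num)
      (by rw [hcard]; decide) h0 he hW (fun h => hex ⟨?_, h.2⟩),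
    fun hp D hD => ?_,
    fun hq D hD => ?_,
    fun K hK hsa => CfsgLib.MaxSub.ExtOrthMax.ext_orth_maximal_three hQ (by rw [hcard]; norm_num) hodd
      Nat.prime_three (by rw [hcard]) (fun _ => le_rfl) (fun h => by omega) hK hsa,
    fun F₀ r P hr hc hP => ?_,
    fun hq e P f₁ hf₁ hT =>
      CfsgLib.MaxSub.TensorOO.orth_tensor_square_maximal hodd hq hQ e P f₁ hf₁ hT⟩
  · have h1 : 1 < Fintype.card F := Fintype.one_lt_card
    obtain ⟨k, hk⟩ := hodd
    omega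
  all_goals obtain ⟨R, hRQ, hR⟩ := CfsgLib.MaxSub.Orth.exists_form hQ
  · rw [← hRQ] at hD ⊢
    exact CfsgLib.MaxSub.Frame.frame_maximal hR h2 hp (by rw [hcard]; norm_num)
      (Or.inr (by rw [hcard]; decide)) hD
  · rw [← hRQ] at hD ⊢
    exact CfsgLib.MaxSub.OrthBlocks.blocks_maximal hR (by rw [hcard]; norm_num) (by norm_num) hD
      (fun _ => hodd) (fun h => by omega) (fun h => by omega) (fun h => by omega) (fun h => by omega)
  · rw [← hRQ] at hP ⊢
    exact CfsgLib.MaxSub.SubfieldOrth.orth_subfield_maximal (ζ := 1)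
      ⟨by simp, one_ne_zero, hR, fun u hu => by
        simpa using hP u hu⟩ hr hc

end Cfsg.Agent.S5834
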