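import Cfsg.Statements.S5835
import Cfsg.Agent.Lib.Aschbacher.OrthGeneral
import Cfsg.Agent.Lib.Aschbacher.OrthMaximal
import Cfsg.Agent.Lib.Aschbacher.OrthProperGeneral

set_option autoImplicit false
open Cfsg

namespace Cfsg.Agent.S5835

open CfsgLib.Aschbacher

/-- Every maximal subgroup of Ω_9(q), q odd, is of one of the listed geometric types or lies in the residual class. Let F be a finite field of odd order q, Q the standard quadratic form x₀² + Σ x_i y_i on F^9 (coordinates Unit ⊕ (Fin 4 ⊕ Fin 4)), Ω the commutator subgroup of its isometry group, and H a maximal subgroup of Ω (inside GL_9(F)). Then H is the intersection with Ω of one of: the stabiliser of a non-zero totally singular subspace; the stabiliser of a non-zero non-degenerate subspace of even dimension (not a plus-type plane when q = 3); for q prime, the stabiliser of a decomposition into nine pairwise orthogonal, pairwise isometric non-degenerate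 1-spaces; for q ≥ 5, the stabiliser of a decomposition into three pairwise orthogonal, pairwise isometric non-degenerate 3-spaces; the normaliser of a degree-3 subfield of the matrix algebra, self-adjoint for the polar form; a subfield group (|F| = |F₀|^r, r prime) whose F₀-structure carries Q; for q ≥ 5, the stabiliser of a tensor decomposition of the polar form as a tensor square of a symmetric form on F^3 — or else H lies in the residual class of the orthogonal case (modulo scalars H is almost simple, with absolutely irreducible perfect socle preimage realisable over no proper subfield and fixing no non-degenerate unitary form). -/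
theorem result {F : Type*} [Field F] [Fintype F] (hodd : Odd (Fintype.card F)) (H : Subgroup (Matrix.GeneralLinearGroup (Unit ⊕ (Fin 4 ⊕ Fin 4)) F)) (hH : Cfsg.Geo.IsMaximalIn (Cfsg.Geo.omegaGL (Cfsg.quadFormOdd 4 F)) H) :
    (∃ W : Submodule F (Unit ⊕ (Fin 4 ⊕ Fin 4) → F), W ≠ ⊥ ∧ Cfsg.Geo.IsTotallySingularQuad (Cfsg.quadFormOdd 4 F) W ∧ H = Cfsg.Geo.subspaceStabilizer W ⊓ Cfsg.Geo.omegaGL (Cfsg.quadFormOdd 4 F)) ∨
    (∃ W : Submodule F (Unit ⊕ (Fin 4 ⊕ Fin 4) → F), W ≠ ⊥ ∧ Even (Module.finrank F W) ∧ Cfsg.Geo.IsNondegenerateOn (QuadraticMap.polar (Cfsg.quadFormOdd 4 F)) W ∧ ¬ (Fintype.card F = 3 ∧ Module.finrank F W = 2 ∧ Cfsg.Geo.IsPlusTypeOn (Cfsg.quadFormOdd 4 F) W) ∧ H = Cfsg.Geo.subspaceStabilizer W ⊓ Cfsg.Geo.omegaGL (Cfsg.quadFormOdd 4 F)) ∨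
    ((Fintype.card F).Prime ∧ ∃ D : Fin 9 → Submodule F (Unit ⊕ (Fin 4 ⊕ Fin 4) → F), Cfsg.Geo.IsOrthogonalMDecomposition (Cfsg.quadFormOdd 4 F) 1 D ∧ H = Cfsg.Geo.decompositionStabilizer D ⊓ Cfsg.Geo.omegaGL (Cfsg.quadFormOdd 4 F)) ∨
    (5 ≤ Fintype.card F ∧ ∃ D : Fin 3 → Submodule F (Unit ⊕ (Fin 4 ⊕ Fin 4) → F), Cfsg.Geo.IsOrthogonalMDecomposition (Cfsg.quadFormOdd 4 F) 3 D ∧ H = Cfsg.Geo.decompositionStabilizer D ⊓ Cfsg.Geo.omegaGL (Cfsg.quadFormOdd 4 F)) ∨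
    (∃ K : Subalgebra F (Matrix (Unit ⊕ (Fin 4 ⊕ Fin 4)) (Unit ⊕ (Fin 4 ⊕ Fin 4)) F), Cfsg.Geo.IsFieldSubalgebra 3 K ∧ Cfsg.Geo.IsSelfAdjointFor (QuadraticMap.polar (Cfsg.quadFormOdd 4 F)) K ∧ H = Cfsg.Geo.subalgebraNormalizer K ⊓ Cfsg.Geo.omegaGL (Cfsg.quadFormOdd 4 F)) ∨
    (∃ (F₀ : Subfield F) (r : ℕ) (P : Matrix.GeneralLinearGroup (Unit ⊕ (Fin 4 ⊕ Fin 4)) F), r.Prime ∧ Fintype.card F = Nat.card F₀ ^ r ∧ Cfsg.Geo.IsQuadFormRationalStructure (Cfsg.quadFormOdd 4 F) F₀ P ∧ H = Cfsg.Geo.subfieldSubgroup F₀ P ⊓ Cfsg.Geo.omegaGL (Cfsg.quadFormOdd 4 F)) ∨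
    (5 ≤ Fintype.card F ∧ ∃ (e : (Unit ⊕ (Fin 4 ⊕ Fin 4)) ≃ (Fin 2 → Fin 3)) (P : Matrix.GeneralLinearGroup (Unit ⊕ (Fin 4 ⊕ Fin 4)) F) (f₁ : (Fin 3 → F) → (Fin 3 → F) → F), Cfsg.Geo.IsSymmetricForm f₁ ∧ Cfsg.Geo.IsTensorPowerFormStructure id (QuadraticMap.polar (Cfsg.quadFormOdd 4 F)) f₁ e P ∧ H = Cfsg.Geo.tensorWreathSubgroup 3 2 e P ⊓ Cfsg.Geo.omegaGL (Cfsg.quadFormOdd 4 F)) ∨
    Cfsg.Geo.InOrthogonalResidualClass H := by
  have h2 : (2 : F) ≠ 0 := by
    intro h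
    haveI : CharP F 2 := (CharP.charP_iff_prime_eq_zero Nat.prime_two).2 (by exact_mod_cast h)
    exact Nat.not_even_iff_odd.2 hodd (Nat.even_iff.2
      (FiniteField.even_card_of_char_two (ringChar.eq F 2)))
  have hQ := isNondegenerate_quadFormOdd (F := F) (m := 4) h2
  have hgood := hasGoodVectors_quadFormOdd (F := F) (m := 4) (by omega) h2
  have hcard : Fintype.card (Unit ⊕ (Fin 4 ⊕ Fin 4)) = 9 := by simp
  have hq5 : Fintype.card F ≠ 3 → 5 ≤ Fintype.card F := fun h => by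
    obtain ⟨j, hj⟩ := hodd
    have := Fintype.one_lt_card (α := F)
    omega
  rcases orth_odd_aschbacher hQ gram_quadFormOdd_mem hodd (hcard ▸ by decide) (by omega)
      (hH.1.le.trans (omegaGL_le_isometry _)) with
    (⟨W, h0, h1, hts, hle⟩ | ⟨W, h0, h1, he, hnd, hex, hle⟩ | ⟨t, k, D, hk, hex, hD, hle⟩ |
    ⟨t, D, hq, hD, hle⟩ | ⟨r, K, hr, hdvd, -, hK, hsa, hle⟩ |
    ⟨a, b, e, P, f₁, f₂, ha, hab, -, -, -, -⟩ | ⟨F₀, r, P, hr, hc, hP, hle⟩ |
    ⟨k, t, e, P, f₁, hk, ht, hex, hf₁, hs, hle⟩) | hres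
  · exact Or.inl ⟨W, h0, hts,
      eq_inf_of_maximal hH hle (not_omega_le_subspaceStabilizer hQ h2 hgood h0 h1)⟩
  · exact Or.inr (Or.inl ⟨W, h0, he, hnd, hex,
      eq_inf_of_maximal hH hle (not_omega_le_subspaceStabilizer hQ h2 hgood h0 h1)⟩)
  · have h9 : t * k = 9 := hcard ▸ mDecomposition_mul_eq hD.decomp.decomp
    have := hD.decomp.decomp.two_le
    have : t ≤ 9 := Nat.le_of_dvd (by norm_num) ⟨k, h9.symm⟩
    obtain ⟨rfl, rfl⟩ : t = 3 ∧ k = 3 := by interval_cases t <;> omega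
    exact Or.inr (Or.inr (Or.inr (Or.inl ⟨hq5 fun h => hex ⟨h, rfl⟩, D, hD,
      eq_inf_of_maximal hH hle (not_omega_le_blockStabilizer hQ h2 hgood le_rfl hD.decomp.decomp)⟩)))
  · obtain rfl : t = 9 := by
      have := mDecomposition_mul_eq hD.decomp.decomp
      omega
    exact Or.inr (Or.inr (Or.inl ⟨hq, D, hD,
      eq_inf_of_maximal hH hle (not_omega_le_decompositionStabilizer hQ h2 hgood hD.decomp)⟩))
  · obtain rfl : r = 3 := (Nat.prime_dvd_prime_iff_eq hr Nat.prime_three).1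
      (hr.dvd_of_dvd_pow (by simpa [hcard] using hdvd : r ∣ 3 ^ 2))
    exact Or.inr (Or.inr (Or.inr (Or.inr (Or.inl ⟨K, hK, hsa,
      eq_inf_of_maximal hH hle (not_omega_le_subalgebraNormalizer hQ h2 hgood (by omega) hK le_rfl)⟩))))
  · have h9 : a * b = 9 := by simpa [hcard] using (Fintype.card_congr e).symm
    nlinarith
  · exact Or.inr (Or.inr (Or.inr (Or.inr (Or.inr (Or.inl ⟨F₀, r, P, hr, hc, hP,
      eq_inf_of_maximal hH hle (not_omega_le_subfieldSubgroup hQ h2 hgood hr hc P)⟩)))))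
  · have h9 : k ^ t = 9 := by simpa [hcard] using (Fintype.card_congr e).symm
    obtain ⟨rfl, rfl⟩ : k = 3 ∧ t = 2 := by
      have h1 : k ^ 2 ≤ 9 := h9 ▸ Nat.pow_le_pow_right (by omega) ht
      obtain rfl : k = 3 := by nlinarith
      exact ⟨rfl, Nat.pow_right_injective (by norm_num) (show 3 ^ t = 3 ^ 2 from h9)⟩
    exact Or.inr (Or.inr (Or.inr (Or.inr (Or.inr (Or.inr (Or.inl ⟨hq5 fun h => hex ⟨h, rfl⟩, e, P,
      f₁, hf₁, hs,
      eq_inf_of_maximal hH hle (not_omega_le_tensorWreathSubgroup hQ h2 hgood le_rfl e P)⟩))))))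
  · exact Or.inr (Or.inr (Or.inr (Or.inr (Or.inr (Or.inr (Or.inr hres))))))

end Cfsg.Agent.S5835
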