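import Cfsg.Statements.S5847
import Cfsg.Agent.Lib.Aschbacher.OrthEven.PlusBlocks
import Cfsg.Agent.Lib.MaxSub.NotMaximalOrthBlocks
import Cfsg.Agent.Lib.MaxSub.NotMaximalOrth

set_option autoImplicit false
open Cfsg

namespace Cfsg.Agent.S5847

open CfsgLib.Aschbacher CfsgLib.Aschbacher.OrthEven Module in
/-- Every maximal subgroup of Ω_10^+(q) is of one of the listed geometric types or lies in the residual class. Let F be a finite field with q elements (characteristic p), Q a non-degenerate quadratic form on F^10 of plus type (Witt index 5: some totally singular 5-space), Ω the commutator subgroup of its isometry group, and H a maximal subgroup of Ω (inside GL_10(F)). Then H is the intersection with Ω of one of: the stabiliser of a non-zero totally singular subspace of dimension ≠ 4; for q odd, the stabiliser of a non-degenerate subspace of odd dimension ≠ 5; the stabiliser of a non-degenerate 2-space of minus type; for q ≥ 4, the stabiliser of a non-degenerate 2-space of plus type; the stabiliser of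 a non-degenerate 4-space; for q even, the stabiliser of the span of a non-singular vector; for q = p prime with p ≡ 1 mod 4, the stabiliser of a decomposition into 10 pairwise orthogonal, pairwise isometric non-degenerate 1-spaces; for q ≥ 7, the stabiliser of a decomposition into 5 pairwise orthogonal, pairwise isometric non-degenerate 2-spaces; for q ≡ 1 mod 4, the stabiliser of a decomposition into 2 pairwise orthogonal, pairwise isometric non-degenerate 5-spaces; for q ≡ 3 mod 4, the stabiliser of a decomposition into two orthogonal, non-isometric non-degenerate 5-spaces; for q odd, the normaliser of a degree-2 subfield of the matrix algebra, self-adjoint for the polar form; a subfield group (|F| = |F₀|^r, r prime) whose F₀-structure carries a non-zero multiple of Q — or else H lies in the residual class of the orthogonal case (modulo scalars H is almost simple, with absolutely irreducible perfect socle preimage realisable over no proper subfield and fixing no non-degenerate unitary form). -/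
theorem result {F : Type*} [Field F] [Fintype F] (Q : (Fin 10 → F) → F) (hQ : Cfsg.Geo.IsNondegenerateQuadraticForm Q) (hplus : Cfsg.Geo.IsPlusTypeOn Q ⊤) (H : Subgroup (Matrix.GeneralLinearGroup (Fin 10) F)) (hH : Cfsg.Geo.IsMaximalIn (Cfsg.Geo.omegaGL Q) H) :
    (∃ W : Submodule F (Fin 10 → F), W ≠ ⊥ ∧ Cfsg.Geo.IsTotallySingularQuad Q W ∧ Module.finrank F W ≠ 4 ∧ H = Cfsg.Geo.subspaceStabilizer W ⊓ Cfsg.Geo.omegaGL Q) ∨
    (Odd (Fintype.card F) ∧ ∃ W : Submodule F (Fin 10 → F), W ≠ ⊥ ∧ W ≠ ⊤ ∧ Odd (Module.finrank F W) ∧ 2 * Module.finrank F W ≠ 10 ∧ Cfsg.Geo.IsNondegenerateOn (QuadraticMap.polar Q) W ∧ H = Cfsg.Geo.subspaceStabilizer W ⊓ Cfsg.Geo.omegaGL Q) ∨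
    (∃ W : Submodule F (Fin 10 → F), Module.finrank F W = 2 ∧ Cfsg.Geo.IsNondegenerateOn (QuadraticMap.polar Q) W ∧ ¬ Cfsg.Geo.IsPlusTypeOn Q W ∧ H = Cfsg.Geo.subspaceStabilizer W ⊓ Cfsg.Geo.omegaGL Q) ∨
    (4 ≤ Fintype.card F ∧ ∃ W : Submodule F (Fin 10 → F), Module.finrank F W = 2 ∧ Cfsg.Geo.IsNondegenerateOn (QuadraticMap.polar Q) W ∧ Cfsg.Geo.IsPlusTypeOn Q W ∧ H = Cfsg.Geo.subspaceStabilizer W ⊓ Cfsg.Geo.omegaGL Q) ∨
    (∃ W : Submodule F (Fin 10 → F), Module.finrank F W = 4 ∧ Cfsg.Geo.IsNondegenerateOn (QuadraticMap.polar Q) W ∧ H = Cfsg.Geo.subspaceStabilizer W ⊓ Cfsg.Geo.omegaGL Q) ∨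
    (¬ Odd (Fintype.card F) ∧ ∃ v : (Fin 10 → F), Q v ≠ 0 ∧ H = Cfsg.Geo.subspaceStabilizer (Submodule.span F {v}) ⊓ Cfsg.Geo.omegaGL Q) ∨
    ((∃ p : ℕ, p.Prime ∧ Fintype.card F = p ∧ (p % 4 = 1)) ∧ ∃ D : Fin 10 → Submodule F (Fin 10 → F), Cfsg.Geo.IsOrthogonalMDecomposition Q 1 D ∧ H = Cfsg.Geo.decompositionStabilizer D ⊓ Cfsg.Geo.omegaGL Q) ∨
    (7 ≤ Fintype.card F ∧ ∃ D : Fin 5 → Submodule F (Fin 10 → F), Cfsg.Geo.IsOrthogonalMDecomposition Q 2 D ∧ H = Cfsg.Geo.decompositionStabilizer D ⊓ Cfsg.Geo.omegaGL Q) ∨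
    (Fintype.card F % 4 = 1 ∧ ∃ D : Fin 2 → Submodule F (Fin 10 → F), Cfsg.Geo.IsOrthogonalMDecomposition Q 5 D ∧ H = Cfsg.Geo.decompositionStabilizer D ⊓ Cfsg.Geo.omegaGL Q) ∨
    (Fintype.card F % 4 = 3 ∧ ∃ D : Fin 2 → Submodule F (Fin 10 → F), Cfsg.Geo.IsNondegenerateMDecomposition (QuadraticMap.polar Q) 5 D ∧ ¬ Cfsg.Geo.AreIsometricFor Q (D 0) (D 1) ∧ H = Cfsg.Geo.decompositionStabilizer D ⊓ Cfsg.Geo.omegaGL Q) ∨
    (Odd (Fintype.card F) ∧ ∃ K : Subalgebra F (Matrix (Fin 10) (Fin 10) F), Cfsg.Geo.IsFieldSubalgebra 2 K ∧ Cfsg.Geo.IsSelfAdjointFor (QuadraticMap.polar Q) K ∧ H = Cfsg.Geo.subalgebraNormalizer K ⊓ Cfsg.Geo.omegaGL Q) ∨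
    (∃ (F₀ : Subfield F) (r : ℕ) (P : Matrix.GeneralLinearGroup (Fin 10) F) (ζ : F), r.Prime ∧ Fintype.card F = Nat.card F₀ ^ r ∧ ζ ≠ 0 ∧ Cfsg.Geo.IsQuadFormRationalStructure (fun v : Fin 10 → F => ζ * Q v) F₀ P ∧ H = Cfsg.Geo.subfieldSubgroup F₀ P ⊓ Cfsg.Geo.omegaGL Q) ∨
    Cfsg.Geo.InOrthogonalResidualClass H := by
  have hn : 5 ≤ Fintype.card (Fin 10) := by simp
  have hHI : H ≤ Cfsg.isometryGroup F Q :=
    hH.1.le.trans (omega_le Q)
  rcases orth_even_aschbacher hQ (by simp) (by decide) hHI with hgeo | hres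
  swap
  · iterate 12 right
    exact hres
  have hgeo' : InOrthEvenOver Q H := hgeo
  rcases hgeo' with ⟨W, h0, h1, hts, hle⟩ | ⟨W, h0, h1, hnd, hd, hle⟩ | ⟨h2, v, hv, hle⟩ |
    ⟨t, k, D, hD, hle⟩ | ⟨k, D, hk, hD, hts, hle⟩ | ⟨r, K, hr, hrn, hK, hsa, halt, hle⟩ |
    ⟨K, hK, hac, hnsa, hsim, hle⟩ | ⟨a, b, e, P, f₁, f₂, ha, hab, -, hf₂, -, hpure, hle⟩ |
    ⟨a, b, e, P, f₁, f₂, -, ha, hab, -⟩ | ⟨k, t, hk, ht, hcard, hp⟩ | ⟨-, ⟨j, hj⟩, -⟩ |
    ⟨F₀, r, P, ζ, hr, hc, hζ, hP, hle⟩
  · by_cases hd4 : finrank F W = 4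
    · exact (not_maximal_of_between hH hle (CfsgLib.MaxSub.Orth.singular_not_maximal hQ hn hplus
        hts (by simp [hd4]))).elim
    · left
      exact ⟨W, h0, hts, hd4, eq_inf_of_maximal hH hle (not_le_subspaceStabilizer hQ hn h0 h1)⟩
  · have heq := eq_inf_of_maximal hH hle (not_le_subspaceStabilizer hQ hn h0 h1)
    have hpos : 0 < finrank F W := Nat.pos_of_ne_zero fun h => h0 (Submodule.finrank_eq_zero.1 h)
    rw [Fintype.card_fin] at hd
    have : finrank F W = 1 ∨ finrank F W = 2 ∨ finrank F W = 3 ∨ finrank F W = 4 ∨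
        finrank F W = 5 := by omega
    rcases this with h | h | h | h | h
    · iterate 1 right
      left
      exact ⟨odd_card_of_odd_dim hQ hnd (by rw [h]; decide), W, h0, h1, by rw [h]; decide, by omega, hnd, heq⟩
    · by_cases hp : Cfsg.Geo.IsPlusTypeOn Q W
      · by_cases hq : 4 ≤ Fintype.card F
        · iterate 3 right
          left
          exact ⟨hq, W, h, hnd, hp, heq⟩
        · exact (not_maximal_of_between hH hle
            (CfsgLib.MaxSub.Orth.plus_plane_not_maximal hQ (by simp) (by omega) h hnd hp)).elim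
      · iterate 2 right
        left
        exact ⟨W, h, hnd, hp, heq⟩
    · iterate 1 right
      left
      exact ⟨odd_card_of_odd_dim hQ hnd (by rw [h]; decide), W, h0, h1, by rw [h]; decide, by omega, hnd, heq⟩
    · iterate 4 right
      left
      exact ⟨W, h, hnd, heq⟩
    · have hodd := odd_card_of_odd_dim hQ hnd (by rw [h]; decide)
      have h2 : (2 : F) ≠ 0 := fun h2 => not_odd_of_two_eq_zero h2 hodd
      obtain ⟨D, hD, hsub⟩ := compl_decomp hQ (by simp) (by norm_num) hnd h
      have heq' := eq_inf_of_maximal hH ((le_inf hle hHI).trans hsub)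
        (not_le_blockStabilizer hQ hn (by norm_num) hD.decomp)
      rcases isometric_halves_plus hQ h2 (by decide) hD hplus with ⟨hq, hiso⟩ | ⟨hq, hiso⟩
      · iterate 8 right
        left
        exact ⟨hq, D, ⟨hD, hiso⟩, heq'⟩
      · iterate 9 right
        left
        exact ⟨hq, D, hD, hiso, heq'⟩
  · iterate 5 right
    left
    refine ⟨not_odd_of_two_eq_zero h2, v, hv, eq_inf_of_maximal hH hle ?_⟩
    refine not_le_subspaceStabilizer hQ hn ?_ ?_
    · rw [Submodule.span_singleton_eq_bot.ne]
      exact fun h => hv (by rw [h]; exact quad_map_zero hQ)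
    · intro h
      have := finrank_span_le_card (R := F) ({v} : Set (Fin 10 → F))
      rw [h] at this
      simp at this
  · have hm := CfsgLib.Aschbacher.mDecomposition_mul_eq hD.decomp.decomp
    rw [Fintype.card_fin] at hm
    have ht2 := hD.decomp.decomp.two_le
    have htdvd : t ∣ 10 := ⟨k, hm.symm⟩
    have : t = 2 ∨ t = 5 ∨ t = 10 := by
      have : t ≤ 10 := Nat.le_of_dvd (by norm_num) htdvd
      interval_cases t <;> omega
    rcases this with rfl | rfl | rfl
    · obtain rfl : k = 5 := by omega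
      have hodd := odd_card_of_odd_dim hQ (hD.decomp.nondegenerate 0)
        (by rw [hD.decomp.decomp.finrank_eq]; decide)
      have h2 : (2 : F) ≠ 0 := fun h2 => not_odd_of_two_eq_zero h2 hodd
      rcases isometric_halves_plus hQ h2 (by decide) hD.decomp hplus with ⟨hq, -⟩ | ⟨-, hiso⟩
      · iterate 8 right
        left
        exact ⟨hq, D, hD, eq_inf_of_maximal hH hle
          (not_le_blockStabilizer hQ hn (by norm_num) hD.decomp.decomp)⟩
      · exact absurd (hD.isometric 0 1) hiso
    · obtain rfl : k = 2 := by omega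
      by_cases hq : 7 ≤ Fintype.card F
      · iterate 7 right
        left
        exact ⟨hq, D, hD, eq_inf_of_maximal hH hle
          (not_le_orthBlocks hQ hn (by norm_num) le_rfl hD.decomp)⟩
      · have hcases : Fintype.card F = 2 ∨ Fintype.card F = 3 ∨ Fintype.card F = 4 ∨
            Fintype.card F = 5 := by
          have h1 := Fintype.one_lt_card (α := F)
          have h6 : Fintype.card F ≠ 6 := fun h6 => by
            obtain ⟨p, hchar⟩ := CharP.exists F
            obtain ⟨f, hpp, hpf⟩ := FiniteField.card F p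
            rw [h6] at hpf
            have h2 := (Nat.prime_dvd_prime_iff_eq Nat.prime_two hpp).1
              (Nat.prime_two.dvd_of_dvd_pow (n := f) (hpf ▸ ⟨3, rfl⟩))
            have h3 := (Nat.prime_dvd_prime_iff_eq Nat.prime_three hpp).1
              (Nat.prime_three.dvd_of_dvd_pow (n := f) (hpf ▸ ⟨2, rfl⟩))
            omega
          omega
        refine (not_maximal_of_between hH hle ?_).elim
        obtain ⟨R, rfl, hR⟩ := CfsgLib.MaxSub.Orth.exists_form hQ
        by_cases hq3 : Fintype.card F = 3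
        · exact CfsgLib.MaxSub.Orth.two_three hR (by simp) hq3 hD
        · obtain ⟨c, hc⟩ := (FiniteField.isSquare_neg_one_iff (F := F)).2 (by omega)
          have hpl := plus_blocks_of_sqrt hQ (s := 2) hD (c := c) hc.symm hplus
          by_cases hq5 : Fintype.card F = 5
          · exact CfsgLib.MaxSub.Orth.two_five hR (by simp) hq5 hD hpl
          · exact CfsgLib.MaxSub.Orth.two_even hR (by simp) (by omega) hD hpl
    · obtain rfl : k = 1 := by omega
      have hodd := odd_card_of_odd_dim hQ (hD.decomp.nondegenerate 0)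
        (by rw [hD.decomp.decomp.finrank_eq]; decide)
      have h2 : (2 : F) ≠ 0 := fun h2 => not_odd_of_two_eq_zero h2 hodd
      have hq4 : Fintype.card F % 4 = 1 := by
        have hsq := (plus_iff_blocks hQ h2 hD (m := 5) (by norm_num) 0
          (Module.finBasisOfFinrankEq F _ (hD.decomp.decomp.finrank_eq 0))).1 hplus
        rw [Odd.neg_one_pow (by decide : Odd 5)] at hsq
        set d := (Matrix.of fun a c => QuadraticMap.polar Q
          (Module.finBasisOfFinrankEq F _ (hD.decomp.decomp.finrank_eq 0) a : Fin 10 → F)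
          (Module.finBasisOfFinrankEq F _ (hD.decomp.decomp.finrank_eq 0) c)).det
        have hd : d ≠ 0 := blockGram_det_ne_zero hQ (hD.decomp.nondegenerate 0) _
        have hneg : IsSquare (-1 : F) :=
          ((CfsgLib.FiniteForms.isSquare_mul_iff (neg_ne_zero.2 (one_ne_zero' F))
            (pow_ne_zero _ hd)).1 hsq).2 ⟨_, pow_add _ 5 5⟩
        have h1 := FiniteField.isSquare_neg_one_iff.1 hneg
        have h3 := Nat.odd_iff.1 hodd
        omega
      by_cases hp : (Fintype.card F).Prime
      · iterate 6 right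
        left
        exact ⟨⟨_, hp, rfl, hq4⟩, D, hD, eq_inf_of_maximal hH hle
          (CfsgLib.Aschbacher.not_omega_le_decompositionStabilizer hQ h2 (hasGoodVectors hQ hn)
            hD.decomp)⟩
      · obtain ⟨p, hchar⟩ := CharP.exists F
        haveI : Fact p.Prime := ⟨CharP.char_is_prime F p⟩
        obtain ⟨F₁, r, -, hr, hc⟩ := exists_subfield_prime (F₀ := (⊥ : Subfield F)) fun hbot => hp (by
          have hcb := Subfield.card_bot F p
          rw [hbot, Nat.card_congr Subfield.topEquiv.toEquiv, Nat.card_eq_fintype_card] at hcb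
          rw [hcb]
          exact Fact.out)
        obtain ⟨P, ζ, hζ, hP, hle'⟩ := frame_subfield hQ h2 (F₀ := F₁) hD hHI hle
        iterate 11 right
        left
        exact ⟨F₁, r, P, ζ, hr, hc, hζ, hP,
          eq_inf_of_maximal hH hle' (not_le_subfieldSubgroup hQ hn hr hc P)⟩
  · obtain rfl : k = 5 := by rw [Fintype.card_fin] at hk; omega
    exact (not_maximal_of_between hH hle
      (CfsgLib.MaxSub.Orth.singular_pair_not_maximal hQ hn hk (by decide) hD hts)).elim
  · rcases (show r = 2 ∨ r = 5 by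
      have h10 : r ∣ 2 * 5 := by simpa using hrn
      rcases hr.dvd_mul.1 h10 with h | h
      · exact Or.inl ((Nat.prime_dvd_prime_iff_eq hr Nat.prime_two).1 h)
      · exact Or.inr ((Nat.prime_dvd_prime_iff_eq hr (by norm_num)).1 h)) with rfl | rfl
    · have h2 : (2 : F) ≠ 0 := fun h2 => by
        have := dvd_half_of_selfAdjoint hQ (m := 5) (by simp) hK hsa (halt h2)
        norm_num at this
      iterate 10 right
      left
      exact ⟨odd_of_two_ne_zero h2, K, hK, hsa,
        eq_inf_of_maximal hH hle (not_le_subalgebraNormalizer hQ hn hK le_rfl)⟩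
    · exfalso
      rcases unitary_or_pair_of_half_field hQ hHI (by decide) (by simp) hK hsa halt hle with
        ⟨L, hL, -, -, hsim, -⟩ | ⟨k, D, hk, hD, hts, hleD⟩
      · exact absurd (even_half_of_similarities hQ (m := 5) (by simp) hplus hL hsim) (by decide)
      · obtain rfl : k = 5 := by rw [Fintype.card_fin] at hk; omega
        exact not_maximal_of_between hH hleD
          (CfsgLib.MaxSub.Orth.singular_pair_not_maximal hQ hn hk (by decide) hD hts)
  · exact absurd (even_half_of_similarities hQ (m := 5) (by simp) hplus hK hsim) (by decide)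
  · exfalso
    have hc : a * b = 10 := by simpa using (Fintype.card_congr e).symm
    obtain rfl : a = 2 := by
      have : a ≤ 3 := by nlinarith
      interval_cases a <;> omega
    obtain ⟨j, hj⟩ := even_finrank_of_alternating hf₂.bilinear hf₂.alternating b ⊤
      (by simp) (fun w _ hw => by
        obtain ⟨-, x, hx⟩ := hf₂.nondegenerate w hw
        exact ⟨x, trivial, hx⟩)
    omega
  · have hc : a * b = 10 := by simpa using (Fintype.card_congr e).symm
    have : a ≤ 3 := by nlinarith
    interval_cases a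
    omega
  · exfalso
    rw [Fintype.card_fin] at hcard
    have : t ≤ 3 := by
      by_contra h
      have : 2 ^ 4 ≤ k ^ t := (Nat.pow_le_pow_left hk 4).trans (Nat.pow_le_pow_right (by omega) (by omega))
      omega
    interval_cases t
    · have : k ≤ 3 := by nlinarith
      interval_cases k <;> norm_num at hcard
    · have : k ≤ 2 := by
        by_contra h
        have : 3 ^ 3 ≤ k ^ 3 := Nat.pow_le_pow_left (by omega) 3
        omega
      interval_cases k
      norm_num at hcard
  · exfalso
    rw [Fintype.card_fin] at hj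
    have : j ≤ 3 := by
      by_contra h
      have : 2 ^ 4 ≤ 2 ^ j := Nat.pow_le_pow_right (by norm_num) (by omega)
      omega
    interval_cases j <;> norm_num at hj
  · iterate 11 right
    left
    exact ⟨F₀, r, P, ζ, hr, hc, hζ, hP,
      eq_inf_of_maximal hH hle (not_le_subfieldSubgroup hQ hn hr hc P)⟩

end Cfsg.Agent.S5847
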