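import Cfsg.Statements.S5849
import Cfsg.Agent.Lib.MaxSub.SubspaceMaximalOrthGL
import Cfsg.Agent.Lib.MaxSub.ExtOrthMax.Main
import Cfsg.Agent.Lib.MaxSub.SubfieldMaximalOrth
import Cfsg.Agent.Lib.MaxSub.OrthBlocks.Halves
import Cfsg.Agent.Lib.MaxSub.Frame.Main
import Cfsg.Agent.Lib.MaxSub.ExtFieldMaximalGUOrth
import Cfsg.Agent.Lib.MaxSub.PairMaximalOrth
import Cfsg.Agent.Lib.MaxSub.TensorSymp.Main
import Cfsg.Agent.Lib.Aschbacher.OrthEven.SymTensor

set_option autoImplicit false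
open Cfsg

namespace Cfsg.Agent.S5849

/-- Maximal subgroups of Ω_10^-(q) of geometric type (any q). Let F be a finite field with q elements (characteristic p), Q a non-degenerate quadratic form on F^10 (non-degenerate polar form) of minus type (Witt index 4: no totally singular 5-space), and Ω = Ω_10^-(q) the commutator subgroup of the isometry group of Q, inside GL_10(F). Each of the following, intersected with Ω, is a maximal subgroup of Ω: (1) the stabiliser of any non-zero subspace on which Q vanishes identically (totally singular subspaces, dimensions 1 to 4); (2) for q odd, the stabiliser of any proper subspace of odd dimension other than 5 on which the polar form of Q is non-degenerate; (3) the stabiliser of any non-degenerate 2-space of minus type (containing no non-zero singular vector); (4) for q ≥ 4, the stabiliser of any non-degenerate 2-space of plus type (containing a non-zero singular vector); (5) the stabiliser of any non-degenerate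 4-space (either type); (6) for q even, the stabiliser of the 1-space spanned by any non-singular vector v (Q(v) ≠ 0); (7) for q = p prime with p ≡ 3 mod 4, the stabiliser of any decomposition of F^10 into 10 pairwise orthogonal, pairwise Q-isometric non-degenerate 1-spaces; (8) for q ≠ 3, the stabiliser of any decomposition of F^10 into 5 pairwise orthogonal, pairwise Q-isometric non-degenerate 2-spaces; (9) for q ≡ 3 mod 4, the stabiliser of any decomposition of F^10 into 2 pairwise orthogonal, pairwise Q-isometric non-degenerate 5-spaces; (10) for q ≡ 1 mod 4, the stabiliser of any decomposition of F^10 into two orthogonal non-degenerate 5-spaces that are not Q-isometric; (11) for q odd, the normaliser of any degree-2 subfield K of the matrix algebra whose elements are self-adjoint for the polar form of Q (Q is then the trace of a quadratic form over K); (12) the normaliser of any degree-2 subfield K of the matrix algebra, closed under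 adjoints for the polar form but not self-adjoint, whose elements act as similarities of Q (so F^10 becomes a 5-dimensional space over K with a hermitian form, and the subgroup is of the type of the unitary group GU_5(q)); (13) every subfield group for a subfield F₀ with |F| = |F₀|^r, r an odd prime, whose F₀-structure carries a non-zero scalar multiple of Q. -/
theorem result {F : Type*} [Field F] [Fintype F] (Q : (Fin 10 → F) → F) (hQ : Cfsg.Geo.IsNondegenerateQuadraticForm Q) (hminus : ¬ Cfsg.Geo.IsPlusTypeOn Q ⊤) :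
    (∀ W : Submodule F (Fin 10 → F), W ≠ ⊥ → Cfsg.Geo.IsTotallySingularQuad Q W → Cfsg.Geo.IsMaximalIn (Cfsg.Geo.omegaGL Q) (Cfsg.Geo.subspaceStabilizer W ⊓ Cfsg.Geo.omegaGL Q)) ∧
    (Odd (Fintype.card F) → ∀ W : Submodule F (Fin 10 → F), W ≠ ⊥ → W ≠ ⊤ → Odd (Module.finrank F W) → 2 * Module.finrank F W ≠ 10 → Cfsg.Geo.IsNondegenerateOn (QuadraticMap.polar Q) W → Cfsg.Geo.IsMaximalIn (Cfsg.Geo.omegaGL Q) (Cfsg.Geo.subspaceStabilizer W ⊓ Cfsg.Geo.omegaGL Q)) ∧
    (∀ W : Submodule F (Fin 10 → F), Module.finrank F W = 2 → Cfsg.Geo.IsNondegenerateOn (QuadraticMap.polar Q) W → ¬ Cfsg.Geo.IsPlusTypeOn Q W → Cfsg.Geo.IsMaximalIn (Cfsg.Geo.omegaGL Q) (Cfsg.Geo.subspaceStabilizer W ⊓ Cfsg.Geo.omegaGL Q)) ∧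
    (4 ≤ Fintype.card F → ∀ W : Submodule F (Fin 10 → F), Module.finrank F W = 2 → Cfsg.Geo.IsNondegenerateOn (QuadraticMap.polar Q) W → Cfsg.Geo.IsPlusTypeOn Q W → Cfsg.Geo.IsMaximalIn (Cfsg.Geo.omegaGL Q) (Cfsg.Geo.subspaceStabilizer W ⊓ Cfsg.Geo.omegaGL Q)) ∧
    (∀ W : Submodule F (Fin 10 → F), Module.finrank F W = 4 → Cfsg.Geo.IsNondegenerateOn (QuadraticMap.polar Q) W → Cfsg.Geo.IsMaximalIn (Cfsg.Geo.omegaGL Q) (Cfsg.Geo.subspaceStabilizer W ⊓ Cfsg.Geo.omegaGL Q)) ∧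
    (¬ Odd (Fintype.card F) → ∀ v : (Fin 10 → F), Q v ≠ 0 → Cfsg.Geo.IsMaximalIn (Cfsg.Geo.omegaGL Q) (Cfsg.Geo.subspaceStabilizer (Submodule.span F {v}) ⊓ Cfsg.Geo.omegaGL Q)) ∧
    ((∃ p : ℕ, p.Prime ∧ Fintype.card F = p ∧ (p % 4 = 3)) → ∀ D : Fin 10 → Submodule F (Fin 10 → F), Cfsg.Geo.IsOrthogonalMDecomposition Q 1 D → Cfsg.Geo.IsMaximalIn (Cfsg.Geo.omegaGL Q) (Cfsg.Geo.decompositionStabilizer D ⊓ Cfsg.Geo.omegaGL Q)) ∧
    (Fintype.card F ≠ 3 → ∀ D : Fin 5 → Submodule F (Fin 10 → F), Cfsg.Geo.IsOrthogonalMDecomposition Q 2 D → Cfsg.Geo.IsMaximalIn (Cfsg.Geo.omegaGL Q) (Cfsg.Geo.decompositionStabilizer D ⊓ Cfsg.Geo.omegaGL Q)) ∧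
    (Fintype.card F % 4 = 3 → ∀ D : Fin 2 → Submodule F (Fin 10 → F), Cfsg.Geo.IsOrthogonalMDecomposition Q 5 D → Cfsg.Geo.IsMaximalIn (Cfsg.Geo.omegaGL Q) (Cfsg.Geo.decompositionStabilizer D ⊓ Cfsg.Geo.omegaGL Q)) ∧
    (Fintype.card F % 4 = 1 → ∀ D : Fin 2 → Submodule F (Fin 10 → F), Cfsg.Geo.IsNondegenerateMDecomposition (QuadraticMap.polar Q) 5 D → ¬ Cfsg.Geo.AreIsometricFor Q (D 0) (D 1) → Cfsg.Geo.IsMaximalIn (Cfsg.Geo.omegaGL Q) (Cfsg.Geo.decompositionStabilizer D ⊓ Cfsg.Geo.omegaGL Q)) ∧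
    (Odd (Fintype.card F) → ∀ K : Subalgebra F (Matrix (Fin 10) (Fin 10) F), Cfsg.Geo.IsFieldSubalgebra 2 K → Cfsg.Geo.IsSelfAdjointFor (QuadraticMap.polar Q) K → Cfsg.Geo.IsMaximalIn (Cfsg.Geo.omegaGL Q) (Cfsg.Geo.subalgebraNormalizer K ⊓ Cfsg.Geo.omegaGL Q)) ∧
    (∀ K : Subalgebra F (Matrix (Fin 10) (Fin 10) F), Cfsg.Geo.IsFieldSubalgebra 2 K → Cfsg.Geo.IsAdjointClosedFor (QuadraticMap.polar Q) K → ¬ Cfsg.Geo.IsSelfAdjointFor (QuadraticMap.polar Q) K → (∀ k ∈ K, ∃ c : F, ∀ v : (Fin 10 → F), Q (Matrix.mulVec k v) = c * Q v) → Cfsg.Geo.IsMaximalIn (Cfsg.Geo.omegaGL Q) (Cfsg.Geo.subalgebraNormalizer K ⊓ Cfsg.Geo.omegaGL Q)) ∧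
    (∀ (F₀ : Subfield F) (r : ℕ) (P : Matrix.GeneralLinearGroup (Fin 10) F) (ζ : F), r.Prime → Odd r → Fintype.card F = Nat.card F₀ ^ r → ζ ≠ 0 → Cfsg.Geo.IsQuadFormRationalStructure (fun v : Fin 10 → F => ζ * Q v) F₀ P → Cfsg.Geo.IsMaximalIn (Cfsg.Geo.omegaGL Q) (Cfsg.Geo.subfieldSubgroup F₀ P ⊓ Cfsg.Geo.omegaGL Q)) := by
  have hcard : Fintype.card (Fin 10) = 10 := Fintype.card_fin 10
  have hn : ∀ W : Submodule F (Fin 10 → F), W ≠ ⊥ → W ≠ ⊤ →
      Cfsg.Geo.IsNondegenerateOn (QuadraticMap.polar Q) W → 2 * Module.finrank F W ≠ 10 →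
      (¬ (Fintype.card F ≤ 3 ∧ ∃ U : Submodule F (Fin 10 → F), Module.finrank F U = 2 ∧
        Cfsg.Geo.IsNondegenerateOn (QuadraticMap.polar Q) U ∧ Cfsg.Geo.IsPlusTypeOn Q U ∧
        (U = W ∨ (Cfsg.Geo.AreOrthogonalFor (QuadraticMap.polar Q) U W ∧
          Module.finrank F U + Module.finrank F W = 10)))) →
      Cfsg.Geo.IsMaximalIn (Cfsg.Geo.omegaGL Q)
        (Cfsg.Geo.subspaceStabilizer W ⊓ Cfsg.Geo.omegaGL Q) := fun W h0 h1 hW he hex =>
    CfsgLib.MaxSub.Orth.nondegenerate_maximal hQ (by rw [hcard]; norm_num) h0 h1 hW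
      (fun h => absurd (h.trans hcard) he) (by rw [hcard]; exact hex)
  have hbt : ∀ W : Submodule F (Fin 10 → F), 0 < Module.finrank F W → Module.finrank F W < 10 →
      W ≠ ⊥ ∧ W ≠ ⊤ := fun W h h' => ⟨fun e => by rw [e, finrank_bot] at h; omega,
    fun e => by rw [e, finrank_top, Module.finrank_fin_fun] at h'; omega⟩
  have h2 : Odd (Fintype.card F) → (2 : F) ≠ 0 := fun h =>
    CfsgLib.FiniteForms.two_ne_zero_of_odd (F := F) rfl h
  obtain ⟨R, hRQ, hR⟩ := CfsgLib.MaxSub.Orth.exists_form hQ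
  subst hRQ
  have hn5 : 5 ≤ Fintype.card (Fin 10) := by rw [hcard]; norm_num
  refine ⟨fun W h0 hW => CfsgLib.MaxSub.Orth.singular_maximal hQ hn5 h0 hW (Or.inr hminus),
    fun _ W h0 h1 ho hh hW => hn W h0 h1 hW hh ?_,
    fun W hd hW hm => hn W (hbt W (by omega) (by omega)).1 (hbt W (by omega) (by omega)).2 hW (by omega) ?_,
    fun hq W hd hW _ => hn W (hbt W (by omega) (by omega)).1 (hbt W (by omega) (by omega)).2 hW (by omega)
      fun h => by omega,
    fun W hd hW => hn W (hbt W (by omega) (by omega)).1 (hbt W (by omega) (by omega)).2 hW (by omega) ?_,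
    fun he v hv => CfsgLib.MaxSub.Orth.point_maximal hQ (by rw [hcard]; norm_num)
      (CfsgLib.Aschbacher.two_eq_zero_iff.2 he) hv,
    fun ⟨p, hp, hpF, hp4⟩ D hD => CfsgLib.MaxSub.Frame.frame_maximal hR
      (h2 (hpF ▸ Nat.odd_iff.2 (by omega))) (hpF ▸ hp) (by rw [hcard]; norm_num)
      (Or.inl (by rw [hcard])) hD,
    fun hq D hD => CfsgLib.MaxSub.OrthBlocks.blocks_maximal hR hn5 le_rfl hD
      (fun h => absurd h (by decide)) (fun _ => le_rfl) (fun h => hq h.1)
      (fun _ h => by omega) (fun _ _ i hi => hminus (CfsgLib.Aschbacher.OrthEven.plus_of_plus_blocks hQ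
        hD.decomp fun j => CfsgLib.MaxSub.OrthBlocks.plus_iso (hD.isometric i j) hi)),
    fun hq D hD => CfsgLib.MaxSub.OrthBlocks.blocks_maximal hR hn5 (by norm_num) hD
      (fun _ => Nat.odd_iff.2 (by omega)) (fun h => by omega) (fun h => by rcases h.2 with h | h <;> omega)
      (fun _ h => by omega) (fun h => by omega),
    fun _ D hD hne => CfsgLib.MaxSub.OrthBlocks.halves_maximal hR (by rw [hcard]; norm_num) le_rfl hD hne,
    fun hodd K hK hsa => CfsgLib.MaxSub.ExtOrthMax.ext_orth_maximal hQ hn5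
      hodd Nat.prime_two (by rw [hcard]; norm_num) (fun _ h => by omega) hK hsa,
    fun K hK hac hnsa hsim => CfsgLib.MaxSub.GUOrth.gu_orth_maximal hQ (by norm_num) hK hac hnsa hsim,
    fun F₀ r P ζ hr _ hc hζ hP =>
      CfsgLib.MaxSub.SubfieldOrth.orth_subfield_maximal ⟨by simp, hζ, hR, hP⟩ hr hc⟩
  · rintro ⟨-, U, hU, -, -, rfl | ⟨-, h⟩⟩
    · rw [hU] at ho; exact absurd ho (by decide)
    · rw [show Module.finrank F W = 8 by omega] at ho; exact absurd ho (by decide)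
  · rintro ⟨-, U, hU, -, hp, rfl | ⟨-, h⟩⟩
    · exact hm hp
    · omega
  · rintro ⟨-, U, hU, -, -, rfl | ⟨-, h⟩⟩ <;> omega

end Cfsg.Agent.S5849
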