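import Cfsg.Statements.S5871
import Cfsg.Agent.Lib.Aschbacher.OrthEven.PlusTwelve
import Cfsg.Agent.Lib.Aschbacher.OrthEven.NotTensor
import Cfsg.Agent.Lib.MaxSub.NotMaximalOrthBlocks
import Cfsg.Agent.Lib.MaxSub.NotMaximalOrth
import Cfsg.Agent.Lib.MaxSub.NotMaximalOrthTensorTwo

set_option autoImplicit false
open Cfsg

namespace Cfsg.Agent.S5871

open CfsgLib.Aschbacher CfsgLib.Aschbacher.OrthEven Module in
/-- Every maximal subgroup of Ω_12^+(q) is of one of the listed geometric types or lies in the residual class. Let F be a finite field with q elements (characteristic p), Q a non-degenerate quadratic form on F^12 of plus type (Witt index 6: some totally singular 6-space), Ω the commutator subgroup of its isometry group, and H a maximal subgroup of Ω (inside GL_12(F)). Then H is the intersection with Ω of one of: the stabiliser of a non-zero totally singular subspace of dimension ≠ 5; for q odd, the stabiliser of a non-degenerate subspace of odd dimension; the stabiliser of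 a non-degenerate 2-space of minus type; for q ≥ 4, the stabiliser of a non-degenerate 2-space of plus type; the stabiliser of a non-degenerate 4-space; for q even, the stabiliser of the span of a non-singular vector; for q = p an odd prime, the stabiliser of a decomposition into 12 pairwise orthogonal, pairwise isometric non-degenerate 1-spaces; for q ≥ 7, the stabiliser of a decomposition into 6 pairwise orthogonal, pairwise isometric non-degenerate 2-spaces of plus type; for q ≠ 3, the stabiliser of a decomposition into 6 pairwise orthogonal, pairwise isometric non-degenerate 2-spaces of minus type; for q odd with q ≥ 5, the stabiliser of a decomposition into 4 pairwise orthogonal, pairwise isometric non-degenerate 3-spaces; for q ≥ 3, the stabiliser of a decomposition into 3 pairwise orthogonal, pairwise isometric non-degenerate 4-spaces; the stabiliser of a decomposition into 2 pairwise orthogonal, pairwise isometric non-degenerate 6-spaces; of a decomposition into two totally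 singular 6-spaces; the normaliser of a degree-2 subfield of the matrix algebra; the normaliser of a degree-3 subfield of the matrix algebra; the normaliser of a degree-2 subfield K, adjoint-closed but not self-adjoint, acting by similarities of Q; for q ≥ 3, the stabiliser of a tensor decomposition of Q into alternating forms on F^2 and F^6 (Q vanishing on pure tensors); a subfield group (|F| = |F₀|^r, r prime) whose F₀-structure carries a non-zero multiple of Q — or else H lies in the residual class of the orthogonal case (modulo scalars H is almost simple, with absolutely irreducible perfect socle preimage realisable over no proper subfield and fixing no non-degenerate unitary form). -/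
theorem result {F : Type*} [Field F] [Fintype F] (Q : (Fin 12 → F) → F) (hQ : Cfsg.Geo.IsNondegenerateQuadraticForm Q) (hplus : Cfsg.Geo.IsPlusTypeOn Q ⊤) (H : Subgroup (Matrix.GeneralLinearGroup (Fin 12) F)) (hH : Cfsg.Geo.IsMaximalIn (Cfsg.Geo.omegaGL Q) H) :
    (∃ W : Submodule F (Fin 12 → F), W ≠ ⊥ ∧ Cfsg.Geo.IsTotallySingularQuad Q W ∧ Module.finrank F W ≠ 5 ∧ H = Cfsg.Geo.subspaceStabilizer W ⊓ Cfsg.Geo.omegaGL Q) ∨
    (Odd (Fintype.card F) ∧ ∃ W : Submodule F (Fin 12 → F), W ≠ ⊥ ∧ W ≠ ⊤ ∧ Odd (Module.finrank F W) ∧ 2 * Module.finrank F W ≠ 12 ∧ Cfsg.Geo.IsNondegenerateOn (QuadraticMap.polar Q) W ∧ H = Cfsg.Geo.subspaceStabilizer W ⊓ Cfsg.Geo.omegaGL Q) ∨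
    (∃ W : Submodule F (Fin 12 → F), Module.finrank F W = 2 ∧ Cfsg.Geo.IsNondegenerateOn (QuadraticMap.polar Q) W ∧ ¬ Cfsg.Geo.IsPlusTypeOn Q W ∧ H = Cfsg.Geo.subspaceStabilizer W ⊓ Cfsg.Geo.omegaGL Q) ∨
    (4 ≤ Fintype.card F ∧ ∃ W : Submodule F (Fin 12 → F), Module.finrank F W = 2 ∧ Cfsg.Geo.IsNondegenerateOn (QuadraticMap.polar Q) W ∧ Cfsg.Geo.IsPlusTypeOn Q W ∧ H = Cfsg.Geo.subspaceStabilizer W ⊓ Cfsg.Geo.omegaGL Q) ∨
    (∃ W : Submodule F (Fin 12 → F), Module.finrank F W = 4 ∧ Cfsg.Geo.IsNondegenerateOn (QuadraticMap.polar Q) W ∧ H = Cfsg.Geo.subspaceStabilizer W ⊓ Cfsg.Geo.omegaGL Q) ∨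
    (¬ Odd (Fintype.card F) ∧ ∃ v : (Fin 12 → F), Q v ≠ 0 ∧ H = Cfsg.Geo.subspaceStabilizer (Submodule.span F {v}) ⊓ Cfsg.Geo.omegaGL Q) ∨
    ((∃ p : ℕ, p.Prime ∧ Odd p ∧ Fintype.card F = p) ∧ ∃ D : Fin 12 → Submodule F (Fin 12 → F), Cfsg.Geo.IsOrthogonalMDecomposition Q 1 D ∧ H = Cfsg.Geo.decompositionStabilizer D ⊓ Cfsg.Geo.omegaGL Q) ∨
    (7 ≤ Fintype.card F ∧ ∃ D : Fin 6 → Submodule F (Fin 12 → F), Cfsg.Geo.IsOrthogonalMDecomposition Q 2 D ∧ (∀ i, Cfsg.Geo.IsPlusTypeOn Q (D i)) ∧ H = Cfsg.Geo.decompositionStabilizer D ⊓ Cfsg.Geo.omegaGL Q) ∨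
    (Fintype.card F ≠ 3 ∧ ∃ D : Fin 6 → Submodule F (Fin 12 → F), Cfsg.Geo.IsOrthogonalMDecomposition Q 2 D ∧ (∀ i, ¬ Cfsg.Geo.IsPlusTypeOn Q (D i)) ∧ H = Cfsg.Geo.decompositionStabilizer D ⊓ Cfsg.Geo.omegaGL Q) ∨
    (Odd (Fintype.card F) ∧ 5 ≤ Fintype.card F ∧ ∃ D : Fin 4 → Submodule F (Fin 12 → F), Cfsg.Geo.IsOrthogonalMDecomposition Q 3 D ∧ H = Cfsg.Geo.decompositionStabilizer D ⊓ Cfsg.Geo.omegaGL Q) ∨
    (3 ≤ Fintype.card F ∧ ∃ D : Fin 3 → Submodule F (Fin 12 → F), Cfsg.Geo.IsOrthogonalMDecomposition Q 4 D ∧ H = Cfsg.Geo.decompositionStabilizer D ⊓ Cfsg.Geo.omegaGL Q) ∨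
    (∃ D : Fin 2 → Submodule F (Fin 12 → F), Cfsg.Geo.IsOrthogonalMDecomposition Q 6 D ∧ H = Cfsg.Geo.decompositionStabilizer D ⊓ Cfsg.Geo.omegaGL Q) ∨
    (∃ D : Fin 2 → Submodule F (Fin 12 → F), Cfsg.Geo.IsMDecomposition 6 D ∧ (∀ i, Cfsg.Geo.IsTotallySingularQuad Q (D i)) ∧ H = Cfsg.Geo.decompositionStabilizer D ⊓ Cfsg.Geo.omegaGL Q) ∨
    (∃ K : Subalgebra F (Matrix (Fin 12) (Fin 12) F), Cfsg.Geo.IsFieldSubalgebra 2 K ∧ H = Cfsg.Geo.subalgebraNormalizer K ⊓ Cfsg.Geo.omegaGL Q) ∨
    (∃ K : Subalgebra F (Matrix (Fin 12) (Fin 12) F), Cfsg.Geo.IsFieldSubalgebra 3 K ∧ H = Cfsg.Geo.subalgebraNormalizer K ⊓ Cfsg.Geo.omegaGL Q) ∨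
    (∃ K : Subalgebra F (Matrix (Fin 12) (Fin 12) F), Cfsg.Geo.IsFieldSubalgebra 2 K ∧ Cfsg.Geo.IsAdjointClosedFor (QuadraticMap.polar Q) K ∧ ¬ Cfsg.Geo.IsSelfAdjointFor (QuadraticMap.polar Q) K ∧ (∀ k ∈ K, ∃ c : F, ∀ v : (Fin 12 → F), Q (Matrix.mulVec k v) = c * Q v) ∧ H = Cfsg.Geo.subalgebraNormalizer K ⊓ Cfsg.Geo.omegaGL Q) ∨
    (3 ≤ Fintype.card F ∧ ∃ (e : Fin 12 ≃ Fin 2 × Fin 6) (P : Matrix.GeneralLinearGroup (Fin 12) F) (f₁ : (Fin 2 → F) → (Fin 2 → F) → F) (f₂ : (Fin 6 → F) → (Fin 6 → F) → F), Cfsg.Geo.IsSymplecticForm f₁ ∧ Cfsg.Geo.IsSymplecticForm f₂ ∧ Cfsg.Geo.IsTensorFormStructure id (QuadraticMap.polar Q) f₁ f₂ e P ∧ (∀ (x₁ : Fin 2 → F) (x₂ : Fin 6 → F), Q (Matrix.mulVec (P : Matrix (Fin 12) (Fin 12) F) ((fun a : Fin 2 × Fin 6 => x₁ a.1 * x₂ a.2) ∘ e)) = 0) ∧ H = Cfsg.Geo.tensorProductSubgroup 2 6 e P ⊓ Cfsg.Geo.omegaGL Q) ∨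
    (∃ (F₀ : Subfield F) (r : ℕ) (P : Matrix.GeneralLinearGroup (Fin 12) F) (ζ : F), r.Prime ∧ Fintype.card F = Nat.card F₀ ^ r ∧ ζ ≠ 0 ∧ Cfsg.Geo.IsQuadFormRationalStructure (fun v : Fin 12 → F => ζ * Q v) F₀ P ∧ H = Cfsg.Geo.subfieldSubgroup F₀ P ⊓ Cfsg.Geo.omegaGL Q) ∨
    Cfsg.Geo.InOrthogonalResidualClass H := by
  have hn : 5 ≤ Fintype.card (Fin 12) := by simp
  have hHI : H ≤ Cfsg.isometryGroup F Q :=
    hH.1.le.trans (omega_le Q)
  rcases orth_even_aschbacher hQ (by simp) (by decide) hHI with hgeo | hres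
  swap
  · iterate 18 right
    exact hres
  have hgeo' : InOrthEvenOver Q H := hgeo
  rcases hgeo' with ⟨W, h0, h1, hts, hle⟩ | ⟨W, h0, h1, hnd, hd, hle⟩ | ⟨h2, v, hv, hle⟩ |
    ⟨t, k, D, hD, hle⟩ | ⟨k, D, hk, hD, hts, hle⟩ | ⟨r, K, hr, hrn, hK, hsa, halt, hle⟩ |
    ⟨K, hK, hac, hnsa, hsim, hle⟩ | ⟨a, b, e, P, f₁, f₂, ha, hab, hf₁, hf₂, hfr, hpure, hle⟩ |
    ⟨a, b, e, P, f₁, f₂, h2, ha, hab, hs₁, hs₂, hfr, hle⟩ | ⟨k, t, hk, ht, hcard, hp⟩ | ⟨-, ⟨j, hj⟩, -⟩ |
    ⟨F₀, r, P, ζ, hr, hc, hζ, hP, hle⟩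
  · by_cases hd5 : finrank F W = 5
    · exact (not_maximal_of_between hH hle (CfsgLib.MaxSub.Orth.singular_not_maximal hQ hn hplus
        hts (by simp [hd5]))).elim
    · left
      exact ⟨W, h0, hts, hd5, eq_inf_of_maximal hH hle (not_le_subspaceStabilizer hQ hn h0 h1)⟩
  · have heq := eq_inf_of_maximal hH hle (not_le_subspaceStabilizer hQ hn h0 h1)
    have hpos : 0 < finrank F W := Nat.pos_of_ne_zero fun h => h0 (Submodule.finrank_eq_zero.1 h)
    rw [Fintype.card_fin] at hd
    rcases Nat.even_or_odd (finrank F W) with hev | hodd'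
    swap
    · iterate 1 right
      left
      refine ⟨odd_card_of_odd_dim hQ hnd hodd', W, h0, h1, hodd', ?_, hnd, heq⟩
      intro h
      exact Nat.not_odd_iff_even.2 ⟨3, by omega⟩ hodd'
    obtain ⟨j, hj⟩ := hev
    have : finrank F W = 2 ∨ finrank F W = 4 ∨ finrank F W = 6 := by omega
    rcases this with h | h | h
    · by_cases hp : Cfsg.Geo.IsPlusTypeOn Q W
      · by_cases hq : 4 ≤ Fintype.card F
        · iterate 3 right
          left
          exact ⟨hq, W, h, hnd, hp, heq⟩
        · exact (not_maximal_of_between hH hle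
            (CfsgLib.MaxSub.Orth.plus_plane_not_maximal hQ (by simp) (by omega) h hnd hp)).elim
      · iterate 2 right
        left
        exact ⟨W, h, hnd, hp, heq⟩
    · iterate 4 right
      left
      exact ⟨W, h, hnd, heq⟩
    · obtain ⟨D, hD, hsub⟩ := compl_decomp hQ (by simp) (by norm_num) hnd h
      have heq' := eq_inf_of_maximal hH ((le_inf hle hHI).trans hsub)
        (not_le_blockStabilizer hQ hn (by norm_num) hD.decomp)
      iterate 11 right
      left
      exact ⟨D, ⟨hD, isometric_halves_of_plus hQ (by decide) (by norm_num) hD hplus⟩, heq'⟩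
  · iterate 5 right
    left
    refine ⟨not_odd_of_two_eq_zero h2, v, hv, eq_inf_of_maximal hH hle ?_⟩
    refine not_le_subspaceStabilizer hQ hn ?_ ?_
    · rw [Submodule.span_singleton_eq_bot.ne]
      exact fun h => hv (by rw [h]; exact quad_map_zero hQ)
    · intro h
      have := finrank_span_le_card (R := F) ({v} : Set (Fin 12 → F))
      rw [h] at this
      simp at this
  · have hm := CfsgLib.Aschbacher.mDecomposition_mul_eq hD.decomp.decomp
    rw [Fintype.card_fin] at hm
    have ht2 := hD.decomp.decomp.two_le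
    have htdvd : t ∣ 12 := ⟨k, hm.symm⟩
    have h6 : Fintype.card F ≠ 6 := fun h6 => by
      obtain ⟨p, hchar⟩ := CharP.exists F
      obtain ⟨f, hpp, hpf⟩ := FiniteField.card F p
      rw [h6] at hpf
      have h2 := (Nat.prime_dvd_prime_iff_eq Nat.prime_two hpp).1
        (Nat.prime_two.dvd_of_dvd_pow (n := f) (hpf ▸ ⟨3, rfl⟩))
      have h3 := (Nat.prime_dvd_prime_iff_eq Nat.prime_three hpp).1
        (Nat.prime_three.dvd_of_dvd_pow (n := f) (hpf ▸ ⟨2, rfl⟩))
      omega
    have h1F := Fintype.one_lt_card (α := F)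
    have : t = 2 ∨ t = 3 ∨ t = 4 ∨ t = 6 ∨ t = 12 := by
      have : t ≤ 12 := Nat.le_of_dvd (by norm_num) htdvd
      interval_cases t <;> omega
    rcases this with rfl | rfl | rfl | rfl | rfl
    · obtain rfl : k = 6 := by omega
      iterate 11 right
      left
      exact ⟨D, hD, eq_inf_of_maximal hH hle
        (not_le_blockStabilizer hQ hn (by norm_num) hD.decomp.decomp)⟩
    · obtain rfl : k = 4 := by omega
      by_cases hq : 3 ≤ Fintype.card F
      · iterate 10 right
        left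
        exact ⟨hq, D, hD, eq_inf_of_maximal hH hle
          (not_le_orthBlocks hQ hn le_rfl (by norm_num) hD.decomp)⟩
      · refine (not_maximal_of_between hH hle ?_).elim
        obtain ⟨R, rfl, hR⟩ := CfsgLib.MaxSub.Orth.exists_form hQ
        have hq2 : Fintype.card F = 2 := by omega
        have h2 : (2 : F) = 0 := two_eq_zero_of_not_odd (by rw [hq2]; decide)
        have hpl := plus_blocks_of_sqrt hQ (s := 1) hD (c := 1)
          (by linear_combination h2) hplus
        exact CfsgLib.MaxSub.Orth.four_two hR (by simp) hq2 hD hpl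
    · obtain rfl : k = 3 := by omega
      have hodd := odd_card_of_odd_dim hQ (hD.decomp.nondegenerate 0)
        (by rw [hD.decomp.decomp.finrank_eq]; decide)
      by_cases hq : 5 ≤ Fintype.card F
      · iterate 9 right
        left
        exact ⟨hodd, hq, D, hD, eq_inf_of_maximal hH hle
          (not_le_orthBlocks hQ hn (by norm_num) (by norm_num) hD.decomp)⟩
      · refine (not_maximal_of_between hH hle ?_).elim
        obtain ⟨R, rfl, hR⟩ := CfsgLib.MaxSub.Orth.exists_form hQ
        have h3 := Nat.odd_iff.1 hodd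
        exact CfsgLib.MaxSub.Orth.three_three hR (by simp) (by omega) hD
    · obtain rfl : k = 2 := by omega
      have hno := not_le_orthBlocks hQ hn (by norm_num) le_rfl hD.decomp
      by_cases hp : Cfsg.Geo.IsPlusTypeOn Q (D 0)
      · have hpl : ∀ i, Cfsg.Geo.IsPlusTypeOn Q (D i) := fun i =>
          plusType_of_isometric (hD.isometric 0 i) hp
        by_cases hq : 7 ≤ Fintype.card F
        · iterate 7 right
          left
          exact ⟨hq, D, hD, hpl, eq_inf_of_maximal hH hle hno⟩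
        · refine (not_maximal_of_between hH hle ?_).elim
          obtain ⟨R, rfl, hR⟩ := CfsgLib.MaxSub.Orth.exists_form hQ
          by_cases hq3 : Fintype.card F = 3
          · exact CfsgLib.MaxSub.Orth.two_three hR (by simp) hq3 hD
          · by_cases hq5 : Fintype.card F = 5
            · exact CfsgLib.MaxSub.Orth.two_five hR (by simp) hq5 hD hpl
            · exact CfsgLib.MaxSub.Orth.two_even hR (by simp) (by omega) hD hpl
      · have hmi : ∀ i, ¬ Cfsg.Geo.IsPlusTypeOn Q (D i) := fun i h =>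
          hp (plusType_of_isometric (hD.isometric i 0) h)
        by_cases hq : Fintype.card F = 3
        · refine (not_maximal_of_between hH hle ?_).elim
          obtain ⟨R, rfl, hR⟩ := CfsgLib.MaxSub.Orth.exists_form hQ
          exact CfsgLib.MaxSub.Orth.two_three hR (by simp) hq hD
        · iterate 8 right
          left
          exact ⟨hq, D, hD, hmi, eq_inf_of_maximal hH hle hno⟩
    · obtain rfl : k = 1 := by omega
      have hodd := odd_card_of_odd_dim hQ (hD.decomp.nondegenerate 0)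
        (by rw [hD.decomp.decomp.finrank_eq]; decide)
      have h2 : (2 : F) ≠ 0 := fun h2 => not_odd_of_two_eq_zero h2 hodd
      by_cases hp : (Fintype.card F).Prime
      · iterate 6 right
        left
        exact ⟨⟨_, hp, hodd, rfl⟩, D, hD, eq_inf_of_maximal hH hle
          (CfsgLib.Aschbacher.not_omega_le_decompositionStabilizer hQ h2 (hasGoodVectors hQ hn)
            hD.decomp)⟩
      · obtain ⟨p, hchar⟩ := CharP.exists F
        haveI : Fact p.Prime := ⟨CharP.char_is_prime F p⟩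
        obtain ⟨F₁, r, -, hr, hc⟩ := exists_subfield_prime (F₀ := (⊥ : Subfield F)) fun hbot => hp (by
          have hcb := Subfield.card_bot F p
          rw [hbot, Nat.card_congr Subfield.topEquiv.toEquiv, Nat.card_eq_fintype_card] at hcb
          rw [hcb]
          exact Fact.out)
        obtain ⟨P, ζ, hζ, hP, hle'⟩ := frame_subfield hQ h2 (F₀ := F₁) hD hHI hle
        iterate 17 right
        left
        exact ⟨F₁, r, P, ζ, hr, hc, hζ, hP,
          eq_inf_of_maximal hH hle' (not_le_subfieldSubgroup hQ hn hr hc P)⟩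
  · obtain rfl : k = 6 := by rw [Fintype.card_fin] at hk; omega
    iterate 12 right
    left
    exact ⟨D, hD, hts, eq_inf_of_maximal hH hle (not_le_blockStabilizer hQ hn (by norm_num) hD)⟩
  · rcases (show r = 2 ∨ r = 3 by
      have h12 : r ∣ 2 ^ 2 * 3 := by simpa using hrn
      rcases hr.dvd_mul.1 h12 with h | h
      · exact Or.inl ((Nat.prime_dvd_prime_iff_eq hr Nat.prime_two).1 (hr.dvd_of_dvd_pow h))
      · exact Or.inr ((Nat.prime_dvd_prime_iff_eq hr Nat.prime_three).1 h)) with rfl | rfl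
    · iterate 13 right
      left
      exact ⟨K, hK, eq_inf_of_maximal hH hle (not_le_subalgebraNormalizer hQ hn hK le_rfl)⟩
    · iterate 14 right
      left
      exact ⟨K, hK, eq_inf_of_maximal hH hle (not_le_subalgebraNormalizer hQ hn hK (by norm_num))⟩
  · iterate 15 right
    left
    exact ⟨K, hK, hac, hnsa, hsim,
      eq_inf_of_maximal hH hle (not_le_subalgebraNormalizer hQ hn hK le_rfl)⟩
  · have hc : a * b = 12 := by simpa using (Fintype.card_congr e).symm
    have : a ≤ 3 := by nlinarith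
    interval_cases a
    · obtain rfl : b = 6 := by omega
      by_cases hq : 3 ≤ Fintype.card F
      · iterate 16 right
        left
        exact ⟨hq, e, P, f₁, f₂, hf₁, hf₂, hfr, hpure,
          eq_inf_of_maximal hH hle (not_le_tensor hQ le_rfl (by norm_num) e P (Or.inr hpure))⟩
      · have h1F := Fintype.one_lt_card (α := F)
        exact (not_maximal_of_between hH hle (CfsgLib.MaxSub.OrthTensorTwo.tensor_two_not_maximal hQ hn
          (by omega) (by norm_num) e P f₁ f₂ hf₁ hf₂ hfr hpure)).elim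
    · exfalso
      obtain ⟨j, hj⟩ := even_finrank_of_alternating hf₁.bilinear hf₁.alternating 3 ⊤
        (by simp) (fun w _ hw => by
          obtain ⟨-, x, hx⟩ := hf₁.nondegenerate w hw
          exact ⟨x, trivial, hx⟩)
      omega
  · have hc : a * b = 12 := by simpa using (Fintype.card_congr e).symm
    have : a ≤ 3 := by nlinarith
    obtain rfl : a = 3 := by omega
    obtain rfl : b = 4 := by omega
    obtain ⟨e', P', g₁, g₂, hg₁, hg₂, hfr', hpure', hle'⟩ :=
      alt_of_sym_three_four hQ h2 hplus e P hs₁ hs₂ hfr hH.1.le hle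
    have h3 := Nat.odd_iff.1 (odd_of_two_ne_zero h2)
    have h1F := Fintype.one_lt_card (α := F)
    iterate 16 right
    left
    exact ⟨by omega, e', P', g₁, g₂, hg₁, hg₂, hfr', hpure',
      eq_inf_of_maximal hH hle' (not_le_tensor hQ le_rfl (by norm_num) e' P' (Or.inr hpure'))⟩
  · exfalso
    rw [Fintype.card_fin] at hcard
    have : t ≤ 3 := by
      by_contra h
      have : 2 ^ 4 ≤ k ^ t := (Nat.pow_le_pow_left hk 4).trans (Nat.pow_le_pow_right (by omega) (by omega))
      omega
    interval_cases t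
    · have : k ≤ 3 := by nlinarith
      interval_cases k <;> norm_num at hcard
    · have : k ≤ 2 := by
        by_contra h
        have : 3 ^ 3 ≤ k ^ 3 := Nat.pow_le_pow_left (by omega) 3
        omega
      interval_cases k
      norm_num at hcard
  · exfalso
    rw [Fintype.card_fin] at hj
    have : j ≤ 3 := by
      by_contra h
      have : 2 ^ 4 ≤ 2 ^ j := Nat.pow_le_pow_right (by norm_num) (by omega)
      omega
    interval_cases j <;> norm_num at hj
  · iterate 17 right
    left
    exact ⟨F₀, r, P, ζ, hr, hc, hζ, hP,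
      eq_inf_of_maximal hH hle (not_le_subfieldSubgroup hQ hn hr hc P)⟩

end Cfsg.Agent.S5871
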