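import Cfsg.Statements.S5873
import Cfsg.Agent.Lib.MaxSub.SubspaceMaximalOrthGL
import Cfsg.Agent.Lib.MaxSub.ExtOrthMax.Main
import Cfsg.Agent.Lib.MaxSub.SubfieldMaximalOrth
import Cfsg.Agent.Lib.MaxSub.OrthBlocks.Final
import Cfsg.Agent.Lib.MaxSub.TensorOO.Main

set_option autoImplicit false
open Cfsg

namespace Cfsg.Agent.S5873

/-- Maximal subgroups of Ω_12^-(q) of geometric type (any q). Let F be a finite field with q elements (characteristic p), Q a non-degenerate quadratic form on F^12 (non-degenerate polar form) of minus type (Witt index 5: no totally singular 6-space), and Ω = Ω_12^-(q) the commutator subgroup of the isometry group of Q, inside GL_12(F). Each of the following, intersected with Ω, is a maximal subgroup of Ω: (1) the stabiliser of any non-zero subspace on which Q vanishes identically (totally singular subspaces, dimensions 1 to 5); (2) for q odd, the stabiliser of any subspace of odd dimension on which the polar form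 of Q is non-degenerate; (3) the stabiliser of any non-degenerate 2-space of minus type (containing no non-zero singular vector); (4) for q ≥ 4, the stabiliser of any non-degenerate 2-space of plus type (containing a non-zero singular vector); (5) the stabiliser of any non-degenerate 4-space (either type); (6) the stabiliser of any non-degenerate 6-space (either type); (7) for q even, the stabiliser of the 1-space spanned by any non-singular vector v (Q(v) ≠ 0); (8) the stabiliser of any decomposition of F^12 into 3 pairwise orthogonal, pairwise Q-isometric non-degenerate 4-spaces of minus type; (9) for q odd, the normaliser of any degree-2 subfield K of the matrix algebra whose elements are self-adjoint for the polar form of Q (Q is then the trace of a quadratic form over K); (10) for q odd, the normaliser of any degree-3 subfield K of the matrix algebra whose elements are self-adjoint for the polar form of Q (Q is then the trace of a quadratic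 form over K); (11) for q odd with q ≥ 5, the stabiliser of any tensor decomposition F^12 = F^3 ⊗ F^4 in which the polar form of Q is the product of non-degenerate symmetric bilinear forms, the second of minus type, up to a scalar; (12) every subfield group for a subfield F₀ with |F| = |F₀|^r, r an odd prime, whose F₀-structure carries a non-zero scalar multiple of Q. -/
theorem result {F : Type*} [Field F] [Fintype F] (Q : (Fin 12 → F) → F) (hQ : Cfsg.Geo.IsNondegenerateQuadraticForm Q) (hminus : ¬ Cfsg.Geo.IsPlusTypeOn Q ⊤) :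
    (∀ W : Submodule F (Fin 12 → F), W ≠ ⊥ → Cfsg.Geo.IsTotallySingularQuad Q W → Cfsg.Geo.IsMaximalIn (Cfsg.Geo.omegaGL Q) (Cfsg.Geo.subspaceStabilizer W ⊓ Cfsg.Geo.omegaGL Q)) ∧
    (Odd (Fintype.card F) → ∀ W : Submodule F (Fin 12 → F), W ≠ ⊥ → W ≠ ⊤ → Odd (Module.finrank F W) → 2 * Module.finrank F W ≠ 12 → Cfsg.Geo.IsNondegenerateOn (QuadraticMap.polar Q) W → Cfsg.Geo.IsMaximalIn (Cfsg.Geo.omegaGL Q) (Cfsg.Geo.subspaceStabilizer W ⊓ Cfsg.Geo.omegaGL Q)) ∧
    (∀ W : Submodule F (Fin 12 → F), Module.finrank F W = 2 → Cfsg.Geo.IsNondegenerateOn (QuadraticMap.polar Q) W → ¬ Cfsg.Geo.IsPlusTypeOn Q W → Cfsg.Geo.IsMaximalIn (Cfsg.Geo.omegaGL Q) (Cfsg.Geo.subspaceStabilizer W ⊓ Cfsg.Geo.omegaGL Q)) ∧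
    (4 ≤ Fintype.card F → ∀ W : Submodule F (Fin 12 → F), Module.finrank F W = 2 → Cfsg.Geo.IsNondegenerateOn (QuadraticMap.polar Q) W → Cfsg.Geo.IsPlusTypeOn Q W → Cfsg.Geo.IsMaximalIn (Cfsg.Geo.omegaGL Q) (Cfsg.Geo.subspaceStabilizer W ⊓ Cfsg.Geo.omegaGL Q)) ∧
    (∀ W : Submodule F (Fin 12 → F), Module.finrank F W = 4 → Cfsg.Geo.IsNondegenerateOn (QuadraticMap.polar Q) W → Cfsg.Geo.IsMaximalIn (Cfsg.Geo.omegaGL Q) (Cfsg.Geo.subspaceStabilizer W ⊓ Cfsg.Geo.omegaGL Q)) ∧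
    (∀ W : Submodule F (Fin 12 → F), Module.finrank F W = 6 → Cfsg.Geo.IsNondegenerateOn (QuadraticMap.polar Q) W → Cfsg.Geo.IsMaximalIn (Cfsg.Geo.omegaGL Q) (Cfsg.Geo.subspaceStabilizer W ⊓ Cfsg.Geo.omegaGL Q)) ∧
    (¬ Odd (Fintype.card F) → ∀ v : (Fin 12 → F), Q v ≠ 0 → Cfsg.Geo.IsMaximalIn (Cfsg.Geo.omegaGL Q) (Cfsg.Geo.subspaceStabilizer (Submodule.span F {v}) ⊓ Cfsg.Geo.omegaGL Q)) ∧
    (∀ D : Fin 3 → Submodule F (Fin 12 → F), Cfsg.Geo.IsOrthogonalMDecomposition Q 4 D → (∀ i, ¬ Cfsg.Geo.IsPlusTypeOn Q (D i)) → Cfsg.Geo.IsMaximalIn (Cfsg.Geo.omegaGL Q) (Cfsg.Geo.decompositionStabilizer D ⊓ Cfsg.Geo.omegaGL Q)) ∧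
    (Odd (Fintype.card F) → ∀ K : Subalgebra F (Matrix (Fin 12) (Fin 12) F), Cfsg.Geo.IsFieldSubalgebra 2 K → Cfsg.Geo.IsSelfAdjointFor (QuadraticMap.polar Q) K → Cfsg.Geo.IsMaximalIn (Cfsg.Geo.omegaGL Q) (Cfsg.Geo.subalgebraNormalizer K ⊓ Cfsg.Geo.omegaGL Q)) ∧
    (Odd (Fintype.card F) → ∀ K : Subalgebra F (Matrix (Fin 12) (Fin 12) F), Cfsg.Geo.IsFieldSubalgebra 3 K → Cfsg.Geo.IsSelfAdjointFor (QuadraticMap.polar Q) K → Cfsg.Geo.IsMaximalIn (Cfsg.Geo.omegaGL Q) (Cfsg.Geo.subalgebraNormalizer K ⊓ Cfsg.Geo.omegaGL Q)) ∧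
    (Odd (Fintype.card F) ∧ 5 ≤ Fintype.card F → ∀ (e : Fin 12 ≃ Fin 3 × Fin 4) (P : Matrix.GeneralLinearGroup (Fin 12) F) (f₁ : (Fin 3 → F) → (Fin 3 → F) → F) (f₂ : (Fin 4 → F) → (Fin 4 → F) → F), Cfsg.Geo.IsSymmetricForm f₁ → Cfsg.Geo.IsSymmetricForm f₂ → ¬ Cfsg.Geo.IsPlusTypeOn (fun v : Fin 4 → F => f₂ v v) ⊤ → Cfsg.Geo.IsTensorFormStructure id (QuadraticMap.polar Q) f₁ f₂ e P → Cfsg.Geo.IsMaximalIn (Cfsg.Geo.omegaGL Q) (Cfsg.Geo.tensorProductSubgroup 3 4 e P ⊓ Cfsg.Geo.omegaGL Q)) ∧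
    (∀ (F₀ : Subfield F) (r : ℕ) (P : Matrix.GeneralLinearGroup (Fin 12) F) (ζ : F), r.Prime → Odd r → Fintype.card F = Nat.card F₀ ^ r → ζ ≠ 0 → Cfsg.Geo.IsQuadFormRationalStructure (fun v : Fin 12 → F => ζ * Q v) F₀ P → Cfsg.Geo.IsMaximalIn (Cfsg.Geo.omegaGL Q) (Cfsg.Geo.subfieldSubgroup F₀ P ⊓ Cfsg.Geo.omegaGL Q)) := by
  have hcard : Fintype.card (Fin 12) = 12 := Fintype.card_fin 12
  have hn : ∀ W : Submodule F (Fin 12 → F), W ≠ ⊥ → W ≠ ⊤ →
      Cfsg.Geo.IsNondegenerateOn (QuadraticMap.polar Q) W →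
      (2 * Module.finrank F W = 12 → Even (Module.finrank F W)) →
      (¬ (Fintype.card F ≤ 3 ∧ ∃ U : Submodule F (Fin 12 → F), Module.finrank F U = 2 ∧
        Cfsg.Geo.IsNondegenerateOn (QuadraticMap.polar Q) U ∧ Cfsg.Geo.IsPlusTypeOn Q U ∧
        (U = W ∨ (Cfsg.Geo.AreOrthogonalFor (QuadraticMap.polar Q) U W ∧
          Module.finrank F U + Module.finrank F W = 12)))) →
      Cfsg.Geo.IsMaximalIn (Cfsg.Geo.omegaGL Q)
        (Cfsg.Geo.subspaceStabilizer W ⊓ Cfsg.Geo.omegaGL Q) := fun W h0 h1 hW he hex =>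
    CfsgLib.MaxSub.Orth.nondegenerate_maximal hQ (by rw [hcard]; norm_num) h0 h1 hW
      (fun h => ⟨he (by rwa [hcard] at h), hminus⟩) (by rw [hcard]; exact hex)
  have hbt : ∀ W : Submodule F (Fin 12 → F), 0 < Module.finrank F W → Module.finrank F W < 12 →
      W ≠ ⊥ ∧ W ≠ ⊤ := fun W h h' => ⟨fun e => by rw [e, finrank_bot] at h; omega,
    fun e => by rw [e, finrank_top, Module.finrank_fin_fun] at h'; omega⟩
  refine ⟨fun W h0 hW => CfsgLib.MaxSub.Orth.singular_maximal hQ (by rw [hcard]; norm_num) h0 hW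
      (Or.inr hminus),
    fun _ W h0 h1 ho hh hW => hn W h0 h1 hW (fun h => absurd h hh) ?_,
    fun W hd hW hm => hn W (hbt W (by omega) (by omega)).1 (hbt W (by omega) (by omega)).2 hW
      (fun h => by omega) ?_,
    fun hq W hd hW _ => hn W (hbt W (by omega) (by omega)).1 (hbt W (by omega) (by omega)).2 hW
      (fun h => by omega) fun h => by omega,
    fun W hd hW => hn W (hbt W (by omega) (by omega)).1 (hbt W (by omega) (by omega)).2 hW
      (fun h => by omega) ?_,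
    fun W hd hW => hn W (hbt W (by omega) (by omega)).1 (hbt W (by omega) (by omega)).2 hW
      (fun _ => by rw [hd]; decide) ?_,
    fun he v hv => CfsgLib.MaxSub.Orth.point_maximal hQ (by rw [hcard]; norm_num)
      (CfsgLib.Aschbacher.two_eq_zero_iff.2 he) hv,
    fun D hD hm => ?_,
    fun hodd K hK hsa => CfsgLib.MaxSub.ExtOrthMax.ext_orth_maximal hQ (by rw [hcard]; norm_num)
      hodd Nat.prime_two (by rw [hcard]; norm_num) (fun _ _ => hminus) hK hsa,
    fun hodd K hK hsa => CfsgLib.MaxSub.ExtOrthMax.ext_orth_maximal hQ (by rw [hcard]; norm_num)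
      hodd Nat.prime_three (by rw [hcard]) (fun h => by omega) hK hsa,
    fun hq e P f₁ f₂ hf₁ hf₂ hm hT => ?_,
    fun F₀ r P ζ hr _ hc hζ hP => ?_⟩
  · rintro ⟨-, U, hU, -, -, rfl | ⟨-, h⟩⟩
    · rw [hU] at ho; exact absurd ho (by decide)
    · rw [show Module.finrank F W = 10 by omega] at ho; exact absurd ho (by decide)
  · rintro ⟨-, U, hU, -, hp, rfl | ⟨-, h⟩⟩
    · exact hm hp
    · omega
  · rintro ⟨-, U, hU, -, -, rfl | ⟨-, h⟩⟩ <;> omega
  · rintro ⟨-, U, hU, -, -, rfl | ⟨-, h⟩⟩ <;> omega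
  · obtain ⟨R, rfl, hR⟩ := CfsgLib.MaxSub.Orth.exists_form hQ
    exact CfsgLib.MaxSub.OrthBlocks.blocks_maximal hR (by rw [hcard]; norm_num) (by norm_num) hD
      (fun h => absurd h (by decide)) (fun h => by omega) (fun h => by rcases h.2 with h | h <;> omega)
      (fun _ _ => hm) (fun h => by omega)
  · exact CfsgLib.MaxSub.TensorOO.orth_tensor_maximal_three_four hq.1 hq.2 hQ e P f₁ f₂ hf₁ hf₂ hm hT
  · obtain ⟨R, rfl, hR⟩ := CfsgLib.MaxSub.Orth.exists_form hQ
    exact CfsgLib.MaxSub.SubfieldOrth.orth_subfield_maximal ⟨by simp, hζ, hR, hP⟩ hr hc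

end Cfsg.Agent.S5873
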