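import Cfsg.Statements.S5874
import Cfsg.Agent.Lib.Aschbacher.OrthEven.SymTensor
import Cfsg.Agent.Lib.MaxSub.NotMaximalOrth

set_option autoImplicit false
open Cfsg

namespace Cfsg.Agent.S5874

open CfsgLib.Aschbacher CfsgLib.Aschbacher.OrthEven Module in
/-- Every maximal subgroup of Ω_12^-(q) is of one of the listed geometric types or lies in the residual class. Let F be a finite field with q elements (characteristic p), Q a non-degenerate quadratic form on F^12 of minus type (Witt index 5: no totally singular 6-space), Ω the commutator subgroup of its isometry group, and H a maximal subgroup of Ω (inside GL_12(F)). Then H is the intersection with Ω of one of: the stabiliser of a non-zero totally singular subspace; for q odd, the stabiliser of a non-degenerate subspace of odd dimension; the stabiliser of a non-degenerate 2-space of minus type; for q ≥ 4, the stabiliser of a non-degenerate 2-space of plus type; the stabiliser of a non-degenerate 4-space; the stabiliser of a non-degenerate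 6-space; for q even, the stabiliser of the span of a non-singular vector; the stabiliser of a decomposition into 3 pairwise orthogonal, pairwise isometric non-degenerate 4-spaces of minus type; the normaliser of a degree-2 subfield of the matrix algebra; the normaliser of a degree-3 subfield of the matrix algebra; for q odd with q ≥ 5, the stabiliser of a tensor decomposition of the polar form into symmetric forms on F^3 and F^4 (minus type); a subfield group (|F| = |F₀|^r, r odd prime) whose F₀-structure carries a non-zero multiple of Q — or else H lies in the residual class of the orthogonal case (modulo scalars H is almost simple, with absolutely irreducible perfect socle preimage realisable over no proper subfield and fixing no non-degenerate unitary form). -/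
theorem result {F : Type*} [Field F] [Fintype F] (Q : (Fin 12 → F) → F) (hQ : Cfsg.Geo.IsNondegenerateQuadraticForm Q) (hminus : ¬ Cfsg.Geo.IsPlusTypeOn Q ⊤) (H : Subgroup (Matrix.GeneralLinearGroup (Fin 12) F)) (hH : Cfsg.Geo.IsMaximalIn (Cfsg.Geo.omegaGL Q) H) :
    (∃ W : Submodule F (Fin 12 → F), W ≠ ⊥ ∧ Cfsg.Geo.IsTotallySingularQuad Q W ∧ H = Cfsg.Geo.subspaceStabilizer W ⊓ Cfsg.Geo.omegaGL Q) ∨
    (Odd (Fintype.card F) ∧ ∃ W : Submodule F (Fin 12 → F), W ≠ ⊥ ∧ W ≠ ⊤ ∧ Odd (Module.finrank F W) ∧ 2 * Module.finrank F W ≠ 12 ∧ Cfsg.Geo.IsNondegenerateOn (QuadraticMap.polar Q) W ∧ H = Cfsg.Geo.subspaceStabilizer W ⊓ Cfsg.Geo.omegaGL Q) ∨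
    (∃ W : Submodule F (Fin 12 → F), Module.finrank F W = 2 ∧ Cfsg.Geo.IsNondegenerateOn (QuadraticMap.polar Q) W ∧ ¬ Cfsg.Geo.IsPlusTypeOn Q W ∧ H = Cfsg.Geo.subspaceStabilizer W ⊓ Cfsg.Geo.omegaGL Q) ∨
    (4 ≤ Fintype.card F ∧ ∃ W : Submodule F (Fin 12 → F), Module.finrank F W = 2 ∧ Cfsg.Geo.IsNondegenerateOn (QuadraticMap.polar Q) W ∧ Cfsg.Geo.IsPlusTypeOn Q W ∧ H = Cfsg.Geo.subspaceStabilizer W ⊓ Cfsg.Geo.omegaGL Q) ∨
    (∃ W : Submodule F (Fin 12 → F), Module.finrank F W = 4 ∧ Cfsg.Geo.IsNondegenerateOn (QuadraticMap.polar Q) W ∧ H = Cfsg.Geo.subspaceStabilizer W ⊓ Cfsg.Geo.omegaGL Q) ∨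
    (∃ W : Submodule F (Fin 12 → F), Module.finrank F W = 6 ∧ Cfsg.Geo.IsNondegenerateOn (QuadraticMap.polar Q) W ∧ H = Cfsg.Geo.subspaceStabilizer W ⊓ Cfsg.Geo.omegaGL Q) ∨
    (¬ Odd (Fintype.card F) ∧ ∃ v : (Fin 12 → F), Q v ≠ 0 ∧ H = Cfsg.Geo.subspaceStabilizer (Submodule.span F {v}) ⊓ Cfsg.Geo.omegaGL Q) ∨
    (∃ D : Fin 3 → Submodule F (Fin 12 → F), Cfsg.Geo.IsOrthogonalMDecomposition Q 4 D ∧ (∀ i, ¬ Cfsg.Geo.IsPlusTypeOn Q (D i)) ∧ H = Cfsg.Geo.decompositionStabilizer D ⊓ Cfsg.Geo.omegaGL Q) ∨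
    (∃ K : Subalgebra F (Matrix (Fin 12) (Fin 12) F), Cfsg.Geo.IsFieldSubalgebra 2 K ∧ H = Cfsg.Geo.subalgebraNormalizer K ⊓ Cfsg.Geo.omegaGL Q) ∨
    (∃ K : Subalgebra F (Matrix (Fin 12) (Fin 12) F), Cfsg.Geo.IsFieldSubalgebra 3 K ∧ H = Cfsg.Geo.subalgebraNormalizer K ⊓ Cfsg.Geo.omegaGL Q) ∨
    (Odd (Fintype.card F) ∧ 5 ≤ Fintype.card F ∧ ∃ (e : Fin 12 ≃ Fin 3 × Fin 4) (P : Matrix.GeneralLinearGroup (Fin 12) F) (f₁ : (Fin 3 → F) → (Fin 3 → F) → F) (f₂ : (Fin 4 → F) → (Fin 4 → F) → F), Cfsg.Geo.IsSymmetricForm f₁ ∧ Cfsg.Geo.IsSymmetricForm f₂ ∧ ¬ Cfsg.Geo.IsPlusTypeOn (fun v : Fin 4 → F => f₂ v v) ⊤ ∧ Cfsg.Geo.IsTensorFormStructure id (QuadraticMap.polar Q) f₁ f₂ e P ∧ H = Cfsg.Geo.tensorProductSubgroup 3 4 e P ⊓ Cfsg.Geo.omegaGL Q) ∨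
    (∃ (F₀ : Subfield F) (r : ℕ) (P : Matrix.GeneralLinearGroup (Fin 12) F) (ζ : F), r.Prime ∧ Odd r ∧ Fintype.card F = Nat.card F₀ ^ r ∧ ζ ≠ 0 ∧ Cfsg.Geo.IsQuadFormRationalStructure (fun v : Fin 12 → F => ζ * Q v) F₀ P ∧ H = Cfsg.Geo.subfieldSubgroup F₀ P ⊓ Cfsg.Geo.omegaGL Q) ∨
    Cfsg.Geo.InOrthogonalResidualClass H := by
  have hn : 5 ≤ Fintype.card (Fin 12) := by simp
  have hHI : H ≤ Cfsg.isometryGroup F Q :=
    hH.1.le.trans (omega_le Q)
  rcases orth_even_aschbacher hQ (by simp) (by decide) hHI with hgeo | hres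
  swap
  · iterate 12 right
    exact hres
  rcases hgeo with ⟨W, h0, h1, hts, hle⟩ | ⟨W, h0, h1, hnd, hd, hle⟩ | ⟨h2, v, hv, hle⟩ |
    ⟨t, k, D, hD, hle⟩ | ⟨k, D, hk, hD, hts, hle⟩ | ⟨r, K, hr, hrn, hK, -, -, hle⟩ |
    ⟨K, hK, -, -, -, hle⟩ | ⟨a, b, e, P, f₁, f₂, ha, hab, hf₁, -, -, hpure, hle⟩ |
    ⟨a, b, e, P, f₁, f₂, h2, ha, hab, hf₁, hf₂, hfr, hle⟩ | ⟨k, t, hk, ht, hcard, hp⟩ | ⟨-, -, hp⟩ |
    ⟨F₀, r, P, ζ, hr, hc, hζ, hP, hle⟩
  · left
    exact ⟨W, h0, hts, eq_inf_of_maximal hH hle (not_le_subspaceStabilizer hQ hn h0 h1)⟩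
  · have heq := eq_inf_of_maximal hH hle (not_le_subspaceStabilizer hQ hn h0 h1)
    have hpos : 0 < finrank F W := Nat.pos_of_ne_zero fun h => h0 (Submodule.finrank_eq_zero.1 h)
    rw [Fintype.card_fin] at hd
    have : finrank F W = 1 ∨ finrank F W = 2 ∨ finrank F W = 3 ∨ finrank F W = 4 ∨
        finrank F W = 5 ∨ finrank F W = 6 := by omega
    rcases this with h | h | h | h | h | h
    · iterate 1 right
      left
      exact ⟨odd_card_of_odd_dim hQ hnd (by rw [h]; decide), W, h0, h1, by rw [h]; decide, by omega, hnd, heq⟩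
    · by_cases hp : Cfsg.Geo.IsPlusTypeOn Q W
      · by_cases hq : 4 ≤ Fintype.card F
        · iterate 3 right
          left
          exact ⟨hq, W, h, hnd, hp, heq⟩
        · exact (not_maximal_of_between hH hle
            (CfsgLib.MaxSub.Orth.plus_plane_not_maximal hQ (by simp) (by omega) h hnd hp)).elim
      · iterate 2 right
        left
        exact ⟨W, h, hnd, hp, heq⟩
    · iterate 1 right
      left
      exact ⟨odd_card_of_odd_dim hQ hnd (by rw [h]; decide), W, h0, h1, by rw [h]; decide, by omega, hnd, heq⟩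
    · iterate 4 right
      left
      exact ⟨W, h, hnd, heq⟩
    · iterate 1 right
      left
      exact ⟨odd_card_of_odd_dim hQ hnd (by rw [h]; decide), W, h0, h1, by rw [h]; decide, by omega, hnd, heq⟩
    · iterate 5 right
      left
      exact ⟨W, h, hnd, heq⟩
  · iterate 6 right
    left
    refine ⟨not_odd_of_two_eq_zero h2, v, hv, eq_inf_of_maximal hH hle ?_⟩
    refine not_le_subspaceStabilizer hQ hn ?_ ?_
    · rw [Submodule.span_singleton_eq_bot.ne]
      exact fun h => hv (by rw [h]; exact quad_map_zero hQ)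
    · intro h
      have := finrank_span_le_card (R := F) ({v} : Set (Fin 12 → F))
      rw [h] at this
      simp at this
  · obtain ⟨rfl, rfl⟩ : t = 3 ∧ k = 4 := by
      have hm := CfsgLib.Aschbacher.mDecomposition_mul_eq hD.decomp.decomp
      rw [Fintype.card_fin] at hm
      have ht2 := hD.decomp.decomp.two_le
      have hodd : Odd t := Nat.not_even_iff_odd.1 fun he =>
        hminus (plus_of_even_blocks hQ hD (m := 6) he (by omega) ⟨1, by norm_num⟩)
      have : t ∣ 12 := ⟨k, hm.symm⟩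
      have : t ≤ 12 := Nat.le_of_dvd (by norm_num) this
      rcases hodd with ⟨j, rfl⟩
      obtain rfl : j = 1 := by
        have : j ≤ 5 := by omega
        interval_cases j <;> omega
      omega
    iterate 7 right
    left
    refine ⟨D, hD, fun i hi => hminus (plus_of_plus_blocks hQ hD.decomp fun j =>
      plusType_of_isometric (hD.isometric i j) hi), eq_inf_of_maximal hH hle
        (not_le_blockStabilizer hQ hn (by norm_num) hD.decomp.decomp)⟩
  · exact absurd (plus_top_of_singular (hts 0) (by rw [hD.finrank_eq]; exact hk)) hminus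
  · rcases (show r = 2 ∨ r = 3 by
      have h12 : r ∣ 2 ^ 2 * 3 := by simpa using hrn
      rcases hr.dvd_mul.1 h12 with h | h
      · exact Or.inl ((Nat.prime_dvd_prime_iff_eq hr Nat.prime_two).1 (hr.dvd_of_dvd_pow h))
      · exact Or.inr ((Nat.prime_dvd_prime_iff_eq hr Nat.prime_three).1 h)) with rfl | rfl
    · iterate 8 right
      left
      exact ⟨K, hK, eq_inf_of_maximal hH hle (not_le_subalgebraNormalizer hQ hn hK le_rfl)⟩
    · iterate 9 right
      left
      exact ⟨K, hK, eq_inf_of_maximal hH hle (not_le_subalgebraNormalizer hQ hn hK (by norm_num))⟩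
  · iterate 8 right
    left
    exact ⟨K, hK, eq_inf_of_maximal hH hle (not_le_subalgebraNormalizer hQ hn hK le_rfl)⟩
  · refine absurd ?_ hminus
    have hc : a * b = 12 := by simpa using (Fintype.card_congr e).symm
    obtain rfl : a = 2 := by
      have : a ≤ 3 := by nlinarith
      rcases (show a = 2 ∨ a = 3 by omega) with h | h
      · exact h
      · subst h
        obtain ⟨j, hj⟩ := even_finrank_of_alternating hf₁.bilinear hf₁.alternating 3 ⊤
          (by simp) (fun w _ hw => by
            obtain ⟨-, x, hx⟩ := hf₁.nondegenerate w hw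
            exact ⟨x, trivial, hx⟩)
        omega
    exact plus_of_pure_singular e P hpure
  · have hc : a * b = 12 := by simpa using (Fintype.card_congr e).symm
    obtain rfl : a = 3 := by nlinarith
    obtain rfl : b = 4 := by omega
    have hodd := odd_of_two_ne_zero h2
    by_cases hq : 5 ≤ Fintype.card F
    · iterate 10 right
      left
      exact ⟨hodd, hq, e, P, f₁, f₂, hf₁, hf₂,
        fun hp => hminus (plus_of_plus_factor hQ h2 e P hf₁ hf₂ hfr hp), hfr,
        eq_inf_of_maximal hH hle (not_le_tensor hQ (by norm_num) (by norm_num) e P (Or.inl le_rfl))⟩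
    · have hq3 : Fintype.card F = 3 := by
        obtain ⟨j, hj⟩ := hodd
        have := Fintype.one_lt_card (α := F)
        omega
      obtain ⟨D, hD, hle'⟩ := decomp_of_three_factor hQ hq3 (by norm_num) e P hf₁ hf₂ hfr hHI hle
      iterate 7 right
      left
      refine ⟨D, hD, fun i hi => hminus (plus_of_plus_blocks hQ hD.decomp fun j =>
        plusType_of_isometric (hD.isometric i j) hi), eq_inf_of_maximal hH hle'
          (not_le_blockStabilizer hQ hn (by norm_num) hD.decomp.decomp)⟩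
  · exfalso
    rw [Fintype.card_fin] at hcard
    have : t ≤ 3 := by
      by_contra h
      have : 2 ^ 4 ≤ k ^ t := (Nat.pow_le_pow_left hk 4).trans (Nat.pow_le_pow_right (by omega) (by omega))
      omega
    interval_cases t
    · have : k ≤ 3 := by nlinarith
      interval_cases k <;> norm_num at hcard
    · have : k ≤ 2 := by
        by_contra h
        have : 3 ^ 3 ≤ k ^ 3 := Nat.pow_le_pow_left (by omega) 3
        omega
      interval_cases k
      norm_num at hcard
  · exact absurd hp hminus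
  · iterate 11 right
    left
    refine ⟨F₀, r, P, ζ, hr, hr.odd_of_ne_two ?_, hc, hζ, hP,
      eq_inf_of_maximal hH hle (not_le_subfieldSubgroup hQ hn hr hc P)⟩
    rintro rfl
    exact hminus (plus_of_subfield_two hQ (by decide) hc hζ hP)

end Cfsg.Agent.S5874
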