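import Cfsg.Statements.S5877
import Cfsg.Agent.Lib.ExtraspecialEigen

set_option autoImplicit false
open Cfsg

namespace Cfsg.Agent.S5877

open scoped commutatorElement

/-- Eigenspaces of elements normalising an absolutely irreducible extraspecial group. Let F be a finite field, r a prime, and R ≤ GL_n(F) an absolutely irreducible extraspecial r-group (an r-group whose centre equals its derived subgroup and has order r) of exponent r or 4. Let g ∈ GL_n(F) normalise the product of R with the scalar matrices, have prime order ϖ and not be scalar, and let W be the eigenspace of g for any c ∈ F (W may be the zero subspace). Then dim W ≤ 3n/4 if ϖ = 2, dim W ≤ 2n/3 if ϖ = 3, and dim W ≤ n/2 if ϖ > 3; moreover if ϖ = 3 and 3 does not divide n then dim W ≤ n/2. -/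
theorem result {F : Type*} [Field F] [Fintype F] {n r ϖ : ℕ} (R : Subgroup (Matrix.GeneralLinearGroup (Fin n) F)) (hr : r.Prime) (hR : IsPGroup r R) (hZ : Nat.card (Subgroup.center R) = r) (hext : commutator R = Subgroup.center R) (hexp : Monoid.exponent R = r ∨ Monoid.exponent R = 4) (hirr : Cfsg.Geo.ActsAbsolutelyIrreducibly (Cfsg.Geo.matrixSet R)) (g : Matrix.GeneralLinearGroup (Fin n) F) (hg : g ∈ Cfsg.Geo.subgroupNormalizer (R ⊔ Cfsg.Geo.scalars (Fin n) F)) (hϖ : ϖ.Prime) (hord : orderOf g = ϖ) (hns : g ∉ Cfsg.Geo.scalars (Fin n) F) (c : F) :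
    (ϖ = 2 → 4 * Module.finrank F (Module.End.eigenspace (Matrix.toLin' (g : Matrix (Fin n) (Fin n) F)) c) ≤ 3 * n) ∧
    (ϖ = 3 → 3 * Module.finrank F (Module.End.eigenspace (Matrix.toLin' (g : Matrix (Fin n) (Fin n) F)) c) ≤ 2 * n) ∧
    (3 < ϖ → 2 * Module.finrank F (Module.End.eigenspace (Matrix.toLin' (g : Matrix (Fin n) (Fin n) F)) c) ≤ n) ∧
    (ϖ = 3 → ¬ 3 ∣ n → 2 * Module.finrank F (Module.End.eigenspace (Matrix.toLin' (g : Matrix (Fin n) (Fin n) F)) c) ≤ n) := by
  set RZ := R ⊔ Cfsg.Geo.scalars (Fin n) F with hRZ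
  have hdec : ∀ a ∈ RZ, ∃ a' ∈ R, ∃ s ∈ Cfsg.Geo.scalars (Fin n) F, a = s * a' := by
    intro a ha
    obtain ⟨x, hx, y, hy, rfl⟩ := Subgroup.mem_sup_of_normal_right.1 ha
    exact ⟨x, hx, y, hy, (CfsgLib.ExtraEigen.scalars_comm hy x).symm⟩
  -- the centre of `R` consists of scalars
  have hcenter : ∀ z ∈ Subgroup.center R, (z : Matrix.GeneralLinearGroup (Fin n) F) ∈ Cfsg.Geo.scalars (Fin n) F := by
    intro z hz
    obtain ⟨c, hc⟩ := hirr.2 (z : Matrix.GeneralLinearGroup (Fin n) F) (by
      rintro _ ⟨x, hx, rfl⟩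
      exact congrArg (fun w : R => ((w : Matrix.GeneralLinearGroup (Fin n) F) : Matrix (Fin n) (Fin n) F))
        (Subgroup.mem_center_iff.1 hz ⟨x, hx⟩).symm)
    rcases Nat.eq_zero_or_pos n with hn | hn
    · subst hn
      rw [Subsingleton.elim ((z : Matrix.GeneralLinearGroup (Fin 0) F)) 1]
      exact Subgroup.one_mem _
    · have hc0 : c ≠ 0 := by
        rintro rfl
        rw [zero_smul] at hc
        haveI : Nonempty (Fin n) := ⟨⟨0, hn⟩⟩
        exact (z : Matrix.GeneralLinearGroup (Fin n) F).ne_zero hc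
      exact (Cfsg.Geo.mem_scalars_iff _).2 ⟨Units.mk0 c hc0, hc⟩
  have hcomm : ∀ a ∈ R, ∀ b ∈ R, ∃ w : Fˣ, w ^ r = 1 ∧ ⁅a, b⁆ = CfsgLib.ExtraEigen.sc w := by
    intro a ha b hb
    have hz : ⁅(⟨a, ha⟩ : R), (⟨b, hb⟩ : R)⁆ ∈ Subgroup.center R := by
      rw [← hext, _root_.commutator_def]
      exact Subgroup.commutator_mem_commutator (Subgroup.mem_top _) (Subgroup.mem_top _)
    have hpow : (⁅a, b⁆ : Matrix.GeneralLinearGroup (Fin n) F) ^ r = 1 := by
      have h : (⟨_, hz⟩ : Subgroup.center R) ^ r = 1 := by rw [← hZ]; exact pow_card_eq_one'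
      exact congrArg (fun w : Subgroup.center R => ((w : R) : Matrix.GeneralLinearGroup (Fin n) F)) h
    obtain ⟨w, hw⟩ := hcenter _ hz
    have hw' : CfsgLib.ExtraEigen.sc w = ⁅a, b⁆ := hw
    rcases Nat.eq_zero_or_pos n with hn | hn
    · subst hn
      exact ⟨1, one_pow r, Subsingleton.elim _ _⟩
    · refine ⟨w, ?_, hw'.symm⟩
      rw [← hw', ← map_pow] at hpow
      have h3 := congrArg (fun z => CfsgLib.ExtraEigen.lin z (fun _ => (1 : F))) hpow
      rw [CfsgLib.ExtraEigen.lin_sc, CfsgLib.ExtraEigen.lin_one] at h3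
      exact Units.ext (by simpa using congrFun h3 ⟨0, hn⟩)
  have H : CfsgLib.ExtraEigen.Hyp RZ g r ϖ :=
    { hr := hr
      ho := hϖ
      sc_le := le_sup_right
      comm := fun a ha b hb => by
        obtain ⟨a', ha', s, hs, rfl⟩ := hdec a ha
        obtain ⟨b', hb', t, ht, rfl⟩ := hdec b hb
        rw [CfsgLib.ExtraEigen.comm_scalar_left hs, CfsgLib.ExtraEigen.comm_scalar_right ht]
        exact hcomm a' ha' b' hb'
      cen := fun x hx => by
        obtain ⟨c, hc⟩ := hirr.2 (x : Matrix (Fin n) (Fin n) F) (by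
          rintro _ ⟨y, hy, rfl⟩
          exact congrArg Units.val (hx y (le_sup_left (b := Cfsg.Geo.scalars (Fin n) F) hy)).symm)
        rcases Nat.eq_zero_or_pos n with hn | hn
        · subst hn
          rw [Subsingleton.elim x 1]
          exact Subgroup.one_mem _
        · have hc0 : c ≠ 0 := by
            rintro rfl
            rw [zero_smul] at hc
            haveI : Nonempty (Fin n) := ⟨⟨0, hn⟩⟩
            exact x.ne_zero hc
          exact (Cfsg.Geo.mem_scalars_iff _).2 ⟨Units.mk0 c hc0, hc⟩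
      pgroup := by
        have h : RZ.map (QuotientGroup.mk' (Cfsg.Geo.scalars (Fin n) F)) =
            R.map (QuotientGroup.mk' (Cfsg.Geo.scalars (Fin n) F)) := by
          rw [hRZ, Subgroup.map_sup, QuotientGroup.map_mk'_self, sup_bot_eq]
        rw [h]
        exact hR.map _
      norm := hg
      ord := hord
      gns := hns }
  obtain ⟨h2, h3⟩ := H.bounds c
  have hrn : r ∣ n := by
    obtain ⟨a, ha, b, hb, hab⟩ : ∃ a ∈ R, ∃ b ∈ R, a * b ≠ b * a := by
      by_contra hcon
      push Not at hcon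
      have hbot : commutator R = ⊥ := by
        rw [_root_.commutator_def, Subgroup.commutator_eq_bot_iff_le_centralizer]
        intro x _ y _
        exact Subtype.ext (hcon y y.2 x x.2)
      rw [hext] at hbot
      rw [hbot, Subgroup.card_bot] at hZ
      exact hr.ne_one hZ.symm
    obtain ⟨w, hw, hwc⟩ := hcomm a ha b hb
    have hw1 : w ≠ 1 := by
      rintro rfl
      rw [map_one, commutatorElement_eq_one_iff_mul_comm] at hwc
      exact hab hwc
    haveI := Fact.mk hr
    rw [← orderOf_eq_prime hw hw1, orderOf_dvd_iff_pow_eq_one]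
    have hd := congrArg Matrix.GeneralLinearGroup.det hwc
    rw [map_commutatorElement, commutatorElement_eq_one_iff_mul_comm.2 (mul_comm _ _)] at hd
    refine Units.ext ?_
    have hd2 := congrArg Units.val hd
    simpa [CfsgLib.ExtraEigen.sc, ← Matrix.smul_one_eq_diagonal] using hd2.symm
  refine ⟨fun h => h2 h, fun h => ?_, fun h => ?_, fun h h' => ?_⟩
  · rcases h3 (by omega) with h4 | ⟨-, -, h4⟩
    · show 3 * Module.finrank F (CfsgLib.ExtraEigen.eig g c) ≤ 2 * n
      omega
    · exact h4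
  · rcases h3 (by omega) with h4 | ⟨h5, -, -⟩
    · exact h4
    · omega
  · rcases h3 (by omega) with h4 | ⟨-, h5, -⟩
    · exact h4
    · exact absurd (h5 ▸ hrn) h'


end Cfsg.Agent.S5877
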