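import Cfsg.Statements.S5885
import Cfsg.Agent.Lib.MaxSub.OddDegreeSecondMax

set_option autoImplicit false
open Cfsg

namespace Cfsg.Agent.S5885

/-- Let n be an odd positive integer such that every primitive permutation group of degree n contains the alternating group (so the symmetric and alternating groups are the only primitive groups of degree n). Let G be a finite group, M a maximal subgroup of G of index n, and H a maximal subgroup of M. Then H is a second maximal subgroup of G: H is maximal in every maximal subgroup K of G containing H. -/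
theorem result {G : Type*} [Group G]
    [Finite G] (n : ℕ) (hodd : Odd n)
    (hA : ∀ P : Subgroup (Equiv.Perm (Fin n)), MulAction.IsPreprimitive P (Fin n) → alternatingGroup (Fin n) ≤ P)
    (M : Subgroup G) (hM : IsCoatom M) (hn : M.index = n) (H : Subgroup G) (hHM : H ≤ M)
    (hmax : IsCoatom (H.subgroupOf M)) (K : Subgroup G) (hK : IsCoatom K) (hHK : H ≤ K) :
    IsCoatom (H.subgroupOf K) := by
  classical
  have hidx : M.index ≠ 0 := Subgroup.index_ne_zero_of_finite
  letI : Fintype (G ⧸ M) := Fintype.ofFinite _
  have hcard : Fintype.card (G ⧸ M) = n := by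
    rw [← Nat.card_eq_fintype_card, ← Subgroup.index_eq_card, hn]
  have hst : MulAction.stabilizer G ((1 : G) : G ⧸ M) = M := MulAction.stabilizer_quotient M
  haveI : Nontrivial (G ⧸ M) := by
    rw [← Finite.one_lt_card_iff_nontrivial, ← Subgroup.index_eq_card]
    have := Subgroup.one_lt_index_of_ne_top hM.1
    exact this
  haveI hprim : MulAction.IsPreprimitive G (G ⧸ M) :=
    (MulAction.isCoatom_stabilizer_iff_preprimitive G ((1 : G) : G ⧸ M)).1 (hst.symm ▸ hM)
  let e : (G ⧸ M) ≃ Fin n := Fintype.equivFinOfCardEq hcard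
  obtain ⟨P, hP⟩ : ∃ P : Subgroup (Equiv.Perm (Fin n)),
      P = ((e.permCongrHom : Equiv.Perm (G ⧸ M) ≃* Equiv.Perm (Fin n)).toMonoidHom.comp
        (MulAction.toPermHom G (G ⧸ M))).range := ⟨_, rfl⟩
  let ρ : G → P := fun g => ⟨e.permCongr (MulAction.toPerm g), hP ▸ ⟨g, rfl⟩⟩
  have hPprim : MulAction.IsPreprimitive P (Fin n) := by
    let f : (G ⧸ M) →ₑ[ρ] Fin n :=
      { toFun := e
        map_smul' := fun g x => by
          show e (g • x) = e.permCongr (MulAction.toPerm g) (e x)
          simp [Equiv.permCongr_apply] }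
    exact MulAction.IsPreprimitive.of_surjective (f := f) e.surjective
  have hAlt : alternatingGroup (G ⧸ M) ≤ (MulAction.toPermHom G (G ⧸ M)).range := by
    intro σ hσ
    have h1 : e.permCongr σ ∈ alternatingGroup (Fin n) := by
      rw [Equiv.Perm.mem_alternatingGroup, Equiv.Perm.sign_permCongr]
      exact Equiv.Perm.mem_alternatingGroup.1 hσ
    have h2 := hA P hPprim h1
    rw [hP] at h2
    obtain ⟨g, hg⟩ := h2
    exact ⟨g, e.permCongr.injective hg⟩
  rw [← hst] at hHM hmax
  exact CfsgLib.MaxSub.OddDegree.second_maximal (hcard ▸ hodd) hAlt _ (hst.symm ▸ hM) H hHM hmax K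
    hK hHK

end Cfsg.Agent.S5885
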