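import Cfsg.Statements.S5887
import Cfsg.Agent.Lib.Aschbacher.SubfieldNotMaximal

set_option autoImplicit false
open Cfsg

namespace Cfsg.Agent.S5887

/-- Let F be a finite field, n a positive integer and r a composite number (r > 1, not prime) that divides n with r < n. Let K be a subalgebra of the algebra of n × n matrices over F which is a field of degree r over F (commutative, every non-zero element invertible, of dimension r over F). Then the normaliser N of K in GL_n(F) (a group of type ΓL_{n/r}(F_{q^r})) is not a maximal subgroup of GL_n(F), and N ∩ SL_n(F) is not a maximal subgroup of SL_n(F): both lie properly inside the normaliser of an intermediate subfield of prime degree over F. -/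
theorem result {F : Type*} [Field F]
    [Fintype F] (n r : ℕ) (hr1 : 1 < r) (hrp : ¬ r.Prime) (hrn : r ∣ n) (hlt : r < n)
    (K : Subalgebra F (Matrix (Fin n) (Fin n) F)) (hK : Cfsg.Geo.IsFieldSubalgebra r K) :
    ¬ IsCoatom (Cfsg.Geo.subalgebraNormalizer K) ∧
      ¬ Cfsg.Geo.IsMaximalIn (Cfsg.Geo.specialLinear (Fin n) F)
        (Cfsg.Geo.subalgebraNormalizer K ⊓ Cfsg.Geo.specialLinear (Fin n) F) := by
  obtain ⟨s, hsr, hs1, hsl⟩ : ∃ s, s ∣ r ∧ 1 < s ∧ s < r := by
    obtain ⟨s, hs, h1, h2⟩ := Nat.exists_dvd_of_not_prime2 hr1 hrp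
    exact ⟨s, hs, h1, h2⟩
  obtain ⟨L, hL, hLK, hN⟩ :=
    CfsgLib.Aschbacher.exists_subfield hK hsr (by omega) (by omega)
  obtain ⟨g, hg, hgL, hgK⟩ :=
    CfsgLib.Aschbacher.exists_centralizing_not_normalizing hK hL hLK hsl hlt
  have hnot : ¬ Cfsg.Geo.specialLinear (Fin n) F ≤ Cfsg.Geo.subalgebraNormalizer L :=
    CfsgLib.Aschbacher.not_le_subalgebraNormalizer hL hs1 (by rw [Fintype.card_fin]; omega)
  refine ⟨fun hc => ?_, fun hc => ?_⟩
  · have hlt' : Cfsg.Geo.subalgebraNormalizer K < Cfsg.Geo.subalgebraNormalizer L :=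
      lt_of_le_of_ne hN fun e => hgK (by rw [e]; exact hgL)
    exact hnot ((hc.2 _ hlt').symm ▸ le_top)
  · rcases hc.2 (Cfsg.Geo.subalgebraNormalizer L ⊓ Cfsg.Geo.specialLinear (Fin n) F)
      (inf_le_inf_right _ hN) inf_le_right with e | e
    · have hmem : g ∈ Cfsg.Geo.subalgebraNormalizer L ⊓ Cfsg.Geo.specialLinear (Fin n) F := ⟨hgL, hg⟩
      rw [e] at hmem
      exact hgK hmem.1
    · exact hnot (by rw [← e]; exact inf_le_left)

end Cfsg.Agent.S5887
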