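import Cfsg.Statements.S5890
import Cfsg.Agent.Lib.PSL2Max.PglShape
import Cfsg.Agent.Lib.PSL2Max.PglCoatom
-- import your own Cfsg.Agent.* helpers here

set_option autoImplicit false
open Cfsg

namespace Cfsg.Agent.S5890

/-- Let F be a finite field with q ≥ 4 elements, let L ≤ PGL₂(F) be the image of SL₂(F) (a copy of PSL₂(F), of index gcd(2, q − 1)), and let M be a maximal subgroup of PGL₂(F) that does not contain L. Suppose q ∉ {7, 9, 11} and that q is not a prime congruent to ±11 or ±19 modulo 40. Then M ∩ L is a maximal subgroup of L. (For the excluded q there are maximal subgroups of PGL₂(q) — dihedral groups of order 12 and 16 at q = 7, of order 20 and 16 at q = 9, of order 20 at q = 11, and S₄ at the excluded primes — whose intersection with L is not maximal in L.) -/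
theorem result {F : Type*} [Field F]
    [Fintype F] (h4 : 4 ≤ Fintype.card F) (h7 : Fintype.card F ≠ 7) (h9 : Fintype.card F ≠ 9) (h11 : Fintype.card F ≠ 11)
    (h40 : (Fintype.card F).Prime → Fintype.card F % 40 ∉ ({11, 19, 21, 29} : Finset ℕ))
    (M : Subgroup (Matrix.ProjGenLinGroup (Fin 2) F)) (hM : IsCoatom M)
    (hML : ¬ (Matrix.ProjGenLinGroup.mk.comp Matrix.SpecialLinearGroup.toGL).range ≤ M) :
    IsCoatom ((M ⊓ (Matrix.ProjGenLinGroup.mk.comp Matrix.SpecialLinearGroup.toGL).range).subgroupOf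
      (Matrix.ProjGenLinGroup.mk.comp Matrix.SpecialLinearGroup.toGL).range) := by
  classical
  obtain ⟨p, hpc⟩ := CharP.exists F
  haveI := Fact.mk (CharP.char_is_prime F p)
  have hp := (Fact.out : p.Prime)
  obtain ⟨m, hm0, hm⟩ := FiniteField.card F p
  rw [← CfsgLib.PSL2Max.range_phi] at hML ⊢
  set L := (CfsgLib.PSL2Max.phi (F := F)).range with hL
  -- transport to `PSL`
  suffices key : IsCoatom (M.comap (CfsgLib.PSL2Max.phi (F := F))) by
    have h := ((MonoidHom.ofInjective (CfsgLib.PSL2Max.phi_injective (F := F))).mapSubgroup.isCoatom_iff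
      (M.comap (CfsgLib.PSL2Max.phi (F := F)))).mpr key
    have hcongr : (MonoidHom.ofInjective (CfsgLib.PSL2Max.phi_injective (F := F))).mapSubgroup
        (M.comap (CfsgLib.PSL2Max.phi (F := F))) = (M ⊓ L).subgroupOf L := by
      ext ⟨y, x, rfl⟩
      constructor
      · rintro ⟨z, hz, e⟩
        have e' : CfsgLib.PSL2Max.phi z = CfsgLib.PSL2Max.phi x := congrArg Subtype.val e
        exact Subgroup.mem_subgroupOf.mpr ⟨show CfsgLib.PSL2Max.phi x ∈ M from e' ▸ hz, x, rfl⟩
      · intro hx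
        exact ⟨x, (Subgroup.mem_subgroupOf.mp hx).1, Subtype.ext rfl⟩
    rwa [hcongr] at h
  rcases CfsgLib.DicksonFull.gcd_cases (F := F) p with ⟨hg, hev⟩ | ⟨hg, hodd⟩
  · -- in characteristic two `PSL` is all of `PGL`
    have hc := CfsgLib.DicksonFull.card_psl (F := F)
    rw [hg, one_mul, ← CfsgLib.SLCard.card_SL_two, ← CfsgLib.SLCard.card_PGL] at hc
    haveI := CfsgLib.PSL2Max.finite_pgl (F := F)
    have hbij : Function.Bijective (CfsgLib.PSL2Max.phi (F := F)) :=
      (Nat.bijective_iff_injective_and_card _).mpr ⟨CfsgLib.PSL2Max.phi_injective, hc⟩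
    have e := ((MulEquiv.ofBijective _ hbij).symm.mapSubgroup.isCoatom_iff M).mpr hM
    convert e using 1
    ext x
    constructor
    · intro hx
      exact ⟨CfsgLib.PSL2Max.phi x, hx, (MulEquiv.ofBijective _ hbij).symm_apply_apply x⟩
    · rintro ⟨y, hy, rfl⟩
      show CfsgLib.PSL2Max.phi _ ∈ M
      have := (MulEquiv.ofBijective _ hbij).apply_symm_apply y
      exact this.symm ▸ hy
  have hp2 : p ≠ 2 := by
    rintro rfl
    have := FiniteField.even_card_iff_char_two.mp (ringChar.eq F 2)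
    omega
  have h : CfsgLib.PSL2Max.Setup M := ⟨hM, CfsgLib.PSL2Max.index_range p hp2, hML⟩
  have h5 : 5 ≤ Fintype.card F := by omega
  rcases CfsgLib.PSL2Max.pgl_shape p hp2 h5 h with ⟨u, hu, he, -⟩ |
    ⟨w, n, hw, hn, hne, he, hT, hc, -⟩ | ⟨hqp, h8, ⟨e⟩, -⟩ | ⟨K, iK, iK', r, hr, hro, hq, ⟨e⟩⟩
  · rw [he]; exact CfsgLib.PSL2Max.coatom_bor p hp2 h5 hu
  · have h3 : 3 ≤ n := by
      by_contra h3
      rcases hn with hn | hn
      · omega
      · exact hne ⟨by omega, hn⟩
    rw [he] at hc ⊢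
    exact CfsgLib.PSL2Max.coatom_torus p hp2 h7 h9 h11 h5 hw hn h3 hT hc
  · have h40' := h40 (hqp ▸ hp)
    simp at h40'
    rw [hqp] at h40' h8 h5
    exact CfsgLib.PSL2Max.coatom_a4 p hqp h5 h8 (by omega) e
  · letI := iK'
    have hKo : Odd (Fintype.card K) := (Nat.odd_pow_iff hr.ne_zero).mp (hq ▸ Nat.odd_iff.mpr hodd)
    have h3 : 3 ≤ Fintype.card K := by
      have := Fintype.one_lt_card (α := K)
      obtain ⟨j, hj⟩ := hKo
      omega
    have hc : 2 * Nat.card (M.comap (CfsgLib.PSL2Max.phi (F := F))) =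
        Fintype.card K * (Fintype.card K ^ 2 - 1) := by
      rw [← h.card, Nat.card_congr e.toEquiv, CfsgLib.SLCard.card_PGL, CfsgLib.SLCard.card_SL_two]
    have h2K : (2 : K) ≠ 0 := CfsgLib.SL2Orders.two_ne_zero_of_odd hKo
    obtain ⟨a, -, b, -, hab⟩ := CfsgLib.PSL2Max.pgl_pair h2K (⊤ : Subgroup (Matrix.ProjGenLinGroup (Fin 2) K))
      Subgroup.topEquiv
    have hab' := hab.map_inj (M.subtype.comp e.symm.toMonoidHom) (M.subtype_injective.comp e.symm.injective)
    set a' := (M.subtype.comp e.symm.toMonoidHom) a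
    set b' := (M.subtype.comp e.symm.toMonoidHom) b
    have hcube : ∀ x, x ^ 3 = 1 → x ∈ (CfsgLib.PSL2Max.phi (F := F)).range := fun x hx => by
      have hsq := Subgroup.mul_self_mem_of_index_two h.index_two (x * x)
      rwa [show x * x * (x * x) = x ^ 3 * x by simp only [pow_succ, pow_zero, one_mul, mul_assoc], hx, one_mul] at hsq
    obtain ⟨xa, hxa⟩ := hcube a' hab'.ha
    obtain ⟨xb, hxb⟩ : b' ∈ (CfsgLib.PSL2Max.phi (F := F)).range :=
      ((CfsgLib.PSL2Max.phi (F := F)).range.mul_mem_cancel_left (hcube a' hab'.ha)).mp (hcube _ hab'.hab)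
    have hpair : ∃ a ∈ M.comap (CfsgLib.PSL2Max.phi (F := F)), ∃ b ∈ M.comap (CfsgLib.PSL2Max.phi (F := F)),
        CfsgLib.PSL2Max.IsPair a b :=
      ⟨xa, show CfsgLib.PSL2Max.phi xa ∈ M from hxa ▸ (e.symm a).2, xb,
        show CfsgLib.PSL2Max.phi xb ∈ M from hxb ▸ (e.symm b).2,
        ⟨CfsgLib.PSL2Max.phi_injective (by rw [map_pow, hxa, hab'.ha, map_one]),
         CfsgLib.PSL2Max.phi_injective (by rw [map_pow, hxb, hab'.hb, map_one]),
         CfsgLib.PSL2Max.phi_injective (by rw [map_pow, map_mul, hxa, hxb, hab'.hab, map_one]),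
         fun h1 => hab'.ne (by rw [← hxb, h1, map_one])⟩⟩
    exact CfsgLib.PSL2Max.coatom_field p (Fintype.card K) r hq hKo h3 hr hro hp2 hc hpair

end Cfsg.Agent.S5890
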