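import Cfsg.Statements.S5891
import Cfsg.Agent.Lib.PSL2Max.PglShape
-- import your own Cfsg.Agent.* helpers here

set_option autoImplicit false
open Cfsg

namespace Cfsg.Agent.S5891

/-- Let F be a finite field of odd order q > 3 and characteristic p, and let M be a maximal subgroup of PGL₂(F) not containing the image L of SL₂(F) (a copy of PSL₂(F) of index 2). Then one of the following holds: |M| = q(q − 1) (M is the stabiliser of a point of the projective line); q ≠ 5 and M is dihedral of order 2(q − 1); M is dihedral of order 2(q + 1); q = p ≡ ±3 (mod 8) and M ≅ S₄; or q = q₀^r for an odd prime r and M ≅ PGL₂(F₀) with |F₀| = q₀. -/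
theorem result {F : Type*} [Field F] [Fintype F]
    (hodd : Odd (Fintype.card F)) (h3 : 3 < Fintype.card F) (M : Subgroup (Matrix.ProjGenLinGroup (Fin 2) F)) (hM : IsCoatom M)
    (hML : ¬ (Matrix.ProjGenLinGroup.mk.comp Matrix.SpecialLinearGroup.toGL).range ≤ M) :
    Nat.card M = Fintype.card F * (Fintype.card F - 1) ∨
    (Fintype.card F ≠ 5 ∧ Nonempty (M ≃* DihedralGroup (Fintype.card F - 1))) ∨
    Nonempty (M ≃* DihedralGroup (Fintype.card F + 1)) ∨
    ((Fintype.card F).Prime ∧ (Fintype.card F % 8 = 3 ∨ Fintype.card F % 8 = 5) ∧ Nonempty (M ≃* Equiv.Perm (Fin 4))) ∨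
    (∃ (F₀ : Type) (_ : Field F₀) (_ : Fintype F₀) (r : ℕ), r.Prime ∧ Odd r ∧ Fintype.card F = Fintype.card F₀ ^ r ∧
        Nonempty (M ≃* Matrix.ProjGenLinGroup (Fin 2) F₀)) := by
  classical
  obtain ⟨p, hpc⟩ := CharP.exists F
  haveI := Fact.mk (CharP.char_is_prime F p)
  have hqo := Nat.odd_iff.mp hodd
  have hp2 : p ≠ 2 := by
    rintro rfl
    have := FiniteField.even_card_iff_char_two.mp (ringChar.eq F 2)
    omega
  rw [← CfsgLib.PSL2Max.range_phi] at hML
  have hidx := CfsgLib.PSL2Max.index_range (F := F) p hp2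
  rcases CfsgLib.PSL2Max.pgl_shape p hp2 (by omega) ⟨hM, hidx, hML⟩ with ⟨u, -, -, h⟩ |
    ⟨w, n, -, hn, hne, -, -, -, h⟩ | ⟨hqp, h8, -, h⟩ | ⟨K, iK, iK', r, hr, hro, hq, h⟩
  · exact Or.inl h
  · rcases hn with hn | hn
    · exact Or.inr (Or.inr (Or.inl (hn ▸ h)))
    · exact Or.inr (Or.inl ⟨fun h5 => hne ⟨h5, hn⟩, hn ▸ h⟩)
  · exact Or.inr (Or.inr (Or.inr (Or.inl ⟨hqp ▸ Fact.out, h8, h⟩)))
  · exact Or.inr (Or.inr (Or.inr (Or.inr ⟨K, iK, iK', r, hr, hro, hq, h⟩)))

end Cfsg.Agent.S5891
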