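import Cfsg.Statements.S5893
import Cfsg.Agent.Lib.PSL2Max.Shape
-- import your own Cfsg.Agent.* helpers here

set_option autoImplicit false
open Cfsg

namespace Cfsg.Agent.S5893

theorem a5_pair : ∃ a b : alternatingGroup (Fin 5),
    a ≠ 1 ∧ a ^ 2 = 1 ∧ b ≠ 1 ∧ b ^ 2 = 1 ∧ b * a ≠ a * b := by decide +kernel

set_option maxRecDepth 8000 in
theorem a5_counts : ∀ a : alternatingGroup (Fin 5), a ≠ 1 → a ^ 2 = 1 →
    (Finset.univ.filter fun c => c * a = a * c).card = 4 ∧
    (Finset.univ.filter fun c => (c * a * c⁻¹) * a = a * (c * a * c⁻¹)).card = 12 := by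
  decide +kernel

/-- Let F be a finite field of even order q ≥ 4 and let M be a maximal subgroup of PSL₂(F) (= SL₂(F) = PGL₂(F)). Then one of the following holds: |M| = q(q − 1) (the stabiliser of a point of the projective line, elementary abelian of order q extended by a cyclic group of order q − 1); M is dihedral of order 2(q − 1); M is dihedral of order 2(q + 1); or q = q₀^r for a prime r with q₀ ≠ 2 and M ≅ PSL₂(F₀) with |F₀| = q₀. -/
theorem result {F : Type*} [Field F] [Fintype F]
    (heven : Even (Fintype.card F)) (h4 : 4 ≤ Fintype.card F) (M : Subgroup (Matrix.ProjectiveSpecialLinearGroup (Fin 2) F)) (hM : IsCoatom M) :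
    Nat.card M = Fintype.card F * (Fintype.card F - 1) ∨
    Nonempty (M ≃* DihedralGroup (Fintype.card F - 1)) ∨
    Nonempty (M ≃* DihedralGroup (Fintype.card F + 1)) ∨
    (∃ (F₀ : Type) (_ : Field F₀) (_ : Fintype F₀) (r : ℕ), r.Prime ∧ Fintype.card F₀ ≠ 2 ∧
        Fintype.card F = Fintype.card F₀ ^ r ∧ Nonempty (M ≃* Matrix.ProjectiveSpecialLinearGroup (Fin 2) F₀)) := by
  classical
  obtain ⟨p, hpc⟩ := CharP.exists F
  haveI := Fact.mk (CharP.char_is_prime F p)
  obtain ⟨k, -, hk⟩ := FiniteField.card F p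
  obtain rfl : p = 2 := ((Nat.prime_dvd_prime_iff_eq Nat.prime_two Fact.out).mp
    (Nat.prime_two.dvd_of_dvd_pow (hk ▸ heven.two_dvd))).symm
  have hg : Nat.gcd 2 (Fintype.card F - 1) = 1 := Nat.coprime_two_left.mpr (by
    obtain ⟨j, hj⟩ := heven; exact ⟨j - 1, by omega⟩)
  have hfield : ∀ (K : Type) [Field K] [Fintype K] (m : ℕ) (φ : K →+* F) (S : Subfield F)
      (N : GL (Fin 2) F), m.Prime → 3 ≤ Fintype.card K → Fintype.card F = Fintype.card K ^ m →
      (∀ a, φ a ∈ S) → Nat.card M ≤ Fintype.card K * (Fintype.card K ^ 2 - 1) →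
      M.map (CfsgLib.PSL2.diagAut N).toMonoidHom = CfsgLib.PSL2Max.scaled S →
      ∃ (F₀ : Type) (_ : Field F₀) (_ : Fintype F₀) (r : ℕ), r.Prime ∧ Fintype.card F₀ ≠ 2 ∧
        Fintype.card F = Fintype.card F₀ ^ r ∧
        Nonempty (M ≃* Matrix.ProjectiveSpecialLinearGroup (Fin 2) F₀) := by
    intro K _ _ m φ S N hm hK3 hF hφS hle hN
    refine ⟨K, inferInstance, inferInstance, m, hm, by omega, hF, ?_⟩
    obtain ⟨R, ⟨eR⟩, hRS⟩ := CfsgLib.PSL2Max.exists_psl φ S hφS
    rw [← hN] at hRS
    have hR : R = M.map (CfsgLib.PSL2.diagAut N).toMonoidHom := Subgroup.eq_of_le_of_card_ge hRS (by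
      have hc := CfsgLib.DicksonFull.card_psl (F := K)
      have hKe : Even (Fintype.card K) := by
        rw [hF] at heven
        exact (Nat.even_pow.mp heven).1
      rw [show Nat.gcd 2 (Fintype.card K - 1) = 1 from Nat.coprime_two_left.mpr (by
        obtain ⟨j, hj⟩ := hKe; exact ⟨j - 1, by omega⟩), one_mul] at hc
      rw [Subgroup.card_map_of_injective (f := (CfsgLib.PSL2.diagAut N).toMonoidHom)
        (CfsgLib.PSL2.diagAut N).injective, Nat.card_congr eR.toEquiv, hc]
      exact hle)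
    subst hR
    exact ⟨(M.equivMapOfInjective _ (CfsgLib.PSL2.diagAut N).injective).trans eR⟩
  have hinvol : ∀ z : Matrix.ProjectiveSpecialLinearGroup (Fin 2) F, z ^ 4 = 1 → z ^ 2 = 1 := by
    intro z hz
    by_cases hz1 : z = 1
    · simp [hz1]
    rcases (CfsgLib.DicksonFull.psl (F := F) 2).order_cases z hz1 with ⟨-, hs⟩ | ho
    · exfalso
      obtain ⟨i, -, hi⟩ := (Nat.dvd_prime_pow Nat.prime_two).mp
        (show orderOf z ∣ 2 ^ 2 from orderOf_dvd_of_pow_eq_one hz)
      rcases Nat.eq_zero_or_pos i with rfl | hi0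
      · exact hz1 (orderOf_eq_one_iff.mp hi)
      · exact hs (hi ▸ dvd_pow_self 2 (by omega))
    · exact (congrArg (fun i => z ^ i) ho).symm.trans (pow_orderOf_eq_one z)
  rcases CfsgLib.PSL2Max.coatom_shape 2 h4 hM with h | ⟨T, n, hn, hT, hN, hcM, hiso⟩ | ⟨⟨e⟩⟩ |
    ⟨⟨e⟩⟩ | ⟨⟨e⟩⟩ | ⟨K, _, _, m, φ, S, N, hm, hK3, hF, hφS, hle, hiso, hN⟩
  · rw [hg, one_mul] at h
    exact Or.inl h
  · rw [hg, one_mul] at hn
    rcases hn with rfl | rfl
    · exact Or.inr (Or.inr (Or.inl hiso))
    · exact Or.inr (Or.inl hiso)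
  · left
    -- `A₄` is a point stabiliser of `PSL₂(4)`
    set f : alternatingGroup (Fin 4) →* Matrix.ProjectiveSpecialLinearGroup (Fin 2) F :=
      M.subtype.comp e.symm.toMonoidHom with hf
    have hfi : Function.Injective f := M.subtype_injective.comp e.symm.injective
    set V := CfsgLib.PSL2Max.kleinA4.map f with hV
    have hfr : f.range = M := by
      rw [hf, MonoidHom.range_comp, MonoidHom.range_eq_top.mpr e.symm.surjective,
        ← MonoidHom.range_eq_map, Subgroup.range_subtype]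
    have hcV : Nat.card V = 4 := by
      rw [hV, Subgroup.card_map_of_injective hfi, CfsgLib.PSL2Max.card_kleinA4]
    have hcM : Nat.card M = 12 := by rw [Nat.card_congr e.toEquiv, CfsgLib.PSL2Max.card_a4]
    have hN : Subgroup.normalizer (V : Set (Matrix.ProjectiveSpecialLinearGroup (Fin 2) F)) = M := by
      refine CfsgLib.PSL2Max.normalizer_eq h4 hM (hfr ▸ Subgroup.map_le_range f _) ?_ fun h => ?_
      · have := CfsgLib.PSL2Max.kleinA4.le_normalizer_map f
        rwa [Subgroup.normalizer_eq_top, ← MonoidHom.range_eq_map, hfr] at this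
      · rw [h, Subgroup.card_bot] at hcV; omega
    obtain ⟨u, huV, hu1⟩ : ∃ u ∈ V, u ≠ 1 := by
      by_contra hc
      push Not at hc
      rw [(Subgroup.eq_bot_iff_forall V).mpr hc, Subgroup.card_bot] at hcV
      omega
    have hVsq : ∀ v ∈ V, v ^ 2 = 1 := by
      rintro _ ⟨a, ha, rfl⟩
      rw [← map_pow, show a ^ 2 = 1 from ha, map_one]
    have hu : orderOf u = 2 := orderOf_eq_prime (hVsq u huV) hu1
    have hcen : CfsgLib.DicksonFull.cent u ≤ M := by
      rw [← hN]
      refine le_trans ?_ (Subgroup.centralizer_le_normalizer _)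
      intro y hy
      rw [Subgroup.mem_centralizer_iff]
      intro v hv
      have hvu : Commute v u := by
        have hm : ∀ a ∈ V, a⁻¹ = a := fun a ha => inv_eq_of_mul_eq_one_right (by rw [← pow_two]; exact hVsq a ha)
        have := hm _ (V.mul_mem hv huV)
        rw [mul_inv_rev, hm v hv, hm u huV] at this
        exact this.symm
      exact (((CfsgLib.DicksonFull.psl (F := F) 2).u_cen u v y hu hvu
        (CfsgLib.DicksonFull.mem_cent.mp hy)).1)
    have hd := Subgroup.card_dvd_of_le hcen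
    rw [CfsgLib.DicksonFull.card_cent 2 hu, hcM, hk] at hd
    have hk2 : (k : ℕ) = 2 := by
      have h3 : (k : ℕ) ≤ 2 := by
        by_contra h
        exact absurd ((pow_dvd_pow 2 (show 3 ≤ (k : ℕ) by omega)).trans hd) (by norm_num)
      rcases (show (k : ℕ) = 2 ∨ (k : ℕ) < 2 by omega) with h | h
      · exact h
      · have h2 : 2 ^ (k : ℕ) ≤ 2 ^ 1 := Nat.pow_le_pow_right (by norm_num) (by omega)
        rw [hk] at h4
        omega
    rw [hcM, hk, hk2]
    norm_num
  · exfalso
    obtain ⟨a, ha, ha'⟩ := CfsgLib.PSL2Max.s4_order_four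
    have h1 := hinvol (e.symm a : M) (by rw [← SubgroupClass.coe_pow, ← map_pow, ha, map_one]; rfl)
    rw [← SubgroupClass.coe_pow, ← map_pow] at h1
    exact ha' (e.symm.injective ((Subtype.ext h1 : e.symm (a ^ 2) = 1).trans (map_one _).symm))
  · -- `A₅ ≅ PSL₂(4)`
    obtain ⟨a, b, ha1, ha2, hb1, hb2, hab⟩ := a5_pair
    set u : Matrix.ProjectiveSpecialLinearGroup (Fin 2) F := (e.symm a).val with hu'
    set v : Matrix.ProjectiveSpecialLinearGroup (Fin 2) F := (e.symm b).val with hv'
    have hord : ∀ c : alternatingGroup (Fin 5), c ≠ 1 → c ^ 2 = 1 →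
        orderOf ((e.symm c : M) : Matrix.ProjectiveSpecialLinearGroup (Fin 2) F) = 2 := fun c h1 h2 => by
      rw [Subgroup.orderOf_coe, e.symm.orderOf_eq]
      exact orderOf_eq_prime h2 h1
    have huv : ¬ Commute v u := fun h => hab (e.symm.injective (by
      rw [map_mul, map_mul]; exact Subtype.ext h.eq))
    have hc5 : Nat.card M = 60 := by rw [Nat.card_congr e.toEquiv, CfsgLib.PSL2Max.card_a5]
    obtain ⟨n4, n12⟩ := a5_counts a ha1 ha2
    have hcomm : ∀ (c d : M), Commute (c : Matrix.ProjectiveSpecialLinearGroup (Fin 2) F) d ↔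
        e c * e d = e d * e c := fun c d => by
      constructor
      · intro h
        rw [← map_mul, ← map_mul]
        exact congrArg e (Subtype.ext h.eq)
      · intro h
        rw [← map_mul, ← map_mul] at h
        exact congrArg Subtype.val (e.injective h)
    have hcount : ∀ (W : Subgroup (Matrix.ProjectiveSpecialLinearGroup (Fin 2) F))
        (P : alternatingGroup (Fin 5) → Prop) [DecidablePred P],
        (∀ c : M, (c : Matrix.ProjectiveSpecialLinearGroup (Fin 2) F) ∈ W ↔ P (e c)) →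
        Nat.card (M ⊓ W : Subgroup (Matrix.ProjectiveSpecialLinearGroup (Fin 2) F)) =
          (Finset.univ.filter P).card := fun W P _ hWP => by
      rw [← Nat.card_eq_finsetCard]
      refine Nat.card_congr
        { toFun := fun z => ⟨e ⟨z.1, z.2.1⟩, Finset.mem_filter.mpr ⟨Finset.mem_univ _, (hWP _).mp z.2.2⟩⟩
          invFun := fun c => ⟨(e.symm c.1 : M), (e.symm c.1).2, (hWP _).mpr (by
            rw [e.apply_symm_apply]; exact (Finset.mem_filter.mp c.2).2)⟩
          left_inv := fun z => Subtype.ext (by simp)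
          right_inv := fun c => Subtype.ext (by simp) }
    have hQ := hcount (CfsgLib.DicksonFull.cent u) (fun c => c * a = a * c) fun c => by
      rw [CfsgLib.DicksonFull.mem_cent, hu', hcomm, e.apply_symm_apply]
    have hB := hcount (CfsgLib.DicksonFull.bor u) (fun c => (c * a * c⁻¹) * a = a * (c * a * c⁻¹)) fun c => by
      rw [CfsgLib.DicksonFull.mem_bor (CfsgLib.DicksonFull.psl (F := F) 2) (hord a ha1 ha2),
        ← Subgroup.coe_inv, ← Subgroup.coe_mul, ← Subgroup.coe_mul, hcomm, map_mul, map_mul, map_inv,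
        e.apply_symm_apply]
    rw [n4] at hQ
    rw [n12] at hB
    have hlt : Nat.card M < Nat.card (Matrix.ProjectiveSpecialLinearGroup (Fin 2) F) := lt_of_le_of_ne
      (Nat.le_of_dvd Nat.card_pos M.card_subgroup_dvd_card)
      fun e' => hM.1 (Subgroup.eq_top_of_le_card M e'.ge)
    obtain ⟨K, iK, iK', m, φ, S, N, hm, hKQ, hF, hφS, hiso, hN⟩ :=
      CfsgLib.PSL2Max.field_data 2 hM (e.symm a).2 (hord a ha1 ha2) (e.symm b).2 (hord b hb1 hb2) huv 4 hQ
        (by rw [hB, hc5]) hlt (fun m hm' h1 => by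
          subst h1
          have hc := CfsgLib.DicksonFull.card_psl (F := F)
          rw [hg, one_mul, ← hm'] at hc
          norm_num [-Nat.card_eq_fintype_card] at hc
          omega)
    exact Or.inr (Or.inr (Or.inr (hfield K m φ S N hm (by omega) (hKQ ▸ hF) hφS (by rw [hKQ, hc5]; norm_num) hN)))
  · exact Or.inr (Or.inr (Or.inr (hfield K m φ S N hm hK3 hF hφS hle hN)))

end Cfsg.Agent.S5893
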