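import Cfsg.Statements.S5894
import Cfsg.Agent.Lib.MaxSub.Lattice

set_option autoImplicit false
open Cfsg
open scoped Pointwise

namespace Cfsg.Agent.S5894

/-- For every m ≥ 2 the symmetric group on 2m letters has a maximal subgroup M of index 2m together with a maximal subgroup H of M that is not second maximal: some maximal subgroup K of the symmetric group contains H without H being maximal in K. (One may take M the stabiliser of a letter, H ≅ S_m × S_{m−1} inside it, and K ≅ S_m ≀ S₂ the stabiliser of a partition into two m-sets, with H < S_m × S_m < K.) So the prime-index hypothesis in the second-maximality criterion cannot be relaxed to any even index ≥ 4. -/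
theorem result (m : ℕ) (hm : 2 ≤ m) :
    ∃ M H K : Subgroup (Equiv.Perm (Fin (2 * m))), IsCoatom M ∧ M.index = 2 * m ∧ H ≤ M ∧ IsCoatom (H.subgroupOf M) ∧
      IsCoatom K ∧ H ≤ K ∧ ¬ IsCoatom (H.subgroupOf K) := by
  classical
  let a : Fin (2 * m) := ⟨0, by omega⟩
  let O : Set (Fin (2 * m)) := {i | (i : ℕ) < m}
  have hcO : Nat.card O = m := by
    refine (Nat.card_congr (β := Fin m)
      { toFun := fun i => ⟨(i.1 : ℕ), i.2⟩
        invFun := fun j => ⟨⟨j, by omega⟩, j.2⟩
        left_inv := fun i => rfl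
        right_inv := fun j => rfl }).trans (Nat.card_fin m)
  have hcOc : Nat.card ↥Oᶜ = m := by
    have h : Nat.card O + Nat.card ↥Oᶜ = Nat.card (Fin (2 * m)) := by
      rw [← Nat.card_sum]
      exact Nat.card_congr (Equiv.Set.sumCompl O)
    rw [hcO, Nat.card_fin] at h
    omega
  set M := MulAction.stabilizer (Equiv.Perm (Fin (2 * m))) a
  set Ko := MulAction.stabilizer (Equiv.Perm (Fin (2 * m))) O
  haveI := Equiv.Perm.isMultiplyPretransitive (Fin (2 * m)) 2
  haveI : Nontrivial (Fin (2 * m)) := Fin.nontrivial_iff_two_le.mpr (by omega)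
  haveI : MulAction.IsPreprimitive (Equiv.Perm (Fin (2 * m))) (Fin (2 * m)) :=
    MulAction.isPreprimitive_of_is_two_pretransitive inferInstance
  have hKo : Ko ≠ ⊤ := by
    intro e
    let b : Fin (2 * m) := ⟨m, by omega⟩
    have : Equiv.swap a b ∈ Ko := e ▸ Subgroup.mem_top _
    have h : (Equiv.swap a b) a ∈ Equiv.swap a b • O := ⟨a, (show (0 : ℕ) < m by omega), rfl⟩
    rw [MulAction.mem_stabilizer_iff.mp this, Equiv.swap_apply_left] at h
    exact lt_irrefl m (show m < m from h)
  obtain ⟨K, hK, hKle⟩ := (eq_top_or_exists_le_coatom Ko).resolve_left hKo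
  have hlt : Ko < K := lt_of_le_of_ne hKle fun e => CfsgLib.MaxSub.not_isCoatom_half
    (by rw [Nat.card_fin]; omega) O (hcO.trans hcOc.symm) (show IsCoatom Ko from e ▸ hK)
  refine ⟨M, M ⊓ Ko, K, MulAction.IsPreprimitive.isCoatom_stabilizer_of_isPreprimitive _ a, ?_, inf_le_left, ?_, hK,
    inf_le_right.trans hKle, ?_⟩
  · rw [MulAction.index_stabilizer_of_transitive, Nat.card_fin]
  · -- transfer the intransitive maximal subgroup of the point stabiliser
    let Ωa := {x : Fin (2 * m) // x ≠ a}
    let s : Set Ωa := {x | (x.1 : ℕ) < m}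
    have hcs : s.ncard = m - 1 := by
      rw [← Nat.card_coe_set_eq]
      let eq1 : s ≃ Fin (m - 1) :=
        { toFun := fun i => ⟨(i.1.1 : ℕ) - 1, by
            have h0 : (i.1.1 : ℕ) ≠ 0 := fun e => i.1.2 (Fin.ext e)
            have := i.2
            simp only [s, Set.mem_setOf_eq] at this
            omega⟩
          invFun := fun j => ⟨⟨⟨(j : ℕ) + 1, by have := j.2; omega⟩, fun e => Nat.succ_ne_zero (j : ℕ) (congrArg Fin.val e)⟩,
            (show (j : ℕ) + 1 < m by omega)⟩
          left_inv := fun i => by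
            have h0 : (i.1.1 : ℕ) ≠ 0 := fun e => i.1.2 (Fin.ext e)
            refine Subtype.ext (Subtype.ext (Fin.ext ?_))
            show (i.1.1 : ℕ) - 1 + 1 = i.1.1
            omega
          right_inv := fun j => Fin.ext (Nat.add_sub_cancel (j : ℕ) 1) }
      exact (Nat.card_congr eq1).trans (Nat.card_fin _)
    have hne : Nat.card Ωa ≠ 2 * s.ncard := by
      rw [hcs, Nat.card_eq_fintype_card]
      simp only [Ωa, ne_eq, Fintype.card_subtype_compl, Fintype.card_subtype_eq, Fintype.card_fin]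
      omega
    have hs1 : s.Nonempty := ⟨⟨⟨1, by omega⟩, fun e => one_ne_zero (congrArg Fin.val e)⟩, (show 1 < m by omega)⟩
    have hs2 : sᶜ.Nonempty := ⟨⟨⟨m, by omega⟩, fun e => (show m ≠ 0 by omega) (congrArg Fin.val e)⟩,
      fun h => lt_irrefl m (show m < m from h)⟩
    have hco := Equiv.Perm.isCoatom_stabilizer hs1 hs2 hne
    let f : Equiv.Perm Ωa →* M := (Equiv.Perm.ofSubtype).codRestrict M fun σ => by
      rw [MulAction.mem_stabilizer_iff, Equiv.Perm.smul_def]
      exact Equiv.Perm.ofSubtype_apply_of_not_mem σ (by simp)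
    have hf : Function.Bijective f := by
      refine ⟨fun σ τ e => Equiv.Perm.ofSubtype_injective (congrArg Subtype.val e), fun σ => ?_⟩
      have hσ : (σ : Equiv.Perm (Fin (2 * m))) a = a := MulAction.mem_stabilizer_iff.mp σ.2
      refine ⟨(σ : Equiv.Perm (Fin (2 * m))).subtypePerm
        (fun x => not_congr ⟨fun e => (σ : Equiv.Perm (Fin (2 * m))).injective (e.trans hσ.symm), fun e => by rw [e, hσ]⟩), ?_⟩
      refine Subtype.ext (Equiv.Perm.ofSubtype_subtypePerm _ fun x hx e => hx (by rw [e, hσ]))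
    let e := MulEquiv.ofBijective f hf
    have hmem : ∀ σ : Equiv.Perm Ωa, σ ∈ MulAction.stabilizer (Equiv.Perm Ωa) s ↔ e σ ∈ (M ⊓ Ko).subgroupOf M := by
      intro σ
      rw [Subgroup.mem_subgroupOf, Subgroup.mem_inf, and_iff_right (e σ).2, MulAction.mem_stabilizer_set,
        MulAction.mem_stabilizer_set]
      have hap : ∀ x : Ωa, ((e σ : M) : Equiv.Perm (Fin (2 * m))) x = σ x := fun x =>
        Equiv.Perm.ofSubtype_apply_coe σ x
      constructor
      · intro h x
        by_cases hx : x = a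
        · subst hx
          show (((e σ : M) : Equiv.Perm (Fin (2 * m))) a : ℕ) < m ↔ (a : ℕ) < m
          rw [show ((e σ : M) : Equiv.Perm (Fin (2 * m))) a = a from MulAction.mem_stabilizer_iff.mp (e σ).2]
        · show (((e σ : M) : Equiv.Perm (Fin (2 * m))) x : ℕ) < m ↔ (x : ℕ) < m
          rw [show ((e σ : M) : Equiv.Perm (Fin (2 * m))) x = (σ ⟨x, hx⟩ : Ωa).1 from hap ⟨x, hx⟩]
          exact h ⟨x, hx⟩
      · intro h x
        show ((σ x).1 : ℕ) < m ↔ (x.1 : ℕ) < m
        rw [← hap x]
        exact h x.1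
    have himg : (M ⊓ Ko).subgroupOf M = e.mapSubgroup (MulAction.stabilizer (Equiv.Perm Ωa) s) := by
      ext x
      obtain ⟨σ, rfl⟩ := e.surjective x
      rw [← hmem]
      exact ⟨fun h => ⟨σ, h, rfl⟩, fun ⟨τ, hτ, h⟩ => e.injective h ▸ hτ⟩
    rw [himg, OrderIso.isCoatom_iff]
    exact hco
  · intro hco
    let a' : Fin (2 * m) := ⟨1, by omega⟩
    have hsw : Equiv.swap a a' ∈ Ko := by
      rw [MulAction.mem_stabilizer_set]
      intro x
      show ((Equiv.swap a a') x : ℕ) < m ↔ (x : ℕ) < m
      rcases eq_or_ne x a with rfl | h1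
      · rw [Equiv.swap_apply_left]; exact iff_of_true (show 1 < m by omega) (show 0 < m by omega)
      rcases eq_or_ne x a' with rfl | h2
      · rw [Equiv.swap_apply_right]; exact iff_of_true (show 0 < m by omega) (show 1 < m by omega)
      rw [Equiv.swap_apply_of_ne_of_ne h1 h2]
    have h1 : (M ⊓ Ko).subgroupOf K < Ko.subgroupOf K := by
      refine lt_of_le_of_ne (fun x hx => hx.2) fun e => ?_
      have : (⟨_, hKle hsw⟩ : K) ∈ (M ⊓ Ko).subgroupOf K := e ▸ (hsw : (⟨_, hKle hsw⟩ : K) ∈ Ko.subgroupOf K)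
      have := MulAction.mem_stabilizer_iff.mp (Subgroup.mem_inf.mp (Subgroup.mem_subgroupOf.mp this)).1
      rw [Equiv.Perm.smul_def, Equiv.swap_apply_left] at this
      exact one_ne_zero (congrArg Fin.val this)
    refine hlt.not_ge (Subgroup.subgroupOf_eq_top.mp (hco.2 _ h1))

end Cfsg.Agent.S5894
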