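import Cfsg.Statements.S5908
import Cfsg.Agent.Lib.SmallSimple.PSU32
-- import your own Cfsg.Agent.* helpers here

set_option autoImplicit false
open Cfsg

namespace Cfsg.Agent.S5908

/-- The subgroup lattice of PSU₃(2) (the solvable group of order 72, realised over the field with 4 elements) is not complemented: some subgroup H has no subgroup X with H ⊔ X = ⊤ and H ⊓ X = ⊥. -/
theorem result {F : Type*} [Field F] [Fintype F] (hF : Fintype.card F = 4) :
    ¬ ComplementedLattice (Subgroup (Cfsg.PSU 3 F 2)) := by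
  classical
  intro hc
  obtain ⟨N, hNn, hN9, hN3, ⟨e⟩⟩ := (CfsgLib.PSU32.summary hF).2
  haveI := hNn
  haveI : Finite (Cfsg.PSU 3 F 2) := inferInstance
  let ψ : Cfsg.PSU 3 F 2 →* QuaternionGroup 2 := e.toMonoidHom.comp (QuotientGroup.mk' N)
  have hψ : Function.Surjective ψ := e.surjective.comp (QuotientGroup.mk'_surjective N)
  set H : Subgroup (Cfsg.PSU 3 F 2) := (Subgroup.zpowers (QuaternionGroup.a 2 : QuaternionGroup 2)).comap ψ with hH
  have hzero : ∀ q : QuaternionGroup 2, q ^ 6 = 1 → q = 1 ∨ q = QuaternionGroup.a 2 := by decide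
  have hmem : ∀ g : Cfsg.PSU 3 F 2, g ^ 6 = 1 → g ∈ H := by
    intro g hg
    rw [hH, Subgroup.mem_comap]
    rcases hzero (ψ g) (by rw [← map_pow, hg, map_one]) with h | h <;> rw [h]
    · exact one_mem _
    · exact Subgroup.mem_zpowers _
  have hHtop : H ≠ ⊤ := by
    intro h
    obtain ⟨g, hg⟩ := hψ (QuaternionGroup.a 1)
    have h1 : ψ g ∈ Subgroup.zpowers (QuaternionGroup.a 2 : QuaternionGroup 2) := by
      have : g ∈ H := h ▸ Subgroup.mem_top g
      exact this
    rw [hg] at h1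
    have h2 : (QuaternionGroup.a 1 : QuaternionGroup 2) ^ 2 = 1 := by
      have hord : orderOf (QuaternionGroup.a 2 : QuaternionGroup 2) ∣ 2 := orderOf_dvd_of_pow_eq_one (by decide)
      have := (Subgroup.orderOf_dvd_natCard _ h1).trans ((Nat.card_zpowers _).dvd.trans hord)
      exact orderOf_dvd_iff_pow_eq_one.mp this
    revert h2; decide
  obtain ⟨X, hX⟩ := hc.exists_isCompl H
  have hcard : Nat.card (Cfsg.PSU 3 F 2) = 72 := by
    rw [N.card_eq_card_quotient_mul_card_subgroup, Nat.card_congr e.toEquiv, hN9, Nat.card_eq_fintype_card,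
      QuaternionGroup.card]
  have hXbot : X = ⊥ := by
    by_contra hne
    obtain ⟨p, hp, hpd⟩ := Nat.exists_prime_and_dvd (show Nat.card X ≠ 1 from fun h => hne (Subgroup.card_eq_one.mp h))
    haveI : Fact p.Prime := ⟨hp⟩
    obtain ⟨x, hx⟩ := exists_prime_orderOf_dvd_card' (G := X) p hpd
    have hp72 : p ∣ 2 ^ 3 * 3 ^ 2 := by
      have := hpd.trans (Subgroup.card_subgroup_dvd_card X)
      rwa [hcard] at this
    have hp6 : p ∣ 6 := by
      rcases hp.dvd_mul.mp hp72 with h | h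
      · exact (hp.dvd_of_dvd_pow h).trans ⟨3, rfl⟩
      · exact (hp.dvd_of_dvd_pow h).trans ⟨2, rfl⟩
    have h1 : (x : Cfsg.PSU 3 F 2) ^ 6 = 1 := by
      rw [← orderOf_dvd_iff_pow_eq_one, Subgroup.orderOf_coe, hx]; exact hp6
    have h2 : (x : Cfsg.PSU 3 F 2) ∈ H ⊓ X := ⟨hmem _ h1, x.2⟩
    rw [hX.inf_eq_bot, Subgroup.mem_bot] at h2
    rw [← Subgroup.orderOf_coe, h2, orderOf_one] at hx
    exact hp.ne_one hx.symm
  refine hHtop ?_
  have := hX.sup_eq_top
  rwa [hXbot, sup_bot_eq] at this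

end Cfsg.Agent.S5908
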