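import Cfsg.Statements.S5910
import Cfsg.Agent.Lib.MaxSub.EightPairs

set_option autoImplicit false
open Cfsg

namespace Cfsg.Agent.S5910

/-- Let Ω be a set with 8 elements and f : Ω → Fin 4 a labelling whose four fibres all have size 2 (a partition of the 8 points into 4 pairs). Then the group of even permutations preserving this partition, (S₂ ≀ S₄) ∩ A₈, is not a maximal subgroup of the alternating group A₈ (it lies in a subgroup isomorphic to the affine group AGL₃(2)). -/
theorem result {Ω : Type*} [Fintype Ω] [DecidableEq Ω] (h8 : Fintype.card Ω = 8)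
    (f : Ω → Fin 4) (hf : ∀ i : Fin 4, Nat.card {x : Ω // f x = i} = 2) :
    ¬ IsCoatom ((Subgroup.closure {g : Equiv.Perm Ω | ∀ x y : Ω, f x = f y ↔ f (g x) = f (g y)} ⊓ alternatingGroup Ω).subgroupOf (alternatingGroup Ω)) := by
  rw [CfsgLib.MaxSub.closure_fibre]
  let iE : Fin 4 ≃ CfsgLib.MaxSub.Plane := (Fintype.equivFinOfCardEq (show Fintype.card CfsgLib.MaxSub.Plane = 4 by simp)).symm
  have ε : ∀ i, {x : Ω // f x = i} ≃ ZMod 2 := fun i =>
    (Finite.card_eq.mp ((hf i).trans (Nat.card_zmod 2).symm)).some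
  let e : Ω ≃ CfsgLib.MaxSub.Plane × ZMod 2 :=
    (Equiv.sigmaFiberEquiv f).symm.trans ((Equiv.sigmaCongr iE ε).trans (Equiv.sigmaEquivProd _ _))
  have he : ∀ x, (e x).1 = iE (f x) := fun x => rfl
  let E := e.permCongrHom
  have hEapp : ∀ (g : Equiv.Perm Ω) x, E g (e x) = e (g x) := fun g x => by
    show e (g (e.symm (e x))) = _
    rw [e.symm_apply_apply]
  have hfib : ∀ g, g ∈ CfsgLib.MaxSub.fibreGroup f ↔
      E g ∈ CfsgLib.MaxSub.fibreGroup (Prod.fst : CfsgLib.MaxSub.Plane × ZMod 2 → CfsgLib.MaxSub.Plane) := fun g => by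
    constructor
    · intro h u v
      obtain ⟨x, rfl⟩ := e.surjective u
      obtain ⟨y, rfl⟩ := e.surjective v
      rw [hEapp, hEapp, he, he, he, he, iE.injective.eq_iff, iE.injective.eq_iff]
      exact h x y
    · intro h x y
      have := h (e x) (e y)
      rwa [hEapp, hEapp, he, he, he, he, iE.injective.eq_iff, iE.injective.eq_iff] at this
  have hsgn : ∀ g, g ∈ alternatingGroup Ω ↔ E g ∈ alternatingGroup (CfsgLib.MaxSub.Plane × ZMod 2) := fun g => by
    rw [Equiv.Perm.mem_alternatingGroup, Equiv.Perm.mem_alternatingGroup]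
    show _ ↔ Equiv.Perm.sign (e.permCongr g) = 1
    rw [Equiv.Perm.sign_permCongr]
  intro hco
  let K : Subgroup (alternatingGroup Ω) :=
    (CfsgLib.MaxSub.affineEight.comap E.toMonoidHom).subgroupOf (alternatingGroup Ω)
  have hlt : (CfsgLib.MaxSub.fibreGroup f ⊓ alternatingGroup Ω).subgroupOf (alternatingGroup Ω) < K := by
    refine lt_of_le_of_ne (fun g hg => ?_) fun h => ?_
    · obtain ⟨h1, h2⟩ := Subgroup.mem_inf.mp (Subgroup.mem_subgroupOf.mp hg)
      exact CfsgLib.MaxSub.fibre_le_affine (Subgroup.mem_inf.mpr ⟨(hfib _).mp h1, (hsgn _).mp h2⟩)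
    · obtain ⟨⟨hs1, hs2⟩, hs3⟩ := CfsgLib.MaxSub.shear_mem
      have hA : E.symm CfsgLib.MaxSub.shear ∈ alternatingGroup Ω := (hsgn _).mpr (by rwa [E.apply_symm_apply])
      have hK : (⟨_, hA⟩ : alternatingGroup Ω) ∈ K := by
        show E (E.symm CfsgLib.MaxSub.shear) ∈ CfsgLib.MaxSub.affineEight
        rwa [E.apply_symm_apply]
      rw [← h] at hK
      have := (hfib _).mp (Subgroup.mem_inf.mp (Subgroup.mem_subgroupOf.mp hK)).1
      rw [E.apply_symm_apply] at this
      exact hs3 this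
  have htop := hco.2 K hlt
  let c : Equiv.Perm (CfsgLib.MaxSub.Plane × ZMod 2) :=
    Equiv.swap ((0, 0), 0) ((1, 0), 0) * Equiv.swap ((0, 0), 0) ((0, 1), 0)
  have hc : c ∈ alternatingGroup _ := (Equiv.Perm.isThreeCycle_swap_mul_swap_same (by decide) (by decide) (by decide)).mem_alternatingGroup
  have hA : E.symm c ∈ alternatingGroup Ω := (hsgn _).mpr (by rwa [E.apply_symm_apply])
  have : (⟨_, hA⟩ : alternatingGroup Ω) ∈ K := htop ▸ Subgroup.mem_top _
  have h' : E (E.symm c) ∈ CfsgLib.MaxSub.affineEight := this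
  rw [E.apply_symm_apply] at h'
  exact absurd (h' ((0, 0), 0) ((1, 0), 0) ((0, 0), 1)) (by decide)

end Cfsg.Agent.S5910
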