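import Cfsg.Statements.S5911
import Cfsg.Agent.Lib.MaxSub.SmallIndex

set_option autoImplicit false
open Cfsg

namespace Cfsg.Agent.S5911

/-- Let Ω be a finite set whose size n is not 6. Then every subgroup of the symmetric group on Ω of index n is the stabilizer of a point. -/
theorem result {Ω : Type*} [Fintype Ω] [DecidableEq Ω] (h6 : Fintype.card Ω ≠ 6)
    (H : Subgroup (Equiv.Perm Ω)) (hH : H.index = Fintype.card Ω) :
    ∃ x : Ω, H = MulAction.stabilizer (Equiv.Perm Ω) x := by
  let e := Fintype.equivFin Ω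
  let E := e.permCongrHom
  have hi : (H.map E.toMonoidHom).index = Fintype.card Ω := by
    rw [Subgroup.index_map_of_bijective E.bijective]; exact hH
  obtain ⟨x, hx⟩ := CfsgLib.MaxSub.eq_stabilizer h6 hi
  refine ⟨e.symm x, ?_⟩
  ext g
  have h1 : g ∈ H ↔ E g ∈ H.map E.toMonoidHom := ⟨fun h => ⟨g, h, rfl⟩, fun ⟨k, hk, h⟩ => E.injective h ▸ hk⟩
  rw [h1, hx, MulAction.mem_stabilizer_iff, MulAction.mem_stabilizer_iff]
  show e (g (e.symm x)) = x ↔ g (e.symm x) = e.symm x
  rw [Equiv.eq_symm_apply]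

end Cfsg.Agent.S5911
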