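import Cfsg.Statements.S5912
import Cfsg.Agent.Lib.MaxSub.SixPoints

set_option autoImplicit false
open Cfsg

namespace Cfsg.Agent.S5912

/-- The symmetric group on a 6-element set Ω has exactly two conjugacy classes of subgroups of index 6: there are two non-conjugate subgroups of index 6 (a point stabilizer and a transitive subgroup isomorphic to S₅), and every subgroup of index 6 is conjugate to one of them. -/
theorem result {Ω : Type*} [Fintype Ω] [DecidableEq Ω] (h6 : Fintype.card Ω = 6) :
    ∃ H₁ H₂ : Subgroup (Equiv.Perm Ω), H₁.index = 6 ∧ H₂.index = 6 ∧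
      (¬ ∃ g : Equiv.Perm Ω, Subgroup.map (MulAut.conj g).toMonoidHom H₁ = H₂) ∧
      ∀ H : Subgroup (Equiv.Perm Ω), H.index = 6 →
        ∃ g : Equiv.Perm Ω, Subgroup.map (MulAut.conj g).toMonoidHom H₁ = H ∨ Subgroup.map (MulAut.conj g).toMonoidHom H₂ = H := by
  obtain ⟨H₀, h₀, h₀'⟩ := CfsgLib.MaxSub.exists_transitive
  let E := (Fintype.equivFinOfCardEq h6).permCongrHom
  let S := MulAction.stabilizer (Equiv.Perm (Fin 6)) (0 : Fin 6)
  have hi : ∀ A : Subgroup (Equiv.Perm (Fin 6)), (A.comap E.toMonoidHom).index = A.index := fun A =>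
    Subgroup.index_comap_of_surjective _ E.surjective
  have hconj : ∀ (A : Subgroup (Equiv.Perm (Fin 6))) (g : Equiv.Perm Ω),
      (A.comap E.toMonoidHom).map (MulAut.conj g).toMonoidHom = (A.map (MulAut.conj (E g)).toMonoidHom).comap E.toMonoidHom := by
    intro A g
    ext x
    simp only [Subgroup.mem_map_equiv, Subgroup.mem_comap, MulAut.conj_symm_apply, MulEquiv.coe_toMonoidHom,
      map_mul, map_inv]
  refine ⟨S.comap E.toMonoidHom, H₀.comap E.toMonoidHom, ?_, (hi _).trans h₀, ?_, fun H hH => ?_⟩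
  · rw [hi, MulAction.index_stabilizer_of_transitive, Nat.card_fin]
  · rintro ⟨g, hg⟩
    rw [hconj] at hg
    exact h₀' _ ((Subgroup.comap_injective E.surjective hg).symm.trans (CfsgLib.MaxSub.map_conj_stab (E g) 0))
  · have hH' : H = (H.map E.toMonoidHom).comap E.toMonoidHom :=
      (Subgroup.comap_map_eq_self_of_injective E.injective H).symm
    rcases CfsgLib.MaxSub.classification h₀ h₀' (H := H.map E.toMonoidHom)
      (by rw [Subgroup.index_map_of_bijective E.bijective]; exact hH) with ⟨a, ha⟩ | ⟨k, hk⟩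
    · refine ⟨E.symm (Equiv.swap 0 a), Or.inl ?_⟩
      rw [hconj, E.apply_symm_apply, CfsgLib.MaxSub.map_conj_stab, Equiv.swap_apply_left, ← ha, ← hH']
    · refine ⟨E.symm k, Or.inr ?_⟩
      rw [hconj, E.apply_symm_apply, ← hk, ← hH']

end Cfsg.Agent.S5912
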