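import Cfsg.Statements.S5914
import Cfsg.Agent.Lib.MaxSub.CharSimple

set_option autoImplicit false
open Cfsg

namespace Cfsg.Agent.S5914

/-- A non-trivial finite group G is characteristically simple (its only characteristic subgroups are 1 and G) if and only if G is isomorphic to a direct power S^n (n ≥ 1) of some simple group S (possibly cyclic of prime order). -/
theorem result {G : Type*} [Group G] [Finite G] [Nontrivial G] :
    (∀ H : Subgroup G, H.Characteristic → H = ⊥ ∨ H = ⊤) ↔
    ∃ (S : Type) (_ : Group S) (_ : IsSimpleGroup S) (n : ℕ), 1 ≤ n ∧ Nonempty (G ≃* (Fin n → S)) := by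
  refine ⟨CfsgLib.MaxSub.char_simple_to_power, ?_⟩
  rintro ⟨S, iS, hS, n, hn, ⟨e⟩⟩ H hH
  haveI : Finite S := Finite.of_surjective (fun g : G => e g ⟨0, hn⟩) fun s => ⟨e.symm fun _ => s, by simp⟩
  haveI : (H.map e.toMonoidHom).Characteristic := ⟨fun φ => by
    have h := hH.fixed ((e.trans φ).trans e.symm)
    ext x
    obtain ⟨g, rfl⟩ := e.surjective x
    rw [Subgroup.mem_comap, Subgroup.mem_map_equiv, Subgroup.mem_map_equiv, MulEquiv.symm_apply_apply]
    conv_rhs => rw [← h]
    rfl⟩
  rcases CfsgLib.MaxSub.power_char_simple (H.map e.toMonoidHom) with h | h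
  · exact Or.inl ((Subgroup.map_eq_bot_iff_of_injective _ e.injective).mp h)
  · right
    exact Subgroup.map_injective e.injective (h.trans (Subgroup.map_top_of_surjective _ e.surjective).symm)

end Cfsg.Agent.S5914
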