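import Cfsg.Statements.S5938
import Cfsg.Agent.Lib.PSL2Max.Basic
import Cfsg.Agent.Lib.PSL2Max.Arith
-- import your own Cfsg.Agent.* helpers here

set_option autoImplicit false
open Cfsg

namespace Cfsg.Agent.S5938

/-- Let p be a prime with p ≡ ±1 (mod 8) and F a field with p elements. Then PSL_2(F) has a maximal subgroup isomorphic to the symmetric group S_4. -/
theorem result {F : Type*} [Field F] [Fintype F] (p : ℕ) [Fact p.Prime] (hF : Fintype.card F = p) (hp : p % 8 = 1 ∨ p % 8 = 7) : ∃ H : Subgroup (Matrix.ProjectiveSpecialLinearGroup (Fin 2) F), IsCoatom H ∧ Nonempty (H ≃* Equiv.Perm (Fin 4)) := by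
  classical
  haveI : CharP F p := charP_of_card_eq_prime hF
  have h2 : (2 : F) ≠ 0 := fun e => by
    have h' : ((2 : ℕ) : F) = 0 := by exact_mod_cast e
    have := Nat.le_of_dvd (by norm_num) ((CharP.cast_eq_zero_iff F p 2).mp h')
    have := (Fact.out : p.Prime).two_le
    rcases hp with h | h <;> omega
  have hp2 : p ≠ 2 := by omega
  obtain ⟨H, ⟨e⟩⟩ := CfsgLib.PSL2Platonic.exists_S4 h2
    (FiniteField.isSquare_two_iff.mpr (by rw [hF]; omega))
  have hc : Nat.card H = 24 := by rw [Nat.card_congr e.toEquiv, CfsgLib.PSL2Max.card_s4]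
  refine ⟨H, CfsgLib.PSL2Max.coatom_of ?_ fun K hHK hK => ?_, ⟨e⟩⟩
  · intro hT
    have h := CfsgLib.PSL2Max.two_card (F := F) p hp2
    rw [hT, Subgroup.card_top] at hc
    rw [hc, hF] at h
    have h7 : 7 ≤ p := by
      have := (Fact.out : p.Prime).two_le
      omega
    have := Nat.mul_le_mul h7 (Nat.sub_le_sub_right (Nat.pow_le_pow_left h7 2) 1)
    omega
  · rcases CfsgLib.PSL2Max.over_cases p hp2 hHK hK
      (CfsgLib.PSL2Max.pair_of_iso H e CfsgLib.PSL2Max.pair_s4) with h | h | h | ⟨Q, m, hQ, hm, hQm, -⟩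
    · omega
    · omega
    · exfalso
      have := Subgroup.card_dvd_of_le hHK
      rw [hc, h] at this
      norm_num at this
    · exfalso
      rw [hF] at hQm
      exact Nat.Prime.not_prime_pow hm (hQm.symm ▸ (Fact.out : p.Prime))

end Cfsg.Agent.S5938
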