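import Cfsg.Statements.S5939
import Cfsg.Agent.Lib.PSL2Max.Basic
import Cfsg.Agent.Lib.PSL2Max.Arith
-- import your own Cfsg.Agent.* helpers here

set_option autoImplicit false
open Cfsg

namespace Cfsg.Agent.S5939

/-- Let p be a prime and F a finite field of characteristic p such that either F has p elements and p ≡ ±1 (mod 10), or F has p² elements and p ≡ ±3 (mod 10). Then PSL_2(F) has a maximal subgroup isomorphic to the alternating group A_5. -/
theorem result {F : Type*} [Field F] [Fintype F] (p : ℕ) [Fact p.Prime] [CharP F p] (h : (Fintype.card F = p ∧ (p % 10 = 1 ∨ p % 10 = 9)) ∨ (Fintype.card F = p ^ 2 ∧ (p % 10 = 3 ∨ p % 10 = 7))) : ∃ H : Subgroup (Matrix.ProjectiveSpecialLinearGroup (Fin 2) F), IsCoatom H ∧ Nonempty (H ≃* alternatingGroup (Fin 5)) := by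
  classical
  have hp := (Fact.out : p.Prime)
  have hp2 : p ≠ 2 := by omega
  have hp5 : p ≠ 5 := by omega
  haveI : Fact (Nat.Prime 5) := ⟨by norm_num⟩
  have h2 : (2 : F) ≠ 0 := fun e => by
    have h' : ((2 : ℕ) : F) = 0 := by exact_mod_cast e
    exact hp2 ((Nat.prime_dvd_prime_iff_eq hp Nat.prime_two).mp ((CharP.cast_eq_zero_iff F p 2).mp h'))
  have hsq : IsSquare (5 : F) := by
    rcases h with ⟨-, hm⟩ | ⟨hF, -⟩
    · have h' : IsSquare ((5 : ℕ) : ZMod p) := by
        rw [← ZMod.exists_sq_eq_prime_iff_of_mod_four_eq_one (p := 5) (q := p) (by norm_num) hp2]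
        rw [← ZMod.natCast_mod p 5]
        rcases hm with hm | hm
        · rw [show p % 5 = 1 by omega]; exact ⟨1, by norm_num⟩
        · rw [show p % 5 = 4 by omega]; exact ⟨2, by norm_num⟩
      have := h'.map (ZMod.castHom (dvd_refl p) F)
      rwa [map_natCast, Nat.cast_ofNat] at this
    · have h50 : ((5 : ℕ) : ZMod p) ≠ 0 := fun e => hp5 <| (Nat.prime_dvd_prime_iff_eq hp (by norm_num)).mp
        ((ZMod.natCast_eq_zero_iff 5 p).mp e)
      have e1 := congrArg (ZMod.castHom (dvd_refl p) F) (ZMod.pow_card_sub_one_eq_one h50)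
      rw [map_pow, map_natCast, Nat.cast_ofNat, map_one] at e1
      have h5F : (5 : F) ≠ 0 := fun e => by
        rw [e, zero_pow (by have := hp.two_le; omega)] at e1
        exact zero_ne_one e1
      rw [FiniteField.isSquare_iff (by rw [ringChar.eq F p]; exact hp2) h5F, hF]
      obtain ⟨j, hj⟩ := hp.odd_of_ne_two hp2
      rw [hj] at e1 ⊢
      rw [show (2 * j + 1) ^ 2 / 2 = (2 * j + 1 - 1) * (j + 1) by
        rw [show (2 * j + 1) ^ 2 = 1 + 2 * ((2 * j + 1 - 1) * (j + 1)) by
          rw [Nat.add_sub_cancel]; ring, Nat.add_mul_div_left _ _ (by norm_num : 0 < 2)]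
        norm_num, pow_mul, e1, one_pow]
  obtain ⟨H, ⟨e⟩⟩ := CfsgLib.PSL2Platonic.exists_A5 h2 hsq
  have hc : Nat.card H = 60 := by rw [Nat.card_congr e.toEquiv, CfsgLib.PSL2Max.card_a5]
  refine ⟨H, CfsgLib.PSL2Max.coatom_of ?_ fun K hHK hK => ?_, ⟨e⟩⟩
  · intro hT
    rw [hT, Subgroup.card_top] at hc
    have hb := CfsgLib.PSL2Max.two_card (F := F) p hp2
    rw [hc] at hb
    have h9 : 9 ≤ Fintype.card F := by
      rcases h with ⟨hF, hm⟩ | ⟨hF, hm⟩
      · have := hp.two_le
        omega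
      · have := Nat.pow_le_pow_left (show 3 ≤ p by omega) 2
        omega
    have := Nat.mul_le_mul h9 (Nat.sub_le_sub_right (Nat.pow_le_pow_left h9 2) 1)
    omega
  · rcases CfsgLib.PSL2Max.over_cases p hp2 hHK hK
      (CfsgLib.PSL2Max.pair_of_iso H e CfsgLib.PSL2Max.pair_a5) with h' | h' | h' | ⟨Q, m, hQ, hm, hQm, hK'⟩
    · omega
    · omega
    · omega
    · exfalso
      rcases h with ⟨hF, -⟩ | ⟨hF, hm5⟩
      · rw [hF] at hQm
        exact Nat.Prime.not_prime_pow hm (hQm.symm ▸ hp)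
      · rw [hF] at hQm
        obtain ⟨a, ha, rfl⟩ := (Nat.dvd_prime_pow hp).mp (hQm ▸ dvd_pow_self Q (by omega) : Q ∣ p ^ 2)
        rw [← pow_mul] at hQm
        have ham := Nat.pow_right_injective hp.two_le hQm
        have : a * 2 ≤ a * m := Nat.mul_le_mul_left _ hm
        obtain rfl : a = 1 := by
          rcases (show a = 0 ∨ a = 1 by omega) with rfl | rfl
          · simp at hQ
          · rfl
        rw [pow_one] at hK'
        have h60 : Nat.card K ∣ p * (p ^ 2 - 1) := by
          rcases hK' with e' | e' <;> rw [← e']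
          exact dvd_mul_left _ _
        have h5' : 5 ∣ p * (p ^ 2 - 1) :=
          (dvd_trans (by norm_num) (hc ▸ Subgroup.card_dvd_of_le hHK)).trans h60
        have hcop : Nat.Coprime 5 p := (Nat.coprime_primes (by norm_num) hp).mpr (Ne.symm hp5)
        have h5'' := hcop.dvd_of_dvd_mul_left h5'
        rw [CfsgLib.PSL2Max.sq_sub_one, Nat.Prime.dvd_mul (by norm_num)] at h5''
        omega

end Cfsg.Agent.S5939
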