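import Cfsg.Statements.S5940
import Cfsg.Agent.Lib.PSL2Max.Basic
import Cfsg.Agent.Lib.PSL2Max.Arith
-- import your own Cfsg.Agent.* helpers here

set_option autoImplicit false
open Cfsg

namespace Cfsg.Agent.S5940

/-- Let p ≥ 5 be a prime with p ≡ ±3 (mod 8) and p ≢ ±1 (mod 10), and F a field with p elements. Then PSL_2(F) has a maximal subgroup isomorphic to the alternating group A_4. -/
theorem result {F : Type*} [Field F] [Fintype F] (p : ℕ) [Fact p.Prime] (hF : Fintype.card F = p) (h5 : 5 ≤ p) (h8 : p % 8 = 3 ∨ p % 8 = 5) (h10 : p % 10 ≠ 1 ∧ p % 10 ≠ 9) : ∃ H : Subgroup (Matrix.ProjectiveSpecialLinearGroup (Fin 2) F), IsCoatom H ∧ Nonempty (H ≃* alternatingGroup (Fin 4)) := by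
  classical
  haveI : CharP F p := charP_of_card_eq_prime hF
  have hp2 : p ≠ 2 := by omega
  have h2 : (2 : F) ≠ 0 := fun e => by
    have h' : ((2 : ℕ) : F) = 0 := by exact_mod_cast e
    have := Nat.le_of_dvd (by norm_num) ((CharP.cast_eq_zero_iff F p 2).mp h')
    omega
  have hcard := CfsgLib.PSL2Max.two_card (F := F) p hp2
  rw [hF] at hcard
  obtain ⟨H, ⟨e⟩⟩ := CfsgLib.PSL2Platonic.exists_A4 h2
  have hc : Nat.card H = 12 := by rw [Nat.card_congr e.toEquiv, CfsgLib.PSL2Max.card_a4]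
  have hbig : 5 * 24 ≤ 2 * Nat.card (Matrix.ProjectiveSpecialLinearGroup (Fin 2) F) := by
    rw [hcard]
    exact Nat.mul_le_mul h5 (by have := Nat.pow_le_pow_left h5 2; omega)
  refine ⟨H, CfsgLib.PSL2Max.coatom_of ?_ fun K hHK hK => ?_, ⟨e⟩⟩
  · intro hT
    rw [hT, Subgroup.card_top] at hc
    omega
  · have hKG := K.card_subgroup_dvd_card
    rcases CfsgLib.PSL2Max.over_cases p hp2 hHK hK
      (CfsgLib.PSL2Max.pair_of_iso H e CfsgLib.PSL2Max.pair_a4) with h | h | h | ⟨Q, m, hQ, hm, hQm, -⟩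
    · omega
    · exfalso
      rw [h] at hKG
      have h16 : 16 ∣ p * (p ^ 2 - 1) := by
        rw [← hcard]; exact Nat.mul_dvd_mul_left 2 (dvd_trans (show (8 : ℕ) ∣ 24 by norm_num) hKG)
      have hcop : Nat.Coprime 16 p :=
        Nat.Coprime.pow_left 4 ((Nat.coprime_primes Nat.prime_two Fact.out).mpr (Ne.symm hp2))
      obtain ⟨c, hc16⟩ := hcop.dvd_of_dvd_mul_left h16
      obtain ⟨j, hj⟩ : ∃ j, p = 8 * j + 3 ∨ p = 8 * j + 5 := ⟨p / 8, by omega⟩
      rcases hj with hj | hj <;> rw [hj] at hc16 <;> ring_nf at hc16 <;> omega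
    · exfalso
      rw [h] at hKG
      by_cases hp5 : p = 5
      · subst hp5
        rw [show (5 : ℕ) * (5 ^ 2 - 1) = 120 by norm_num] at hcard
        exact hK (Subgroup.eq_top_of_le_card K (by omega))
      have h5' : 5 ∣ p * (p ^ 2 - 1) := by
        rw [← hcard]; exact (dvd_trans (by norm_num) hKG).mul_left 2
      have hcop : Nat.Coprime 5 p :=
        (Nat.coprime_primes (by norm_num) Fact.out).mpr (Ne.symm hp5)
      have h5'' := hcop.dvd_of_dvd_mul_left h5'
      rw [CfsgLib.PSL2Max.sq_sub_one, Nat.Prime.dvd_mul (by norm_num)] at h5''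
      omega
    · exfalso
      rw [hF] at hQm
      exact Nat.Prime.not_prime_pow hm (hQm.symm ▸ (Fact.out : p.Prime))

end Cfsg.Agent.S5940
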