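import Cfsg.Statements.S5941
import Cfsg.Agent.Lib.PSL2Max.Basic
import Cfsg.Agent.Lib.PSL2Max.Arith
import Cfsg.Agent.S0805
import Cfsg.Agent.Lib.SL2Orders
-- import your own Cfsg.Agent.* helpers here

set_option autoImplicit false
open Cfsg

namespace Cfsg.Agent.S5941

/-- Let K and F be finite fields of odd characteristic with #F = (#K)². Then PSL_2(F) has a maximal subgroup isomorphic to PGL_2(K). -/
theorem result {F K : Type*} [Field F] [Fintype F] [Field K] [Fintype K] (q : ℕ) (hK : Fintype.card K = q) (hF : Fintype.card F = q ^ 2) (hq : Odd q) : ∃ H : Subgroup (Matrix.ProjectiveSpecialLinearGroup (Fin 2) F), IsCoatom H ∧ Nonempty (H ≃* Matrix.ProjGenLinGroup (Fin 2) K) := by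
  classical
  obtain ⟨p, hpc⟩ := CharP.exists F
  haveI := Fact.mk (CharP.char_is_prime F p)
  have hp := (Fact.out : p.Prime)
  obtain ⟨n, -, hn⟩ := FiniteField.card F p
  have hFo : Odd (Fintype.card F) := hF ▸ hq.pow
  have hp2 : p ≠ 2 := by
    rintro rfl
    rw [hn] at hFo
    exact absurd hFo (by simp [Nat.odd_iff, Nat.pow_mod, n.ne_zero])
  obtain ⟨H, ⟨e⟩⟩ := (Cfsg.Agent.S0805.result (K := K) rfl hFo 2 (by norm_num)
    (by rw [hK, hF])).2.mpr even_two
  have hc : Nat.card H = q * (q ^ 2 - 1) := by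
    rw [Nat.card_congr e.toEquiv, CfsgLib.SLCard.card_PGL, CfsgLib.SLCard.card_SL_two, hK]
  have hq3 : 3 ≤ q := by
    have := Fintype.one_lt_card (α := K)
    obtain ⟨j, rfl⟩ := hq
    omega
  have hcard := CfsgLib.PSL2Max.two_card (F := F) p hp2
  rw [hF] at hcard
  have h2 : (2 : K) ≠ 0 := CfsgLib.SL2Orders.two_ne_zero_of_odd (hK ▸ hq)
  refine ⟨H, CfsgLib.PSL2Max.coatom_of ?_ fun M hHM hM => ?_, ⟨e⟩⟩
  · intro hT
    rw [hT, Subgroup.card_top] at hc
    rw [hc] at hcard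
    have h9 : 9 ≤ q ^ 2 := Nat.pow_le_pow_left hq3 2
    have h4 : 2 * (q * (q ^ 2 - 1)) < q ^ 2 * ((q ^ 2) ^ 2 - 1) := by
      rw [← mul_assoc]
      refine Nat.mul_lt_mul_of_lt_of_le ?_ (Nat.sub_le_sub_right (Nat.le_self_pow (by norm_num) _) 1) ?_
      · nlinarith
      · have := Nat.le_self_pow (show 2 ≠ 0 by norm_num) (q ^ 2)
        omega
    omega
  · have hMc := Subgroup.card_dvd_of_le hHM
    rw [hc] at hMc
    have hge : 3 * 8 ≤ q * (q ^ 2 - 1) := Nat.mul_le_mul hq3 (by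
      have := Nat.pow_le_pow_left hq3 2
      omega)
    rcases CfsgLib.PSL2Max.over_cases p hp2 hHM hM (CfsgLib.PSL2Max.pgl_pair h2 H e) with
      h' | h' | h' | ⟨Q, m, hQ, hm, hQm, hK'⟩
    · omega
    · omega
    · rcases (show q = 3 ∨ 5 ≤ q by obtain ⟨j, rfl⟩ := hq; omega) with rfl | h5
      · rw [h'] at hMc; norm_num at hMc
      · have := Nat.mul_le_mul h5 (Nat.sub_le_sub_right (Nat.pow_le_pow_left h5 2) 1)
        omega
    · have hd : q * (q ^ 2 - 1) ∣ 2 * (Q * (Q ^ 2 - 1)) := by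
        rcases hK' with e' | e' <;> rw [← e']
        · rw [← mul_assoc]; exact hMc.mul_left _
        · exact hMc.mul_left _
      obtain rfl := CfsgLib.PSL2Max.subfield_eq hp hn (by omega) (by omega) hm hQm Nat.prime_two hF.symm hd
      omega

end Cfsg.Agent.S5941
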