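import Cfsg.Statements.S5942
import Cfsg.Agent.Lib.PSL2Max.Basic
import Cfsg.Agent.Lib.PSL2Max.Arith
import Cfsg.Agent.S0805
import Cfsg.Agent.Lib.SL2Orders
-- import your own Cfsg.Agent.* helpers here

set_option autoImplicit false
open Cfsg

namespace Cfsg.Agent.S5942

/-- Let K and F be finite fields of odd characteristic with #F = (#K)^r for an odd prime r. Then PSL_2(F) has a maximal subgroup isomorphic to PSL_2(K). -/
theorem result {F K : Type*} [Field F] [Fintype F] [Field K] [Fintype K] (q r : ℕ) (hK : Fintype.card K = q) (hF : Fintype.card F = q ^ r) (hq : Odd q) (hr : r.Prime) (hr2 : r ≠ 2) : ∃ H : Subgroup (Matrix.ProjectiveSpecialLinearGroup (Fin 2) F), IsCoatom H ∧ Nonempty (H ≃* Matrix.ProjectiveSpecialLinearGroup (Fin 2) K) := by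
  classical
  obtain ⟨p, hpc⟩ := CharP.exists F
  haveI := Fact.mk (CharP.char_is_prime F p)
  have hp := (Fact.out : p.Prime)
  obtain ⟨n, -, hn⟩ := FiniteField.card F p
  have hFo : Odd (Fintype.card F) := hF ▸ hq.pow
  have hp2 : p ≠ 2 := by
    rintro rfl
    rw [hn] at hFo
    exact absurd hFo (by simp [Nat.odd_iff, Nat.pow_mod, n.ne_zero])
  obtain ⟨H, ⟨e⟩⟩ := (Cfsg.Agent.S0805.result (K := K) rfl hFo r hr.one_le (by rw [hK, hF])).1
  obtain ⟨pK, hpK⟩ := CharP.exists K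
  haveI := Fact.mk (CharP.char_is_prime K pK)
  have hpK2 : pK ≠ 2 := by
    rintro rfl
    obtain ⟨k, -, hk⟩ := FiniteField.card K 2
    rw [← hK, hk] at hq
    exact absurd hq (by simp [Nat.odd_iff, Nat.pow_mod, k.ne_zero])
  have hc : 2 * Nat.card H = q * (q ^ 2 - 1) := by
    rw [Nat.card_congr e.toEquiv, CfsgLib.PSL2Max.two_card pK hpK2, hK]
  have hq3 : 3 ≤ q := by
    have := Fintype.one_lt_card (α := K)
    obtain ⟨j, rfl⟩ := hq
    omega
  have hr3 : Odd r := hr.odd_of_ne_two hr2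
  have hcard := CfsgLib.PSL2Max.two_card (F := F) p hp2
  rw [hF] at hcard
  have h2 : (2 : K) ≠ 0 := CfsgLib.SL2Orders.two_ne_zero_of_odd (hK ▸ hq)
  have hpair : ∃ a ∈ H, ∃ b ∈ H, CfsgLib.PSL2Max.IsPair a b := by
    obtain ⟨A, ⟨eA⟩⟩ := CfsgLib.PSL2Platonic.exists_A4 h2
    obtain ⟨a, -, b, -, hab⟩ := CfsgLib.PSL2Max.pair_of_iso A eA CfsgLib.PSL2Max.pair_a4
    exact CfsgLib.PSL2Max.pair_of_iso H e ⟨a, b, hab⟩
  refine ⟨H, CfsgLib.PSL2Max.coatom_of ?_ fun M hHM hM => ?_, ⟨e⟩⟩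
  · intro hT
    rw [hT, Subgroup.card_top, hcard] at hc
    have h1 : q ^ 3 ≤ q ^ r := Nat.pow_le_pow_right (by omega) (by
      have := hr.two_le
      omega)
    have h4 : q * 1 < q ^ 3 := by
      rw [mul_one]; exact lt_self_pow₀ (by omega) (by norm_num)
    have : q * (q ^ 2 - 1) < q ^ r * ((q ^ r) ^ 2 - 1) :=
      Nat.mul_lt_mul_of_lt_of_le (by omega) (Nat.sub_le_sub_right (Nat.pow_le_pow_left (by omega) 2) 1) (by
        have := Nat.pow_le_pow_left (show 3 ≤ q ^ r by omega) 2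
        omega)
    omega
  · have hMc := Subgroup.card_dvd_of_le hHM
    have hMG := M.card_subgroup_dvd_card
    have hge : 3 * 8 ≤ q * (q ^ 2 - 1) := Nat.mul_le_mul hq3 (by
      have := Nat.pow_le_pow_left hq3 2
      omega)
    have hsmall : (q = 3 ∧ Nat.card H = 12) ∨ (q = 5 ∧ Nat.card H = 60) ∨ 168 ≤ Nat.card H := by
      rcases (show q = 3 ∨ q = 5 ∨ 7 ≤ q by obtain ⟨j, rfl⟩ := hq; omega) with rfl | rfl | h7
      · norm_num [-Nat.card_eq_fintype_card] at hc
        exact Or.inl ⟨rfl, by omega⟩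
      · norm_num [-Nat.card_eq_fintype_card] at hc
        exact Or.inr (Or.inl ⟨rfl, by omega⟩)
      · have := Nat.mul_le_mul h7 (Nat.sub_le_sub_right (Nat.pow_le_pow_left h7 2) 1)
        omega
    rcases CfsgLib.PSL2Max.over_cases p hp2 hHM hM hpair with h | h | h | ⟨Q, m, hQ, hm, hQm, hK'⟩
    · omega
    · rcases hsmall with ⟨rfl, -⟩ | h' | h'
      · exfalso
        refine CfsgLib.PSL2Max.not_dvd_half hq (le_refl 3) hr3 hcard ?_
        rw [h] at hMG
        exact (show (3 : ℕ) ^ 2 - 1 ∣ 24 by norm_num).trans hMG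
      all_goals omega
    · rcases hsmall with ⟨rfl, -⟩ | h' | h'
      · exfalso
        rw [h] at hMG
        have h5 : 5 ∣ 3 ^ r * ((3 ^ r) ^ 2 - 1) :=
          hcard ▸ ((dvd_trans (show (5 : ℕ) ∣ 60 by norm_num) hMG).mul_left 2)
        have h5' := (Nat.Coprime.pow_right r (by norm_num : Nat.Coprime 5 3)).dvd_of_dvd_mul_left h5
        obtain ⟨j, rfl⟩ := hr3
        rw [← pow_mul, show (2 * j + 1) * 2 = 4 * j + 2 by ring] at h5'
        have : (3 : ℕ) ^ (4 * j + 2) % 5 = 4 := by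
          rw [pow_add, pow_mul, Nat.mul_mod, Nat.pow_mod]
          norm_num
        revert h5' this
        generalize (3 : ℕ) ^ (4 * j + 2) = x
        omega
      all_goals omega
    · have hd : q * (q ^ 2 - 1) ∣ 2 * (Q * (Q ^ 2 - 1)) := by
        rw [← hc]
        refine Nat.mul_dvd_mul_left 2 (hMc.trans ?_)
        rcases hK' with e' | e' <;> rw [← e']
        exact dvd_mul_left _ _
      obtain rfl := CfsgLib.PSL2Max.subfield_eq hp hn (by omega) (by omega) hm hQm hr hF.symm hd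
      rcases hK' with e' | e'
      · omega
      · exfalso
        rw [e'] at hMG
        exact CfsgLib.PSL2Max.not_dvd_half hq hq3 hr3 hcard ((dvd_mul_left _ _).trans hMG)

end Cfsg.Agent.S5942
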