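import Cfsg.Statements.S5943
import Cfsg.Agent.Lib.PSL2Max.Basic
import Cfsg.Agent.Lib.PSL2Max.Arith
import Cfsg.Agent.Lib.PSL2Subfield
import Cfsg.Agent.S0810
-- import your own Cfsg.Agent.* helpers here

set_option autoImplicit false
open Cfsg

namespace Cfsg.Agent.S5943

/-- Let K and F be finite fields of characteristic 2 with #K = q > 2 and #F = q^r for a prime r. Then PSL_2(F) has a maximal subgroup isomorphic to PSL_2(K) (which equals PGL_2(K) in characteristic 2). -/
theorem result {F K : Type*} [Field F] [Fintype F] [Field K] [Fintype K] (q r : ℕ) (hK : Fintype.card K = q) (hF : Fintype.card F = q ^ r) (hq : Even q) (hq2 : q ≠ 2) (hr : r.Prime) : ∃ H : Subgroup (Matrix.ProjectiveSpecialLinearGroup (Fin 2) F), IsCoatom H ∧ Nonempty (H ≃* Matrix.ProjectiveSpecialLinearGroup (Fin 2) K) := by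
  classical
  obtain ⟨p, hpc⟩ := CharP.exists F
  haveI := Fact.mk (CharP.char_is_prime F p)
  have hp := (Fact.out : p.Prime)
  obtain ⟨n, -, hn⟩ := FiniteField.card F p
  obtain ⟨H, ⟨e⟩⟩ := CfsgLib.PSL2Subfield.exists_sub (F := F) (K := K) r hr.one_le (by rw [hK, hF])
  have hq4 : 4 ≤ q := by
    have := Fintype.one_lt_card (α := K)
    obtain ⟨j, rfl⟩ := hq
    omega
  have hg : ∀ {L : Type} [Fintype L], True := fun {L} _ => trivial
  have hc : Nat.card H = q * (q ^ 2 - 1) := by
    have h := CfsgLib.DicksonFull.card_psl (F := K)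
    rw [hK, show Nat.gcd 2 (q - 1) = 1 from Nat.coprime_two_left.mpr (by
      obtain ⟨j, rfl⟩ := hq; exact ⟨j - 1, by omega⟩), one_mul] at h
    rw [Nat.card_congr e.toEquiv, h]
  have hcard : Nat.card (Matrix.ProjectiveSpecialLinearGroup (Fin 2) F) =
      q ^ r * ((q ^ r) ^ 2 - 1) := by
    have h := CfsgLib.DicksonFull.card_psl (F := F)
    rw [hF, show Nat.gcd 2 (q ^ r - 1) = 1 from Nat.coprime_two_left.mpr (by
      obtain ⟨j, hj⟩ := hq.pow_of_ne_zero hr.ne_zero
      have : 1 ≤ q ^ r := Nat.one_le_pow _ _ (by omega)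
      exact ⟨j - 1, by omega⟩), one_mul] at h
    exact h
  have hns : ¬ Group.IsSolvable H := fun h => Cfsg.Agent.S0810.not_solvable (K := K) (hK ▸ hq4) (by
    haveI := h
    exact Group.isSolvable_of_isSolvable_injective (f := e.symm.toMonoidHom) e.symm.injective)
  refine ⟨H, CfsgLib.PSL2Max.coatom_of ?_ fun M hHM hM => ?_, ⟨e⟩⟩
  · intro hT
    rw [hT, Subgroup.card_top, hcard] at hc
    have h1 : q ^ 2 ≤ q ^ r := Nat.pow_le_pow_right (by omega) hr.two_le
    have h4 : q < q ^ 2 := lt_self_pow₀ (by omega) (by norm_num)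
    have : q * (q ^ 2 - 1) < q ^ r * ((q ^ r) ^ 2 - 1) :=
      Nat.mul_lt_mul_of_lt_of_le (by omega) (Nat.sub_le_sub_right (Nat.pow_le_pow_left (by omega) 2) 1) (by
        have := Nat.pow_le_pow_left (show 4 ≤ q ^ r by omega) 2
        omega)
    omega
  · have hMc := Subgroup.card_dvd_of_le hHM
    have hge : 4 * 15 ≤ q * (q ^ 2 - 1) := Nat.mul_le_mul hq4 (by
      have := Nat.pow_le_pow_left hq4 2
      omega)
    rcases CfsgLib.DicksonFull.proper_cases p hM with ⟨k, -, h⟩ | ⟨⟨e'⟩⟩ | ⟨⟨e'⟩⟩ | ⟨⟨e'⟩⟩ |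
      ⟨u, hu, hub⟩ | ⟨Q, m, L, _, _, hL, hQ, hm, hQm, hle, -, hiso⟩
    · exfalso
      rcases h with ⟨hcy, -⟩ | ⟨⟨e'⟩⟩
      · exact hns (by
          haveI : Group.IsSolvable M := Group.isSolvable_of_comm fun a b =>
            (IsCyclic.commGroup (α := M)).mul_comm a b
          exact Group.isSolvable_of_isSolvable_injective (f := Subgroup.inclusion hHM)
            (Subgroup.inclusion_injective hHM))
      · exact hns (by
          haveI := Cfsg.Agent.S0810.dihedral_solvable k
          exact Group.isSolvable_of_isSolvable_injective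
            (f := e'.toMonoidHom.comp (Subgroup.inclusion hHM))
            (e'.injective.comp (Subgroup.inclusion_injective hHM)))
    · rw [Nat.card_congr e'.toEquiv, CfsgLib.PSL2Max.card_a4]; omega
    · rw [Nat.card_congr e'.toEquiv, CfsgLib.PSL2Max.card_s4]; omega
    · rw [Nat.card_congr e'.toEquiv, CfsgLib.PSL2Max.card_a5]; omega
    · exact absurd (by
        haveI := Cfsg.Agent.S0810.bor_solvable p hu
        exact Group.isSolvable_of_isSolvable_injective (f := Subgroup.inclusion (hHM.trans hub))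
          (Subgroup.inclusion_injective (hHM.trans hub))) hns
    · have hMG := M.card_subgroup_dvd_card
      rw [hc] at hMc
      obtain rfl : Q = q := by
        refine CfsgLib.PSL2Max.subfield_eq hp hn (by omega) (by omega) hm hQm hr hF.symm ?_
        refine hMc.trans (Dvd.dvd.mul_left ?_ 2)
        rcases hiso with ⟨⟨e'⟩⟩ | ⟨⟨e'⟩⟩
        · have h := CfsgLib.DicksonFull.card_psl (F := L)
          rw [hL] at h
          rw [Nat.card_congr e'.toEquiv, ← h]
          exact dvd_mul_left _ _
        · rw [Nat.card_congr e'.toEquiv, CfsgLib.SLCard.card_PGL, CfsgLib.SLCard.card_SL_two, hL]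
      omega

end Cfsg.Agent.S5943
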