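import Cfsg.Statements.S5947
-- import your own Cfsg.Agent.* helpers here

set_option autoImplicit false
open Cfsg

namespace Cfsg.Agent.S5947

/-- Let F ⊆ K be finite fields with |F| = q and [K : F] = n ≥ 2, regard K as an n-dimensional F-vector space, and let M ≤ GL_F(K) be the Singer group of multiplications by non-zero elements of K (cyclic of order q^n − 1). Assume (n, q) ≠ (6, 2), and that it is not the case that n = 2 with q a prime such that q + 1 is a power of 2. Then every abelian subgroup of GL_F(K) of order q^n − 1 is conjugate to M. -/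
theorem result {F K : Type*} [Field F] [Fintype F] [Field K] [Fintype K] [Algebra F K] (n : ℕ) (hn : 2 ≤ n) (hdim : Module.finrank F K = n)
    (hex1 : ¬ (n = 6 ∧ Fintype.card F = 2))
    (hex2 : ¬ (n = 2 ∧ (Fintype.card F).Prime ∧ ∃ a : ℕ, Fintype.card F + 1 = 2 ^ a))
    (U : Subgroup (Module.End F K)ˣ) (hU : IsMulCommutative U) (hcard : Nat.card U = Fintype.card K - 1) :
    ∃ g : (Module.End F K)ˣ, U.map (MulAut.conj g).toMonoidHom = (Units.map ((Algebra.lmul F K : K →ₐ[F] Module.End F K) : K →* Module.End F K)).range := by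
  classical
  obtain ⟨p, hp⟩ := CharP.exists F
  haveI := Fact.mk (CharP.char_is_prime F p)
  obtain ⟨m, -, hm⟩ := FiniteField.card F p
  set Q := Fintype.card K with hQdef
  have hQ : Q = Fintype.card F ^ n := by rw [hQdef, Module.card_eq_pow_finrank (K := F) (V := K), hdim]
  haveI : Finite (Module.End F K) :=
    Finite.of_injective (fun f => (f : K → K)) DFunLike.coe_injective
  set A := Algebra.adjoin F (((↑) : (Module.End F K)ˣ → Module.End F K) '' (U : Set (Module.End F K)ˣ)) with hA
  letI : CommRing A := Algebra.adjoinCommRingOfComm F (by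
    rintro _ ⟨a, ha, rfl⟩ _ ⟨b, hb, rfl⟩
    have := congrArg (fun x : U => ((x : (Module.End F K)ˣ) : Module.End F K))
      (hU.is_comm.comm ⟨a, ha⟩ ⟨b, hb⟩)
    simpa using this)
  have hmem : ∀ u ∈ U, (u : Module.End F K) ∈ A := fun u hu => Algebra.subset_adjoin ⟨u, hu, rfl⟩
  have hQ1 : 1 < Q := Fintype.one_lt_card
  -- every element of the algebra is fixed by the `Q`-th power
  haveI : CharP A p := charP_of_injective_algebraMap (algebraMap F A).injective p
  have hpow : ∀ a : A, a ^ Q = a := by
    rintro ⟨a, ha⟩
    induction ha using Algebra.adjoin_induction with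
    | mem x hx =>
      obtain ⟨u, hu, rfl⟩ := hx
      refine Subtype.ext ?_
      show (u : Module.End F K) ^ Q = u
      have h1 : (⟨u, hu⟩ : U) ^ (Q - 1) = 1 := hcard ▸ pow_card_eq_one'
      have h2 : u ^ (Q - 1) = 1 := congrArg Subtype.val h1
      rw [← Units.val_pow_eq_pow_val, show Q = Q - 1 + 1 by omega, pow_succ, h2, one_mul]
    | algebraMap r =>
      refine Subtype.ext ?_
      show algebraMap F (Module.End F K) r ^ Q = algebraMap F (Module.End F K) r
      rw [← map_pow, hQ, FiniteField.pow_card_pow]
    | add x y hx hy ihx ihy =>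
      show (⟨x, hx⟩ + ⟨y, hy⟩ : A) ^ Q = ⟨x, hx⟩ + ⟨y, hy⟩
      rw [hQ, hm, ← pow_mul, add_pow_char_pow, pow_mul, ← hm, ← hQ, ihx, ihy]
    | mul x y hx hy ihx ihy =>
      show (⟨x, hx⟩ * ⟨y, hy⟩ : A) ^ Q = ⟨x, hx⟩ * ⟨y, hy⟩
      rw [mul_pow, ihx, ihy]
  -- a vector with trivial annihilator
  let ann : K → Finset A := fun v => letI := Fintype.ofFinite A; Finset.univ.filter fun a => (a : Module.End F K) v = 0
  obtain ⟨v, -, hv⟩ := Finset.exists_min_image Finset.univ (fun v => (ann v).card) Finset.univ_nonempty
  have hmemann : ∀ w a, a ∈ ann w ↔ (a : Module.End F K) w = 0 := fun w a => by simp [ann]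
  have hinj : Function.Injective fun a : A => (a : Module.End F K) v := by
    intro x y hxy
    by_contra hne
    set a := x - y with ha
    have hav : (a : Module.End F K) v = 0 := by
      rw [ha, Subalgebra.coe_sub, LinearMap.sub_apply, sub_eq_zero]; exact hxy
    obtain ⟨w, hw⟩ : ∃ w, (a : Module.End F K) w ≠ 0 := by
      by_contra hc
      push Not at hc
      exact hne (sub_eq_zero.mp (Subtype.ext (LinearMap.ext hc)))
    set e := a ^ (Q - 1) with he
    have hae : a * e = a := by rw [he, ← pow_succ', show Q - 1 + 1 = Q by omega, hpow]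
    have hev : (e : Module.End F K) v = 0 := by
      rw [he, show Q - 1 = Q - 2 + 1 by omega, pow_succ, Subalgebra.coe_mul, Module.End.mul_apply, hav, map_zero]
    set v' := v + (e : Module.End F K) w with hv'
    have h1 : ∀ b ∈ ann v', b ∈ ann v := by
      intro b hb
      rw [hmemann] at hb ⊢
      have hee : (1 - e) * e = 0 := by
        rw [sub_mul, one_mul, sub_eq_zero]
        have : e * e = a ^ (Q - 2) * (a * e) := by
          conv_lhs => arg 1; rw [he, show Q - 1 = Q - 2 + 1 by omega, pow_succ]
          rw [mul_assoc]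
        rw [this, hae, ← pow_succ, he, show Q - 2 + 1 = Q - 1 by omega]
      have h2 : ((1 - e : A) : Module.End F K) v' = v := by
        rw [hv', map_add, ← Module.End.mul_apply (f := ((1 - e : A) : Module.End F K)), ← Subalgebra.coe_mul, hee]
        simp [hev]
      rw [← h2, ← Module.End.mul_apply (f := (b : Module.End F K)), ← Subalgebra.coe_mul, mul_comm,
        Subalgebra.coe_mul, Module.End.mul_apply, hb, map_zero]
    have h2 : a ∉ ann v' := by
      rw [hmemann, hv', map_add, hav, zero_add, ← Module.End.mul_apply, ← Subalgebra.coe_mul, hae]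
      exact hw
    exact absurd (hv v' (Finset.mem_univ _)) (not_le.mpr
      (Finset.card_lt_card ⟨h1, fun h => h2 (h ((hmemann v a).mpr hav))⟩))
  have hAK : Nat.card A ≤ Q := by
    rw [hQdef, ← Nat.card_eq_fintype_card]; exact Nat.card_le_card_of_injective _ hinj
  -- the units are everything but zero
  let ι : U → A := fun u => ⟨_, hmem u u.2⟩
  have hι : Function.Injective ι := fun a b h => Subtype.ext (Units.ext (congrArg Subtype.val h))
  have hunit : ∀ u : U, IsUnit (ι u) := fun u =>
    IsUnit.of_mul_eq_one (ι u⁻¹) (Subtype.ext (congrArg Units.val (mul_inv_cancel (u : (Module.End F K)ˣ))))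
  letI := Fintype.ofFinite A
  letI := Fintype.ofFinite U
  have hsub : Finset.univ.image ι ⊆ Finset.univ.erase 0 := by
    intro a ha
    obtain ⟨u, -, rfl⟩ := Finset.mem_image.mp ha
    refine Finset.mem_erase.mpr ⟨fun h0 => ?_, Finset.mem_univ _⟩
    have h1 := hunit u
    rw [h0] at h1
    obtain ⟨c, hc⟩ := isUnit_iff_exists_inv.mp h1
    rw [zero_mul] at hc
    exact one_ne_zero (α := K) (by simpa using (congrArg (fun a : A => (a : Module.End F K) 1) hc).symm)
  have hcU : (Finset.univ.image ι).card = Q - 1 := by
    rw [Finset.card_image_of_injective _ hι, Finset.card_univ, ← Nat.card_eq_fintype_card, hcard]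
  have hcA : Fintype.card A = Q := by
    have h1 := Finset.card_le_card hsub
    rw [hcU, Finset.card_erase_of_mem (Finset.mem_univ _), Finset.card_univ] at h1
    rw [Nat.card_eq_fintype_card] at hAK
    have := Fintype.card_pos (α := A)
    omega
  have heq : Finset.univ.image ι = Finset.univ.erase 0 := Finset.eq_of_subset_of_card_le hsub (by
    rw [hcU, Finset.card_erase_of_mem (Finset.mem_univ _), Finset.card_univ, hcA])
  haveI : Nontrivial A := Fintype.one_lt_card_iff_nontrivial.mp (hcA ▸ hQ1)
  have hfield : IsField A := ⟨⟨0, 1, zero_ne_one⟩, mul_comm, fun {a} ha => by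
    have : a ∈ Finset.univ.image ι := by rw [heq]; simp [ha]
    obtain ⟨u, -, rfl⟩ := Finset.mem_image.mp this
    exact isUnit_iff_exists_inv.mp (hunit u)⟩
  letI := hfield.toField
  have hfin : Module.finrank F A = Module.finrank F K := by
    have h1 := Module.card_eq_pow_finrank (K := F) (V := A)
    rw [hcA, hQ] at h1
    rw [hdim]
    exact (Nat.pow_right_injective (Fintype.one_lt_card (α := F)) h1).symm
  let P : Polynomial F := Polynomial.X ^ Q - Polynomial.X
  haveI hPK : Polynomial.IsSplittingField F K P := FiniteField.isSplittingField_sub K F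
  haveI hPA : Polynomial.IsSplittingField F A P := by
    have := FiniteField.isSplittingField_sub A F
    rwa [hcA] at this
  have e : K ≃ₐ[F] A :=
    (Polynomial.IsSplittingField.algEquiv K P).trans (Polynomial.IsSplittingField.algEquiv A P).symm
  set σ : K →ₐ[F] Module.End F K := A.val.comp e.toAlgHom with hσ
  let L : K →ₗ[F] K := (LinearMap.applyₗ v).comp σ.toLinearMap
  have hL : Function.Bijective L := Finite.injective_iff_bijective.mp (fun x y h => e.injective (hinj h))
  let Le := LinearEquiv.ofBijective L hL
  let g : (Module.End F K)ˣ := ((LinearMap.GeneralLinearGroup.generalLinearEquiv F K).symm Le.symm)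
  refine ⟨g, Subgroup.eq_of_le_of_card_ge ?_ ?_⟩
  · rintro _ ⟨u, hu, rfl⟩
    obtain ⟨x, hx⟩ := e.surjective (ι ⟨u, hu⟩)
    have hu' : (u : Module.End F K) = σ x := by
      rw [hσ]
      exact (congrArg Subtype.val hx).symm
    have hx0 : x ≠ 0 := by
      rintro rfl
      rw [map_zero] at hu'
      exact one_ne_zero (α := K) (by
        have := congrArg (fun f : Module.End F K => (((u⁻¹ : (Module.End F K)ˣ) : Module.End F K) * f) 1) hu'
        simpa [← Units.val_mul] using this)
    refine ⟨Units.mk0 x hx0, Units.ext ?_⟩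
    ext z
    show x * z = Le.symm (u.1 (Le z))
    refine Le.injective ?_
    rw [LinearEquiv.apply_symm_apply]
    show σ (x * z) v = u.1 (σ z v)
    rw [map_mul, hu']; rfl
  · rw [← Nat.card_congr (U.equivMapOfInjective _ (MulAut.conj g).injective).toEquiv, hcard,
      ← Nat.card_congr (MonoidHom.ofInjective (Units.map_injective
        (f := ((Algebra.lmul F K : K →ₐ[F] Module.End F K) : K →* Module.End F K)) Algebra.lmul_injective)).toEquiv,
      Nat.card_eq_fintype_card, Fintype.card_units]

end Cfsg.Agent.S5947
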