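import Cfsg.Statements.S5953
import Cfsg.Agent.Lib.HermIso.Main

set_option autoImplicit false
open scoped MatrixGroups
open Cfsg

namespace Cfsg.Agent.S5953

/-- Elements of prime order of PSU_n(q) with no fixed totally isotropic `m`-space. Here `T = PSU_n(q)` (`n ≥ 3`, `(n, q) ≠ (3, 2)`), realised through the matrices of determinant 1 over the field `F` with `q²` elements preserving the Hermitian form `h(u, v) = Σ u_i v_i^q`; an element of `T` of prime order `r` is such a matrix `x` with `x^r` scalar and `x` not scalar. For `r ≠ p` let `i` be the multiplicative order of `q` modulo `r`, `b = i/2` for `i` even and `b = i` for `i` odd, `c = i, i/2, 2i` according as `i ≡ 0, 2 (mod 4)` or `i` odd, and write `k = n mod c`, `ℓ = m mod b`, `ℓ' = m mod c`, `n' = ⌊n/b⌋`, `m' = ⌊m/b⌋`, `s = (r−1)/b`; `(a)_r` is the `r`-part of `a`. Let `1 ≤ m ≤ n/2` and let `r` be a prime dividing the number of totally isotropic `m`-spaces. Then every element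 of `T` of order `r` fixes a totally isotropic `m`-space if and only if either (i) `r = 2`, `p ≠ 2`, and (`m < n/2` or `(q+1)_2 ≤ (n)_2`); or (ii) `r ≠ p`, `r > 2`, `b ≤ m`, `k ≥ 2ℓ`, and either `i ≢ 2 (mod 4)`, or `i ≡ 2 (mod 4)`, `n' − 2m' ≥ s` and (`i > 2`, or `i = 2` and (`r ∣ m` or `(q+1)_r ≥ (n)_r`)). -/
theorem result {F : Type*} [Field F] [Fintype F] {p : ℕ} [Fact p.Prime] [CharP F p] {q : ℕ} (hq : Fintype.card F = q ^ 2)
    (n m : ℕ) (hn : 3 ≤ n) (hT : (n, q) ≠ (3, 2)) (hm : 1 ≤ m) (hmn : 2 * m ≤ n)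
    (r : ℕ) [Fact r.Prime]
    (hrΩ : r ∣ Nat.card {W : Submodule F (Fin n → F) // Module.finrank F ↥W = m ∧ (∀ u ∈ W, ∀ v ∈ W, Cfsg.hermForm n F q u v = 0)})
    (i b c : ℕ) (hi : i = orderOf (q : ZMod r)) (hb : b = if Even i then i / 2 else i)
    (hc : c = if i % 4 = 0 then i else if i % 4 = 2 then i / 2 else 2 * i) :
    (∀ x : Matrix.SpecialLinearGroup (Fin n) F, x ∈ Cfsg.SU n F q →
      (∃ z : F, ((x ^ r : Matrix.SpecialLinearGroup (Fin n) F) : Matrix (Fin n) (Fin n) F) = z • (1 : Matrix (Fin n) (Fin n) F)) →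
      (∀ z : F, (x : Matrix (Fin n) (Fin n) F) ≠ z • (1 : Matrix (Fin n) (Fin n) F)) →
      ∃ W : Submodule F (Fin n → F), Module.finrank F ↥W = m ∧ (∀ u ∈ W, ∀ v ∈ W, Cfsg.hermForm n F q u v = 0) ∧
        W.map (Matrix.toLin' (x : Matrix (Fin n) (Fin n) F)) ≤ W) ↔
    ((r = 2 ∧ p ≠ 2 ∧ (2 * m < n ∨ padicValNat 2 (q + 1) ≤ padicValNat 2 n)) ∨
     (r ≠ p ∧ 2 < r ∧ b ≤ m ∧ 2 * (m % b) ≤ n % c ∧
       (i % 4 ≠ 2 ∨ (i % 4 = 2 ∧ (r - 1) / b + 2 * (m / b) ≤ n / b ∧
         (2 < i ∨ (i = 2 ∧ (r ∣ m ∨ padicValNat r n ≤ padicValNat r (q + 1)))))))) := by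
  obtain ⟨hrp, l, hl1, hl2, hl3⟩ := CfsgLib.HermIso.count_facts (p := p) hq Fact.out hmn hrΩ
  have hq0 : (q : ZMod r) ≠ 0 := fun e => by
    rw [e, neg_zero, zero_pow (by omega)] at hl3
    exact zero_ne_one hl3
  rcases eq_or_ne r 2 with rfl | hr2
  · have hp2 : p ≠ 2 := hrp.symm
    simp only [true_and, ne_eq, hp2, not_false_eq_true, lt_irrefl, and_false, false_and, or_false]
    constructor
    · intro hall
      by_contra hno
      push Not at hno
      obtain ⟨x, hx, hx2, hxs, hbad⟩ := CfsgLib.HermIso.two_neg (p := p) hq hp2 (by omega) (by omega : 2 * m = n) hno.2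
      exact hbad (hall x hx hx2 hxs)
    · intro hcond x hx hxr hxs
      obtain ⟨z, hz⟩ := hxr
      rw [Matrix.SpecialLinearGroup.coe_pow] at hz
      exact CfsgLib.HermIso.two_pos (p := p) (y := Matrix.SpecialLinearGroup.toGL x) hq hp2 (by omega) hmn hx x.2 hz hcond
  have hr : 2 < r := lt_of_le_of_ne (Fact.out : r.Prime).two_le hr2.symm
  obtain ⟨hb', hc', hi0, hi4, hi2, hc1⟩ := CfsgLib.HermIso.order_facts hq hr hq0 hi hb hc
  have hk : n % c < 2 * m := by
    obtain ⟨j, rfl⟩ := (hc' ▸ orderOf_dvd_of_pow_eq_one hl3 : c ∣ l)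
    have hcpos : 0 < c := Nat.pos_of_ne_zero fun e => by
      rw [e, zero_mul] at hl1
      omega
    have h1 := Nat.mul_le_mul_left c ((Nat.le_div_iff_mul_le hcpos).mpr (by rw [mul_comm]; exact hl2) : j ≤ n / c)
    have h2 := Nat.div_add_mod n c
    omega
  simp only [hr2, false_and, false_or, ne_eq, hrp, not_false_eq_true, hr, true_and]
  constructor
  · intro hall
    by_contra hno
    refine Exists.elim (CfsgLib.HermIso.neg_main (p := p) hq hrp hr2 (show 0 < n by omega) hb' hc' hc1 hk ?_)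
      fun x ⟨hx, hxr, hbad⟩ => hbad (hall x hx hxr (CfsgLib.HermIso.not_scalar (p := p) hq hrp hmn hbad))
    rintro ⟨hA, hB, hC⟩
    refine hno ⟨?_, hA, ?_⟩
    · by_contra hlt
      rw [Nat.mod_eq_of_lt (show m < b by omega)] at hA
      omega
    · by_cases h4 : i % 4 = 2
      · refine Or.inr ⟨h4, hB (hi4.mp h4), ?_⟩
        by_cases h2 : i = 2
        · exact Or.inr ⟨h2, hC (hi2.mp h2)⟩
        · exact Or.inl (by omega)
      · exact Or.inl h4
  · rintro ⟨-, hA, hB⟩ x hx ⟨z, hz⟩ -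
    rw [Matrix.SpecialLinearGroup.coe_pow] at hz
    refine CfsgLib.HermIso.pos_main (p := p) hq hrp hr2 (by omega) hmn hb' hc' hc1 hA (fun e => ?_) (fun e => ?_)
      (y := Matrix.SpecialLinearGroup.toGL x) hx x.2 hz
    · rcases hB with hB | ⟨-, hB, -⟩
      · exact absurd (hi4.mpr e) hB
      · exact hB
    · have h2 : i = 2 := hi2.mpr e
      rcases hB with hB | ⟨-, -, hB | ⟨-, hB⟩⟩
      · omega
      · omega
      · exact hB

end Cfsg.Agent.S5953
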