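import Cfsg.Statements.S5954
import Cfsg.Agent.Lib.HermIso.NondegTwo
import Cfsg.Agent.Lib.HermIso.NondegCount
import Cfsg.Agent.Lib.HermIso.NondegUni

set_option autoImplicit false
open scoped MatrixGroups
open Cfsg

namespace Cfsg.Agent.S5954

/-- Elements of prime order of PSU_n(q) with no fixed nondegenerate `m`-space. Here `T = PSU_n(q)` (`n ≥ 3`, `(n, q) ≠ (3, 2)`), realised through the matrices of determinant 1 over the field `F` with `q²` elements preserving the Hermitian form `h(u, v) = Σ u_i v_i^q`; an element of `T` of prime order `r` is such a matrix `x` with `x^r` scalar and `x` not scalar. For `r ≠ p` let `i` be the multiplicative order of `q` modulo `r`, `b = i/2` for `i` even and `b = i` for `i` odd, `c = i, i/2, 2i` according as `i ≡ 0, 2 (mod 4)` or `i` odd, and write `k = n mod c`, `ℓ = m mod b`, `ℓ' = m mod c`, `n' = ⌊n/b⌋`, `m' = ⌊m/b⌋`, `s = (r−1)/b`; `(a)_r` is the `r`-part of `a`. Let `1 ≤ m < n/2` and let `r`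 be a prime dividing the number of nondegenerate `m`-spaces. Then every element of `T` of order `r` fixes a nondegenerate `m`-space if and only if one of: (i) `r = p > 2` and every partition of `n` into parts of size at most `p` contains (as a sub-multiset) a partition of `m`; (ii) `r = p = 2` and (`n` is odd or `m` is even); (iii) `r = 2 ≠ p` and (`n` is odd, or `m` is even, or `(q+1)_2 ≥ (n)_2` and `q ≡ 3 (mod 4)`); (iv) `r ≠ p`, `r > 2`, and either `i ≠ 2`, `c ≤ m` and `k ≥ ℓ'`, or `i = 2` and (`r ∣ m` or `(q+1)_r ≥ (n)_r`). -/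
theorem result {F : Type*} [Field F] [Fintype F] {p : ℕ} [Fact p.Prime] [CharP F p] {q : ℕ} (hq : Fintype.card F = q ^ 2)
    (n m : ℕ) (hn : 3 ≤ n) (hT : (n, q) ≠ (3, 2)) (hm : 1 ≤ m) (hmn : 2 * m < n)
    (r : ℕ) [Fact r.Prime]
    (hrΩ : r ∣ Nat.card {W : Submodule F (Fin n → F) // Module.finrank F ↥W = m ∧ (∀ u ∈ W, u ≠ 0 → ∃ v ∈ W, Cfsg.hermForm n F q u v ≠ 0)})
    (i b c : ℕ) (hi : i = orderOf (q : ZMod r)) (hb : b = if Even i then i / 2 else i)
    (hc : c = if i % 4 = 0 then i else if i % 4 = 2 then i / 2 else 2 * i) :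
    (∀ x : Matrix.SpecialLinearGroup (Fin n) F, x ∈ Cfsg.SU n F q →
      (∃ z : F, ((x ^ r : Matrix.SpecialLinearGroup (Fin n) F) : Matrix (Fin n) (Fin n) F) = z • (1 : Matrix (Fin n) (Fin n) F)) →
      (∀ z : F, (x : Matrix (Fin n) (Fin n) F) ≠ z • (1 : Matrix (Fin n) (Fin n) F)) →
      ∃ W : Submodule F (Fin n → F), Module.finrank F ↥W = m ∧ (∀ u ∈ W, u ≠ 0 → ∃ v ∈ W, Cfsg.hermForm n F q u v ≠ 0) ∧
        W.map (Matrix.toLin' (x : Matrix (Fin n) (Fin n) F)) ≤ W) ↔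
    ((r = p ∧ 2 < p ∧ (∀ μ : Multiset ℕ, (∀ a ∈ μ, 0 < a ∧ a ≤ p) → μ.sum = n → ∃ ν : Multiset ℕ, ν ≤ μ ∧ ν.sum = m)) ∨
     (r = p ∧ p = 2 ∧ (Odd n ∨ Even m)) ∨
     (r = 2 ∧ p ≠ 2 ∧ (Odd n ∨ Even m ∨ (padicValNat 2 n ≤ padicValNat 2 (q + 1) ∧ q % 4 = 3))) ∨
     (r ≠ p ∧ 2 < r ∧ ((i ≠ 2 ∧ c ≤ m ∧ m % c ≤ n % c) ∨ (i = 2 ∧ (r ∣ m ∨ padicValNat r n ≤ padicValNat r (q + 1)))))) := by
  have hmn' : m ≤ n := by omega
  have hscal : ∀ {x : Matrix.SpecialLinearGroup (Fin n) F},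
      ¬ CfsgLib.HermIso.HasND q m (x : Matrix (Fin n) (Fin n) F) →
      ∀ z : F, (x : Matrix (Fin n) (Fin n) F) ≠ z • (1 : Matrix (Fin n) (Fin n) F) :=
    fun h => CfsgLib.HermIso.not_scalar_nd hq hmn' h
  rcases eq_or_ne r p with rfl | hrp
  · have key : (∀ x : Matrix.SpecialLinearGroup (Fin n) F, x ∈ Cfsg.SU n F q →
        (∃ z : F, ((x ^ r : Matrix.SpecialLinearGroup (Fin n) F) : Matrix (Fin n) (Fin n) F) = z • (1 : Matrix (Fin n) (Fin n) F)) →
        (∀ z : F, (x : Matrix (Fin n) (Fin n) F) ≠ z • (1 : Matrix (Fin n) (Fin n) F)) →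
        CfsgLib.HermIso.HasND q m (x : Matrix (Fin n) (Fin n) F)) ↔ CfsgLib.HermIso.Splits r n m := by
      constructor
      · intro hall
        by_contra hno
        obtain ⟨x, hx, hxr, hbad⟩ := CfsgLib.HermIso.nd_uni_neg hq hno
        exact hbad (hall x hx hxr (hscal hbad))
      · rintro hs x hx ⟨z, hz⟩ -
        rw [Matrix.SpecialLinearGroup.coe_pow] at hz
        exact CfsgLib.HermIso.nd_uni_pos (p := r) (y := Matrix.SpecialLinearGroup.toGL x) hq (by omega) hs hx hz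
    refine key.trans ?_
    have := (Fact.out : r.Prime).two_le
    constructor
    · intro hs
      rcases eq_or_ne r 2 with rfl | h2
      · exact Or.inr (Or.inl ⟨rfl, rfl, (CfsgLib.HermIso.splits_two hmn').mp hs⟩)
      · exact Or.inl ⟨rfl, by omega, hs⟩
    · rintro (⟨-, -, h⟩ | ⟨-, h2, h⟩ | ⟨h, h', -⟩ | ⟨h, -⟩)
      · exact h
      · subst h2
        exact (CfsgLib.HermIso.splits_two hmn').mpr h
      · exact absurd h h'
      · exact absurd rfl h
  rcases eq_or_ne r 2 with rfl | hr2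
  · have hp2 : p ≠ 2 := hrp.symm
    simp only [hrp, hp2, ne_eq, not_false_eq_true, false_and, true_and, lt_irrefl, and_false, or_false, false_or]
    constructor
    · intro hall
      by_contra hno
      rw [not_or, not_or] at hno
      obtain ⟨h1, h2, h3⟩ := hno
      obtain ⟨x, hx, hx2, hbad⟩ := CfsgLib.HermIso.nd_two_neg (p := p) hq hp2 (show 0 < n by omega)
        (Nat.not_odd_iff_even.mp h1) (Nat.not_even_iff_odd.mp h2) h3
      exact hbad (hall x hx hx2 (hscal hbad))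
    · intro hcond x hx hxr hxs
      obtain ⟨z, hz⟩ := hxr
      rw [Matrix.SpecialLinearGroup.coe_pow] at hz
      exact CfsgLib.HermIso.nd_two_pos (p := p) (y := Matrix.SpecialLinearGroup.toGL x) hq hp2 (by omega) hmn' hx x.2 hz hcond
  obtain ⟨l, hl1, hl2, hl3⟩ := CfsgLib.HermIso.nd_count_facts (p := p) hq Fact.out hrp hmn' hrΩ
  have hr : 2 < r := lt_of_le_of_ne (Fact.out : r.Prime).two_le hr2.symm
  have hq0 : (q : ZMod r) ≠ 0 := fun e => by
    rw [e, neg_zero, zero_pow (by omega)] at hl3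
    exact zero_ne_one hl3
  obtain ⟨hb', hc', hi0, hi4, hi2, hc1⟩ := CfsgLib.HermIso.order_facts hq hr hq0 hi hb hc
  have hk : n % c < m := by
    obtain ⟨j, rfl⟩ := (hc' ▸ orderOf_dvd_of_pow_eq_one hl3 : c ∣ l)
    have hcpos : 0 < c := Nat.pos_of_ne_zero fun e => by
      rw [e, zero_mul] at hl1
      omega
    have h1 := Nat.mul_le_mul_left c ((Nat.le_div_iff_mul_le hcpos).mpr (by rw [mul_comm]; exact hl2) : j ≤ n / c)
    have h2 := Nat.div_add_mod n c
    omega
  simp only [hr2, hrp, ne_eq, not_false_eq_true, false_and, true_and, false_or, hr]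
  constructor
  · intro hall
    by_contra hno
    refine Exists.elim (CfsgLib.HermIso.nd_neg (p := p) hq hrp hr2 (show 0 < n by omega) hb' hc' hc1 ?_)
      fun x ⟨hx, hxr, hbad⟩ => hbad (hall x hx hxr (hscal hbad))
    rintro ⟨hA, hC⟩
    refine hno ?_
    by_cases h2 : i = 2
    · exact Or.inr ⟨h2, hC (hi2.mp h2)⟩
    · refine Or.inl ⟨h2, ?_, hA⟩
      by_contra hlt
      rw [Nat.mod_eq_of_lt (show m < c by omega)] at hA
      omega
  · rintro hB x hx ⟨z, hz⟩ -
    rw [Matrix.SpecialLinearGroup.coe_pow] at hz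
    refine CfsgLib.HermIso.nd_pos (p := p) hq hrp hr2 (by omega) hmn' hb' hc' hc1 ?_ (fun e => ?_)
      (y := Matrix.SpecialLinearGroup.toGL x) hx x.2 hz
    · rcases hB with ⟨-, -, hA⟩ | ⟨h2, -⟩
      · exact hA
      · rw [hi2.mp h2, Nat.mod_one, Nat.mod_one]
    · rcases hB with ⟨h2, -, -⟩ | ⟨-, hC⟩
      · exact absurd (hi2.mpr e) h2
      · exact hC

end Cfsg.Agent.S5954
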