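import Cfsg.Statements.S5960
import Cfsg.Agent.Lib.MaxSub.PlaneBlocks
import Cfsg.Agent.Lib.IsotropicSymp

set_option autoImplicit false
open scoped MatrixGroups
open Cfsg

namespace Cfsg.Agent.S5960

/-- Involutions of PSp_n(q) and imprimitive subgroups. Here `T = PSp_n(q)`, `n = 2d ≥ 4`, `(n, q) ≠ (4, 2)`, realised through the symplectic matrices over the field `F` with `q` elements and the standard alternating form; `n = a·t` with `a` even and `t ≥ 2`, and Ω is the (nonempty) set of orthogonal decompositions of `F^n` into `t` nondegenerate subspaces of dimension `a` (unordered; counted as ordered ones divided by `t!`), whose stabilizers are the imprimitive subgroups of type Sp_a(q) ≀ S_t (maximality is not assumed); an element of `T` of prime order `r` (a symplectic matrix `x` with `x^r` scalar, `x` not scalar) fixes a point of Ω when it permutes the summands of some such decomposition. If the number of such decompositions is even, then every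 involution of `T` stabilizes one of them (the action is 2-elusive). -/
theorem result {F : Type*} [Field F] [Fintype F] {p : ℕ} [Fact p.Prime] [CharP F p] {q : ℕ} (hq : Fintype.card F = q)
    (d : ℕ) (hd : 2 ≤ d) (hT : (d, q) ≠ (2, 2))
    (a t : ℕ) (hat : 2 * d = a * t) (ha : 2 ≤ a) (hae : Even a) (ht : 2 ≤ t) (hΩ : 2 ∣ Nat.card {D : Fin t → Submodule F (Fin d ⊕ Fin d → F) // (Cfsg.Geo.IsMDecomposition a D ∧ (∀ j, ∀ u ∈ D j, u ≠ 0 → ∃ v ∈ D j, Cfsg.sympForm d F u v ≠ 0) ∧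
          (∀ j j', j ≠ j' → ∀ u ∈ D j, ∀ v ∈ D j', Cfsg.sympForm d F u v = 0))} / Nat.factorial t)
    (x : ↥(Matrix.symplecticGroup (Fin d) F))
    (hx1 : ∃ z : F, ((x ^ 2 : ↥(Matrix.symplecticGroup (Fin d) F)) : Matrix (Fin d ⊕ Fin d) (Fin d ⊕ Fin d) F) = z • (1 : Matrix (Fin d ⊕ Fin d) (Fin d ⊕ Fin d) F))
    (hx2 : ∀ z : F, (x : Matrix (Fin d ⊕ Fin d) (Fin d ⊕ Fin d) F) ≠ z • (1 : Matrix (Fin d ⊕ Fin d) (Fin d ⊕ Fin d) F)) :
    ∃ D : Fin t → Submodule F (Fin d ⊕ Fin d → F), (Cfsg.Geo.IsMDecomposition a D ∧ (∀ j, ∀ u ∈ D j, u ≠ 0 → ∃ v ∈ D j, Cfsg.sympForm d F u v ≠ 0) ∧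
          (∀ j j', j ≠ j' → ∀ u ∈ D j, ∀ v ∈ D j', Cfsg.sympForm d F u v = 0)) ∧
        ∃ σ : Equiv.Perm (Fin t), ∀ j, (D j).map (Matrix.toLin' (x : Matrix (Fin d ⊕ Fin d) (Fin d ⊕ Fin d) F)) = D (σ j) := by
  obtain ⟨z, hz⟩ := hx1
  rw [SubmonoidClass.coe_pow, pow_two] at hz
  have hxv : ∀ v, Matrix.toLin' (x : Matrix (Fin d ⊕ Fin d) (Fin d ⊕ Fin d) F) v = x.1.mulVec v := fun v =>
    Matrix.toLin'_apply _ _
  obtain ⟨D, h1, h2, h3, h4, h5, h6⟩ := CfsgLib.MaxSub.orth_blocks (CfsgLib.IsotropicCount.sympB d F)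
    CfsgLib.IsotropicCount.sympB_alt (fun y hy => by
      by_contra hcon
      simp only [not_exists, not_not] at hcon
      exact hy (CfsgLib.IsotropicCount.sympB_nondeg.1 y hcon))
    (Matrix.toLin' (x : Matrix (Fin d ⊕ Fin d) (Fin d ⊕ Fin d) F))
    (fun u v h => by
      rw [hxv, hxv] at h
      exact Matrix.mulVec_injective_iff_isUnit.mpr
        ((Matrix.isUnit_iff_isUnit_det _).mpr (SymplecticGroup.symplectic_det x.2)) h)
    (fun u v => by
      rw [CfsgLib.IsotropicCount.sympB_apply, CfsgLib.IsotropicCount.sympB_apply]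
      exact CfsgLib.IsotropicCount.symp_preserves x u v)
    z
    (fun v => by
      rw [← LinearMap.comp_apply, ← Matrix.toLin'_mul, hz]
      simp)
    a t ha hae (by simp [← hat, two_mul])
  refine ⟨D, ⟨⟨ht, by omega, h1, h2, h3⟩, fun j u hu hu0 => ?_, fun j j' hj u hu v hv => ?_⟩, h6⟩
  · obtain ⟨v, hv, huv⟩ := h4 j u hu hu0
    exact ⟨v, hv, by rwa [CfsgLib.IsotropicCount.sympB_apply] at huv⟩
  · exact (CfsgLib.IsotropicCount.sympB_apply u v).symm.trans (h5 j j' hj u hu v hv)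

end Cfsg.Agent.S5960
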