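import Cfsg.Statements.S5962
import Cfsg.Agent.Lib.MaxSub.LagPairs
import Cfsg.Agent.Lib.IsotropicSymp

set_option autoImplicit false
open scoped MatrixGroups
open Cfsg

namespace Cfsg.Agent.S5962

/-- Involutions of PSp_n(q), q odd, and the subgroups GL_{n/2}(q).2. Here `T = PSp_n(q)`, `n = 2d ≥ 4`, `q` odd, realised through the symplectic matrices over the field `F` with `q` elements; Ω is the set of unordered pairs `{U, W}` of complementary totally isotropic `d`-spaces (`F^n = U ⊕ W`), whose stabilizers are the subgroups of type GL_d(q).2 (maximal except in some small cases; maximality is not assumed); an element of `T` of prime order `r` (a symplectic matrix `x` with `x^r` scalar, `x` not scalar) fixes such a pair when it fixes or interchanges `U` and `W`. If the number of such pairs is even, every involution of `T` fixes one of them (the action is 2-elusive). -/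
theorem result {F : Type*} [Field F] [Fintype F] {p : ℕ} [Fact p.Prime] [CharP F p] {q : ℕ} (hq : Fintype.card F = q)
    (d : ℕ) (hd : 2 ≤ d) (hT : (d, q) ≠ (2, 2)) (hodd : Odd q)
    (hΩ : 2 ∣ Nat.card {P : Submodule F (Fin d ⊕ Fin d → F) × Submodule F (Fin d ⊕ Fin d → F) // IsCompl P.1 P.2 ∧ (∀ u ∈ P.1, ∀ v ∈ P.1, Cfsg.sympForm d F u v = 0) ∧ (∀ u ∈ P.2, ∀ v ∈ P.2, Cfsg.sympForm d F u v = 0)} / 2)
    (x : ↥(Matrix.symplecticGroup (Fin d) F))
    (hx1 : ∃ z : F, ((x ^ 2 : ↥(Matrix.symplecticGroup (Fin d) F)) : Matrix (Fin d ⊕ Fin d) (Fin d ⊕ Fin d) F) = z • (1 : Matrix (Fin d ⊕ Fin d) (Fin d ⊕ Fin d) F))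
    (hx2 : ∀ z : F, (x : Matrix (Fin d ⊕ Fin d) (Fin d ⊕ Fin d) F) ≠ z • (1 : Matrix (Fin d ⊕ Fin d) (Fin d ⊕ Fin d) F)) :
    ∃ U W : Submodule F (Fin d ⊕ Fin d → F), IsCompl U W ∧ (∀ u ∈ U, ∀ v ∈ U, Cfsg.sympForm d F u v = 0) ∧ (∀ u ∈ W, ∀ v ∈ W, Cfsg.sympForm d F u v = 0) ∧
        ((U.map (Matrix.toLin' (x : Matrix (Fin d ⊕ Fin d) (Fin d ⊕ Fin d) F)) = U ∧ W.map (Matrix.toLin' (x : Matrix (Fin d ⊕ Fin d) (Fin d ⊕ Fin d) F)) = W) ∨
         (U.map (Matrix.toLin' (x : Matrix (Fin d ⊕ Fin d) (Fin d ⊕ Fin d) F)) = W ∧ W.map (Matrix.toLin' (x : Matrix (Fin d ⊕ Fin d) (Fin d ⊕ Fin d) F)) = U)) := by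
  obtain ⟨z, hz⟩ := hx1
  rw [SubmonoidClass.coe_pow, pow_two] at hz
  have h2 : (2 : F) ≠ 0 := Ring.two_ne_zero fun h => by
    haveI : CharP F 2 := ringChar.of_eq h
    have := FiniteField.even_card_iff_char_two.mp h
    rw [hq] at this
    exact (Nat.not_even_iff_odd.mpr hodd) (Nat.even_iff.mpr this)
  obtain ⟨U, W, h1, h2', h3, h4⟩ := CfsgLib.MaxSub.exists_lag_pair (CfsgLib.IsotropicCount.sympB d F)
    CfsgLib.IsotropicCount.sympB_alt (fun y hy => by
      by_contra hcon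
      simp only [not_exists, not_not] at hcon
      exact hy (CfsgLib.IsotropicCount.sympB_nondeg.1 y hcon))
    (Matrix.toLin' (x : Matrix (Fin d ⊕ Fin d) (Fin d ⊕ Fin d) F))
    (fun u v => by
      rw [CfsgLib.IsotropicCount.sympB_apply, CfsgLib.IsotropicCount.sympB_apply]
      exact CfsgLib.IsotropicCount.symp_preserves x u v)
    h2 ⟨Pi.single (Sum.inl ⟨0, by omega⟩) 1, Pi.single_ne_zero_iff.mpr one_ne_zero⟩ z
    (fun v => by
      rw [← LinearMap.comp_apply, ← Matrix.toLin'_mul, hz]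
      simp)
  exact ⟨U, W, h1, fun u hu v hv => (CfsgLib.IsotropicCount.sympB_apply u v).symm.trans (h2' u hu v hv),
    fun u hu v hv => (CfsgLib.IsotropicCount.sympB_apply u v).symm.trans (h3 u hu v hv), h4⟩

end Cfsg.Agent.S5962
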