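import Cfsg.Statements.S5963
import Cfsg.Agent.Lib.MaxSub.LagPairFree

set_option autoImplicit false
open scoped MatrixGroups
open Cfsg

namespace Cfsg.Agent.S5963

/-- Derangements of odd prime order of PSp_n(q), q odd, on pairs of complementary totally isotropic subspaces. Here `T = PSp_n(q)`, `n = 2d ≥ 4`, `q` odd, realised through the symplectic matrices over the field `F` with `q` elements; Ω is the set of unordered pairs `{U, W}` of complementary totally isotropic `d`-spaces (`F^n = U ⊕ W`), whose stabilizers are the subgroups of type GL_d(q).2 (maximal except in some small cases; maximality is not assumed); an element of `T` of prime order `r` (a symplectic matrix `x` with `x^r` scalar, `x` not scalar) fixes such a pair when it fixes or interchanges `U` and `W`. For every odd prime `r ≠ p` dividing the number of such pairs, some element of `T` of order `r` fixes no such pair (the action is never `r`-elusive for odd `r ≠ p`). -/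
theorem result {F : Type*} [Field F] [Fintype F] {p : ℕ} [Fact p.Prime] [CharP F p] {q : ℕ} (hq : Fintype.card F = q)
    (d : ℕ) (hd : 2 ≤ d) (hT : (d, q) ≠ (2, 2)) (hodd : Odd q)
    (r : ℕ) [Fact r.Prime] (hr2 : r ≠ 2) (hrp : r ≠ p) (hΩ : r ∣ Nat.card {P : Submodule F (Fin d ⊕ Fin d → F) × Submodule F (Fin d ⊕ Fin d → F) // IsCompl P.1 P.2 ∧ (∀ u ∈ P.1, ∀ v ∈ P.1, Cfsg.sympForm d F u v = 0) ∧ (∀ u ∈ P.2, ∀ v ∈ P.2, Cfsg.sympForm d F u v = 0)} / 2) :
    ∃ x : ↥(Matrix.symplecticGroup (Fin d) F),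
      (∃ z : F, ((x ^ r : ↥(Matrix.symplecticGroup (Fin d) F)) : Matrix (Fin d ⊕ Fin d) (Fin d ⊕ Fin d) F) = z • (1 : Matrix (Fin d ⊕ Fin d) (Fin d ⊕ Fin d) F)) ∧
      (∀ z : F, (x : Matrix (Fin d ⊕ Fin d) (Fin d ⊕ Fin d) F) ≠ z • (1 : Matrix (Fin d ⊕ Fin d) (Fin d ⊕ Fin d) F)) ∧
      ¬ (∃ U W : Submodule F (Fin d ⊕ Fin d → F), IsCompl U W ∧ (∀ u ∈ U, ∀ v ∈ U, Cfsg.sympForm d F u v = 0) ∧ (∀ u ∈ W, ∀ v ∈ W, Cfsg.sympForm d F u v = 0) ∧
        ((U.map (Matrix.toLin' (x : Matrix (Fin d ⊕ Fin d) (Fin d ⊕ Fin d) F)) = U ∧ W.map (Matrix.toLin' (x : Matrix (Fin d ⊕ Fin d) (Fin d ⊕ Fin d) F)) = W) ∨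
         (U.map (Matrix.toLin' (x : Matrix (Fin d ⊕ Fin d) (Fin d ⊕ Fin d) F)) = W ∧ W.map (Matrix.toLin' (x : Matrix (Fin d ⊕ Fin d) (Fin d ⊕ Fin d) F)) = U))) := by
  subst hq
  have hrq : ¬ r ∣ Fintype.card F := fun h => by
    obtain ⟨n, hp, hn⟩ := FiniteField.card F p
    rw [hn] at h
    exact hrp ((Nat.prime_dvd_prime_iff_eq Fact.out hp).mp ((Fact.out : r.Prime).dvd_of_dvd_pow h))
  have hdiv : r ∣ Nat.card (CfsgLib.MaxSub.LagPairT F d) := by
    obtain ⟨c, hc⟩ := hΩ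
    have heven : Nat.card (CfsgLib.MaxSub.LagPairT F d) / 2 * 2 + Nat.card (CfsgLib.MaxSub.LagPairT F d) % 2 =
        Nat.card (CfsgLib.MaxSub.LagPairT F d) := Nat.div_add_mod' _ _
    haveI : Fintype (CfsgLib.MaxSub.LagPairT F d) := Fintype.ofFinite _
    have h2 : 2 ∣ Nat.card (CfsgLib.MaxSub.LagPairT F d) := by
      let s : Equiv.Perm (CfsgLib.MaxSub.LagPairT F d) := Function.Involutive.toPerm
        (fun P => ⟨(P.1.2, P.1.1), P.2.1.symm, P.2.2.2, P.2.2.1⟩) (fun P => rfl)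
      haveI : DecidableEq (CfsgLib.MaxSub.LagPairT F d) := Classical.decEq _
      have hfix : s.support = Finset.univ := Finset.eq_univ_iff_forall.mpr fun P => by
        rw [Equiv.Perm.mem_support]
        intro e
        have e1 : P.1.2 = P.1.1 := congrArg (fun Q : CfsgLib.MaxSub.LagPairT F d => Q.1.1) e
        have h := P.2.1.disjoint
        rw [e1, disjoint_self] at h
        have := (CfsgLib.MaxSub.lagPair_dim P).1
        rw [h, finrank_bot] at this
        omega
      have hs : s ^ 2 = 1 := Equiv.ext fun P => rfl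
      rw [Nat.card_eq_fintype_card, ← Finset.card_univ, ← hfix, ← Equiv.Perm.sum_cycleType]
      refine Multiset.dvd_sum fun m hm => ?_
      have := Equiv.Perm.two_le_of_mem_cycleType hm
      have := Nat.le_of_dvd (by omega) ((Equiv.Perm.dvd_of_mem_cycleType hm).trans (orderOf_dvd_of_pow_eq_one hs))
      exact ⟨1, by omega⟩
    rw [← Nat.div_mul_cancel h2]
    exact dvd_mul_of_dvd_left ⟨c, hc⟩ 2
  obtain ⟨j, hj1, hjd, hj⟩ := CfsgLib.MaxSub.exists_plus_factor Fact.out hrq hdiv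
  obtain ⟨k, hk1, hkj, hk, hkl⟩ := CfsgLib.MaxSub.exists_primitive_even hr2 hj1 hj hrq
  obtain ⟨x, hx, A, B, hAB⟩ := CfsgLib.MaxSub.exists_small_element (F := F) (d := d) hk1 (by omega) hk
  refine ⟨x, ⟨1, by rw [← hx, pow_orderOf_eq_one, one_smul]; rfl⟩, fun z hz => ?_, ?_⟩
  · have hxe : x ^ r = 1 := hx ▸ pow_orderOf_eq_one x
    have hzr : z ^ r = 1 := by
      have h := congrArg (fun y : ↥(Matrix.symplecticGroup (Fin d) F) => y.1 (Sum.inl ⟨0, by omega⟩) (Sum.inl ⟨0, by omega⟩)) hxe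
      simp only [SubmonoidClass.coe_pow, OneMemClass.coe_one, hz, smul_pow, one_pow, Matrix.smul_apply, Matrix.one_apply_eq, smul_eq_mul, mul_one] at h
      exact h
    have hz2 : z * z = 1 := by
      have h := SymplecticGroup.mem_iff.mp x.2
      rw [hz] at h
      have h' := congrFun (congrFun h (Sum.inl ⟨0, by omega⟩)) (Sum.inr ⟨0, by omega⟩)
      simp [Matrix.J, Matrix.smul_mul, Matrix.mul_smul, smul_smul] at h'
      exact h'
    obtain ⟨n, hn⟩ := (Fact.out : r.Prime).odd_of_ne_two hr2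
    have hz1 : z = 1 := by rwa [hn, pow_succ, pow_mul, pow_two, hz2, one_pow, one_mul] at hzr
    have h1 : x = 1 := Subtype.ext (by rw [hz, hz1, one_smul]; rfl)
    rw [h1, orderOf_one] at hx
    exact (Fact.out : r.Prime).one_lt.ne hx
  · rintro ⟨U, W, h1, h2, h3, h4⟩
    exact CfsgLib.MaxSub.no_fixed_pair hr2 (by omega) hrq hkl x hx A B hAB U W h1 h2 h3 h4

end Cfsg.Agent.S5963
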