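import Cfsg.Statements.S5965
import Cfsg.Agent.Lib.SubfieldElusive.Positive

set_option autoImplicit false
open scoped MatrixGroups
open Cfsg

namespace Cfsg.Agent.S5965

/-- Elements of odd prime order r ≠ p of PSL_n(q) and subfield subgroups. Here `T = PSL_n(F)` for a field `F` with `q = p^f` elements (`n ≥ 2`, `(n, q) ≠ (2, 2), (2, 3)`), `F₀` is the subfield with `q₀` elements where `q = q₀^k` for a prime `k`, and `H` is the subgroup of matrices of determinant 1 lying in the subfield group of `F₀` (invertible matrices over `F₀` times scalars) — a maximal subgroup of type GL_n(q₀) (the case `n = 2`, `q₀ = 2` is excluded); Ω is the set of `T`-conjugates of `H` (cosets of `H`), so an element of `T` of prime order `r` (a matrix `x` of determinant 1 with `x^r` scalar, `x` not scalar) fixes a point of Ω when some conjugate of `x` by a matrix of determinant 1 lies in `H`. Let `r ≠ p` be an odd prime dividing the index of `H`, with `(n, r) ≠ (6, 3)` and, when `r =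 k` divides `q₀ − 1`, with `(n)_r ≤ (q − 1)_r`. Then every element of `T` of order `r` is conjugate in `T` into `H` if and only if `r = k`, or `k = 2`, `r = n ∈ {3, 5}` and `(q₀ + 1)_r = r`. The two excluded cases, `(n, r) = (6, 3)` and `r = k ∣ q₀ − 1` with `(n)_r > (q − 1)_r`, are ones where this criterion can fail, so they are left out. -/
theorem result {F : Type*} [Field F] [Fintype F] {p : ℕ} [Fact p.Prime] [CharP F p] {q : ℕ} (hq : Fintype.card F = q)
    (n : ℕ) (hn : 2 ≤ n) (hT : (n, q) ≠ (2, 2) ∧ (n, q) ≠ (2, 3))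
    (F₀ : Subfield F) (k q₀ : ℕ) (hk : k.Prime) (hF₀ : Nat.card ↥F₀ = q₀) (hqk : q = q₀ ^ k) (hC5 : ¬ (n = 2 ∧ q₀ = 2)) (r : ℕ) [Fact r.Prime] (hr2 : r ≠ 2) (hrp : r ≠ p) (hgap : ¬ (n = 6 ∧ r = 3)) (hgapk : r = k → r ∣ q₀ - 1 → padicValNat r n ≤ padicValNat r (q - 1)) (hΩ : r ∣ ((Cfsg.Geo.subfieldSubgroup F₀ 1).comap (Matrix.SpecialLinearGroup.toGL : Matrix.SpecialLinearGroup (Fin n) F →* GL (Fin n) F)).index) :
    (∀ x : Matrix.SpecialLinearGroup (Fin n) F,
      (∃ z : F, ((x ^ r : Matrix.SpecialLinearGroup (Fin n) F) : Matrix (Fin n) (Fin n) F) = z • (1 : Matrix (Fin n) (Fin n) F)) →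
      (∀ z : F, (x : Matrix (Fin n) (Fin n) F) ≠ z • (1 : Matrix (Fin n) (Fin n) F)) →
      ∃ P : Matrix.SpecialLinearGroup (Fin n) F, P⁻¹ * x * P ∈ ((Cfsg.Geo.subfieldSubgroup F₀ 1).comap (Matrix.SpecialLinearGroup.toGL : Matrix.SpecialLinearGroup (Fin n) F →* GL (Fin n) F))) ↔
    (r = k ∨ (k = 2 ∧ r = n ∧ (n = 3 ∨ n = 5) ∧ padicValNat r (q₀ + 1) = 1)) := by
  subst hq
  obtain ⟨σ, hσ, hpa, hfix⟩ := CfsgLib.SubfieldElusive.exists_sigma (p := p) F₀ hF₀ hk.ne_zero hqk
  have hrP : r.Prime := Fact.out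
  have hnd : ¬ r ∣ Fintype.card F := fun h => hrp ((CfsgLib.MaxSub.Elusive.dvd_q_iff (F := F) hrP).mp h)
  have hq1 : Fintype.card F - 1 ≠ 0 := by have := Fintype.one_lt_card (α := F); omega
  have hq0 : 1 < q₀ := by
    by_contra h
    have h1 := Fintype.one_lt_card (α := F)
    rw [hqk] at h1
    have := Nat.pow_le_pow_left (show q₀ ≤ 1 by omega) k
    rw [one_pow] at this
    omega
  constructor
  · intro hall
    by_contra hcond
    suffices CfsgLib.SubfieldElusive.SubBad F₀ n r by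
      obtain ⟨x, hz, hns, hno⟩ := this
      obtain ⟨P, hP⟩ := hall x hz hns
      exact hno P hP
    rw [not_or] at hcond
    obtain ⟨hrk, hcond⟩ := hcond
    obtain ⟨j, hj2, hjn, hjq, hjq0⟩ := CfsgLib.SubfieldElusive.order_facts F₀ hF₀ hk hqk (by omega) hrk hnd hΩ
    have hqcast : (Fintype.card F : ZMod r) = (q₀ : ZMod r) ^ k := by rw [hqk, Nat.cast_pow]
    have hpos := CfsgLib.PrimeIso.order_pos (F := F) (p := p) (r := r) hrp
    have hij : orderOf (Fintype.card F : ZMod r) ∣ j := orderOf_dvd_of_pow_eq_one hjq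
    by_cases h1 : orderOf (Fintype.card F : ZMod r) = 1
    · have hq := orderOf_eq_one_iff.mp h1
      have hrM : r ∣ Fintype.card F - 1 := by
        rw [← ZMod.natCast_eq_zero_iff, Nat.cast_sub Fintype.card_pos, Nat.cast_one, hq, sub_self]
      have hqk1 : (q₀ : ZMod r) ^ k = 1 := hqcast.symm.trans hq
      have hq01 : (q₀ : ZMod r) ≠ 1 := fun h => hjq0 (by rw [h, one_pow])
      by_cases hk2 : k = 2
      · subst hk2
        have hm1 : (q₀ : ZMod r) = -1 := (sq_eq_one_iff.mp hqk1).resolve_left hq01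
        have hn3 : 3 ≤ n := by
          by_contra h
          have hj : j = 2 := by omega
          exact hjq0 (by rw [hj, hm1, neg_one_sq])
        have hd : r ∣ q₀ + 1 := by
          rw [← ZMod.natCast_eq_zero_iff, Nat.cast_add, Nat.cast_one, hm1, neg_add_cancel]
        have hinv : ∀ (m : ℕ) (u : Fˣ), m ∣ q₀ + 1 → 1 ≤ m → orderOf u = m → σ u = (u : F) ^ (m - 1) := fun m u hm hm1 hu => by
          obtain ⟨c, hc⟩ := hm
          have h4 : (u : F) ^ m = 1 := by rw [← Units.val_pow_eq_pow_val, ← hu, pow_orderOf_eq_one, Units.val_one]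
          rw [hσ]
          refine mul_right_cancel₀ u.ne_zero ?_
          rw [← pow_succ, hc, pow_mul, h4, one_pow, ← pow_succ, Nat.sub_add_cancel hm1, h4]
        by_cases h33 : n = r ∧ (r = 3 ∨ r = 5)
        · have h3 : padicValNat r (q₀ + 1) ≠ 1 := fun h => hcond ⟨rfl, h33.1.symm, by rw [h33.1]; exact h33.2, h⟩
          have h4 := one_le_padicValNat_of_dvd (by omega : q₀ + 1 ≠ 0) hd
          have h2r : r ^ 2 ∣ q₀ + 1 := by rw [padicValNat_dvd_iff_le (by omega)]; omega
          obtain ⟨μ, hμ⟩ := CfsgLib.OrthSLElusive.exists_unit_order (F := F)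
            (h2r.trans ⟨q₀ - 1, by rw [hqk, ← Nat.sq_sub_sq, one_pow]⟩)
          obtain ⟨M, hM, hsym, hdet, hpow, hno⟩ := CfsgLib.OrthSLElusive.scaled_element h33.1 (by omega) hμ
          have hr2 : 1 ≤ r ^ 2 := Nat.one_le_pow _ _ hrP.pos
          refine CfsgLib.SubfieldElusive.bad_of F₀ hfix (by omega) M hdet hpow fun P δ hP hδ _ => ?_
          refine CfsgLib.SubfieldElusive.no_twist_of_no_sim (hM σ (r ^ 2 - 1) (hinv _ μ h2r hr2 hμ)) ?_ hsym hno P δ hP hδ
          rw [Nat.sub_add_cancel hr2, pow_two, pow_mul, hpow, smul_pow, one_pow, ← pow_mul, ← pow_two, ← Units.val_pow_eq_pow_val,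
            ← hμ, pow_orderOf_eq_one, Units.val_one, one_smul]
        · obtain ⟨ζ, hζ⟩ := CfsgLib.OrthSLElusive.exists_unit_order (F := F) hrM
          obtain ⟨M, hM, hsym, hdet, hpow, hno⟩ := CfsgLib.OrthSLElusive.diag_element hn3 hr2 hgap h33 hζ
          refine CfsgLib.SubfieldElusive.bad_of F₀ hfix (by omega) M hdet (z := 1) (by rw [hpow, one_smul]) fun P δ hP hδ _ => ?_
          refine CfsgLib.SubfieldElusive.no_twist_of_no_sim (hM σ (r - 1) (hinv _ ζ hd hrP.one_le hζ)) ?_ hsym hno P δ hP hδ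
          rw [Nat.sub_add_cancel hrP.one_le, hpow]
      · exact CfsgLib.SubfieldElusive.bad_triple F₀ hσ hfix hn hk hk2 hrM hqk1 hq01
    · refine CfsgLib.SubfieldElusive.bad_block (p := p) F₀ hσ hpa hfix hrp (by omega)
        ((Nat.le_of_dvd (by omega) hij).trans hjn) fun l hl => hjq0 ?_
      rw [hl, ← pow_mul, mul_comm, pow_mul, hjq, one_pow]
  · rintro hcond x ⟨z, hz⟩ -
    rcases hcond with rfl | ⟨rfl, hrn, hn35, hv⟩
    · exact CfsgLib.SubfieldElusive.pos_degree (p := p) F₀ hσ hpa hfix (by omega) hr2 hrp hqk (fun h => hgapk rfl h) x hz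
    · have hd : r ∣ q₀ + 1 := dvd_of_one_le_padicValNat (by omega)
      refine CfsgLib.SubfieldElusive.pos_small (p := p) F₀ hσ hfix hrp hqk hrn.symm (by omega) hd ?_ x hz
      have h1 : ¬ r ∣ q₀ - 1 := fun h => by
        have h2 := Nat.dvd_sub hd h
        rw [show q₀ + 1 - (q₀ - 1) = 2 by omega] at h2
        exact hr2 ((Nat.prime_dvd_prime_iff_eq hrP Nat.prime_two).mp h2)
      rw [padicValNat_dvd_iff_le hq1, hqk, ← one_pow 2, Nat.sq_sub_sq, padicValNat.mul (by omega) (by omega),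
        padicValNat.eq_zero_of_not_dvd h1]
      omega

end Cfsg.Agent.S5965
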