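import Cfsg.Statements.S5973
import Cfsg.Agent.Lib.OrthIso.SingBridge
import Cfsg.Agent.Lib.OrthIso.EvenOddBridge

set_option autoImplicit false
open scoped MatrixGroups
open Cfsg

namespace Cfsg.Agent.S5973

/-- Elements of prime order of PΩ⁺_n(q), n = 2d ≥ 8, with no fixed totally singular `m`-space, `m < n/2`. Here `T = PΩ⁺_n(q)` is realised through `Ω⁺_n(q)`, the commutator subgroup of the isometry group of the quadratic form `Σ xᵢyᵢ` over the field `F` with `q` elements; an element of `T` of prime order `r` is an element `x` of `Ω⁺_n(q)` with `x^r` scalar and `x` not scalar. Let `1 ≤ m < d` and let `r` be a prime dividing the number of totally singular `m`-spaces. For `r ≠ p` let `i` be the multiplicative order of `q` modulo `r`, `c = i` for `i` even and `c = 2i` for `i` odd, and write `k = n mod c`, `ℓ = m mod i`, `n' = ⌊n/i⌋`, `m' = ⌊m/i⌋`, `t = (r−1)/i`. Then every element of `T`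 of order `r` fixes some totally singular `m`-space if and only if one of: (i) `r = 2 ≠ p` and either `q ≡ 1 (mod 4)`, or `q ≡ 3 (mod 4)`, `m ≤ n/2 − 2` and (`m` even or `n ≡ 2 (mod 4)`); (ii) `r ≠ p` odd, `i` odd, `i ≤ m` and `k ≥ 2ℓ`; (iii) `r ≠ p` odd, `i` even, `i ≤ m`, `n' − 2m' ≥ t`, and one of: `i ≥ 2ℓ`, `k = 0`, `n/i` odd and `n' − 2m' > t`; or `k ≥ 2ℓ` and `n'` even; or `k > 2ℓ` and `n'` odd. -/
theorem result {F : Type*} [Field F] [Fintype F] {p : ℕ} [Fact p.Prime] [CharP F p] {q : ℕ} (hq : Fintype.card F = q)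
    (d m : ℕ) (hd : 4 ≤ d) (hm : 1 ≤ m) (hmd : m < d)
    (r : ℕ) [Fact r.Prime]
    (hrΩ : r ∣ Nat.card {W : Submodule F (Fin d ⊕ Fin d → F) // Module.finrank F ↥W = m ∧ (∀ w ∈ W, Cfsg.quadFormPlus d F w = 0)})
    (i c : ℕ) (hi : i = orderOf (q : ZMod r)) (hc : c = if Even i then i else 2 * i) :
    (∀ x : GL (Fin d ⊕ Fin d) F, x ∈ Cfsg.Geo.omegaGL (Cfsg.quadFormPlus d F) →
      (∃ z : F, ((x ^ r : GL (Fin d ⊕ Fin d) F) : Matrix (Fin d ⊕ Fin d) (Fin d ⊕ Fin d) F) = z • (1 : Matrix (Fin d ⊕ Fin d) (Fin d ⊕ Fin d) F)) →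
      (∀ z : F, (x : Matrix (Fin d ⊕ Fin d) (Fin d ⊕ Fin d) F) ≠ z • (1 : Matrix (Fin d ⊕ Fin d) (Fin d ⊕ Fin d) F)) →
      ∃ W : Submodule F (Fin d ⊕ Fin d → F), Module.finrank F ↥W = m ∧ (∀ w ∈ W, Cfsg.quadFormPlus d F w = 0) ∧
        W.map (Matrix.toLin' (x : Matrix (Fin d ⊕ Fin d) (Fin d ⊕ Fin d) F)) ≤ W) ↔
    ((r = 2 ∧ p ≠ 2 ∧ (q % 4 = 1 ∨ (q % 4 = 3 ∧ m + 2 ≤ d ∧ (Even m ∨ (2 * d) % 4 = 2)))) ∨
     (r ≠ p ∧ 2 < r ∧ Odd i ∧ i ≤ m ∧ 2 * (m % i) ≤ (2 * d) % c) ∨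
     (r ≠ p ∧ 2 < r ∧ Even i ∧ i ≤ m ∧ (r - 1) / i + 2 * (m / i) ≤ (2 * d) / i ∧
       ((2 * (m % i) ≤ i ∧ (2 * d) % c = 0 ∧ Odd ((2 * d) / i) ∧ (r - 1) / i + 2 * (m / i) < (2 * d) / i) ∨
        (2 * (m % i) ≤ (2 * d) % c ∧ Even ((2 * d) / i)) ∨
        (2 * (m % i) < (2 * d) % c ∧ Odd ((2 * d) / i))))) := by
  subst hq
  have hQ' : Cfsg.quadFormPlus d F = ⇑(CfsgLib.Lagrangian.Qp d F) := funext fun v => (CfsgLib.Lagrangian.Qp_apply v).symm
  simp only [hQ'] at hrΩ ⊢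
  have hQ : CfsgLib.PrimeIso.ND (QuadraticMap.polarBilin (CfsgLib.Lagrangian.Qp d F)) (⊤ : Submodule F _) :=
    fun x _ hp => CfsgLib.Lagrangian.Qp_nondeg.1 x fun y => hp y trivial
  have hP : CfsgLib.OrthIso.Plus (CfsgLib.Lagrangian.Qp d F) (⊤ : Submodule F (Fin d ⊕ Fin d → F)) := by
    obtain ⟨U, hU, hUd⟩ := CfsgLib.FiniteForms.plus_exists_singular (F := F) d
    exact ⟨U, le_top, fun u hu => (CfsgLib.Lagrangian.Qp_apply u).trans (hU u hu), by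
      rw [hUd, finrank_top, Module.finrank_fintype_fun_eq_card]; simp; omega⟩
  have h := CfsgLib.OrthIso.even_ts_class (p := p) (r := r) (CfsgLib.Lagrangian.Qp d F) hQ (by simp; omega) hd hm hmd hrΩ hi hc
  simp only [and_assoc] at h ⊢
  rw [h]
  simp only [iff_true_intro hP, true_iff, not_true, and_true, and_false, or_false, forall_const]
  rw [FiniteField.isSquare_neg_one_iff, ← Nat.not_even_iff_odd (n := (2 * d) / i)]
  have hode : ∀ {i : ℕ}, Even i → ¬ Odd i := fun h => Nat.not_odd_iff_even.mpr h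
  have hqp : p ≠ 2 → Fintype.card F % 2 = 1 := fun h2 => FiniteField.odd_card_of_char_ne_two fun e => h2 ((ringChar.eq F p).symm.trans e)
  constructor
  · rintro (⟨h1, h2, h3, h4⟩ | ⟨h1, h2, h3, h4⟩)
    · refine Or.inl ⟨h1, h2, ?_⟩
      have := hqp h2
      by_cases h5 : Fintype.card F % 4 = 1
      · exact Or.inl h5
      refine Or.inr ⟨by omega, h3.resolve_left (by omega), ?_⟩
      rcases h4 with h4 | h4 | h4
      · omega
      · exact Or.inl h4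
      · rcases Nat.even_or_odd d with hde | ⟨k, hk⟩
        · exact absurd ⟨hde.isSquare_pow 2, hde⟩ h4
        · exact Or.inr (by omega)
    · rcases h4 with ⟨ho, hl⟩ | ⟨he, hl, h5⟩
      · refine Or.inr (Or.inl ⟨h1, h2, ho, h3, ?_⟩)
        omega
      · refine Or.inr (Or.inr ⟨h1, h2, he, h3, hl, ?_⟩)
        rcases h5 with h5 | ⟨h5, h6⟩ | ⟨h5, h6, h7⟩
        · by_cases h8 : Even ((2 * d) / i)
          · exact Or.inr (Or.inl ⟨h5.le, h8⟩)
          · exact Or.inr (Or.inr ⟨h5, h8⟩)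
        · exact Or.inr (Or.inl ⟨h5.le, h6⟩)
        · exact Or.inl ⟨h7.1, h5, h6, h7.2⟩
  · rintro (⟨h1, h2, h3⟩ | ⟨h1, h2, ho, h3, h4⟩ | ⟨h1, h2, he, h3, hl, h4⟩)
    · refine Or.inl ⟨h1, h2, ?_, ?_⟩
      · rcases h3 with h3 | h3
        · exact Or.inl (by omega)
        · exact Or.inr h3.2.1
      · rcases h3 with h3 | ⟨h3, h4, h5 | h5⟩
        · exact Or.inl (by omega)
        · exact Or.inr (Or.inl h5)
        · exact Or.inr (Or.inr fun ⟨_, k, hk⟩ => by omega)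
    · refine Or.inr ⟨h1, h2, h3, Or.inl ⟨ho, ?_⟩⟩
      omega
    · refine Or.inr ⟨h1, h2, h3, Or.inr ⟨he, hl, ?_⟩⟩
      rcases h4 with ⟨h5, h6, h7, h8⟩ | ⟨h5, h6⟩ | ⟨h5, -⟩
      · exact Or.inr (Or.inr ⟨h6, h7, h5, h8⟩)
      · rcases lt_or_eq_of_le h5 with h7 | h7
        · exact Or.inl h7
        · exact Or.inr (Or.inl ⟨h7, h6⟩)
      · exact Or.inl h5

end Cfsg.Agent.S5973
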