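import Cfsg.Statements.S5974
import Cfsg.Agent.Lib.OrthIso.NondegEvenBridge
import Cfsg.Agent.Lib.OrthIso.EvenOddBridge
import Cfsg.Agent.Lib.MaxSub.ElusiveNonsingular

set_option autoImplicit false
open scoped MatrixGroups
open Cfsg

namespace Cfsg.Agent.S5974

/-- Elements of prime order of PΩ⁺_n(q), n = 2d ≥ 8, with no fixed nondegenerate hyperbolic `m`-space. Here `T = PΩ⁺_n(q)` is realised through `Ω⁺_n(q)`, the commutator subgroup of the isometry group of `Q = Σ xᵢyᵢ` over the field `F` with `q` elements; an element of `T` of prime order `r` is an element `x` of `Ω⁺_n(q)` with `x^r` scalar and `x` not scalar. A hyperbolic `m`-space is a subspace `W` of even dimension `m` on which the polar form of `Q` is nondegenerate and which contains a totally singular subspace of dimension `m/2`. Let `m` be even with `2 ≤ m < n/2`, and let `r` be a prime dividing the number of hyperbolic `m`-spaces, with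 `r = 2` or `r ≠ p`. For `r ≠ p` let `i` be the multiplicative order of `q` modulo `r`, `c = i` for `i` even and `c = 2i` for `i` odd, and write `k = n mod c`, `ℓ' = m mod c`. Then every element of `T` of order `r` fixes some hyperbolic `m`-space if and only if one of: (i) `r = 2` and (`n ≡ 2 (mod 4)`, or `m ≡ 0 (mod 4)`, or `q ≡ 1 (mod 4)`); (ii) `r ≠ p` odd, `i` odd, `c ≤ m` and `k ≥ ℓ'`; (iii) `r ≠ p` odd, `i` even, and either `k = 0` and (`n/i` odd, or `ℓ' = 0` and `m/i` even), or `i ≤ m` and (`k > ℓ' > 0`, or `k = ℓ' > 0` and `(n + m − 2k)/i` even, or `k > ℓ' = 0` and `m/i` even). -/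
theorem result {F : Type*} [Field F] [Fintype F] {p : ℕ} [Fact p.Prime] [CharP F p] {q : ℕ} (hq : Fintype.card F = q)
    (d m : ℕ) (hd : 4 ≤ d) (hm : 2 ≤ m) (hme : Even m) (hmd : m < d)
    (r : ℕ) [Fact r.Prime] (hr : r = 2 ∨ r ≠ p)
    (hrΩ : r ∣ Nat.card {W : Submodule F (Fin d ⊕ Fin d → F) // (Module.finrank F ↥W = m ∧ (∀ u ∈ W, u ≠ 0 → ∃ v ∈ W, QuadraticMap.polar (Cfsg.quadFormPlus d F) u v ≠ 0) ∧
          ∃ U : Submodule F (Fin d ⊕ Fin d → F), U ≤ W ∧ 2 * Module.finrank F ↥U = m ∧ ∀ u ∈ U, Cfsg.quadFormPlus d F u = 0)})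
    (i c : ℕ) (hi : i = orderOf (q : ZMod r)) (hc : c = if Even i then i else 2 * i) :
    (∀ x : GL (Fin d ⊕ Fin d) F, x ∈ Cfsg.Geo.omegaGL (Cfsg.quadFormPlus d F) →
      (∃ z : F, ((x ^ r : GL (Fin d ⊕ Fin d) F) : Matrix (Fin d ⊕ Fin d) (Fin d ⊕ Fin d) F) = z • (1 : Matrix (Fin d ⊕ Fin d) (Fin d ⊕ Fin d) F)) →
      (∀ z : F, (x : Matrix (Fin d ⊕ Fin d) (Fin d ⊕ Fin d) F) ≠ z • (1 : Matrix (Fin d ⊕ Fin d) (Fin d ⊕ Fin d) F)) →
      ∃ W : Submodule F (Fin d ⊕ Fin d → F), (Module.finrank F ↥W = m ∧ (∀ u ∈ W, u ≠ 0 → ∃ v ∈ W, QuadraticMap.polar (Cfsg.quadFormPlus d F) u v ≠ 0) ∧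
          ∃ U : Submodule F (Fin d ⊕ Fin d → F), U ≤ W ∧ 2 * Module.finrank F ↥U = m ∧ ∀ u ∈ U, Cfsg.quadFormPlus d F u = 0) ∧
        W.map (Matrix.toLin' (x : Matrix (Fin d ⊕ Fin d) (Fin d ⊕ Fin d) F)) ≤ W) ↔
    ((r = 2 ∧ ((2 * d) % 4 = 2 ∨ m % 4 = 0 ∨ q % 4 = 1)) ∨
     (r ≠ p ∧ 2 < r ∧ Odd i ∧ c ≤ m ∧ m % c ≤ (2 * d) % c) ∨
     (r ≠ p ∧ 2 < r ∧ Even i ∧
       (((2 * d) % c = 0 ∧ (Odd ((2 * d) / i) ∨ (m % c = 0 ∧ Even (m / i)))) ∨
        (i ≤ m ∧ ((m % c < (2 * d) % c ∧ 0 < m % c) ∨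
                  ((2 * d) % c = m % c ∧ 0 < m % c ∧ Even ((2 * d + m - 2 * ((2 * d) % c)) / i)) ∨
                  (0 < (2 * d) % c ∧ m % c = 0 ∧ Even (m / i))))))) := by
  subst hq
  have hQ' : Cfsg.quadFormPlus d F = ⇑(CfsgLib.Lagrangian.Qp d F) := funext fun v => (CfsgLib.Lagrangian.Qp_apply v).symm
  have hΩ : p = 2 → ∀ x : GL (Fin d ⊕ Fin d) F, x ∈ Cfsg.isometryGroup F ⇑(CfsgLib.Lagrangian.Qp d F) →
      (x ∈ Cfsg.Geo.omegaGL ⇑(CfsgLib.Lagrangian.Qp d F) ↔ Even ((x : Matrix (Fin d ⊕ Fin d) (Fin d ⊕ Fin d) F) - 1).rank) := by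
    rintro rfl x hx
    rw [← hQ'] at hx ⊢
    rw [← CfsgLib.MaxSub.Nonsingular.plus_omega_iff (by omega) ⟨x, hx⟩]
    exact ⟨fun ⟨g, hg, hgx⟩ => (Subtype.ext hgx : g = ⟨x, hx⟩) ▸ hg, fun h => ⟨⟨x, hx⟩, h, rfl⟩⟩
  simp only [hQ'] at hrΩ ⊢
  have hQ : CfsgLib.PrimeIso.ND (QuadraticMap.polarBilin (CfsgLib.Lagrangian.Qp d F)) (⊤ : Submodule F _) :=
    fun x _ hp => CfsgLib.Lagrangian.Qp_nondeg.1 x fun y => hp y trivial
  have hP : CfsgLib.OrthIso.Plus (CfsgLib.Lagrangian.Qp d F) (⊤ : Submodule F (Fin d ⊕ Fin d → F)) := by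
    obtain ⟨U, hU, hUd⟩ := CfsgLib.FiniteForms.plus_exists_singular (F := F) d
    exact ⟨U, le_top, fun u hu => (CfsgLib.Lagrangian.Qp_apply u).trans (hU u hu), by
      rw [hUd, finrank_top, Module.finrank_fintype_fun_eq_card]; simp; omega⟩
  have hcl : ∀ W : Submodule F (Fin d ⊕ Fin d → F),
      (Module.finrank F ↥W = m ∧ (∀ u ∈ W, u ≠ 0 → ∃ v ∈ W, QuadraticMap.polar (⇑(CfsgLib.Lagrangian.Qp d F)) u v ≠ 0) ∧
        ∃ U : Submodule F (Fin d ⊕ Fin d → F), U ≤ W ∧ 2 * Module.finrank F ↥U = m ∧ ∀ u ∈ U, CfsgLib.Lagrangian.Qp d F u = 0) ↔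
      (Module.finrank F ↥W = m ∧ CfsgLib.PrimeIso.ND (QuadraticMap.polarBilin (CfsgLib.Lagrangian.Qp d F)) W ∧
        (CfsgLib.OrthIso.Plus (CfsgLib.Lagrangian.Qp d F) W ↔ True)) := fun W => by
    simp only [iff_true]
    constructor
    · rintro ⟨h1, h2, U, hU, hUd, hUts⟩
      refine ⟨h1, fun x hx hp => ?_, U, hU, hUts, hUd.trans h1.symm⟩
      by_contra h0
      obtain ⟨v, hv, hne⟩ := h2 x hx h0
      exact hne (hp v hv)
    · rintro ⟨h1, h2, U, hU, hUts, hUd⟩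
      refine ⟨h1, fun x hx h0 => ?_, U, hU, hUd.trans h1, hUts⟩
      by_contra hcon
      push Not at hcon
      exact h0 (h2 x hx hcon)
  simp only [hcl] at hrΩ ⊢
  rw [CfsgLib.OrthIso.even_nd_class (p := p) (CfsgLib.Lagrangian.Qp d F) hQ (by simp; omega) hd hm hme (by omega)
    True (fun _ => hP) (hr.imp_right Or.inl) hΩ hrΩ hi hc]
  simp only [iff_true_intro hP, true_iff, iff_true, iff_false, false_iff, not_true, not_false_eq_true, false_implies, true_implies, true_and, and_true]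
  rw [FiniteField.isSquare_neg_one_iff]
  have hqp : p ≠ 2 → Fintype.card F % 2 = 1 := fun h2 => FiniteField.odd_card_of_char_ne_two fun e => h2 ((ringChar.eq F p).symm.trans e)
  have hq2 : p = 2 → Fintype.card F % 2 = 0 := fun h2 => FiniteField.even_card_of_char_two ((ringChar.eq F p).trans h2)
  have hm2 : Even (m / 2) ↔ m % 4 = 0 := by rw [Nat.even_iff]; have := Nat.even_iff.mp hme; omega
  have hdd : ∀ {i : ℕ}, Even i → c = i → m % c = (2 * d) % c →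
      (2 * d + m - 2 * ((2 * d) % c)) / i = 2 * d / i + m / i := fun {j} _ hcj hmk => by
    subst hcj
    rcases Nat.eq_zero_or_pos c with h0 | h0
    · subst h0; simp
    have h1 := Nat.div_add_mod' m c
    have h2 := Nat.div_add_mod' (2 * d) c
    rw [show 2 * d + m - 2 * ((2 * d) % c) = (2 * d / c + m / c) * c by rw [add_mul]; omega, Nat.mul_div_cancel _ h0]
  constructor
  · rintro (⟨h1, h2, h3⟩ | ⟨h1, h2, h3⟩ | ⟨h1, h2, h3⟩)
    · refine Or.inl ⟨h1, ?_⟩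
      have h4 : Odd d ∨ Even (m / 2) := by tauto
      rcases h4 with ⟨k, hk⟩ | h4
      · exact Or.inl (by omega)
      · exact Or.inr (Or.inl (hm2.mp h4))
    · refine Or.inl ⟨h1, ?_⟩
      have := hqp h2
      rcases h3 with h3 | h3 | h3
      · rcases Nat.even_or_odd d with hde | ⟨k, hk⟩
        · exact absurd ⟨hde.isSquare_pow 2, Or.inr hde⟩ h3
        · exact Or.inl (by omega)
      · exact Or.inr (Or.inr (by omega))
      · exact Or.inr (Or.inl (hm2.mp h3))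
    · rcases Nat.even_or_odd i with he | ho
      · rw [if_pos he] at hc
        refine Or.inr (Or.inr ⟨h1, h2, he, ?_⟩)
        simp only [Nat.not_odd_iff_even.mpr he, false_or] at h3
        subst hc
        rcases h3 with ⟨h4, h5⟩ | ⟨h4, ⟨h5, h6 | ⟨h6, h7⟩⟩ | ⟨h5, h6⟩⟩
        · exact Or.inl ⟨h4, Or.inl (Nat.not_even_iff_odd.mp h5)⟩
        · exact Or.inr ⟨h4, Or.inl ⟨h6, h5⟩⟩
        · exact Or.inr ⟨h4, Or.inr (Or.inl ⟨h6.symm, h5, by rw [hdd he rfl h6, Nat.even_add]; exact h7⟩)⟩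
        · rcases Nat.eq_zero_or_pos (2 * d % c) with h7 | h7
          · exact Or.inl ⟨h7, Or.inr ⟨h5, h6⟩⟩
          · exact Or.inr ⟨h4, Or.inr (Or.inr ⟨h7, h5, h6⟩)⟩
      · simp only [ho, true_or, not_true, and_false, iff_true, and_true, false_or] at h3
        refine Or.inr (Or.inl ⟨h1, h2, ho, h3.1, ?_⟩)
        omega
  · rintro (⟨h1, h3⟩ | ⟨h1, h2, ho, h3, h4⟩ | ⟨h1, h2, he, h3⟩)
    · by_cases hp2 : p = 2
      · refine Or.inl ⟨h1, hp2, ?_⟩
        have := hq2 hp2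
        rcases h3 with h3 | h3 | h3
        · exact Or.inl ⟨d / 2, by omega⟩
        · exact Or.inr (hm2.mpr h3)
        · omega
      · refine Or.inr (Or.inl ⟨h1, hp2, ?_⟩)
        rcases h3 with h3 | h3 | h3
        · by_cases h5 : Fintype.card F % 4 = 3
          · exact Or.inl fun ⟨_, h6⟩ => by
              rcases h6 with h6 | ⟨k, hk⟩
              · exact h6 h5
              · omega
          · exact Or.inr (Or.inl h5)
        · exact Or.inr (Or.inr (hm2.mpr h3))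
        · exact Or.inr (Or.inl (by omega))
    · simp only [ho, true_or, not_true, and_false, iff_true, and_true, false_or]
      exact Or.inr (Or.inr ⟨h1, h2, h3, by omega⟩)
    · refine Or.inr (Or.inr ⟨h1, h2, ?_⟩)
      simp only [Nat.not_odd_iff_even.mpr he, false_or]
      rw [if_pos he] at hc
      subst hc
      rcases h3 with ⟨h4, h5 | ⟨h5, h6⟩⟩ | ⟨h4, ⟨h5, h6⟩ | ⟨h5, h6, h7⟩ | ⟨h5, h6, h7⟩⟩
      · exact Or.inl ⟨h4, Nat.not_even_iff_odd.mpr h5⟩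
      · refine Or.inr ⟨?_, Or.inr ⟨h5, h6⟩⟩
        exact Nat.le_of_dvd (by omega) (Nat.dvd_of_mod_eq_zero h5)
      · exact Or.inr ⟨h4, Or.inl ⟨h6, Or.inl h5⟩⟩
      · exact Or.inr ⟨h4, Or.inl ⟨h6, Or.inr ⟨h5.symm, by rwa [hdd he rfl h5.symm, Nat.even_add] at h7⟩⟩⟩
      · exact Or.inr ⟨h4, Or.inr ⟨h6, h7⟩⟩

end Cfsg.Agent.S5974
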