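import Cfsg.Statements.S5975
import Cfsg.Agent.Lib.ExtSpElusive.Negative
import Cfsg.Agent.Lib.ExtSpElusive.Positive
-- import your own Cfsg.Agent.* helpers here

set_option autoImplicit false
open scoped MatrixGroups
open scoped Matrix
open Cfsg

namespace Cfsg.Agent.S5975

/-- Elements of prime order of PSp_n(q) and the field-extension subgroups of type Sp_{n/k}(q^k). Here `T = PSp_{2d}(F)` for a field `F` with `q` elements (`d ≥ 2`, `(d, q) ≠ (2, 2)`), realised through the matrices preserving the standard alternating form `f`; `k` is a prime and `K` is a subalgebra of the `2d × 2d` matrices that is a field of degree `k` over `F` whose elements are self-adjoint for `f` and satisfy `f(a v, v) = 0` (so `F^{2d}` becomes a vector space over `K ≅ F_{q^k}` on which `f` is the trace of a `K`-bilinear alternating form); `H` is the subgroup of `T` normalizing `K` — the symplectic maps that are `K`-linear or `K`-semilinear, a subgroup of type Sp_{2d/k}(q^k) (maximality is not assumed). Ω is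 the set of cosets of `H` in `T`, so an element of `T` of prime order `r` (`x ∈ T` with `x^r` scalar, `x` not scalar) fixes a point of Ω exactly when some `T`-conjugate of `x` normalizes `K`. Let `r` be a prime dividing the index of `H`. Then every element of `T` of order `r` fixes a point of Ω if and only if `r = 2`, `d = 2`, `k = 2` and `q` is odd. -/
theorem result {F : Type*} [Field F] [Fintype F] {p : ℕ} [Fact p.Prime] [CharP F p] {q : ℕ} (hq : Fintype.card F = q)
    (d : ℕ) (hd : 2 ≤ d) (hT : (d, q) ≠ (2, 2)) (k : ℕ) (hk : k.Prime)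
    (K : Subalgebra F (Matrix (Fin d ⊕ Fin d) (Fin d ⊕ Fin d) F)) (hK : Cfsg.Geo.IsFieldSubalgebra k K)
    (hKf : Cfsg.Geo.IsSelfAdjointFor (Cfsg.sympForm d F) K) (hKalt : ∀ a ∈ K, ∀ v : Fin d ⊕ Fin d → F, Cfsg.sympForm d F (a *ᵥ v) v = 0)
    (r : ℕ) [Fact r.Prime]
    (hΩ : r ∣ (Cfsg.Geo.subalgebraNormalizer K).relIndex (Cfsg.spGL d F)) :
    (∀ x ∈ Cfsg.spGL d F, (∃ z : F, ((x ^ r : GL (Fin d ⊕ Fin d) F) : Matrix (Fin d ⊕ Fin d) (Fin d ⊕ Fin d) F) = z • (1 : Matrix (Fin d ⊕ Fin d) (Fin d ⊕ Fin d) F)) →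
      (∀ z : F, (x : Matrix (Fin d ⊕ Fin d) (Fin d ⊕ Fin d) F) ≠ z • (1 : Matrix (Fin d ⊕ Fin d) (Fin d ⊕ Fin d) F)) →
      ∃ g ∈ Cfsg.spGL d F, g⁻¹ * x * g ∈ Cfsg.Geo.subalgebraNormalizer K) ↔
    (r = 2 ∧ d = 2 ∧ k = 2 ∧ Odd q) := by
  subst hq
  have D : CfsgLib.ExtSpElusive.ExtData K k := ⟨by omega, hk, hK,
    fun a ha u v => by rw [CfsgLib.IsotropicCount.sympB_apply, CfsgLib.IsotropicCount.sympB_apply]; exact hKf a ha u v,
    fun a ha v => by rw [CfsgLib.IsotropicCount.sympB_apply]; exact hKalt a ha v⟩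
  have hkd : k ∣ d := CfsgLib.ExtSpElusive.k_dvd (p := p) D
  have hkd' : k ≤ d := Nat.le_of_dvd (by omega) hkd
  constructor
  · intro hall
    by_contra hcond
    suffices CfsgLib.FieldSpElusive.SpBad K r by
      obtain ⟨x, hx, hz, hns, hno⟩ := this
      obtain ⟨g, hg, hmem⟩ := hall x hx hz hns
      exact hno g hg hmem
    by_cases hrp : r = p
    · subst hrp
      exact CfsgLib.ExtSpElusive.spBad_char D hd
    by_cases hr2 : r = 2
    · subst hr2
      refine CfsgLib.ExtSpElusive.spBad_two (p := p) D (Ne.symm hrp) ?_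
      by_contra hc
      push Not at hc
      refine hcond ⟨rfl, by omega, hc.2, ?_⟩
      rw [Nat.odd_iff, ← Nat.not_even_iff, even_iff_two_dvd, CfsgLib.MaxSub.Elusive.dvd_q_iff (F := F) (p := p) Nat.prime_two]
      exact hrp
    have hr : Odd r := (Fact.out : r.Prime).odd_of_ne_two hr2
    obtain ⟨l, hl1, hld, hl⟩ := CfsgLib.TensorElusive.exists_pow_sub_one Fact.out
      (fun h => hrp ((CfsgLib.MaxSub.Elusive.dvd_q_iff (F := F) (p := p) Fact.out).mp h))
      (hΩ.trans (Subgroup.relIndex_dvd_card _ _))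
    rw [CfsgLib.PrimeIso.dvd_pow_sub_one_iff] at hl
    have hle := Nat.le_of_dvd (by omega) hl
    have hpos := CfsgLib.PrimeIso.order_pos (F := F) (p := p) (r := r) hrp
    have hir : orderOf (Fintype.card F : ZMod r) ∣ r - 1 := orderOf_dvd_of_pow_eq_one
      (ZMod.pow_card_sub_one_eq_one (CfsgLib.PrimeIso.card_ne_zero_mod (F := F) (p := p) (r := r) hrp))
    have hrlt : 2 ≤ r := (Fact.out : r.Prime).two_le
    rcases Nat.even_or_odd (orderOf (Fintype.card F : ZMod r)) with ⟨n, hn⟩ | ho
    · rw [← two_mul] at hn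
      by_cases hkn : k ∣ n
      · refine absurd hΩ (CfsgLib.ExtSpElusive.index_not_dvd D hrp fun l' hl' => ?_)
        rw [CfsgLib.PrimeIso.dvd_pow_sub_one_iff, hn] at hl'
        exact hkn.trans (Nat.dvd_of_mul_dvd_mul_left two_pos hl')
      · refine CfsgLib.ExtSpElusive.spBad_field D hrp hn (hk.coprime_iff_not_dvd.mpr hkn) (by omega) (by omega) ?_
        by_cases hrk : r = k
        · right
          have := Nat.le_of_dvd (by omega) hir
          omega
        · exact Or.inl hrk
    · by_cases hki : k ∣ orderOf (Fintype.card F : ZMod r)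
      · refine absurd hΩ (CfsgLib.ExtSpElusive.index_not_dvd D hrp fun l' hl' => ?_)
        rw [CfsgLib.PrimeIso.dvd_pow_sub_one_iff] at hl'
        exact hki.trans ((Nat.Coprime.dvd_mul_left (Nat.coprime_two_right.mpr ho)).mp hl')
      · refine CfsgLib.ExtSpElusive.spBad_swap D hr hrp rfl ho ?_ hki ?_
        · have := Nat.le_of_dvd (by omega) ((Nat.Coprime.dvd_mul_left (Nat.coprime_two_right.mpr ho)).mp hl)
          omega
        by_cases hrk : r = k
        · right
          obtain ⟨m, hm⟩ : 2 ∣ r - 1 := by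
            obtain ⟨m, hm⟩ := hr
            exact ⟨m, by omega⟩
          have := Nat.le_of_dvd (by omega) ((Nat.Coprime.dvd_mul_left (Nat.coprime_two_right.mpr ho)).mp (hm ▸ hir))
          omega
        · exact Or.inl hrk
  · rintro ⟨rfl, rfl, rfl, hodd⟩ x hx ⟨z, hz⟩ hns
    refine CfsgLib.ExtSpElusive.symp_four (p := p) D (fun h => ?_) x hx hz hns
    subst h
    exact (Nat.not_even_iff_odd.mpr hodd) (even_iff_two_dvd.mpr
      ((CfsgLib.MaxSub.Elusive.dvd_q_iff (F := F) (p := 2) Nat.prime_two).mpr rfl))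

end Cfsg.Agent.S5975
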