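import Cfsg.Statements.S5976
import Cfsg.Agent.Lib.FieldSpElusive.Negative
import Cfsg.Agent.Lib.FieldSpElusive.Unitary
import Cfsg.Agent.Lib.FieldSpElusive.Positive
-- import your own Cfsg.Agent.* helpers here

set_option autoImplicit false
open scoped MatrixGroups
open Cfsg

namespace Cfsg.Agent.S5976

/-- Elements of prime order of PSp_n(q), q odd, and the subgroups of type GU_{n/2}(q). Here `T = PSp_{2d}(F)` for a field `F` with `q` elements, `q` odd, `d ≥ 2`, realised through the matrices preserving the standard alternating form `f`; `K` is a subalgebra of the `2d × 2d` matrices that is a field of degree 2 over `F`, closed under taking adjoints for `f` but not consisting of self-adjoint elements (so `F^{2d}` becomes a `d`-dimensional space over `K ≅ F_{q²}` on which `f` is the trace of a multiple of a non-degenerate hermitian form); `H` is the subgroup of `T` normalizing `K` — the symplectic maps that are `K`-linear or `K`-semilinear, a subgroup of type GU_d(q) (maximality is not assumed). Ω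 is the set of cosets of `H` in `T`, so an element of `T` of prime order `r` (`x ∈ T` with `x^r` scalar, `x` not scalar) fixes a point of Ω exactly when some `T`-conjugate of `x` normalizes `K`. Let `r` be a prime dividing the index of `H`. Then every element of `T` of order `r` fixes a point of Ω if and only if `r = 2`. -/
theorem result {F : Type*} [Field F] [Fintype F] {p : ℕ} [Fact p.Prime] [CharP F p] {q : ℕ} (hq : Fintype.card F = q)
    (hodd : Odd q) (d : ℕ) (hd : 2 ≤ d)
    (K : Subalgebra F (Matrix (Fin d ⊕ Fin d) (Fin d ⊕ Fin d) F)) (hK : Cfsg.Geo.IsFieldSubalgebra 2 K)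
    (hKf : Cfsg.Geo.IsAdjointClosedFor (Cfsg.sympForm d F) K) (hKns : ¬ Cfsg.Geo.IsSelfAdjointFor (Cfsg.sympForm d F) K)
    (r : ℕ) [Fact r.Prime]
    (hΩ : r ∣ (Cfsg.Geo.subalgebraNormalizer K).relIndex (Cfsg.spGL d F)) :
    (∀ x ∈ Cfsg.spGL d F, (∃ z : F, ((x ^ r : GL (Fin d ⊕ Fin d) F) : Matrix (Fin d ⊕ Fin d) (Fin d ⊕ Fin d) F) = z • (1 : Matrix (Fin d ⊕ Fin d) (Fin d ⊕ Fin d) F)) →
      (∀ z : F, (x : Matrix (Fin d ⊕ Fin d) (Fin d ⊕ Fin d) F) ≠ z • (1 : Matrix (Fin d ⊕ Fin d) (Fin d ⊕ Fin d) F)) →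
      ∃ g ∈ Cfsg.spGL d F, g⁻¹ * x * g ∈ Cfsg.Geo.subalgebraNormalizer K) ↔ r = 2 := by
  subst hq
  have hp2 : p ≠ 2 := fun h => by
    subst h
    exact (Nat.not_even_iff_odd.mpr hodd) (even_iff_two_dvd.mpr
      ((CfsgLib.MaxSub.Elusive.dvd_q_iff (F := F) (p := 2) Nat.prime_two).mpr rfl))
  have h20 : (2 : F) ≠ 0 := fun h => by
    have h' : ((2 : ℕ) : F) = 0 := by exact_mod_cast h
    rw [CharP.cast_eq_zero_iff F p] at h'
    exact hp2 ((Nat.prime_dvd_prime_iff_eq Fact.out Nat.prime_two).mp h')
  obtain ⟨θ, c, hθ, A, hspan⟩ := CfsgLib.FieldSpElusive.exists_antiField h20 (by omega) hK hKf hKns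
  constructor
  · intro hall
    by_contra hr2
    have hr : Odd r := (Fact.out : r.Prime).odd_of_ne_two hr2
    suffices CfsgLib.FieldSpElusive.SpBad K r by
      obtain ⟨x, hx, hz, hns, hno⟩ := this
      obtain ⟨g, hg, hmem⟩ := hall x hx hz hns
      exact hno g hg hmem
    by_cases hrp : r = p
    · subst hrp
      exact CfsgLib.FieldSpElusive.spBad_char A (by omega) hθ hspan hr
    by_cases hrq : r ∣ Fintype.card F - 1
    · exact CfsgLib.FieldSpElusive.spBad_split A (by omega) hθ hspan hr hrq
    obtain ⟨l, hl1, hld, hl⟩ := CfsgLib.TensorElusive.exists_pow_sub_one Fact.out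
      (fun h => hrp ((CfsgLib.MaxSub.Elusive.dvd_q_iff (F := F) (p := p) Fact.out).mp h))
      (hΩ.trans (Subgroup.relIndex_dvd_card _ _))
    rw [CfsgLib.PrimeIso.dvd_pow_sub_one_iff] at hl
    have hle := Nat.le_of_dvd (by omega) hl
    have hpos := CfsgLib.PrimeIso.order_pos (F := F) (p := p) (r := r) hrp
    rcases Nat.even_or_odd (orderOf (Fintype.card F : ZMod r)) with ⟨n, hn⟩ | ho
    · rw [← two_mul] at hn
      rcases Nat.even_or_odd n with he | hno
      · exact CfsgLib.FieldSpElusive.spBad_field A (by omega) hθ hspan hr hrp hn he (by omega) (by omega)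
      · exact absurd hΩ (CfsgLib.FieldSpElusive.index_not_dvd A hθ hspan hr hrp hn hno)
    · refine CfsgLib.FieldSpElusive.spBad_swap A (by omega) hθ hspan hr hrp rfl ho ?_
      have := Nat.le_of_dvd (by omega) ((Nat.Coprime.dvd_mul_left (Nat.coprime_two_right.mpr ho)).mp hl)
      omega
  · rintro rfl x hx ⟨z, hz⟩ -
    exact CfsgLib.FieldSpElusive.symp_two A (by omega) hθ hspan hp2 x hx hz

end Cfsg.Agent.S5976
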