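import Cfsg.Statements.S5981
import Cfsg.Agent.Lib.OrthSLElusive.Positive
import Cfsg.Agent.Lib.MaxSub.SubspaceMaximalOrthGL
import Cfsg.Agent.Lib.PrimeIso.Rev

set_option autoImplicit false
open scoped MatrixGroups
open Cfsg

namespace Cfsg.Agent.S5981

/-- Elements of prime order of PSL_n(q), q odd, and the subgroups of orthogonal type. Here `T = PSL_n(F)` for a field `F` with `q` elements, `q` odd, `n ≥ 3`; `Q` is a non-degenerate quadratic form on `F^n` (of either type when `n` is even) and `H` is the subgroup of matrices of determinant 1 that preserve `Q` up to a scalar — a subgroup of type O^ε_n(q) (maximality is not assumed); Ω is the set of cosets of `H` in `T`, so an element of `T` of prime order `r` (a matrix `x` of determinant 1 with `x^r` scalar, `x` not scalar) fixes a point of Ω exactly when some conjugate of `x` by a matrix of determinant 1 preserves `Q` up to a scalar. Let `r` be a prime dividing the index of `H`, with `(n, r) ≠ (6, 3)`. Then every element of `T` of order `r`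 fixes a point of Ω if and only if `r = 2`, or `r ∈ {3, 5}`, `n = r` and `(q − 1)_r = r` (the `r`-part of `q − 1` is exactly `r`). The case `(n, r) = (6, 3)` is not covered by this statement. -/
theorem result {F : Type*} [Field F] [Fintype F] {p : ℕ} [Fact p.Prime] [CharP F p] {q : ℕ} (hq : Fintype.card F = q)
    (hodd : Odd q) (n : ℕ) (hn : 3 ≤ n) (Q : (Fin n → F) → F) (hQ : Cfsg.Geo.IsNondegenerateQuadraticForm Q)
    (r : ℕ) [Fact r.Prime] (hgap : ¬ (n = 6 ∧ r = 3))
    (hΩ : r ∣ (Cfsg.Geo.quadSimilarityGroup Q).relIndex (Cfsg.Geo.specialLinear (Fin n) F)) :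
    (∀ x ∈ Cfsg.Geo.specialLinear (Fin n) F, (∃ z : F, ((x ^ r : GL (Fin n) F) : Matrix (Fin n) (Fin n) F) = z • (1 : Matrix (Fin n) (Fin n) F)) →
      (∀ z : F, (x : Matrix (Fin n) (Fin n) F) ≠ z • (1 : Matrix (Fin n) (Fin n) F)) →
      ∃ g ∈ Cfsg.Geo.specialLinear (Fin n) F, g⁻¹ * x * g ∈ Cfsg.Geo.quadSimilarityGroup Q) ↔
    (r = 2 ∨ ((r = 3 ∨ r = 5) ∧ n = r ∧ padicValNat r (q - 1) = 1)) := by
  subst hq
  obtain ⟨R, rfl, hR⟩ := CfsgLib.MaxSub.Orth.exists_form hQ
  have hG := CfsgLib.FiniteForms.polarMat_det_ne_zero hR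
  have h2 : (2 : F) ≠ 0 := CfsgLib.FiniteForms.two_ne_zero_of_odd rfl hodd
  have hrP : r.Prime := Fact.out
  have hq1 : Fintype.card F - 1 ≠ 0 := by have := Fintype.one_lt_card (α := F); omega
  constructor
  · intro hall
    by_contra hcond
    suffices CfsgLib.OrthSLElusive.SLBad (⇑R) r by
      obtain ⟨x, hx, hz, hns, hno⟩ := this
      obtain ⟨g, hg, hmem⟩ := hall x hx hz hns
      exact hno g hg hmem
    by_cases hrp : r = p
    · subst hrp
      exact CfsgLib.OrthSLElusive.bad_char h2 (by omega) R hG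
    have hr2 : r ≠ 2 := fun h => hcond (Or.inl h)
    obtain ⟨hin, hev⟩ := CfsgLib.OrthSLElusive.order_facts (p := p) hodd hn R hR hrP hr2 hrp hΩ
    have hpos := CfsgLib.PrimeIso.order_pos (F := F) (p := p) (r := r) hrp
    rcases Nat.even_or_odd (orderOf (Fintype.card F : ZMod r)) with he | ho
    · obtain ⟨hdvd, m, A, C, -, hN, hrN⟩ := hev he
      have h2le : 2 ≤ orderOf (Fintype.card F : ZMod r) := by obtain ⟨k, hk⟩ := he; omega
      exact CfsgLib.OrthSLElusive.bad_free (p := p) R hrp h2le hdvd (by omega) hN hrN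
    by_cases h1 : orderOf (Fintype.card F : ZMod r) = 1
    · have hrM : r ∣ Fintype.card F - 1 := by
        rw [← ZMod.natCast_eq_zero_iff, Nat.cast_sub Fintype.card_pos, Nat.cast_one, orderOf_eq_one_iff.mp h1, sub_self]
      by_cases h33 : n = r ∧ (r = 3 ∨ r = 5)
      · refine CfsgLib.OrthSLElusive.bad_scaled R hG h33.1 (by omega) ?_
        have h3 : padicValNat r (Fintype.card F - 1) ≠ 1 := fun h => hcond (Or.inr ⟨h33.2, h33.1, h⟩)
        have h4 := one_le_padicValNat_of_dvd hq1 hrM
        rw [padicValNat_dvd_iff_le hq1]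
        omega
      · exact CfsgLib.OrthSLElusive.bad_diag hn R hG hr2 hgap h33 hrM
    · exact CfsgLib.OrthSLElusive.bad_block (p := p) h2 R hG (hrP.odd_of_ne_two hr2) hrp (by omega) ho hin
  · rintro hcond x hx ⟨z, hz⟩ -
    rw [Units.val_pow_eq_pow_val] at hz
    rcases hcond with rfl | ⟨hr, hnr, hv⟩
    · exact CfsgLib.OrthSLElusive.pos_two (p := p) h2 (by omega) R hG x hz
    · refine CfsgLib.OrthSLElusive.pos_small h2 hr hnr ?_ ?_ R hG x ((CfsgLib.OrthSLElusive.mem_special_iff x).mp hx) hz
      · exact dvd_of_one_le_padicValNat (by omega)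
      · rw [padicValNat_dvd_iff_le hq1]
        omega

end Cfsg.Agent.S5981
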