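import Cfsg.Statements.S5982
import Cfsg.Agent.Lib.UnitSLElusive.Positive
import Cfsg.Agent.Lib.PrimeIso.Rev

set_option autoImplicit false
open scoped MatrixGroups
open Cfsg

namespace Cfsg.Agent.S5982

/-- Elements of prime order of PSL_n(q), q = q₀², and the subgroups of unitary type. Here `T = PSL_n(F)` for a field `F` with `q = q₀²` elements (`n ≥ 3`), `f` is a non-degenerate unitary form on `F^n` for the involutory automorphism `x ↦ x^{q₀}`, and `H` is the subgroup of matrices of determinant 1 that preserve `f` up to a scalar — a subgroup of type GU_n(q₀) (maximality is not assumed); Ω is the set of cosets of `H` in `T`, so an element of `T` of prime order `r` (a matrix `x` of determinant 1 with `x^r` scalar, `x` not scalar) fixes a point of Ω exactly when some conjugate of `x` by a matrix of determinant 1 preserves `f` up to a scalar. Let `r` be a prime dividing the index of `H`, with `r = 2` or `r` different from the characteristic `p`, and with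 `(n, r) ≠ (6, 3)`. Then every element of `T` of order `r` fixes a point of Ω if and only if either `r = 2` and (`p = 2` or `(n)_2 ≤ (q − 1)_2`), or `r ∈ {3, 5}`, `n = r` and `(q₀ − 1)_r = r`. (Odd `r = p` and the case `(n, r) = (6, 3)` are not covered by this statement.) -/
theorem result {F : Type*} [Field F] [Fintype F] {p : ℕ} [Fact p.Prime] [CharP F p] {q : ℕ} (hq : Fintype.card F = q)
    (q₀ : ℕ) (hq₀ : q = q₀ ^ 2) (n : ℕ) (hn : 3 ≤ n) (f : (Fin n → F) → (Fin n → F) → F) (hf : Cfsg.Geo.IsUnitaryFormPow q₀ f)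
    (r : ℕ) [Fact r.Prime] (hr : r = 2 ∨ r ≠ p) (hgap : ¬ (n = 6 ∧ r = 3))
    (hΩ : r ∣ (Cfsg.Geo.similarityGroup f).relIndex (Cfsg.Geo.specialLinear (Fin n) F)) :
    (∀ x ∈ Cfsg.Geo.specialLinear (Fin n) F, (∃ z : F, ((x ^ r : GL (Fin n) F) : Matrix (Fin n) (Fin n) F) = z • (1 : Matrix (Fin n) (Fin n) F)) →
      (∀ z : F, (x : Matrix (Fin n) (Fin n) F) ≠ z • (1 : Matrix (Fin n) (Fin n) F)) →
      ∃ g ∈ Cfsg.Geo.specialLinear (Fin n) F, g⁻¹ * x * g ∈ Cfsg.Geo.similarityGroup f) ↔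
    ((r = 2 ∧ (p = 2 ∨ padicValNat 2 n ≤ padicValNat 2 (q - 1))) ∨ ((r = 3 ∨ r = 5) ∧ n = r ∧ padicValNat r (q₀ - 1) = 1)) := by
  subst hq
  obtain ⟨σ, H, hσ, hσσ, ⟨k₀, hk₀⟩, hH, hH0, hfH⟩ := CfsgLib.UnitSLElusive.exists_data (p := p) hq₀ hf
  have hne := CfsgLib.UnitSLElusive.exists_moved hq₀ hσ
  have hrP : r.Prime := Fact.out
  have hq0 : 1 < q₀ := (CfsgLib.UnitaryBasic.frob_exists hq₀).1
  have hq1 : Fintype.card F - 1 ≠ 0 := by have := Fintype.one_lt_card (α := F); omega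
  have hsq : Fintype.card F - 1 = (q₀ + 1) * (q₀ - 1) := by rw [hq₀, ← Nat.sq_sub_sq, one_pow]
  have hv : ∀ s : ℕ, s.Prime → s ≠ 2 → s ∣ q₀ - 1 → padicValNat s (Fintype.card F - 1) = padicValNat s (q₀ - 1) := by
    intro s hs hs2 hd
    have := Fact.mk hs
    rw [hsq, padicValNat.mul (by omega) (by omega), padicValNat.eq_zero_of_not_dvd (fun h => hs2 ?_), zero_add]
    have h2 := Nat.dvd_sub h hd
    rw [show q₀ + 1 - (q₀ - 1) = 2 by omega] at h2
    exact (Nat.prime_dvd_prime_iff_eq hs Nat.prime_two).mp h2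
  have hodd : p ≠ 2 → Odd q₀ := fun hp => by
    rw [hk₀]
    exact ((Fact.out : p.Prime).odd_of_ne_two hp).pow
  constructor
  · intro hall
    by_contra hcond
    suffices CfsgLib.UnitSLElusive.SLBad f r by
      obtain ⟨x, hx, hz, hns, hno⟩ := this
      obtain ⟨g, hg, hmem⟩ := hall x hx hz hns
      exact hno g hg hmem
    by_cases hr2 : r = 2
    · subst hr2
      rw [not_or] at hcond
      obtain ⟨hp, hlt⟩ := not_or.mp (fun h => hcond.1 ⟨rfl, h⟩)
      exact CfsgLib.UnitSLElusive.bad_two hq₀ hσ hσσ hH hH0 hfH (by omega) (hodd hp) (by omega)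
    have hrp : r ≠ p := hr.resolve_left hr2
    obtain ⟨k, hk1, hkn, hk⟩ := CfsgLib.UnitSLElusive.order_facts (p := p) hq₀ (by omega) hσ hσσ hH hH0 hfH hrp hΩ
    have hpos := CfsgLib.PrimeIso.order_pos (F := F) (p := p) (r := r) hrp
    have hik : orderOf (Fintype.card F : ZMod r) ∣ k := orderOf_dvd_of_pow_eq_one (by
      rw [hq₀, Nat.cast_pow, ← neg_sq, ← pow_mul, mul_comm, pow_mul, hk, neg_one_sq])
    by_cases h1 : orderOf (Fintype.card F : ZMod r) = 1
    · have hq2 : (q₀ : ZMod r) = 1 := by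
        have h2 := orderOf_eq_one_iff.mp h1
        rw [hq₀, Nat.cast_pow, sq_eq_one_iff] at h2
        refine h2.resolve_right fun h3 => ?_
        rw [h3, neg_neg, one_pow, eq_neg_iff_add_eq_zero, one_add_one_eq_two] at hk
        exact hr2 ((Nat.prime_dvd_prime_iff_eq hrP Nat.prime_two).mp
          ((ZMod.natCast_eq_zero_iff 2 r).mp (by exact_mod_cast hk)))
      have hd : r ∣ q₀ - 1 := by
        rw [← ZMod.natCast_eq_zero_iff, Nat.cast_sub (by omega), hq2, Nat.cast_one, sub_self]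
      have hfix : ∀ (m : ℕ) (u : Fˣ), m ∣ q₀ - 1 → orderOf u = m → σ u = u := fun m u hm hu => by
        have h4 : u ^ (q₀ - 1) = 1 := orderOf_dvd_iff_pow_eq_one.mp (hu ▸ hm)
        rw [hσ, ← Units.val_pow_eq_pow_val, show q₀ = q₀ - 1 + 1 by omega, pow_succ, h4, one_mul]
      have hreal : ∀ (M : Matrix (Fin n) (Fin n) F) (z : F), M.map σ = M → M.det = 1 → M ^ r = z • 1 →
          (∀ G : Matrix (Fin n) (Fin n) F, G.det ≠ 0 → ¬ CfsgLib.OrthSLElusive.Sim G M) →
          CfsgLib.UnitSLElusive.SLBad f r := fun M z hM hdet hpow hno =>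
        CfsgLib.UnitSLElusive.bad_of hσσ hH hH0 hfH M hdet hpow fun G _ hG0 ⟨c, hc⟩ =>
          hno G hG0 ⟨c, by rwa [CfsgLib.UnitSLElusive.st, hM] at hc⟩
      by_cases h33 : n = r ∧ (r = 3 ∨ r = 5)
      · have h3 : padicValNat r (q₀ - 1) ≠ 1 := fun h => hcond (Or.inr ⟨h33.2, h33.1, h⟩)
        have h4 := one_le_padicValNat_of_dvd (by omega : q₀ - 1 ≠ 0) hd
        have h2r : r ^ 2 ∣ q₀ - 1 := by rw [padicValNat_dvd_iff_le (by omega)]; omega
        obtain ⟨μ, hμ⟩ := CfsgLib.OrthSLElusive.exists_unit_order (F := F) (h2r.trans (Dvd.intro_left _ hsq.symm))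
        obtain ⟨M, hM, -, hdet, hpow, hno⟩ := CfsgLib.OrthSLElusive.scaled_element h33.1 (by omega) hμ
        exact hreal M _ ((hM σ 1 (by rw [pow_one]; exact hfix _ μ h2r hμ)).trans (pow_one M)) hdet hpow hno
      · obtain ⟨ζ, hζ⟩ := CfsgLib.OrthSLElusive.exists_unit_order (F := F) (hd.trans (Dvd.intro_left _ hsq.symm))
        obtain ⟨M, hM, -, hdet, hpow, hno⟩ := CfsgLib.OrthSLElusive.diag_element hn hr2 hgap h33 hζ
        exact hreal M 1 ((hM σ 1 (by rw [pow_one]; exact hfix _ ζ hd hζ)).trans (pow_one M)) hdet (by rw [hpow, one_smul]) hno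
    · exact CfsgLib.UnitSLElusive.bad_block (p := p) hq₀ hσ hσσ hH hH0 hfH hr2 hrp hk (by omega)
        ((Nat.le_of_dvd hk1 hik).trans hkn)
  · rintro hcond x hx ⟨z, hz⟩ -
    rw [Units.val_pow_eq_pow_val] at hz
    have hxdet := (CfsgLib.OrthSLElusive.mem_special_iff x).mp hx
    rcases hcond with ⟨rfl, hp⟩ | ⟨hr', hnr, hv1⟩
    · obtain ⟨s, rfl⟩ : IsSquare z := by
        by_cases hp2 : p = 2
        · subst hp2
          exact FiniteField.isSquare_of_char_two (ringChar.eq F 2) z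
        · exact CfsgLib.UnitSLElusive.isSquare_of_small hq₀ (hodd hp2) (by omega) (hp.resolve_left hp2) x hxdet hz
      refine CfsgLib.UnitSLElusive.pos_two (p := p) hσσ hne hH hH0 hfH (by omega) x (fun h => ?_) hz
      have h1 := congrArg Matrix.det hz
      rw [h, zero_mul, zero_smul, Matrix.det_pow, hxdet, one_pow] at h1
      have : Nonempty (Fin n) := ⟨⟨0, by omega⟩⟩
      rw [Matrix.det_zero] at h1
      exact one_ne_zero h1
    · have hd : r ∣ q₀ - 1 := dvd_of_one_le_padicValNat (by omega)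
      refine CfsgLib.UnitSLElusive.pos_small hq₀ hσ hσσ hH hH0 hfH hr' hnr hd ?_ x hxdet hz
      rw [padicValNat_dvd_iff_le hq1, hv r hrP (by omega) hd]
      omega

end Cfsg.Agent.S5982
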