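import Cfsg.Statements.S5984
import Cfsg.Agent.Lib.PairElusive.Elements
import Cfsg.Agent.Lib.PairElusive.Index
import Cfsg.Agent.Lib.PairElusive.Positive

set_option autoImplicit false
open scoped MatrixGroups
open Cfsg

namespace Cfsg.Agent.S5984

/-- Elements of prime order of PSU_n(q) and the stabilizers of pairs of complementary totally singular subspaces. Here `T = PSU_n(q)` is realised through `SU_n(q)`, the matrices of determinant 1 over the field `F` with `q²` elements preserving the hermitian form `Σ uᵢ vᵢ^q`, with `n ≥ 4` even; `D` is a pair of complementary subspaces of dimension `n/2` on each of which the form vanishes identically, and `H` is the subgroup of `SU_n(q)` fixing or interchanging the two members — a subgroup of type GL_{n/2}(q²).2 (maximality is not assumed). Ω is the set of cosets of `H`, so an element of `T` of prime order `r` (`x ∈ SU_n(q)` with `x^r` scalar, `x` not scalar) fixes a point of Ω exactly when some `SU_n(q)`-conjugate of `x` lies in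 `H`. Let `r` be a prime dividing the index of `H`. Then every element of `T` of order `r` fixes a point of Ω if and only if `r = 2`, `q` is odd and `(q + 1)_2 ≤ (n)_2` (2-parts). -/
theorem result {F : Type*} [Field F] [Fintype F] {p : ℕ} [Fact p.Prime] [CharP F p] {q : ℕ} (hq : Fintype.card F = q ^ 2)
    (n : ℕ) (hn : 4 ≤ n) (he : Even n) (D : Fin 2 → Submodule F (Fin n → F)) (hD : Cfsg.Geo.IsMDecomposition (n / 2) D)
    (hDs : ∀ i, Cfsg.Geo.IsTotallySingularFor (Cfsg.hermForm n F q) (D i))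
    (r : ℕ) [Fact r.Prime]
    (hΩ : r ∣ (Cfsg.Geo.decompositionStabilizer D).relIndex (Cfsg.GU n F q ⊓ Cfsg.Geo.specialLinear (Fin n) F)) :
    (∀ x ∈ Cfsg.GU n F q ⊓ Cfsg.Geo.specialLinear (Fin n) F, (∃ z : F, ((x ^ r : GL (Fin n) F) : Matrix (Fin n) (Fin n) F) = z • (1 : Matrix (Fin n) (Fin n) F)) →
      (∀ z : F, (x : Matrix (Fin n) (Fin n) F) ≠ z • (1 : Matrix (Fin n) (Fin n) F)) →
      ∃ g ∈ Cfsg.GU n F q ⊓ Cfsg.Geo.specialLinear (Fin n) F, g⁻¹ * x * g ∈ Cfsg.Geo.decompositionStabilizer D) ↔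
    (r = 2 ∧ Odd q ∧ padicValNat 2 (q + 1) ≤ padicValNat 2 n) := by
  have hnd : n = 2 * (n / 2) := (Nat.two_mul_div_two_of_even he).symm
  have hd2 : 2 ≤ n / 2 := by omega
  have hpq : p ∣ q := (Fact.out : p.Prime).dvd_of_dvd_pow
    (hq ▸ (CfsgLib.MaxSub.Elusive.dvd_q_iff (F := F) (p := p) Fact.out).mpr rfl)
  have hdvd : ∀ k : ℕ, k.Prime → k ∣ q → k = p := fun k hk h =>
    (CfsgLib.MaxSub.Elusive.dvd_q_iff (F := F) hk).mp (hq ▸ h.trans (dvd_pow_self q two_ne_zero))
  have hodd_iff : Odd q ↔ p ≠ 2 := by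
    refine ⟨fun ho hp => ?_, fun hp => Nat.not_even_iff_odd.mp fun he' => hp (hdvd 2 Nat.prime_two (even_iff_two_dvd.mp he')).symm⟩
    exact (Nat.not_even_iff_odd.mpr ho) (even_iff_two_dvd.mpr (hp ▸ hpq))
  constructor
  · intro hall
    by_contra hcond
    suffices CfsgLib.PairElusive.Bad q r D by
      obtain ⟨x, hx, hz, hns, hno⟩ := this
      obtain ⟨g, hg, hgm⟩ := hall x hx hz hns
      exact hno g hg hgm
    by_cases hrp : r = p
    · subst hrp
      exact CfsgLib.PairElusive.bad_char hq hD hnd hd2 hDs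
    by_cases hr2 : r = 2
    · subst hr2
      have hp : p ≠ 2 := fun h => hrp h.symm
      exact CfsgLib.PairElusive.bad_two hq hD hnd hd2 hDs (hodd_iff.mpr hp) hp
        (not_le.mp fun h => hcond ⟨rfl, hodd_iff.mpr hp, h⟩)
    by_cases hrq : r ∣ q + 1
    · exact CfsgLib.PairElusive.bad_split hq hD hnd hd2 hDs hr2 hrq
    obtain ⟨j, hjo, hjn, hrj⟩ := CfsgLib.PairElusive.index_prime hq hD hnd hDs Fact.out
      (fun h => hrp (hdvd r Fact.out h)) hΩ
    exact CfsgLib.PairElusive.bad_block (p := p) hq hD hnd hDs hr2 hrp hrq hjo hjn hrj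
  · rintro ⟨rfl, ho, hv⟩ x hx ⟨z, hz⟩ -
    exact CfsgLib.PairElusive.involution_mem (p := p) hq hD hnd hDs ho (hodd_iff.mp ho) hpq hv x hx hz

end Cfsg.Agent.S5984
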