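import Cfsg.Statements.S5987
import Cfsg.Agent.Lib.OrthIso.SingBridge
import Cfsg.Agent.Lib.OrthIso.EvenOddBridge

set_option autoImplicit false
open scoped MatrixGroups
open Cfsg

namespace Cfsg.Agent.S5987

/-- Elements of prime order of PΩ⁻_n(q) with no fixed totally singular `m`-space. Here `T = PΩ⁻_n(F)`, `n = 2d ≥ 8`, realised through `Ω⁻_n(q)`, the commutator subgroup of the isometry group of `Q = Σ_{i<d−1} xᵢyᵢ + z₁² + a z₁z₂ + b z₂²` with `z₁² + a z₁z₂ + b z₂²` anisotropic, over the field `F` with `q` elements; an element of `T` of prime order `r` is an element `x` of `Ω⁻_n(q)` with `x^r` scalar and `x` not scalar. Let `1 ≤ m ≤ d − 1` and let `r` be a prime dividing the number of totally singular `m`-spaces (subspaces of dimension `m` on which `Q` vanishes); for `r ≠ p` let `i` be the multiplicative order of `q` modulo `r`, `c = i` for `i` even and `c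 = 2i` for `i` odd, and write `k = n mod c`, `ℓ = m mod i`, `n' = ⌊n/i⌋`, `m' = ⌊m/i⌋`, `t = (r−1)/i`. Then every element of `T` of order `r` fixes some totally singular `m`-space if and only if one of: (i) `r = 2 ≠ p` and (`n ≡ 0 (mod 4)`, or `m` is even, or `q ≢ 7 (mod 8)`); (ii) `r ≠ p` odd, `i` odd, `i ≤ m` and (`k = 0` or `k > 2ℓ`); (iii) `r ≠ p` odd, `i` even, `i ≤ m`, `n' − 2m' ≥ t`, and one of: (a) `i ≥ 2ℓ`, `k = 0`, `n/i` even and `n' − 2m' > t` (all four); (b) `k ≥ 2ℓ` and `n'` odd; (c) `k > 2ℓ` and `n'` even. -/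
theorem result {F : Type*} [Field F] [Fintype F] {p : ℕ} [Fact p.Prime] [CharP F p] {q : ℕ} (hq : Fintype.card F = q)
    (d m : ℕ) (hd : 4 ≤ d) (hm : 1 ≤ m) (hmd : m + 1 ≤ d) (a b : F) (hab : ∀ x y : F, x ^ 2 + a * x * y + b * y ^ 2 = 0 → x = 0 ∧ y = 0)
    (r : ℕ) [Fact r.Prime]
    (hrΩ : r ∣ Nat.card {W : Submodule F ((Fin (d - 1) ⊕ Fin (d - 1)) ⊕ Fin 2 → F) // Module.finrank F ↥W = m ∧ Cfsg.Geo.IsTotallySingularQuad (Cfsg.quadFormMinus (d - 1) F a b) W})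
    (i c : ℕ) (hi : i = orderOf (q : ZMod r)) (hc : c = if Even i then i else 2 * i) :
    (∀ x : GL ((Fin (d - 1) ⊕ Fin (d - 1)) ⊕ Fin 2) F, x ∈ Cfsg.Geo.omegaGL (Cfsg.quadFormMinus (d - 1) F a b) →
      (∃ z : F, ((x ^ r : GL ((Fin (d - 1) ⊕ Fin (d - 1)) ⊕ Fin 2) F) : Matrix ((Fin (d - 1) ⊕ Fin (d - 1)) ⊕ Fin 2) ((Fin (d - 1) ⊕ Fin (d - 1)) ⊕ Fin 2) F) = z • (1 : Matrix ((Fin (d - 1) ⊕ Fin (d - 1)) ⊕ Fin 2) ((Fin (d - 1) ⊕ Fin (d - 1)) ⊕ Fin 2) F)) →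
      (∀ z : F, (x : Matrix ((Fin (d - 1) ⊕ Fin (d - 1)) ⊕ Fin 2) ((Fin (d - 1) ⊕ Fin (d - 1)) ⊕ Fin 2) F) ≠ z • (1 : Matrix ((Fin (d - 1) ⊕ Fin (d - 1)) ⊕ Fin 2) ((Fin (d - 1) ⊕ Fin (d - 1)) ⊕ Fin 2) F)) →
      ∃ W : Submodule F ((Fin (d - 1) ⊕ Fin (d - 1)) ⊕ Fin 2 → F), (Module.finrank F ↥W = m ∧ Cfsg.Geo.IsTotallySingularQuad (Cfsg.quadFormMinus (d - 1) F a b) W) ∧ W.map (Matrix.toLin' (x : Matrix ((Fin (d - 1) ⊕ Fin (d - 1)) ⊕ Fin 2) ((Fin (d - 1) ⊕ Fin (d - 1)) ⊕ Fin 2) F)) ≤ W) ↔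
    ((r = 2 ∧ p ≠ 2 ∧ (Even d ∨ Even m ∨ q % 8 ≠ 7)) ∨
     (r ≠ p ∧ 2 < r ∧ Odd i ∧ i ≤ m ∧ ((2 * d) % c = 0 ∨ 2 * (m % i) < (2 * d) % c)) ∨
     (r ≠ p ∧ 2 < r ∧ Even i ∧ i ≤ m ∧ (r - 1) / i + 2 * (m / i) ≤ (2 * d) / i ∧
       ((2 * (m % i) ≤ i ∧ (2 * d) % c = 0 ∧ Even ((2 * d) / i) ∧ (r - 1) / i + 2 * (m / i) < (2 * d) / i) ∨
        (2 * (m % i) ≤ (2 * d) % c ∧ Odd ((2 * d) / i)) ∨
        (2 * (m % i) < (2 * d) % c ∧ Even ((2 * d) / i))))) := by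
  subst hq
  have hQ' : Cfsg.quadFormMinus (d - 1) F a b = ⇑(CfsgLib.StdQuadForms.Qm (d - 1) a b) := funext fun v => (CfsgLib.StdQuadForms.Qm_apply _ _ _ v).symm
  simp only [hQ', Cfsg.Geo.IsTotallySingularQuad] at hrΩ ⊢
  have hQ : CfsgLib.PrimeIso.ND (QuadraticMap.polarBilin (CfsgLib.StdQuadForms.Qm (d - 1) a b)) (⊤ : Submodule F _) :=
    fun x _ hp => (CfsgLib.StdQuadForms.Qm_nondeg (d - 1) hab).1 x fun y => hp y trivial
  have hP : ¬ CfsgLib.OrthIso.Plus (CfsgLib.StdQuadForms.Qm (d - 1) a b)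
      (⊤ : Submodule F ((Fin (d - 1) ⊕ Fin (d - 1)) ⊕ Fin 2 → F)) := by
    rintro ⟨U, -, hU, hUd⟩
    have h1 := CfsgLib.FiniteForms.minus_totally_singular_le hab U fun u hu =>
      (CfsgLib.StdQuadForms.Qm_apply _ _ _ u).symm.trans (hU u hu)
    rw [finrank_top, Module.finrank_fintype_fun_eq_card] at hUd
    simp at hUd
    omega
  have h := CfsgLib.OrthIso.even_ts_class (p := p) (r := r) (CfsgLib.StdQuadForms.Qm (d - 1) a b) hQ (by simp; omega) hd hm (by omega) hrΩ hi hc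
  rw [h]
  simp only [iff_false_intro hP, false_iff, not_false_eq_true, not_not, and_true, and_false, or_false, false_or, false_implies, true_and]
  rw [FiniteField.isSquare_neg_one_iff, ← Nat.not_even_iff_odd (n := (2 * d) / i)]
  have hqp : p ≠ 2 → Fintype.card F % 2 = 1 := fun h2 => FiniteField.odd_card_of_char_ne_two fun e => h2 ((ringChar.eq F p).symm.trans e)
  constructor
  · rintro (⟨h1, h2, h4⟩ | ⟨h1, h2, h3, ⟨ho, hl⟩ | ⟨he, hl, h5⟩⟩)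
    · refine Or.inl ⟨h1, h2, ?_⟩
      by_contra hcon
      push Not at hcon
      obtain ⟨hde, hme, hq8⟩ := hcon
      rcases h4 with h4 | h4 | h4
      · omega
      · exact hme h4
      · exact h4 ⟨(CfsgLib.OrthIso.isSquare_two_pow_iff (hqp h2) d).mpr (Or.inr (Or.inr hq8)), hde⟩
    · exact Or.inr (Or.inl ⟨h1, h2, ho, h3, hl.symm⟩)
    · refine Or.inr (Or.inr ⟨h1, h2, he, h3, hl, ?_⟩)
      rcases h5 with h5 | ⟨h5, h6⟩ | ⟨h5, h6, h7⟩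
      · by_cases h8 : Even ((2 * d) / i)
        · exact Or.inr (Or.inr ⟨h5, h8⟩)
        · exact Or.inr (Or.inl ⟨h5.le, h8⟩)
      · exact Or.inr (Or.inl ⟨h5.le, h6⟩)
      · exact Or.inl ⟨h7.1, h5, h6, h7.2⟩
  · rintro (⟨h1, h2, h3⟩ | ⟨h1, h2, ho, h3, h4⟩ | ⟨h1, h2, he, h3, hl, h4⟩)
    · refine Or.inl ⟨h1, h2, ?_⟩
      rcases h3 with h3 | h3 | h3
      · exact Or.inr (Or.inr fun h4 => h4.2 h3)
      · exact Or.inr (Or.inl h3)
      · by_cases h5 : Fintype.card F % 4 = 3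
        · refine Or.inr (Or.inr fun ⟨h6, h7⟩ => ?_)
          rcases (CfsgLib.OrthIso.isSquare_two_pow_iff (hqp h2) d).mp h6 with h8 | h8
          · exact h7 h8
          · omega
        · exact Or.inl h5
    · exact Or.inr ⟨h1, h2, h3, Or.inl ⟨ho, h4.symm⟩⟩
    · refine Or.inr ⟨h1, h2, h3, Or.inr ⟨he, hl, ?_⟩⟩
      rcases h4 with ⟨h5, h6, h7, h8⟩ | ⟨h5, h6⟩ | ⟨h5, -⟩
      · exact Or.inr (Or.inr ⟨h6, h7, h5, h8⟩)
      · rcases lt_or_eq_of_le h5 with h7 | h7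
        · exact Or.inl h7
        · exact Or.inr (Or.inl ⟨h7, h6⟩)
      · exact Or.inl h5

end Cfsg.Agent.S5987
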