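import Cfsg.Statements.S5988
import Cfsg.Agent.Lib.OrthIso.NondegEvenBridge
import Cfsg.Agent.Lib.OrthIso.EvenOddBridge
import Cfsg.Agent.Lib.MaxSub.ElusiveNonsingular

set_option autoImplicit false
open scoped MatrixGroups
open Cfsg

namespace Cfsg.Agent.S5988

/-- Elements of prime order of PΩ⁺_n(q) with no fixed elliptic `m`-space. Here `T = PΩ⁺_n(F)`, `n = 2d ≥ 8`, realised through `Ω⁺_n(q)`, the commutator subgroup of the isometry group of `Q = Σ xᵢyᵢ` over the field `F` with `q` elements; an element of `T` of prime order `r` is an element `x` of `Ω⁺_n(q)` with `x^r` scalar and `x` not scalar; a nondegenerate `m`-space (even `m`) is a subspace on which the polar form of `Q` is nondegenerate; it is hyperbolic if it contains an `m/2`-dimensional subspace on which `Q` vanishes, elliptic otherwise. Let `m` be even with `2 ≤ m < n/2` and let `r` be a prime dividing the number of elliptic `m`-spaces;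 for `r ≠ p` let `i` be the multiplicative order of `q` modulo `r`, `c = i` for `i` even and `c = 2i` for `i` odd, and write `k = n mod c`, `ℓ = m mod i`, `ℓ' = m mod c`, `n' = ⌊n/i⌋`, `m' = ⌊m/i⌋`, `t = (r−1)/i`. Then every element of `T` of order `r` fixes some elliptic `m`-space if and only if one of: (i) `r = 2 ≠ p` and either `n ≡ 0 (mod 4)`, `q ≡ 3 (mod 4)` and `m ≡ 2 (mod 4)`, or `n ≡ 2 (mod 4)` and `q ≢ 1 (mod 8)`; (ii) `r ≠ p` odd, `i` odd, `c ≤ m` and `k > ℓ' > 0`; (iii) `r ≠ p` odd, `i` even, and either `k = 0` and (`n/i` odd, or `ℓ' = 0` and `m/i` odd), or `i ≤ m` and (`k > ℓ' > 0`, or `k = ℓ' > 0` and `(n + m − 2k)/i` odd, or `k > ℓ' = 0` and `m/i` odd). (For `r = p` there is always an element of order `p` fixing no elliptic `m`-space.) -/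
theorem result {F : Type*} [Field F] [Fintype F] {p : ℕ} [Fact p.Prime] [CharP F p] {q : ℕ} (hq : Fintype.card F = q)
    (d m : ℕ) (hd : 4 ≤ d) (hm : 2 ≤ m) (hme : Even m) (hmd : m < d)
    (r : ℕ) [Fact r.Prime]
    (hrΩ : r ∣ Nat.card {W : Submodule F (Fin d ⊕ Fin d → F) // Module.finrank F ↥W = m ∧ Cfsg.Geo.IsNondegenerateOn (QuadraticMap.polar (Cfsg.quadFormPlus d F)) W ∧ ¬ Cfsg.Geo.IsPlusTypeOn (Cfsg.quadFormPlus d F) W})
    (i c : ℕ) (hi : i = orderOf (q : ZMod r)) (hc : c = if Even i then i else 2 * i) :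
    (∀ x : GL (Fin d ⊕ Fin d) F, x ∈ Cfsg.Geo.omegaGL (Cfsg.quadFormPlus d F) →
      (∃ z : F, ((x ^ r : GL (Fin d ⊕ Fin d) F) : Matrix (Fin d ⊕ Fin d) (Fin d ⊕ Fin d) F) = z • (1 : Matrix (Fin d ⊕ Fin d) (Fin d ⊕ Fin d) F)) →
      (∀ z : F, (x : Matrix (Fin d ⊕ Fin d) (Fin d ⊕ Fin d) F) ≠ z • (1 : Matrix (Fin d ⊕ Fin d) (Fin d ⊕ Fin d) F)) →
      ∃ W : Submodule F (Fin d ⊕ Fin d → F), (Module.finrank F ↥W = m ∧ Cfsg.Geo.IsNondegenerateOn (QuadraticMap.polar (Cfsg.quadFormPlus d F)) W ∧ ¬ Cfsg.Geo.IsPlusTypeOn (Cfsg.quadFormPlus d F) W) ∧ W.map (Matrix.toLin' (x : Matrix (Fin d ⊕ Fin d) (Fin d ⊕ Fin d) F)) ≤ W) ↔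
    ((r = 2 ∧ p ≠ 2 ∧ ((Even d ∧ q % 4 = 3 ∧ m % 4 = 2) ∨ (Odd d ∧ q % 8 ≠ 1))) ∨
     (r ≠ p ∧ 2 < r ∧ Odd i ∧ c ≤ m ∧ 0 < m % c ∧ m % c < (2 * d) % c) ∨
     (r ≠ p ∧ 2 < r ∧ Even i ∧
       (((2 * d) % c = 0 ∧ (Odd ((2 * d) / i) ∨ (m % c = 0 ∧ Odd (m / i)))) ∨
        (i ≤ m ∧ ((0 < m % c ∧ m % c < (2 * d) % c) ∨
                  (0 < m % c ∧ m % c = (2 * d) % c ∧ Odd ((2 * d + m - 2 * ((2 * d) % c)) / i)) ∨
                  (m % c = 0 ∧ 0 < (2 * d) % c ∧ Odd (m / i))))))) := by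
  subst hq
  have hQ' : Cfsg.quadFormPlus d F = ⇑(CfsgLib.Lagrangian.Qp d F) := funext fun v => (CfsgLib.Lagrangian.Qp_apply v).symm
  have hΩ : p = 2 → ∀ x : GL (Fin d ⊕ Fin d) F, x ∈ Cfsg.isometryGroup F ⇑(CfsgLib.Lagrangian.Qp d F) →
      (x ∈ Cfsg.Geo.omegaGL ⇑(CfsgLib.Lagrangian.Qp d F) ↔ Even ((x : Matrix (Fin d ⊕ Fin d) (Fin d ⊕ Fin d) F) - 1).rank) := by
    rintro rfl x hx
    rw [← hQ'] at hx ⊢
    rw [← CfsgLib.MaxSub.Nonsingular.plus_omega_iff (by omega) ⟨x, hx⟩]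
    exact ⟨fun ⟨g, hg, hgx⟩ => (Subtype.ext hgx : g = ⟨x, hx⟩) ▸ hg, fun h => ⟨⟨x, hx⟩, h, rfl⟩⟩
  simp only [hQ'] at hrΩ ⊢
  have hQ : CfsgLib.PrimeIso.ND (QuadraticMap.polarBilin (CfsgLib.Lagrangian.Qp d F)) (⊤ : Submodule F _) :=
    fun x _ hp => CfsgLib.Lagrangian.Qp_nondeg.1 x fun y => hp y trivial
  have hP : CfsgLib.OrthIso.Plus (CfsgLib.Lagrangian.Qp d F) (⊤ : Submodule F (Fin d ⊕ Fin d → F)) := by
    obtain ⟨U, hU, hUd⟩ := CfsgLib.FiniteForms.plus_exists_singular (F := F) d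
    exact ⟨U, le_top, fun u hu => (CfsgLib.Lagrangian.Qp_apply u).trans (hU u hu), by
      rw [hUd, finrank_top, Module.finrank_fintype_fun_eq_card]; simp; omega⟩
  have hcl : ∀ W : Submodule F (Fin d ⊕ Fin d → F),
      (Module.finrank F ↥W = m ∧ Cfsg.Geo.IsNondegenerateOn (QuadraticMap.polar ⇑(CfsgLib.Lagrangian.Qp d F)) W ∧
        ¬ Cfsg.Geo.IsPlusTypeOn (⇑(CfsgLib.Lagrangian.Qp d F)) W) ↔
      (Module.finrank F ↥W = m ∧ CfsgLib.PrimeIso.ND (QuadraticMap.polarBilin (CfsgLib.Lagrangian.Qp d F)) W ∧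
        (CfsgLib.OrthIso.Plus (CfsgLib.Lagrangian.Qp d F) W ↔ False)) := fun W => by
    simp only [iff_false]
    rw [CfsgLib.OrthIso.nd_on_iff]
    rfl
  simp only [hcl] at hrΩ ⊢
  rw [CfsgLib.OrthIso.even_nd_class (p := p) (CfsgLib.Lagrangian.Qp d F) hQ (by simp; omega) hd hm hme (by omega)
    False False.elim (Or.inr (Or.inr ⟨id, hP⟩)) hΩ hrΩ hi hc]
  simp only [iff_true_intro hP, true_iff, iff_true, iff_false, false_iff, not_true, not_false_eq_true, false_implies, true_implies, true_and, and_true]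
  rw [FiniteField.isSquare_neg_one_iff]
  have hqp : p ≠ 2 → Fintype.card F % 2 = 1 := fun h2 => FiniteField.odd_card_of_char_ne_two fun e => h2 ((ringChar.eq F p).symm.trans e)
  have hq2 : p = 2 → Fintype.card F % 2 = 0 := fun h2 => FiniteField.even_card_of_char_two ((ringChar.eq F p).trans h2)
  have hm2 : Even (m / 2) ↔ m % 4 = 0 := by rw [Nat.even_iff]; have := Nat.even_iff.mp hme; omega
  have hdd : ∀ {i : ℕ}, Even i → c = i → m % c = (2 * d) % c →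
      (2 * d + m - 2 * ((2 * d) % c)) / i = 2 * d / i + m / i := fun {j} _ hcj hmk => by
    subst hcj
    rcases Nat.eq_zero_or_pos c with h0 | h0
    · subst h0; simp
    have h1 := Nat.div_add_mod' m c
    have h2 := Nat.div_add_mod' (2 * d) c
    rw [show 2 * d + m - 2 * ((2 * d) % c) = (2 * d / c + m / c) * c by rw [add_mul]; omega, Nat.mul_div_cancel _ h0]
  have hm4 : m % 4 = 0 ∨ m % 4 = 2 := by have := Nat.even_iff.mp hme; omega
  simp only [not_or, hm2, not_not]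
  constructor
  · rintro (⟨h1, h2, h3⟩ | ⟨h1, h2, h3⟩ | ⟨h1, h2, h3⟩)
    · exact absurd h3 (by tauto)
    · refine Or.inl ⟨h1, h2, ?_⟩
      have := hqp h2
      rcases Nat.even_or_odd d with hde | hdo
      · have h4 := h3.resolve_left fun hn => hn ⟨hde.isSquare_pow 2, Or.inr hde⟩
        exact Or.inl ⟨hde, h4.1, by omega⟩
      · refine Or.inr ⟨hdo, fun h8 => ?_⟩
        rcases h3 with h3 | h3
        · exact h3 ⟨(CfsgLib.OrthIso.isSquare_two_pow_iff this d).mpr (Or.inr (Or.inl h8)), Or.inl (by omega)⟩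
        · omega
    · rcases Nat.even_or_odd i with he | ho
      · rw [if_pos he] at hc
        refine Or.inr (Or.inr ⟨h1, h2, he, ?_⟩)
        simp only [Nat.not_odd_iff_even.mpr he, not_false_eq_true, true_and, false_or] at h3
        subst hc
        rcases h3 with ⟨h4, h5⟩ | ⟨h4, ⟨h5, h6 | ⟨h6, h7⟩⟩ | ⟨h5, h6⟩⟩
        · exact Or.inl ⟨h4, Or.inl (Nat.not_even_iff_odd.mp h5)⟩
        · exact Or.inr ⟨h4, Or.inl ⟨h5, h6⟩⟩
        · exact Or.inr ⟨h4, Or.inr (Or.inl ⟨h5, h6, by rw [hdd he rfl h6, ← Nat.not_even_iff_odd, Nat.even_add]; exact h7⟩)⟩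
        · rcases Nat.eq_zero_or_pos (2 * d % c) with h7 | h7
          · exact Or.inl ⟨h7, Or.inr ⟨h5, Nat.not_even_iff_odd.mp h6⟩⟩
          · exact Or.inr ⟨h4, Or.inr (Or.inr ⟨h5, h7, Nat.not_even_iff_odd.mp h6⟩)⟩
      · simp only [ho, true_or, not_true, false_and, and_false, false_or, or_false] at h3
        exact Or.inr (Or.inl ⟨h1, h2, ho, h3.1, h3.2.1, h3.2.2⟩)
  · rintro (⟨h1, h2, h3⟩ | ⟨h1, h2, ho, h3, h4, h5⟩ | ⟨h1, h2, he, h3⟩)
    · refine Or.inr (Or.inl ⟨h1, h2, ?_⟩)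
      rcases h3 with ⟨_, h4, h5⟩ | ⟨⟨k, hk⟩, h5⟩
      · exact Or.inr ⟨h4, by omega⟩
      · refine Or.inl fun ⟨h6, h7⟩ => ?_
        have := hqp h2
        rcases (CfsgLib.OrthIso.isSquare_two_pow_iff this d).mp h6 with ⟨l, hl⟩ | h8
        · omega
        · rcases h7 with h7 | ⟨l, hl⟩
          · omega
          · omega
    · refine Or.inr (Or.inr ⟨h1, h2, ?_⟩)
      simp only [ho, true_or, not_true, false_and, and_false, false_or, or_false]
      exact ⟨h3, h4, h5⟩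
    · refine Or.inr (Or.inr ⟨h1, h2, ?_⟩)
      simp only [Nat.not_odd_iff_even.mpr he, not_false_eq_true, true_and, false_or]
      rw [if_pos he] at hc
      subst hc
      rcases h3 with ⟨h4, h5 | ⟨h5, h6⟩⟩ | ⟨h4, ⟨h5, h6⟩ | ⟨h5, h6, h7⟩ | ⟨h5, h6, h7⟩⟩
      · exact Or.inl ⟨h4, Nat.not_even_iff_odd.mpr h5⟩
      · exact Or.inr ⟨Nat.le_of_dvd (by omega) (Nat.dvd_of_mod_eq_zero h5), Or.inr ⟨h5, Nat.not_even_iff_odd.mpr h6⟩⟩
      · exact Or.inr ⟨h4, Or.inl ⟨h5, Or.inl h6⟩⟩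
      · exact Or.inr ⟨h4, Or.inl ⟨h5, Or.inr ⟨h6, by rwa [hdd he rfl h6, ← Nat.not_even_iff_odd, Nat.even_add] at h7⟩⟩⟩
      · exact Or.inr ⟨h4, Or.inr ⟨h5, Nat.not_even_iff_odd.mpr h7⟩⟩

end Cfsg.Agent.S5988
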