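import Cfsg.Statements.S5989
import Cfsg.Agent.Lib.OrthIso.EvenOddBridge
-- import your own Cfsg.Agent.* helpers here

set_option autoImplicit false
open scoped MatrixGroups
open Cfsg

namespace Cfsg.Agent.S5989

/-- Elements of prime order of PΩ⁺_n(q), q odd, with no fixed nondegenerate `m`-space of odd dimension. Here `T = PΩ⁺_n(F)`, `n = 2d ≥ 8`, realised through `Ω⁺_n(q)`, the commutator subgroup of the isometry group of `Q = Σ xᵢyᵢ` over the field `F` with `q` elements; an element of `T` of prime order `r` is an element `x` of `Ω⁺_n(q)` with `x^r` scalar and `x` not scalar; `q` and `m` are odd, `1 ≤ m < n/2`. The nondegenerate `m`-spaces (subspaces on which the polar form is nondegenerate) fall into two isometry classes, each an orbit of `T`, and the two actions are equivalent; fix one such space `W₀` and let Ω be the set of nondegenerate `m`-spaces isometric to `W₀` (some linear isomorphism preserves `Q`).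 Let `r` be a prime dividing the size of Ω; for `r ≠ p` let `i` be the multiplicative order of `q` modulo `r`, `c = i` for `i` even and `c = 2i` for `i` odd, and write `k = n mod c`, `ℓ = m mod i`, `ℓ' = m mod c`, `n' = ⌊n/i⌋`, `m' = ⌊m/i⌋`, `t = (r−1)/i`. Then every element of `T` of order `r` fixes a member of Ω if and only if one of: (i) `r = 2`, `n ≡ 2 (mod 4)` and `q ≢ 1 (mod 8)`; (ii) `r ≠ p` odd, `i` odd, `c ≤ m` and `k > ℓ' > 0`; (iii) `r ≠ p` odd, `i` even, and either `k = 0` and `n/i` odd, or `i ≤ m` and `k > ℓ' > 0`. (For `r = p` there is always an element of order `p` fixing no member of Ω.) -/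
theorem result {F : Type*} [Field F] [Fintype F] {p : ℕ} [Fact p.Prime] [CharP F p] {q : ℕ} (hq : Fintype.card F = q)
    (hodd : Odd q) (d m : ℕ) (hd : 4 ≤ d) (hm : Odd m) (hmd : m < d)
    (W₀ : Submodule F (Fin d ⊕ Fin d → F)) (hW₀ : Module.finrank F ↥W₀ = m ∧ Cfsg.Geo.IsNondegenerateOn (QuadraticMap.polar (Cfsg.quadFormPlus d F)) W₀)
    (r : ℕ) [Fact r.Prime]
    (hrΩ : r ∣ Nat.card {W : Submodule F (Fin d ⊕ Fin d → F) // Module.finrank F ↥W = m ∧ Cfsg.Geo.IsNondegenerateOn (QuadraticMap.polar (Cfsg.quadFormPlus d F)) W ∧ Cfsg.Geo.AreIsometricFor (Cfsg.quadFormPlus d F) W W₀})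
    (i c : ℕ) (hi : i = orderOf (q : ZMod r)) (hc : c = if Even i then i else 2 * i) :
    (∀ x : GL (Fin d ⊕ Fin d) F, x ∈ Cfsg.Geo.omegaGL (Cfsg.quadFormPlus d F) →
      (∃ z : F, ((x ^ r : GL (Fin d ⊕ Fin d) F) : Matrix (Fin d ⊕ Fin d) (Fin d ⊕ Fin d) F) = z • (1 : Matrix (Fin d ⊕ Fin d) (Fin d ⊕ Fin d) F)) →
      (∀ z : F, (x : Matrix (Fin d ⊕ Fin d) (Fin d ⊕ Fin d) F) ≠ z • (1 : Matrix (Fin d ⊕ Fin d) (Fin d ⊕ Fin d) F)) →
      ∃ W : Submodule F (Fin d ⊕ Fin d → F), (Module.finrank F ↥W = m ∧ Cfsg.Geo.IsNondegenerateOn (QuadraticMap.polar (Cfsg.quadFormPlus d F)) W ∧ Cfsg.Geo.AreIsometricFor (Cfsg.quadFormPlus d F) W W₀) ∧ W.map (Matrix.toLin' (x : Matrix (Fin d ⊕ Fin d) (Fin d ⊕ Fin d) F)) ≤ W) ↔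
    ((r = 2 ∧ Odd d ∧ q % 8 ≠ 1) ∨
     (r ≠ p ∧ 2 < r ∧ Odd i ∧ c ≤ m ∧ 0 < m % c ∧ m % c < (2 * d) % c) ∨
     (r ≠ p ∧ 2 < r ∧ Even i ∧ (((2 * d) % c = 0 ∧ Odd ((2 * d) / i)) ∨ (i ≤ m ∧ 0 < m % c ∧ m % c < (2 * d) % c)))) := by
  subst hq
  have hp2 : p ≠ 2 := fun h => by
    have := FiniteField.even_card_of_char_two (F := F) ((ringChar.eq F p).trans h)
    exact Nat.not_even_iff_odd.mpr hodd (Nat.even_iff.mpr this)
  have h2 := CfsgLib.OrthIso.two_ne (F := F) hp2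
  have hQ' : Cfsg.quadFormPlus d F = ⇑(CfsgLib.Lagrangian.Qp d F) := funext fun v => (CfsgLib.Lagrangian.Qp_apply v).symm
  simp only [hQ'] at hW₀ hrΩ ⊢
  have hQ : CfsgLib.PrimeIso.ND (QuadraticMap.polarBilin (CfsgLib.Lagrangian.Qp d F)) (⊤ : Submodule F _) :=
    fun x _ hp => CfsgLib.Lagrangian.Qp_nondeg.1 x fun y => hp y trivial
  have hP : CfsgLib.OrthIso.Plus (CfsgLib.Lagrangian.Qp d F) (⊤ : Submodule F (Fin d ⊕ Fin d → F)) := by
    obtain ⟨U, hU, hUd⟩ := CfsgLib.FiniteForms.plus_exists_singular (F := F) d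
    exact ⟨U, le_top, fun u hu => (CfsgLib.Lagrangian.Qp_apply u).trans (hU u hu), by
      rw [hUd, finrank_top, Module.finrank_fintype_fun_eq_card]; simp; omega⟩
  have hcl := CfsgLib.OrthIso.iso_class_iff (CfsgLib.Lagrangian.Qp d F) hW₀
  simp only [hcl] at hrΩ ⊢
  rw [CfsgLib.OrthIso.even_odd_class (p := p) hp2 (CfsgLib.Lagrangian.Qp d F) hQ (by simp; omega) hd hm hmd
    ((CfsgLib.OrthIso.nd_on_iff _ _).mp hW₀.2) hW₀.1 hrΩ hi hc]
  have hF : Fintype.card F % 2 = 1 := Nat.odd_iff.mp hodd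
  rw [CfsgLib.OrthIso.isSquare_two_pow_iff hF d, FiniteField.isSquare_neg_one_iff]
  simp only [iff_true_intro hP, true_iff]
  rw [← Nat.not_even_iff_odd (n := d)]
  have hq4 : Fintype.card F % 4 = (Fintype.card F % 8) % 4 := by omega
  constructor
  · rintro (⟨h, hn⟩ | ⟨h1, h3, ⟨h4, h5⟩ | ⟨h4, h5, h6⟩⟩)
    · refine Or.inl ⟨h, fun he => hn ⟨Or.inl he, Or.inr he⟩, fun h8 => hn ⟨Or.inr (Or.inl h8), Or.inl ?_⟩⟩
      omega
    · push Not at h5
      obtain ⟨hio, hod⟩ := h5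
      have hie := Nat.not_odd_iff_even.mp hio
      rw [if_pos hie] at hc
      subst hc
      exact Or.inr (Or.inr ⟨h1, h3, hie, Or.inl ⟨h4, Nat.not_even_iff_odd.mp hod⟩⟩)
    · rcases Nat.even_or_odd i with hie | hio
      · rw [if_pos hie] at hc
        subst hc
        exact Or.inr (Or.inr ⟨h1, h3, hie, Or.inr ⟨h4, h5, h6⟩⟩)
      · exact Or.inr (Or.inl ⟨h1, h3, hio, h4, h5, h6⟩)
  · rintro (⟨h, hde, h8⟩ | ⟨h1, h3, -, h⟩ | ⟨h1, h3, hie, h⟩)
    · refine Or.inl ⟨h, ?_⟩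
      rintro ⟨he | ha, hb | he'⟩
      all_goals first | exact hde ‹Even d› | omega
    · exact Or.inr ⟨h1, h3, Or.inr h⟩
    · rw [if_pos hie] at hc
      subst hc
      rcases h with ⟨h4, h5⟩ | h
      · exact Or.inr ⟨h1, h3, Or.inl ⟨h4, not_or_intro (Nat.not_odd_iff_even.mpr hie) (Nat.not_even_iff_odd.mpr h5)⟩⟩
      · exact Or.inr ⟨h1, h3, Or.inr h⟩

end Cfsg.Agent.S5989
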