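import Cfsg.Statements.S5990
import Cfsg.Agent.Lib.OrthIso.NondegEvenBridge
import Cfsg.Agent.Lib.OrthIso.EvenOddBridge
import Cfsg.Agent.Lib.MaxSub.ElusiveNonsingular

set_option autoImplicit false
open scoped MatrixGroups
open Cfsg

namespace Cfsg.Agent.S5990

/-- Elements of prime order of PΩ⁻_n(q) with no fixed elliptic `m`-space. Here `T = PΩ⁻_n(F)`, `n = 2d ≥ 8`, realised through `Ω⁻_n(q)`, the commutator subgroup of the isometry group of `Q = Σ_{i<d−1} xᵢyᵢ + z₁² + a z₁z₂ + b z₂²` with `z₁² + a z₁z₂ + b z₂²` anisotropic, over the field `F` with `q` elements; an element of `T` of prime order `r` is an element `x` of `Ω⁻_n(q)` with `x^r` scalar and `x` not scalar; a nondegenerate `m`-space (even `m`) is a subspace on which the polar form of `Q` is nondegenerate; it is hyperbolic if it contains an `m/2`-dimensional subspace on which `Q` vanishes, elliptic otherwise. Let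 `m` be even with `2 ≤ m ≤ n − 2` (no restriction `m < n/2`: fixing an elliptic `m`-space is the same as fixing its hyperbolic orthogonal complement) and let `r` be a prime dividing the number of elliptic `m`-spaces, with `r = 2` or `r ≠ p`; for `r ≠ p` let `i` be the multiplicative order of `q` modulo `r`, `c = i` for `i` even and `c = 2i` for `i` odd, and write `k = n mod c`, `ℓ = m mod i`, `ℓ' = m mod c`, `n' = ⌊n/i⌋`, `m' = ⌊m/i⌋`, `t = (r−1)/i`. Then every element of `T` of order `r` fixes some elliptic `m`-space if and only if one of: (i) `r = p = 2` and (`n ≡ 0 (mod 4)` or `m ≡ 2 (mod 4)`); (ii) `r = 2 ≠ p` and (`n ≡ 0 (mod 4)`, or `q ≢ 7 (mod 8)`, or `m ≡ 2 (mod 4)`); (iii) `r ≠ p` odd, `i` odd, and `k = 0` or (`c ≤ m` and `k ≥ ℓ' > 0`); (iv) `r ≠ p` odd, `i` even, and either `k = 0` and (`n/i` even, or `ℓ' = 0` and `m/i` odd), or `k > 0`, `i ≤ m` and (`k > ℓ' > 0`,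 or `ℓ' = 0` and `m/i` odd, or `k = ℓ'` and `(n + m − 2k)/i` even). (Odd `r = p` is not covered by this statement.) -/
theorem result {F : Type*} [Field F] [Fintype F] {p : ℕ} [Fact p.Prime] [CharP F p] {q : ℕ} (hq : Fintype.card F = q)
    (d m : ℕ) (hd : 4 ≤ d) (hm : 2 ≤ m) (hme : Even m) (hmn : m + 2 ≤ 2 * d) (a b : F) (hab : ∀ x y : F, x ^ 2 + a * x * y + b * y ^ 2 = 0 → x = 0 ∧ y = 0)
    (r : ℕ) [Fact r.Prime] (hr : r = 2 ∨ r ≠ p)
    (hrΩ : r ∣ Nat.card {W : Submodule F ((Fin (d - 1) ⊕ Fin (d - 1)) ⊕ Fin 2 → F) // Module.finrank F ↥W = m ∧ Cfsg.Geo.IsNondegenerateOn (QuadraticMap.polar (Cfsg.quadFormMinus (d - 1) F a b)) W ∧ ¬ Cfsg.Geo.IsPlusTypeOn (Cfsg.quadFormMinus (d - 1) F a b) W})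
    (i c : ℕ) (hi : i = orderOf (q : ZMod r)) (hc : c = if Even i then i else 2 * i) :
    (∀ x : GL ((Fin (d - 1) ⊕ Fin (d - 1)) ⊕ Fin 2) F, x ∈ Cfsg.Geo.omegaGL (Cfsg.quadFormMinus (d - 1) F a b) →
      (∃ z : F, ((x ^ r : GL ((Fin (d - 1) ⊕ Fin (d - 1)) ⊕ Fin 2) F) : Matrix ((Fin (d - 1) ⊕ Fin (d - 1)) ⊕ Fin 2) ((Fin (d - 1) ⊕ Fin (d - 1)) ⊕ Fin 2) F) = z • (1 : Matrix ((Fin (d - 1) ⊕ Fin (d - 1)) ⊕ Fin 2) ((Fin (d - 1) ⊕ Fin (d - 1)) ⊕ Fin 2) F)) →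
      (∀ z : F, (x : Matrix ((Fin (d - 1) ⊕ Fin (d - 1)) ⊕ Fin 2) ((Fin (d - 1) ⊕ Fin (d - 1)) ⊕ Fin 2) F) ≠ z • (1 : Matrix ((Fin (d - 1) ⊕ Fin (d - 1)) ⊕ Fin 2) ((Fin (d - 1) ⊕ Fin (d - 1)) ⊕ Fin 2) F)) →
      ∃ W : Submodule F ((Fin (d - 1) ⊕ Fin (d - 1)) ⊕ Fin 2 → F), (Module.finrank F ↥W = m ∧ Cfsg.Geo.IsNondegenerateOn (QuadraticMap.polar (Cfsg.quadFormMinus (d - 1) F a b)) W ∧ ¬ Cfsg.Geo.IsPlusTypeOn (Cfsg.quadFormMinus (d - 1) F a b) W) ∧ W.map (Matrix.toLin' (x : Matrix ((Fin (d - 1) ⊕ Fin (d - 1)) ⊕ Fin 2) ((Fin (d - 1) ⊕ Fin (d - 1)) ⊕ Fin 2) F)) ≤ W) ↔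
    ((r = 2 ∧ p = 2 ∧ (Even d ∨ m % 4 = 2)) ∨
     (r = 2 ∧ p ≠ 2 ∧ (Even d ∨ q % 8 ≠ 7 ∨ m % 4 = 2)) ∨
     (r ≠ p ∧ 2 < r ∧ Odd i ∧ ((2 * d) % c = 0 ∨ (c ≤ m ∧ 0 < m % c ∧ m % c ≤ (2 * d) % c))) ∨
     (r ≠ p ∧ 2 < r ∧ Even i ∧
       (((2 * d) % c = 0 ∧ (Even ((2 * d) / i) ∨ (m % c = 0 ∧ Odd (m / i)))) ∨
        (0 < (2 * d) % c ∧ i ≤ m ∧ ((0 < m % c ∧ m % c < (2 * d) % c) ∨ (m % c = 0 ∧ Odd (m / i)) ∨
                                    (m % c = (2 * d) % c ∧ Even ((2 * d + m - 2 * ((2 * d) % c)) / i))))))) := by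
  subst hq
  have hQ' : Cfsg.quadFormMinus (d - 1) F a b = ⇑(CfsgLib.StdQuadForms.Qm (d - 1) a b) := funext fun v => (CfsgLib.StdQuadForms.Qm_apply _ _ _ v).symm
  have hΩ : p = 2 → ∀ x : GL ((Fin (d - 1) ⊕ Fin (d - 1)) ⊕ Fin 2) F, x ∈ Cfsg.isometryGroup F ⇑(CfsgLib.StdQuadForms.Qm (d - 1) a b) →
      (x ∈ Cfsg.Geo.omegaGL ⇑(CfsgLib.StdQuadForms.Qm (d - 1) a b) ↔ Even ((x : Matrix ((Fin (d - 1) ⊕ Fin (d - 1)) ⊕ Fin 2) ((Fin (d - 1) ⊕ Fin (d - 1)) ⊕ Fin 2) F) - 1).rank) := by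
    rintro rfl x hx
    rw [← hQ'] at hx ⊢
    rw [← CfsgLib.MaxSub.Nonsingular.minus_omega_iff hab ⟨x, hx⟩]
    exact ⟨fun ⟨g, hg, hgx⟩ => (Subtype.ext hgx : g = ⟨x, hx⟩) ▸ hg, fun h => ⟨⟨x, hx⟩, h, rfl⟩⟩
  simp only [hQ'] at hrΩ ⊢
  have hQ : CfsgLib.PrimeIso.ND (QuadraticMap.polarBilin (CfsgLib.StdQuadForms.Qm (d - 1) a b)) (⊤ : Submodule F _) :=
    fun x _ hp => (CfsgLib.StdQuadForms.Qm_nondeg (d - 1) hab).1 x fun y => hp y trivial
  have hP : ¬ CfsgLib.OrthIso.Plus (CfsgLib.StdQuadForms.Qm (d - 1) a b)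
      (⊤ : Submodule F ((Fin (d - 1) ⊕ Fin (d - 1)) ⊕ Fin 2 → F)) := by
    rintro ⟨U, -, hU, hUd⟩
    have h1 := CfsgLib.FiniteForms.minus_totally_singular_le hab U fun u hu =>
      (CfsgLib.StdQuadForms.Qm_apply _ _ _ u).symm.trans (hU u hu)
    rw [finrank_top, Module.finrank_fintype_fun_eq_card] at hUd
    simp at hUd
    omega
  have hcl : ∀ W : Submodule F ((Fin (d - 1) ⊕ Fin (d - 1)) ⊕ Fin 2 → F),
      (Module.finrank F ↥W = m ∧ Cfsg.Geo.IsNondegenerateOn (QuadraticMap.polar ⇑(CfsgLib.StdQuadForms.Qm (d - 1) a b)) W ∧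
        ¬ Cfsg.Geo.IsPlusTypeOn (⇑(CfsgLib.StdQuadForms.Qm (d - 1) a b)) W) ↔
      (Module.finrank F ↥W = m ∧ CfsgLib.PrimeIso.ND (QuadraticMap.polarBilin (CfsgLib.StdQuadForms.Qm (d - 1) a b)) W ∧
        (CfsgLib.OrthIso.Plus (CfsgLib.StdQuadForms.Qm (d - 1) a b) W ↔ False)) := fun W => by
    simp only [iff_false]
    rw [CfsgLib.OrthIso.nd_on_iff]
    rfl
  simp only [hcl] at hrΩ ⊢
  rw [CfsgLib.OrthIso.even_nd_class (p := p) (CfsgLib.StdQuadForms.Qm (d - 1) a b) hQ (by simp; omega) hd hm hme hmn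
    False False.elim (hr.imp_right Or.inl) hΩ hrΩ hi hc]
  simp only [iff_false_intro hP, false_iff, iff_false, not_not, not_false_eq_true, false_implies, true_implies, true_and]
  rw [FiniteField.isSquare_neg_one_iff]
  have hqp : p ≠ 2 → Fintype.card F % 2 = 1 := fun h2 => FiniteField.odd_card_of_char_ne_two fun e => h2 ((ringChar.eq F p).symm.trans e)
  have hm2 : Even (m / 2) ↔ m % 4 = 0 := by rw [Nat.even_iff]; have := Nat.even_iff.mp hme; omega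
  have hm4 : m % 4 = 0 ∨ m % 4 = 2 := by have := Nat.even_iff.mp hme; omega
  have hdd : Even i → c = i → m % c = (2 * d) % c →
      (2 * d + m - 2 * ((2 * d) % c)) / i = 2 * d / i + m / i := fun _ hcj hmk => by
    rw [hcj] at hmk ⊢
    rcases Nat.eq_zero_or_pos i with h0 | h0
    · rw [h0]; simp
    have h1 := Nat.div_add_mod' m i
    have h2 := Nat.div_add_mod' (2 * d) i
    rw [show 2 * d + m - 2 * ((2 * d) % i) = (2 * d / i + m / i) * i by rw [add_mul]; omega, Nat.mul_div_cancel _ h0]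
  simp only [← Nat.not_even_iff_odd (n := m / 2), hm2, not_or, not_not]
  constructor
  · rintro (⟨h1, h2, h3⟩ | ⟨h1, h2, h3⟩ | ⟨h1, h2, h3⟩)
    · refine Or.inl ⟨h1, h2, h3.imp_right fun h => ?_⟩
      omega
    · refine Or.inr (Or.inl ⟨h1, h2, ?_⟩)
      have := hqp h2
      by_contra hcon
      push Not at hcon
      rcases h3 with h3 | h3
      · exact h3 ⟨(CfsgLib.OrthIso.isSquare_two_pow_iff this d).mpr (Or.inr (Or.inr hcon.2.1)), by omega, hcon.1⟩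
      · omega
    · rcases Nat.even_or_odd i with he | ho
      · rw [if_pos he] at hc
        refine Or.inr (Or.inr (Or.inr ⟨h1, h2, he, ?_⟩))
        simp only [Nat.not_odd_iff_even.mpr he, not_false_eq_true, true_and, false_or] at h3
        subst hc
        rcases Nat.eq_zero_or_pos (2 * d % c) with h7 | h7
        · rcases h3 with ⟨h4, h5⟩ | ⟨h4, ⟨h5, h6 | ⟨h6, -⟩⟩ | ⟨h5, h6⟩⟩
          · exact Or.inl ⟨h4, Or.inl h5⟩
          · omega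
          · omega
          · exact Or.inl ⟨h7, Or.inr ⟨h5, Nat.not_even_iff_odd.mp h6⟩⟩
        · rcases h3 with ⟨h4, h5⟩ | ⟨h4, ⟨h5, h6 | ⟨h6, h8⟩⟩ | ⟨h5, h6⟩⟩
          · omega
          · exact Or.inr ⟨h7, h4, Or.inl ⟨h5, h6⟩⟩
          · exact Or.inr ⟨h7, h4, Or.inr (Or.inr ⟨h6, by rw [hdd he rfl h6, Nat.even_add]; tauto⟩)⟩
          · exact Or.inr ⟨h7, h4, Or.inr (Or.inl ⟨h5, Nat.not_even_iff_odd.mp h6⟩)⟩
      · simp only [ho, true_or, not_true, not_false_eq_true, false_and, and_false, and_true, false_iff, iff_true, or_false] at h3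
        refine Or.inr (Or.inr (Or.inl ⟨h1, h2, ho, h3.imp_right fun h => ⟨h.1, h.2.1, ?_⟩⟩))
        omega
  · rintro (⟨h1, h2, h3⟩ | ⟨h1, h2, h3⟩ | ⟨h1, h2, ho, h3⟩ | ⟨h1, h2, he, h3⟩)
    · exact Or.inl ⟨h1, h2, h3.imp_right fun h => by omega⟩
    · refine Or.inr (Or.inl ⟨h1, h2, ?_⟩)
      have := hqp h2
      rcases h3 with h3 | h3 | h3
      · exact Or.inl fun h => h.2.2 h3
      · by_cases h5 : Fintype.card F % 4 = 3
        · refine Or.inl fun ⟨h6, _, h7⟩ => ?_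
          rcases (CfsgLib.OrthIso.isSquare_two_pow_iff this d).mp h6 with h8 | h8
          · exact h7 h8
          · omega
        · exact Or.inl fun h => h5 h.2.1
      · by_cases h5 : Fintype.card F % 4 = 3
        · exact Or.inr ⟨h5, by omega⟩
        · exact Or.inl fun h => h5 h.2.1
    · simp only [ho, true_or, not_true, not_false_eq_true, false_and, and_false, and_true, false_iff, iff_true, or_false]
      exact Or.inr (Or.inr ⟨h1, h2, h3.imp_right fun h => ⟨h.1, h.2.1, by omega⟩⟩)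
    · refine Or.inr (Or.inr ⟨h1, h2, ?_⟩)
      simp only [Nat.not_odd_iff_even.mpr he, not_false_eq_true, true_and, false_or]
      rw [if_pos he] at hc
      subst hc
      rcases h3 with ⟨h4, h5 | ⟨h5, h6⟩⟩ | ⟨h7, h4, ⟨h5, h6⟩ | ⟨h5, h6⟩ | ⟨h5, h6⟩⟩
      · exact Or.inl ⟨h4, h5⟩
      · exact Or.inr ⟨Nat.le_of_dvd (by omega) (Nat.dvd_of_mod_eq_zero h5), Or.inr ⟨h5, Nat.not_even_iff_odd.mpr h6⟩⟩
      · exact Or.inr ⟨h4, Or.inl ⟨h5, Or.inl h6⟩⟩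
      · exact Or.inr ⟨h4, Or.inr ⟨h5, Nat.not_even_iff_odd.mpr h6⟩⟩
      · rw [hdd he rfl h5, Nat.even_add] at h6
        refine Or.inr ⟨h4, Or.inl ⟨h5 ▸ h7, Or.inr ⟨h5, ?_⟩⟩⟩
        clear hΩ hrΩ hcl
        by_cases ha : Even (2 * d / c) <;> by_cases hb : Even (m / c) <;> simp [ha, hb] at h6 ⊢

end Cfsg.Agent.S5990
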