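import Cfsg.Statements.S5991
import Cfsg.Agent.Lib.OrthIso.EvenOddBridge
-- import your own Cfsg.Agent.* helpers here

set_option autoImplicit false
open scoped MatrixGroups
open Cfsg

namespace Cfsg.Agent.S5991

/-- Elements of prime order of PΩ⁻_n(q), q odd, with no fixed nondegenerate `m`-space of odd dimension. Here `T = PΩ⁻_n(F)`, `n = 2d ≥ 8`, realised through `Ω⁻_n(q)`, the commutator subgroup of the isometry group of `Q = Σ_{i<d−1} xᵢyᵢ + z₁² + a z₁z₂ + b z₂²` with `z₁² + a z₁z₂ + b z₂²` anisotropic, over the field `F` with `q` elements; an element of `T` of prime order `r` is an element `x` of `Ω⁻_n(q)` with `x^r` scalar and `x` not scalar; `q` and `m` are odd, `1 ≤ m < n/2`. The nondegenerate `m`-spaces fall into two isometry classes, each an orbit of `T`, with equivalent actions; fix one such space `W₀` and let Ω be the set of nondegenerate `m`-spaces isometric to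 `W₀`. Let `r` be a prime dividing the size of Ω; for `r ≠ p` let `i` be the multiplicative order of `q` modulo `r`, `c = i` for `i` even and `c = 2i` for `i` odd, and write `k = n mod c`, `ℓ = m mod i`, `ℓ' = m mod c`, `n' = ⌊n/i⌋`, `m' = ⌊m/i⌋`, `t = (r−1)/i`. Then every element of `T` of order `r` fixes a member of Ω if and only if one of: (i) `r = 2` and (`n ≡ 0 (mod 4)` or `q ≢ 7 (mod 8)`); (ii) `r ≠ p` odd, `i` odd, and `k = 0` or (`c ≤ m` and `k > ℓ' > 0`); (iii) `r ≠ p` odd, `i` even, and either `k = 0` and `n/i` even, or `k > 0`, `i ≤ m` and `k > ℓ' > 0`. (For `r = p` there is always an element of order `p` fixing no member of Ω.) -/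
theorem result {F : Type*} [Field F] [Fintype F] {p : ℕ} [Fact p.Prime] [CharP F p] {q : ℕ} (hq : Fintype.card F = q)
    (hodd : Odd q) (d m : ℕ) (hd : 4 ≤ d) (hm : Odd m) (hmd : m < d) (a b : F) (hab : ∀ x y : F, x ^ 2 + a * x * y + b * y ^ 2 = 0 → x = 0 ∧ y = 0)
    (W₀ : Submodule F ((Fin (d - 1) ⊕ Fin (d - 1)) ⊕ Fin 2 → F)) (hW₀ : Module.finrank F ↥W₀ = m ∧ Cfsg.Geo.IsNondegenerateOn (QuadraticMap.polar (Cfsg.quadFormMinus (d - 1) F a b)) W₀)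
    (r : ℕ) [Fact r.Prime]
    (hrΩ : r ∣ Nat.card {W : Submodule F ((Fin (d - 1) ⊕ Fin (d - 1)) ⊕ Fin 2 → F) // Module.finrank F ↥W = m ∧ Cfsg.Geo.IsNondegenerateOn (QuadraticMap.polar (Cfsg.quadFormMinus (d - 1) F a b)) W ∧ Cfsg.Geo.AreIsometricFor (Cfsg.quadFormMinus (d - 1) F a b) W W₀})
    (i c : ℕ) (hi : i = orderOf (q : ZMod r)) (hc : c = if Even i then i else 2 * i) :
    (∀ x : GL ((Fin (d - 1) ⊕ Fin (d - 1)) ⊕ Fin 2) F, x ∈ Cfsg.Geo.omegaGL (Cfsg.quadFormMinus (d - 1) F a b) →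
      (∃ z : F, ((x ^ r : GL ((Fin (d - 1) ⊕ Fin (d - 1)) ⊕ Fin 2) F) : Matrix ((Fin (d - 1) ⊕ Fin (d - 1)) ⊕ Fin 2) ((Fin (d - 1) ⊕ Fin (d - 1)) ⊕ Fin 2) F) = z • (1 : Matrix ((Fin (d - 1) ⊕ Fin (d - 1)) ⊕ Fin 2) ((Fin (d - 1) ⊕ Fin (d - 1)) ⊕ Fin 2) F)) →
      (∀ z : F, (x : Matrix ((Fin (d - 1) ⊕ Fin (d - 1)) ⊕ Fin 2) ((Fin (d - 1) ⊕ Fin (d - 1)) ⊕ Fin 2) F) ≠ z • (1 : Matrix ((Fin (d - 1) ⊕ Fin (d - 1)) ⊕ Fin 2) ((Fin (d - 1) ⊕ Fin (d - 1)) ⊕ Fin 2) F)) →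
      ∃ W : Submodule F ((Fin (d - 1) ⊕ Fin (d - 1)) ⊕ Fin 2 → F), (Module.finrank F ↥W = m ∧ Cfsg.Geo.IsNondegenerateOn (QuadraticMap.polar (Cfsg.quadFormMinus (d - 1) F a b)) W ∧ Cfsg.Geo.AreIsometricFor (Cfsg.quadFormMinus (d - 1) F a b) W W₀) ∧ W.map (Matrix.toLin' (x : Matrix ((Fin (d - 1) ⊕ Fin (d - 1)) ⊕ Fin 2) ((Fin (d - 1) ⊕ Fin (d - 1)) ⊕ Fin 2) F)) ≤ W) ↔
    ((r = 2 ∧ (Even d ∨ q % 8 ≠ 7)) ∨
     (r ≠ p ∧ 2 < r ∧ Odd i ∧ ((2 * d) % c = 0 ∨ (c ≤ m ∧ 0 < m % c ∧ m % c < (2 * d) % c))) ∨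
     (r ≠ p ∧ 2 < r ∧ Even i ∧ (((2 * d) % c = 0 ∧ Even ((2 * d) / i)) ∨ (0 < (2 * d) % c ∧ i ≤ m ∧ 0 < m % c ∧ m % c < (2 * d) % c)))) := by
  subst hq
  have hp2 : p ≠ 2 := fun h => by
    have := FiniteField.even_card_of_char_two (F := F) ((ringChar.eq F p).trans h)
    exact Nat.not_even_iff_odd.mpr hodd (Nat.even_iff.mpr this)
  have h2 := CfsgLib.OrthIso.two_ne (F := F) hp2
  have hQ' : Cfsg.quadFormMinus (d - 1) F a b = ⇑(CfsgLib.StdQuadForms.Qm (d - 1) a b) := funext fun v => (CfsgLib.StdQuadForms.Qm_apply _ _ _ v).symm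
  simp only [hQ'] at hW₀ hrΩ ⊢
  have hQ : CfsgLib.PrimeIso.ND (QuadraticMap.polarBilin (CfsgLib.StdQuadForms.Qm (d - 1) a b)) (⊤ : Submodule F _) :=
    fun x _ hp => (CfsgLib.StdQuadForms.Qm_nondeg (d - 1) hab).1 x fun y => hp y trivial
  have hP : ¬ CfsgLib.OrthIso.Plus (CfsgLib.StdQuadForms.Qm (d - 1) a b)
      (⊤ : Submodule F ((Fin (d - 1) ⊕ Fin (d - 1)) ⊕ Fin 2 → F)) := by
    rintro ⟨U, -, hU, hUd⟩
    have h1 := CfsgLib.FiniteForms.minus_totally_singular_le hab U fun u hu =>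
      (CfsgLib.StdQuadForms.Qm_apply _ _ _ u).symm.trans (hU u hu)
    rw [finrank_top, Module.finrank_fintype_fun_eq_card] at hUd
    simp at hUd
    omega
  have hcl := CfsgLib.OrthIso.iso_class_iff (CfsgLib.StdQuadForms.Qm (d - 1) a b) hW₀
  simp only [hcl] at hrΩ ⊢
  rw [CfsgLib.OrthIso.even_odd_class (p := p) hp2 (CfsgLib.StdQuadForms.Qm (d - 1) a b) hQ (by simp; omega) hd hm hmd
    ((CfsgLib.OrthIso.nd_on_iff _ _).mp hW₀.2) hW₀.1 hrΩ hi hc]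
  have hF : Fintype.card F % 2 = 1 := Nat.odd_iff.mp hodd
  rw [CfsgLib.OrthIso.isSquare_two_pow_iff hF d, FiniteField.isSquare_neg_one_iff]
  simp only [iff_false_intro hP, false_iff, not_or, not_not]
  have hq4 : Fintype.card F % 4 = (Fintype.card F % 8) % 4 := by omega
  constructor
  · rintro (⟨h, hn⟩ | ⟨h1, h3, ⟨h4, h5⟩ | ⟨h4, h5, h6⟩⟩)
    · refine Or.inl ⟨h, ?_⟩
      by_contra hc'
      push Not at hc'
      exact hn ⟨Or.inr (Or.inr hc'.2), by omega, hc'.1⟩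
    · rcases Nat.even_or_odd i with hie | hio
      · rw [if_pos hie] at hc
        subst hc
        exact Or.inr (Or.inr ⟨h1, h3, hie, Or.inl ⟨h4, not_not.mp fun hh => h5 ⟨Nat.not_odd_iff_even.mpr hie, hh⟩⟩⟩)
      · exact Or.inr (Or.inl ⟨h1, h3, hio, Or.inl h4⟩)
    · rcases Nat.even_or_odd i with hie | hio
      · rw [if_pos hie] at hc
        subst hc
        exact Or.inr (Or.inr ⟨h1, h3, hie, Or.inr ⟨by omega, h4, h5, h6⟩⟩)
      · exact Or.inr (Or.inl ⟨h1, h3, hio, Or.inr ⟨h4, h5, h6⟩⟩)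
  · rintro (⟨h, h8⟩ | ⟨h1, h3, hio, h⟩ | ⟨h1, h3, hie, h⟩)
    · refine Or.inl ⟨h, ?_⟩
      rintro ⟨ha, hb, hde⟩
      rcases h8 with h8 | h8
      · exact hde h8
      · rcases ha with ha | ha
        · exact hde ha
        · omega
    · rcases h with h | h
      · exact Or.inr ⟨h1, h3, Or.inl ⟨h, fun hh => hh.1 hio⟩⟩
      · exact Or.inr ⟨h1, h3, Or.inr h⟩
    · rw [if_pos hie] at hc
      subst hc
      rcases h with ⟨h4, h5⟩ | ⟨-, h⟩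
      · exact Or.inr ⟨h1, h3, Or.inl ⟨h4, fun hh => hh.2 h5⟩⟩
      · exact Or.inr ⟨h1, h3, Or.inr h⟩

end Cfsg.Agent.S5991
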