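import Cfsg.Statements.S5992
import Cfsg.Agent.Lib.OrthIso.Bridge
-- import your own Cfsg.Agent.* helpers here

set_option autoImplicit false
open scoped MatrixGroups
open Cfsg

namespace Cfsg.Agent.S5992

/-- Elements of prime order r ≠ p of Ω_n(q), nq odd, with no fixed hyperbolic `m`-space. Here `T = Ω_n(F)`, `n = 2d+1 ≥ 7`, `q` odd, realised as the commutator subgroup of the isometry group of `Q = x₀² + Σ xᵢyᵢ` over the field `F` with `q` elements (trivial centre, so its elements of prime order `r` are used directly); a nondegenerate `m`-space (even `m`) is a subspace on which the polar form of `Q` is nondegenerate; it is hyperbolic if it contains an `m/2`-dimensional subspace on which `Q` vanishes, elliptic otherwise. Let `m` be even with `2 ≤ m ≤ n − 1` (no restriction `m < n/2`) and let `r ≠ p` be a prime dividing the number of hyperbolic `m`-spaces; for `r ≠ p` let `i` be the multiplicative order of `q` modulo `r`, `c = i` for `i` even and `c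 = 2i` for `i` odd, and write `k = n mod c`, `ℓ' = m mod c`. Then every element of `T` of order `r` fixes some hyperbolic `m`-space if and only if `r = 2`, or `r` is odd and one of: (i) `i` odd, `c ≤ m` and either `k > ℓ' > 0` or `ℓ' = 0`; (ii) `i` even, `i ≤ m`, `k > ℓ'`, and `m/i` even whenever `ℓ' = 0`. (`r = p` is not covered by this statement.) -/
theorem result {F : Type*} [Field F] [Fintype F] {p : ℕ} [Fact p.Prime] [CharP F p] {q : ℕ} (hq : Fintype.card F = q) (hqodd : Odd q)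
    (d m : ℕ) (hd : 3 ≤ d) (hm : 2 ≤ m) (hme : Even m) (hmn : m ≤ 2 * d)
    (r : ℕ) [Fact r.Prime] (hrp : r ≠ p)
    (hrΩ : r ∣ Nat.card {W : Submodule F (Unit ⊕ (Fin d ⊕ Fin d) → F) // Module.finrank F ↥W = m ∧ Cfsg.Geo.IsNondegenerateOn (QuadraticMap.polar (Cfsg.quadFormOdd d F)) W ∧ Cfsg.Geo.IsPlusTypeOn (Cfsg.quadFormOdd d F) W})
    (i c : ℕ) (hi : i = orderOf (q : ZMod r)) (hc : c = if Even i then i else 2 * i) :
    (∀ x : GL (Unit ⊕ (Fin d ⊕ Fin d)) F, x ∈ Cfsg.Geo.omegaGL (Cfsg.quadFormOdd d F) → orderOf x = r →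
      ∃ W : Submodule F (Unit ⊕ (Fin d ⊕ Fin d) → F), (Module.finrank F ↥W = m ∧ Cfsg.Geo.IsNondegenerateOn (QuadraticMap.polar (Cfsg.quadFormOdd d F)) W ∧ Cfsg.Geo.IsPlusTypeOn (Cfsg.quadFormOdd d F) W) ∧ W.map (Matrix.toLin' (x : Matrix (Unit ⊕ (Fin d ⊕ Fin d)) (Unit ⊕ (Fin d ⊕ Fin d)) F)) ≤ W) ↔
    (r = 2 ∨
     (2 < r ∧ Odd i ∧ c ≤ m ∧ (m % c = 0 ∨ (0 < m % c ∧ m % c < (2 * d + 1) % c))) ∨
     (2 < r ∧ Even i ∧ i ≤ m ∧ m % c < (2 * d + 1) % c ∧ (0 < m % c ∨ Even (m / i)))) := by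
  subst hq
  have hp2 : p ≠ 2 := fun h => by
    have := FiniteField.even_card_of_char_two (F := F) ((ringChar.eq F p).trans h)
    exact Nat.not_even_iff_odd.mpr hqodd (Nat.even_iff.mpr this)
  rw [CfsgLib.OrthIso.odd_nondeg (p := p) hp2 hd hm hme hmn hi hc True
    (P' := fun W => Cfsg.Geo.IsPlusTypeOn (Cfsg.quadFormOdd d F) W) (fun W => (iff_true _).symm.to_iff) hrΩ]
  obtain ⟨hcpos, hce⟩ := CfsgLib.OrthIso.block_pos (F := F) hrp hi hc
  have hk : 0 < (2 * d + 1) % c := by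
    obtain ⟨z, hz⟩ := hce.mul_left ((2 * d + 1) / c)
    have := Nat.div_add_mod' (2 * d + 1) c
    omega
  have hci : Even i → c = i := fun he => by rw [hc, if_pos he]
  constructor
  · rintro (h | ⟨h, -⟩ | ⟨-, h2, h3, h4, h5⟩)
    · exact Or.inl h
    · exact absurd h hrp
    · rcases Nat.even_or_odd i with he | ho
      · refine Or.inr (Or.inr ⟨h2, he, hci he ▸ h3, h4, h5.imp_right fun h => ?_⟩)
        exact hci he ▸ (h.mp trivial).resolve_left (Nat.not_odd_iff_even.mpr he)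
      · refine Or.inr (Or.inl ⟨h2, ho, h3, ?_⟩)
        rcases Nat.eq_zero_or_pos (m % c) with h0 | h0
        · exact Or.inl h0
        · exact Or.inr ⟨h0, h4⟩
  · rintro (h | ⟨h2, ho, h3, h4⟩ | ⟨h2, he, h3, h4, h5⟩)
    · exact Or.inl h
    · refine Or.inr (Or.inr ⟨hrp, h2, h3, ?_, Or.inr (iff_of_true trivial (Or.inl ho))⟩)
      rcases h4 with h4 | ⟨-, h4⟩
      · rwa [h4]
      · exact h4
    · have h3' : c ≤ m := by rw [hci he]; exact h3
      refine Or.inr (Or.inr ⟨hrp, h2, h3', h4, h5.imp_right fun h => iff_of_true trivial (Or.inr ?_)⟩)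
      rwa [hci he]

end Cfsg.Agent.S5992
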