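import Cfsg.Statements.S5993
import Cfsg.Agent.Lib.OrthIso.Bridge
-- import your own Cfsg.Agent.* helpers here

set_option autoImplicit false
open scoped MatrixGroups
open Cfsg

namespace Cfsg.Agent.S5993

/-- Elements of prime order of Ω_n(q), nq odd, with no fixed elliptic `m`-space. Here `T = Ω_n(F)`, `n = 2d+1 ≥ 7`, `q` odd, realised as the commutator subgroup of the isometry group of `Q = x₀² + Σ xᵢyᵢ` over the field `F` with `q` elements (trivial centre, so its elements of prime order `r` are used directly); a nondegenerate `m`-space (even `m`) is a subspace on which the polar form of `Q` is nondegenerate; it is hyperbolic if it contains an `m/2`-dimensional subspace on which `Q` vanishes, elliptic otherwise. Let `m` be even with `2 ≤ m ≤ n − 1` (no restriction `m < n/2`) and let `r` be a prime dividing the number of elliptic `m`-spaces; for `r ≠ p` let `i` be the multiplicative order of `q` modulo `r`, `c = i` for `i` even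 and `c = 2i` for `i` odd, and write `k = n mod c`, `ℓ' = m mod c`. Then every element of `T` of order `r` fixes some elliptic `m`-space if and only if `r = 2`, or `r ≠ p` is odd and one of: (i) `i` odd, `c ≤ m` and `k > ℓ' > 0`; (ii) `i` even, `i ≤ m`, `k > ℓ'`, and `m/i` odd whenever `ℓ' = 0`. (For `r = p` there is always an element of order `p` fixing no elliptic `m`-space.) -/
theorem result {F : Type*} [Field F] [Fintype F] {p : ℕ} [Fact p.Prime] [CharP F p] {q : ℕ} (hq : Fintype.card F = q) (hqodd : Odd q)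
    (d m : ℕ) (hd : 3 ≤ d) (hm : 2 ≤ m) (hme : Even m) (hmn : m ≤ 2 * d)
    (r : ℕ) [Fact r.Prime]
    (hrΩ : r ∣ Nat.card {W : Submodule F (Unit ⊕ (Fin d ⊕ Fin d) → F) // Module.finrank F ↥W = m ∧ Cfsg.Geo.IsNondegenerateOn (QuadraticMap.polar (Cfsg.quadFormOdd d F)) W ∧ ¬ Cfsg.Geo.IsPlusTypeOn (Cfsg.quadFormOdd d F) W})
    (i c : ℕ) (hi : i = orderOf (q : ZMod r)) (hc : c = if Even i then i else 2 * i) :
    (∀ x : GL (Unit ⊕ (Fin d ⊕ Fin d)) F, x ∈ Cfsg.Geo.omegaGL (Cfsg.quadFormOdd d F) → orderOf x = r →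
      ∃ W : Submodule F (Unit ⊕ (Fin d ⊕ Fin d) → F), (Module.finrank F ↥W = m ∧ Cfsg.Geo.IsNondegenerateOn (QuadraticMap.polar (Cfsg.quadFormOdd d F)) W ∧ ¬ Cfsg.Geo.IsPlusTypeOn (Cfsg.quadFormOdd d F) W) ∧ W.map (Matrix.toLin' (x : Matrix (Unit ⊕ (Fin d ⊕ Fin d)) (Unit ⊕ (Fin d ⊕ Fin d)) F)) ≤ W) ↔
    (r = 2 ∨
     (r ≠ p ∧ 2 < r ∧ Odd i ∧ c ≤ m ∧ 0 < m % c ∧ m % c < (2 * d + 1) % c) ∨
     (r ≠ p ∧ 2 < r ∧ Even i ∧ i ≤ m ∧ m % c < (2 * d + 1) % c ∧ (0 < m % c ∨ Odd (m / i)))) := by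
  subst hq
  have hp2 : p ≠ 2 := fun h => by
    have := FiniteField.even_card_of_char_two (F := F) ((ringChar.eq F p).trans h)
    exact Nat.not_even_iff_odd.mpr hqodd (Nat.even_iff.mpr this)
  rw [CfsgLib.OrthIso.odd_nondeg (p := p) hp2 hd hm hme hmn hi hc False
    (P' := fun W => ¬ Cfsg.Geo.IsPlusTypeOn (Cfsg.quadFormOdd d F) W) (fun W => (iff_false _).symm.to_iff) hrΩ]
  have key : c ≤ m → ((0 < m % c ∨ (False ↔ (Odd i ∨ Even (m / c)))) ↔
      ((Odd i ∧ 0 < m % c) ∨ (Even i ∧ (0 < m % c ∨ Odd (m / i))))) := by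
    intro _
    rcases Nat.even_or_odd i with he | ho
    · rw [if_pos he] at hc
      subst hc
      simp [he, Nat.not_odd_iff_even.mpr he]
    · simp [ho, Nat.not_even_iff_odd.mpr ho]
  have hci : Even i → c = i := fun he => by rw [hc, if_pos he]
  constructor
  · rintro (h | ⟨-, -, h, -⟩ | ⟨h1, h2, h3, h4, h5⟩)
    · exact Or.inl h
    · exact h.elim
    · rcases (key h3).mp h5 with ⟨ho, h6⟩ | ⟨he, h6⟩
      · exact Or.inr (Or.inl ⟨h1, h2, ho, h3, h6, h4⟩)
      · exact Or.inr (Or.inr ⟨h1, h2, he, hci he ▸ h3, h4, h6⟩)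
  · rintro (h | ⟨h1, h2, ho, h3, h6, h4⟩ | ⟨h1, h2, he, h3, h4, h6⟩)
    · exact Or.inl h
    · exact Or.inr (Or.inr ⟨h1, h2, h3, h4, (key h3).mpr (Or.inl ⟨ho, h6⟩)⟩)
    · have h3' : c ≤ m := by rw [hci he]; exact h3
      exact Or.inr (Or.inr ⟨h1, h2, h3', h4, (key h3').mpr (Or.inr ⟨he, h6⟩)⟩)

end Cfsg.Agent.S5993
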