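import Cfsg.Statements.S5994
import Cfsg.Agent.Lib.ElusiveUnip.Main
import Cfsg.Agent.Lib.StdQuadForms
-- import your own Cfsg.Agent.* helpers here

set_option autoImplicit false
open scoped MatrixGroups
open Cfsg

namespace Cfsg.Agent.S5994

/-- A necessary condition for every element of order p of PΩ⁻_n(q), q odd, to fix an elliptic `m`-space. Here `T = PΩ⁻_n(F)`, `n = 2d ≥ 8`, realised through `Ω⁻_n(q)`, the commutator subgroup of the isometry group of `Q = Σ_{i<d−1} xᵢyᵢ + z₁² + a z₁z₂ + b z₂²` with `z₁² + a z₁z₂ + b z₂²` anisotropic, over the field `F` with `q` elements; an element of `T` of prime order `r` is an element `x` of `Ω⁻_n(q)` with `x^r` scalar and `x` not scalar; `q` is odd; a nondegenerate `m`-space (even `m`) is a subspace on which the polar form of `Q` is nondegenerate; it is hyperbolic if it contains an `m/2`-dimensional subspace on which `Q` vanishes, elliptic otherwise. Let `m` be even with `2 ≤ m ≤ n − 2` and suppose `p` divides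 the number of elliptic `m`-spaces. If every element of `T` of order `p` fixes some elliptic `m`-space, then `n ≡ m (mod 4)` and every partition of `n` into parts of size at most `p` in which every even part has even multiplicity contains (as a sub-multiset) a partition of `m` in which every even part has even multiplicity. -/
theorem result {F : Type*} [Field F] [Fintype F] {p : ℕ} [Fact p.Prime] [CharP F p] {q : ℕ} (hq : Fintype.card F = q) (hqodd : Odd q)
    (d m : ℕ) (hd : 4 ≤ d) (hm : 2 ≤ m) (hme : Even m) (hmn : m + 2 ≤ 2 * d) (a b : F) (hab : ∀ x y : F, x ^ 2 + a * x * y + b * y ^ 2 = 0 → x = 0 ∧ y = 0)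
    (hpΩ : p ∣ Nat.card {W : Submodule F ((Fin (d - 1) ⊕ Fin (d - 1)) ⊕ Fin 2 → F) // Module.finrank F ↥W = m ∧ Cfsg.Geo.IsNondegenerateOn (QuadraticMap.polar (Cfsg.quadFormMinus (d - 1) F a b)) W ∧ ¬ Cfsg.Geo.IsPlusTypeOn (Cfsg.quadFormMinus (d - 1) F a b) W}) :
    (∀ x : GL ((Fin (d - 1) ⊕ Fin (d - 1)) ⊕ Fin 2) F, x ∈ Cfsg.Geo.omegaGL (Cfsg.quadFormMinus (d - 1) F a b) →
      (∃ z : F, ((x ^ p : GL ((Fin (d - 1) ⊕ Fin (d - 1)) ⊕ Fin 2) F) : Matrix ((Fin (d - 1) ⊕ Fin (d - 1)) ⊕ Fin 2) ((Fin (d - 1) ⊕ Fin (d - 1)) ⊕ Fin 2) F) = z • (1 : Matrix ((Fin (d - 1) ⊕ Fin (d - 1)) ⊕ Fin 2) ((Fin (d - 1) ⊕ Fin (d - 1)) ⊕ Fin 2) F)) →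
      (∀ z : F, (x : Matrix ((Fin (d - 1) ⊕ Fin (d - 1)) ⊕ Fin 2) ((Fin (d - 1) ⊕ Fin (d - 1)) ⊕ Fin 2) F) ≠ z • (1 : Matrix ((Fin (d - 1) ⊕ Fin (d - 1)) ⊕ Fin 2) ((Fin (d - 1) ⊕ Fin (d - 1)) ⊕ Fin 2) F)) →
      ∃ W : Submodule F ((Fin (d - 1) ⊕ Fin (d - 1)) ⊕ Fin 2 → F), (Module.finrank F ↥W = m ∧ Cfsg.Geo.IsNondegenerateOn (QuadraticMap.polar (Cfsg.quadFormMinus (d - 1) F a b)) W ∧ ¬ Cfsg.Geo.IsPlusTypeOn (Cfsg.quadFormMinus (d - 1) F a b) W) ∧ W.map (Matrix.toLin' (x : Matrix ((Fin (d - 1) ⊕ Fin (d - 1)) ⊕ Fin 2) ((Fin (d - 1) ⊕ Fin (d - 1)) ⊕ Fin 2) F)) ≤ W) →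
    ((2 * d) % 4 = m % 4 ∧ (∀ μ : Multiset ℕ, (∀ e ∈ μ, 0 < e ∧ e ≤ p) → (∀ e : ℕ, Even e → Even (μ.count e)) → μ.sum = 2 * d →
        ∃ ν : Multiset ℕ, ν ≤ μ ∧ ν.sum = m ∧ ∀ e : ℕ, Even e → Even (ν.count e))) := by
  intro H
  have h2 : (2 : F) ≠ 0 := CfsgLib.FiniteForms.two_ne_zero_of_odd hq hqodd
  have hQ : Cfsg.quadFormMinus (d - 1) F a b = ⇑(CfsgLib.StdQuadForms.Qm (d - 1) a b) :=
    funext fun v => (CfsgLib.StdQuadForms.Qm_apply (d - 1) a b v).symm
  rw [hQ] at H
  have hnd := CfsgLib.StdQuadForms.Qm_nondeg (d - 1) hab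
  have hcard : Fintype.card ((Fin (d - 1) ⊕ Fin (d - 1)) ⊕ Fin 2) = 2 * d := by simp; omega
  have H' : ∀ x : GL ((Fin (d - 1) ⊕ Fin (d - 1)) ⊕ Fin 2) F,
      x ∈ Cfsg.Geo.omegaGL ⇑(CfsgLib.StdQuadForms.Qm (d - 1) a b) → x ^ p = 1 → _ → _ :=
    fun x hx hxp hns => H x hx ⟨1, by rw [hxp, Units.val_one, one_smul]⟩ hns
  have hp3 : 3 ≤ p := by
    have := (Fact.out : p.Prime).two_le
    rcases Nat.lt_or_ge p 3 with h | h
    · exact absurd (show (2 : F) = 0 by
        have : p = 2 := by omega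
        subst this
        exact_mod_cast CharP.cast_eq_zero F 2) h2
    · exact h
  refine ⟨?_, fun μ hμ hev hsum => CfsgLib.ElusiveUnip.partition_of_fixed h2 (by omega) _ hnd m hme (by omega) _ H' μ hμ hev (by omega)⟩
  by_contra hne
  rcases Nat.even_or_odd d with ⟨k, hk⟩ | ⟨k, hk⟩
  · -- type 3, 1, 2^(2(k-1))
    obtain ⟨A, W, ν, -, -, -, -, -, hle, hs, hev', -⟩ := CfsgLib.ElusiveUnip.fixed_info h2 (by omega) _ hnd m _ H'
      (3 ::ₘ 1 ::ₘ Multiset.replicate (2 * (k - 1)) 2)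
      (fun e he => by
        simp only [Multiset.mem_cons, Multiset.mem_replicate] at he
        rcases he with rfl | rfl | ⟨-, rfl⟩ <;> omega)
      (fun e he => by
        rw [Multiset.count_cons_of_ne (by rintro rfl; exact absurd he (by decide)),
          Multiset.count_cons_of_ne (by rintro rfl; exact absurd he (by decide)), Multiset.count_replicate]
        split_ifs <;> simp)
      (by simp only [Multiset.sum_cons, Multiset.sum_replicate, smul_eq_mul]; omega)
      (Multiset.mem_cons_self _ _) (by decide) (Multiset.mem_cons_self _ _) (by omega)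
    have hmem : ∀ e ∈ ν, e = 2 ∨ e = 3 ∨ e = 1 := fun e he => by
      have := Multiset.mem_of_le hle he
      simp only [Multiset.mem_cons, Multiset.mem_replicate] at this
      tauto
    have hsum := CfsgLib.ElusiveUnip.count_even_sum ν 3 1 hmem (by omega) (by omega) (by omega)
    obtain ⟨c, hc⟩ := hev' 2 (by decide)
    have h3 : ν.count 3 ≤ 1 := by
      have := Multiset.le_iff_count.1 hle 3
      simpa [Multiset.count_replicate] using this
    have h1 : ν.count 1 ≤ 1 := by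
      have := Multiset.le_iff_count.1 hle 1
      simpa [Multiset.count_replicate] using this
    obtain ⟨i, hi⟩ := hme
    rcases Nat.le_one_iff_eq_zero_or_eq_one.1 h3 with e3 | e3 <;>
      rcases Nat.le_one_iff_eq_zero_or_eq_one.1 h1 with e1 | e1 <;>
      rw [e3, e1] at hsum <;> omega
  · -- type 1, 1, 2^(2k)
    obtain ⟨A, W, ν, hok, hW, hinv, hA, hr, hle, hs, hev', hrr⟩ := CfsgLib.ElusiveUnip.fixed_info h2 (by omega) _ hnd m _ H'
      (1 ::ₘ 1 ::ₘ Multiset.replicate (2 * k) 2)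
      (fun e he => by
        simp only [Multiset.mem_cons, Multiset.mem_replicate] at he
        rcases he with rfl | rfl | ⟨-, rfl⟩ <;> omega)
      (fun e he => by
        rw [Multiset.count_cons_of_ne (by rintro rfl; exact absurd he (by decide)),
          Multiset.count_cons_of_ne (by rintro rfl; exact absurd he (by decide)), Multiset.count_replicate]
        split_ifs <;> simp)
      (by simp only [Multiset.sum_cons, Multiset.sum_replicate, smul_eq_mul]; omega)
      (Multiset.mem_cons_self _ _) (by decide)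
      (show 2 ∈ _ from Multiset.mem_cons_of_mem (Multiset.mem_cons_of_mem (Multiset.mem_replicate.2 ⟨by omega, rfl⟩)))
      (by omega)
    have hmem : ∀ e ∈ ν, e = 2 ∨ e = 1 ∨ e = 3 := fun e he => by
      have := Multiset.mem_of_le hle he
      simp only [Multiset.mem_cons, Multiset.mem_replicate] at this
      tauto
    have hsum := CfsgLib.ElusiveUnip.count_even_sum ν 1 3 hmem (by omega) (by omega) (by omega)
    obtain ⟨c, hc⟩ := hev' 2 (by decide)
    have h3 : ν.count 3 ≤ 0 := by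
      have := Multiset.le_iff_count.1 hle 3
      simpa [Multiset.count_replicate] using this
    have h1 : ν.count 1 ≤ 2 := by
      have := Multiset.le_iff_count.1 hle 1
      simpa [Multiset.count_replicate] using this
    obtain ⟨i, hi⟩ := hme
    have hsq : (A - 1) ^ 2 = 0 := CfsgLib.JordanForms.eq_zero_of_rank (by
      rw [hr]
      simp)
    have h0 := hrr 0
    have hone : ν.count 1 = 0 := by omega
    rw [show (0 : ℕ) + 1 = 1 from rfl, show (0 : ℕ) + 2 = 2 from rfl, hone, CfsgLib.ElusiveUnip.rr_zero, hW,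
      CfsgLib.ElusiveUnip.rr_of_pow_eq_zero (j := 2) (by rw [← map_pow, hsq, map_zero]) 2 le_rfl] at h0
    exact hok (CfsgLib.ElusiveUnip.plusType_of_rank h2 _ hA hsq hinv (by omega))

end Cfsg.Agent.S5994
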