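import Cfsg.Statements.S5995
import Cfsg.Agent.Lib.ElusiveUnip.Main
import Cfsg.Agent.Lib.StdQuadForms
-- import your own Cfsg.Agent.* helpers here

set_option autoImplicit false
open scoped MatrixGroups
open Cfsg

namespace Cfsg.Agent.S5995

/-- A necessary condition for every element of order p of Ω_n(q), nq odd, to fix a hyperbolic `m`-space. Here `T = Ω_n(F)`, `n = 2d+1 ≥ 7`, `q` odd, realised as the commutator subgroup of the isometry group of `Q = x₀² + Σ xᵢyᵢ` over the field `F` with `q` elements (trivial centre, so its elements of prime order `r` are used directly); a nondegenerate `m`-space (even `m`) is a subspace on which the polar form of `Q` is nondegenerate; it is hyperbolic if it contains an `m/2`-dimensional subspace on which `Q` vanishes, elliptic otherwise. Let `m` be even with `2 ≤ m ≤ n − 1` and suppose `p` divides the number of hyperbolic `m`-spaces. If every element of `T` of order `p` fixes some hyperbolic `m`-space, then `m ≡ 0 (mod 4)` and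 every partition of `n` into parts of size at most `p` in which every even part has even multiplicity contains (as a sub-multiset) a partition of `m` in which every even part has even multiplicity. -/
theorem result {F : Type*} [Field F] [Fintype F] {p : ℕ} [Fact p.Prime] [CharP F p] {q : ℕ} (hq : Fintype.card F = q) (hqodd : Odd q)
    (d m : ℕ) (hd : 3 ≤ d) (hm : 2 ≤ m) (hme : Even m) (hmn : m ≤ 2 * d)
    (hpΩ : p ∣ Nat.card {W : Submodule F (Unit ⊕ (Fin d ⊕ Fin d) → F) // Module.finrank F ↥W = m ∧ Cfsg.Geo.IsNondegenerateOn (QuadraticMap.polar (Cfsg.quadFormOdd d F)) W ∧ Cfsg.Geo.IsPlusTypeOn (Cfsg.quadFormOdd d F) W}) :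
    (∀ x : GL (Unit ⊕ (Fin d ⊕ Fin d)) F, x ∈ Cfsg.Geo.omegaGL (Cfsg.quadFormOdd d F) → orderOf x = p →
      ∃ W : Submodule F (Unit ⊕ (Fin d ⊕ Fin d) → F), (Module.finrank F ↥W = m ∧ Cfsg.Geo.IsNondegenerateOn (QuadraticMap.polar (Cfsg.quadFormOdd d F)) W ∧ Cfsg.Geo.IsPlusTypeOn (Cfsg.quadFormOdd d F) W) ∧ W.map (Matrix.toLin' (x : Matrix (Unit ⊕ (Fin d ⊕ Fin d)) (Unit ⊕ (Fin d ⊕ Fin d)) F)) ≤ W) →
    (m % 4 = 0 ∧ (∀ μ : Multiset ℕ, (∀ e ∈ μ, 0 < e ∧ e ≤ p) → (∀ e : ℕ, Even e → Even (μ.count e)) → μ.sum = 2 * d + 1 →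
        ∃ ν : Multiset ℕ, ν ≤ μ ∧ ν.sum = m ∧ ∀ e : ℕ, Even e → Even (ν.count e))) := by
  intro H
  have h2 : (2 : F) ≠ 0 := CfsgLib.FiniteForms.two_ne_zero_of_odd hq hqodd
  have hQ : Cfsg.quadFormOdd d F = ⇑(CfsgLib.StdQuadForms.Qo (F := F) d) :=
    funext fun v => (CfsgLib.StdQuadForms.Qo_apply d v).symm
  rw [hQ] at H
  have hnd := CfsgLib.StdQuadForms.Qo_nondeg (F := F) h2 d
  have hcard : Fintype.card (Unit ⊕ (Fin d ⊕ Fin d)) = 2 * d + 1 := by simp; omega
  have H' : ∀ x : GL (Unit ⊕ (Fin d ⊕ Fin d)) F,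
      x ∈ Cfsg.Geo.omegaGL ⇑(CfsgLib.StdQuadForms.Qo (F := F) d) → x ^ p = 1 →
      (∀ z : F, (x : Matrix (Unit ⊕ (Fin d ⊕ Fin d)) (Unit ⊕ (Fin d ⊕ Fin d)) F) ≠ z • 1) → _ :=
    fun x hx hxp hns => H x hx (orderOf_eq_prime hxp fun h => hns 1 (by rw [h, Units.val_one, one_smul]))
  have hp3 : 3 ≤ p := by
    have := (Fact.out : p.Prime).two_le
    rcases Nat.lt_or_ge p 3 with h | h
    · exact absurd (show (2 : F) = 0 by
        have : p = 2 := by omega
        subst this
        exact_mod_cast CharP.cast_eq_zero F 2) h2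
    · exact h
  refine ⟨?_, fun μ hμ hev hsum => CfsgLib.ElusiveUnip.partition_of_fixed h2 (by omega) _ hnd m hme (by omega) _ H' μ hμ hev (by omega)⟩
  by_contra hne
  obtain ⟨k, r, hd', hr⟩ : ∃ k r, d = 2 * k + r ∧ r < 2 := ⟨d / 2, d % 2, (Nat.div_add_mod d 2).symm, Nat.mod_lt _ (by omega)⟩
  obtain ⟨A, W, ν, -, -, -, -, -, hle, hs, hev', -⟩ := CfsgLib.ElusiveUnip.fixed_info h2 (by omega) _ hnd m _ H'
    ((2 * r + 1) ::ₘ Multiset.replicate (2 * k) 2)
    (fun e he => by
      simp only [Multiset.mem_cons, Multiset.mem_replicate] at he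
      rcases he with rfl | ⟨-, rfl⟩ <;> omega)
    (fun e he => by
      rw [Multiset.count_cons_of_ne (by rintro rfl; obtain ⟨c, hc⟩ := he; omega), Multiset.count_replicate]
      split_ifs <;> simp)
    (by simp only [Multiset.sum_cons, Multiset.sum_replicate, smul_eq_mul]; omega)
    (Multiset.mem_cons_self _ _) ⟨r, rfl⟩
    (show 2 ∈ _ from Multiset.mem_cons_of_mem (Multiset.mem_replicate.2 ⟨by omega, rfl⟩)) (by omega)
  have hmem : ∀ e ∈ ν, e = 2 ∨ e = 2 * r + 1 ∨ e = 5 := fun e he => by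
    have := Multiset.mem_of_le hle he
    simp only [Multiset.mem_cons, Multiset.mem_replicate] at this
    tauto
  have hsum := CfsgLib.ElusiveUnip.count_even_sum ν (2 * r + 1) 5 hmem (by omega) (by omega) (by omega)
  obtain ⟨c, hc⟩ := hev' 2 (by decide)
  have h1 : ν.count (2 * r + 1) ≤ 1 := by
    have := Multiset.le_iff_count.1 hle (2 * r + 1)
    rw [Multiset.count_cons_self, Multiset.count_replicate, if_neg (by omega)] at this
    omega
  have h5 : ν.count 5 = 0 := by
    have := Multiset.le_iff_count.1 hle 5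
    rw [Multiset.count_cons_of_ne (by omega), Multiset.count_replicate, if_neg (by omega)] at this
    omega
  obtain ⟨i, hi⟩ := hme
  rcases Nat.le_one_iff_eq_zero_or_eq_one.1 h1 with h | h <;>
    rcases (show r = 0 ∨ r = 1 by omega) with rfl | rfl <;>
    rw [h, h5] at hsum <;> omega

end Cfsg.Agent.S5995
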