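import Cfsg.Statements.S5997
import Cfsg.Agent.Lib.PSL2Max.Std
import Cfsg.Agent.Lib.QuatAut
-- import your own Cfsg.Agent.* helpers here

set_option autoImplicit false
open scoped MatrixGroups
open Cfsg

namespace Cfsg.Agent.S5997

open Matrix in
/-- A non-scalar determinant-one matrix is determined up to conjugacy in `SL₂` by its trace. -/
theorem conj_sl {F : Type*} [Field F] [Fintype F] {a b : Matrix.SpecialLinearGroup (Fin 2) F}
    (ha : a.1.trace ^ 2 ≠ 4) (h : b.1.trace = a.1.trace) :
    ∃ g : Matrix.SpecialLinearGroup (Fin 2) F, g⁻¹ * b * g = a := by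
  obtain ⟨g, hg⟩ := isConj_iff.mp (CfsgLib.PSL2Product.isConj_of_trace ha h)
  refine ⟨g, ?_⟩
  rw [← hg]; group

theorem aut_prime {r : ℕ} (hr : r.Prime) (α : MulAut (QuaternionGroup 2)) (hα : α ^ r = 1) (h : α ≠ 1) :
    r ≤ 3 := by
  by_contra h3
  haveI := Fact.mk hr
  haveI : Fact (Nat.Prime 2) := ⟨Nat.prime_two⟩
  haveI : Finite (MulAut (QuaternionGroup 2)) := Finite.of_injective (fun e => (e : QuaternionGroup 2 → QuaternionGroup 2))
    (fun a b e => MulEquiv.ext (congrFun e))
  have h1 : r ∣ Nat.card (MulAut (QuaternionGroup 2)) := by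
    rw [← orderOf_eq_prime hα h]; exact orderOf_dvd_natCard α
  have h2 : 2 ∣ Nat.card (MulAut (QuaternionGroup 2)) := by
    have e : orderOf (MulAut.conj (QuaternionGroup.a (1 : ZMod (2 * 2)))) = 2 := by
      refine orderOf_eq_prime (MulEquiv.ext fun x => ?_) fun h => ?_
      · revert x; decide
      · exact absurd (DFunLike.congr_fun h (QuaternionGroup.xa 0)) (by decide)
    have h := orderOf_dvd_natCard (MulAut.conj (QuaternionGroup.a (1 : ZMod (2 * 2))))
    rwa [e] at h
  have h23 := Nat.Coprime.mul_dvd_of_dvd_of_dvd (by norm_num : Nat.Coprime 2 3) h2 CfsgLib.Quat.three_dvd_card_aut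
  have hcop : Nat.Coprime (2 * 3) r := Nat.Coprime.mul_left
    ((Nat.coprime_primes Nat.prime_two hr).mpr (by omega)) ((Nat.coprime_primes Nat.prime_three hr).mpr (by omega))
  have hd := hcop.mul_dvd_of_dvd_of_dvd h23 h1
  have hle := Nat.le_of_dvd Nat.card_pos hd
  have := CfsgLib.Quat.card_aut_le
  have h5 : 5 ≤ r := by
    by_contra h5
    obtain rfl : r = 4 := by omega
    norm_num at hr
  omega

/-- Elements of prime order of PSL_2(p) and the normalizer of a quaternion subgroup. Here `T = PSL_2(F)` for the field `F` with `p` elements, `p ≥ 5` prime; `R` is a subgroup of GL_2(F) isomorphic to the quaternion group of order 8 (an absolutely irreducible 2-group of symplectic type), and `H` is the subgroup of matrices of determinant 1 normalizing `R` — a subgroup of type 2^{1+2}.O₂⁻(2), isomorphic modulo scalars to A₄ or S₄ (maximality is not assumed). Ω is the set of cosets of `H` in `T`, so an element of `T` of prime order `r` (a matrix `x` of determinant 1 with `x^r` scalar, `x`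 not scalar) fixes a point of Ω exactly when some conjugate of `x` by a matrix of determinant 1 normalizes `R`. Let `r` be a prime dividing the index of `H`. Then every element of `T` of order `r` fixes a point of Ω if and only if `r = 2` or `r = 3`. -/
theorem result {F : Type*} [Field F] [Fintype F] {p : ℕ} [Fact p.Prime] [CharP F p] (hF : Fintype.card F = p) (hp : 5 ≤ p)
    (R : Subgroup (GL (Fin 2) F)) (hR : Nonempty (↥R ≃* QuaternionGroup 2))
    (r : ℕ) [Fact r.Prime]
    (hΩ : r ∣ (Cfsg.Geo.subgroupNormalizer R).relIndex (Cfsg.Geo.specialLinear (Fin 2) F)) :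
    (∀ x ∈ Cfsg.Geo.specialLinear (Fin 2) F, (∃ z : F, ((x ^ r : GL (Fin 2) F) : Matrix (Fin 2) (Fin 2) F) = z • (1 : Matrix (Fin 2) (Fin 2) F)) →
      (∀ z : F, (x : Matrix (Fin 2) (Fin 2) F) ≠ z • (1 : Matrix (Fin 2) (Fin 2) F)) →
      ∃ g ∈ Cfsg.Geo.specialLinear (Fin 2) F, g⁻¹ * x * g ∈ Cfsg.Geo.subgroupNormalizer R) ↔ (r = 2 ∨ r = 3) := by
  classical
  have hr' := (Fact.out : r.Prime)
  have hp' := (Fact.out : p.Prime)
  have hp2 : p ≠ 2 := by omega
  have h2 : (2 : F) ≠ 0 := fun e => by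
    have h' : ((2 : ℕ) : F) = 0 := by exact_mod_cast e
    have := Nat.le_of_dvd (by norm_num) ((CharP.cast_eq_zero_iff F p 2).mp h')
    omega
  obtain ⟨θ⟩ := hR
  obtain ⟨i₀, hi₀⟩ : ∃ i : R, θ i = QuaternionGroup.a 1 := ⟨θ.symm _, θ.apply_symm_apply _⟩
  obtain ⟨j₀, hj₀⟩ : ∃ j : R, θ j = QuaternionGroup.xa 0 := ⟨θ.symm _, θ.apply_symm_apply _⟩
  have hij : i₀ * j₀ ≠ j₀ * i₀ := fun h => by
    have := congrArg θ h
    rw [map_mul, map_mul, hi₀, hj₀] at this
    exact absurd this (by decide)
  have hsq : ∀ a : R, θ a ^ 4 = 1 → θ a ^ 2 ≠ 1 → a ^ 4 = 1 ∧ a ^ 2 ≠ 1 := fun a h4 h2 =>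
    ⟨θ.injective (by rw [map_pow, h4, map_one]), fun h => h2 (by rw [← map_pow, h, map_one])⟩
  set A : Matrix (Fin 2) (Fin 2) F := ((i₀ : GL (Fin 2) F) : Matrix (Fin 2) (Fin 2) F) with hA
  set K : Matrix (Fin 2) (Fin 2) F := ((j₀ : GL (Fin 2) F) : Matrix (Fin 2) (Fin 2) F) with hK
  -- the relations in matrices
  obtain ⟨z, hz⟩ : ∃ z : R, θ z = QuaternionGroup.a 2 := ⟨θ.symm _, θ.apply_symm_apply _⟩
  set Z : Matrix (Fin 2) (Fin 2) F := ((z : GL (Fin 2) F) : Matrix (Fin 2) (Fin 2) F) with hZ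
  have rel : ∀ a b : R, θ a = θ b → ((a : GL (Fin 2) F) : Matrix (Fin 2) (Fin 2) F) =
      ((b : GL (Fin 2) F) : Matrix (Fin 2) (Fin 2) F) := fun a b h => by rw [θ.injective h]
  have rA : A * A = Z := by
    simpa using rel (i₀ * i₀) z (by rw [map_mul, hi₀, hz]; decide)
  have rK : K * K = Z := by
    simpa using rel (j₀ * j₀) z (by rw [map_mul, hj₀, hz]; decide)
  have rKA : K * A = Z * (A * K) := by
    simpa using rel (j₀ * i₀) (z * (i₀ * j₀)) (by rw [map_mul, map_mul, map_mul, hi₀, hj₀, hz]; decide)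
  have rZ : Z * Z = 1 := by
    simpa using rel (z * z) 1 (by rw [map_mul, map_one, hz]; decide)
  have rZA : Z * A = A * Z := by rw [← rA, mul_assoc]
  have rZK : Z * K = K * Z := by rw [← rK, mul_assoc]
  -- `Z = -1`
  have hAns : ∀ a : F, A ≠ a • (1 : Matrix (Fin 2) (Fin 2) F) := fun a e => hij <| Subtype.ext <| Units.ext <| by
    show A * K = K * A
    rw [e]; simp
  have hscal : ∀ M : Matrix (Fin 2) (Fin 2) F, M * A = A * M → M * K = K * M →
      ∃ a : F, M = a • (1 : Matrix (Fin 2) (Fin 2) F) := fun M hMA hMK => by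
    obtain ⟨x, y, rfl⟩ := CfsgLib.SL2Centralizer.exists_of_commute hAns hMA
    refine ⟨x, ?_⟩
    by_cases hy : y = 0
    · simp [hy]
    exfalso
    refine hij (Subtype.ext (Units.ext ?_))
    show A * K = K * A
    simp only [add_mul, mul_add, smul_mul_assoc, mul_smul_comm, one_mul, mul_one, add_right_inj] at hMK
    exact smul_right_injective _ hy hMK
  have hZ1 : Z = -1 := by
    obtain ⟨a, ha⟩ := hscal Z rZA rZK
    have h1 : a * a = 1 := by
      rw [ha] at rZ
      simpa using congrFun (congrFun rZ 0) 0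
    rcases mul_self_eq_one_iff.mp h1 with h | h <;> rw [ha, h]
    · exfalso
      refine hij (Subtype.ext (Units.ext ?_))
      show A * K = K * A
      rw [rKA, ha, h, one_smul, one_mul]
    · simp
  rw [hZ1] at rA rK
  rw [hZ1, neg_one_mul] at rKA
  -- traces and determinants
  have htr : ∀ M : Matrix (Fin 2) (Fin 2) F, M * M = -1 → (∀ a : F, M ≠ a • (1 : Matrix (Fin 2) (Fin 2) F)) →
      M.trace = 0 ∧ M.det = 1 := by
    intro M hM hns
    have e00 := congrFun (congrFun hM 0) 0
    have e01 := congrFun (congrFun hM 0) 1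
    have e10 := congrFun (congrFun hM 1) 0
    have e11 := congrFun (congrFun hM 1) 1
    simp [Matrix.mul_apply, Fin.sum_univ_two] at e00 e01 e10 e11
    have ht : M 0 0 + M 1 1 = 0 := by
      by_contra ht
      have h01 : M 0 1 = 0 := by
        by_contra h
        exact ht (mul_right_cancel₀ h (by linear_combination e01))
      have h10 : M 1 0 = 0 := by
        by_contra h
        exact ht (mul_right_cancel₀ h (by linear_combination e10))
      have hd : (M 0 0 - M 1 1) * (M 0 0 + M 1 1) = 0 := by linear_combination e00 - e11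
      have he := sub_eq_zero.mp ((mul_eq_zero.mp hd).resolve_right ht)
      exact hns (M 0 0) (by ext i j; fin_cases i <;> fin_cases j <;> simp [h01, h10, he])
    rw [Matrix.trace_fin_two, Matrix.det_fin_two]
    exact ⟨ht, by linear_combination -e00 + (M 0 0) * ht⟩
  have hKns : ∀ a : F, K ≠ a • (1 : Matrix (Fin 2) (Fin 2) F) := fun a e => hij <| Subtype.ext <| Units.ext <| by
    show A * K = K * A
    rw [e]; simp
  obtain ⟨htA, hdA⟩ := htr A rA hAns
  obtain ⟨htK, hdK⟩ := htr K rK hKns
  -- the element of order three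
  set C : Matrix (Fin 2) (Fin 2) F := (2 : F)⁻¹ • (-1 + A + K + A * K) with hC
  have eAK : (A * K) * (A * K) = -1 := by
    rw [mul_assoc, ← mul_assoc K A K, rKA, neg_mul, mul_neg, ← mul_assoc A (A * K) K, ← mul_assoc A A K, rA]
    simp [rK]
  have e1 : A * (A * K) = -K := by rw [← mul_assoc, rA, neg_one_mul]
  have e2 : A * K * A = K := by rw [mul_assoc, rKA, mul_neg, e1, neg_neg]
  have e3 : A * K * K = -A := by rw [mul_assoc, rK, mul_neg_one]
  have e4 : K * (A * K) = A := by rw [← mul_assoc, rKA, neg_mul, e3, neg_neg]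
  have hS : (A + K + A * K) * (A + K + A * K) = -(3 : F) • (1 : Matrix (Fin 2) (Fin 2) F) := by
    simp only [add_mul, mul_add, rA, rK, eAK, e1, e2, e3, e4, rKA]
    module
  have hCA : C * A = (A * K) * C := by
    simp only [hC, smul_mul_assoc, mul_smul_comm]
    congr 1
    simp only [add_mul, mul_add, neg_mul, mul_neg, one_mul, mul_one, rA, rK, eAK, e1, e2, e3, e4, rKA]
    abel
  have hCK : C * K = A * C := by
    simp only [hC, smul_mul_assoc, mul_smul_comm]
    congr 1
    simp only [add_mul, mul_add, neg_mul, mul_neg, one_mul, mul_one, rA, rK, eAK, e1, e2, e3, e4, rKA]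
    abel
  have hC2 : C * C = -C - 1 := by
    have : (-1 + A + K + A * K) * (-1 + A + K + A * K) = (-2 : F) • (-1 + A + K + A * K) - (4 : F) • 1 := by
      rw [show (-1 + A + K + A * K) = -1 + (A + K + A * K) by abel]
      simp only [add_mul, mul_add, neg_mul, mul_neg, one_mul, mul_one]
      simp only [add_mul, mul_add, rA, rK, eAK, e1, e2, e3, e4, rKA]
      module
    rw [hC, smul_mul_smul_comm, this, smul_sub, smul_smul, smul_smul,
      show (2 : F)⁻¹ * 2⁻¹ * -2 = -(2⁻¹ : F) by field_simp,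
      show (2 : F)⁻¹ * 2⁻¹ * 4 = 1 by field_simp; ring, neg_smul, one_smul]
  have hCns : ∀ a : F, C ≠ a • (1 : Matrix (Fin 2) (Fin 2) F) := fun a e => by
    by_cases ha : a = 0
    · rw [ha, zero_smul] at e
      rw [e] at hC2
      simp at hC2
    rw [e, smul_mul_assoc, one_mul, mul_smul_comm, mul_one] at hCA
    have h := congrArg (fun M => A * M) (smul_right_injective _ ha hCA)
    simp only [rA, e1] at h
    exact hKns 1 (by rw [one_smul]; exact (neg_injective h).symm)
  have htC : C.trace = -1 ∧ C.det = 1 := by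
    have e00 := congrFun (congrFun hC2 0) 0
    have e01 := congrFun (congrFun hC2 0) 1
    have e10 := congrFun (congrFun hC2 1) 0
    have e11 := congrFun (congrFun hC2 1) 1
    simp [Matrix.mul_apply, Fin.sum_univ_two] at e00 e01 e10 e11
    have ht : C 0 0 + C 1 1 = -1 := by
      by_contra ht
      have h01 : C 0 1 = 0 := by
        by_contra h
        exact ht (mul_right_cancel₀ h (by linear_combination e01))
      have h10 : C 1 0 = 0 := by
        by_contra h
        exact ht (mul_right_cancel₀ h (by linear_combination e10))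
      have hd : (C 0 0 - C 1 1) * (C 0 0 + C 1 1 + 1) = 0 := by linear_combination e00 - e11
      rcases mul_eq_zero.mp hd with h | h
      · exact hCns (C 0 0) (by
          ext i j; fin_cases i <;> fin_cases j <;> simp [h01, h10, (sub_eq_zero.mp h).symm])
      · exact ht (by linear_combination h)
    rw [Matrix.trace_fin_two, Matrix.det_fin_two]
    exact ⟨ht, by linear_combination -e00 + (C 0 0) * ht⟩
  obtain ⟨cg, hcg⟩ : ∃ g : Matrix.SpecialLinearGroup (Fin 2) F, g.1 = C := ⟨⟨C, htC.2⟩, rfl⟩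
  set c : GL (Fin 2) F := Matrix.SpecialLinearGroup.toGL cg with hc
  have hgen : ∀ x : R, ∃ m : Fin 4, x = i₀ ^ m.val ∨ x = j₀ * i₀ ^ m.val := fun x => by
    have hx : ∀ x : QuaternionGroup 2, ∃ m : Fin 4, x = QuaternionGroup.a 1 ^ m.val ∨
        x = QuaternionGroup.xa 0 * QuaternionGroup.a 1 ^ m.val := by decide
    obtain ⟨m, h | h⟩ := hx (θ x)
    · exact ⟨m, Or.inl (θ.injective (by rw [h, map_pow, hi₀]))⟩
    · exact ⟨m, Or.inr (θ.injective (by rw [h, map_mul, map_pow, hi₀, hj₀]))⟩
  have hcN : c ∈ Subgroup.normalizer (R : Set (GL (Fin 2) F)) := by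
    have hle : R.map (MulAut.conj c).toMonoidHom ≤ R := by
      have hci : c * i₀ * c⁻¹ = ((i₀ * j₀ : R) : GL (Fin 2) F) := by
        rw [mul_inv_eq_iff_eq_mul]; refine Units.ext ?_
        show cg.1 * A = A * K * cg.1
        rw [hcg]; exact hCA
      have hcj : c * j₀ * c⁻¹ = (i₀ : GL (Fin 2) F) := by
        rw [mul_inv_eq_iff_eq_mul]; refine Units.ext ?_
        show cg.1 * K = A * cg.1
        rw [hcg]; exact hCK
      rintro _ ⟨x, hx, rfl⟩
      have key : ∀ y : R, MulAut.conj c (y : GL (Fin 2) F) ∈ R := fun y => by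
        obtain ⟨m, rfl | rfl⟩ := hgen y
        · rw [SubgroupClass.coe_pow, map_pow, MulAut.conj_apply, hci]
          exact R.pow_mem (i₀ * j₀).2 _
        · rw [Subgroup.coe_mul, SubgroupClass.coe_pow, map_mul, map_pow, MulAut.conj_apply,
            MulAut.conj_apply, hci, hcj]
          exact R.mul_mem i₀.2 (R.pow_mem (i₀ * j₀).2 _)
      exact key ⟨x, hx⟩
    have heq := Subgroup.eq_of_le_of_card_ge hle
      (Subgroup.card_map_of_injective (f := (MulAut.conj c).toMonoidHom) (MulAut.conj c).injective).ge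
    rw [Subgroup.mem_normalizer_iff]
    intro x
    constructor
    · intro hx; exact heq ▸ ⟨x, hx, rfl⟩
    · intro hx
      rw [← heq] at hx
      obtain ⟨y, hy, e⟩ := hx
      have : y = x := (MulAut.conj c).injective e
      exact this ▸ hy
  have hiN : (i₀ : GL (Fin 2) F) ∈ Subgroup.normalizer (R : Set (GL (Fin 2) F)) := Subgroup.le_normalizer i₀.2
  have hzN : (z : GL (Fin 2) F) ∈ Subgroup.normalizer (R : Set (GL (Fin 2) F)) := Subgroup.le_normalizer z.2
  -- lifting determinant one matrices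
  have hlift : ∀ x ∈ Cfsg.Geo.specialLinear (Fin 2) F, ∃ s : Matrix.SpecialLinearGroup (Fin 2) F,
      Matrix.SpecialLinearGroup.toGL s = x := fun x hx => by
    refine ⟨⟨x.1, ?_⟩, Units.ext rfl⟩
    have := congrArg Units.val (MonoidHom.mem_ker.mp hx)
    rwa [Matrix.GeneralLinearGroup.val_det_apply] at this
  have hmem : ∀ s : Matrix.SpecialLinearGroup (Fin 2) F,
      Matrix.SpecialLinearGroup.toGL s ∈ Cfsg.Geo.specialLinear (Fin 2) F := fun s =>
    MonoidHom.mem_ker.mpr (Units.ext (by rw [Matrix.GeneralLinearGroup.val_det_apply]; exact s.2))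
  have hscal1 : ∀ s : Matrix.SpecialLinearGroup (Fin 2) F, ∀ m : ℕ,
      (∃ z : F, ((Matrix.SpecialLinearGroup.toGL s ^ m : GL (Fin 2) F) : Matrix (Fin 2) (Fin 2) F) =
        z • (1 : Matrix (Fin 2) (Fin 2) F)) → CfsgLib.PSL2.mk s ^ m = 1 := by
    rintro s m ⟨w, hw⟩
    rw [← map_pow, ← map_one (CfsgLib.PSL2.mk : Matrix.SpecialLinearGroup (Fin 2) F →* _), CfsgLib.PSL2.mk_eq_mk]
    rw [← map_pow] at hw
    have hw' : (s ^ m).1 = w • (1 : Matrix (Fin 2) (Fin 2) F) := hw
    have hd := (s ^ m).2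
    rw [hw', Matrix.det_smul, Matrix.det_one, mul_one, Fintype.card_fin] at hd
    rcases sq_eq_one_iff.mp hd with h | h <;> rw [hw', h, Matrix.SpecialLinearGroup.coe_one]
    · left; rw [one_smul]
    · right; rw [neg_smul, one_smul, neg_neg]
  have hnot1 : ∀ s : Matrix.SpecialLinearGroup (Fin 2) F,
      (∀ z : F, (Matrix.SpecialLinearGroup.toGL s : Matrix (Fin 2) (Fin 2) F) ≠ z • (1 : Matrix (Fin 2) (Fin 2) F)) →
      CfsgLib.PSL2.mk s ≠ 1 := by
    intro s hs h
    rcases CfsgLib.DicksonFull.mk_eq_one h with rfl | rfl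
    · exact hs 1 (by simp)
    · exact hs (-1) (by simp)
  constructor
  · intro hall
    by_contra hr23
    push Not at hr23
    have h5 : 5 ≤ r := by
      have := hr'.two_le
      rcases (show r = 4 ∨ 5 ≤ r by omega) with rfl | h
      · norm_num at hr'
      · exact h
    have hdvd : r ∣ Nat.card (Cfsg.Geo.specialLinear (Fin 2) F) := hΩ.trans (Subgroup.index_dvd_card _)
    obtain ⟨x, hx⟩ := exists_prime_orderOf_dvd_card' r hdvd
    obtain ⟨s, hs⟩ := hlift x x.2
    have hxr : (x : GL (Fin 2) F) ^ r = 1 := by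
      rw [← SubgroupClass.coe_pow, ← hx, pow_orderOf_eq_one]; rfl
    have hxns : ∀ w : F, ((x : GL (Fin 2) F) : Matrix (Fin 2) (Fin 2) F) ≠ w • (1 : Matrix (Fin 2) (Fin 2) F) := by
      intro w hw
      have hd := s.2
      have hs' : s.1 = w • (1 : Matrix (Fin 2) (Fin 2) F) := by rw [← hw, ← hs]; rfl
      rw [hs', Matrix.det_smul, Matrix.det_one, mul_one, Fintype.card_fin] at hd
      have h21 : (x : GL (Fin 2) F) ^ 2 = 1 := Units.ext (by
        rw [Units.val_pow_eq_pow_val, hw, smul_pow, one_pow, hd, one_smul]; rfl)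
      have h22 : orderOf x ∣ 2 := orderOf_dvd_of_pow_eq_one (Subtype.ext h21)
      rw [hx] at h22
      have := Nat.le_of_dvd (by norm_num) h22
      omega
    obtain ⟨g, hg, hgx⟩ := hall x x.2 ⟨1, by rw [hxr, one_smul]; rfl⟩ hxns
    set y := g⁻¹ * (x : GL (Fin 2) F) * g with hy
    have hyr : y ^ r = 1 := by
      have : y = (MulAut.conj g⁻¹) (x : GL (Fin 2) F) := by rw [MulAut.conj_apply, inv_inv]
      rw [this, ← map_pow, hxr, map_one]
    have hgx' : y ∈ Subgroup.normalizer (R : Set (GL (Fin 2) F)) := hgx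
    have hconj : ∀ v : R, y * v * y⁻¹ ∈ R := fun v => (Subgroup.mem_normalizer_iff.mp hgx' v).mp v.2
    let act := ((Subgroup.normalizerMonoidHom R) ⟨y, hgx'⟩)
    set α : MulAut (QuaternionGroup 2) := MulAut.congr θ act with hα
    have hαr : α ^ r = 1 := by
      rw [hα, ← map_pow, ← map_pow, show (⟨y, hgx'⟩ : Subgroup.normalizer (R : Set (GL (Fin 2) F))) ^ r = 1 from
        Subtype.ext hyr, map_one, map_one]
    have hα1 : α = 1 := by
      by_contra h
      have := aut_prime hr' α hαr h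
      omega
    rw [hα, MulEquiv.map_eq_one_iff] at hα1
    have hcomm : ∀ v : R, (y : GL (Fin 2) F) * v = v * y := fun v => by
      have h := congrArg Subtype.val (DFunLike.congr_fun hα1 v)
      have h' : y * v * y⁻¹ = (v : GL (Fin 2) F) := h
      exact mul_inv_eq_iff_eq_mul.mp h'
    obtain ⟨w, hw⟩ := hscal _ (congrArg Units.val (hcomm i₀)) (congrArg Units.val (hcomm j₀))
    refine hxns w ?_
    have : (x : GL (Fin 2) F) = g * y * g⁻¹ := by rw [hy]; group
    rw [this, Units.val_mul, Units.val_mul, hw, mul_smul_comm, mul_one, smul_mul_assoc, Units.mul_inv]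
  · intro h23 x hx hxr hxns
    obtain ⟨s, rfl⟩ := hlift x hx
    have hs1 := hnot1 s hxns
    have hsr := hscal1 s r hxr
    obtain ⟨t, ht, htN⟩ : ∃ t : Matrix.SpecialLinearGroup (Fin 2) F,
        (t.1.trace ^ 2 ≠ 4 ∧ t.1.trace = s.1.trace) ∧
        Matrix.SpecialLinearGroup.toGL t ∈ Subgroup.normalizer (R : Set (GL (Fin 2) F)) := by
      have h4 : (4 : F) ≠ 0 := by
        rw [show (4 : F) = 2 * 2 by norm_num]; exact mul_ne_zero h2 h2
      rcases h23 with rfl | rfl
      · refine ⟨⟨A, hdA⟩, ⟨?_, ?_⟩, ?_⟩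
        · show A.trace ^ 2 ≠ 4
          rw [htA]; intro e; exact h4 (by linear_combination -e)
        · show A.trace = s.1.trace
          rw [htA, (CfsgLib.PSL2Max.trace_of_pow hs1).1 hsr]
        · convert hiN using 1
          exact Units.ext rfl
      · have h3 : (3 : F) ≠ 0 := fun e => by
          have h' : ((3 : ℕ) : F) = 0 := by exact_mod_cast e
          have := Nat.le_of_dvd (by norm_num) ((CharP.cast_eq_zero_iff F p 3).mp h')
          omega
        have hct : cg.1.trace = -1 := by rw [hcg]; exact htC.1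
        rcases sq_eq_one_iff.mp ((CfsgLib.PSL2Max.trace_of_pow hs1).2.1 hsr) with h | h
        · refine ⟨-cg, ⟨?_, ?_⟩, ?_⟩
          · rw [Matrix.SpecialLinearGroup.coe_neg, Matrix.trace_neg, hct]
            intro e; exact h3 (by linear_combination -e)
          · rw [Matrix.SpecialLinearGroup.coe_neg, Matrix.trace_neg, hct, h, neg_neg]
          · have e : Matrix.SpecialLinearGroup.toGL (-cg) = (z : GL (Fin 2) F) * c := Units.ext (by
              show (-cg).1 = Z * cg.1
              rw [hZ1, Matrix.SpecialLinearGroup.coe_neg, neg_one_mul])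
            rw [e]; exact Subgroup.mul_mem _ hzN hcN
        · refine ⟨cg, ⟨?_, ?_⟩, hcN⟩
          · rw [hct]; intro e; exact h3 (by linear_combination -e)
          · rw [hct, h]
    obtain ⟨g, hg⟩ := conj_sl ht.1 ht.2.symm
    refine ⟨Matrix.SpecialLinearGroup.toGL g, hmem g, ?_⟩
    rw [← map_inv, ← map_mul, ← map_mul, hg]
    exact htN

end Cfsg.Agent.S5997
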