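import Cfsg.Statements.S5998
import Cfsg.Agent.Lib.Heis27.Linear
import Cfsg.Agent.Lib.SLCard

set_option autoImplicit false
open scoped MatrixGroups
open Cfsg

namespace Cfsg.Agent.S5998

open CfsgLib.Heis27 in
theorem not_81 {F : Type*} [Field F] [Fintype F] {p : ℕ} (hF : Fintype.card F = p) (hp3 : p % 3 = 1)
    (h9 : p % 9 ≠ 1) :
    ¬ 81 ∣ Nat.card ↥(⊤ ⊓ (Matrix.GeneralLinearGroup.det : GL (Fin 3) F →* Fˣ).ker) := by
  rw [top_inf_eq]
  intro h
  have hi : (Matrix.GeneralLinearGroup.det : GL (Fin 3) F →* Fˣ).ker.index = p - 1 := by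
    rw [Subgroup.index_ker, MonoidHom.range_eq_top.mpr fun u => ⟨dg ![u, 1, 1], by
      rw [det_dg, Fin.prod_univ_three]; simp⟩, Subgroup.card_top, Nat.card_units, Nat.card_eq_fintype_card, hF]
  have hc := Subgroup.index_mul_card (Matrix.GeneralLinearGroup.det : GL (Fin 3) F →* Fˣ).ker
  rw [hi, Matrix.card_GL_field, hF, Fin.prod_univ_three] at hc
  simp only [Fin.val_zero, Fin.val_one, Fin.val_two, pow_zero, pow_one] at hc
  obtain ⟨m, hm⟩ := h
  have hp1 : 1 ≤ p := by omega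
  have hpp : p ≤ p ^ 3 := Nat.le_self_pow (by norm_num) p
  have hpp2 : p ^ 2 ≤ p ^ 3 := Nat.pow_le_pow_right hp1 (by norm_num)
  have key := congrArg (fun n : ℕ => (n : ℤ)) hc
  simp only [Nat.cast_mul, Nat.cast_sub hp1, Nat.cast_sub (Nat.one_le_pow 3 p hp1), Nat.cast_sub hpp,
    Nat.cast_sub hpp2, Nat.cast_pow, Nat.cast_one, hm, Nat.cast_ofNat] at key
  have hne : ((p : ℤ) - 1) ≠ 0 := by omega
  have key2 : (81 * (m : ℤ)) = ((p : ℤ) ^ 2 + p + 1) * ((p : ℤ) * ((p : ℤ) - 1) * ((p : ℤ) + 1)) * ((p : ℤ) ^ 2 * ((p : ℤ) - 1)) := by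
    apply mul_left_cancel₀ hne
    rw [key]; ring
  have key3 := congrArg (fun n : ℤ => (n : ZMod 81)) key2
  push_cast at key3
  rw [show (81 : ZMod 81) = 0 by decide, zero_mul] at key3
  have hdec : ∀ x : ZMod 81, (x.val % 9 = 4 ∨ x.val % 9 = 7) →
      (x ^ 2 + x + 1) * (x * (x - 1) * (x + 1)) * (x ^ 2 * (x - 1)) ≠ 0 := by decide +kernel
  refine hdec (p : ZMod 81) ?_ key3.symm
  rw [ZMod.val_natCast, Nat.mod_mod_of_dvd p (show 9 ∣ 81 by norm_num)]
  omega

/-- Elements of prime order of PSL_3(p), p ≡ 1 (mod 3), and the normalizer of an extraspecial subgroup of order 27. Here `T = PSL_3(F)` for the field `F` with `p` elements, `p` a prime with `p ≡ 1 (mod 3)`; `R` is a non-abelian subgroup of GL_3(F) of order 27 and exponent 3 (an extraspecial group 3^{1+2}, acting absolutely irreducibly), and `H` is the subgroup of matrices of determinant 1 normalizing `R` — a subgroup of type 3^{1+2}.Sp₂(3) (maximality is not assumed). Ω is the set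 of cosets of `H` in `T`, so an element of `T` of prime order `r` (a matrix `x` of determinant 1 with `x^r` scalar, `x` not scalar) fixes a point of Ω exactly when some conjugate of `x` by a matrix of determinant 1 normalizes `R`. Let `r` be a prime dividing the index of `H`. Then every element of `T` of order `r` fixes a point of Ω if and only if `r = 2`, or `r = 3` and `p ≡ 1 (mod 9)`. -/
theorem result {F : Type*} [Field F] [Fintype F] {p : ℕ} [Fact p.Prime] [CharP F p] (hF : Fintype.card F = p) (hp3 : p % 3 = 1)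
    (R : Subgroup (GL (Fin 3) F)) (hR : Nat.card R = 27) (hRe : Monoid.exponent R = 3) (hRna : ¬ IsMulCommutative R)
    (r : ℕ) [Fact r.Prime]
    (hΩ : r ∣ (Cfsg.Geo.subgroupNormalizer R).relIndex (Cfsg.Geo.specialLinear (Fin 3) F)) :
    (∀ x ∈ Cfsg.Geo.specialLinear (Fin 3) F, (∃ z : F, ((x ^ r : GL (Fin 3) F) : Matrix (Fin 3) (Fin 3) F) = z • (1 : Matrix (Fin 3) (Fin 3) F)) →
      (∀ z : F, (x : Matrix (Fin 3) (Fin 3) F) ≠ z • (1 : Matrix (Fin 3) (Fin 3) F)) →
      ∃ g ∈ Cfsg.Geo.specialLinear (Fin 3) F, g⁻¹ * x * g ∈ Cfsg.Geo.subgroupNormalizer R) ↔ (r = 2 ∨ (r = 3 ∧ p % 9 = 1)) := by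
  have hp := (Fact.out : p.Prime)
  have hp2 : p ≠ 2 := by rintro rfl; omega
  have hcast : ∀ n : ℕ, 0 < n → n < p → (n : F) ≠ 0 := fun n h0 hn h => by
    have := Nat.le_of_dvd h0 ((CharP.cast_eq_zero_iff F p n).mp h)
    omega
  have hp4 : 4 ≤ p := by have := hp.two_le; omega
  have h3 : (3 : F) ≠ 0 := by simpa using hcast 3 (by norm_num) (by omega)
  have h2 : (2 : F) ≠ 0 := by simpa using hcast 2 (by norm_num) (by omega)
  have hcardU : Nat.card Fˣ = p - 1 := by rw [Nat.card_units, Nat.card_eq_fintype_card, hF]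
  obtain ⟨u, hu⟩ := IsCyclic.exists_ofOrder_eq_natCard (α := Fˣ)
  rw [hcardU] at hu
  have hroot : ∀ k, k ∣ p - 1 → IsPrimitiveRoot ((u ^ ((p - 1) / k) : Fˣ) : F) k := fun k hk =>
    IsPrimitiveRoot.coe_units_iff.mpr (IsPrimitiveRoot.iff_orderOf.mpr (by
      rw [orderOf_pow_of_dvd (Nat.div_pos (Nat.le_of_dvd (by omega) hk) (Nat.pos_of_dvd_of_pos hk (by omega))).ne'
        (by rw [hu]; exact Nat.div_dvd_of_dvd hk), hu, Nat.div_div_self hk (by omega)]))
  obtain ⟨g, ω, hstd⟩ := CfsgLib.Heis27.exists_std h3 (hroot 3 (by omega)) R hR hRe hRna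
  have key := CfsgLib.Heis27.main h3 h2 (CfsgLib.Heis27.ambient_GL h3 h2) hR le_top (Subgroup.mem_top g) hstd
    (Subgroup.mem_top _) (p % 9 = 1) (not_81 hF hp3) (fun h9 z hz => by
      have hr := hroot 9 (by omega)
      set t : Fˣ := u ^ ((p - 1) / 9)
      obtain ⟨i, -, hi⟩ := (hr.pow (by norm_num) (show 9 = 3 * 3 by norm_num)).eq_pow_of_pow_eq_one hz
      refine ⟨t ^ i, Subgroup.mem_top _, ?_⟩
      rw [Units.val_pow_eq_pow_val, ← pow_mul, mul_comm, pow_mul, hi]) r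
  rw [top_inf_eq] at key
  exact key hΩ

end Cfsg.Agent.S5998
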