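import Cfsg.Statements.S5999
import Cfsg.Agent.Lib.Heis27.Unitary

set_option autoImplicit false
open scoped MatrixGroups
open Cfsg

namespace Cfsg.Agent.S5999

theorem not_81 {F : Type*} [Field F] [Fintype F] {p : ℕ} (hF : Fintype.card F = p ^ 2) (hp3 : p % 3 = 2)
    (h9 : p % 9 ≠ 8) :
    ¬ 81 ∣ Nat.card ↥(Cfsg.GU 3 F p ⊓ (Matrix.GeneralLinearGroup.det : GL (Fin 3) F →* Fˣ).ker) := by
  intro h
  let E : Cfsg.SU 3 F p ≃ ↥(Cfsg.GU 3 F p ⊓ (Matrix.GeneralLinearGroup.det : GL (Fin 3) F →* Fˣ).ker) :=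
    { toFun := fun g => ⟨Matrix.SpecialLinearGroup.toGL g.1, Subgroup.mem_inf.mpr ⟨g.2, Units.ext g.1.2⟩⟩
      invFun := fun g => ⟨⟨g.1.1, congrArg Units.val (Subgroup.mem_inf.mp g.2).2⟩, (Subgroup.mem_inf.mp g.2).1⟩
      left_inv := fun g => rfl
      right_inv := fun g => Subtype.ext (Units.ext rfl) }
  rw [← Nat.card_congr E] at h
  obtain ⟨m, hm⟩ := h
  have hc := CfsgLib.UnitaryOrder.card_GU_eq hF (n := 3) (by norm_num)
  rw [CfsgLib.UnitaryOrder.card_GU hF, hm] at hc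
  simp only [Finset.prod_range_succ, Finset.prod_range_zero, one_mul, Nat.zero_add, Nat.even_add_one,
    Even.zero, not_true, not_false_eq_true, if_true, if_false, pow_one, Nat.reduceAdd] at hc
  norm_num at hc
  have hp1 : 1 ≤ p := by omega
  have key := congrArg (fun n : ℕ => (n : ℤ)) hc
  simp only [Nat.cast_mul, Nat.cast_add, Nat.cast_sub (Nat.one_le_pow 2 p hp1), Nat.cast_pow, Nat.cast_one,
    Nat.cast_ofNat] at key
  have hne : ((p : ℤ) + 1) ≠ 0 := by omega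
  have key2 : (81 * (m : ℤ)) = (p : ℤ) ^ 3 * ((p : ℤ) ^ 2 - 1) * ((p : ℤ) ^ 3 + 1) := by
    apply mul_left_cancel₀ hne
    rw [← key]; ring
  have key3 := congrArg (fun n : ℤ => (n : ZMod 81)) key2
  push_cast at key3
  rw [show (81 : ZMod 81) = 0 by decide, zero_mul] at key3
  have hdec : ∀ x : ZMod 81, (x.val % 9 = 2 ∨ x.val % 9 = 5) →
      x ^ 3 * (x ^ 2 - 1) * (x ^ 3 + 1) ≠ 0 := by decide +kernel
  refine hdec (p : ZMod 81) ?_ key3.symm
  rw [ZMod.val_natCast, Nat.mod_mod_of_dvd p (show 9 ∣ 81 by norm_num)]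
  omega

/-- Elements of prime order of PSU_3(p), p ≡ 2 (mod 3), and the normalizer of an extraspecial subgroup of order 27. Here `T = PSU_3(p)` for a prime `p ≥ 5` with `p ≡ 2 (mod 3)`, realised through `SU_3(p)`, the matrices of determinant 1 over the field `F` with `p²` elements preserving the hermitian form `Σ uᵢvᵢ^p`; `R` is a non-abelian subgroup of order 27 and exponent 3 of the full unitary group of that form (an extraspecial group 3^{1+2}, acting absolutely irreducibly), and `H` is the subgroup of `SU_3(p)` normalizing `R` — a subgroup of type 3^{1+2}.Sp₂(3) (maximality is not assumed). Ω is the set of cosets of `H`, so an element of `T` of prime order `r` (`x ∈ SU_3(p)` with `x^r` scalar, `x` not scalar) fixes a point of Ω exactly when some `SU_3(p)`-conjugate of `x` normalizes `R`. Let `r` be a prime dividing the index of `H`. Then every element of `T` of order `r` fixes a point of Ω if and only if `r = 2`, or `r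 = 3` and `p ≡ 8 (mod 9)`. -/
theorem result {F : Type*} [Field F] [Fintype F] {p : ℕ} [Fact p.Prime] [CharP F p] (hF : Fintype.card F = p ^ 2) (hp : 5 ≤ p) (hp3 : p % 3 = 2)
    (R : Subgroup (GL (Fin 3) F)) (hRU : R ≤ Cfsg.GU 3 F p) (hR : Nat.card R = 27) (hRe : Monoid.exponent R = 3) (hRna : ¬ IsMulCommutative R)
    (r : ℕ) [Fact r.Prime]
    (hΩ : r ∣ (Cfsg.Geo.subgroupNormalizer R).relIndex (Cfsg.GU 3 F p ⊓ Cfsg.Geo.specialLinear (Fin 3) F)) :
    (∀ x ∈ Cfsg.GU 3 F p ⊓ Cfsg.Geo.specialLinear (Fin 3) F, (∃ z : F, ((x ^ r : GL (Fin 3) F) : Matrix (Fin 3) (Fin 3) F) = z • (1 : Matrix (Fin 3) (Fin 3) F)) →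
      (∀ z : F, (x : Matrix (Fin 3) (Fin 3) F) ≠ z • (1 : Matrix (Fin 3) (Fin 3) F)) →
      ∃ g ∈ Cfsg.GU 3 F p ⊓ Cfsg.Geo.specialLinear (Fin 3) F, g⁻¹ * x * g ∈ Cfsg.Geo.subgroupNormalizer R) ↔ (r = 2 ∨ (r = 3 ∧ p % 9 = 8)) := by
  have hpp := (Fact.out : p.Prime)
  have hcast : ∀ n : ℕ, 0 < n → n < p → (n : F) ≠ 0 := fun n h0 hn h => by
    have := Nat.le_of_dvd h0 ((CharP.cast_eq_zero_iff F p n).mp h)
    omega
  have h3 : (3 : F) ≠ 0 := by simpa using hcast 3 (by norm_num) (by omega)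
  have h2 : (2 : F) ≠ 0 := by simpa using hcast 2 (by norm_num) (by omega)
  obtain ⟨u, hu⟩ := CfsgLib.UnitaryBasic.exists_zeta hF
  have hroot : ∀ k, k ∣ p + 1 → IsPrimitiveRoot ((u ^ ((p + 1) / k) : Fˣ) : F) k := fun k hk =>
    IsPrimitiveRoot.coe_units_iff.mpr (IsPrimitiveRoot.iff_orderOf.mpr (by
      rw [orderOf_pow_of_dvd (Nat.div_pos (Nat.le_of_dvd (by omega) hk) (Nat.pos_of_dvd_of_pos hk (by omega))).ne'
        (by rw [hu]; exact Nat.div_dvd_of_dvd hk), hu, Nat.div_div_self hk (by omega)]))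
  have hq3 : 3 ∣ p + 1 := by omega
  have heven : Even (p + 1) := (hpp.odd_of_ne_two (by omega)).add_odd odd_one
  obtain ⟨g, ω, hg, hstd⟩ := CfsgLib.Heis27.exists_std_unitary hF h3 (hroot 3 hq3) hq3 R hRU hR hRe hRna
  exact CfsgLib.Heis27.main h3 h2 (CfsgLib.Heis27.ambient_GU hF h3 h2 heven hq3) hR hRU hg hstd
    (by rw [MonoidHom.mem_ker, powMonoidHom_apply, heven.neg_one_pow]) (p % 9 = 8) (not_81 hF hp3)
    (fun h9 z hz => by
      have hr := hroot 9 (by omega)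
      set t : Fˣ := u ^ ((p + 1) / 9)
      obtain ⟨i, -, hi⟩ := (hr.pow (by norm_num) (show 9 = 3 * 3 by norm_num)).eq_pow_of_pow_eq_one hz
      refine ⟨t ^ i, ?_, ?_⟩
      · rw [MonoidHom.mem_ker, powMonoidHom_apply, ← pow_mul, ← pow_mul,
          show (p + 1) / 9 * (i * (p + 1)) = (p + 1) * ((p + 1) / 9 * i) by ring, pow_mul, ← hu,
          pow_orderOf_eq_one, one_pow]
      · rw [Units.val_pow_eq_pow_val, ← pow_mul, mul_comm, pow_mul, hi]) r hΩ

end Cfsg.Agent.S5999
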