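import Cfsg.Statements.S6000
import Cfsg.Agent.Lib.PauliFour.Linear
-- import your own Cfsg.Agent.* helpers here

set_option autoImplicit false
open scoped MatrixGroups
open Cfsg CfsgLib.PauliFour

namespace Cfsg.Agent.S6000

/-- Elements of prime order of PSL_4(p), p ≡ 1 (mod 4), and the normalizer of a 2-group of symplectic type of order 2⁶. Here `T = PSL_4(F)` for the field `F` with `p` elements, `p` a prime with `p ≡ 1 (mod 4)`; `R` is an absolutely irreducible subgroup of GL_4(F) of order 2⁶ that is a 2-group of symplectic type of exponent 4 with centre of order 4 (the central product of the scalars of order 4 with an extraspecial group 2^{1+4}), and `H` is the subgroup of matrices of determinant 1 normalizing `R` — a subgroup of type 2⁴.Sp₄(2) (maximality is not assumed). Ω is the set of cosets of `H` in `T`, so an element of `T` of prime order `r` (a matrix `x` of determinant 1 with `x^r` scalar, `x` not scalar) fixes a point of Ω exactly when some conjugate of `x` by a matrix of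 determinant 1 normalizes `R`. Let `r` be a prime dividing the index of `H`. Then every element of `T` of order `r` fixes a point of Ω if and only if `r = 2`, or `r = 3` and `p ≡ 2 (mod 3)`, or `r = 5` and `p ≡ ±2 (mod 5)` (`p` has multiplicative order 4 modulo 5). -/
theorem result {F : Type*} [Field F] [Fintype F] {p : ℕ} [Fact p.Prime] [CharP F p] (hF : Fintype.card F = p) (hp4 : p % 4 = 1)
    (R : Subgroup (GL (Fin 4) F)) (hR : Cfsg.Geo.IsLinearSymplecticTypeData 2 R) (hR6 : Nat.card R = 2 ^ 6)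
    (r : ℕ) [Fact r.Prime]
    (hΩ : r ∣ (Cfsg.Geo.subgroupNormalizer R).relIndex (Cfsg.Geo.specialLinear (Fin 4) F)) :
    (∀ x ∈ Cfsg.Geo.specialLinear (Fin 4) F, (∃ z : F, ((x ^ r : GL (Fin 4) F) : Matrix (Fin 4) (Fin 4) F) = z • (1 : Matrix (Fin 4) (Fin 4) F)) →
      (∀ z : F, (x : Matrix (Fin 4) (Fin 4) F) ≠ z • (1 : Matrix (Fin 4) (Fin 4) F)) →
      ∃ g ∈ Cfsg.Geo.specialLinear (Fin 4) F, g⁻¹ * x * g ∈ Cfsg.Geo.subgroupNormalizer R) ↔ (r = 2 ∨ (r = 3 ∧ p % 3 = 2) ∨ (r = 5 ∧ orderOf (p : ZMod 5) = 4)) := by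
  haveI := Nat.finite_of_card_ne_zero (show Nat.card R ≠ 0 by rw [hR6]; norm_num)
  have hp := (Fact.out : p.Prime)
  have hp2 : p ≠ 2 := by rintro rfl; omega
  have hp3 : p ≠ 3 := by rintro rfl; omega
  have h2 : (2 : F) ≠ 0 := by exact_mod_cast (small_cast (p := p) Nat.prime_two hp2 : ((2 : ℕ) : F) ≠ 0)
  have h3 : (3 : F) ≠ 0 := by exact_mod_cast (small_cast (p := p) Nat.prime_three hp3 : ((3 : ℕ) : F) ≠ 0)
  have hk : Nat.card (Subgroup.center R) = 4 := by
    obtain ⟨_, _, _, _, h⟩ := hR.field; rcases h with h | h | h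
    · exact absurd h.1 (by decide)
    · exact h.2.2.1
    · rw [hR6] at h; norm_num at h
  have h := Sys.of_hyp h2 (Fintype.card_fin 4) hR.symplecticType hR.absIrred (Or.inl ⟨hk, hR6⟩)
  haveI := h.nonempty
  have hsub : Cfsg.Geo.specialLinear (Fin 4) F = detOne ⊤ := (top_inf_eq _).symm
  rw [hsub] at hΩ ⊢
  change AllConj R ⊤ r ↔ _
  obtain ⟨u, hu⟩ := IsCyclic.exists_ofOrder_eq_natCard (α := Fˣ)
  rw [Nat.card_units, Nat.card_eq_fintype_card, hF] at hu
  have hroot : ∀ k, k ∣ p - 1 → IsPrimitiveRoot ((u ^ ((p - 1) / k) : Fˣ) : F) k := fun k hk =>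
    IsPrimitiveRoot.coe_units_iff.mpr (IsPrimitiveRoot.iff_orderOf.mpr (by
      rw [orderOf_pow_of_dvd (Nat.div_pos (Nat.le_of_dvd (by have := hp.two_le; omega) hk) (Nat.pos_of_dvd_of_pos hk (by have := hp.two_le; omega))).ne'
        (by rw [hu]; exact Nat.div_dvd_of_dvd hk), hu, Nat.div_div_self hk (by have := hp.two_le; omega)]))
  set i : Fˣ := u ^ ((p - 1) / 4)
  have hi4 : IsPrimitiveRoot (i : F) 4 := hroot 4 (by omega)
  have hi : (i : F) * i = -1 := by
    rw [← pow_two]
    exact (hi4.pow (by norm_num) (show 4 = 2 * 2 by norm_num)).eq_neg_one_of_two_right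
  have hi1 : i ^ 4 = 1 := Units.ext (by rw [Units.val_pow_eq_pow_val, hi4.pow_eq_one, Units.val_one])
  have hiR := h.scalar_mem hk hi1
  obtain ⟨f⟩ := h.exists_frame (Or.inl ⟨sc i, hiR, Units.ext (by
    rw [Units.val_mul, coe_sc, smul_mul_smul_comm, hi, one_mul, Units.val_neg, Units.val_one, neg_one_smul]),
    fun g => sc_comm i g⟩)
  have hA := amb_linear R
  have hord := order_four_iff p
  constructor
  · intro hall
    by_contra hcon
    push Not at hcon
    obtain ⟨c2, c3, c5⟩ := hcon
    have hr := (Fact.out : r.Prime)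
    have hr2 := hr.two_le
    rcases (show r = 3 ∨ r = 5 ∨ 5 < r by
      rcases Nat.lt_or_ge 5 r with hh | hh
      · exact Or.inr (Or.inr hh)
      · interval_cases r
        · exact absurd rfl c2
        · exact Or.inl rfl
        · norm_num at hr
        · exact Or.inr (Or.inl rfl)) with rfl | rfl | h5
    · -- a homology
      have hp31 : p % 3 = 1 := by
        have := c3 rfl
        have : p % 3 ≠ 0 := fun e => hp3 ((Nat.prime_dvd_prime_iff_eq Nat.prime_three hp).1 (Nat.dvd_of_mod_eq_zero e)).symm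
        omega
      have hω := hroot 3 (by omega)
      set ω : F := ((u ^ ((p - 1) / 3) : Fˣ) : F)
      have hsum : 1 + ω + ω ^ 2 = 0 := by
        have := hω.geom_sum_eq_zero (by norm_num)
        simpa [Finset.sum_range_succ] using this
      have hω3 := hω.pow_eq_one
      obtain ⟨x, hxS, hx⟩ := exists_unit (M := Matrix.diagonal ![1, ω, ω, ω]) (by
        rw [Matrix.det_diagonal, Fin.prod_univ_four]; simp; linear_combination hω3)
      refine neg_trace h f (by norm_num) hxS ?_ ?_ (fun y hy hy3 hys => ?_) hall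
      · refine Units.ext ?_
        rw [Units.val_pow_eq_pow_val, hx, Matrix.diagonal_pow, Units.val_one, ← Matrix.diagonal_one]
        congr 1; funext j; fin_cases j <;> simp [hω3]
      · rintro ⟨c, hc⟩
        have e := congrArg (fun w : GL (Fin 4) F => (w : Matrix (Fin 4) (Fin 4) F)) hc
        simp only [hx, coe_sc] at e
        have e0 := congrFun (congrFun e 0) 0
        have e1 := congrFun (congrFun e 1) 1
        simp at e0 e1
        exact hω.ne_one (by norm_num) (e1.trans e0.symm)
      · have hinv : ((x⁻¹ : GL (Fin 4) F) : Matrix (Fin 4) (Fin 4) F) = Matrix.diagonal ![1, ω ^ 2, ω ^ 2, ω ^ 2] := by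
          refine Units.inv_eq_of_mul_eq_one_right ?_
          rw [hx, Matrix.diagonal_mul_diagonal, ← Matrix.diagonal_one]
          congr 1; funext j; fin_cases j <;> simp [← pow_succ', hω3]
        rw [hinv, hx, Matrix.trace_diagonal, Matrix.trace_diagonal, Fin.sum_univ_four, Fin.sum_univ_four]
        obtain ⟨h71, h74⟩ := cube_ne h2 h3
        have e7 : ((![1, ω, ω, ω] : Fin 4 → F) 0 + (![1, ω, ω, ω] : Fin 4 → F) 1 + (![1, ω, ω, ω] : Fin 4 → F) 2 +
            (![1, ω, ω, ω] : Fin 4 → F) 3) * ((![1, ω ^ 2, ω ^ 2, ω ^ 2] : Fin 4 → F) 0 + (![1, ω ^ 2, ω ^ 2, ω ^ 2] : Fin 4 → F) 1 +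
            (![1, ω ^ 2, ω ^ 2, ω ^ 2] : Fin 4 → F) 2 + (![1, ω ^ 2, ω ^ 2, ω ^ 2] : Fin 4 → F) 3) = 7 := by
          simp only [Matrix.cons_val_zero, Matrix.cons_val_one, Matrix.cons_val]
          linear_combination 3 * hsum + 9 * hω3
        rw [e7]
        rcases nfix_cases f h hy (r := 3) (by norm_num) hy3 hys with ⟨-, e | e⟩ | ⟨e, -⟩
        · rw [e, Nat.cast_one]; exact h71
        · rw [e]; push_cast; exact h74
        · norm_num at e
    · have hno : ¬ (p % 5 = 2 ∨ p % 5 = 3) := fun e => c5 rfl (hord.2 e)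
      by_cases hp5 : p = 5
      · subst hp5
        exact linear_transvection h f hp2 hall
      have hp50 : p % 5 ≠ 0 := fun e => hp5 ((Nat.prime_dvd_prime_iff_eq Nat.prime_five hp).1 (Nat.dvd_of_mod_eq_zero e)).symm
      obtain ⟨τ, hτ, -⟩ := exists_tau (F := F) (p := p) hp2 (by omega)
      have h5 : (5 : F) ≠ 0 := by exact_mod_cast (small_cast (p := p) Nat.prime_five hp5 : ((5 : ℕ) : F) ≠ 0)
      set M : Matrix (Fin 4) (Fin 4) F := !![0, -1, 0, 0; 1, τ, 0, 0; 0, 0, 1, 0; 0, 0, 0, 1] with hM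
      obtain ⟨x, hxS, hx⟩ := exists_unit (M := M) (by
        rw [hM, Matrix.det_succ_row_zero]; simp [Fin.sum_univ_succ, Matrix.det_fin_three, Fin.succAbove])
      have hM5 : M ^ 5 = 1 := five_pow hτ (by
        rw [hM]; ext a b
        fin_cases a <;> fin_cases b <;> simp [Matrix.mul_apply, Fin.sum_univ_four, Matrix.one_apply] <;> ring)
      refine neg_trace h f (by norm_num) hxS ?_ ?_ (fun y hy hy5 hys => ?_) hall
      · exact Units.ext (by rw [Units.val_pow_eq_pow_val, hx, hM5, Units.val_one])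
      · rintro ⟨c, hc⟩
        have := congrArg (fun w : GL (Fin 4) F => (w : Matrix (Fin 4) (Fin 4) F) 1 0) hc
        simp [hx, hM] at this
      · have hinv : ((x⁻¹ : GL (Fin 4) F) : Matrix (Fin 4) (Fin 4) F) =
            !![τ, 1, 0, 0; -1, 0, 0, 0; 0, 0, 1, 0; 0, 0, 0, 1] := by
          refine Units.inv_eq_of_mul_eq_one_right ?_
          rw [hx, hM]; ext a b
          fin_cases a <;> fin_cases b <;> simp [Matrix.mul_apply, Fin.sum_univ_four]
        rw [hinv, hx]
        rcases nfix_cases f h hy (r := 5) (by norm_num) hy5 hys with ⟨e, -⟩ | ⟨-, e⟩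
        · norm_num at e
        · rw [e, Nat.cast_one]
          intro e1
          apply tau_product h5 hτ
          rw [← e1]
          simp [Matrix.trace, Fin.sum_univ_four, hM]
          ring
    · exact neg_big h f h5 (relIndex_det hΩ) hall
  · rintro (rfl | ⟨rfl, hp32⟩ | ⟨rfl, ho⟩)
    · exact pos_two h f hA fun x _ e _ _ _ => ⟨i, hi, hiR, Subgroup.mem_top _⟩
    · refine pos_three h f hA h3 hi hiR fun y _ hy3 => ?_
      have key := rts_linear (p := p) hF (r := 3) (k := 2) (fun t ht => by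
        conv_lhs => rw [← Nat.mod_add_div p 3, hp32, pow_add, pow_mul, ht, one_pow, mul_one]) hy3
      conv_rhs => rw [← key]
      refine Multiset.map_congr rfl fun t ht => inv_eq_of_mul_eq_one_right ?_
      rw [← pow_succ', rts_pow (z := 1) (by rw [← Units.val_pow_eq_pow_val, hy3, Units.val_one, one_smul]) ht, map_one]
    · have h5 : (5 : F) ≠ 0 := by
        have hp5 : p ≠ 5 := by rintro rfl; have := hord.1 ho; omega
        exact_mod_cast (small_cast (p := p) Nat.prime_five hp5 : ((5 : ℕ) : F) ≠ 0)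
      exact pos_five h f hA h5 (g₀ := p % 5) (hord.1 ho) fun y _ hy5 =>
        rts_linear (p := p) hF (r := 5) (fun t ht => pow_mod_five ht p) hy5

end Cfsg.Agent.S6000
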