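import Cfsg.Statements.S6001
import Cfsg.Agent.Lib.PauliFour.Unitary
-- import your own Cfsg.Agent.* helpers here

set_option autoImplicit false
open scoped MatrixGroups
open Cfsg CfsgLib.PauliFour

namespace Cfsg.Agent.S6001

/-- Elements of prime order of PSU_4(p), p ≡ 3 (mod 4), and the normalizer of a 2-group of symplectic type of order 2⁶. Here `T = PSU_4(p)` for a prime `p ≡ 3 (mod 4)`, realised through `SU_4(p)`, the matrices of determinant 1 over the field `F` with `p²` elements preserving the hermitian form `f = Σ uᵢvᵢ^p`; `R` is an absolutely irreducible subgroup of the full unitary group of `f` of order 2⁶ that is a 2-group of symplectic type of exponent 4 with centre of order 4, and `H` is the subgroup of `SU_4(p)` normalizing `R` — a subgroup of type 2⁴.Sp₄(2) (maximality is not assumed). Ω is the set of cosets of `H`, so an element of `T` of prime order `r` (`x ∈ SU_4(p)` with `x^r` scalar, `x` not scalar) fixes a point of Ω exactly when some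 `SU_4(p)`-conjugate of `x` normalizes `R`. Let `r` be a prime dividing the index of `H`. Then every element of `T` of order `r` fixes a point of Ω if and only if `r = 2`, or `r = 3` and `p ≡ 1 (mod 3)`, or `r = 5` and `p ≡ ±2 (mod 5)` (`p` has multiplicative order 4 modulo 5). -/
theorem result {F : Type*} [Field F] [Fintype F] {p : ℕ} [Fact p.Prime] [CharP F p] (hF : Fintype.card F = p ^ 2) (hp4 : p % 4 = 3)
    (R : Subgroup (GL (Fin 4) F)) (hRs : Cfsg.Geo.IsSymplecticTypeGroup 2 R) (hRi : Cfsg.Geo.ActsAbsolutelyIrreducibly (Cfsg.Geo.matrixSet R))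
    (hRU : R ≤ Cfsg.GU 4 F p) (hR6 : Nat.card R = 2 ^ 6) (hRZ : Nat.card (Subgroup.center R) = 4)
    (r : ℕ) [Fact r.Prime]
    (hΩ : r ∣ (Cfsg.Geo.subgroupNormalizer R).relIndex (Cfsg.GU 4 F p ⊓ Cfsg.Geo.specialLinear (Fin 4) F)) :
    (∀ x ∈ Cfsg.GU 4 F p ⊓ Cfsg.Geo.specialLinear (Fin 4) F, (∃ z : F, ((x ^ r : GL (Fin 4) F) : Matrix (Fin 4) (Fin 4) F) = z • (1 : Matrix (Fin 4) (Fin 4) F)) →
      (∀ z : F, (x : Matrix (Fin 4) (Fin 4) F) ≠ z • (1 : Matrix (Fin 4) (Fin 4) F)) →
      ∃ g ∈ Cfsg.GU 4 F p ⊓ Cfsg.Geo.specialLinear (Fin 4) F, g⁻¹ * x * g ∈ Cfsg.Geo.subgroupNormalizer R) ↔ (r = 2 ∨ (r = 3 ∧ p % 3 = 1) ∨ (r = 5 ∧ orderOf (p : ZMod 5) = 4)) := by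
  haveI := Nat.finite_of_card_ne_zero (show Nat.card R ≠ 0 by rw [hR6]; norm_num)
  have hp := (Fact.out : p.Prime)
  have hp2 : p ≠ 2 := by rintro rfl; omega
  have hp5 : p ≠ 5 := by rintro rfl; omega
  have h2 : (2 : F) ≠ 0 := by exact_mod_cast (small_cast (p := p) Nat.prime_two hp2 : ((2 : ℕ) : F) ≠ 0)
  have h5 : (5 : F) ≠ 0 := by exact_mod_cast (small_cast (p := p) Nat.prime_five hp5 : ((5 : ℕ) : F) ≠ 0)
  have h := Sys.of_hyp h2 (Fintype.card_fin 4) hRs hRi (Or.inl ⟨hRZ, hR6⟩)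
  haveI := h.nonempty
  have hsub : Cfsg.GU 4 F p ⊓ Cfsg.Geo.specialLinear (Fin 4) F = detOne (Cfsg.GU 4 F p) := rfl
  rw [hsub] at hΩ ⊢
  change AllConj R (Cfsg.GU 4 F p) r ↔ _
  obtain ⟨u, hu⟩ := IsCyclic.exists_ofOrder_eq_natCard (α := Fˣ)
  rw [Nat.card_units, Nat.card_eq_fintype_card, hF] at hu
  have hsq : p ^ 2 - 1 = (p + 1) * (p - 1) := by rw [← one_pow 2, Nat.sq_sub_sq, one_pow]
  have hroot : ∀ k, k ∣ p + 1 → IsPrimitiveRoot ((u ^ ((p ^ 2 - 1) / k) : Fˣ) : F) k := fun k hk => by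
    have hk0 : 0 < k := Nat.pos_of_dvd_of_pos hk (Nat.succ_pos p)
    have hd : k ∣ p ^ 2 - 1 := hsq ▸ dvd_mul_of_dvd_left hk _
    have hpos : 0 < p ^ 2 - 1 := by have := hp.two_le; rw [hsq]; exact Nat.mul_pos (by omega) (by omega)
    refine IsPrimitiveRoot.coe_units_iff.mpr (IsPrimitiveRoot.iff_orderOf.mpr ?_)
    rw [orderOf_pow_of_dvd (Nat.div_pos (Nat.le_of_dvd hpos hd) hk0).ne' (by rw [hu]; exact Nat.div_dvd_of_dvd hd),
      hu, Nat.div_div_self hd hpos.ne']
  set i : Fˣ := u ^ ((p ^ 2 - 1) / 4)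
  have hi4 : IsPrimitiveRoot (i : F) 4 := hroot 4 (by omega)
  have hi : (i : F) * i = -1 := by
    rw [← pow_two]
    exact (hi4.pow (by norm_num) (show 4 = 2 * 2 by norm_num)).eq_neg_one_of_two_right
  have hip : (i : F) ^ p = -i := by
    conv_lhs => rw [← Nat.mod_add_div p 4, hp4, pow_add, pow_mul, hi4.pow_eq_one, one_pow, mul_one,
      pow_succ, pow_two, hi, neg_one_mul]
  have hi1 : i ^ 4 = 1 := Units.ext (by rw [Units.val_pow_eq_pow_val, hi4.pow_eq_one, Units.val_one])
  have hiR := h.scalar_mem hRZ hi1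
  obtain ⟨f⟩ := h.exists_frame (Or.inl ⟨sc i, hiR, Units.ext (by
    rw [Units.val_mul, coe_sc, smul_mul_smul_comm, hi, one_mul, Units.val_neg, Units.val_one, neg_one_smul]),
    fun g => sc_comm i g⟩)
  have hA : Amb R (Cfsg.GU 4 F p) := amb_unitary (p := p) hF hRU
  have hord := order_four_iff p
  constructor
  · intro hall
    by_contra hcon
    push Not at hcon
    obtain ⟨c2, c3, c5⟩ := hcon
    have hr := (Fact.out : r.Prime)
    have hr2 := hr.two_le
    rcases (show r = 3 ∨ r = 5 ∨ 5 < r by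
      rcases Nat.lt_or_ge 5 r with hh | hh
      · exact Or.inr (Or.inr hh)
      · interval_cases r
        · exact absurd rfl c2
        · exact Or.inl rfl
        · norm_num at hr
        · exact Or.inr (Or.inl rfl)) with rfl | rfl | h7
    · by_cases hp3 : p = 3
      · subst hp3
        exact unitary_transvection hF h f hp2 (Units.ne_zero i) hip hall
      have h3 : (3 : F) ≠ 0 := by exact_mod_cast (small_cast (p := p) Nat.prime_three hp3 : ((3 : ℕ) : F) ≠ 0)
      have hp32 : p % 3 = 2 := by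
        have := c3 rfl
        have : p % 3 ≠ 0 := fun e => hp3 ((Nat.prime_dvd_prime_iff_eq Nat.prime_three hp).1 (Nat.dvd_of_mod_eq_zero e)).symm
        omega
      have hω := hroot 3 (by omega)
      set w : Fˣ := u ^ ((p ^ 2 - 1) / 3)
      set ω : F := (w : F) with hωd
      have hsum : 1 + ω + ω ^ 2 = 0 := by
        have := hω.geom_sum_eq_zero (by norm_num)
        simpa [Finset.sum_range_succ] using this
      have hω3 := hω.pow_eq_one
      have hωn : ω ^ (p + 1) = 1 := by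
        rw [← Nat.mul_div_cancel' (show 3 ∣ p + 1 by omega), pow_mul, hω3, one_pow]
      obtain ⟨x, hxS, hx⟩ : ∃ x : GL (Fin 4) F, x ∈ detOne (Cfsg.GU 4 F p) ∧
          (x : Matrix (Fin 4) (Fin 4) F) = Matrix.diagonal ![1, ω, ω, ω] := by
        have hco : ((CfsgLib.UnitaryBasic.dgl ![1, w, w, w] : GL (Fin 4) F) : Matrix (Fin 4) (Fin 4) F) =
            Matrix.diagonal ![1, ω, ω, ω] := by
          show Matrix.diagonal _ = _
          congr 1; funext j; fin_cases j <;> simp [hωd]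
        refine ⟨_, ⟨CfsgLib.UnitaryBasic.dgl_mem _ fun j => ?_, MonoidHom.mem_ker.2 (Units.ext ?_)⟩, hco⟩
        · have hwn : w ^ (p + 1) = 1 := Units.ext (by rw [Units.val_pow_eq_pow_val, Units.val_one]; exact hωn)
          fin_cases j <;> simp [hwn]
        · show Matrix.det _ = (1 : F)
          rw [hco, Matrix.det_diagonal, Fin.prod_univ_four]; simp; linear_combination hω3
      refine neg_trace h f (by norm_num) hxS ?_ ?_ (fun y hy hy3 hys => ?_) hall
      · refine Units.ext ?_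
        rw [Units.val_pow_eq_pow_val, hx, Matrix.diagonal_pow, Units.val_one, ← Matrix.diagonal_one]
        congr 1; funext j; fin_cases j <;> simp [hω3]
      · rintro ⟨c, hc⟩
        have e := congrArg (fun v : GL (Fin 4) F => (v : Matrix (Fin 4) (Fin 4) F)) hc
        simp only [hx, coe_sc] at e
        have e0 := congrFun (congrFun e 0) 0
        have e1 := congrFun (congrFun e 1) 1
        simp at e0 e1
        exact hω.ne_one (by norm_num) (e1.trans e0.symm)
      · have hinv : ((x⁻¹ : GL (Fin 4) F) : Matrix (Fin 4) (Fin 4) F) = Matrix.diagonal ![1, ω ^ 2, ω ^ 2, ω ^ 2] := by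
          refine Units.inv_eq_of_mul_eq_one_right ?_
          rw [hx, Matrix.diagonal_mul_diagonal, ← Matrix.diagonal_one]
          congr 1; funext j; fin_cases j <;> simp [← pow_succ', hω3]
        rw [hinv, hx, Matrix.trace_diagonal, Matrix.trace_diagonal, Fin.sum_univ_four, Fin.sum_univ_four]
        obtain ⟨h71, h74⟩ := cube_ne h2 h3
        have e7 : ((![1, ω, ω, ω] : Fin 4 → F) 0 + (![1, ω, ω, ω] : Fin 4 → F) 1 + (![1, ω, ω, ω] : Fin 4 → F) 2 +
            (![1, ω, ω, ω] : Fin 4 → F) 3) * ((![1, ω ^ 2, ω ^ 2, ω ^ 2] : Fin 4 → F) 0 + (![1, ω ^ 2, ω ^ 2, ω ^ 2] : Fin 4 → F) 1 +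
            (![1, ω ^ 2, ω ^ 2, ω ^ 2] : Fin 4 → F) 2 + (![1, ω ^ 2, ω ^ 2, ω ^ 2] : Fin 4 → F) 3) = 7 := by
          simp only [Matrix.cons_val_zero, Matrix.cons_val_one, Matrix.cons_val]
          linear_combination 3 * hsum + 9 * hω3
        rw [e7]
        rcases nfix_cases f h hy (r := 3) (by norm_num) hy3 hys with ⟨-, e | e⟩ | ⟨e, -⟩
        · rw [e, Nat.cast_one]; exact h71
        · rw [e]; push_cast; exact h74
        · norm_num at e
    · have hno : ¬ (p % 5 = 2 ∨ p % 5 = 3) := fun e => c5 rfl (hord.2 e)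
      have hp50 : p % 5 ≠ 0 := fun e => hp5 ((Nat.prime_dvd_prime_iff_eq Nat.prime_five hp).1 (Nat.dvd_of_mod_eq_zero e)).symm
      obtain ⟨τ, hτ, hτp⟩ := exists_tau (F := F) (p := p) hp2 (by omega)
      obtain ⟨x, hxS, hx5, hxs, ht, ht'⟩ := unitary_rotation hF hp2 h5 hτ hτp
      refine neg_trace h f (by norm_num) hxS hx5 hxs (fun y hy hy5 hys => ?_) hall
      rw [ht, ht']
      rcases nfix_cases f h hy (r := 5) (by norm_num) hy5 hys with ⟨e, -⟩ | ⟨-, e⟩
      · norm_num at e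
      · rw [e, Nat.cast_one]
        exact tau_product h5 hτ
    · exact neg_big h f h7 (relIndex_det hΩ) hall
  · rintro (rfl | ⟨rfl, hp31⟩ | ⟨rfl, ho⟩)
    · exact pos_two h f hA fun x hx e h1 ht _ => ⟨i, hi, hiR, eigen_norm hF h2 hx.1 h1 ht⟩
    · have hp3 : p ≠ 3 := by rintro rfl; omega
      have h3 : (3 : F) ≠ 0 := by exact_mod_cast (small_cast (p := p) Nat.prime_three hp3 : ((3 : ℕ) : F) ≠ 0)
      refine pos_three h f hA h3 hi hiR fun y hy hy3 => ?_
      have hinv3 : ∀ t : AlgebraicClosure F, t ^ 3 = 1 → t⁻¹ = t ^ 2 := fun t ht =>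
        inv_eq_of_mul_eq_one_right (by rw [← pow_succ', ht])
      have key := rts_unitary (p := p) hF (r := 3) (k := 2) (fun t ht => by
        conv_lhs => rw [← Nat.mod_add_div p 3, hp31, pow_add, pow_mul, ht, one_pow, mul_one, pow_one]
        exact hinv3 t ht) hy.1 hy3
      conv_rhs => rw [← key]
      refine Multiset.map_congr rfl fun t ht => hinv3 t ?_
      rw [rts_pow (z := 1) (by rw [← Units.val_pow_eq_pow_val, hy3, Units.val_one, one_smul]) ht, map_one]
    · have hm := hord.1 ho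
      refine pos_five h f hA h5 (g₀ := 5 - p % 5) (by omega) fun y hy hy5 =>
        rts_unitary (p := p) hF (r := 5) (fun t ht => ?_) hy.1 hy5
      rw [pow_mod_five ht p]
      exact inv_eq_of_mul_eq_one_right (by rw [← pow_add, Nat.add_sub_cancel' (by omega), ht])

end Cfsg.Agent.S6001
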