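import Cfsg.Statements.S6002
import Cfsg.Agent.Lib.PauliFour.Symplectic
-- import your own Cfsg.Agent.* helpers here

set_option autoImplicit false
open scoped MatrixGroups
open Cfsg CfsgLib.PauliFour

namespace Cfsg.Agent.S6002

/-- Elements of prime order of PSp_4(p), p odd, and the normalizer of an extraspecial 2-group of order 2⁵ of minus type. Here `T = PSp_4(F)` for the field `F` with `p` elements, `p` an odd prime, realised through the matrices preserving the standard alternating form `f`; `R` is an absolutely irreducible subgroup of `T` (it preserves `f`) that is a 2-group of symplectic type of exponent 4, order 2⁵ and centre of order 2, of minus type (no elementary abelian subgroup of order 2³), and `H` is the subgroup of `T` normalizing `R` — a subgroup of type 2^{1+4}.O₄⁻(2) (maximality is not assumed). Ω is the set of cosets of `H` in `T`, so an element of `T` of prime order `r` (`x ∈ T` with `x^r` scalar, `x` not scalar) fixes a point of Ω exactly when some `T`-conjugate of `x` normalizes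 `R`. Let `r` be a prime dividing the index of `H`. Then every element of `T` of order `r` fixes a point of Ω if and only if `r = 2`, or `r = 5` and `p` has multiplicative order 4 modulo 5. -/
theorem result {F : Type*} [Field F] [Fintype F] {p : ℕ} [Fact p.Prime] [CharP F p] (hF : Fintype.card F = p) (hodd : Odd p)
    (R : Subgroup (GL (Fin 2 ⊕ Fin 2) F)) (hRs : Cfsg.Geo.IsSymplecticTypeGroup 2 R) (hRi : Cfsg.Geo.ActsAbsolutelyIrreducibly (Cfsg.Geo.matrixSet R))
    (hRf : R ≤ Cfsg.spGL 2 F) (hR5 : Nat.card R = 2 ^ 5) (hRZ : Nat.card (Subgroup.center R) = 2) (hRm : Cfsg.Geo.IsOfMinusType 2 R)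
    (r : ℕ) [Fact r.Prime]
    (hΩ : r ∣ (Cfsg.Geo.subgroupNormalizer R).relIndex (Cfsg.spGL 2 F)) :
    (∀ x ∈ Cfsg.spGL 2 F, (∃ z : F, ((x ^ r : GL (Fin 2 ⊕ Fin 2) F) : Matrix (Fin 2 ⊕ Fin 2) (Fin 2 ⊕ Fin 2) F) = z • (1 : Matrix (Fin 2 ⊕ Fin 2) (Fin 2 ⊕ Fin 2) F)) →
      (∀ z : F, (x : Matrix (Fin 2 ⊕ Fin 2) (Fin 2 ⊕ Fin 2) F) ≠ z • (1 : Matrix (Fin 2 ⊕ Fin 2) (Fin 2 ⊕ Fin 2) F)) →
      ∃ g ∈ Cfsg.spGL 2 F, g⁻¹ * x * g ∈ Cfsg.Geo.subgroupNormalizer R) ↔ (r = 2 ∨ (r = 5 ∧ orderOf (p : ZMod 5) = 4)) := by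
  haveI := Nat.finite_of_card_ne_zero (show Nat.card R ≠ 0 by rw [hR5]; norm_num)
  have hp := (Fact.out : p.Prime)
  have hp2 : p ≠ 2 := by rintro rfl; exact absurd hodd (by decide)
  have h2 : (2 : F) ≠ 0 := by exact_mod_cast (small_cast (p := p) Nat.prime_two hp2 : ((2 : ℕ) : F) ≠ 0)
  have hdim : Fintype.card (Fin 2 ⊕ Fin 2) = 4 := by simp
  have h := Sys.of_hyp h2 hdim hRs hRi (Or.inr ⟨hRZ, hR5⟩)
  haveI := h.nonempty
  obtain ⟨f⟩ := h.exists_frame (Or.inr fun A hA1 hA2 => hRm A hA1 hA2)
  rw [show Cfsg.spGL 2 F = detOne (Cfsg.spGL 2 F) from detOne_symp.symm] at hΩ ⊢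
  change AllConj R (Cfsg.spGL 2 F) r ↔ _
  have hA : Amb R (Cfsg.spGL 2 F) := amb_symp (p := p) hRf
  have hord := order_four_iff p
  constructor
  · intro hall
    by_contra hcon
    push Not at hcon
    obtain ⟨c2, c5⟩ := hcon
    have hr := (Fact.out : r.Prime)
    have hr2 := hr.two_le
    rcases (show r = 3 ∨ r = 5 ∨ 5 < r by
      rcases Nat.lt_or_ge 5 r with hh | hh
      · exact Or.inr (Or.inr hh)
      · interval_cases r
        · exact absurd rfl c2
        · exact Or.inl rfl
        · norm_num at hr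
        · exact Or.inr (Or.inl rfl)) with rfl | rfl | h7
    · by_cases hp3 : p = 3
      · subst hp3
        exact symp_transvection h f hp2 hall
      have h3 : (3 : F) ≠ 0 := by exact_mod_cast (small_cast (p := p) Nat.prime_three hp3 : ((3 : ℕ) : F) ≠ 0)
      obtain ⟨x, hxS, hx, hxi⟩ := exists_plane (a := (0 : F)) (b := -1) (c := 1) (d := -1) (by ring)
      refine neg_trace h f (by norm_num) (x := x) (by rwa [detOne_symp]) ?_ ?_ (fun y hy hy3 hys => ?_) hall
      · refine Units.ext ?_
        rw [Units.val_pow_eq_pow_val, hx, pow_succ, pow_two, plane_mul, plane_mul, Units.val_one, ← plane_one]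
        congr 1 <;> ring
      · rintro ⟨c, hc⟩
        have := congrArg (fun w : GL (Fin 2 ⊕ Fin 2) F => (w : Matrix (Fin 2 ⊕ Fin 2) (Fin 2 ⊕ Fin 2) F) (Sum.inr 0) (Sum.inl 0)) hc
        simp [hx, plane] at this
      · rw [hx, hxi, plane_trace, plane_trace]
        rcases nfix_cases f h hy (r := 3) (by norm_num) hy3 hys with ⟨-, e | e⟩ | ⟨e, -⟩
        · exact absurd e (nfix_ne_one f h (fun u hu => h.scalar_sq hRZ hu) hy hy3)
        · rw [e]; push_cast
          intro e'
          exact h3 (by linear_combination -e')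
        · norm_num at e
    · by_cases hp5 : p = 5
      · subst hp5
        exact symp_transvection h f hp2 hall
      have h5 : (5 : F) ≠ 0 := by exact_mod_cast (small_cast (p := p) Nat.prime_five hp5 : ((5 : ℕ) : F) ≠ 0)
      have hno : ¬ (p % 5 = 2 ∨ p % 5 = 3) := fun e => c5 rfl (hord.2 e)
      have hp50 : p % 5 ≠ 0 := fun e => hp5 ((Nat.prime_dvd_prime_iff_eq Nat.prime_five hp).1 (Nat.dvd_of_mod_eq_zero e)).symm
      obtain ⟨τ, hτ, -⟩ := exists_tau (F := F) (p := p) hp2 (by omega)
      obtain ⟨x, hxS, hx, hxi⟩ := exists_plane (a := (0 : F)) (b := -1) (c := 1) (d := τ) (by ring)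
      refine neg_trace h f (by norm_num) (x := x) (by rwa [detOne_symp]) ?_ ?_ (fun y hy hy5 hys => ?_) hall
      · refine Units.ext ?_
        rw [Units.val_pow_eq_pow_val, Units.val_one]
        refine five_pow hτ ?_
        rw [hx]
        ext (i | i) (j | j) <;> fin_cases i <;> fin_cases j <;>
          simp [plane, Matrix.mul_apply, Fintype.sum_sum_type, Fin.sum_univ_two, Matrix.one_apply] <;> ring
      · rintro ⟨c, hc⟩
        have := congrArg (fun w : GL (Fin 2 ⊕ Fin 2) F => (w : Matrix (Fin 2 ⊕ Fin 2) (Fin 2 ⊕ Fin 2) F) (Sum.inr 0) (Sum.inl 0)) hc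
        simp [hx, plane] at this
      · rw [hx, hxi, plane_trace, plane_trace]
        rcases nfix_cases f h hy (r := 5) (by norm_num) hy5 hys with ⟨e, -⟩ | ⟨-, e⟩
        · norm_num at e
        · rw [e, Nat.cast_one]
          intro e1
          exact tau_product h5 hτ (by linear_combination e1)
    · exact neg_big h f h7 (relIndex_det hΩ) hall
  · rintro (rfl | ⟨rfl, ho⟩)
    · refine pos_two h f hA fun x hx e h1 _ he4 => ?_
      exfalso
      have hJ := (mem_symp x).1 hx.1
      have hxx := (mem_symp (x * x)).1 (mul_mem hx.1 hx.1)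
      rw [Units.val_mul, ← pow_two, h1, Matrix.transpose_smul, Matrix.transpose_one, smul_mul_assoc, one_mul,
        smul_mul_assoc, mul_smul_comm, mul_one, smul_smul] at hxx
      have hne : Matrix.J (Fin 2) F ≠ 0 := fun e0 => by
        have := congrFun (congrFun e0 (Sum.inr 0)) (Sum.inl 0)
        simp [Matrix.J] at this
      have e1 : (e : F) ^ 2 * (e : F) ^ 2 = 1 :=
        smul_left_injective F hne (by simpa using hxx)
      have e2 : (e : F) ^ 4 = -1 := by
        rw [← Units.val_pow_eq_pow_val, he4, Units.val_neg, Units.val_one]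
      exact h2 (by linear_combination e2 - e1)
    · have h5 : (5 : F) ≠ 0 := by
        have hp5 : p ≠ 5 := by rintro rfl; have := hord.1 ho; omega
        exact_mod_cast (small_cast (p := p) Nat.prime_five hp5 : ((5 : ℕ) : F) ≠ 0)
      exact pos_five h f hA h5 (g₀ := p % 5) (hord.1 ho) fun y _ hy5 =>
        rts_symp (p := p) hF (r := 5) (fun t ht => pow_mod_five ht p) hy5

end Cfsg.Agent.S6002
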